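import Cfsg.Prelude.Def_Solvable
import Mathlib.GroupTheory.Sylow
import Mathlib.GroupTheory.IsSubnormal
import Mathlib.GroupTheory.QuotientGroup.Basic

set_option autoImplicit false

/-! Elementary facts on `pPrimeCore` and `pCore`. -/

namespace CfsgLib.Fus

open Subgroup

variable {G : Type*} [Group G]

theorem card_sup_dvd_of_normal [Finite G] (H N : Subgroup G) [N.Normal] :
    Nat.card ↥(H ⊔ N) ∣ Nat.card H * Nat.card N := by
  have h2 := Subgroup.card_mul_index (N.subgroupOf (H ⊔ N))
  rw [Nat.card_congr (Subgroup.subgroupOfEquivOfLe (le_sup_right : N ≤ H ⊔ N)).toEquiv] at h2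
  have h3 : (N.subgroupOf (H ⊔ N)).index ∣ Nat.card H := by
    change N.relIndex (H ⊔ N) ∣ _
    rw [Subgroup.relIndex_sup_right]
    exact Subgroup.relIndex_dvd_card _ _
  rw [← h2, mul_comm (Nat.card H)]
  exact Nat.mul_dvd_mul_left _ h3

theorem sSup_normal_induction [Finite G] {P : Subgroup G → Prop} (h0 : P ⊥)
    (S : Set (Subgroup G)) (hn : ∀ N ∈ S, N.Normal)
    (hstep : ∀ H : Subgroup G, P H → H.Normal → ∀ N ∈ S, P (H ⊔ N)) : P (sSup S) := by
  obtain ⟨s, rfl⟩ := (Set.toFinite S).exists_finset_coe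
  suffices ∀ t : Finset (Subgroup G), t ⊆ s → P (t.sup id) ∧ (t.sup id).Normal by
    rw [← Finset.sup_id_eq_sSup]
    exact (this s subset_rfl).1
  classical
  intro t
  induction t using Finset.induction with
  | empty => intro _; rw [Finset.sup_empty]; exact ⟨h0, Subgroup.normal_bot⟩
  | @insert a t ha ih =>
    intro hs
    obtain ⟨h1, h2⟩ := ih (fun x hx => hs (Finset.mem_insert_of_mem hx))
    have has : a ∈ (s : Set (Subgroup G)) := hs (Finset.mem_insert_self a t)
    haveI := h2
    haveI := hn a has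
    rw [Finset.sup_insert, id_eq, sup_comm]
    exact ⟨hstep _ h1 h2 a has, inferInstance⟩

theorem coprime_card_pPrimeCore [Finite G] (p : ℕ) :
    (Nat.card ↥(Cfsg.pPrimeCore p G)).Coprime p := by
  apply sSup_normal_induction (P := fun H => (Nat.card H).Coprime p)
  · simp
  · exact fun N hN => hN.1
  · intro H hH _ N hN
    haveI := hN.1
    exact Nat.Coprime.coprime_dvd_left (card_sup_dvd_of_normal H N) (Nat.Coprime.mul_left hH hN.2)

theorem le_pPrimeCore {p : ℕ} {N : Subgroup G} (hn : N.Normal) (hc : (Nat.card N).Coprime p) :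
    N ≤ Cfsg.pPrimeCore p G := le_sSup ⟨hn, hc⟩

theorem le_pCore {p : ℕ} {N : Subgroup G} (hn : N.Normal) (hc : IsPGroup p N) :
    N ≤ Cfsg.pCore p G := le_sSup ⟨hn, hc⟩

theorem normal_pPrimeCore (p : ℕ) : (Cfsg.pPrimeCore p G).Normal :=
  Subgroup.sSup_normal _ (fun _ h => h.1)

theorem normal_pCore (p : ℕ) : (Cfsg.pCore p G).Normal :=
  Subgroup.sSup_normal _ (fun _ h => h.1)

theorem isPGroup_pCore [Finite G] {p : ℕ} : IsPGroup p ↥(Cfsg.pCore p G) := by
  apply sSup_normal_induction (P := fun H : Subgroup G => IsPGroup p H)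
  · exact IsPGroup.of_bot
  · exact fun N hN => hN.1
  · intro H hH _ N hN
    haveI := hN.1
    exact hH.to_sup_of_normal_right hN.2

theorem map_pPrimeCore_mulEquiv {H : Type*} [Group H] (p : ℕ) (e : G ≃* H) :
    (Cfsg.pPrimeCore p G).map e.toMonoidHom ≤ Cfsg.pPrimeCore p H := by
  refine Subgroup.map_le_iff_le_comap.2 (sSup_le fun N hN => ?_)
  rw [← Subgroup.map_le_iff_le_comap]
  refine le_pPrimeCore (hN.1.map _ e.surjective) ?_
  rw [Nat.card_congr (N.equivMapOfInjective e.toMonoidHom e.injective).toEquiv.symm]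
  exact hN.2

theorem characteristic_pPrimeCore (p : ℕ) : (Cfsg.pPrimeCore p G).Characteristic := by
  rw [Subgroup.characteristic_iff_map_le]
  exact fun e => map_pPrimeCore_mulEquiv p e

theorem map_pCore_mulEquiv {H : Type*} [Group H] (p : ℕ) (e : G ≃* H) :
    (Cfsg.pCore p G).map e.toMonoidHom ≤ Cfsg.pCore p H := by
  refine Subgroup.map_le_iff_le_comap.2 (sSup_le fun N hN => ?_)
  rw [← Subgroup.map_le_iff_le_comap]
  exact le_pCore (hN.1.map _ e.surjective) (hN.2.map _)

theorem characteristic_pCore (p : ℕ) : (Cfsg.pCore p G).Characteristic := by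
  rw [Subgroup.characteristic_iff_map_le]
  exact fun e => map_pCore_mulEquiv p e

/-- The image in `G` of a characteristic subgroup of a subgroup `K` normal in `M` is normal in `M`. -/
theorem normal_map_characteristic {K M : Subgroup G} (hKM : K ≤ M) (hn : (K.subgroupOf M).Normal)
    (C : Subgroup K) [hC : C.Characteristic] : ((C.map K.subtype).subgroupOf M).Normal := by
  haveI := hn
  haveI : (C.comap (Subgroup.subgroupOfEquivOfLe hKM).toMonoidHom).Characteristic := by
    rw [Subgroup.characteristic_iff_map_le]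
    intro φ x hx
    obtain ⟨y, hy, rfl⟩ := hx
    have h := Subgroup.characteristic_iff_map_le.1 hC
      (((Subgroup.subgroupOfEquivOfLe hKM).symm.trans φ).trans (Subgroup.subgroupOfEquivOfLe hKM))
      ⟨_, hy, rfl⟩
    simpa using h
  have heq : (C.map K.subtype).subgroupOf M =
      (C.comap (Subgroup.subgroupOfEquivOfLe hKM).toMonoidHom).map (K.subgroupOf M).subtype := by
    ext x
    constructor
    · rintro ⟨c, hc, hcx⟩
      have hcx' : (c : G) = (x : G) := hcx
      have hxK : (x : G) ∈ K := hcx' ▸ c.2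
      refine ⟨⟨x, hxK⟩, ?_, rfl⟩
      show (⟨(x : G), hxK⟩ : K) ∈ C
      rwa [show (⟨(x : G), hxK⟩ : K) = c from Subtype.ext hcx'.symm]
    · rintro ⟨y, hy, rfl⟩
      exact ⟨_, hy, rfl⟩
  rw [heq]
  infer_instance

/-- A subnormal subgroup of `p'`-order lies in `O_{p'}(G)`. -/
theorem subnormal_le_pPrimeCore [Finite G] {p : ℕ} {H : Subgroup G} (hH : H.IsSubnormal)
    (hc : (Nat.card H).Coprime p) : H ≤ Cfsg.pPrimeCore p G := by
  induction hH with
  | top => exact le_pPrimeCore inferInstance hc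
  | step H K hle hK hN ih =>
    have key : (Cfsg.pPrimeCore p K).map K.subtype ≤ Cfsg.pPrimeCore p G := by
      clear ih hN hle hc
      induction hK with
      | top =>
        refine le_pPrimeCore ?_ ?_
        · exact Subgroup.Normal.map (normal_pPrimeCore p) _ (fun x => ⟨⟨x, trivial⟩, rfl⟩)
        · rw [Subgroup.card_map_of_injective Subtype.val_injective]
          exact coprime_card_pPrimeCore p
      | step A B hab _ hAB ih2 =>
        refine le_trans ?_ ih2
        haveI := characteristic_pPrimeCore (G := A) p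
        have hn := normal_map_characteristic hab hAB (Cfsg.pPrimeCore p A)
        have hle : (Cfsg.pPrimeCore p A).map A.subtype ≤ B := (Subgroup.map_subtype_le _).trans hab
        have h1 : ((Cfsg.pPrimeCore p A).map A.subtype).subgroupOf B ≤ Cfsg.pPrimeCore p B := by
          refine le_pPrimeCore hn ?_
          rw [Nat.card_congr (Subgroup.subgroupOfEquivOfLe hle).toEquiv,
            Subgroup.card_map_of_injective Subtype.val_injective]
          exact coprime_card_pPrimeCore p
        intro x hx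
        exact ⟨⟨x, hle hx⟩, h1 hx, rfl⟩
    refine le_trans ?_ key
    intro x hx
    refine ⟨⟨x, hle hx⟩, le_pPrimeCore hN ?_ (show (⟨x, hle hx⟩ : K) ∈ H.subgroupOf K from hx), rfl⟩
    rw [Nat.card_congr (Subgroup.subgroupOfEquivOfLe hle).toEquiv]
    exact hc

/-- `O_{p'}(G / O_{p'}(G)) = 1`. -/
theorem pPrimeCore_quotient_eq_bot [Finite G] (p : ℕ) [hn : (Cfsg.pPrimeCore p G).Normal] :
    Cfsg.pPrimeCore p (G ⧸ Cfsg.pPrimeCore p G) = ⊥ := by
  set N := Cfsg.pPrimeCore p G
  set M := (Cfsg.pPrimeCore p (G ⧸ N)).comap (QuotientGroup.mk' N)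
  haveI := normal_pPrimeCore (G := G ⧸ N) p
  have hM : M ≤ N := by
    refine le_pPrimeCore inferInstance ?_
    have hNM : N ≤ M := fun x hx => by
      show (QuotientGroup.mk' N) x ∈ Cfsg.pPrimeCore p (G ⧸ N)
      have : (QuotientGroup.mk' N) x = 1 := (QuotientGroup.eq_one_iff x).2 hx
      rw [this]; exact one_mem _
    have h2 := Subgroup.card_mul_index (N.subgroupOf M)
    rw [Nat.card_congr (Subgroup.subgroupOfEquivOfLe hNM).toEquiv] at h2
    have h3 : (N.subgroupOf M).index = Nat.card ↥(Cfsg.pPrimeCore p (G ⧸ N)) := by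
      change N.relIndex M = _
      have h4 : (⊥ : Subgroup (G ⧸ N)).comap (QuotientGroup.mk' N) = N := by
        rw [MonoidHom.comap_bot, QuotientGroup.ker_mk']
      have h5 := Subgroup.relIndex_comap (⊥ : Subgroup (G ⧸ N)) (QuotientGroup.mk' N) M
      rw [h4, Subgroup.map_comap_eq_self_of_surjective (QuotientGroup.mk'_surjective N)] at h5
      rw [h5, Subgroup.relIndex_bot_left]
    rw [← h2, h3]
    exact Nat.Coprime.mul_left (coprime_card_pPrimeCore p) (coprime_card_pPrimeCore p)
  rw [eq_bot_iff]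
  intro q hq
  obtain ⟨g, rfl⟩ := QuotientGroup.mk'_surjective N q
  exact (QuotientGroup.eq_one_iff g).2 (hM hq)

end CfsgLib.Fus
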