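import Mathlib.RingTheory.LittleWedderburn
import Mathlib.RingTheory.Idempotents
import Mathlib.GroupTheory.Sylow
import Mathlib.LinearAlgebra.Dual.Lemmas
import Mathlib.Algebra.Algebra.Subalgebra.Basic
import Mathlib.RepresentationTheory.Basic
import Mathlib.FieldTheory.Finite.Basic
import Mathlib.RingTheory.Nilpotent.Defs
import Mathlib.Data.ZMod.Basic

/-!
Isotropic subspaces with a non-quadratic action: if an alternating equivariant pairing on an irreducible module is invariant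
under a normal subgroup of `p`-power index, and some element of a `p`-subgroup moves a value, then some isotropic subspace
stable under the `p`-subgroup carries a non-quadratic action.
-/

set_option autoImplicit false
set_option linter.style.haveILetI false

namespace CfsgLib.Iso

/-- A finite ring without nilpotent elements is commutative. -/
theorem comm_of_reduced {R : Type*} [Ring R] [Finite R] (hred : ∀ x : R, x * x = 0 → x = 0) (x y : R) :
    x * y = y * x := by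
  classical
  have hpow0 : ∀ (n : ℕ) (z : R), z ^ n = 0 → z = 0 := by
    intro n
    induction n using Nat.strong_induction_on with
    | _ n ih =>
      intro z hz
      rcases Nat.lt_or_ge n 2 with hn | hn
      · interval_cases n
        · rw [pow_zero] at hz
          rw [← one_mul z, hz, zero_mul]
        · rwa [pow_one] at hz
      · refine hred z (ih ((n + 1) / 2) (by omega) (z * z) ?_)
        rw [← pow_two, ← pow_mul, ← Nat.add_sub_cancel' (show n ≤ 2 * ((n + 1) / 2) by omega), pow_add, hz,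
          zero_mul]
  have hidem : ∀ z : R, ∃ m, 1 ≤ m ∧ IsIdempotentElem (z ^ m) := by
    intro z
    obtain ⟨a, b, hab, he⟩ := Finite.exists_ne_map_eq_of_infinite (fun n : ℕ => z ^ n)
    wlog hlt : a < b generalizing a b
    · exact this b a hab.symm he.symm (by omega)
    have hper : ∀ k n, a ≤ n → z ^ (n + k * (b - a)) = z ^ n := by
      intro k
      induction k with
      | zero => intro n _; simp
      | succ k ih =>
        intro n hn
        rw [show n + (k + 1) * (b - a) = (n + (b - a)) + k * (b - a) by ring, ih _ (by omega),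
          show n + (b - a) = b + (n - a) by omega, pow_add, ← he, ← pow_add, Nat.add_sub_cancel' hn]
    refine ⟨(a + 1) * (b - a), Nat.one_le_iff_ne_zero.2 (Nat.mul_ne_zero (by omega) (by omega)), ?_⟩
    show z ^ _ * z ^ _ = z ^ _
    rw [← pow_add]
    exact hper (a + 1) _ (le_trans (Nat.le_succ a) (Nat.le_mul_of_pos_right _ (by omega)))
  have hcentral : ∀ e z : R, IsIdempotentElem e → e * z = z * e := by
    intro e z he
    have h1 : e * z - e * z * e = 0 := hred _ (by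
      have : (e * z - e * z * e) * e = 0 := by rw [sub_mul, mul_assoc (e * z) e e, he.eq, sub_self]
      calc (e * z - e * z * e) * (e * z - e * z * e) = (e * z - e * z * e) * e * (z - z * e) := by
            rw [mul_assoc _ e, mul_sub e, ← mul_assoc e z e]
        _ = 0 := by rw [this, zero_mul])
    have h2 : z * e - e * z * e = 0 := hred _ (by
      have : e * (z * e - e * z * e) = 0 := by rw [mul_sub, ← mul_assoc, ← mul_assoc, ← mul_assoc, he.eq, sub_self]
      calc (z * e - e * z * e) * (z * e - e * z * e) = (z - e * z) * (e * (z * e - e * z * e)) := by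
            rw [← mul_assoc _ e, sub_mul z (e * z) e]
        _ = 0 := by rw [this, mul_zero])
    rw [sub_eq_zero.1 h1, sub_eq_zero.1 h2]
  by_contra hne
  set c := x * y - y * x with hc
  have hc0 : c ≠ 0 := sub_ne_zero.2 hne
  obtain ⟨m, hm1, hm⟩ := hidem c
  have he0 : c ^ m ≠ 0 := fun h => hc0 (hpow0 m c h)
  let Fs : Set R := {f | IsIdempotentElem f ∧ f ≠ 0 ∧ f * c ^ m = f}
  obtain ⟨f, ⟨hf, hf0, hfe⟩, hmin⟩ := Set.exists_min_image Fs (fun f => Nat.card {z : R // f * z = z})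
    (Set.toFinite _) ⟨c ^ m, hm, he0, hm.eq⟩
  have hmin' : ∀ g, IsIdempotentElem g → g ≠ 0 → f * g = g → g = f := by
    intro g hg hg0 hfg
    have hgf : g * f = g := by rw [← hcentral f g hf, hfg]
    have hgF : g ∈ Fs := ⟨hg, hg0, by rw [← hgf, mul_assoc, hfe]⟩
    have h := hmin g hgF
    let ι : {z : R // g * z = z} → {z : R // f * z = z} := fun z =>
      ⟨z.1, by rw [← z.2, ← mul_assoc, hfg]⟩
    have hinj : Function.Injective ι := fun a b h => Subtype.ext (congrArg (fun w => w.1) h :)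
    obtain ⟨⟨w, hw⟩, hw'⟩ := ((Nat.bijective_iff_injective_and_card ι).2
      ⟨hinj, le_antisymm (Nat.card_le_card_of_injective ι hinj) h⟩).2 ⟨f, hf.eq⟩
    have hwf : w = f := congrArg Subtype.val hw'
    rw [hwf] at hw
    rw [← hgf, hw]
  have hfc : f * c ≠ 0 := by
    intro h0
    refine hf0 ?_
    rw [← hfe, show m = (m - 1) + 1 by omega, pow_succ', ← mul_assoc, h0, zero_mul]
  let D := hf.Corner
  have hmem : ∀ d : D, f * d.1 = d.1 := fun d => ((Subsemigroup.mem_corner_iff hf).1 d.2).1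
  have hcor : ∀ z : R, f * z ∈ Subsemigroup.corner f := fun z =>
    ⟨z, by
      show f * z * f = f * z
      rw [mul_assoc, ← hcentral f z hf, ← mul_assoc, hf.eq]⟩
  haveI : Finite D := Subtype.finite
  haveI : Nontrivial D := ⟨⟨1, 0, fun h => hf0 (congrArg Subtype.val h)⟩⟩
  haveI : NoZeroDivisors D := ⟨fun {a b} hab => by
    by_contra hcon
    push_neg at hcon
    obtain ⟨k, hk1, hk⟩ := hidem a.1
    have hk0 : a.1 ^ k ≠ 0 := fun h => hcon.1 (Subtype.ext (hpow0 k _ h))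
    have hkf : a.1 ^ k = f := hmin' _ hk hk0 (by
      rw [show k = (k - 1) + 1 by omega, pow_succ', ← mul_assoc, hmem a])
    refine hcon.2 (Subtype.ext ?_)
    have hab' : a.1 * b.1 = 0 := congrArg Subtype.val hab
    have key : ∀ av bv : R, av ^ k = f → av * bv = 0 → f * bv = 0 := fun av bv h1 h2 => by
      rw [← h1, show k = (k - 1) + 1 by omega, pow_succ, mul_assoc, h2, mul_zero]
    exact (hmem b).symm.trans (key _ _ hkf hab')⟩
  haveI : IsDomain D := NoZeroDivisors.to_isDomain D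
  letI : Fintype D := Fintype.ofFinite D
  letI : DivisionRing D := Fintype.divisionRingOfIsDomain D
  have hcomm : ∀ a b : D, a * b = b * a := fun a b =>
    @mul_comm D (littleWedderburn D).toCommRing.toCommMonoid.toCommMagma a b
  have h1 : f * x * (f * y) = f * y * (f * x) := congrArg Subtype.val (hcomm ⟨_, hcor x⟩ ⟨_, hcor y⟩)
  have h2 : ∀ u v : R, f * u * (f * v) = f * (u * v) := fun u v => by
    rw [hcentral f u hf, mul_assoc u, ← mul_assoc f f v, hf.eq, ← mul_assoc, ← hcentral f u hf, mul_assoc]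
  rw [h2, h2] at h1
  exact hfc (by rw [hc, mul_sub, h1, sub_self])

section

variable {p : ℕ} [hp : Fact p.Prime] {K : Type*} [Group K]

/-- A `p`-group action with a fixed point on a set of size divisible by `p` has another. -/
theorem fixed_of_pgroup {α : Type*} [Finite α] (a : K →* Equiv.Perm α) (hpk : ∀ k, ∃ n, a (k ^ p ^ n) = 1)
    (hd : p ∣ Nat.card α) {x0 : α} (h0 : ∀ k, a k x0 = x0) : ∃ x, x ≠ x0 ∧ ∀ k, a k x = x := by
  have hP : IsPGroup p ↥a.range := by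
    rintro ⟨_, k, rfl⟩
    obtain ⟨n, hn⟩ := hpk k
    exact ⟨n, Subtype.ext (by rw [SubmonoidClass.coe_pow, ← map_pow, hn]; rfl)⟩
  obtain ⟨x, hx, hne⟩ := hP.exists_fixed_point_of_prime_dvd_card_of_fixed_point α hd (a := x0)
    (by rintro ⟨_, k, rfl⟩; exact h0 k)
  exact ⟨x, hne.symm, fun k => hx ⟨a k, k, rfl⟩⟩

theorem fixed_of_not_dvd {α : Type*} [Finite α] (a : K →* Equiv.Perm α) (hpk : ∀ k, ∃ n, a (k ^ p ^ n) = 1)
    (hd : ¬ p ∣ Nat.card α) : ∃ x, ∀ k, a k x = x := by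
  have hP : IsPGroup p ↥a.range := by
    rintro ⟨_, k, rfl⟩
    obtain ⟨n, hn⟩ := hpk k
    exact ⟨n, Subtype.ext (by rw [SubmonoidClass.coe_pow, ← map_pow, hn]; rfl)⟩
  obtain ⟨x, hx⟩ := hP.nonempty_fixed_point_of_prime_not_dvd_card α hd
  exact ⟨x, fun k => hx ⟨a k, k, rfl⟩⟩

variable {W D : Type*} [AddCommGroup W] [Module (ZMod p) W] [Finite W]
  [AddCommGroup D] [Module (ZMod p) D] [Finite D]

theorem dvd_card (V : Type*) [AddCommGroup V] [Module (ZMod p) V] [Finite V] [Nontrivial V] :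
    p ∣ Nat.card V := by
  rw [Module.natCard_eq_pow_finrank (K := ZMod p) (V := V), Nat.card_zmod]
  exact dvd_pow_self p (Module.finrank_pos (R := ZMod p) (M := V)).ne'

/-- A representation as permutations. -/
def permOf (ρ : Representation (ZMod p) K W) : K →* Equiv.Perm W where
  toFun k := ⟨ρ k, ρ k⁻¹, ρ.inv_self_apply k, ρ.self_inv_apply k⟩
  map_one' := Equiv.ext fun x => by show ρ 1 x = x; rw [map_one]; rfl
  map_mul' a b := Equiv.ext fun x => by show ρ (a * b) x = ρ a (ρ b x); rw [map_mul]; rfl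

/-- A unit commuting with an irreducible representation and of `p`-power order is trivial. -/
theorem unit_eq_one (ρ : Representation (ZMod p) K W)
    (hirr : ∀ X : Submodule (ZMod p) W, (∀ k, ∀ x ∈ X, ρ k x ∈ X) → X = ⊥ ∨ X = ⊤)
    (u : (W →ₗ[ZMod p] W)ˣ) (hu : ∀ k x, (u : W →ₗ[ZMod p] W) (ρ k x) = ρ k ((u : W →ₗ[ZMod p] W) x))
    {n : ℕ} (hn : u ^ p ^ n = 1) : u = 1 := by
  rcases subsingleton_or_nontrivial W with hW | hW
  · exact Units.ext (LinearMap.ext fun x => Subsingleton.elim _ _)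
  let a : Multiplicative ℤ →* Equiv.Perm W :=
    { toFun := fun k => ⟨((u ^ k.toAdd : (W →ₗ[ZMod p] W)ˣ) : W →ₗ[ZMod p] W),
        ((u ^ (-k.toAdd) : (W →ₗ[ZMod p] W)ˣ) : W →ₗ[ZMod p] W), fun x => by
          rw [← Module.End.mul_apply, ← Units.val_mul, ← zpow_add, neg_add_cancel, zpow_zero]; rfl, fun x => by
          rw [← Module.End.mul_apply, ← Units.val_mul, ← zpow_add, add_neg_cancel, zpow_zero]; rfl⟩
      map_one' := Equiv.ext fun x => by
        show ((u ^ (0 : ℤ) : (W →ₗ[ZMod p] W)ˣ) : W →ₗ[ZMod p] W) x = x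
        rw [zpow_zero]; rfl
      map_mul' := fun k l => Equiv.ext fun x => by
        show ((u ^ (k.toAdd + l.toAdd) : (W →ₗ[ZMod p] W)ˣ) : W →ₗ[ZMod p] W) x = _
        rw [zpow_add, Units.val_mul]; rfl }
  obtain ⟨x, hx0, hx⟩ := fixed_of_pgroup (p := p) a (fun k => ⟨n, Equiv.ext fun x => by
    show ((u ^ (p ^ n • k.toAdd) : (W →ₗ[ZMod p] W)ˣ) : W →ₗ[ZMod p] W) x = x
    rw [nsmul_eq_mul, zpow_mul, zpow_natCast, hn, one_zpow]; rfl⟩) (dvd_card W) (x0 := 0) fun k =>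
    map_zero ((u ^ k.toAdd : (W →ₗ[ZMod p] W)ˣ) : W →ₗ[ZMod p] W)
  have hfix : (u : W →ₗ[ZMod p] W) x = x := by
    have := hx (Multiplicative.ofAdd 1)
    change ((u ^ (1 : ℤ) : (W →ₗ[ZMod p] W)ˣ) : W →ₗ[ZMod p] W) x = x at this
    rwa [zpow_one] at this
  rcases hirr (LinearMap.ker ((u : W →ₗ[ZMod p] W) - 1)) (fun k y hy => by
    rw [LinearMap.mem_ker, LinearMap.sub_apply, sub_eq_zero] at hy ⊢
    rw [hu k y, hy]; rfl) with h | h
  · exact absurd ((Submodule.mem_bot _).1 (h ▸ (show x ∈ LinearMap.ker _ by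
      rw [LinearMap.mem_ker, LinearMap.sub_apply, hfix]; exact sub_self x))) hx0
  · exact Units.ext (sub_eq_zero.1 (LinearMap.ker_eq_top.1 h))

variable [Finite K]

set_option maxHeartbeats 3000000 in
theorem isotropic_nonquadratic (hp2 : p ≠ 2) (ρ : Representation (ZMod p) K W) (σ : Representation (ZMod p) K D)
    (f : W →ₗ[ZMod p] W →ₗ[ZMod p] D) (halt : ∀ x, f x x = 0)
    (heq : ∀ k x y, f (ρ k x) (ρ k y) = σ k (f x y))
    (L : Subgroup K) [L.Normal] (hL : ∀ l ∈ L, ∀ d, σ l d = d) (hKL : ∀ k : K, ∃ n, k ^ p ^ n ∈ L)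
    (hirr : ∀ X : Submodule (ZMod p) W, (∀ k, ∀ x ∈ X, ρ k x ∈ X) → X = ⊥ ∨ X = ⊤)
    (B : Subgroup K) (hB : IsPGroup p B) (hmove : ∃ b ∈ B, ∃ x y, σ b (f x y) ≠ f x y) :
    ∃ X : Submodule (ZMod p) W, (∀ b ∈ B, ∀ x ∈ X, ρ b x ∈ X) ∧ (∀ x ∈ X, ∀ y ∈ X, f x y = 0) ∧
      ∃ b ∈ B, ∃ x ∈ X, ρ b (ρ b x - x) - (ρ b x - x) ≠ 0 := by
  classical
  obtain ⟨b0, hb0, x0, y0, hxy⟩ := hmove
  haveI : Nontrivial W := by
    refine not_subsingleton_iff_nontrivial.1 fun h => hxy ?_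
    rw [Subsingleton.elim x0 0, map_zero, LinearMap.zero_apply, map_zero]
  -- an invariant functional
  let Φ : Module.Dual (ZMod p) D →ₗ[ZMod p] W →ₗ[ZMod p] W →ₗ[ZMod p] ZMod p :=
    { toFun := fun ψ => LinearMap.compr₂ f ψ
      map_add' := fun a b => rfl
      map_smul' := fun c a => rfl }
  have hΦ : ∀ ψ x y, Φ ψ x y = ψ (f x y) := fun ψ x y => rfl
  have hinvL : ∀ φ ∈ LinearMap.range Φ, ∀ l ∈ L, ∀ x y, φ (ρ l x) (ρ l y) = φ x y := by
    rintro _ ⟨ψ, rfl⟩ l hl x y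
    rw [hΦ, hΦ, heq, hL l hl]
  let act : K →* Equiv.Perm ↥(LinearMap.range Φ) :=
    { toFun := fun k =>
        { toFun := fun φ => ⟨φ.1.compl₁₂ (ρ k⁻¹) (ρ k⁻¹), by
            obtain ⟨ψ, hψ⟩ := φ.2
            refine ⟨ψ ∘ₗ σ k⁻¹, LinearMap.ext₂ fun x y => ?_⟩
            show ψ (σ k⁻¹ (f x y)) = φ.1 (ρ k⁻¹ x) (ρ k⁻¹ y)
            rw [← hψ, hΦ, heq]⟩
          invFun := fun φ => ⟨φ.1.compl₁₂ (ρ k) (ρ k), by
            obtain ⟨ψ, hψ⟩ := φ.2
            refine ⟨ψ ∘ₗ σ k, LinearMap.ext₂ fun x y => ?_⟩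
            show ψ (σ k (f x y)) = φ.1 (ρ k x) (ρ k y)
            rw [← hψ, hΦ, heq]⟩
          left_inv := fun φ => Subtype.ext (LinearMap.ext₂ fun x y => by simp)
          right_inv := fun φ => Subtype.ext (LinearMap.ext₂ fun x y => by simp) }
      map_one' := Equiv.ext fun φ => Subtype.ext (LinearMap.ext₂ fun x y => by simp)
      map_mul' := fun a b => Equiv.ext fun φ => Subtype.ext (LinearMap.ext₂ fun x y => by
        simp [mul_inv_rev, map_mul, Module.End.mul_apply]) }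
  haveI : Finite (W →ₗ[ZMod p] ZMod p) := Finite.of_injective _ DFunLike.coe_injective
  haveI : Finite (W →ₗ[ZMod p] W →ₗ[ZMod p] ZMod p) := Finite.of_injective _ DFunLike.coe_injective
  haveI : Nontrivial ↥(LinearMap.range Φ) := by
    obtain ⟨ψ, hψ⟩ : ∃ ψ : Module.Dual (ZMod p) D, ψ (σ b0 (f x0 y0) - f x0 y0) ≠ 0 := by
      by_contra h
      push_neg at h
      exact hxy (sub_eq_zero.1 ((Module.forall_dual_apply_eq_zero_iff (ZMod p) _).1 h))
    refine ⟨⟨⟨Φ ψ, ψ, rfl⟩, 0, fun h => hψ ?_⟩⟩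
    have h1 : ∀ x y, ψ (f x y) = 0 := fun x y => by
      rw [← hΦ, show Φ ψ = 0 from congrArg Subtype.val h]; rfl
    rw [map_sub, ← heq, h1, h1, sub_zero]
  letI : AddCommGroup ↥(LinearMap.range Φ) := @Submodule.addCommGroup (ZMod p) (W →ₗ[ZMod p] W →ₗ[ZMod p] ZMod p) _ _ _ (LinearMap.range Φ)
  obtain ⟨ω₀, hω0, hωfix⟩ := fixed_of_pgroup (p := p) act (fun k => by
    obtain ⟨n, hn⟩ := hKL k
    refine ⟨n, Equiv.ext fun φ => Subtype.ext (LinearMap.ext₂ fun x y => ?_)⟩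
    exact hinvL φ.1 φ.2 _ (L.inv_mem hn) x y) (dvd_card _) (x0 := 0) (fun k => Subtype.ext (LinearMap.ext₂ fun x y => rfl))
  set ω := ω₀.1 with hω
  have hinv : ∀ k x y, ω (ρ k x) (ρ k y) = ω x y := by
    intro k x y
    have h := congrArg (fun φ : ↥(LinearMap.range Φ) => φ.1 x y) (hωfix k⁻¹)
    change ω (ρ k⁻¹⁻¹ x) (ρ k⁻¹⁻¹ y) = ω x y at h
    rwa [inv_inv] at h
  have hskewΦ : ∀ φ ∈ LinearMap.range Φ, ∀ x y, φ x y = - φ y x := by
    rintro _ ⟨ψ, rfl⟩ x y
    have h := halt (x + y)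
    simp only [map_add, LinearMap.add_apply, halt, zero_add, add_zero] at h
    rw [hΦ, hΦ, ← map_neg, eq_neg_of_add_eq_zero_right h]
  have hskew := hskewΦ ω ω₀.2
  have hinj : Function.Injective ω := by
    rw [← LinearMap.ker_eq_bot]
    refine (hirr _ fun k x hx => ?_).resolve_right fun h => hω0 (Subtype.ext (LinearMap.ker_eq_top.1 h))
    rw [LinearMap.mem_ker] at hx ⊢
    refine LinearMap.ext fun y => ?_
    obtain ⟨y, rfl⟩ : ∃ z, ρ k z = y := ⟨ρ k⁻¹ y, ρ.self_inv_apply k y⟩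
    rw [hinv, hx]; rfl
  let e : W ≃ₗ[ZMod p] Module.Dual (ZMod p) W :=
    LinearMap.linearEquivOfInjective ω hinj Subspace.dual_finrank_eq.symm
  have he : ∀ x y, e x y = ω x y := fun x y => rfl
  -- the centralizer algebra
  haveI : Finite (W →ₗ[ZMod p] W) := Finite.of_injective _ DFunLike.coe_injective
  let E : Subalgebra (ZMod p) (W →ₗ[ZMod p] W) := Subalgebra.centralizer (ZMod p) (ρ '' (L : Set K))
  have hE : ∀ R : W →ₗ[ZMod p] W, R ∈ E ↔ ∀ l ∈ L, ∀ x, R (ρ l x) = ρ l (R x) := by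
    intro R
    show R ∈ Subalgebra.centralizer _ _ ↔ _
    rw [Subalgebra.mem_centralizer_iff]
    constructor
    · intro h l hl x
      exact (LinearMap.congr_fun (h _ ⟨l, hl, rfl⟩) x).symm
    · rintro h _ ⟨l, hl, rfl⟩
      exact LinearMap.ext fun x => (h l hl x).symm
  let c : K → (W →ₗ[ZMod p] W) → (W →ₗ[ZMod p] W) := fun k R => ρ k * R * ρ k⁻¹
  have hcE : ∀ k R, R ∈ E → c k R ∈ E := by
    intro k R hR
    rw [hE] at hR ⊢
    intro l hl x
    show ρ k (R (ρ k⁻¹ (ρ l x))) = ρ l (ρ k (R (ρ k⁻¹ x)))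
    have h1 : k⁻¹ * l * k ∈ L := by simpa using (inferInstance : L.Normal).conj_mem l hl k⁻¹
    have h2 : ρ k⁻¹ (ρ l x) = ρ (k⁻¹ * l * k) (ρ k⁻¹ x) := by
      simp [map_mul, Module.End.mul_apply]
    rw [h2, hR _ h1]
    simp [map_mul, Module.End.mul_apply]
  have hcmul : ∀ k R S, c k (R * S) = c k R * c k S := fun k R S => by
    show ρ k * (R * S) * ρ k⁻¹ = ρ k * R * ρ k⁻¹ * (ρ k * S * ρ k⁻¹)
    have : ρ k⁻¹ * ρ k = 1 := by rw [← map_mul, inv_mul_cancel, map_one]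
    rw [mul_assoc (ρ k * R), ← mul_assoc (ρ k⁻¹), ← mul_assoc (ρ k⁻¹), this, one_mul]
    simp only [mul_assoc]
  -- no nilpotent elements
  let U : Subgroup (W →ₗ[ZMod p] W)ˣ := Subgroup.centralizer (ρ.toHomUnits '' (L : Set K))
  have hU : ∀ u : (W →ₗ[ZMod p] W)ˣ, u ∈ U ↔ (u : W →ₗ[ZMod p] W) ∈ E := by
    intro u
    rw [hE]
    constructor
    · intro h l hl x
      exact (LinearMap.congr_fun (congrArg Units.val (h _ ⟨l, hl, rfl⟩)) x).symm
    · rintro h _ ⟨l, hl, rfl⟩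
      exact Units.ext (LinearMap.ext fun x => (h l hl x).symm)
  have hnormU : ∀ k, ρ.toHomUnits k ∈ Subgroup.normalizer (U : Set (W →ₗ[ZMod p] W)ˣ) := by
    intro k
    have key : ∀ (k : K) (u : (W →ₗ[ZMod p] W)ˣ), u ∈ U → ρ.toHomUnits k * u * (ρ.toHomUnits k)⁻¹ ∈ U := by
      intro k u hu
      rw [← map_inv, hU]
      exact hcE k _ ((hU u).1 hu)
    refine Subgroup.mem_normalizer_iff.2 fun u => ⟨key k u, fun h => ?_⟩
    have := key k⁻¹ _ h
    simpa [mul_assoc] using this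
  have hUp : ¬ p ∣ Nat.card ↥U := by
    intro hd
    let N := Subgroup.normalizer (U : Set (W →ₗ[ZMod p] W)ˣ)
    let χ : K →* MulAut ↥(U.subgroupOf N) :=
      MulAut.conjNormal.comp (ρ.toHomUnits.codRestrict N hnormU)
    have hχL : ∀ l ∈ L, χ l = 1 := fun l hl => MulEquiv.ext fun u => Subtype.ext (Subtype.ext (by
      show ρ.toHomUnits l * ((u : ↥N) : (W →ₗ[ZMod p] W)ˣ) * (ρ.toHomUnits l)⁻¹ = _
      have h := u.2 _ ⟨l, hl, rfl⟩
      change ρ.toHomUnits l * ((u : ↥N) : (W →ₗ[ZMod p] W)ˣ) = ((u : ↥N) : (W →ₗ[ZMod p] W)ˣ) * ρ.toHomUnits l at h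
      rw [h, mul_inv_cancel_right]
      rfl))
    haveI := Fintype.ofFinite (Sylow p ↥(U.subgroupOf N))
    obtain ⟨P, hP⟩ := fixed_of_not_dvd (p := p) ((MulAction.toPermHom _ (Sylow p ↥(U.subgroupOf N))).comp χ)
      (fun k => by
        obtain ⟨n, hn⟩ := hKL k
        exact ⟨n, by rw [MonoidHom.comp_apply, hχL _ hn, map_one]⟩)
      (fun hd' => by
        have h1 := card_sylow_modEq_one p ↥(U.subgroupOf N)
        have := h1.symm.trans (Nat.modEq_zero_iff_dvd.2 hd')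
        exact hp.out.one_lt.ne' (Nat.dvd_one.1 ((Nat.modEq_zero_iff_dvd).1 this)))
    have hPk : ∀ k, ∀ u ∈ (P : Subgroup ↥(U.subgroupOf N)), χ k u ∈ (P : Subgroup ↥(U.subgroupOf N)) := by
      intro k u hu
      have h1 : χ k • P = P := hP k
      have h2 : χ k • u ∈ ((χ k • P : Sylow p ↥(U.subgroupOf N)) : Subgroup ↥(U.subgroupOf N)) :=
        Subgroup.smul_mem_pointwise_smul u (χ k) _ hu
      rw [h1] at h2
      exact h2
    let act2 : K →* Equiv.Perm ↥(P : Subgroup ↥(U.subgroupOf N)) :=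
      { toFun := fun k =>
          ⟨fun u => ⟨χ k u.1, hPk k _ u.2⟩, fun u => ⟨χ k⁻¹ u.1, hPk k⁻¹ _ u.2⟩,
            fun u => Subtype.ext (by show χ k⁻¹ (χ k u.1) = u.1; rw [← MulAut.mul_apply, ← map_mul]; simp),
            fun u => Subtype.ext (by show χ k (χ k⁻¹ u.1) = u.1; rw [← MulAut.mul_apply, ← map_mul]; simp)⟩
        map_one' := Equiv.ext fun u => Subtype.ext (by show χ 1 u.1 = u.1; rw [map_one]; rfl)
        map_mul' := fun a b => Equiv.ext fun u => Subtype.ext (by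
          show χ (a * b) u.1 = χ a (χ b u.1); rw [map_mul]; rfl) }
    have hdP : p ∣ Nat.card ↥(P : Subgroup ↥(U.subgroupOf N)) := by
      refine P.dvd_card_of_dvd_card ?_
      rwa [Nat.card_congr (Subgroup.subgroupOfEquivOfLe Subgroup.le_normalizer).toEquiv]
    obtain ⟨v, hv1, hv⟩ := fixed_of_pgroup (p := p) act2 (fun k => by
      obtain ⟨n, hn⟩ := hKL k
      exact ⟨n, Equiv.ext fun u => Subtype.ext (by show χ _ u.1 = u.1; rw [hχL _ hn]; rfl)⟩) hdP (x0 := 1)
      (fun k => Subtype.ext (map_one (χ k)))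
    set u : (W →ₗ[ZMod p] W)ˣ := (((v.1 : ↥(U.subgroupOf N)) : ↥N) : (W →ₗ[ZMod p] W)ˣ) with hu
    obtain ⟨n, hn⟩ := P.isPGroup' v
    refine hv1 (Subtype.ext (Subtype.ext (Subtype.ext (unit_eq_one ρ hirr u (fun k x => ?_) (n := n) ?_))))
    · have h1 : ρ.toHomUnits k * u * (ρ.toHomUnits k)⁻¹ = u :=
        congrArg (fun w : ↥(U.subgroupOf N) => ((w : ↥N) : (W →ₗ[ZMod p] W)ˣ)) (congrArg Subtype.val (hv k))
      have h2 : ρ.toHomUnits k * u = u * ρ.toHomUnits k := mul_inv_eq_iff_eq_mul.1 h1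
      exact (LinearMap.congr_fun (congrArg Units.val h2) x).symm
    · exact congrArg (fun w : ↥(P : Subgroup ↥(U.subgroupOf N)) => (((w.1 : ↥(U.subgroupOf N)) : ↥N) :
        (W →ₗ[ZMod p] W)ˣ)) hn
  have hred : ∀ R : ↥E, R * R = 0 → R = 0 := by
    rintro ⟨R, hR⟩ hRR
    have h2 : R * R = 0 := congrArg Subtype.val hRR
    by_contra hne
    refine hUp ?_
    let u : (W →ₗ[ZMod p] W)ˣ := ⟨1 + R, 1 - R,
      by rw [mul_sub, mul_one, add_mul, one_mul, h2]; abel,
      by rw [mul_add, mul_one, sub_mul, one_mul, h2]; abel⟩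
    have hpow : ∀ j : ℕ, ((u ^ j : (W →ₗ[ZMod p] W)ˣ) : W →ₗ[ZMod p] W) = 1 + j • R := by
      intro j
      induction j with
      | zero => simp
      | succ j ih =>
        rw [pow_succ, Units.val_mul, ih]
        show (1 + j • R) * (1 + R) = 1 + (j + 1) • R
        rw [mul_add, mul_one, add_mul, one_mul, smul_mul_assoc, h2, smul_zero, succ_nsmul]
        abel
    have hup : u ^ p = 1 := Units.ext (by
      rw [hpow, Units.val_one, ← Nat.cast_smul_eq_nsmul (ZMod p), ZMod.natCast_self, zero_smul, add_zero])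
    have hu1 : u ≠ 1 := fun h => hne (Subtype.ext (by
      have : (1 : W →ₗ[ZMod p] W) + R = 1 := congrArg Units.val h
      simpa using this))
    have huU : u ∈ U := (hU u).2 (E.add_mem E.one_mem hR)
    have ho : orderOf (⟨u, huU⟩ : ↥U) = p := by
      rw [Subgroup.orderOf_mk]; exact orderOf_eq_prime hup hu1
    have h3 := orderOf_dvd_natCard (⟨u, huU⟩ : ↥U)
    rwa [ho] at h3
  haveI : Finite ↥E := Subtype.finite
  have hcomm : ∀ R S : W →ₗ[ZMod p] W, R ∈ E → S ∈ E → R * S = S * R := fun R S hR hS =>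
    congrArg Subtype.val (comm_of_reduced hred ⟨R, hR⟩ ⟨S, hS⟩)
  -- self-adjoint elements
  let SA : (W →ₗ[ZMod p] W) → Prop := fun R => R ∈ E ∧ ∀ x y, ω (R x) y = ω x (R y)
  have hSAc : ∀ k R, SA R → SA (c k R) := fun k R hR => ⟨hcE k R hR.1, fun x y => by
    show ω (ρ k (R (ρ k⁻¹ x))) y = ω x (ρ k (R (ρ k⁻¹ y)))
    have hx : ρ k (ρ k⁻¹ x) = x := ρ.self_inv_apply k x
    have hy : ρ k (ρ k⁻¹ y) = y := ρ.self_inv_apply k y
    conv_lhs => rw [← hy]
    conv_rhs => rw [← hx]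
    rw [hinv, hinv, hR.2]⟩
  have hSAmul : ∀ R S, SA R → SA S → SA (R * S) := fun R S hR hS => ⟨E.mul_mem hR.1 hS.1, fun x y => by
    conv_rhs => rw [hcomm R S hR.1 hS.1]
    rw [Module.End.mul_apply, Module.End.mul_apply, hR.2, hS.2]⟩
  have hrep : ∀ φ ∈ LinearMap.range Φ, ∃ R, SA R ∧ ∀ x y, ω (R x) y = φ x y := by
    intro φ hφ
    refine ⟨e.symm.toLinearMap ∘ₗ φ, ?_⟩
    have h1 : ∀ x y, ω ((e.symm.toLinearMap ∘ₗ φ) x) y = φ x y := fun x y => by
      rw [← he]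
      show e (e.symm (φ x)) y = _
      rw [e.apply_symm_apply]
    refine ⟨⟨(hE _).2 fun l hl x => hinj (LinearMap.ext fun y => ?_), fun x y => ?_⟩, h1⟩
    · obtain ⟨y, rfl⟩ : ∃ z, ρ l z = y := ⟨ρ l⁻¹ y, ρ.self_inv_apply l y⟩
      rw [h1, hinvL φ hφ l hl, hinv, h1]
    · rw [h1, hskew, h1, ← hskewΦ φ hφ]
  -- some element moves a self-adjoint element
  have hδ : ∃ b ∈ B, ∃ R, SA R ∧ c b (c b R - R) - (c b R - R) ≠ 0 := by
    by_contra hno
    push_neg at hno
    obtain ⟨ψ, hψ⟩ : ∃ ψ : Module.Dual (ZMod p) D, ψ (σ b0 (f x0 y0) - f x0 y0) ≠ 0 := by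
      by_contra h
      push_neg at h
      exact hxy (sub_eq_zero.1 ((Module.forall_dual_apply_eq_zero_iff (ZMod p) _).1 h))
    obtain ⟨R, hR, hRφ⟩ := hrep _ ⟨ψ, rfl⟩
    have hq1 := hno b0 hb0 R hR
    have hq2 := hno b0 hb0 (R * R) (hSAmul R R hR hR)
    set d := c b0 R - R with hd
    have hcR : c b0 R = R + d := by rw [hd]; abel
    have hcd : c b0 d = d := sub_eq_zero.1 hq1
    have hlin : ∀ X Y, c b0 (X + Y) = c b0 X + c b0 Y := fun X Y => by
      show ρ b0 * (X + Y) * ρ b0⁻¹ = _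
      rw [mul_add, add_mul]
    have hdd : d * d + d * d = 0 := by
      have e1 : c b0 (R * R) - R * R = R * d + d * R + d * d := by
        rw [hcmul, hcR, mul_add, add_mul, add_mul]; abel
      rw [e1, hlin, hlin, hcmul, hcmul, hcmul, hcR, hcd, add_mul, mul_add] at hq2
      rw [← hq2]; abel
    have hdE : d ∈ E := E.sub_mem (hcE _ _ hR.1) hR.1
    have h2ne : (2 : ZMod p) ≠ 0 := by
      intro h2
      have h3 : ((2 : ℕ) : ZMod p) = 0 := by exact_mod_cast h2
      exact hp2 ((Nat.prime_dvd_prime_iff_eq hp.out Nat.prime_two).1 ((ZMod.natCast_eq_zero_iff _ _).1 h3))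
    have hd2 : d * d = 0 := by
      rw [← two_smul (ZMod p), smul_eq_zero] at hdd
      exact hdd.resolve_left h2ne
    have hd0 : d = 0 := congrArg Subtype.val (hred ⟨d, hdE⟩ (Subtype.ext hd2))
    refine hψ ?_
    rw [map_sub, ← heq, ← hΦ, ← hΦ, ← hRφ, ← hRφ]
    have h4 : R (ρ b0 x0) = ρ b0 (R x0) := by
      conv_lhs => rw [show R = c b0 R by rw [hcR, hd0, add_zero]]
      show ρ b0 (R (ρ b0⁻¹ (ρ b0 x0))) = _
      rw [ρ.inv_self_apply]
    rw [h4, hinv, sub_self]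
  obtain ⟨b, hb, R, hR, hz⟩ := hδ
  set z := c b (c b R - R) - (c b R - R) with hzdef
  have hzE : z ∈ E := E.sub_mem (hcE _ _ (E.sub_mem (hcE _ _ hR.1) hR.1)) (E.sub_mem (hcE _ _ hR.1) hR.1)
  -- an idempotent supported by `z`
  have hex : ∃ m, 1 ≤ m ∧ IsIdempotentElem ((⟨z, hzE⟩ : ↥E) ^ m) := by
    obtain ⟨a, b, hab, he⟩ := Finite.exists_ne_map_eq_of_infinite (fun n : ℕ => (⟨z, hzE⟩ : ↥E) ^ n)
    wlog hlt : a < b generalizing a b
    · exact this b a hab.symm he.symm (by omega)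
    have hper : ∀ k n, a ≤ n → (⟨z, hzE⟩ : ↥E) ^ (n + k * (b - a)) = (⟨z, hzE⟩ : ↥E) ^ n := by
      intro k
      induction k with
      | zero => intro n _; simp
      | succ k ih =>
        intro n hn
        rw [show n + (k + 1) * (b - a) = (n + (b - a)) + k * (b - a) by ring, ih _ (by omega),
          show n + (b - a) = b + (n - a) by omega, pow_add, ← he, ← pow_add, Nat.add_sub_cancel' hn]
    refine ⟨(a + 1) * (b - a), Nat.one_le_iff_ne_zero.2 (Nat.mul_ne_zero (by omega) (by omega)), ?_⟩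
    show _ ^ _ * _ ^ _ = _ ^ _
    rw [← pow_add]
    exact hper (a + 1) _ (le_trans (Nat.le_succ a) (Nat.le_mul_of_pos_right _ (by omega)))
  obtain ⟨m, hm1, hm⟩ := hex
  set ε : W →ₗ[ZMod p] W := z ^ m with hε
  have hεE : ε ∈ E := E.pow_mem hzE m
  have hεi : ε * ε = ε := congrArg Subtype.val hm.eq
  have hε0 : ε ≠ 0 := by
    intro h0
    refine hz ?_
    have h1 : ∀ n, 1 ≤ n → (⟨z, hzE⟩ : ↥E) ^ n = 0 → (⟨z, hzE⟩ : ↥E) = 0 := by
      intro n
      induction n using Nat.strong_induction_on with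
      | _ n ih =>
        intro hn hzn
        rcases eq_or_lt_of_le hn with rfl | hn'
        · rwa [pow_one] at hzn
        · refine ih ((n + 1) / 2) (by omega) (by omega) (hred _ ?_)
          rw [← pow_add, ← Nat.add_sub_cancel' (show n ≤ (n + 1) / 2 + (n + 1) / 2 by omega), pow_add, hzn, zero_mul]
    exact congrArg Subtype.val (h1 m hm1 (Subtype.ext h0))
  -- a `B`-fixed vector not killed by `ε`
  let T : Submodule (ZMod p) W := ⨆ b : ↥B, LinearMap.range (c (b : K) ε)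
  have hTB : ∀ k ∈ B, ∀ x ∈ T, ρ k x ∈ T := by
    intro k hk
    suffices T ≤ T.comap (ρ k) from fun x hx => this hx
    refine iSup_le fun b' => ?_
    rintro _ ⟨x, rfl⟩
    refine Submodule.mem_comap.2 (Submodule.mem_iSup_of_mem ⟨k * b', B.mul_mem hk b'.2⟩ ⟨ρ k x, ?_⟩)
    show ρ (k * b') (ε (ρ (k * (b' : K))⁻¹ (ρ k x))) = ρ k (ρ b' (ε (ρ (b' : K)⁻¹ x)))
    simp [mul_inv_rev, map_mul, Module.End.mul_apply]
  haveI : Nontrivial ↥T := by
    rw [Submodule.nontrivial_iff_ne_bot]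
    intro h0
    refine hε0 (LinearMap.ext fun x => ?_)
    have h1 : c ((1 : ↥B) : K) ε x ∈ T := Submodule.mem_iSup_of_mem (1 : ↥B) ⟨x, rfl⟩
    rw [h0, Submodule.mem_bot] at h1
    simpa [c] using h1
  let act3 : ↥B →* Equiv.Perm ↥T :=
    { toFun := fun k => ⟨fun x => ⟨ρ k x, hTB _ k.2 _ x.2⟩, fun x => ⟨ρ (k : K)⁻¹ x, hTB _ (B.inv_mem k.2) _ x.2⟩,
        fun x => Subtype.ext (ρ.inv_self_apply (k : K) x.1),
        fun x => Subtype.ext (ρ.self_inv_apply (k : K) x.1)⟩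
      map_one' := Equiv.ext fun x => Subtype.ext (by show ρ ((1 : ↥B) : K) x.1 = x.1; simp)
      map_mul' := fun a b => Equiv.ext fun x => Subtype.ext (by
        show ρ ((a * b : ↥B) : K) x.1 = ρ a (ρ b x.1); simp [map_mul, Module.End.mul_apply]) }
  obtain ⟨w, hw0, hwfix⟩ := fixed_of_pgroup (p := p) act3 (fun k => by
    obtain ⟨n, hn⟩ := hB k
    exact ⟨n, by rw [hn, map_one]⟩) (dvd_card _) (x0 := 0) fun k => Subtype.ext (map_zero _)
  have hwB : ∀ k ∈ B, ρ k (w : W) = w := fun k hk => congrArg Subtype.val (hwfix ⟨k, hk⟩)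
  have hεw : ε (w : W) ≠ 0 := by
    intro h0
    refine hw0 (Subtype.ext ?_)
    have hkill : ∀ s : Finset ↥B, ∃ P : W →ₗ[ZMod p] W, P ∈ E ∧ P (w : W) = w ∧ ∀ b' ∈ s, P * c (b' : K) ε = 0 := by
      intro s
      induction s using Finset.induction with
      | empty => exact ⟨1, E.one_mem, rfl, fun b' hb' => absurd hb' (Finset.notMem_empty _)⟩
      | @insert a s _ ih =>
        obtain ⟨P, hPE, hPw, hP⟩ := ih
        have haE : c (a : K) ε ∈ E := hcE _ _ hεE
        refine ⟨P * (1 - c (a : K) ε), E.mul_mem hPE (E.sub_mem E.one_mem haE), ?_, fun b' hb' => ?_⟩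
        · rw [Module.End.mul_apply, LinearMap.sub_apply]
          have : c (a : K) ε (w : W) = 0 := by
            show ρ (a : K) (ε (ρ (a : K)⁻¹ (w : W))) = 0
            rw [hwB _ (B.inv_mem a.2), h0, map_zero]
          rw [this, sub_zero]
          exact hPw
        · rcases Finset.mem_insert.1 hb' with rfl | hb'
          · rw [mul_assoc, sub_mul, one_mul, ← hcmul, hεi, sub_self, mul_zero]
          · rw [mul_assoc, hcomm _ _ (E.sub_mem E.one_mem haE) (hcE _ _ hεE), ← mul_assoc, hP b' hb', zero_mul]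
    haveI := Fintype.ofFinite ↥B
    obtain ⟨P, -, hPw, hP⟩ := hkill Finset.univ
    have hle : T ≤ LinearMap.ker P := iSup_le fun b' => by
      rintro _ ⟨x, rfl⟩
      exact LinearMap.congr_fun (hP b' (Finset.mem_univ _)) x
    exact hPw.symm.trans (hle w.2)
  have hzw : z (w : W) ≠ 0 := by
    intro h0
    refine hεw ?_
    rw [hε, show m = (m - 1) + 1 by omega, pow_succ, Module.End.mul_apply, h0, map_zero]
  -- the subspace
  let SAsub : Submodule (ZMod p) (W →ₗ[ZMod p] W) :=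
    { carrier := {R | SA R}
      zero_mem' := ⟨E.zero_mem, fun x y => by simp⟩
      add_mem' := fun {R S} hR hS => ⟨E.add_mem hR.1 hS.1, fun x y => by simp [hR.2, hS.2]⟩
      smul_mem' := fun a R hR => ⟨E.smul_mem hR.1 a, fun x y => by simp [hR.2]⟩ }
  refine ⟨SAsub.map (LinearMap.applyₗ (w : W)), ?_, ?_, b, hb, R (w : W), ⟨R, hR, rfl⟩, ?_⟩
  · rintro k hk _ ⟨S, hS, rfl⟩
    refine ⟨c k S, hSAc k S hS, ?_⟩
    show ρ k (S (ρ k⁻¹ (w : W))) = ρ k (S (w : W))
    rw [hwB _ (B.inv_mem hk)]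
  · rintro _ ⟨S, hS, rfl⟩ _ ⟨S', hS', rfl⟩
    refine (Module.forall_dual_apply_eq_zero_iff (ZMod p) _).1 fun ψ => ?_
    obtain ⟨T', hT', hTφ⟩ := hrep _ ⟨ψ, rfl⟩
    show ψ (f (S (w : W)) (S' (w : W))) = 0
    rw [← hΦ, ← hTφ, ← hS'.2, ← Module.End.mul_apply T' S, ← Module.End.mul_apply S' (T' * S)]
    have hX := hSAmul _ _ hS' (hSAmul _ _ hT' hS)
    have h5 := hskew ((S' * (T' * S)) (w : W)) (w : W)
    rw [← hX.2] at h5
    have h6 : (2 : ZMod p) * ω ((S' * (T' * S)) (w : W)) (w : W) = 0 := by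
      rw [two_mul]; exact eq_neg_iff_add_eq_zero.1 h5
    refine (mul_eq_zero.1 h6).resolve_left fun h2 => ?_
    have h3 : ((2 : ℕ) : ZMod p) = 0 := by exact_mod_cast h2
    exact hp2 ((Nat.prime_dvd_prime_iff_eq hp.out Nat.prime_two).1 ((ZMod.natCast_eq_zero_iff _ _).1 h3))
  · have key : ∀ X : W →ₗ[ZMod p] W, c b X (w : W) = ρ b (X (w : W)) := fun X => by
      show ρ b (X (ρ b⁻¹ (w : W))) = _
      rw [hwB _ (B.inv_mem hb)]
    rw [← key R, ← LinearMap.sub_apply, ← key, ← LinearMap.sub_apply]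
    exact hzw

end

end CfsgLib.Iso
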