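import Cfsg.Agent.Fus.DicksonCount
import Cfsg.Agent.Fus.Isotropic
import Cfsg.Agent.Lie.SLn
import Mathlib.Algebra.Algebra.ZMod

/-!
Two non-commuting elements of order p in SL₂ over a finite field of odd characteristic p generate a group containing a copy of
SL₂(p), in standard form for a suitable basis.
-/

set_option autoImplicit false
set_option linter.style.haveILetI false
set_option linter.unusedSectionVars false

namespace CfsgLib.Dickson

open Matrix

variable {F : Type*} [Field F]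

/-- Upper transvection. -/
def up (b : F) : SpecialLinearGroup (Fin 2) F := mk 1 b 0 1 (by ring)

/-- Lower transvection. -/
def lo (c : F) : SpecialLinearGroup (Fin 2) F := mk 1 0 c 1 (by ring)

theorem up_mem_uni (b : F) : up b ∈ (uni : Subgroup (SpecialLinearGroup (Fin 2) F)) := mem_uni.2 ⟨rfl, rfl⟩

theorem eq_up {a : SpecialLinearGroup (Fin 2) F} (ha : a ∈ uni) : a = up (a.1 0 1) := by
  obtain ⟨h1, h2⟩ := mem_uni.1 ha
  have := diag_eq_one (g := a) h1
  rw [h2, one_mul] at this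
  apply ext4 <;> simp [up, h1, h2, this]

theorem up_pow (b : F) : ∀ n : ℕ, (up b) ^ n = up ((n : F) * b)
  | 0 => by apply ext4 <;> simp [up]
  | n + 1 => by
    rw [pow_succ, up_pow b n]
    apply ext4 <;> simp only [mul00, mul01, mul10, mul11] <;> simp [up] <;> ring

theorem lo_pow (b : F) : ∀ n : ℕ, (lo b) ^ n = lo ((n : F) * b)
  | 0 => by apply ext4 <;> simp [lo]
  | n + 1 => by
    rw [pow_succ, lo_pow b n]
    apply ext4 <;> simp only [mul00, mul01, mul10, mul11] <;> simp [lo] <;> ring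

theorem scal_of_sq {g : SpecialLinearGroup (Fin 2) F} (h2 : (2 : F) ≠ 0) (h : g ^ 2 = 1) : Scal g := by
  have hi : g⁻¹ = g := inv_eq_of_mul_eq_one_right (by rw [← pow_two, h])
  have e00 := congrArg (fun g : SpecialLinearGroup (Fin 2) F => g.1 0 0) hi
  have e01 := congrArg (fun g : SpecialLinearGroup (Fin 2) F => g.1 0 1) hi
  have e10 := congrArg (fun g : SpecialLinearGroup (Fin 2) F => g.1 1 0) hi
  simp only [inv00, inv01, inv10] at e00 e01 e10
  exact ⟨(mul_eq_zero.1 (show 2 * g.1 0 1 = 0 by linear_combination -e01)).resolve_left h2,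
    (mul_eq_zero.1 (show 2 * g.1 1 0 = 0 by linear_combination -e10)).resolve_left h2, e00.symm⟩

/-- The final arithmetic. -/
theorem class_arith {q d c n k m : ℕ} (hq : 3 ≤ q) (hd : 2 ≤ d) (hdq : d ∣ q - 1) (hc : 2 ≤ c) (hn : n = 1 + k * q)
    (hn2 : 2 ≤ n) (hm : 2 * m = n * (q - 2) + 2) (hh : 2 * m * c = n * q * d) :
    n = q + 1 ∨ (q = 3 ∧ n = 10 ∧ d = 2 ∧ c = 5) := by
  obtain ⟨r, rfl⟩ : ∃ r, q = r + 3 := ⟨q - 3, by omega⟩
  rw [show r + 3 - 2 = r + 1 by omega] at hm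
  rw [show r + 3 - 1 = r + 2 by omega] at hdq
  rw [hm] at hh
  have hk : 1 ≤ k := by
    rcases Nat.eq_zero_or_pos k with rfl | h
    · simp at hn; omega
    · exact h
  rcases eq_or_lt_of_le hk with rfl | hk2
  · left; rw [hn]; ring
  have hn' : 2 * r + 7 ≤ n := by rw [hn]; nlinarith
  -- `n D = 2 c` with `D > 0`
  have hlt : (r + 1) * c < (r + 3) * d := by
    by_contra hge
    push_neg at hge
    have := Nat.mul_le_mul_left n hge
    nlinarith
  obtain ⟨D, hD⟩ := Nat.exists_eq_add_of_lt hlt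
  have hnD : n * (D + 1) = 2 * c := by nlinarith
  have hn2c : n ≤ 2 * c := le_of_le_of_eq (Nat.le_mul_of_pos_right n (by omega)) hnD
  have hdle : d ≤ r + 2 := Nat.le_of_dvd (by omega) hdq
  rcases Nat.lt_or_ge d (r + 2) with hdlt | hdge
  · have hd2 : 2 * d ≤ r + 2 := by
      obtain ⟨j, hj⟩ := hdq
      rcases j with _ | _ | j
      · omega
      · omega
      · rw [hj]; nlinarith
    exfalso
    nlinarith
  have hd' : d = r + 2 := by omega
  rcases Nat.eq_zero_or_pos r with hr0 | hr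
  · subst hr0
    right
    have hd2 : d = 2 := by omega
    subst hd2
    have hc6 : c < 6 := by omega
    interval_cases c <;> omega
  · exfalso
    subst hd'
    have hc' : c ≤ r + 4 := by nlinarith
    have hn2 : n ≤ 2 * r + 8 := by omega
    rcases Nat.lt_or_ge k 3 with hk3 | hk3
    · have : k = 2 := by omega
      subst this
      rcases Nat.eq_zero_or_pos D with rfl | hD0
      · omega
      · have := Nat.mul_le_mul_left n (show 2 ≤ D + 1 by omega)
        omega
    · nlinarith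

variable [Fintype F] (p : ℕ) [hp : Fact p.Prime] [CharP F p]

theorem isPGroup_uni (H : Subgroup (SpecialLinearGroup (Fin 2) F)) : IsPGroup p ↥(H ⊓ uni) := fun y => by
  refine ⟨1, Subtype.ext ?_⟩
  rw [SubmonoidClass.coe_pow, pow_one]
  refine pow_eq_one_of_tr p ?_
  have := diag_eq_one (g := y.1) y.2.2.1
  rw [y.2.2.2, one_mul] at this
  rw [tr, y.2.2.2, this]
  ring

theorem tr_eq_two_of_ppow {g : SpecialLinearGroup (Fin 2) F} {n : ℕ} (h : g ^ p ^ n = 1) : tr g = 2 := by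
  have hn : IsNilpotent (g.1 - 1) := ⟨p ^ n, by
    have h' : g.1 ^ p ^ n = 1 := by simpa using congrArg Subtype.val h
    rw [sub_pow_char_pow_of_commute _ _ (Commute.one_right _), one_pow, h', sub_self]⟩
  have ht := (Matrix.isNilpotent_trace_of_isNilpotent hn).eq_zero
  rw [Matrix.trace_fin_two] at ht
  simp at ht
  simp only [tr]
  linear_combination ht

/-- A non-trivial element of trace 2 can be moved to upper triangular form. -/
theorem exists_uni {g : SpecialLinearGroup (Fin 2) F} (h : tr g = 2) :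
    ∃ k : SpecialLinearGroup (Fin 2) F, k * g * k⁻¹ ∈ uni := by
  have hd := det_eq g
  simp only [tr] at h
  by_cases hc : g.1 1 0 = 0
  · refine ⟨1, ?_⟩
    rw [one_mul, inv_one, mul_one, mem_uni]
    rw [hc] at hd
    exact ⟨hc, sub_eq_zero.1 (sq_eq_zero_iff.1 (show (g.1 0 0 - 1) ^ 2 = 0 by linear_combination g.1 0 0 * h - hd))⟩
  · refine ⟨mk 0 (g.1 1 0)⁻¹ (-g.1 1 0) (g.1 0 0 - 1) (by field_simp; ring), mem_uni.2 ?_⟩
    simp only [mul00, mul10, mul01, mul11, inv00, inv10, inv01, inv11, mk00, mk01, mk10, mk11]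
    constructor
    · field_simp
      linear_combination g.1 1 0 * hd - g.1 1 0 * h
    · field_simp
      linear_combination h

set_option maxHeartbeats 1000000 in
/-- The icosahedral configuration contains a smaller configuration. -/
theorem quaternion_step (h2 : (2 : F) ≠ 0) {H : Subgroup (SpecialLinearGroup (Fin 2) F)} (hz : m1 F ∈ H) (hp3' : p = 3)
    (hH120 : Nat.card H = 120) {g₁ : SpecialLinearGroup (Fin 2) F} (hg₁H : g₁ ∈ H) (hg₁s : ¬ Scal g₁)
    (hg₁t : tr g₁ ^ 2 ≠ 4) (hg₁c : Nat.card (cH H g₁) = 4) (hN₁ : Nat.card (nH H g₁) = 8)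
    (hcov : ∀ y ∈ H, ¬ Scal y → y ∈ cls H g₁ ∨ y ^ 6 = 1 ∨ y ^ 10 = 1) :
    ∃ H' : Subgroup (SpecialLinearGroup (Fin 2) F), Nat.card H' < 120 ∧ H' ≤ H ∧ m1 F ∈ H' ∧
      ∃ a ∈ H', ∃ b ∈ H', a ^ p = 1 ∧ b ^ p = 1 ∧ ¬ Commute a b := by
  classical
  set Q := nH H g₁ with hQdef
  have hQ8 : Nat.card Q = 8 := hN₁
  have hQH : Q ≤ H := inf_le_left
  have hQcls : ∀ y ∈ Q, ¬ Scal y → y ∈ cls H g₁ ∧ cH H y ≤ Q ∧ Nat.card (cH H y) = 4 ∧
      Nat.card (nH H y) = 8 := by
    intro y hy hys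
    have h8 : y ^ 8 = 1 := by
      rw [← hQ8]; exact congrArg Subtype.val (pow_card_eq_one' (x := (⟨y, hy⟩ : ↥Q)))
    have hpow : ∀ {g' : SpecialLinearGroup (Fin 2) F} {i : ℕ}, Nat.card (cH H g') = i → y ∈ cls H g' →
        y ^ i = 1 := by
      rintro g' i hi ⟨-, -, k, -, hky⟩
      have h := congrArg Subtype.val (pow_card_eq_one' (x := (⟨_, hky⟩ : ↥(cH H g'))))
      rw [SubmonoidClass.coe_pow, hi, conj_pow, OneMemClass.coe_one, mul_inv_eq_one, mul_eq_left] at h
      exact h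
    have hy2 : ∀ i : ℕ, Nat.gcd 8 i = 2 → y ^ i ≠ 1 := fun i hi hyi =>
      hys (scal_of_sq h2 (by
        have := (pow_gcd_eq_one).2 ⟨h8, hyi⟩
        rwa [hi] at this))
    have h : y ∈ cls H g₁ := by
      rcases hcov y (hQH hy) hys with h | h | h
      · exact h
      · exact absurd h (hy2 6 rfl)
      · exact absurd h (hy2 10 rfl)
    have hcy : Set.ncard (cls H y) = Set.ncard (cls H g₁) := by rw [cls_eq hg₁s hg₁H h]
    obtain ⟨-, -, k, hk, hky⟩ := id h
    have hey := cH_eq hg₁s hg₁H hky (mt (scal_conj k).1 hys)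
    have hconj : (cH H y).map (MulAut.conj k).toMonoidHom = cH H g₁ := by
      rw [← hey]
      ext z
      constructor
      · rintro ⟨a, ha, rfl⟩; exact (conj_cH hk).2 ha
      · intro hz'
        refine ⟨k⁻¹ * z * k, (conj_cH (g := y) hk).1 ?_, by show k * (k⁻¹ * z * k) * k⁻¹ = z; group⟩
        rwa [show k * (k⁻¹ * z * k) * k⁻¹ = z by group]
    have h4 : Nat.card (cH H y) = 4 := by
      rw [← Subgroup.card_map_of_injective (K := cH H y) (f := (MulAut.conj k).toMonoidHom) (MulAut.conj k).injective]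
      show Nat.card ↥((cH H y).map (MulAut.conj k).toMonoidHom) = 4
      rw [hconj, hg₁c]
    refine ⟨h, ?_, h4, ?_⟩
    · have hyo : orderOf y = 4 := by
        have hd4 : orderOf y ∣ 4 := h4 ▸ Subgroup.orderOf_dvd_natCard _ (self_mem_cH (hQH hy))
        have hle4 : orderOf y ≤ 4 := Nat.le_of_dvd (by norm_num) hd4
        have hne2 : ¬ orderOf y ∣ 2 := fun h2' => hys (scal_of_sq h2 (orderOf_dvd_iff_pow_eq_one.1 h2'))
        generalize orderOf y = o at hd4 hle4 hne2 ⊢
        interval_cases o <;> norm_num at *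
      refine le_trans (le_of_eq (Subgroup.eq_of_le_of_card_ge (Subgroup.zpowers_le.2 (self_mem_cH (hQH hy)))
        ?_).symm) (Subgroup.zpowers_le.2 hy)
      rw [h4, Nat.card_zpowers, hyo]
    · have hcl := ncard_cls h2 hz hys (hQH hy)
      have hcl1 := ncard_cls h2 hz hg₁s hg₁H
      rw [hcy, h4] at hcl
      rw [hg₁c] at hcl1
      rw [← hQdef, hQ8] at hcl1
      have hpos : 0 < Set.ncard (cls H g₁) := (Set.ncard_pos (Set.toFinite _)).2 ⟨g₁, mem_cls hg₁s hg₁H⟩
      refine Nat.eq_of_mul_eq_mul_left hpos ?_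
      omega
  have hCQ : cH H g₁ ≤ Q := cH_le_nH
  obtain ⟨y, hyQ, hyC⟩ : ∃ y ∈ Q, y ∉ cH H g₁ := by
    by_contra h
    push_neg at h
    have := Subgroup.card_le_of_le (show Q ≤ cH H g₁ from h)
    rw [hQ8, hg₁c] at this
    omega
  have hys : ¬ Scal y := fun h => hyC (mem_cH.2 ⟨hQH hyQ, scal_comm h⟩)
  obtain ⟨hycls, hyle, hy4, hy8⟩ := hQcls y hyQ hys
  obtain ⟨-, -, k, hk, hky⟩ := id hycls
  -- `Q` normalizes the centralizer of `y`
  have hQy : nH H y = Q := by
    refine (Subgroup.eq_of_le_of_card_ge ?_ (by rw [hQ8, hy8])).symm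
    have hn : ((cH H y).subgroupOf Q).Normal := Subgroup.normal_of_index_eq_two (by
      have h1 := Subgroup.card_mul_index ((cH H y).subgroupOf Q)
      rw [Nat.card_congr (Subgroup.subgroupOfEquivOfLe hyle).toEquiv, hy4, hQ8] at h1
      omega)
    exact le_inf hQH ((Subgroup.normal_subgroupOf_iff_le_normalizer hyle).1 hn)
  have hkQ : ∀ z ∈ Q, k * z * k⁻¹ ∈ Q := by
    intro z hz
    have hey := cH_eq hg₁s hg₁H hky (mt (scal_conj k).1 hys)
    refine ⟨H.mul_mem (H.mul_mem hk (hQH hz)) (H.inv_mem hk), Subgroup.mem_normalizer_iff.2 fun w => ?_⟩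
    rw [← hey]
    have hz' : z ∈ nH H y := hQy.symm ▸ hz
    constructor
    · intro hw
      have hw' : k⁻¹ * w * k ∈ cH H y := (conj_cH (g := y) hk).1 (by simpa [mul_assoc] using hw)
      have := (conj_cH (g := y) hk).2 ((Subgroup.mem_normalizer_iff.1 hz'.2 _).1 hw')
      simpa [mul_assoc] using this
    · intro hw
      have hw' : z * (k⁻¹ * w * k) * z⁻¹ ∈ cH H y := (conj_cH (g := y) hk).1 (by simpa [mul_assoc] using hw)
      have := (conj_cH (g := y) hk).2 ((Subgroup.mem_normalizer_iff.1 hz'.2 _).2 hw')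
      simpa [mul_assoc] using this
  have hknQ : k ∉ Q := fun hkm => hyC (by
    have := (Subgroup.mem_normalizer_iff.1 hkm.2 y).2 hky
    exact this)
  have hkN : k ∈ Subgroup.normalizer (Q : Set (SpecialLinearGroup (Fin 2) F)) := by
    have hmap : Q.map (MulAut.conj k).toMonoidHom = Q := Subgroup.eq_of_le_of_card_ge
      (by rintro _ ⟨z, hz, rfl⟩; exact hkQ z hz) (le_of_eq (Subgroup.card_map_of_injective (f := (MulAut.conj k).toMonoidHom) (MulAut.conj k).injective).symm)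
    refine Subgroup.mem_normalizer_iff.2 fun z => ⟨hkQ z, fun hz => ?_⟩
    obtain ⟨z', hz', hze⟩ := hmap.ge hz
    rwa [← (MulAut.conj k).injective hze]
  set H' := H ⊓ Subgroup.normalizer (Q : Set (SpecialLinearGroup (Fin 2) F)) with hH'
  have hQH' : Q ≤ H' := le_inf hQH Subgroup.le_normalizer
  obtain ⟨j', hj'⟩ := Subgroup.card_dvd_of_le hQH'
  rw [hQ8] at hj'
  have hj15 : j' ∣ 15 := by
    have := Subgroup.card_dvd_of_le (inf_le_left : H' ≤ H)
    rw [hj', hH120, show 120 = 8 * 15 from rfl] at this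
    exact Nat.dvd_of_mul_dvd_mul_left (by norm_num) this
  have hj1 : j' ≠ 1 := by
    rintro rfl
    refine hknQ ?_
    rw [Subgroup.eq_of_le_of_card_ge hQH' (by rw [hj', hQ8])]
    exact ⟨hk, hkN⟩
  have hj5 : ¬ 5 ∣ j' := by
    intro h5
    haveI : Fact (Nat.Prime 5) := ⟨by decide⟩
    obtain ⟨f, hf⟩ := exists_prime_orderOf_dvd_card' (G := ↥H') 5 (hj' ▸ dvd_mul_of_dvd_right h5 8)
    have hmem : ∀ (b : ↥(Subgroup.zpowers f)) (z : {x // x ∈ Q ∧ ¬ Scal x}),
        (b.1 : SpecialLinearGroup (Fin 2) F) * z.1 * (b.1 : SpecialLinearGroup (Fin 2) F)⁻¹ ∈ Q ∧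
        ¬ Scal ((b.1 : SpecialLinearGroup (Fin 2) F) * z.1 * (b.1 : SpecialLinearGroup (Fin 2) F)⁻¹) :=
      fun b z => ⟨(Subgroup.mem_normalizer_iff.1 b.1.2.2 _).1 z.2.1, mt (scal_conj _).1 z.2.2⟩
    let act : ↥(Subgroup.zpowers f) →* Equiv.Perm {x // x ∈ Q ∧ ¬ Scal x} :=
      { toFun := fun b => ⟨fun z => ⟨_, hmem b z⟩, fun z => ⟨_, hmem b⁻¹ z⟩,
          fun z => Subtype.ext (by simp [mul_assoc]), fun z => Subtype.ext (by simp [mul_assoc])⟩
        map_one' := Equiv.ext fun z => Subtype.ext (by simp)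
        map_mul' := fun a b => Equiv.ext fun z => Subtype.ext (by simp [mul_assoc]) }
    have hcard : Nat.card {x // x ∈ Q ∧ ¬ Scal x} = 6 := by
      have h1 := ncard_nonscal h2 hz (C := Q) (cH_le_nH (m1_mem_cH h2 hz))
      rw [hQ8, ← Nat.card_coe_set_eq] at h1
      exact Nat.add_right_cancel h1
    obtain ⟨z, hzf⟩ := CfsgLib.Iso.fixed_of_not_dvd (p := 5) act (fun b => by
      obtain ⟨i, hi⟩ := Subgroup.mem_zpowers_iff.1 b.2
      refine ⟨1, ?_⟩
      rw [show b ^ 5 ^ 1 = 1 from Subtype.ext (by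
        rw [SubmonoidClass.coe_pow, pow_one, ← hi, ← zpow_natCast, ← zpow_mul, mul_comm, zpow_mul, zpow_natCast,
          ← hf, pow_orderOf_eq_one, one_zpow]; rfl), map_one]) (by rw [hcard]; norm_num)
    have hfix : (f : SpecialLinearGroup (Fin 2) F) * z.1 * (f : SpecialLinearGroup (Fin 2) F)⁻¹ = z.1 :=
      congrArg Subtype.val (hzf ⟨f, Subgroup.mem_zpowers f⟩)
    have hfQ : (f : SpecialLinearGroup (Fin 2) F) ∈ Q := (hQcls z.1 z.2.1 z.2.2).2.1
      (mem_cH.2 ⟨f.2.1, mul_inv_eq_iff_eq_mul.1 hfix⟩)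
    have h5' : 5 ∣ Nat.card Q := by
      rw [← hf, ← Subgroup.orderOf_coe]; exact Subgroup.orderOf_dvd_natCard _ hfQ
    rw [hQ8] at h5'
    norm_num at h5'
  have hj3 : j' = 3 := by
    have := Nat.le_of_dvd (by norm_num) hj15
    interval_cases j' <;> omega
  refine ⟨H', ?_, inf_le_left, hQH' (cH_le_nH (m1_mem_cH h2 hz)), ?_⟩
  · rw [hj', hj3]; omega
  obtain ⟨f, hf⟩ := exists_prime_orderOf_dvd_card' (G := ↥H') p (by rw [hj', hj3, hp3']; norm_num)
  have hfp : (f : SpecialLinearGroup (Fin 2) F) ^ p = 1 := by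
    rw [← hf, ← Subgroup.orderOf_coe, pow_orderOf_eq_one]
  have hg₁Q : g₁ ∈ Q := hCQ (self_mem_cH hg₁H)
  refine ⟨f, f.2, g₁ * f * g₁⁻¹, H'.mul_mem (H'.mul_mem (hQH' hg₁Q) f.2) (H'.inv_mem (hQH' hg₁Q)), hfp,
    by rw [conj_pow, hfp, mul_one, mul_inv_cancel], fun hcf => ?_⟩
  have h1 : g₁ * (f : SpecialLinearGroup (Fin 2) F) * g₁⁻¹ * (f : SpecialLinearGroup (Fin 2) F)⁻¹ = 1 := by
    set x := g₁ * (f : SpecialLinearGroup (Fin 2) F) * g₁⁻¹ * (f : SpecialLinearGroup (Fin 2) F)⁻¹ with hx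
    have hxQ : x ∈ Q := by
      rw [hx, show g₁ * (f : SpecialLinearGroup (Fin 2) F) * g₁⁻¹ * (f : SpecialLinearGroup (Fin 2) F)⁻¹ =
        g₁ * ((f : SpecialLinearGroup (Fin 2) F) * g₁⁻¹ * (f : SpecialLinearGroup (Fin 2) F)⁻¹) by group]
      exact Q.mul_mem hg₁Q ((Subgroup.mem_normalizer_iff.1 f.2.2 _).1 (Q.inv_mem hg₁Q))
    have hx3 : x ^ p = 1 := by
      rw [hx, (show Commute (g₁ * (f : SpecialLinearGroup (Fin 2) F) * g₁⁻¹)
        (f : SpecialLinearGroup (Fin 2) F)⁻¹ from hcf.symm.inv_right).mul_pow, conj_pow, inv_pow, hfp, mul_one,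
        inv_one, mul_one, mul_inv_cancel]
    have h8 : x ^ 8 = 1 := by
      rw [← hQ8]; exact congrArg Subtype.val (pow_card_eq_one' (x := (⟨x, hxQ⟩ : ↥Q)))
    have := (pow_gcd_eq_one).2 ⟨hx3, h8⟩
    rwa [hp3', show Nat.gcd 3 8 = 1 from rfl, pow_one] at this
  have hf1 : ¬ Scal (f : SpecialLinearGroup (Fin 2) F) := by
    intro hs
    rcases scal_iff.1 hs with h | h
    · rw [← Subgroup.orderOf_coe, h, orderOf_one] at hf; exact hp.out.ne_one hf.symm
    · rw [h, hp3', show (3 : ℕ) = 2 + 1 from rfl, pow_succ, pow_two, m1_sq, one_mul] at hfp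
      exact m1_ne_one h2 hfp
  refine hg₁t (tr_sq_of_comm hf1 (by rw [tr_eq_two_of_pow p hfp]; ring) ?_)
  exact mul_inv_eq_iff_eq_mul.1 (mul_inv_eq_one.1 h1)

set_option maxHeartbeats 2000000 in
/-- The main step, with `-1` in the subgroup and one element upper unitriangular. -/
theorem exists_transvections_aux (h2 : (2 : F) ≠ 0) :
    ∀ (N : ℕ) (H : Subgroup (SpecialLinearGroup (Fin 2) F)), Nat.card H = N → m1 F ∈ H →
      (∃ u ∈ H, ∃ v ∈ H, u ^ p = 1 ∧ v ^ p = 1 ∧ ¬ Commute u v) →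
      ∃ (k : SpecialLinearGroup (Fin 2) F) (b : F), b ≠ 0 ∧ k * up b * k⁻¹ ∈ H ∧ k * lo b⁻¹ * k⁻¹ ∈ H := by
  classical
  intro N
  induction N using Nat.strong_induction_on with
  | _ N ih =>
  intro H₀ hN hz₀ hex
  obtain ⟨u₀, hu₀, v₀, hv₀, hup₀, hvp₀, hcomm₀⟩ := hex
  obtain ⟨k₀, hk₀⟩ := exists_uni (tr_eq_two_of_pow p hup₀)
  -- move `u₀` to upper and `v₀` to lower triangular form
  have hv₁0 : (k₀ * v₀ * k₀⁻¹).1 1 0 ≠ 0 := by
    intro h0
    have ht : tr (k₀ * v₀ * k₀⁻¹) = 2 := by rw [tr_conj]; exact tr_eq_two_of_pow p hvp₀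
    have hd := diag_eq_one (g := k₀ * v₀ * k₀⁻¹) h0
    simp only [tr] at ht
    have hu : k₀ * v₀ * k₀⁻¹ ∈ uni := mem_uni.2 ⟨h0, sub_eq_zero.1 (sq_eq_zero_iff.1
      (show ((k₀ * v₀ * k₀⁻¹).1 0 0 - 1) ^ 2 = 0 by linear_combination (k₀ * v₀ * k₀⁻¹).1 0 0 * ht - hd))⟩
    refine hcomm₀ ?_
    have : Commute (k₀ * u₀ * k₀⁻¹) (k₀ * v₀ * k₀⁻¹) := by
      rw [eq_up hk₀, eq_up hu]
      apply ext4 <;> simp only [mul00, mul01, mul10, mul11] <;> simp [up] <;> ring
    have h := this.map (MulAut.conj k₀⁻¹).toMonoidHom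
    simpa [mul_assoc] using h
  set c₀ := (k₀ * v₀ * k₀⁻¹).1 1 0 with hc₀
  let k₁ := up (-((k₀ * v₀ * k₀⁻¹).1 0 0 - 1) / c₀) * k₀
  let H := H₀.map (MulAut.conj k₁).toMonoidHom
  set u := k₁ * u₀ * k₁⁻¹ with hudef
  set v := k₁ * v₀ * k₁⁻¹ with hvdef
  have huH : u ∈ H := ⟨u₀, hu₀, rfl⟩
  have hvH : v ∈ H := ⟨v₀, hv₀, rfl⟩
  have hz : m1 F ∈ H := ⟨m1 F, hz₀, by
    show k₁ * m1 F * k₁⁻¹ = m1 F
    rw [← m1_mul, mul_inv_cancel_right]⟩
  have hup : u ^ p = 1 := by rw [hudef, conj_pow, hup₀, mul_one, mul_inv_cancel]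
  have hvp : v ^ p = 1 := by rw [hvdef, conj_pow, hvp₀, mul_one, mul_inv_cancel]
  have huU : u ∈ uni := by
    have h : u = up (-((k₀ * v₀ * k₀⁻¹).1 0 0 - 1) / c₀) * (k₀ * u₀ * k₀⁻¹) *
        (up (-((k₀ * v₀ * k₀⁻¹).1 0 0 - 1) / c₀))⁻¹ := by simp [u, k₁, mul_assoc]
    rw [h]
    exact uni.mul_mem (uni.mul_mem (up_mem_uni _) hk₀) (uni.inv_mem (up_mem_uni _))
  have hu1 : u ≠ 1 := by
    intro h
    refine hcomm₀ ?_
    rw [hudef, mul_inv_eq_one, mul_eq_left] at h
    rw [h]; exact Commute.one_left _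
  have hvlo : ∃ c : F, c ≠ 0 ∧ v = lo c := by
    have h : v = up (-((k₀ * v₀ * k₀⁻¹).1 0 0 - 1) / c₀) * (k₀ * v₀ * k₀⁻¹) *
        (up (-((k₀ * v₀ * k₀⁻¹).1 0 0 - 1) / c₀))⁻¹ := by simp [v, k₁, mul_assoc]
    have ht : tr (k₀ * v₀ * k₀⁻¹) = 2 := by rw [tr_conj]; exact tr_eq_two_of_pow p hvp₀
    simp only [tr] at ht
    have hd := det_eq (k₀ * v₀ * k₀⁻¹)
    refine ⟨c₀, hv₁0, ?_⟩
    rw [h]
    generalize hw : k₀ * v₀ * k₀⁻¹ = w at hc₀ ht hd ⊢
    apply ext4 <;> simp only [mul00, mul01, mul10, mul11, inv00, inv01, inv10, inv11, up, lo, mk00, mk01, mk10, mk11,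
      ← hc₀]
    · field_simp; ring
    · field_simp
      rw [← hc₀] at hd
      linear_combination ht - hd
    · ring
    · field_simp
      linear_combination c₀ * ht
  suffices key : ∃ (k : SpecialLinearGroup (Fin 2) F) (b : F), b ≠ 0 ∧ k * up b * k⁻¹ ∈ H ∧
      k * lo b⁻¹ * k⁻¹ ∈ H by
    obtain ⟨k, b, hb, hU, hL⟩ := key
    refine ⟨k₁⁻¹ * k, b, hb, ?_, ?_⟩
    · obtain ⟨y, hy, hye⟩ := hU
      have : y = k₁⁻¹ * k * up b * (k₁⁻¹ * k)⁻¹ := by
        rw [show k₁⁻¹ * k * up b * (k₁⁻¹ * k)⁻¹ = k₁⁻¹ * (k * up b * k⁻¹) * k₁ by group, ← hye]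
        show y = k₁⁻¹ * (k₁ * y * k₁⁻¹) * k₁
        group
      exact this ▸ hy
    · obtain ⟨y, hy, hye⟩ := hL
      have : y = k₁⁻¹ * k * lo b⁻¹ * (k₁⁻¹ * k)⁻¹ := by
        rw [show k₁⁻¹ * k * lo b⁻¹ * (k₁⁻¹ * k)⁻¹ = k₁⁻¹ * (k * lo b⁻¹ * k⁻¹) * k₁ by group, ← hye]
        show y = k₁⁻¹ * (k₁ * y * k₁⁻¹) * k₁
        group
      exact this ▸ hy
  have hHcard : Nat.card H = N := by
    rw [← hN]; exact Subgroup.card_map_of_injective (MulAut.conj k₁).injective
  obtain ⟨c, hc0, hvc⟩ := hvlo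
  have hvbor : v ∉ (bor : Subgroup (SpecialLinearGroup (Fin 2) F)) := by
    rw [mem_bor, hvc, lo, mk10]; exact hc0
  set q := Nat.card ↥(H ⊓ uni) with hq
  obtain ⟨d, hd, hdq, hd1⟩ := card_nH_uni h2 hz huH huU hu1
  obtain ⟨n, j, hHn, hnj⟩ := index_mod hz huH huU hu1
  rw [hd] at hHn
  obtain ⟨e, he⟩ := IsPGroup.iff_card.1 (isPGroup_uni p H)
  have hp2 : p ≠ 2 := fun h => h2 (by
    have := (CharP.cast_eq_zero F p)
    rw [h] at this; exact_mod_cast this)
  have hp3 : 3 ≤ p := by have := hp.out.two_le; omega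
  have he0 : e ≠ 0 := by
    rintro rfl
    rw [pow_zero] at he
    have hsub := (Nat.card_eq_one_iff_unique.1 he).1
    exact hu1 (congrArg Subtype.val (hsub.elim (⟨u, huH, huU⟩ : ↥(H ⊓ uni)) 1))
  have hq3 : 3 ≤ q := by
    rw [hq, he]; exact hp3.trans (Nat.le_self_pow he0 p)
  have hd0 : d ≠ 0 := by rintro rfl; simp at hd
  have hn2 : 2 ≤ n := by
    rcases Nat.lt_or_ge n 2 with h | h
    · exfalso
      have hn1 : n = 1 := by
        rcases Nat.eq_zero_or_pos n with rfl | h'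
        · simp at hHn
        · omega
      rw [hn1, one_mul, ← hd] at hHn
      have hle : nH H u ≤ H := inf_le_left
      have hvN : v ∈ nH H u := (Subgroup.eq_of_le_of_card_ge hle hHn.le).symm ▸ hvH
      rw [nH_uni huH huU hu1] at hvN
      exact hvbor hvN.2
    · exact h
  have hpn : ¬ p ∣ n := by
    intro hdvd
    have hpq : p ∣ j * q := dvd_mul_of_dvd_right (by rw [hq, he]; exact dvd_pow_self p he0) j
    rw [hnj, ← hq] at hdvd
    exact hp.out.not_dvd_one ((Nat.dvd_add_left hpq).1 hdvd)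
  have hpd : ¬ p ∣ 2 * d := by
    intro hdvd
    rcases hp.out.dvd_mul.1 hdvd with h | h
    · exact hp2 ((Nat.prime_dvd_prime_iff_eq hp.out Nat.prime_two).1 h)
    · have h1 := h.trans hdq
      have h3 : p ∣ q := by rw [hq, he]; exact dvd_pow_self p he0
      have h4 := Nat.dvd_sub h3 h1
      rw [show q - (q - 1) = 1 by omega] at h4
      exact hp.out.not_dvd_one h4
  -- the unipotent part is a Sylow subgroup
  have hsyl : ∀ y ∈ H, y ^ p = 1 → ∃ k ∈ H, k * y * k⁻¹ ∈ uni := by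
    intro y hy hyp
    have hle : H ⊓ uni ≤ H := inf_le_left
    have hP : IsPGroup p ↥((H ⊓ uni).subgroupOf H) := (isPGroup_uni p H).comap_subtype
    have hidx : ¬ p ∣ ((H ⊓ uni).subgroupOf H).index := by
      intro hdvd
      have h1 := Subgroup.card_mul_index ((H ⊓ uni).subgroupOf H)
      rw [Nat.card_congr (Subgroup.subgroupOfEquivOfLe hle).toEquiv, hHn, ← hq] at h1
      have h3 : ((H ⊓ uni).subgroupOf H).index = n * (2 * d) :=
        Nat.eq_of_mul_eq_mul_left (show 0 < q by omega) (by rw [h1]; ring)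
      rw [h3] at hdvd
      exact (hp.out.dvd_mul.1 hdvd).elim hpn hpd
    let S : Sylow p ↥H := hP.toSylow hidx
    obtain ⟨T, hT⟩ := IsPGroup.exists_le_sylow (P := Subgroup.zpowers (⟨y, hy⟩ : ↥H)) (p := p) (fun ⟨z, hz⟩ => by
      obtain ⟨i, rfl⟩ := Subgroup.mem_zpowers_iff.1 hz
      refine ⟨1, Subtype.ext ?_⟩
      show ((⟨y, hy⟩ : ↥H) ^ i) ^ p ^ 1 = 1
      rw [pow_one, ← zpow_natCast, ← zpow_mul, mul_comm, zpow_mul, zpow_natCast,
        show (⟨y, hy⟩ : ↥H) ^ p = 1 from Subtype.ext hyp, one_zpow])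
    obtain ⟨k, hk⟩ := MulAction.exists_smul_eq ↥H T S
    refine ⟨k, k.2, ?_⟩
    have h1 : MulAut.conj k ((⟨y, hy⟩ : ↥H)) ∈ (S : Subgroup ↥H) := by
      rw [← hk]
      exact Subgroup.smul_mem_pointwise_smul _ (MulAut.conj k) _ (hT (Subgroup.mem_zpowers _))
    exact h1.2
  have hunip : ∀ y ∈ H, ¬ Scal y → tr y ^ 2 = 4 → y ∈ cls H u := by
    intro y hy hys ht
    rcases mul_self_eq_one_iff.1 (show (tr y / 2) * (tr y / 2) = 1 by field_simp; linear_combination ht) with h | h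
    · have ht2 : tr y = 2 := by field_simp at h; linear_combination h
      obtain ⟨k, hk, hku⟩ := hsyl y hy (pow_eq_one_of_tr p ht2)
      have hd' := diag_eq_one (g := k * y * k⁻¹) (mem_uni.1 hku).1
      rw [(mem_uni.1 hku).2, one_mul] at hd'
      exact ⟨hy, hys, k, hk, (cH_uni huH huU hu1).2 ⟨H.mul_mem (H.mul_mem hk hy) (H.inv_mem hk), (mem_uni.1 hku).1,
        (mem_uni.1 hku).2.trans hd'.symm⟩⟩
    · have ht2 : tr (m1 F * y) = 2 := by rw [tr_m1_mul]; field_simp at h; linear_combination -h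
      obtain ⟨k, hk, hku⟩ := hsyl _ (H.mul_mem hz hy) (pow_eq_one_of_tr p ht2)
      have he' : k * y * k⁻¹ = m1 F * (k * (m1 F * y) * k⁻¹) := by
        rw [← mul_assoc k, ← m1_mul k, mul_assoc (m1 F), mul_assoc (m1 F), ← mul_assoc (m1 F) (m1 F), m1_sq, one_mul]
      refine ⟨hy, hys, k, hk, he' ▸ (cH H u).mul_mem (m1_mem_cH h2 hz) ((cH_uni huH huU hu1).2 ⟨?_, (mem_uni.1 hku).1, ?_⟩)⟩
      · exact H.mul_mem (H.mul_mem hk (H.mul_mem hz hy)) (H.inv_mem hk)
      · have hd' := diag_eq_one (g := k * (m1 F * y) * k⁻¹) (mem_uni.1 hku).1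
        rw [(mem_uni.1 hku).2, one_mul] at hd'
        exact (mem_uni.1 hku).2.trans hd'.symm
  have hus : ¬ Scal u := uni_not_scal huU hu1
  -- sizes
  set NS := {x | x ∈ H ∧ ¬ Scal x} with hNS
  have hNScard : Set.ncard NS + 2 = n * (2 * (q * d)) := hHn ▸ ncard_nonscal h2 hz (C := H) hz
  have hE₀ : Set.ncard (cls H u) + 2 * n = 2 * (n * q) := by
    have h := ncard_cls h2 hz hus huH
    rw [card_cH_uni h2 hz huH huU hu1, hd, hHn, ← hq] at h
    refine Nat.eq_of_mul_eq_mul_left (show 0 < 2 * (q * d) by positivity) ?_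
    linear_combination h
  have hrest : ∀ T : Set (SpecialLinearGroup (Fin 2) F), cls H u ⊆ T → T ⊆ NS → Set.ncard T < Set.ncard NS →
      ∃ g, g ∈ H ∧ ¬ Scal g ∧ tr g ^ 2 ≠ 4 ∧ g ∉ T := by
    intro T h0 hT hlt
    obtain ⟨g, hg, hgT⟩ := Set.exists_mem_notMem_of_ncard_lt_ncard hlt (Set.toFinite _)
    exact ⟨g, hg.1, hg.2, fun h => hgT (h0 (hunip g hg.1 hg.2 h)), hgT⟩
  have hdisj : ∀ {g g' : SpecialLinearGroup (Fin 2) F}, ¬ Scal g → g ∈ H → ¬ Scal g' → g' ∈ H → g' ∉ cls H g →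
      Disjoint (cls H g) (cls H g') := fun {g g'} hg hgH hg' hgH' hne => Set.disjoint_left.2 fun x hx hx' =>
    hne (cls_eq_of_mem hg hgH hg' hgH' hx hx' ▸ mem_cls hg' hgH')
  -- the number of Sylow subgroups
  have hcases : n = q + 1 ∨ ∃ H' : Subgroup (SpecialLinearGroup (Fin 2) F), Nat.card H' < N ∧ H' ≤ H ∧ m1 F ∈ H' ∧
      ∃ a ∈ H', ∃ b ∈ H', a ^ p = 1 ∧ b ^ p = 1 ∧ ¬ Commute a b := by
    rcases Nat.lt_or_ge d 2 with hd2 | hd2
    · -- no torus
      have hd1' : d = 1 := by omega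
      subst hd1'
      obtain ⟨g, hgH, hgs, hgt, hgT⟩ := hrest (cls H u) Set.Subset.rfl cls_subset (by
        have : n * (2 * (q * 1)) = 2 * (n * q) := by ring
        omega)
      obtain ⟨m, c, e, -, hc2, -, he12, -, hHm, hE⟩ := ss_data h2 hz p hgs hgH hgt
      have hle : Set.ncard (cls H u) + Set.ncard (cls H g) ≤ Set.ncard NS := by
        rw [← Set.ncard_union_eq (hdisj hus huH hgs hgH hgT) (Set.toFinite _) (Set.toFinite _)]
        exact Set.ncard_le_ncard (Set.union_subset cls_subset cls_subset) (Set.toFinite _)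
      have hh : m * e * c = n * q := Nat.eq_of_mul_eq_mul_left (show 0 < 2 by norm_num)
        (by rw [← hHm, hHn]; ring)
      have hb : 2 * (m * c) + 2 ≤ 2 * n + 2 * m := by
        have : n * (2 * (q * 1)) = 2 * (n * q) := by ring
        omega
      have hmc : 2 * m ≤ m * c := by rw [mul_comm 2]; exact Nat.mul_le_mul_left m hc2
      rcases he12 with rfl | rfl
      · exfalso
        rw [mul_one] at hh
        nlinarith
      · left
        have hh' : 2 * (m * c) = n * q := by rw [← hh]; ring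
        have hq3' : q = 3 := by
          by_contra hne
          have : n * 4 ≤ n * q := Nat.mul_le_mul_left n (by omega)
          omega
        rw [← hq, hq3'] at hnj
        rw [hq3'] at hh' hNScard hE₀ ⊢
        rw [← hq, hq3'] at hHn
        have hc2' : c = 2 := by
          by_contra hne
          have : 3 * m ≤ m * c := by rw [mul_comm 3]; exact Nat.mul_le_mul_left m (by omega)
          omega
        subst hc2'
        by_contra hn4
        obtain ⟨g₃, hg₃H, hg₃s, hg₃t, hg₃T⟩ := hrest (cls H u ∪ cls H g) Set.subset_union_left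
          (Set.union_subset cls_subset cls_subset) (by
            rw [Set.ncard_union_eq (hdisj hus huH hgs hgH hgT) (Set.toFinite _) (Set.toFinite _)]
            omega)
        obtain ⟨m₃, c₃, e₃, -, hc₃, -, he₃, -, hH₃, hE₃⟩ := ss_data h2 hz p hg₃s hg₃H hg₃t
        have hle₃ : Set.ncard (cls H u) + Set.ncard (cls H g) + Set.ncard (cls H g₃) ≤ Set.ncard NS := by
          rw [← Set.ncard_union_eq (hdisj hus huH hgs hgH hgT) (Set.toFinite _) (Set.toFinite _),
            ← Set.ncard_union_eq (Set.disjoint_union_left.2 ⟨hdisj hus huH hg₃s hg₃H fun h => hg₃T (Or.inl h),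
              hdisj hgs hgH hg₃s hg₃H fun h => hg₃T (Or.inr h)⟩) (Set.toFinite _) (Set.toFinite _)]
          exact Set.ncard_le_ncard (Set.union_subset (Set.union_subset cls_subset cls_subset) cls_subset) (Set.toFinite _)
        have hmc₃ : 2 * m₃ ≤ m₃ * c₃ := by rw [mul_comm 2]; exact Nat.mul_le_mul_left m₃ hc₃
        have hh₃ : m₃ * e₃ * c₃ = n * 3 := Nat.eq_of_mul_eq_mul_left (show 0 < 2 by norm_num)
          (by rw [← hH₃, hHn]; ring)
        rcases he₃ with rfl | rfl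
        · rw [mul_one] at hh₃; omega
        · have : 2 * (m₃ * c₃) = n * 3 := by rw [← hh₃]; ring
          omega
    · -- torus class
      obtain ⟨g₁, hg₁N, hg₁d⟩ : ∃ g ∈ nH H u, g.1 0 0 ≠ g.1 1 1 := by
        by_contra h
        push_neg at h
        have hle : nH H u ≤ cH H u := fun y hy => by
          have hy' : y ∈ H ⊓ bor := nH_uni huH huU hu1 ▸ hy
          exact (cH_uni huH huU hu1).2 ⟨hy'.1, hy'.2, h y hy⟩
        have := Subgroup.card_le_of_le hle
        rw [card_cH_uni h2 hz huH huU hu1, hd, ← hq] at this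
        nlinarith
      obtain ⟨hg₁s, hg₁t, hg₁c⟩ := torus_data h2 hz huH huU hu1 hd hg₁N hg₁d
      have hg₁H : g₁ ∈ H := hg₁N.1
      obtain ⟨m₁, c₁, e₁, hC₁, -, -, he₁, hN₁, hH₁, hE₁⟩ := ss_data h2 hz p hg₁s hg₁H hg₁t
      have hc₁ : c₁ = d := by omega
      rw [hc₁] at hC₁ hN₁ hH₁ hE₁
      clear hc₁
      have hg₁u : g₁ ∉ cls H u := by
        rintro ⟨-, -, k, hk, hku⟩
        refine hg₁t ?_
        rw [← tr_conj g₁ k]
        have h' := (cH_uni huH huU hu1).1 hku
        have hd' := diag_eq_one (g := k * g₁ * k⁻¹) h'.2.1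
        rw [tr, ← h'.2.2]
        rw [← h'.2.2] at hd'
        linear_combination 4 * hd'
      have hdis1 := hdisj hus huH hg₁s hg₁H hg₁u
      have hme : m₁ * e₁ = n * q := Nat.eq_of_mul_eq_mul_left (show 0 < 2 * d by omega)
        (by linear_combination hH₁.symm.trans hHn)
      set T₁ := cls H u ∪ cls H g₁ with hT₁
      have hT₁c : Set.ncard T₁ = Set.ncard (cls H u) + Set.ncard (cls H g₁) :=
        Set.ncard_union_eq hdis1 (Set.toFinite _) (Set.toFinite _)
      have hT₁s : T₁ ⊆ NS := Set.union_subset cls_subset cls_subset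
      rcases he₁ with rfl | rfl
      · exfalso
        rw [mul_one] at hme
        subst hme
        obtain ⟨g, hgH, hgs, hgt, hgT⟩ := hrest T₁ Set.subset_union_left hT₁s (by
          have : n * (2 * (q * d)) = 2 * (n * q * d) := by ring
          omega)
        obtain ⟨m, c, e, -, hc2, -, he12, -, hHm, hE⟩ := ss_data h2 hz p hgs hgH hgt
        have hle : Set.ncard T₁ + Set.ncard (cls H g) ≤ Set.ncard NS := by
          rw [← Set.ncard_union_eq (Set.disjoint_union_left.2 ⟨hdisj hus huH hgs hgH fun h => hgT (Or.inl h),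
            hdisj hg₁s hg₁H hgs hgH fun h => hgT (Or.inr h)⟩) (Set.toFinite _) (Set.toFinite _)]
          exact Set.ncard_le_ncard (Set.union_subset hT₁s cls_subset) (Set.toFinite _)
        have hh : m * e * c = n * q * d := Nat.eq_of_mul_eq_mul_left (show 0 < 2 by norm_num)
          (by rw [← hHm, hHn]; ring)
        have hb : 2 * (m * c) + 2 ≤ 2 * n + 2 * m := by
          have : n * (2 * (q * d)) = 2 * (n * q * d) := by ring
          omega
        have hmc : 2 * m ≤ m * c := by rw [mul_comm 2]; exact Nat.mul_le_mul_left m hc2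
        have h6 : n * 6 ≤ n * q * d := by rw [mul_assoc]; exact Nat.mul_le_mul_left n (by nlinarith)
        rcases he12 with rfl | rfl <;> nlinarith
      · have hh₁ : 2 * (m₁ * d) = n * q * d := by rw [← hme]; ring
        have hnlt : n ≤ m₁ := by
          have : n * 3 ≤ n * q := Nat.mul_le_mul_left n hq3
          omega
        have h2d : 2 * m₁ ≤ m₁ * d := by rw [mul_comm 2]; exact Nat.mul_le_mul_left m₁ hd2
        have hexp : n * (2 * (q * d)) = 2 * (n * q * d) := by ring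
        obtain ⟨g, hgH, hgs, hgt, hgT⟩ := hrest T₁ Set.subset_union_left hT₁s (by omega)
        obtain ⟨m, c, e, hC, hc2, -, he12, -, hHm, hE⟩ := ss_data h2 hz p hgs hgH hgt
        have hdis2 : Disjoint T₁ (cls H g) := Set.disjoint_union_left.2
          ⟨hdisj hus huH hgs hgH fun h => hgT (Or.inl h), hdisj hg₁s hg₁H hgs hgH fun h => hgT (Or.inr h)⟩
        set T₂ := T₁ ∪ cls H g with hT₂
        have hT₂c : Set.ncard T₂ = Set.ncard T₁ + Set.ncard (cls H g) :=
          Set.ncard_union_eq hdis2 (Set.toFinite _) (Set.toFinite _)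
        have hT₂s : T₂ ⊆ NS := Set.union_subset hT₁s cls_subset
        have hT₂le := Set.ncard_le_ncard hT₂s (Set.toFinite _)
        have hmc : 2 * m ≤ m * c := by rw [mul_comm 2]; exact Nat.mul_le_mul_left m hc2
        have hh : m * e * c = n * q * d := Nat.eq_of_mul_eq_mul_left (show 0 < 2 by norm_num)
          (by rw [← hHm, hHn]; ring)
        rcases he12 with rfl | rfl
        · exfalso
          rw [mul_one] at hh
          omega
        · have hh2 : 2 * (m * c) = n * q * d := by rw [← hh]; ring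
          have hall : Set.ncard T₂ = Set.ncard NS := by
            by_contra hne
            obtain ⟨g₃, hg₃H, hg₃s, hg₃t, hg₃T⟩ := hrest T₂
              (Set.subset_union_left.trans Set.subset_union_left) hT₂s (lt_of_le_of_ne hT₂le hne)
            obtain ⟨m₃, c₃, e₃, -, hc₃, -, he₃, -, hH₃, hE₃⟩ := ss_data h2 hz p hg₃s hg₃H hg₃t
            have hle : Set.ncard T₂ + Set.ncard (cls H g₃) ≤ Set.ncard NS := by
              rw [← Set.ncard_union_eq (Set.disjoint_union_left.2 ⟨Set.disjoint_union_left.2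
                ⟨hdisj hus huH hg₃s hg₃H fun h => hg₃T (Or.inl (Or.inl h)),
                  hdisj hg₁s hg₁H hg₃s hg₃H fun h => hg₃T (Or.inl (Or.inr h))⟩,
                hdisj hgs hgH hg₃s hg₃H fun h => hg₃T (Or.inr h)⟩) (Set.toFinite _) (Set.toFinite _)]
              exact Set.ncard_le_ncard (Set.union_subset hT₂s cls_subset) (Set.toFinite _)
            have hmc₃ : 2 * m₃ ≤ m₃ * c₃ := by rw [mul_comm 2]; exact Nat.mul_le_mul_left m₃ hc₃
            have hh₃ : m₃ * e₃ * c₃ = n * q * d := Nat.eq_of_mul_eq_mul_left (show 0 < 2 by norm_num)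
              (by rw [← hH₃, hHn]; ring)
            rcases he₃ with rfl | rfl
            · rw [mul_one] at hh₃; omega
            · have : 2 * (m₃ * c₃) = n * q * d := by rw [← hh₃]; ring
              omega
          have hm : m + n = m₁ + 1 := by omega
          have hmf : 2 * m = n * (q - 2) + 2 := by
            have : n * (q - 2) + 2 * n = n * q := by
              rw [mul_comm 2 n, ← mul_add, Nat.sub_add_cancel (by omega)]
            omega
          rcases class_arith hq3 hd2 hdq hc2 (by rw [hnj, ← hq]) hn2 hmf (by rw [← hh2]; ring) with h | h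
          · exact Or.inl h
          obtain ⟨hq3', hn10, hd22, hc5⟩ := h
          subst hn10; subst hd22; subst hc5
          rw [← hq, hq3'] at hHn
          -- the quaternion normalizer
          right
          have hp3' : p = 3 := (Nat.prime_dvd_prime_iff_eq hp.out Nat.prime_three).1 (by
            rw [← hq3', hq, he]; exact dvd_pow_self p he0)
          have hp3' : p = 3 := (Nat.prime_dvd_prime_iff_eq hp.out Nat.prime_three).1 (by
            rw [← hq3', hq, he]; exact dvd_pow_self p he0)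
          have hH120 : Nat.card H = 120 := by rw [hHn]
          rw [← hHcard, hH120]
          refine quaternion_step p h2 hz hp3' hH120 hg₁H hg₁s hg₁t hg₁c hN₁ fun y hy hys => ?_
          have hymem : y ∈ T₂ := (Set.eq_of_subset_of_ncard_le hT₂s hall.ge (Set.toFinite _)).symm ▸ ⟨hy, hys⟩
          have hpow : ∀ {g' : SpecialLinearGroup (Fin 2) F} {i : ℕ}, Nat.card (cH H g') = i → y ∈ cls H g' →
              y ^ i = 1 := by
            rintro g' i hi ⟨-, -, k, -, hky⟩
            have h := congrArg Subtype.val (pow_card_eq_one' (x := (⟨_, hky⟩ : ↥(cH H g'))))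
            rw [SubmonoidClass.coe_pow, hi, conj_pow, OneMemClass.coe_one, mul_inv_eq_one, mul_eq_left] at h
            exact h
          rcases hymem with (h | h) | h
          · exact Or.inr (Or.inl (hpow (by rw [card_cH_uni h2 hz huH huU hu1, ← hq, hq3']) h))
          · exact Or.inl h
          · exact Or.inr (Or.inr (hpow (by rw [hC]) h))
  rcases hcases with hn | ⟨H', hlt, hle, hz', hex'⟩
  swap
  · obtain ⟨k, b, hb, hU, hL⟩ := ih _ hlt H' rfl hz' hex'
    exact ⟨k, b, hb, hle hU, hle hL⟩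
  -- `q + 1` Sylow subgroups: the unipotent part is transitive on the others
  obtain ⟨k, hk, hkv⟩ := hsyl v hvH hvp
  have hk11 : k.1 1 1 = 0 := by
    have h := (mem_uni.1 hkv).1
    rw [hvc] at h
    simp only [mul10, mul11, mul00, inv00, inv10, lo, mk00, mk01, mk10, mk11] at h
    exact mul_self_eq_zero.1 ((mul_eq_zero.1 (show c * (k.1 1 1 * k.1 1 1) = 0 by linear_combination h)).resolve_left hc0)
  set w := k⁻¹ with hw
  have hwH : w ∈ H := H.inv_mem hk
  have hw00 : w.1 0 0 = 0 := by rw [hw, inv00]; exact hk11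
  have hw10 : w.1 1 0 ≠ 0 := by
    intro h0
    have := det_eq w
    rw [h0, hw00] at this
    simp at this
  set M := (nH H u).subgroupOf H with hM
  have hMmem : ∀ y : ↥H, y ∈ M ↔ y.1.1 1 0 = 0 := fun y => by
    rw [hM, Subgroup.mem_subgroupOf, nH_uni huH huU hu1]
    exact ⟨fun h => h.2, fun h => ⟨y.2, h⟩⟩
  let X := {z : ↥H ⧸ M // z ≠ ((1 : ↥H) : ↥H ⧸ M)}
  have hwX : ∀ a : ↥(H ⊓ uni), ((⟨a.1 * w, H.mul_mem a.2.1 hwH⟩ : ↥H) : ↥H ⧸ M) ≠ ((1 : ↥H) : ↥H ⧸ M) := by
    intro a h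
    rw [QuotientGroup.eq, mul_one, Subgroup.inv_mem_iff, hMmem] at h
    simp only [mul10, a.2.2.1, zero_mul, zero_add] at h
    have := diag_eq_one (g := a.1) a.2.2.1
    rw [a.2.2.2, one_mul] at this
    rw [this, one_mul] at h
    exact hw10 h
  let f : ↥(H ⊓ uni) → X := fun a => ⟨_, hwX a⟩
  have hfi : Function.Injective f := by
    intro a b h
    have h' : ((⟨a.1 * w, H.mul_mem a.2.1 hwH⟩ : ↥H) : ↥H ⧸ M) = (⟨b.1 * w, H.mul_mem b.2.1 hwH⟩ : ↥H) :=
      congrArg Subtype.val h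
    rw [QuotientGroup.eq, hMmem] at h'
    have ea := diag_eq_one (g := a.1) a.2.2.1
    have eb := diag_eq_one (g := b.1) b.2.2.1
    rw [a.2.2.2, one_mul] at ea
    rw [b.2.2.2, one_mul] at eb
    simp only [Subgroup.coe_mul, Subgroup.coe_inv, mul10, mul00, mul11, inv00, inv10, inv11, a.2.2.1, a.2.2.2, b.2.2.1,
      b.2.2.2, ea, eb, hw00, mul01, inv01] at h'
    refine Subtype.ext (ext4 (a.2.2.2.trans b.2.2.2.symm) ?_ (a.2.2.1.trans b.2.2.1.symm) (ea.trans eb.symm))
    refine sub_eq_zero.1 ((mul_eq_zero.1 (show (a.1.1 0 1 - b.1.1 0 1) * (w.1 1 0 * w.1 1 0) = 0 by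
      linear_combination h')).resolve_right (mul_self_ne_zero.2 hw10))
  have hXcard : Nat.card ↥(H ⊓ uni) = Nat.card X := by
    have h1 := Nat.card_congr (Equiv.optionSubtypeNe ((1 : ↥H) : ↥H ⧸ M))
    rw [Finite.card_option, ← Subgroup.index_eq_card M] at h1
    have h3 := Subgroup.card_mul_index M
    have hleN : nH H u ≤ H := inf_le_left
    rw [hM, Nat.card_congr (Subgroup.subgroupOfEquivOfLe hleN).toEquiv, hd, hHn, ← hM, mul_comm n] at h3
    have h4 := Nat.eq_of_mul_eq_mul_left (by positivity) h3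
    show _ = Nat.card {z : ↥H ⧸ M // z ≠ ((1 : ↥H) : ↥H ⧸ M)}
    omega
  obtain ⟨a, ha⟩ := ((Nat.bijective_iff_injective_and_card f).2 ⟨hfi, hXcard⟩).2
    ⟨((⟨v, hvH⟩ : ↥H) : ↥H ⧸ M), fun h => by
      rw [QuotientGroup.eq, mul_one, Subgroup.inv_mem_iff, hMmem] at h
      exact hvbor h⟩
  have h' : ((⟨a.1 * w, H.mul_mem a.2.1 hwH⟩ : ↥H) : ↥H ⧸ M) = ((⟨v, hvH⟩ : ↥H) : ↥H ⧸ M) := congrArg Subtype.val ha
  rw [QuotientGroup.eq, hMmem] at h'
  have ea := diag_eq_one (g := a.1) a.2.2.1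
  rw [a.2.2.2, one_mul] at ea
  simp only [Subgroup.coe_mul, Subgroup.coe_inv, mul10, mul00, mul11, inv00, inv10, inv11, a.2.2.1, a.2.2.2, ea, hw00,
    hvc, lo, mk00, mk01, mk10, mk11, mul01, inv01] at h'
  have hs : c * a.1.1 0 1 = 1 := by
    refine mul_left_cancel₀ hw10 ?_
    linear_combination h'
  refine ⟨1, a.1.1 0 1, fun h0 => by simp [h0] at hs, ?_, ?_⟩
  · rw [one_mul, inv_one, mul_one, ← eq_up a.2.2]
    exact a.2.1
  · rw [one_mul, inv_one, mul_one, show (a.1.1 0 1)⁻¹ = c from inv_eq_of_mul_eq_one_left hs, ← hvc]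
    exact hvH

/-- Two non-commuting elements of order `p` yield a standard pair of transvections. -/
theorem exists_transvections (h2 : (2 : F) ≠ 0) (H : Subgroup (SpecialLinearGroup (Fin 2) F))
    {u v : SpecialLinearGroup (Fin 2) F} (hu : u ∈ H) (hv : v ∈ H) (hup : u ^ p = 1) (hvp : v ^ p = 1)
    (hc : ¬ Commute u v) :
    ∃ (k : SpecialLinearGroup (Fin 2) F) (b : F), b ≠ 0 ∧ k * up b * k⁻¹ ∈ H ∧ k * lo b⁻¹ * k⁻¹ ∈ H := by
  set Z := Subgroup.zpowers (m1 F)
  have hZn : Z.Normal := by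
    refine ⟨fun y hy g => ?_⟩
    obtain ⟨i, rfl⟩ := Subgroup.mem_zpowers_iff.1 hy
    rw [((show Commute g (m1 F) from (m1_mul g).symm).zpow_right i).eq, mul_inv_cancel_right]
    exact Subgroup.zpow_mem_zpowers _ i
  obtain ⟨k, b, hb, hU, hL⟩ := exists_transvections_aux p h2 _ (H ⊔ Z) rfl
    (Subgroup.mem_sup_right (Subgroup.mem_zpowers _))
    ⟨u, Subgroup.mem_sup_left hu, v, Subgroup.mem_sup_left hv, hup, hvp, hc⟩
  have key : ∀ x ∈ H ⊔ Z, x ^ p = 1 → x ∈ H := by
    intro x hx hxp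
    obtain ⟨y, hy, z, hz, rfl⟩ := Subgroup.mem_sup_of_normal_right.1 hx
    obtain ⟨i, rfl⟩ := Subgroup.mem_zpowers_iff.1 hz
    rcases Int.even_or_odd i with ⟨r, rfl⟩ | ⟨r, rfl⟩
    · rw [← two_mul, zpow_mul, zpow_two, m1_sq, one_zpow, mul_one]; exact hy
    · rw [zpow_add, zpow_mul, zpow_two, m1_sq, one_zpow, one_mul, zpow_one] at hxp ⊢
      rw [(show Commute y (m1 F) from (m1_mul y).symm).mul_pow] at hxp
      have hp2 : p ≠ 2 := fun h => h2 (by
        have := (CharP.cast_eq_zero F p)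
        rw [h] at this; exact_mod_cast this)
      obtain ⟨r', hr'⟩ := hp.out.odd_of_ne_two hp2
      have hm : m1 F ^ p = m1 F := by rw [hr', pow_succ, pow_mul, pow_two, m1_sq, one_pow, one_mul]
      rw [hm] at hxp
      refine H.mul_mem hy ?_
      rw [← inv_inv (m1 F), ← eq_inv_of_mul_eq_one_left hxp]
      exact H.inv_mem (H.pow_mem hy p)
  have hpow : ∀ x : SpecialLinearGroup (Fin 2) F, x ^ p = 1 → (k * x * k⁻¹) ^ p = 1 := fun x hx => by
    rw [conj_pow, hx, mul_one, mul_inv_cancel]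
  refine ⟨k, b, hb, key _ hU (hpow _ ?_), key _ hL (hpow _ ?_)⟩
  · rw [up_pow, CharP.cast_eq_zero, zero_mul]; apply ext4 <;> simp [up]
  · rw [lo_pow, CharP.cast_eq_zero, zero_mul]; apply ext4 <;> simp [lo]

/-- The embedding of `SL₂(p)` in standard form for the transvection parameter `b`. -/
def embed (b : F) (hb : b ≠ 0) : SpecialLinearGroup (Fin 2) (ZMod p) →* SpecialLinearGroup (Fin 2) F where
  toFun M := mk (ZMod.castHom dvd_rfl F (M.1 0 0)) (b * ZMod.castHom dvd_rfl F (M.1 0 1))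
    (b⁻¹ * ZMod.castHom dvd_rfl F (M.1 1 0)) (ZMod.castHom dvd_rfl F (M.1 1 1)) (by
      have h := congrArg (ZMod.castHom (dvd_refl p) F) (det_eq M)
      simp only [map_sub, map_mul, map_one] at h
      field_simp
      linear_combination h)
  map_one' := by apply ext4 <;> simp
  map_mul' M M' := by
    apply ext4 <;> simp only [mul00, mul01, mul10, mul11, mk00, mk01, mk10, mk11, map_add, map_mul] <;> field_simp

theorem embed_injective (b : F) (hb : b ≠ 0) : Function.Injective (embed p b hb) := by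
  intro M M' h
  have hc := (ZMod.castHom (dvd_refl p) F).injective
  have e : ∀ i j, (embed p b hb M).1 i j = (embed p b hb M').1 i j := fun i j => by rw [h]
  apply ext4
  · exact hc (e 0 0)
  · exact hc (mul_left_cancel₀ hb (e 0 1))
  · exact hc (mul_left_cancel₀ (inv_ne_zero hb) (e 1 0))
  · exact hc (e 1 1)

/-- The copy of `SL₂(p)` generated by a standard pair of transvections. -/
theorem embed_mem {H : Subgroup (SpecialLinearGroup (Fin 2) F)} {k : SpecialLinearGroup (Fin 2) F} {b : F}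
    (hb : b ≠ 0) (hU : k * up b * k⁻¹ ∈ H) (hL : k * lo b⁻¹ * k⁻¹ ∈ H) :
    ∀ M, k * embed p b hb M * k⁻¹ ∈ H := by
  let K := H.comap ((MulAut.conj k).toMonoidHom.comp (embed p b hb))
  have hK : K = ⊤ := by
    refine CfsgLib.Lie.SLn.eq_top_of_transvection_mem K fun i j hij c => ?_
    show k * embed p b hb _ * k⁻¹ ∈ H
    have hcv : ((c.val : ℕ) : F) = ZMod.castHom (dvd_refl p) F c := by
      conv_rhs => rw [← ZMod.natCast_zmod_val c]
      rw [map_natCast]
    fin_cases i <;> fin_cases j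
    · exact absurd rfl hij
    · have h : embed p b hb (SpecialLinearGroup.transvection hij c) = up b ^ c.val := by
        rw [up_pow, hcv]
        apply ext4 <;> simp [embed, up, SpecialLinearGroup.transvection, Matrix.transvection, mul_comm]
      rw [h, ← conj_pow]; exact H.pow_mem hU _
    · have h : embed p b hb (SpecialLinearGroup.transvection hij c) = lo b⁻¹ ^ c.val := by
        rw [lo_pow, hcv]
        apply ext4 <;> simp [embed, lo, SpecialLinearGroup.transvection, Matrix.transvection, mul_comm]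
      rw [h, ← conj_pow]; exact H.pow_mem hL _
    · exact absurd rfl hij
  intro M
  exact (hK.ge (Subgroup.mem_top M) : M ∈ K)

end CfsgLib.Dickson
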