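import Cfsg.Prelude.Def_ConjugacyFunctors
import Mathlib.GroupTheory.Nilpotent
import Mathlib.GroupTheory.Focal
import Mathlib.GroupTheory.Sylow

/-!
Conjugacy functors inside a subgroup `H`: towers, well-placed subgroups, conjugation families and the passage
from local to global control.
-/

set_option autoImplicit false
set_option linter.style.haveILetI false

open Cfsg
open scoped commutatorElement

namespace CfsgLib.Glau

variable {G : Type*} [Group G]

/-- The conjugate `g A g⁻¹`. -/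
abbrev cj (g : G) (A : Subgroup G) : Subgroup G := A.map (MulAut.conj g).toMonoidHom

theorem mem_cj {g : G} {A : Subgroup G} {x : G} : x ∈ cj g A ↔ g⁻¹ * x * g ∈ A := by
  constructor
  · rintro ⟨a, ha, rfl⟩
    simpa [mul_assoc] using ha
  · intro h
    exact ⟨_, h, by simp [mul_assoc]⟩

theorem conj_mem_cj {g : G} {A : Subgroup G} {x : G} (h : x ∈ A) : g * x * g⁻¹ ∈ cj g A := ⟨x, h, rfl⟩

theorem cj_one (A : Subgroup G) : cj 1 A = A := by
  ext x; rw [mem_cj]; simp

theorem cj_mul (g h : G) (A : Subgroup G) : cj (g * h) A = cj g (cj h A) := by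
  ext x; simp only [mem_cj, mul_inv_rev, mul_assoc]

theorem cj_inv_cj (g : G) (A : Subgroup G) : cj g⁻¹ (cj g A) = A := by
  rw [← cj_mul, inv_mul_cancel, cj_one]

theorem cj_cj_inv (g : G) (A : Subgroup G) : cj g (cj g⁻¹ A) = A := by
  rw [← cj_mul, mul_inv_cancel, cj_one]

theorem cj_mono (g : G) {A B : Subgroup G} (h : A ≤ B) : cj g A ≤ cj g B := Subgroup.map_mono h

theorem cj_inf (g : G) (A B : Subgroup G) : cj g (A ⊓ B) = cj g A ⊓ cj g B :=
  Subgroup.map_inf _ _ _ (MulAut.conj g).injective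

theorem card_cj (g : G) (A : Subgroup G) : Nat.card ↥(cj g A) = Nat.card A :=
  (Nat.card_congr (A.equivMapOfInjective _ (MulAut.conj g).injective).toEquiv).symm

theorem isPGroup_cj {p : ℕ} (g : G) {A : Subgroup G} (h : IsPGroup p A) : IsPGroup p ↥(cj g A) := h.map _

theorem cj_commutator (g : G) (A B : Subgroup G) : cj g ⁅A, B⁆ = ⁅cj g A, cj g B⁆ :=
  Subgroup.map_commutator A B _

theorem mem_normalizer_iff_cj [Finite G] {g : G} {A : Subgroup G} :
    g ∈ Subgroup.normalizer (A : Set G) ↔ cj g A = A := by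
  constructor
  · intro h
    ext x
    rw [mem_cj]
    exact (Subgroup.mem_normalizer_iff''.1 h x).symm
  · intro h
    refine Subgroup.mem_normalizer_iff''.2 fun x => ?_
    rw [← mem_cj, h]

theorem cj_normalizer [Finite G] (g : G) (A : Subgroup G) :
    cj g (Subgroup.normalizer (A : Set G)) = Subgroup.normalizer (cj g A : Set G) := by
  ext x
  rw [mem_cj, mem_normalizer_iff_cj, mem_normalizer_iff_cj, cj_mul, cj_mul]
  constructor
  · intro h
    have := congrArg (cj g) h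
    rwa [cj_cj_inv] at this
  · intro h
    rw [h, cj_inv_cj]

theorem cj_eq_of_mem [Finite G] {g : G} {H : Subgroup G} (hg : g ∈ H) : cj g H = H :=
  mem_normalizer_iff_cj.1 (Subgroup.le_normalizer hg)

/-- `S` is a Sylow `p`-subgroup of `H`, both inside `G`. -/
structure Syl (p : ℕ) (S H : Subgroup G) : Prop where
  le : S ≤ H
  pg : IsPGroup p S
  idx : ¬ p ∣ S.relIndex H

section

variable [Finite G] {p : ℕ} [hp : Fact p.Prime]

/-- The Sylow subgroup of `H` given by `S`. -/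
def Syl.toSylow {S H : Subgroup G} (h : Syl p S H) : Sylow p ↥H :=
  (h.pg.of_equiv (Subgroup.subgroupOfEquivOfLe h.le).symm : IsPGroup p ↥(S.subgroupOf H)).toSylow h.idx

theorem Syl.coe_toSylow {S H : Subgroup G} (h : Syl p S H) :
    (h.toSylow : Subgroup ↥H) = S.subgroupOf H :=
  IsPGroup.toSylow_coe _ _

theorem Syl.card {S H : Subgroup G} (h : Syl p S H) : Nat.card S = p ^ (Nat.card H).factorization p := by
  have := h.toSylow.card_eq_multiplicity
  rwa [h.coe_toSylow, Nat.card_congr (Subgroup.subgroupOfEquivOfLe h.le).toEquiv] at this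

theorem Syl.exists_conj_le {S H Q : Subgroup G} (h : Syl p S H) (hQ : Q ≤ H) (hQp : IsPGroup p Q) :
    ∃ x ∈ H, cj x Q ≤ S := by
  obtain ⟨T, hT⟩ :=
    (hQp.of_equiv (Subgroup.subgroupOfEquivOfLe hQ).symm : IsPGroup p ↥(Q.subgroupOf H)).exists_le_sylow
  obtain ⟨x, hx⟩ := MulAction.exists_smul_eq ↥H T h.toSylow
  refine ⟨x, x.2, fun y hy => ?_⟩
  obtain ⟨q, hq, rfl⟩ := hy
  have h2 : MulAut.conj x • (⟨q, hQ hq⟩ : ↥H) ∈ ((h.toSylow : Sylow p ↥H) : Subgroup ↥H) := by
    rw [← hx, Sylow.coe_subgroup_smul]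
    exact Subgroup.smul_mem_pointwise_smul _ _ _ (hT hq)
  rw [h.coe_toSylow, Subgroup.mem_subgroupOf] at h2
  exact h2

theorem Syl.card_le {S H Q : Subgroup G} (h : Syl p S H) (hQ : Q ≤ H) (hQp : IsPGroup p Q) :
    Nat.card Q ≤ Nat.card S := by
  obtain ⟨x, -, hx⟩ := h.exists_conj_le hQ hQp
  exact (card_cj x Q).ge.trans (Subgroup.card_le_of_le hx)

theorem Syl.conj {S H : Subgroup G} (h : Syl p S H) (g : G) : Syl p (cj g S) (cj g H) := by
  refine ⟨cj_mono g h.le, isPGroup_cj g h.pg, ?_⟩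
  rw [Subgroup.relIndex_map_map_of_injective _ _ (MulAut.conj g).injective]
  exact h.idx

theorem Syl.mono {S H K : Subgroup G} (h : Syl p S H) (hSK : S ≤ K) (hKH : K ≤ H) : Syl p S K :=
  ⟨hSK, h.pg, fun hd => h.idx (hd.trans (Dvd.intro _ (Subgroup.relIndex_mul_relIndex S K H hSK hKH)))⟩

theorem exists_syl (H : Subgroup G) {Q : Subgroup G} (hQ : Q ≤ H) (hQp : IsPGroup p Q) :
    ∃ S, Q ≤ S ∧ Syl p S H := by
  obtain ⟨T, hT⟩ :=
    (hQp.of_equiv (Subgroup.subgroupOfEquivOfLe hQ).symm : IsPGroup p ↥(Q.subgroupOf H)).exists_le_sylow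
  refine ⟨(T : Subgroup ↥H).map H.subtype, fun q hq => ⟨⟨q, hQ hq⟩, hT hq, rfl⟩, Subgroup.map_subtype_le _,
    T.isPGroup'.map _, ?_⟩
  have : ((T : Subgroup ↥H).map H.subtype).relIndex H = (T : Subgroup ↥H).index := by
    rw [Subgroup.relIndex, Subgroup.subgroupOf, Subgroup.comap_map_eq_self_of_injective H.subtype_injective]
  rw [this]
  exact T.not_dvd_index

theorem Syl.of_card_le {S H Q : Subgroup G} (h : Syl p S H) (hQ : Q ≤ H) (hQp : IsPGroup p Q)
    (hc : Nat.card S ≤ Nat.card Q) : Syl p Q H := by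
  obtain ⟨T, hQT, hT⟩ := exists_syl H hQ hQp
  rwa [Subgroup.eq_of_le_of_card_ge hQT ((h.card_le hT.le hT.pg).trans hc)]

theorem Syl.eq_of_le {S H Q : Subgroup G} (h : Syl p S H) (hSQ : S ≤ Q) (hQ : Q ≤ H) (hQp : IsPGroup p Q) :
    Q = S := (Subgroup.eq_of_le_of_card_ge hSQ (h.card_le hQ hQp)).symm

theorem syl_top (S : Sylow p G) : Syl p (S : Subgroup G) ⊤ :=
  ⟨le_top, S.isPGroup', by rw [Subgroup.relIndex_top_right]; exact S.not_dvd_index⟩

theorem Syl.ne_bot {S H : Subgroup G} (h : Syl p S H) (hd : p ∣ Nat.card H) : S ≠ ⊥ := by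
  rintro rfl
  have := h.idx
  rw [Subgroup.relIndex_bot_left] at this
  exact this hd

/-! ### Extremal subgroups -/

/-- `N_S(T)` is a Sylow subgroup of `N_H(T)`. -/
def Ext (p : ℕ) (H S T : Subgroup G) : Prop :=
  ¬ p ∣ (S ⊓ Subgroup.normalizer (T : Set G)).relIndex (H ⊓ Subgroup.normalizer (T : Set G))

theorem Ext.syl {H S T : Subgroup G} (h : Syl p S H) (he : Ext p H S T) :
    Syl p (S ⊓ Subgroup.normalizer (T : Set G)) (H ⊓ Subgroup.normalizer (T : Set G)) :=
  ⟨inf_le_inf_right _ h.le, h.pg.to_le inf_le_left, he⟩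

theorem exists_extremal {H S T : Subgroup G} (h : Syl p S H) (hT : T ≤ S) :
    ∃ x ∈ H, cj x T ≤ S ∧ Ext p H S (cj x T) ∧
      cj x (S ⊓ Subgroup.normalizer (T : Set G)) ≤ S ⊓ Subgroup.normalizer (cj x T : Set G) := by
  obtain ⟨Q, hQ, hQs⟩ := exists_syl (p := p) (H ⊓ Subgroup.normalizer (T : Set G))
    (inf_le_inf_right _ h.le) (h.pg.to_le inf_le_left)
  obtain ⟨x, hx, hxQ⟩ := h.exists_conj_le (hQs.le.trans inf_le_left) hQs.pg
  have hTQ : T ≤ S ⊓ Subgroup.normalizer (T : Set G) := le_inf hT Subgroup.le_normalizer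
  have hle : cj x Q ≤ S ⊓ Subgroup.normalizer (cj x T : Set G) :=
    le_inf hxQ (cj_normalizer x T ▸ cj_mono x (hQs.le.trans inf_le_right))
  refine ⟨x, hx, (cj_mono x (hTQ.trans hQ)).trans hxQ, ?_, (cj_mono x hQ).trans hle⟩
  have h1 := hQs.conj x
  rw [cj_inf, cj_eq_of_mem hx, cj_normalizer] at h1
  exact fun hd => h1.idx (hd.trans (Subgroup.relIndex_dvd_of_le_left _ hle))

/-! ### Towers -/

variable {W : Subgroup G → Subgroup G}

theorem functor_normalizer (hW : IsConjugacyFunctor p W) {Q : Subgroup G} (hQ : IsPGroup p Q) :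
    Subgroup.normalizer (Q : Set G) ≤ Subgroup.normalizer (W Q : Set G) := fun g hg => by
  rw [mem_normalizer_iff_cj]
  exact ((hW Q hQ).2.2 g).symm.trans (congrArg W (mem_normalizer_iff_cj.1 hg))

theorem tower_succ (W : Subgroup G → Subgroup G) (S T : Subgroup G) (i : ℕ) :
    functorTower W S T (i + 1) = W (S ⊓ Subgroup.normalizer (functorTower W S T i : Set G)) := rfl

theorem tower_shift (W : Subgroup G → Subgroup G) (S T : Subgroup G) (i : ℕ) :
    functorTower W S (functorTower W S T 1) i = functorTower W S T (i + 1) := by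
  induction i with
  | zero => rfl
  | succ i ih => rw [tower_succ, ih]; rfl

theorem tower_le (hW : IsConjugacyFunctor p W) {S T : Subgroup G} (hS : IsPGroup p S) (hT : T ≤ S) (i : ℕ) :
    functorTower W S T i ≤ S := by
  cases i with
  | zero => exact hT
  | succ i => exact (hW _ (hS.to_le inf_le_left)).1.trans inf_le_left

theorem tower_mono (hW : IsConjugacyFunctor p W) {S T : Subgroup G} (hS : IsPGroup p S) (i : ℕ) :
    S ⊓ Subgroup.normalizer (functorTower W S T i : Set G) ≤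
      S ⊓ Subgroup.normalizer (functorTower W S T (i + 1) : Set G) :=
  le_inf inf_le_left (Subgroup.le_normalizer.trans (functor_normalizer hW (hS.to_le inf_le_left)))

theorem tower_mono_le (hW : IsConjugacyFunctor p W) {S T : Subgroup G} (hS : IsPGroup p S) {i k : ℕ}
    (hik : i ≤ k) : S ⊓ Subgroup.normalizer (functorTower W S T i : Set G) ≤
      S ⊓ Subgroup.normalizer (functorTower W S T k : Set G) := by
  induction hik with
  | refl => exact le_rfl
  | step _ ih => exact ih.trans (tower_mono hW hS _)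

theorem tower_lt (hW : IsConjugacyFunctor p W) {S T : Subgroup G} (hS : IsPGroup p S) (i : ℕ)
    (hne : S ⊓ Subgroup.normalizer (functorTower W S T i : Set G) ≠ S) :
    S ⊓ Subgroup.normalizer (functorTower W S T i : Set G) <
      S ⊓ Subgroup.normalizer (functorTower W S T (i + 1) : Set G) := by
  refine lt_of_le_of_ne (tower_mono hW hS i) fun he => ?_
  set Q := S ⊓ Subgroup.normalizer (functorTower W S T i : Set G) with hQ
  have hle : S ⊓ Subgroup.normalizer (Q : Set G) ≤ Q := by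
    conv_rhs => rw [he]
    exact inf_le_inf_left _ (functor_normalizer hW (hS.to_le inf_le_left))
  haveI : Group.IsNilpotent ↥S := hS.isNilpotent
  have hlt : Q.subgroupOf S < ⊤ := lt_top_iff_ne_top.2 fun h =>
    hne (le_antisymm inf_le_left (Subgroup.subgroupOf_eq_top.1 h))
  obtain ⟨g, hg, hgQ⟩ := SetLike.exists_of_lt (normalizerCondition_of_isNilpotent (Q.subgroupOf S) hlt)
  refine hgQ (hle ⟨g.2, Subgroup.mem_normalizer_iff.2 fun n => ⟨fun hn => ?_, fun hn => ?_⟩⟩)
  · exact (Subgroup.mem_normalizer_iff.1 hg ⟨n, hn.1⟩).1 hn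
  · have hnS : n ∈ S := by
      have := S.mul_mem (S.mul_mem (S.inv_mem g.2) hn.1) g.2
      simpa [mul_assoc] using this
    exact (Subgroup.mem_normalizer_iff.1 hg ⟨n, hnS⟩).2 hn

theorem tower_top (hW : IsConjugacyFunctor p W) {S T : Subgroup G} (hS : IsPGroup p S) :
    ∀ i, Nat.card S ≤ i → S ⊓ Subgroup.normalizer (functorTower W S T i : Set G) = S := by
  have key : ∀ i, S ⊓ Subgroup.normalizer (functorTower W S T i : Set G) = S ∨
      i < Nat.card ↥(S ⊓ Subgroup.normalizer (functorTower W S T i : Set G)) := by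
    intro i
    induction i with
    | zero => exact Or.inr Nat.card_pos
    | succ i ih =>
      by_cases h : S ⊓ Subgroup.normalizer (functorTower W S T i : Set G) = S
      · exact Or.inl (le_antisymm inf_le_left (h.ge.trans (tower_mono hW hS i)))
      · have hc := (ih.resolve_left h).trans_le (Subgroup.card_le_of_le (tower_mono hW hS i))
        have hlt : Nat.card ↥(S ⊓ Subgroup.normalizer (functorTower W S T i : Set G)) <
            Nat.card ↥(S ⊓ Subgroup.normalizer (functorTower W S T (i + 1) : Set G)) :=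
          lt_of_not_ge fun hge =>
            (tower_lt hW hS i h).ne (Subgroup.eq_of_le_of_card_ge (tower_mono hW hS i) hge)
        exact Or.inr (lt_of_le_of_lt (ih.resolve_left h) hlt)
  intro i hi
  exact (key i).resolve_right fun h =>
    (h.trans_le (Subgroup.card_le_of_le inf_le_left)).not_ge hi

/-- Well placed relative to `H`. -/
def WP (p : ℕ) (W : Subgroup G → Subgroup G) (H S T : Subgroup G) : Prop :=
  T ≤ S ∧ ∀ i, Ext p H S (functorTower W S T i)

theorem WP.tail (hW : IsConjugacyFunctor p W) {H S T : Subgroup G} (hS : IsPGroup p S) (h : WP p W H S T) :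
    WP p W H S (functorTower W S T 1) :=
  ⟨tower_le hW hS h.1 1, fun i => (tower_shift W S T i).symm ▸ h.2 (i + 1)⟩

theorem WP.tower (hW : IsConjugacyFunctor p W) {H S T : Subgroup G} (hS : IsPGroup p S) (h : WP p W H S T) :
    ∀ i, WP p W H S (functorTower W S T i)
  | 0 => h
  | i + 1 => tower_shift W S T i ▸ (h.tail hW hS).tower hW hS i

theorem exists_wp (hW : IsConjugacyFunctor p W) {H S T : Subgroup G} (h : Syl p S H) (hT : T ≤ S) :
    ∃ g ∈ H, WP p W H S (cj g T) := by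
  suffices key : ∀ k, ∃ g ∈ H, cj g T ≤ S ∧ ∀ i < k, Ext p H S (functorTower W S (cj g T) i) by
    obtain ⟨g, hg, hgT, hgk⟩ := key (Nat.card S + 2)
    refine ⟨g, hg, hgT, fun i => ?_⟩
    rcases lt_or_ge i (Nat.card S + 2) with hi | hi
    · exact hgk i hi
    have hst : ∀ j, Nat.card S + 1 ≤ j → functorTower W S (cj g T) j = W S := fun j hj => by
      obtain ⟨j, rfl⟩ : ∃ l, j = l + 1 := ⟨j - 1, by omega⟩
      rw [tower_succ, tower_top hW h.pg j (by omega)]
    rw [hst i (by omega), ← hst (Nat.card S + 1) le_rfl]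
    exact hgk _ (by omega)
  intro k
  induction k with
  | zero => exact ⟨1, one_mem _, by rwa [cj_one], fun i hi => absurd hi (Nat.not_lt_zero i)⟩
  | succ k ih =>
    obtain ⟨g, hg, hgT, hgk⟩ := ih
    set T' := cj g T
    obtain ⟨x, hx, hxT, hxe, hxN⟩ := exists_extremal h (tower_le hW h.pg hgT k)
    have hN : ∀ i ≤ k, S ⊓ Subgroup.normalizer (functorTower W S T' i : Set G) ≤
        S ⊓ Subgroup.normalizer (functorTower W S T' k : Set G) := by
      intro i hi
      exact tower_mono_le hW h.pg hi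
    have hk0 : cj x T' ≤ S := by
      rcases Nat.eq_zero_or_pos k with rfl | hk
      · exact hxT
      · exact (cj_mono x ((le_inf hgT Subgroup.le_normalizer).trans (hN 0 (Nat.zero_le k)))).trans
          (hxN.trans inf_le_left)
    have heq : ∀ i ≤ k, functorTower W S (cj x T') i = cj x (functorTower W S T' i) ∧
        (i < k → S ⊓ Subgroup.normalizer (cj x (functorTower W S T' i) : Set G) =
          cj x (S ⊓ Subgroup.normalizer (functorTower W S T' i : Set G))) := by
      intro i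
      induction i with
      | zero =>
        intro _
        refine ⟨rfl, fun hlt => ?_⟩
        have hsy := ((hgk 0 hlt).syl h).conj x
        rw [cj_inf x H, cj_eq_of_mem hx, cj_normalizer] at hsy
        refine hsy.eq_of_le (le_inf ((cj_mono x (hN 0 hlt.le)).trans (hxN.trans inf_le_left))
          (hsy.le.trans inf_le_right)) (inf_le_inf_right _ h.le) (h.pg.to_le inf_le_left)
      | succ i ih2 =>
        intro hik
        obtain ⟨h1, h2⟩ := ih2 (by omega)
        have heq' : functorTower W S (cj x T') (i + 1) = cj x (functorTower W S T' (i + 1)) := by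
          rw [tower_succ, h1, h2 (by omega), (hW _ (h.pg.to_le inf_le_left)).2.2 x]
          rfl
        refine ⟨heq', fun hlt => ?_⟩
        have hsy := ((hgk (i + 1) hlt).syl h).conj x
        rw [cj_inf x H, cj_eq_of_mem hx, cj_normalizer] at hsy
        refine hsy.eq_of_le (le_inf ((cj_mono x (hN (i + 1) hlt.le)).trans (hxN.trans inf_le_left))
          (hsy.le.trans inf_le_right)) (inf_le_inf_right _ h.le) (h.pg.to_le inf_le_left)
    refine ⟨x * g, H.mul_mem hx hg, (cj_mul x g T).symm ▸ hk0, fun i hi => ?_⟩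
    rw [cj_mul, (heq i (by omega)).1]
    rcases Nat.lt_succ_iff_lt_or_eq.1 hi with hlt | rfl
    · have hsy := ((hgk i hlt).syl h).conj x
      rw [cj_inf x H, cj_eq_of_mem hx, cj_normalizer, ← (heq i hlt.le).2 hlt] at hsy
      exact hsy.idx
    · exact hxe

/-! ### Conjugation families -/

/-- `g` is a product of normalizer elements of members of `𝓕` conjugating `A` inside `S` step by step. -/
inductive Chain (H : Subgroup G) (𝓕 : Set (Subgroup G)) : Subgroup G → G → Prop
  | one (A : Subgroup G) : Chain H 𝓕 A 1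
  | step {A T : Subgroup G} {x g : G} (hT : T ∈ 𝓕) (hx : x ∈ H ⊓ Subgroup.normalizer (T : Set G))
      (hA : A ≤ T) (hc : Chain H 𝓕 (cj x A) g) : Chain H 𝓕 A (g * x)

theorem Chain.trans {H : Subgroup G} {𝓕 : Set (Subgroup G)} {A : Subgroup G} {g : G} (hg : Chain H 𝓕 A g) :
    ∀ {g' : G}, Chain H 𝓕 (cj g A) g' → Chain H 𝓕 A (g' * g) := by
  induction hg with
  | one A => intro g' h; rw [mul_one]; rwa [cj_one] at h
  | step hT hx hA _ ih =>
    intro g' h
    rw [← mul_assoc]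
    exact Chain.step hT hx hA (ih (by rwa [← cj_mul]))

theorem Chain.single {H : Subgroup G} {𝓕 : Set (Subgroup G)} {A T : Subgroup G} {x : G} (hT : T ∈ 𝓕)
    (hx : x ∈ H ⊓ Subgroup.normalizer (T : Set G)) (hA : A ≤ T) : Chain H 𝓕 A x := by
  have := Chain.step hT hx hA (Chain.one (H := H) (𝓕 := 𝓕) (cj x A))
  rwa [one_mul] at this

theorem Chain.mono {H : Subgroup G} {𝓕 : Set (Subgroup G)} {A : Subgroup G} {g : G}
    (hg : Chain H 𝓕 A g) : ∀ {B : Subgroup G}, B ≤ A → Chain H 𝓕 B g := by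
  induction hg with
  | one A => intro B _; exact Chain.one B
  | step hT hx hA _ ih => intro B hB; exact Chain.step hT hx (hB.trans hA) (ih (cj_mono _ hB))

/-- Alperin's argument. -/
theorem chain_of_family {H S : Subgroup G} (h : Syl p S H) {𝓕 : Set (Subgroup G)} (h𝓕 : ∀ U ∈ 𝓕, U ≤ S)
    (hrep : ∀ T ≤ S, ∃ U ∈ 𝓕, (∃ g ∈ H, cj g T = U) ∧ Ext p H S U) :
    ∀ (A : Subgroup G) (g : G), g ∈ H → A ≤ S → cj g A ≤ S → Chain H 𝓕 A g := by
  suffices key : ∀ (n : ℕ) (A : Subgroup G) (g : G), Nat.card S - Nat.card A = n → g ∈ H → A ≤ S →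
      cj g A ≤ S → Chain H 𝓕 A g from fun A g => key _ A g rfl
  intro n
  induction n using Nat.strong_induction_on with
  | _ n ih =>
  intro A g hn hg hA hgA
  by_cases hAS : A = S
  · subst hAS
    obtain ⟨U, hU, ⟨y, hy, hyU⟩, -⟩ := hrep A le_rfl
    have hUA : U = A := Subgroup.eq_of_le_of_card_ge (h𝓕 U hU) (by rw [← hyU, card_cj])
    refine Chain.single hU ⟨hg, ?_⟩ hUA.ge
    rw [hUA]
    show g ∈ Subgroup.normalizer (A : Set G)
    rw [mem_normalizer_iff_cj]
    exact Subgroup.eq_of_le_of_card_ge hgA (card_cj g A).ge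
  have hlt : ∀ B : Subgroup G, B ≤ S → Nat.card B = Nat.card A →
      Nat.card A < Nat.card ↥(S ⊓ Subgroup.normalizer (B : Set G)) := by
    intro B hB hBA
    rw [← hBA]
    haveI : Group.IsNilpotent ↥S := h.pg.isNilpotent
    have hlt : B.subgroupOf S < ⊤ := lt_top_iff_ne_top.2 fun he => hAS
      (Subgroup.eq_of_le_of_card_ge hA (hBA ▸ Subgroup.card_le_of_le (Subgroup.subgroupOf_eq_top.1 he)))
    obtain ⟨x, hx, hxB⟩ := SetLike.exists_of_lt (normalizerCondition_of_isNilpotent (B.subgroupOf S) hlt)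
    refine lt_of_not_ge fun hle => hxB ?_
    have he := Subgroup.eq_of_le_of_card_ge (le_inf hB Subgroup.le_normalizer) hle
    show (x : G) ∈ B
    rw [he]
    refine ⟨x.2, Subgroup.mem_normalizer_iff.2 fun m => ⟨fun hm => ?_, fun hm => ?_⟩⟩
    · exact (Subgroup.mem_normalizer_iff.1 hx ⟨m, hB hm⟩).1 hm
    · have hmS : m ∈ S := by
        have := S.mul_mem (S.mul_mem (S.inv_mem x.2) (hB hm)) x.2
        simpa [mul_assoc] using this
      exact (Subgroup.mem_normalizer_iff.1 hx ⟨m, hmS⟩).2 hm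
  obtain ⟨U, hU, ⟨y, hy, hyU⟩, hUe⟩ := hrep A hA
  -- move a subgroup conjugate to `A` onto `U` together with its normalizer
  have move : ∀ (B : Subgroup G) (z : G), B ≤ S → z ∈ H → cj z B = U → Nat.card B = Nat.card A →
      ∃ x ∈ H, cj x B = U ∧ Chain H 𝓕 (S ⊓ Subgroup.normalizer (B : Set G)) x ∧
        cj x (S ⊓ Subgroup.normalizer (B : Set G)) ≤ S := by
    intro B z hB hz hzU hBA
    have hz' : cj z (S ⊓ Subgroup.normalizer (B : Set G)) ≤ H ⊓ Subgroup.normalizer (U : Set G) := by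
      rw [cj_inf, cj_normalizer, hzU]
      exact inf_le_inf_right _ (cj_eq_of_mem hz ▸ cj_mono z h.le)
    obtain ⟨m, hm, hmle⟩ := (hUe.syl h).exists_conj_le hz' (isPGroup_cj z (h.pg.to_le inf_le_left))
    have hxle : cj (m * z) (S ⊓ Subgroup.normalizer (B : Set G)) ≤ S :=
      (cj_mul m z _).le.trans (hmle.trans inf_le_left)
    refine ⟨m * z, H.mul_mem hm.1 hz, by rw [cj_mul, hzU, mem_normalizer_iff_cj.1 hm.2], ?_, hxle⟩
    refine ih _ ?_ _ _ rfl (H.mul_mem hm.1 hz) inf_le_left hxle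
    have := hlt B hB hBA
    have := Subgroup.card_le_of_le (inf_le_left : S ⊓ Subgroup.normalizer (B : Set G) ≤ S)
    omega
  obtain ⟨x, hx, hxU, hxc, -⟩ := move A y hA hy hyU rfl
  obtain ⟨x', hx', hx'U, -, hx'S⟩ := move (cj g A) (y * g⁻¹) hgA (H.mul_mem hy (H.inv_mem hg))
    (by rw [cj_mul, cj_inv_cj, hyU]) (card_cj g A)
  have hback : Chain H 𝓕 U x'⁻¹ := by
    have hgt := hlt (cj g A) hgA (card_cj g A)
    have hc : Chain H 𝓕 (cj x' (S ⊓ Subgroup.normalizer (cj g A : Set G))) x'⁻¹ := by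
      refine ih _ ?_ _ _ rfl (H.inv_mem hx') hx'S (by rw [cj_inv_cj]; exact inf_le_left)
      rw [card_cj]
      have := Subgroup.card_le_of_le (inf_le_left : S ⊓ Subgroup.normalizer (cj g A : Set G) ≤ S)
      omega
    exact hc.mono (hx'U ▸ cj_mono x' (le_inf hgA Subgroup.le_normalizer))
  have hn0 : x' * g * x⁻¹ ∈ H ⊓ Subgroup.normalizer (U : Set G) := by
    refine ⟨H.mul_mem (H.mul_mem hx' hg) (H.inv_mem hx), mem_normalizer_iff_cj.2 ?_⟩
    rw [cj_mul, cj_mul, ← hxU, cj_inv_cj, hx'U, hxU]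
  have h1 : Chain H 𝓕 A x := hxc.mono (le_inf hA Subgroup.le_normalizer)
  have h2 : Chain H 𝓕 (cj x A) (x'⁻¹ * (x' * g * x⁻¹)) :=
    Chain.step hU hn0 hxU.le (by rw [hxU, mem_normalizer_iff_cj.1 hn0.2]; exact hback)
  have h3 := h1.trans h2
  rwa [show x'⁻¹ * (x' * g * x⁻¹) * x = g by group] at h3

theorem chain_wp (hW : IsConjugacyFunctor p W) {H S : Subgroup G} (h : Syl p S H) {A : Subgroup G} {g : G}
    (hg : g ∈ H) (hA : A ≤ S) (hgA : cj g A ≤ S) : Chain H {T | WP p W H S T} A g :=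
  chain_of_family h (fun _ hU => hU.1) (fun T hT => by
    obtain ⟨x, hx, hx'⟩ := exists_wp hW h hT
    exact ⟨_, hx', ⟨x, hx, rfl⟩, hx'.2 0⟩) A g hg hA hgA

/-! ### Strong fusion -/

/-- Every fusion of `S` in `H` is realised in `K`. -/
def Fus (S H K : Subgroup G) : Prop :=
  ∀ B ≤ S, ∀ h ∈ H, cj h B ≤ S → ∃ x ∈ K, ∀ b ∈ B, x * b * x⁻¹ = h * b * h⁻¹

theorem fus_of_def {S H K : Subgroup G}
    (h : ∀ (A : Set G) (h : G), h ∈ H → A ⊆ S → (fun a => h * a * h⁻¹) '' A ⊆ S →
      ∃ x ∈ K, ∀ a ∈ A, x * a * x⁻¹ = h * a * h⁻¹) : Fus S H K := fun B hB y hy hyB =>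
  h B y hy hB (by rintro _ ⟨b, hb, rfl⟩; exact hyB (conj_mem_cj hb))

theorem def_of_fus {S H K : Subgroup G} (h : Fus S H K) :
    ∀ (A : Set G) (g : G), g ∈ H → A ⊆ S → (fun a => g * a * g⁻¹) '' A ⊆ S →
      ∃ x ∈ K, ∀ a ∈ A, x * a * x⁻¹ = g * a * g⁻¹ := by
  intro A g hg hA hgA
  have h1 : Subgroup.closure A ≤ S := (Subgroup.closure_le S).2 hA
  have h2 : cj g (Subgroup.closure A) ≤ S := by
    rw [cj, MonoidHom.map_closure, Subgroup.closure_le]
    exact hgA
  obtain ⟨x, hx, hxe⟩ := h _ h1 g hg h2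
  exact ⟨x, hx, fun a ha => hxe a (Subgroup.subset_closure ha)⟩

/-- The definition of control does not depend on the Sylow subgroup chosen. -/
theorem fus_any (hW : IsConjugacyFunctor p W) {H S : Subgroup G} (h : Syl p S H)
    (hc : ControlsStrongFusionIn p W H) : Fus S H (H ⊓ Subgroup.normalizer (W S : Set G)) := by
  obtain ⟨T, hT, hTp, hTi, hf⟩ := hc
  have hf' := fus_of_def hf
  have hTs : Syl p T H := ⟨hT, hTp, hTi⟩
  obtain ⟨y, hy, hyS⟩ := hTs.exists_conj_le h.le h.pg
  have hyT : cj y S = T := Subgroup.eq_of_le_of_card_ge hyS (by rw [card_cj, h.card, hTs.card])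
  intro B hB g hg hgB
  obtain ⟨x, hx, hxe⟩ := hf' (cj y B) (hyT ▸ cj_mono y hB) (y * g * y⁻¹)
    (H.mul_mem (H.mul_mem hy hg) (H.inv_mem hy)) (by
      rw [← cj_mul, show y * g * y⁻¹ * y = y * g by group, cj_mul, ← hyT]
      exact cj_mono y hgB)
  refine ⟨y⁻¹ * x * y, ⟨H.mul_mem (H.mul_mem (H.inv_mem hy) hx.1) hy, ?_⟩, fun b hb => ?_⟩
  · have hx2 : cj x (W T) = W T := mem_normalizer_iff_cj.1 hx.2
    show y⁻¹ * x * y ∈ Subgroup.normalizer (W S : Set G)
    rw [mem_normalizer_iff_cj, cj_mul, cj_mul, ← show W T = cj y (W S) from hyT ▸ (hW S h.pg).2.2 y, hx2,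
      show W T = cj y (W S) from hyT ▸ (hW S h.pg).2.2 y, cj_inv_cj]
  · have h1 := hxe _ (conj_mem_cj (g := y) hb)
    calc y⁻¹ * x * y * b * (y⁻¹ * x * y)⁻¹ = y⁻¹ * (x * (y * b * y⁻¹) * x⁻¹) * y := by group
      _ = g * b * g⁻¹ := by rw [h1]; group

/-- Local control of strong fusion gives global control. -/
theorem fus_global (hW : IsConjugacyFunctor p W) {H S : Subgroup G} (h : Syl p S H)
    (hloc : ∀ T : Subgroup G, T ≠ ⊥ → WP p W H S T →
      Fus (S ⊓ Subgroup.normalizer (T : Set G)) (H ⊓ Subgroup.normalizer (T : Set G))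
        (H ⊓ Subgroup.normalizer (T : Set G) ⊓
          Subgroup.normalizer (W (S ⊓ Subgroup.normalizer (T : Set G)) : Set G))) :
    Fus S H (H ⊓ Subgroup.normalizer (W S : Set G)) := by
  intro B hB g hg hgB
  have hc := chain_wp hW h hg hB hgB
  clear hgB hg hB
  induction hc with
  | one A => exact ⟨1, one_mem _, fun b _ => rfl⟩
  | @step A T x g hT hx hA _ ih =>
    obtain ⟨y, hy, hye⟩ := ih
    suffices hs : ∃ z ∈ H ⊓ Subgroup.normalizer (W S : Set G), ∀ b ∈ A, z * b * z⁻¹ = x * b * x⁻¹ by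
      obtain ⟨z, hz, hze⟩ := hs
      refine ⟨y * z, mul_mem hy hz, fun b hb => ?_⟩
      calc y * z * b * (y * z)⁻¹ = y * (z * b * z⁻¹) * y⁻¹ := by group
        _ = g * x * b * (g * x)⁻¹ := by rw [hze b hb, hye _ (conj_mem_cj hb)]; group
    by_cases hT0 : T = ⊥
    · refine ⟨1, one_mem _, fun b hb => ?_⟩
      rw [show b = 1 from Subgroup.mem_bot.1 (hT0 ▸ hA hb)]
      simp
    have key : ∀ i, ∀ B ≤ S ⊓ Subgroup.normalizer (functorTower W S T i : Set G),
        ∀ w ∈ H ⊓ Subgroup.normalizer (functorTower W S T i : Set G),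
        cj w B ≤ S ⊓ Subgroup.normalizer (functorTower W S T i : Set G) → functorTower W S T i ≠ ⊥ →
        ∃ z ∈ H ⊓ Subgroup.normalizer (functorTower W S T (i + 1) : Set G),
          ∀ b ∈ B, z * b * z⁻¹ = w * b * w⁻¹ := by
      intro i B hB w hw hwB hne
      obtain ⟨z, hz, hze⟩ := hloc _ hne (hT.tower hW h.pg i) B hB w hw hwB
      exact ⟨z, ⟨hz.1.1, hz.2⟩, hze⟩
    have hQ : ∀ i, functorTower W S T i ≠ ⊥ := by
      intro i
      induction i with
      | zero => exact hT0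
      | succ i ih =>
        refine (hW _ (h.pg.to_le inf_le_left)).2.1 fun hb => ih ?_
        exact eq_bot_iff.2 ((le_inf (tower_le hW h.pg hT.1 i) Subgroup.le_normalizer).trans hb.le)
    have hA0 : A ≤ S ⊓ Subgroup.normalizer (T : Set G) := hA.trans (le_inf hT.1 Subgroup.le_normalizer)
    have hxA : cj x A ≤ S ⊓ Subgroup.normalizer (T : Set G) := (cj_mono x hA).trans
      ((mem_normalizer_iff_cj.1 hx.2).le.trans (le_inf hT.1 Subgroup.le_normalizer))
    have desc : ∀ i, ∃ z ∈ H ⊓ Subgroup.normalizer (functorTower W S T i : Set G),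
        (∀ b ∈ A, z * b * z⁻¹ = x * b * x⁻¹) ∧ A ≤ S ⊓ Subgroup.normalizer (functorTower W S T i : Set G) ∧
          cj x A ≤ S ⊓ Subgroup.normalizer (functorTower W S T i : Set G) := by
      intro i
      induction i with
      | zero => exact ⟨x, hx, fun _ _ => rfl, hA0, hxA⟩
      | succ i ih =>
        obtain ⟨z, hz, hze, hzA, hzxA⟩ := ih
        obtain ⟨z', hz', hze'⟩ := key i A hzA z hz (by
          rintro _ ⟨b, hb, rfl⟩
          show z * b * z⁻¹ ∈ _
          rw [hze b hb]; exact hzxA (conj_mem_cj hb)) (hQ i)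
        exact ⟨z', hz', fun b hb => (hze' b hb).trans (hze b hb), hzA.trans (tower_mono hW h.pg i),
          hzxA.trans (tower_mono hW h.pg i)⟩
    obtain ⟨z, hz, hze, -⟩ := desc (Nat.card S + 1)
    rw [tower_succ, tower_top hW h.pg _ le_rfl] at hz
    exact ⟨z, hz, hze⟩

/-! ### Transfer -/

/-- The focal subgroup theorem inside `H`. -/
theorem focal_le {H S R : Subgroup G} (h : Syl p S H)
    (hR : ∀ x ∈ S, ∀ y ∈ H, y * x * y⁻¹ ∈ S → x⁻¹ * (y * x * y⁻¹) ∈ R) : S ⊓ ⁅H, H⁆ ≤ R := by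
  let P : Sylow p ↥H := h.toSylow
  have hP : (P : Subgroup ↥H) = S.subgroupOf H := h.coe_toSylow
  have hf := Subgroup.commutator_inf_eq_focalSubgroup P
  rintro z ⟨hzS, hzH⟩
  rw [← Subgroup.map_subtype_commutator] at hzH
  obtain ⟨w, hw, rfl⟩ := hzH
  have hwP : w ∈ commutator ↥H ⊓ (P : Subgroup ↥H) := ⟨hw, hP ▸ hzS⟩
  rw [hf, Subgroup.focalSubgroup_def] at hwP
  suffices hle : Subgroup.closure {g : ↥H | g ∈ (P : Subgroup ↥H) ∧ ∃ x ∈ (P : Subgroup ↥H), ∃ u : ↥H,
      g = ⁅x, u⁆} ≤ R.comap H.subtype from hle hwP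
  rw [Subgroup.closure_le]
  rintro _ ⟨hg, x, hx, u, rfl⟩
  rw [hP] at hg hx
  have hxu : (u : G) * (x : G)⁻¹ * (u : G)⁻¹ ∈ S := by
    have := S.mul_mem (S.inv_mem hx) hg
    simpa [commutatorElement_def, mul_assoc] using this
  have := hR _ (S.inv_mem hx) u u.2 hxu
  show ((⁅x, u⁆ : ↥H) : G) ∈ R
  simpa [commutatorElement_def, mul_assoc] using this

theorem focal_of_chain {H S R : Subgroup G} (h : Syl p S H) {𝓕 : Set (Subgroup G)}
    (hch : ∀ A g, g ∈ H → A ≤ S → cj g A ≤ S → Chain H 𝓕 A g)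
    (hstep : ∀ T ∈ 𝓕, ∀ y ∈ H ⊓ Subgroup.normalizer (T : Set G), ∀ x ∈ T, x⁻¹ * (y * x * y⁻¹) ∈ R) :
    S ⊓ ⁅H, H⁆ ≤ R := by
  refine focal_le h fun x hx y hy hyx => ?_
  have hc := hch (Subgroup.zpowers x) y hy (Subgroup.zpowers_le.2 hx) (by
    rw [cj, MonoidHom.map_zpowers, Subgroup.zpowers_le]; exact hyx)
  have hxA := Subgroup.mem_zpowers x
  revert hxA
  generalize Subgroup.zpowers x = A at hc
  clear hyx hy hx
  induction hc generalizing x with
  | one A => intro _; simp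
  | @step A T z g hT hz hA _ ih =>
    intro hxA
    have h1 := ih (x := z * x * z⁻¹) (conj_mem_cj hxA)
    have h2 := hstep T hT z hz x (hA hxA)
    have := R.mul_mem h2 h1
    simpa [mul_assoc] using this

/-- The transfer control predicate at the subgroup `S`. -/
def Tra (W : Subgroup G → Subgroup G) (S H : Subgroup G) : Prop :=
  S ⊓ ⁅H, H⁆ ≤ ⁅H ⊓ Subgroup.normalizer (W S : Set G), H ⊓ Subgroup.normalizer (W S : Set G)⁆

theorem tra_of_def (hW : IsConjugacyFunctor p W) {H S : Subgroup G} (h : Syl p S H)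
    (hc : ControlsTransferIn p W H) : Tra W S H := by
  obtain ⟨T, hT, hTp, hTi, he⟩ := hc
  have hTs : Syl p T H := ⟨hT, hTp, hTi⟩
  obtain ⟨y, hy, hyS⟩ := hTs.exists_conj_le h.le h.pg
  have hyT : cj y S = T := Subgroup.eq_of_le_of_card_ge hyS (by rw [card_cj, h.card, hTs.card])
  intro z hz
  have h1 : y * z * y⁻¹ ∈ T ⊓ ⁅H, H⁆ := by
    refine ⟨hyT ▸ conj_mem_cj hz.1, ?_⟩
    have := conj_mem_cj (g := y) hz.2
    rwa [cj_commutator, cj_eq_of_mem hy] at this
  rw [he] at h1
  have h2 : y * z * y⁻¹ ∈ cj y ⁅H ⊓ Subgroup.normalizer (W S : Set G), H ⊓ Subgroup.normalizer (W S : Set G)⁆ := by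
    rw [cj_commutator, cj_inf, cj_eq_of_mem hy, cj_normalizer,
      show cj y (W S) = W T from hyT ▸ ((hW S h.pg).2.2 y).symm]
    exact h1.2
  rw [mem_cj] at h2
  simpa [mul_assoc] using h2

theorem def_of_tra {H S : Subgroup G} (h : Syl p S H) (hc : Tra W S H) : ControlsTransferIn p W H := by
  refine ⟨S, h.le, h.pg, h.idx, le_antisymm (le_inf inf_le_left hc) (le_inf inf_le_left ?_)⟩
  exact inf_le_right.trans (Subgroup.commutator_mono inf_le_left inf_le_left)

/-- Local control of transfer at one member of a tower descends to the next. -/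
theorem tower_focal (hW : IsConjugacyFunctor p W) {H S T : Subgroup G} (h : Syl p S H) (hT : WP p W H S T)
    (hloc : ∀ i, Tra W (S ⊓ Subgroup.normalizer (functorTower W S T i : Set G))
      (H ⊓ Subgroup.normalizer (functorTower W S T i : Set G))) :
    ∀ y ∈ H ⊓ Subgroup.normalizer (T : Set G), ∀ x ∈ T,
      x⁻¹ * (y * x * y⁻¹) ∈ ⁅H ⊓ Subgroup.normalizer (W S : Set G), H ⊓ Subgroup.normalizer (W S : Set G)⁆ := by
  intro y hy x hx
  set z := x⁻¹ * (y * x * y⁻¹) with hz
  have hTS := hT.1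
  have hxy : y * x * y⁻¹ ∈ T := (Subgroup.mem_normalizer_iff.1 hy.2 x).1 hx
  have hzT : z ∈ T := T.mul_mem (T.inv_mem hx) hxy
  have desc : ∀ i, z ∈ (S ⊓ Subgroup.normalizer (functorTower W S T i : Set G)) ⊓
      ⁅H ⊓ Subgroup.normalizer (functorTower W S T i : Set G),
        H ⊓ Subgroup.normalizer (functorTower W S T i : Set G)⁆ := by
    intro i
    induction i with
    | zero =>
      refine ⟨⟨hTS hzT, Subgroup.le_normalizer hzT⟩, ?_⟩
      have : z = ⁅x⁻¹, y⁆ := by rw [hz, commutatorElement_def]; group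
      rw [this]
      exact Subgroup.commutator_mem_commutator
        (inv_mem ⟨h.le (hTS hx), Subgroup.le_normalizer hx⟩ : x⁻¹ ∈ H ⊓ Subgroup.normalizer (T : Set G)) hy
    | succ i ih =>
      refine ⟨tower_mono hW h.pg i ih.1, ?_⟩
      exact Subgroup.commutator_mono (le_inf (inf_le_left.trans inf_le_left) inf_le_right)
        (le_inf (inf_le_left.trans inf_le_left) inf_le_right) (hloc i ih)
  have := (desc (Nat.card S + 1)).2
  rwa [tower_succ, tower_top hW h.pg _ le_rfl] at this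

theorem tra_global (hW : IsConjugacyFunctor p W) {H S : Subgroup G} (h : Syl p S H)
    (hloc : ∀ T : Subgroup G, T ≠ ⊥ → WP p W H S T →
      Tra W (S ⊓ Subgroup.normalizer (T : Set G)) (H ⊓ Subgroup.normalizer (T : Set G))) : Tra W S H := by
  refine focal_of_chain h (fun A g hg hA hgA => chain_wp hW h hg hA hgA) fun T hT y hy x hx => ?_
  by_cases hT0 : T = ⊥
  · rw [show x = 1 from Subgroup.mem_bot.1 (hT0 ▸ hx)]
    simp
  refine tower_focal hW h hT (fun i => hloc _ ?_ (hT.tower hW h.pg i)) y hy x hx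
  induction i with
  | zero => exact hT0
  | succ i ih =>
    refine (hW _ (h.pg.to_le inf_le_left)).2.1 fun hb => ih ?_
    exact eq_bot_iff.2 ((le_inf (tower_le hW h.pg hT.1 i) Subgroup.le_normalizer).trans hb.le)

/-! ### Moving central subgroups -/

/-- A fusion moving a central subgroup is seen in the normalizer of a well-placed subgroup. -/
theorem exists_moving (hW : IsConjugacyFunctor p W) {H S A L : Subgroup G} (h : Syl p S H) (hAS : A ≤ S)
    (hAL : L ≤ Subgroup.normalizer (A : Set G)) (hWL : H ⊓ Subgroup.normalizer (W S : Set G) ≤ L)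
    (hAC : A ≤ Subgroup.centralizer (S : Set G))
    (hWZ : ∀ P : Subgroup G, IsPGroup p ↥P → P ⊓ Subgroup.centralizer (P : Set G) ≤ W P)
    {g : G} (hg : g ∈ H) (hgL : g ∉ L) (hgA : cj g A ≤ S) :
    ∃ T, WP p W H S T ∧ A ≤ T ∧
      H ⊓ Subgroup.normalizer (W (S ⊓ Subgroup.normalizer (T : Set G)) : Set G) ≤ L ∧
      ∃ x ∈ H ⊓ Subgroup.normalizer (T : Set G), x ∉ L := by
  -- some step moves
  obtain ⟨T, hT, hAT, x, hx, hxL⟩ : ∃ T, WP p W H S T ∧ A ≤ T ∧
      ∃ x ∈ H ⊓ Subgroup.normalizer (T : Set G), x ∉ L := by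
    have key : ∀ B z, Chain H {T | WP p W H S T} B z → B = A → z ∉ L →
        ∃ T, WP p W H S T ∧ A ≤ T ∧ ∃ x ∈ H ⊓ Subgroup.normalizer (T : Set G), x ∉ L := by
      intro B z hc
      induction hc with
      | one B => intro _ h1; exact absurd L.one_mem h1
      | @step B T x z hT hx hB _ ih =>
        intro hBA hzx
        by_cases hxL : x ∈ L
        · exact ih (by rw [hBA]; exact mem_normalizer_iff_cj.1 (hAL hxL)) fun hz => hzx (L.mul_mem hz hxL)
        · exact ⟨T, hT, hBA ▸ hB, x, hx, hxL⟩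
    exact key A g (chain_wp hW h hg hAS hgA) rfl hgL
  -- take one with the largest normalizer
  suffices key : ∀ (n : ℕ) (T : Subgroup G), Nat.card S - Nat.card ↥(S ⊓ Subgroup.normalizer (T : Set G)) = n →
      WP p W H S T → A ≤ T → (∃ x ∈ H ⊓ Subgroup.normalizer (T : Set G), x ∉ L) →
      ∃ T, WP p W H S T ∧ A ≤ T ∧
        H ⊓ Subgroup.normalizer (W (S ⊓ Subgroup.normalizer (T : Set G)) : Set G) ≤ L ∧
        ∃ x ∈ H ⊓ Subgroup.normalizer (T : Set G), x ∉ L from key _ T rfl hT hAT ⟨x, hx, hxL⟩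
  intro n
  induction n using Nat.strong_induction_on with
  | _ n ih =>
  intro T hn hT hAT hmove
  by_cases hle : H ⊓ Subgroup.normalizer (W (S ⊓ Subgroup.normalizer (T : Set G)) : Set G) ≤ L
  · exact ⟨T, hT, hAT, hle, hmove⟩
  obtain ⟨y, hy, hyL⟩ := Set.not_subset.1 hle
  have hQS : S ⊓ Subgroup.normalizer (T : Set G) ≠ S := fun he => hyL (hWL (by rwa [he] at hy))
  have hlt := tower_lt hW h.pg 0 (T := T) hQS
  have hA1 : A ≤ functorTower W S T 1 := fun a ha => hWZ _ (h.pg.to_le inf_le_left)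
    ⟨⟨hAS ha, Subgroup.le_normalizer (hAT ha)⟩, fun q hq => (hAC ha) q hq.1⟩
  refine ih _ ?_ _ rfl (hT.tail hW h.pg) hA1 ⟨y, hy, hyL⟩
  have h1 : Nat.card ↥(S ⊓ Subgroup.normalizer (T : Set G)) <
      Nat.card ↥(S ⊓ Subgroup.normalizer (functorTower W S T 1 : Set G)) :=
    lt_of_not_ge fun hge => hlt.ne (Subgroup.eq_of_le_of_card_ge hlt.le hge)
  have h2 := Subgroup.card_le_of_le
    (inf_le_left : S ⊓ Subgroup.normalizer (functorTower W S T 1 : Set G) ≤ S)
  omega

end

end CfsgLib.Glau
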