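import Cfsg.Agent.Lie.ProjLine
import Cfsg.Agent.Lie.Orders
import Cfsg.Agent.Inv.DihedralSylow
import Cfsg.Agent.Solv.Basic
import Cfsg.Agent.Fus.Functor
import Mathlib

/-!
Involutions and Sylow 2-subgroups of `PSL₂(F)`, `F` finite of odd order with `16 ∣ q² - 1`.
-/

set_option autoImplicit false
set_option linter.style.haveILetI false

namespace CfsgLib.Fus.PSL2Two

open scoped Matrix

variable {F : Type*} [Field F] [Fintype F]

theorem ringChar_ne_two (hodd : Fintype.card F % 2 = 1) : ringChar F ≠ 2 :=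
  fun h => absurd ((FiniteField.even_card_iff_char_two (F := F)).1 h) (by omega)

theorem two_ne_zero' (hodd : Fintype.card F % 2 = 1) : (2 : F) ≠ 0 := Ring.two_ne_zero (ringChar_ne_two hodd)

/-- Sums of two squares fill a finite field of odd order. -/
theorem exists_two_squares (hodd : Fintype.card F % 2 = 1) (d : F) : ∃ x y : F, x ^ 2 + y ^ 2 = d := by
  obtain ⟨x, y, h⟩ := FiniteField.exists_root_sum_quadratic (f := (Polynomial.X : Polynomial F) ^ 2)
    (g := (Polynomial.X : Polynomial F) ^ 2 - Polynomial.C d) (Polynomial.degree_X_pow 2)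
    (Polynomial.degree_X_pow_sub_C (by norm_num) d) hodd
  refine ⟨x, y, ?_⟩
  simp only [Polynomial.eval_pow, Polynomial.eval_X, Polynomial.eval_sub, Polynomial.eval_C] at h
  linear_combination h

/-- The element `!![0, -1; 1, 0]`. -/
def jEl : Matrix.SpecialLinearGroup (Fin 2) F := ⟨!![0, -1; 1, 0], by simp [Matrix.det_fin_two]⟩

theorem neg_one_mem_center : (-1 : Matrix.SpecialLinearGroup (Fin 2) F) ∈ Subgroup.center (Matrix.SpecialLinearGroup (Fin 2) F) := by
  rw [Subgroup.mem_center_iff]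
  intro g
  rw [mul_neg_one, neg_one_mul]

theorem mem_center_cases {g : Matrix.SpecialLinearGroup (Fin 2) F} (hg : g ∈ Subgroup.center (Matrix.SpecialLinearGroup (Fin 2) F)) :
    g = 1 ∨ g = -1 := by
  obtain ⟨r, hr, hrg⟩ := Matrix.SpecialLinearGroup.mem_center_iff.1 hg
  rw [Fintype.card_fin, sq_eq_one_iff] at hr
  rcases hr with rfl | rfl
  · left
    refine Subtype.ext ?_
    rw [← hrg]
    ext i j
    fin_cases i <;> fin_cases j <;> simp
  · right
    refine Subtype.ext ?_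
    rw [← hrg]
    ext i j
    fin_cases i <;> fin_cases j <;> simp

theorem entries {g : Matrix.SpecialLinearGroup (Fin 2) F} {M : Matrix (Fin 2) (Fin 2) F} (h : (g : Matrix (Fin 2) (Fin 2) F) * g = M) :
    g 0 0 * g 0 0 + g 0 1 * g 1 0 = M 0 0 ∧ g 0 0 * g 0 1 + g 0 1 * g 1 1 = M 0 1 ∧
      g 1 0 * g 0 0 + g 1 1 * g 1 0 = M 1 0 ∧ g 1 0 * g 0 1 + g 1 1 * g 1 1 = M 1 1 ∧
      g 0 0 * g 1 1 - g 0 1 * g 1 0 = 1 := by
  have hd := g.2
  rw [Matrix.det_fin_two] at hd
  subst h
  simp only [Matrix.mul_apply, Fin.sum_univ_two]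
  exact ⟨trivial, trivial, trivial, trivial, hd⟩

/-- The only elements squaring to one are the scalars. -/
theorem sq_eq_one_cases (hodd : Fintype.card F % 2 = 1) {g : Matrix.SpecialLinearGroup (Fin 2) F} (h : g * g = 1) :
    g = 1 ∨ g = -1 := by
  have h2 := two_ne_zero' hodd
  obtain ⟨e00, e01, e10, e11, hd⟩ := entries (show (g : Matrix (Fin 2) (Fin 2) F) * g = 1 from congrArg Subtype.val h)
  simp only [Matrix.one_apply_eq, Matrix.one_apply_ne (show (0 : Fin 2) ≠ 1 by decide),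
    Matrix.one_apply_ne (show (1 : Fin 2) ≠ 0 by decide)] at e00 e01 e10 e11
  -- the trace is not zero
  have ht : g 0 0 + g 1 1 ≠ 0 := by
    intro ht
    have : (2 : F) = 0 := by linear_combination e00 * (-1 : F) - hd + g 0 0 * ht
    exact h2 this
  have hb : g 0 1 = 0 := by
    have : g 0 1 * (g 0 0 + g 1 1) = 0 := by linear_combination e01
    exact (mul_eq_zero.1 this).resolve_right ht
  have hc : g 1 0 = 0 := by
    have : g 1 0 * (g 0 0 + g 1 1) = 0 := by linear_combination e10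
    exact (mul_eq_zero.1 this).resolve_right ht
  rw [hb, zero_mul, add_zero] at e00
  rw [hb, zero_mul, sub_zero] at hd
  rcases mul_self_eq_one_iff.1 e00 with ha | ha
  · left
    rw [ha, one_mul] at hd
    ext i j
    fin_cases i <;> fin_cases j <;> simp [ha, hb, hc, hd]
  · right
    rw [ha] at hd
    have hd' : g 1 1 = -1 := by linear_combination -hd
    ext i j
    fin_cases i <;> fin_cases j <;> simp [ha, hb, hc, hd']

/-- Elements squaring to `-1` are conjugate to `jEl`. -/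
theorem exists_conj_j (hodd : Fintype.card F % 2 = 1) {g : Matrix.SpecialLinearGroup (Fin 2) F} (h : g * g = -1) :
    ∃ k : Matrix.SpecialLinearGroup (Fin 2) F, g = k * jEl * k⁻¹ := by
  have h2 := two_ne_zero' hodd
  obtain ⟨e00, e01, e10, e11, hd⟩ := entries (show (g : Matrix (Fin 2) (Fin 2) F) * g = -1 from congrArg Subtype.val h)
  simp only [Matrix.neg_apply, Matrix.one_apply_eq, Matrix.one_apply_ne (show (0 : Fin 2) ≠ 1 by decide),
    Matrix.one_apply_ne (show (1 : Fin 2) ≠ 0 by decide), neg_zero] at e00 e01 e10 e11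
  have ht : g 1 1 = -(g 0 0) := by
    by_contra hne
    have hne' : g 0 0 + g 1 1 ≠ 0 := fun h0 => hne (by linear_combination h0)
    have hb : g 0 1 = 0 := by
      have : g 0 1 * (g 0 0 + g 1 1) = 0 := by linear_combination e01
      exact (mul_eq_zero.1 this).resolve_right hne'
    rw [hb, zero_mul, sub_zero] at hd
    rw [hb, zero_mul, add_zero] at e00
    rw [hb, mul_zero, zero_add] at e11
    refine hne ?_
    linear_combination g 1 1 * e00 + (-1 : F) * g 0 0 * hd
  -- a basis `v, g v`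
  obtain ⟨v₀, v₁, hdet⟩ : ∃ v₀ v₁ : F,
      v₀ * (g 1 0 * v₀ + g 1 1 * v₁) - v₁ * (g 0 0 * v₀ + g 0 1 * v₁) ≠ 0 := by
    by_cases hc : g 1 0 = 0
    · by_cases hb : g 0 1 = 0
      · refine ⟨1, 1, ?_⟩
        rw [hc, hb, ht]
        intro h0
        have ha : g 0 0 = 0 := by
          have : (2 : F) * g 0 0 = 0 := by linear_combination -h0
          exact (mul_eq_zero.1 this).resolve_left h2
        rw [ha, hb, zero_mul, zero_mul, add_zero] at e00
        exact (neg_ne_zero.2 (one_ne_zero (α := F))) e00.symm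
      · exact ⟨0, 1, by simpa using hb⟩
    · exact ⟨1, 0, by simpa using hc⟩
  set d := v₀ * (g 1 0 * v₀ + g 1 1 * v₁) - v₁ * (g 0 0 * v₀ + g 0 1 * v₁) with hddef
  obtain ⟨x, y, hxy⟩ := exists_two_squares hodd d⁻¹
  set M : Matrix (Fin 2) (Fin 2) F := !![v₀ * x + (g 0 0 * v₀ + g 0 1 * v₁) * y,
    (g 0 0 * v₀ + g 0 1 * v₁) * x - v₀ * y; v₁ * x + (g 1 0 * v₀ + g 1 1 * v₁) * y,
    (g 1 0 * v₀ + g 1 1 * v₁) * x - v₁ * y] with hM
  have hMdet : M.det = 1 := by
    rw [hM, Matrix.det_fin_two]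
    simp only [Matrix.of_apply, Matrix.cons_val', Matrix.cons_val_zero, Matrix.cons_val_one, Matrix.cons_val_fin_one]
    calc _ = (x ^ 2 + y ^ 2) * d := by rw [hddef]; ring
      _ = 1 := by rw [hxy, inv_mul_cancel₀ hdet]
  refine ⟨⟨M, hMdet⟩, eq_mul_inv_iff_mul_eq.2 (Subtype.ext ?_)⟩
  show (g : Matrix (Fin 2) (Fin 2) F) * M = M * !![0, -1; 1, 0]
  rw [ht] at e01 e10 e11
  ext i j
  fin_cases i <;> fin_cases j <;> simp [hM, Matrix.mul_apply, Fin.sum_univ_two, ht]
  · linear_combination (v₀ * y) * e00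
  · linear_combination (v₀ * x) * e00
  · linear_combination (v₁ * y) * e00
  · linear_combination (v₁ * x) * e00

/-- All involutions of `PSL₂(F)` are conjugate. -/
theorem one_class (hodd : Fintype.card F % 2 = 1) {u v : Matrix.ProjectiveSpecialLinearGroup (Fin 2) F}
    (hu : orderOf u = 2) (hv : orderOf v = 2) : ∃ g, g * u * g⁻¹ = v := by
  suffices key : ∀ w : Matrix.ProjectiveSpecialLinearGroup (Fin 2) F, orderOf w = 2 →
      ∃ k, w = k * QuotientGroup.mk jEl * k⁻¹ by
    obtain ⟨k, rfl⟩ := key u hu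
    obtain ⟨l, rfl⟩ := key v hv
    exact ⟨l * k⁻¹, by group⟩
  intro w hw
  obtain ⟨g, rfl⟩ := QuotientGroup.mk_surjective w
  have h1 : g * g ∈ Subgroup.center (Matrix.SpecialLinearGroup (Fin 2) F) := by
    have h2 : (QuotientGroup.mk g : Matrix.ProjectiveSpecialLinearGroup (Fin 2) F) ^ 2 = 1 := by
      have h3 := pow_orderOf_eq_one (QuotientGroup.mk g : Matrix.ProjectiveSpecialLinearGroup (Fin 2) F)
      rwa [hw] at h3
    rw [← QuotientGroup.eq_one_iff, QuotientGroup.mk_mul, ← pow_two, h2]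
  rcases mem_center_cases h1 with h | h
  · exfalso
    have hone : (QuotientGroup.mk g : Matrix.ProjectiveSpecialLinearGroup (Fin 2) F) = 1 := by
      rw [QuotientGroup.eq_one_iff]
      rcases sq_eq_one_cases hodd h with rfl | rfl
      · exact one_mem _
      · exact neg_one_mem_center
    rw [hone, orderOf_one] at hw
    exact absurd hw (by norm_num)
  · obtain ⟨k, rfl⟩ := exists_conj_j hodd h
    exact ⟨QuotientGroup.mk k, by simp⟩

/-- The split torus. -/
theorem exists_split_torus (q : ℕ) (hq : Fintype.card F = q) :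
    ∃ a w : Matrix.SpecialLinearGroup (Fin 2) F, orderOf a = q - 1 ∧ w * a * w⁻¹ = a⁻¹ ∧ w * w = -1 := by
  obtain ⟨t, ht⟩ := IsCyclic.exists_ofOrder_eq_natCard (α := Fˣ)
  let f : Fˣ →* Matrix.SpecialLinearGroup (Fin 2) F :=
    { toFun := fun s => ⟨!![(s : F), 0; 0, ((s⁻¹ : Fˣ) : F)], by simp [Matrix.det_fin_two]⟩
      map_one' := by ext i j; fin_cases i <;> fin_cases j <;> simp
      map_mul' := fun r s => Subtype.ext (by
        show _ = !![(r : F), 0; 0, ((r⁻¹ : Fˣ) : F)] * !![(s : F), 0; 0, ((s⁻¹ : Fˣ) : F)]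
        rw [Matrix.mul_fin_two]
        ext i j
        fin_cases i <;> fin_cases j <;> simp [mul_comm]) }
  have hf : Function.Injective f := fun r s h => Units.ext (congrArg (fun g : Matrix.SpecialLinearGroup (Fin 2) F => g 0 0) h)
  refine ⟨f t, jEl, ?_, ?_, ?_⟩
  · rw [orderOf_injective f hf, ht, Nat.card_units, Nat.card_eq_fintype_card, hq]
  · rw [mul_inv_eq_iff_eq_mul, ← map_inv]
    refine Subtype.ext ?_
    show !![(0 : F), -1; 1, 0] * !![(t : F), 0; 0, ((t⁻¹ : Fˣ) : F)] =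
      !![((t⁻¹ : Fˣ) : F), 0; 0, (((t⁻¹)⁻¹ : Fˣ) : F)] * !![(0 : F), -1; 1, 0]
    ext i j; fin_cases i <;> fin_cases j <;> simp [Matrix.mul_apply, Fin.sum_univ_two]
  · refine Subtype.ext ?_
    show !![(0 : F), -1; 1, 0] * !![(0 : F), -1; 1, 0] = -1
    ext i j; fin_cases i <;> fin_cases j <;> simp [Matrix.mul_apply, Fin.sum_univ_two]

/-- The nonsplit torus. -/
theorem exists_nonsplit_torus (q : ℕ) (hq : Fintype.card F = q) (hodd : Fintype.card F % 2 = 1) (h3 : q % 4 = 3)
    (hqsq : (q - 1) * (q + 1) = q ^ 2 - 1) :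
    ∃ a w : Matrix.SpecialLinearGroup (Fin 2) F, orderOf a = q + 1 ∧ w * a * w⁻¹ = a⁻¹ ∧ w * w = -1 := by
  have hq1 : 1 < q := hq ▸ Fintype.one_lt_card
  have hns : ¬ IsSquare (-1 : F) := fun h => (hq ▸ FiniteField.isSquare_neg_one_iff.1 h) h3
  haveI : Fact (∀ r : F, r ^ 2 ≠ (-1 : F) + 0 * r) := ⟨fun r hr => hns ⟨r, by linear_combination -hr⟩⟩
  haveI : Finite (QuadraticAlgebra F (-1) 0) := Finite.of_equiv _ (QuadraticAlgebra.equivProd (-1 : F) 0).symm
  have hK : Nat.card (QuadraticAlgebra F (-1) 0) = q * q := by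
    rw [Nat.card_congr (QuadraticAlgebra.equivProd (-1 : F) 0), Nat.card_prod, Nat.card_eq_fintype_card, hq]
  obtain ⟨z, hz⟩ := IsCyclic.exists_ofOrder_eq_natCard (α := (QuadraticAlgebra F (-1) 0)ˣ)
  rw [Nat.card_units, hK, ← pow_two, ← hqsq] at hz
  set z' := z ^ (q - 1) with hz'
  have hzo : orderOf z' = q + 1 := by
    rw [hz', orderOf_pow' _ (by omega : q - 1 ≠ 0), hz, Nat.gcd_eq_right (dvd_mul_right _ _),
      Nat.mul_div_cancel_left _ (by omega)]
  set c : QuadraticAlgebra F (-1) 0 := (z' : QuadraticAlgebra F (-1) 0) with hc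
  have hnorm : c.re * c.re + c.im * c.im = 1 := by
    have h1 : QuadraticAlgebra.norm c = 1 := by
      rw [hc, hz', Units.val_pow_eq_pow_val, map_pow]
      rw [← hq]; refine FiniteField.pow_card_sub_one_eq_one _ (fun h0 => z.ne_zero ?_)
      exact QuadraticAlgebra.norm_eq_zero_iff_eq_zero.1 h0
    rw [QuadraticAlgebra.norm_def] at h1
    linear_combination h1
  let φ : QuadraticAlgebra F (-1) 0 →* Matrix (Fin 2) (Fin 2) F :=
    { toFun := fun z => !![z.re, -z.im; z.im, z.re]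
      map_one' := by ext i j; fin_cases i <;> fin_cases j <;> simp <;> rfl
      map_mul' := fun r s => by
        ext i j; fin_cases i <;> fin_cases j <;> simp [Matrix.mul_apply, Fin.sum_univ_two] <;> ring }
  have hφ : Function.Injective φ := fun r s h =>
    QuadraticAlgebra.ext (congrArg (fun M : Matrix (Fin 2) (Fin 2) F => M 0 0) h)
      (congrArg (fun M : Matrix (Fin 2) (Fin 2) F => M 1 0) h)
  let a : Matrix.SpecialLinearGroup (Fin 2) F := ⟨φ c, by simp [φ, Matrix.det_fin_two]; linear_combination hnorm⟩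
  obtain ⟨u, v, huv⟩ := exists_two_squares hodd (-1 : F)
  let w : Matrix.SpecialLinearGroup (Fin 2) F := ⟨!![u, v; v, -u], by simp [Matrix.det_fin_two]; linear_combination -huv⟩
  refine ⟨a, w, ?_, ?_, ?_⟩
  · rw [← orderOf_injective (Matrix.SpecialLinearGroup.toGL (n := Fin 2) (R := F)) (fun r s h =>
      Subtype.ext (congrArg Units.val h)), ← orderOf_units, ← hzo, ← orderOf_units (y := z')]
    exact orderOf_injective φ hφ c
  · rw [mul_inv_eq_iff_eq_mul, eq_inv_mul_iff_mul_eq]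
    refine Subtype.ext ?_
    show φ c * (!![u, v; v, -u] * φ c) = !![u, v; v, -u]
    ext i j
    fin_cases i <;> fin_cases j <;> simp [φ, Matrix.mul_apply, Fin.sum_univ_two]
    · linear_combination u * hnorm
    · linear_combination v * hnorm
    · linear_combination v * hnorm
    · linear_combination -u * hnorm
  · refine Subtype.ext ?_
    show !![u, v; v, -u] * !![u, v; v, -u] = -1
    ext i j
    fin_cases i <;> fin_cases j <;> simp [Matrix.mul_apply, Fin.sum_univ_two]
    · linear_combination huv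
    · ring
    · ring
    · linear_combination huv

/-- An element of order `q - 1` or `q + 1` inverted by an element squaring to `-1`. -/
theorem exists_torus (hodd : Fintype.card F % 2 = 1) :
    ∃ (n n' : ℕ) (a w : Matrix.SpecialLinearGroup (Fin 2) F), orderOf a = n ∧ w * a * w⁻¹ = a⁻¹ ∧ w * w = -1 ∧
      n * n' = Fintype.card F ^ 2 - 1 ∧ n' % 4 = 2 := by
  set q := Fintype.card F with hq
  have hq1 : 1 < q := Fintype.one_lt_card
  have hqsq : (q - 1) * (q + 1) = q ^ 2 - 1 := by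
    have := Nat.sq_sub_sq q 1
    rw [one_pow] at this
    rw [this, mul_comm]
  by_cases h4 : q % 4 = 1
  · obtain ⟨a, w, h1, h2, h3⟩ := exists_split_torus q hq.symm
    exact ⟨q - 1, q + 1, a, w, h1, h2, h3, hqsq, by omega⟩
  · obtain ⟨a, w, h1, h2, h3⟩ := exists_nonsplit_torus q hq.symm hodd (by omega) hqsq
    exact ⟨q + 1, q - 1, a, w, h1, h2, h3, (mul_comm _ _).trans hqsq, by omega⟩

/-- A Sylow 2-subgroup generated by two involutions, whose normalizer induces inner automorphisms only. -/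
theorem exists_sylow_data (hodd : Fintype.card F % 2 = 1) (h16 : 16 ∣ Fintype.card F ^ 2 - 1) :
    ∃ (D : Subgroup (Matrix.ProjectiveSpecialLinearGroup (Fin 2) F)) (r s : Matrix.ProjectiveSpecialLinearGroup (Fin 2) F),
      CfsgLib.Glau.Syl 2 D ⊤ ∧ orderOf r = 2 ∧ orderOf s = 2 ∧ D = Subgroup.closure {r, s} ∧
      ∀ g ∈ Subgroup.normalizer (D : Set (Matrix.ProjectiveSpecialLinearGroup (Fin 2) F)), Odd (orderOf g) →
        ∀ d ∈ D, g * d = d * g := by
  haveI : Fact (Nat.Prime 2) := ⟨Nat.prime_two⟩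
  set q := Fintype.card F with hq
  obtain ⟨n, n', a, w, ha, hwa, hww, hnn, hn'⟩ := exists_torus hodd
  have hn0 : n ≠ 0 := ha ▸ (orderOf_pos a).ne'
  obtain ⟨k, m, hm, hkm⟩ := Nat.exists_eq_two_pow_mul_odd hn0
  obtain ⟨m', hm'⟩ : ∃ m', n' = 2 * m' := ⟨n' / 2, by omega⟩
  have hm'o : Odd m' := Nat.odd_iff.2 (by omega)
  have hk : 3 ≤ k := by
    by_contra hlt
    have h16' : 16 ∣ 2 ^ (k + 1) * (m * m') := by
      rw [show 2 ^ (k + 1) * (m * m') = n * n' by rw [hkm, hm']; ring, hnn]; exact h16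
    have h3 : 2 ^ 4 ∣ 2 ^ (k + 1) := (Nat.Coprime.dvd_of_dvd_mul_right
      (Nat.Coprime.pow_left 4 (Nat.coprime_two_left.2 (hm.mul hm'o))) h16')
    have := (Nat.pow_dvd_pow_iff_le_right (by norm_num : 1 < 2)).1 h3
    omega
  set b := a ^ m with hb
  have hbo : orderOf b = 2 ^ k := by
    rw [hb, orderOf_pow' _ hm.pos.ne', ha, hkm, Nat.gcd_eq_right (dvd_mul_left _ _), Nat.mul_div_cancel _ hm.pos]
  have hwb : w * b * w⁻¹ = b⁻¹ := by rw [hb, ← conj_pow, hwa, inv_pow]
  let π := QuotientGroup.mk' (Subgroup.center (Matrix.SpecialLinearGroup (Fin 2) F))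
  have hπ : Function.Surjective π := QuotientGroup.mk'_surjective _
  have hker : ∀ g, π g = 1 → g = 1 ∨ g = -1 := fun g hg => mem_center_cases ((QuotientGroup.eq_one_iff _).1 hg)
  have hneg : π (-1) = 1 := (QuotientGroup.eq_one_iff _).2 neg_one_mem_center
  set x := π b with hx
  set y := π w with hy
  have hhalf : b ^ 2 ^ (k - 1) = -1 := by
    have h1 : b ^ 2 ^ (k - 1) * b ^ 2 ^ (k - 1) = 1 := by
      rw [← pow_add, ← two_mul, ← pow_succ', Nat.sub_add_cancel (by omega), ← hbo, pow_orderOf_eq_one]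
    refine (sq_eq_one_cases hodd h1).resolve_left fun h => ?_
    have h2 := orderOf_dvd_of_pow_eq_one h
    rw [hbo, Nat.pow_dvd_pow_iff_le_right (by norm_num : 1 < 2)] at h2
    omega
  have hxo : orderOf x = 2 ^ (k - 1) := by
    have h1 : x ^ 2 ^ (k - 1) = 1 := by rw [hx, ← map_pow, hhalf, hneg]
    obtain ⟨j, hj, hje⟩ := (Nat.dvd_prime_pow Nat.prime_two).1 (orderOf_dvd_of_pow_eq_one h1)
    have h2 : x ^ 2 ^ j = 1 := hje ▸ pow_orderOf_eq_one x
    rw [hx, ← map_pow] at h2
    have h3 : b ^ 2 ^ (j + 1) = 1 := by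
      rw [pow_succ, pow_mul]
      rcases hker _ h2 with h | h <;> simp [h]
    have h4 := orderOf_dvd_of_pow_eq_one h3
    rw [hbo, Nat.pow_dvd_pow_iff_le_right (by norm_num : 1 < 2)] at h4
    rw [hje]
    congr 1
    omega
  have hyx : y * x * y⁻¹ = x⁻¹ := by rw [hx, hy, ← map_inv, ← map_mul, ← map_mul, hwb, map_inv]
  have hy2 : y * y = 1 := by rw [hy, ← map_mul, hww, hneg]
  have hynx : y ∉ Subgroup.zpowers x := by
    intro h
    obtain ⟨j, hj⟩ := Subgroup.mem_zpowers_iff.1 h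
    have h1 : y * x * y⁻¹ = x := by rw [← hj]; group
    rw [h1] at hyx
    have h2 : x ^ 2 = 1 := by
      rw [pow_two]
      conv_lhs => arg 2; rw [hyx]
      exact mul_inv_cancel x
    have h3 := orderOf_dvd_of_pow_eq_one h2
    rw [hxo, show (2 : ℕ) = 2 ^ 1 from rfl, ← pow_mul, Nat.pow_dvd_pow_iff_le_right (by norm_num : 1 < 2)] at h3
    omega
  have hxyo : ∀ i : ℤ, x ^ i * y * (x ^ i * y) = 1 := by
    intro i
    have h1 : y * x ^ i = x ^ (-i) * y := by
      rw [← mul_inv_eq_iff_eq_mul, ← conj_zpow, hyx, inv_zpow']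
    rw [mul_assoc, ← mul_assoc y, h1, mul_assoc (x ^ (-i)), hy2, mul_one, ← zpow_add, add_neg_cancel, zpow_zero]
  have hio : ∀ i : ℤ, orderOf (x ^ i * y) = 2 := fun i => orderOf_eq_prime (by rw [pow_two]; exact hxyo i)
    fun h => hynx (by
      rw [show y = (x ^ i)⁻¹ * (x ^ i * y) by group, h, mul_one]
      exact inv_mem (Subgroup.zpow_mem_zpowers x i))
  set D : Subgroup (Matrix.ProjectiveSpecialLinearGroup (Fin 2) F) := Subgroup.closure {y, x * y} with hD
  have hyD : y ∈ D := Subgroup.subset_closure (Or.inl rfl)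
  have hxD : x ∈ D := by
    have := D.mul_mem (Subgroup.subset_closure (Or.inr rfl : x * y ∈ ({y, x * y} : Set _))) (D.inv_mem hyD)
    rwa [mul_inv_cancel_right] at this
  -- the elements of `D`
  have hcases : ∀ d ∈ D, ∃ i : ℤ, d = x ^ i ∨ d = x ^ i * y := by
    intro d hd
    induction hd using Subgroup.closure_induction with
    | mem z hz =>
      rcases hz with rfl | rfl
      · exact ⟨0, Or.inr (by simp)⟩
      · exact ⟨1, Or.inr (by simp)⟩
    | one => exact ⟨0, Or.inl (by simp)⟩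
    | mul z z' _ _ hz hz' =>
      obtain ⟨i, hi⟩ := hz
      obtain ⟨j, hj⟩ := hz'
      have h1 : ∀ j : ℤ, y * x ^ j = x ^ (-j) * y := fun j => by
        rw [← mul_inv_eq_iff_eq_mul, ← conj_zpow, hyx, inv_zpow']
      rcases hi with rfl | rfl <;> rcases hj with rfl | rfl
      · exact ⟨i + j, Or.inl (zpow_add x i j).symm⟩
      · exact ⟨i + j, Or.inr (by rw [← mul_assoc, zpow_add])⟩
      · exact ⟨i - j, Or.inr (by rw [mul_assoc, h1, ← mul_assoc, ← zpow_add, sub_eq_add_neg])⟩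
      · exact ⟨i - j, Or.inl (by
          rw [mul_assoc, ← mul_assoc y, h1, mul_assoc (x ^ (-j)), hy2, mul_one, ← zpow_add, sub_eq_add_neg])⟩
    | inv z _ hz =>
      obtain ⟨i, rfl | rfl⟩ := hz
      · exact ⟨-i, Or.inl (zpow_neg x i).symm⟩
      · exact ⟨i, Or.inr (inv_eq_of_mul_eq_one_right (hxyo i))⟩
  have hcardle : Nat.card D ≤ 2 * 2 ^ (k - 1) := by
    let f : Fin 2 × ↥(Subgroup.zpowers x) → D := fun v =>
      ⟨(v.2 : Matrix.ProjectiveSpecialLinearGroup (Fin 2) F) * y ^ (v.1 : ℕ),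
        D.mul_mem (Subgroup.zpowers_le.2 hxD v.2.2) (D.pow_mem hyD _)⟩
    have hf : Function.Surjective f := by
      rintro ⟨d, hd⟩
      obtain ⟨i, rfl | rfl⟩ := hcases d hd
      · exact ⟨(0, ⟨x ^ i, Subgroup.zpow_mem_zpowers x i⟩), Subtype.ext (by simp [f])⟩
      · exact ⟨(1, ⟨x ^ i, Subgroup.zpow_mem_zpowers x i⟩), Subtype.ext (by simp [f])⟩
    have := Nat.card_le_card_of_surjective f hf
    rwa [Nat.card_prod, Nat.card_fin, Nat.card_zpowers, hxo] at this
  have hcard : Nat.card D = 2 ^ k := by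
    have hdvd : Nat.card (Subgroup.zpowers x) ∣ Nat.card D := Subgroup.card_dvd_of_le (Subgroup.zpowers_le.2 hxD)
    rw [Nat.card_zpowers, hxo] at hdvd
    obtain ⟨c, hc⟩ := hdvd
    have hlt : Nat.card (Subgroup.zpowers x) < Nat.card D := by
      refine lt_of_le_of_ne (Subgroup.card_le_of_le (Subgroup.zpowers_le.2 hxD)) fun he => hynx ?_
      rw [Subgroup.eq_of_le_of_card_ge (Subgroup.zpowers_le.2 hxD) he.ge]
      exact hyD
    rw [Nat.card_zpowers, hxo, hc] at hlt
    rw [hc] at hcardle ⊢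
    have hp : 0 < 2 ^ (k - 1) := Nat.two_pow_pos _
    have hc2 : c = 2 := by nlinarith
    rw [hc2, ← pow_succ, Nat.sub_add_cancel (by omega)]
  -- the order of the group
  have hG : Nat.card (Matrix.ProjectiveSpecialLinearGroup (Fin 2) F) = 2 ^ k * (q * m * m') := by
    have h1 := CfsgLib.Lie.ProjLine.card_PSL_two (F := F) hq.symm
    rw [Nat.gcd_eq_left (show 2 ∣ q - 1 by omega), ← hnn, hkm, hm'] at h1
    refine Nat.eq_of_mul_eq_mul_left two_pos (h1.trans ?_)
    ring
  have hqo : Odd q := Nat.odd_iff.2 hodd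
  have hS : CfsgLib.Glau.Syl 2 D ⊤ := by
    refine ⟨le_top, IsPGroup.of_card hcard, ?_⟩
    rw [Subgroup.relIndex_top_right]
    intro hd
    have h2 := D.card_mul_index
    rw [hcard, hG] at h2
    rw [Nat.eq_of_mul_eq_mul_left (Nat.two_pow_pos k) h2] at hd
    have : Odd (q * m * m') := (hqo.mul hm).mul hm'o
    exact (Nat.not_even_iff_odd.2 this) (even_iff_two_dvd.2 hd)
  refine ⟨D, y, x * y, hS, ?_, ?_, rfl, fun g hg hgo => ?_⟩
  · simpa using hio 0
  · simpa using hio 1
  -- odd elements of the normalizer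
  have hgx : g * x * g⁻¹ ∈ Subgroup.zpowers x := by
    obtain ⟨i, hi | hi⟩ := hcases _ ((Subgroup.mem_normalizer_iff.1 hg x).1 hxD)
    · rw [hi]; exact Subgroup.zpow_mem_zpowers x i
    · exfalso
      have h2 : orderOf (g * x * g⁻¹) = orderOf x := by
        rw [← MulAut.conj_apply]; exact MulEquiv.orderOf_eq _ x
      rw [hi, hio i, hxo] at h2
      have : 2 ^ 2 ≤ 2 ^ (k - 1) := Nat.pow_le_pow_right two_pos (by omega)
      omega
  have hcx : Commute g x := CfsgLib.Inv.commute_of_cyclic_two hgo (k - 1) x hxo hgx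
  have hcy : Commute g y := by
    obtain ⟨i, hi | hi⟩ := hcases _ ((Subgroup.mem_normalizer_iff.1 hg y).1 hyD)
    · exfalso
      refine hynx ?_
      rw [show y = g⁻¹ * (g * y * g⁻¹) * g by group, hi, (hcx.zpow_right i).inv_left.eq, inv_mul_cancel_right]
      exact Subgroup.zpow_mem_zpowers x i
    have hpow : ∀ t : ℕ, g ^ t * y * (g ^ t)⁻¹ = x ^ (i * t) * y := by
      intro t
      induction t with
      | zero => simp
      | succ t ih =>
        rw [pow_succ', show g * g ^ t * y * (g * g ^ t)⁻¹ = g * (g ^ t * y * (g ^ t)⁻¹) * g⁻¹ by group, ih,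
          show g * (x ^ (i * t) * y) * g⁻¹ = (g * x ^ (i * t) * g⁻¹) * (g * y * g⁻¹) by group, hi,
          (hcx.zpow_right _).eq, mul_inv_cancel_right, ← mul_assoc, ← zpow_add]
        congr 2
        push_cast; ring
    have h1 := hpow (orderOf g)
    rw [pow_orderOf_eq_one, one_mul, inv_one, mul_one, right_eq_mul] at h1
    have h2 := orderOf_dvd_iff_zpow_eq_one.2 h1
    rw [hxo] at h2
    have h3 : ((2 ^ (k - 1) : ℕ) : ℤ) ∣ i :=
      (Int.isCoprime_iff_nat_coprime.2 (by
        simpa using Nat.Coprime.pow_left (k - 1) (Nat.coprime_two_left.2 hgo))).dvd_of_dvd_mul_right h2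
    rw [← hxo, orderOf_dvd_iff_zpow_eq_one] at h3
    rw [h3, one_mul] at hi
    exact mul_inv_eq_iff_eq_mul.1 hi
  intro d hd
  obtain ⟨i, rfl | rfl⟩ := hcases d hd
  · exact (hcx.zpow_right i).eq
  · exact ((hcx.zpow_right i).mul_right hcy).eq

end CfsgLib.Fus.PSL2Two
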