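import Cfsg.Agent.Fus.Saturation

/-!
Normalizer and centralizer systems; joins of normal and central subgroups.
-/

set_option autoImplicit false
set_option linter.style.haveILetI false

open Cfsg Cfsg.FusionSystem

namespace CfsgLib.Fus

variable {Ω : Type*} [Group Ω] {S : Subgroup Ω} {F : FusionSystem S}

theorem IsMap.img_sup {A B M : Subgroup Ω} {f : Ω → Ω} (h : IsMap F M f) (hA : A ≤ M) (hB : B ≤ M) :
    img f (A ⊔ B) = img f A ⊔ img f B := by
  obtain ⟨φ, hφ, hf⟩ := h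
  have hev : ∀ C : Subgroup Ω, C ≤ M → img f C = (C.subgroupOf M).map φ := fun C hC => by
    rw [map_subgroupOf_eq_img φ hC]
    exact img_congr fun x hx => ((ev_of_mem φ (hC hx)).trans (hf _)).symm
  rw [hev _ (sup_le hA hB), hev _ hA, hev _ hB, Subgroup.subgroupOf_sup hA hB, Subgroup.map_sup]

/-- The conditions making a class of functions on `Q` usable to cut out a subsystem. -/
structure ExtCond (F : FusionSystem S) (Q T : Subgroup Ω) (C : (Ω → Ω) → Prop) : Prop where
  conj : ∀ a ∈ T, C (conjF a)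
  congr : ∀ {f g : Ω → Ω}, (∀ x ∈ Q, f x = g x) → C f → C g
  img_eq : ∀ {f : Ω → Ω}, C f → img f Q = Q
  comp : ∀ {f g : Ω → Ω}, IsMap F Q f → C f → C g → C (g ∘ f)
  inv : ∀ {f g : Ω → Ω}, IsMap F Q f → C f → (∀ x ∈ Q, g (f x) = x) → C g

/-- The maps on subgroups of `T` that extend over `Q` by a map in the class `C`. -/
def extSystem (F : FusionSystem S) (Q T : Subgroup Ω) (hQ : Q ≤ S) (hT : T ≤ S)
    (C : (Ω → Ω) → Prop) (hC : ExtCond F Q T C) : FusionSystem T where
  Hom P := {φ | φ ∈ F.Hom P ∧ P ≤ T ∧ (∀ x : P, φ x ∈ T) ∧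
    ∃ ψ ∈ F.Hom (P ⊔ Q), (∀ x : P, ψ (Subgroup.inclusion le_sup_left x) = φ x) ∧ C (ev ψ)}
  le_of_mem h := ⟨h.2.1, h.2.2.1⟩
  injective_of_mem h := F.injective_of_mem h.1
  conj_mem := by
    intro P a hP ha
    refine ⟨F.conj_mem (hP.trans hT) (hT ha), hP,
      fun x => T.mul_mem (T.mul_mem ha (hP x.2)) (T.inv_mem ha), conjHom _ a,
      F.conj_mem (sup_le (hP.trans hT) hQ) (hT ha), fun x => rfl, hC.congr ?_ (hC.conj a ha)⟩
    intro x hx
    exact (ev_of_mem (conjHom (P ⊔ Q) a) (le_sup_right (a := P) hx)).symm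
  comp_mem := by
    rintro P R φ χ ⟨hφ, hP, hφT, ψ, hψ, hψe, hψC⟩ ⟨hχ, hR, hχT, η, hη, hηe, hηC⟩ h
    refine ⟨F.comp_mem hφ hχ h, hP, fun x => hχT _, ?_⟩
    have hm := IsMap.of_hom hψ
    have hev : ∀ x ∈ P, ev ψ x ∈ R := fun x hx => by
      rw [ev_of_mem ψ (le_sup_left (b := Q) hx)]
      exact hψe ⟨x, hx⟩ ▸ h ⟨x, hx⟩
    have hle : img (ev ψ) (P ⊔ Q) ≤ R ⊔ Q := by
      rw [hm.img_sup le_sup_left le_sup_right, hC.img_eq hψC]
      exact sup_le_sup_right (img_le_iff.2 hev) _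
    obtain ⟨θ, hθ, hθf⟩ := hm.comp (IsMap.of_hom hη) fun x hx => hle (mem_img_of_mem hx)
    refine ⟨θ, hθ, fun x => ?_, hC.congr (fun x hx => ?_) (hC.comp (hm.mono le_sup_right) hψC hηC)⟩
    · rw [hθf]
      simp only [Function.comp_apply, Subgroup.coe_inclusion]
      rw [ev_of_mem ψ (le_sup_left (b := Q) x.2)]
      have h1 : ψ ⟨(x : Ω), le_sup_left (b := Q) x.2⟩ = φ x := hψe x
      rw [h1, ev_of_mem η (le_sup_left (b := Q) (h x))]
      exact hηe ⟨φ x, h x⟩
    · exact ((ev_of_mem θ (le_sup_right (a := P) hx)).trans (hθf _)).symm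
  inv_mem := by
    rintro P φ ⟨hφ, hP, hφT, ψ, hψ, hψe, hψC⟩
    have hm := IsMap.of_hom hψ
    obtain ⟨g, hg, hgl, -, hgi⟩ := hm.inv
    have hev : ∀ x : P, ev ψ (x : Ω) = φ x := fun x =>
      (ev_of_mem ψ (le_sup_left (b := Q) x.2)).trans (hψe x)
    have hr : img (ev ψ) P = φ.range := by
      rw [← img_ev φ]
      exact img_congr fun x hx => (hev ⟨x, hx⟩).trans (ev_of_mem φ hx).symm
    rw [hm.img_sup le_sup_left le_sup_right, hC.img_eq hψC, hr] at hg
    obtain ⟨θ, hθ, hθf⟩ := hg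
    have hθ' : IsMap F (φ.range ⊔ Q) (ev θ) := IsMap.of_hom hθ
    have hval : ∀ x : P, ev θ (φ x) = (x : Ω) := fun x => by
      rw [ev_of_mem θ (le_sup_left (b := Q) ⟨x, rfl⟩), hθf]
      show g (φ x) = x
      rw [← hev x]
      exact hgl _ (le_sup_left (b := Q) x.2)
    refine ⟨θ.comp (Subgroup.inclusion le_sup_left),
      ⟨(hθ'.mono le_sup_left).hom_mem fun y => (ev_apply θ _).symm, ?_, ?_, θ, hθ, fun y => rfl, ?_⟩, ?_⟩
    · rintro _ ⟨x, rfl⟩; exact hφT x
    · rintro ⟨_, x, rfl⟩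
      show θ (Subgroup.inclusion _ ⟨φ x, _⟩) ∈ T
      have := hval x
      rw [ev_of_mem θ (le_sup_left (b := Q) ⟨x, rfl⟩)] at this
      exact this.symm ▸ hP x.2
    · refine hC.inv (hm.mono le_sup_right) hψC fun x hx => ?_
      have hxQ : ev ψ x ∈ Q := (hC.img_eq hψC).le (mem_img_of_mem hx)
      rw [ev_of_mem θ (le_sup_right (a := φ.range) hxQ), hθf]
      exact hgl x (le_sup_right (a := P) hx)
    · intro x
      have := hval x
      rw [ev_of_mem θ (le_sup_left (b := Q) ⟨x, rfl⟩)] at this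
      exact this

theorem exists_normalizerSystem (F : FusionSystem S) {Q : Subgroup Ω} (hQ : Q ≤ S) :
    ∃ E : FusionSystem (normalizerIn S Q), F.IsNormalizerSystem Q E := by
  have hC : ExtCond F Q (normalizerIn S Q) (fun f => img f Q = Q) :=
    { conj := fun a ha => le_antisymm
        (img_le_iff.2 fun x hx => conj_mem_of_normalizer ha.2 hx)
        (fun x hx => by
          have : conjF a (a⁻¹ * x * a) = x := by simp [mul_assoc]
          rw [← this]
          exact mem_img_of_mem (conj_mem_of_normalizer' ha.2 hx))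
      congr := fun h hf => (img_congr fun x hx => (h x hx).symm).trans hf
      img_eq := id
      comp := fun {f g} hm hf hg => by rw [hm.img_comp, hf, hg]
      inv := fun {f g} hm hf h => by
        calc img g Q = img g (img f Q) := by rw [hf]
          _ = img (g ∘ f) Q := (hm.img_comp g).symm
          _ = Q := (img_congr (g := id) h).trans (img_id Q) }
  refine ⟨extSystem F Q _ hQ inf_le_left _ hC, fun P => Set.ext fun φ => ?_⟩
  simp only [extSystem, normalizerHom, Set.mem_setOf_eq, map_subgroupOf_eq_img _ (le_sup_right (a := P))]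

theorem exists_centralizerSystem (F : FusionSystem S) {Q : Subgroup Ω} (hQ : Q ≤ S) :
    ∃ E : FusionSystem (centralizerIn S Q), F.IsCentralizerSystem Q E := by
  have hC : ExtCond F Q (centralizerIn S Q) (fun f => ∀ x ∈ Q, f x = x) :=
    { conj := fun a ha x hx => by rw [conjF_apply, ← ha.2 x hx, mul_inv_cancel_right]
      congr := fun h hf x hx => (h x hx).symm.trans (hf x hx)
      img_eq := fun hf => (img_congr (g := id) hf).trans (img_id Q)
      comp := fun {f g} _ hf hg x hx => by rw [Function.comp_apply, hf x hx, hg x hx]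
      inv := fun {f g} _ hf h x hx => by simpa only [hf x hx] using h x hx }
  refine ⟨extSystem F Q _ hQ inf_le_left _ hC, fun P => Set.ext fun φ => ?_⟩
  simp only [extSystem, centralizerHom, Set.mem_setOf_eq]
  refine and_congr_right fun _ => and_congr_right fun _ => and_congr_right fun _ =>
    exists_congr fun ψ => and_congr_right fun _ => and_congr_right fun _ =>
      ⟨fun h x => ?_, fun h x hx => (ev_of_mem ψ (le_sup_right (a := P) hx)).trans (h ⟨x, hx⟩)⟩
  rw [← ev_apply ψ]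
  exact h x x.2

theorem isNormal_sup {A B : Subgroup Ω} (hA : F.IsNormal A) (hB : F.IsNormal B) :
    F.IsNormal (A ⊔ B) := by
  rw [isNormal_iff] at hA hB ⊢
  refine ⟨sup_le hA.1 hB.1, fun P f hf => ?_⟩
  obtain ⟨g, hg, hge, hgA⟩ := hA.2 P f hf
  obtain ⟨h, hh, hhe, hhB⟩ := hB.2 _ g hg
  rw [sup_assoc] at hh
  refine ⟨h, hh, fun x hx => (hhe x (le_sup_left (b := A) hx)).trans (hge x hx), ?_⟩
  rw [hh.img_sup (le_sup_left.trans le_sup_right) (le_sup_right.trans le_sup_right), hhB,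
    img_congr (g := g) fun x hx => hhe x (le_sup_right (a := P) hx), hgA]

theorem isCentral_sup {A B : Subgroup Ω} (hA : F.IsCentral A) (hB : F.IsCentral B) :
    F.IsCentral (A ⊔ B) := by
  rw [isCentral_iff] at hA hB ⊢
  refine ⟨sup_le hA.1 hB.1, fun P f hf => ?_⟩
  obtain ⟨g, hg, hge, hgA⟩ := hA.2 P f hf
  obtain ⟨h, hh, hhe, hhB⟩ := hB.2 _ g hg
  rw [sup_assoc] at hh
  refine ⟨h, hh, fun x hx => (hhe x (le_sup_left (b := A) hx)).trans (hge x hx), ?_⟩
  have hfix : img h (A ⊔ B) ≤ A ⊔ B ∧ ∀ x ∈ A ⊔ B, h x = x := by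
    have hm := hh.mono (le_sup_right : A ⊔ B ≤ _)
    have : ∀ x ∈ A ⊔ B, h x = x := by
      intro x hx
      rw [Subgroup.sup_eq_closure] at hx
      suffices x ∈ A ⊔ B ∧ h x = x from this.2
      induction hx using Subgroup.closure_induction with
      | mem y hy =>
        rcases hy with hy | hy
        · exact ⟨le_sup_left (b := B) hy, (hhe y (le_sup_right (a := P) hy)).trans (hgA y hy)⟩
        · exact ⟨le_sup_right (a := A) hy, hhB y hy⟩
      | one => exact ⟨Subgroup.one_mem _, hm.map_one⟩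
      | mul a b _ _ iha ihb =>
        exact ⟨Subgroup.mul_mem _ iha.1 ihb.1, by rw [hm.map_mul iha.1 ihb.1, iha.2, ihb.2]⟩
      | inv a _ iha => exact ⟨Subgroup.inv_mem _ iha.1, by rw [hm.map_inv iha.1, iha.2]⟩
    exact ⟨img_le_iff.2 fun x hx => (this x hx).symm ▸ hx, this⟩
  exact hfix.2

theorem isNormal_bot : F.IsNormal ⊥ := by
  refine isNormal_iff.2 ⟨bot_le, fun P f hf => ?_⟩
  rw [sup_bot_eq]
  refine ⟨f, hf, fun _ _ => rfl, le_bot_iff.1 (img_le_iff.2 fun x hx => ?_)⟩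
  rw [Subgroup.mem_bot] at hx ⊢
  exact hx ▸ hf.map_one

theorem isCentral_bot : F.IsCentral ⊥ := by
  refine isCentral_iff.2 ⟨bot_le, fun P f hf => ?_⟩
  rw [sup_bot_eq]
  refine ⟨f, hf, fun _ _ => rfl, fun x hx => ?_⟩
  rw [Subgroup.mem_bot] at hx
  exact hx ▸ hf.map_one

theorem sSup_closed [Finite S] (C : Subgroup Ω → Prop) (hle : ∀ Q, C Q → Q ≤ S) (hb : C ⊥)
    (hs : ∀ A B, C A → C B → C (A ⊔ B)) : C (sSup {Q | C Q}) := by
  have hfin : {Q : Subgroup Ω | C Q}.Finite := by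
    have : Finite {Q : Subgroup Ω // Q ≤ S} :=
      Finite.of_injective (fun Q => (Q.1.subgroupOf S)) fun Q R h => Subtype.ext (by
        have := Subgroup.subgroupOf_inj.1 h
        rwa [inf_eq_left.2 Q.2, inf_eq_left.2 R.2] at this)
    haveI : Finite ↑{Q : Subgroup Ω | Q ≤ S} := this
    exact (Set.toFinite {Q : Subgroup Ω | Q ≤ S}).subset fun Q hQ => hle Q hQ
  obtain ⟨M, hM⟩ := hfin.exists_maximal ⟨⊥, hb⟩
  have : sSup {Q | C Q} = M := le_antisymm
    (sSup_le fun Q hQ => le_sup_right.trans (hM.2 (hs M Q hM.1 hQ) le_sup_left)) (le_sSup hM.1)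
  rw [this]
  exact hM.1

theorem isNormal_core [Finite S] : F.IsNormal F.core :=
  sSup_closed _ (fun _ h => h.1) isNormal_bot fun _ _ => isNormal_sup

theorem isCentral_center [Finite S] : F.IsCentral F.center :=
  sSup_closed _ (fun _ h => h.1) isCentral_bot fun _ _ => isCentral_sup

theorem le_core [Finite S] {Q : Subgroup Ω} (h : F.IsNormal Q) : Q ≤ F.core := le_sSup h

end CfsgLib.Fus
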