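import Mathlib
import Cfsg.Agent.Solv.Generation

/-!
Small lemmas on p-groups: rank three configurations, cyclicity, commutator power formula.
-/

set_option autoImplicit false

namespace CfsgLib.Fus

variable {G : Type*} [Group G] {p : ℕ}

/-- Power formula for elements with central commutator. -/
theorem mul_pow_of_central_comm {x y c : G} (h : y * x = x * y * c) (hx : c * x = x * c)
    (hy : c * y = y * c) (n : ℕ) : (x * y) ^ n = x ^ n * y ^ n * c ^ n.choose 2 := by
  have hyn : ∀ n : ℕ, y ^ n * x = x * y ^ n * c ^ n := by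
    intro n
    induction n with
    | zero => simp
    | succ n ih =>
      have hcy : Commute (c ^ n) y := (show Commute c y from hy).pow_left n
      calc y ^ (n + 1) * x = y * (y ^ n * x) := by rw [pow_succ', mul_assoc]
        _ = (y * x) * y ^ n * c ^ n := by rw [ih]; simp only [mul_assoc]
        _ = x * y * (c * y ^ n) * c ^ n := by rw [h]; simp only [mul_assoc]
        _ = x * y * (y ^ n * c) * c ^ n := by rw [((show Commute c y from hy).pow_right n).eq]
        _ = x * y ^ (n + 1) * c ^ (n + 1) := by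
          rw [pow_succ' y, pow_succ' c]; simp only [mul_assoc]
  induction n with
  | zero => simp
  | succ n ih =>
    have hcx : Commute (c ^ n.choose 2) x := (show Commute c x from hx).pow_left _
    have hcy : Commute (c ^ n.choose 2) y := (show Commute c y from hy).pow_left _
    have hcy' : Commute (c ^ n) y := (show Commute c y from hy).pow_left _
    calc (x * y) ^ (n + 1) = x ^ n * y ^ n * (c ^ n.choose 2 * x) * y := by
          rw [pow_succ, ih]; simp only [mul_assoc]
      _ = x ^ n * (y ^ n * x) * (c ^ n.choose 2 * y) := by rw [hcx.eq]; simp only [mul_assoc]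
      _ = x ^ n * (x * y ^ n * c ^ n) * (y * c ^ n.choose 2) := by rw [hyn, hcy.eq]
      _ = x ^ n * x * y ^ n * (c ^ n * y) * c ^ n.choose 2 := by simp only [mul_assoc]
      _ = x ^ n * x * (y ^ n * y) * (c ^ n * c ^ n.choose 2) := by rw [hcy'.eq]; simp only [mul_assoc]
      _ = x ^ (n + 1) * y ^ (n + 1) * c ^ (n + 1).choose 2 := by
          rw [← pow_succ, ← pow_succ, ← pow_add, Nat.choose_succ_succ, Nat.choose_one_right]

/-- The `p`-th power is multiplicative on two elements with central commutator killed by `p`. -/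
theorem mul_pow_p_of_central_comm (hp : 2 < p) [Fact p.Prime] {x y c : G} (h : y * x = x * y * c)
    (hx : c * x = x * c) (hy : c * y = y * c) (hc : c ^ p = 1) :
    (x * y) ^ p = x ^ p * y ^ p := by
  rw [mul_pow_of_central_comm h hx hy]
  obtain ⟨k, hk⟩ := (Fact.out : p.Prime).dvd_choose_self (k := 2) (by norm_num) hp
  rw [hk, pow_mul, hc, one_pow, mul_one]

theorem card_lt_card_of_lt [Finite G] {H K : Subgroup G} (h : H < K) : Nat.card H < Nat.card K :=
  lt_of_le_of_ne (Subgroup.card_le_of_le h.le) fun he =>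
    h.ne (Subgroup.eq_of_le_of_card_ge h.le he.ge)

/-- Three independent commuting elements of order `p` contradict `p`-rank two. -/
theorem no_rank_three [Finite G] [Fact p.Prime]
    (hr : ∀ A : Subgroup G, IsMulCommutative A → (∀ a ∈ A, a ^ p = 1) → Nat.card A ≤ p ^ 2)
    {a b c : G} (ha : a ^ p = 1) (hb : b ^ p = 1) (hc : c ^ p = 1) (hab : a * b = b * a)
    (hac : a * c = c * a) (hbc : b * c = c * b) (ha1 : a ≠ 1) (hb1 : b ∉ Subgroup.zpowers a) :
    c ∈ Subgroup.closure ({a, b} : Set G) := by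
  by_contra hcn
  set A := Subgroup.closure ({a, b, c} : Set G)
  haveI hA : IsMulCommutative A := Subgroup.isMulCommutative_closure fun x hx y hy => by
    simp only [Set.mem_insert_iff, Set.mem_singleton_iff] at hx hy
    rcases hx with rfl | rfl | rfl <;> rcases hy with rfl | rfl | rfl <;>
      first | rfl | assumption | exact hab.symm | exact hac.symm | exact hbc.symm
  have hexp : ∀ x ∈ A, x ^ p = 1 := by
    intro x hx
    have : ∀ x : A, x ^ p = 1 := by
      intro x
      obtain ⟨x, hx⟩ := x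
      induction hx using Subgroup.closure_induction with
      | mem y hy =>
        apply Subtype.ext
        simp only [Set.mem_insert_iff, Set.mem_singleton_iff] at hy
        rcases hy with rfl | rfl | rfl <;> assumption
      | one => exact Subtype.ext (one_pow p)
      | mul y z hy hz ihy ihz =>
        show ((⟨y, hy⟩ : A) * ⟨z, hz⟩) ^ p = 1
        rw [Commute.mul_pow (Subtype.ext (CfsgLib.Solv.commute_of_isMulCommutative hy hz)),
          ihy, ihz, one_mul]
      | inv y hy ih =>
        show ((⟨y, hy⟩ : A)⁻¹) ^ p = 1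
        rw [inv_pow, ih, inv_one]
    exact congrArg Subtype.val (this ⟨x, hx⟩)
  have hP : IsPGroup p A := fun x => ⟨1, Subtype.ext (by rw [pow_one]; exact hexp x x.2)⟩
  have hle := hr A hA hexp
  have hbot : (⊥ : Subgroup G) < Subgroup.zpowers a :=
    bot_lt_iff_ne_bot.2 fun h => ha1 (Subgroup.zpowers_eq_bot.1 h)
  have h2 : Subgroup.zpowers a < Subgroup.closure ({a, b} : Set G) := by
    refine lt_of_le_of_ne (Subgroup.zpowers_le.2 (Subgroup.subset_closure (by simp))) fun h => hb1 ?_
    rw [h]; exact Subgroup.subset_closure (by simp)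
  have h3 : Subgroup.closure ({a, b} : Set G) < A := by
    refine lt_of_le_of_ne (Subgroup.closure_mono (by intro x hx; simp at hx ⊢; tauto)) fun h => hcn ?_
    rw [h]; exact Subgroup.subset_closure (by simp)
  obtain ⟨k, hk⟩ := IsPGroup.iff_card.1 (hP.to_le (h2.le.trans h3.le))
  obtain ⟨l, hl⟩ := IsPGroup.iff_card.1 (hP.to_le h3.le)
  obtain ⟨m, hm⟩ := IsPGroup.iff_card.1 hP
  have c1 := card_lt_card_of_lt hbot
  have c2 := card_lt_card_of_lt h2
  have c3 := card_lt_card_of_lt h3
  rw [Subgroup.card_bot] at c1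
  rw [hk] at c1 c2
  rw [hl] at c2 c3
  rw [hm] at c3 hle
  have hp1 := (Fact.out : p.Prime).one_lt
  have e1 : 0 < k := Nat.pos_of_ne_zero fun h => by simp [h] at c1
  have e2 := (Nat.pow_lt_pow_iff_right hp1).1 c2
  have e3 := (Nat.pow_lt_pow_iff_right hp1).1 c3
  have e4 := (Nat.pow_le_pow_iff_right hp1).1 hle
  omega

/-- A `p`-group, `p` odd, with at most one subgroup of order `p` is cyclic. -/
theorem isCyclic_of_roots [Fact p.Prime] (hp : 2 < p) [Finite G] (hG : IsPGroup p G)
    (h : ∀ a b : G, a ^ p = 1 → b ^ p = 1 → a ≠ 1 → b ∈ Subgroup.zpowers a) : IsCyclic G := by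
  suffices key : ∀ (n : ℕ) (H : Subgroup G), Nat.card H = n → IsCyclic H by
    haveI := key _ ⊤ rfl
    exact isCyclic_of_surjective (Subgroup.topEquiv (G := G)) (Subgroup.topEquiv (G := G)).surjective
  intro n
  induction n using Nat.strong_induction_on with
  | _ n ih =>
  intro H hn
  rcases eq_or_ne H ⊥ with rfl | hH
  · infer_instance
  haveI : Nontrivial H := (Subgroup.nontrivial_iff_ne_bot H).2 hH
  obtain ⟨k, hk⟩ := IsPGroup.iff_card.1 (hG.to_subgroup H)
  have hk0 : k ≠ 0 := fun h0 => by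
    have := Finite.one_lt_card (α := H)
    rw [hk, h0, pow_zero] at this
    omega
  obtain ⟨k, rfl⟩ := Nat.exists_eq_succ_of_ne_zero hk0
  obtain ⟨M, hM⟩ := Sylow.exists_subgroup_card_pow_prime (G := H) p (n := k)
    (by rw [hk]; exact pow_dvd_pow p (Nat.le_succ k))
  set M' := M.map H.subtype
  have hM' : Nat.card M' = p ^ k := by
    rw [← hM]; exact (Nat.card_congr (M.equivMapOfInjective _ H.subtype_injective).toEquiv).symm
  have hidx : M.index = p := by
    have := M.card_mul_index
    rw [hM, hk, pow_succ] at this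
    exact Nat.eq_of_mul_eq_mul_left (pow_pos (Fact.out : p.Prime).pos k) this
  haveI := ih _ (hn ▸ hM' ▸ hk ▸ Nat.pow_lt_pow_right (Fact.out : p.Prime).one_lt (Nat.lt_succ_self k))
    M' rfl
  obtain ⟨a, ha⟩ := IsCyclic.exists_generator (α := M')
  obtain ⟨b, hbM⟩ : ∃ b : H, b ∉ M := by
    by_contra hcon
    push_neg at hcon
    have : M = ⊤ := eq_top_iff.2 fun x _ => hcon x
    rw [this, Subgroup.index_top] at hidx
    exact (Fact.out : p.Prime).one_lt.ne hidx
  haveI : M.Normal := Subgroup.normal_of_index_eq_minFac_card (by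
    rw [hidx, hk, Nat.Prime.pow_minFac Fact.out (Nat.succ_ne_zero k)])
  have hbp : (b : G) ^ p ∈ M' := ⟨b ^ p, hidx ▸ M.pow_index_mem b, rfl⟩
  have haz : Subgroup.zpowers ((a : M') : G) = M' := by
    refine le_antisymm (Subgroup.zpowers_le.2 a.2) fun x hx => ?_
    obtain ⟨i, hi⟩ := Subgroup.mem_zpowers_iff.1 (ha ⟨x, hx⟩)
    exact ⟨i, by simpa using congrArg (fun z : M' => (z : G)) hi⟩
  by_cases hgen : M' ≤ Subgroup.zpowers ((b : G) ^ p)
  · have htop : H = Subgroup.zpowers (b : G) := by
      refine le_antisymm ?_ (Subgroup.zpowers_le.2 b.2)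
      refine (Subgroup.eq_of_le_of_card_ge (Subgroup.zpowers_le.2 b.2) ?_).ge
      have h1 : M' < Subgroup.zpowers (b : G) := by
        refine lt_of_le_of_ne (hgen.trans (Subgroup.zpowers_le.2
          (Subgroup.pow_mem _ (Subgroup.mem_zpowers _) p))) fun he => hbM ?_
        have : (b : G) ∈ M' := he ▸ Subgroup.mem_zpowers _
        obtain ⟨m, hm, hme⟩ := this
        rwa [← Subtype.ext (a2 := b) hme]
      obtain ⟨l, hl⟩ := IsPGroup.iff_card.1 (hG.to_subgroup (Subgroup.zpowers (b : G)))
      have h2 := card_lt_card_of_lt h1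
      rw [hM', hl] at h2
      rw [hk, hl]
      exact Nat.pow_le_pow_right (Fact.out : p.Prime).pos
        ((Nat.pow_lt_pow_iff_right (Fact.out : p.Prime).one_lt).1 h2)
    rw [htop]; infer_instance
  · exfalso
    -- `b ^ p = a ^ (p * i)`
    obtain ⟨j, hj⟩ := Subgroup.mem_zpowers_iff.1 (haz.symm ▸ hbp : (b : G) ^ p ∈ Subgroup.zpowers (a : G))
    have hjp : (p : ℤ) ∣ j := by
      by_contra hnd
      refine hgen ?_
      obtain ⟨m, hm⟩ := IsPGroup.iff_card.1 (hG.to_subgroup (Subgroup.zpowers (a : G)))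
      have hco : IsCoprime j ((p : ℤ) ^ m) :=
        (((Nat.prime_iff_prime_int.1 (Fact.out : p.Prime)).coprime_iff_not_dvd).2 hnd).symm.pow_right
      obtain ⟨u, v, huv⟩ := hco
      rw [← haz]
      refine Subgroup.zpowers_le.2 ⟨u, ?_⟩
      have hord : (a : G) ^ ((p : ℤ) ^ m) = 1 := by
        rw [← Nat.cast_pow, zpow_natCast, ← hm, Nat.card_zpowers, pow_orderOf_eq_one]
      show ((b : G) ^ p) ^ u = a
      calc ((b : G) ^ p) ^ u = (a : G) ^ (u * j) * ((a : G) ^ ((p : ℤ) ^ m)) ^ v := by
            rw [← hj, ← zpow_mul, hord, one_zpow, mul_one, mul_comm]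
        _ = (a : G) ^ (u * j + v * (p : ℤ) ^ m) := by rw [← zpow_mul, ← zpow_add, mul_comm (_ ^ m)]
        _ = a := by rw [huv, zpow_one]
    obtain ⟨i, rfl⟩ := hjp
    set y : G := (a : G) ^ (-i) with hy
    have hyM : y ∈ M' := M'.zpow_mem a.2 _
    -- the commutator of `b` and `y` is central
    set c : G := (b : G)⁻¹ * y⁻¹ * b * y with hcdef
    have hconj : ∀ m ∈ M', (b : G)⁻¹ * m * b ∈ M' := by
      rintro _ ⟨m, hm, rfl⟩
      exact ⟨b⁻¹ * m * b, by simpa using (inferInstance : M.Normal).conj_mem m hm b⁻¹, rfl⟩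
    have hcM : c ∈ M' := M'.mul_mem (hconj _ (M'.inv_mem hyM)) hyM
    haveI : IsMulCommutative M' := IsCyclic.commutative
    have hcomm : ∀ u ∈ M', ∀ w ∈ M', u * w = w * u := fun u hu w hw =>
      CfsgLib.Solv.commute_of_isMulCommutative hu hw
    have hbcomm : y ^ p * b = b * y ^ p := by
      have : y ^ p = ((b : G) ^ p)⁻¹ := by
        rw [hy, ← hj, ← zpow_natCast, ← zpow_mul, ← zpow_neg]; ring_nf
      rw [this]; exact (((Commute.refl (b : G)).pow_left p).inv_left).eq
    have hyb : y * b = b * y * c⁻¹ := by rw [hcdef]; simp [mul_assoc]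
    have hcp : c ^ p = 1 := by
      have hyy : (b : G)⁻¹ * y⁻¹ * b ∈ M' := hconj _ (M'.inv_mem hyM)
      rw [hcdef, Commute.mul_pow (hcomm _ hyy _ hyM)]
      have h5 : ((b : G)⁻¹ * y⁻¹ * b) ^ p = (b : G)⁻¹ * (y ^ p)⁻¹ * b := by
        rw [← inv_pow]; simpa using (conj_pow (a := (b : G)⁻¹) (b := y⁻¹) (i := p))
      rw [h5, mul_assoc (b : G)⁻¹, ((show Commute (y ^ p) b from hbcomm).inv_left).eq]
      simp
    have hcb : c * b = b * c := by
      by_cases hc1 : c = 1
      · simp [hc1]
      -- the conjugate of `c` by `b` lies in the group of order `p`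
      have h6 : (b : G)⁻¹ * c * b ∈ Subgroup.zpowers c := h c _ hcp (by
        have := conj_pow (a := (b : G)⁻¹) (b := c) (i := p)
        rw [inv_inv, hcp] at this
        simpa using this) hc1
      obtain ⟨j', hj'⟩ := Subgroup.mem_zpowers_iff.1 h6
      have hiter : ∀ n : ℕ, ((b : G)⁻¹) ^ n * c * (b : G) ^ n = c ^ (j' ^ n) := by
        intro n
        induction n with
        | zero => simp
        | succ n ihn =>
          have h7 : ((b : G)⁻¹) ^ (n + 1) * c * (b : G) ^ (n + 1) =
              (b : G)⁻¹ * (((b : G)⁻¹) ^ n * c * (b : G) ^ n) * b := by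
            rw [pow_succ', pow_succ (b : G)]; simp only [mul_assoc]
          rw [h7, ihn]
          have h8 : (b : G)⁻¹ * c ^ (j' ^ n) * b = ((b : G)⁻¹ * c * b) ^ (j' ^ n) := by
            simpa using (conj_zpow (a := (b : G)⁻¹) (b := c) (i := j' ^ n)).symm
          rw [h8, ← hj', ← zpow_mul]
          ring_nf
      have hp' := hiter p
      have h9 : ((b : G)⁻¹) ^ p * c * (b : G) ^ p = c := by
        rw [inv_pow, mul_assoc, hcomm c hcM _ hbp, inv_mul_cancel_left]
      rw [h9] at hp'
      have hord : orderOf c = p := orderOf_eq_prime hcp hc1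
      have hdvd : (p : ℤ) ∣ j' ^ p - 1 := by
        have h10 := orderOf_dvd_iff_zpow_eq_one.2
          (show c ^ (j' ^ p - 1) = 1 by rw [zpow_sub, zpow_one, ← hp', mul_inv_cancel])
        rwa [hord] at h10
      have hj1 : (p : ℤ) ∣ j' - 1 := by
        rw [← ZMod.intCast_zmod_eq_zero_iff_dvd, Int.cast_sub, Int.cast_one] at hdvd ⊢
        rwa [Int.cast_pow, ZMod.pow_card] at hdvd
      have : c ^ j' = c := by
        have h0 : c ^ (j' - 1) = 1 := orderOf_dvd_iff_zpow_eq_one.1 (hord.symm ▸ hj1)
        rwa [zpow_sub, zpow_one, mul_inv_eq_one] at h0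
      rw [this] at hj'
      conv_rhs => rw [hj']
      simp [mul_assoc]
    set e := (b : G) * y with he
    have hep : e ^ p = 1 := by
      rw [he, mul_pow_p_of_central_comm hp hyb (Commute.inv_left hcb).eq
        (Commute.inv_left (hcomm c hcM y hyM)).eq (by rw [inv_pow, hcp, inv_one]), hy,
        ← hj, ← zpow_natCast ((a : G) ^ (-i)), ← zpow_mul, ← zpow_add]
      ring_nf
      simp
    have heM : e ∉ M' := fun hem => hbM (by
      obtain ⟨m, hm, hme⟩ := (show (b : G) ∈ M' from by
        have := M'.mul_mem hem (M'.inv_mem hyM)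
        rwa [he, mul_inv_cancel_right] at this)
      rwa [← Subtype.ext (a2 := b) hme])
    obtain ⟨z, hz⟩ : ∃ z ∈ M', z ^ p = 1 ∧ z ≠ 1 := by
      have hM'1 : M' ≠ ⊥ := fun hb' => hgen (hb' ▸ bot_le)
      haveI := (Subgroup.nontrivial_iff_ne_bot M').2 hM'1
      obtain ⟨z, hz⟩ := exists_prime_orderOf_dvd_card' (G := M') p (by
        obtain ⟨m, hm⟩ := IsPGroup.iff_card.1 (hG.to_subgroup M')
        rw [hm]
        refine dvd_pow_self p fun h0 => ?_
        have := Finite.one_lt_card (α := M')
        rw [hm, h0, pow_zero] at this; omega)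
      refine ⟨z, z.2, ?_, ?_⟩
      · have := congrArg Subtype.val (pow_orderOf_eq_one z); rwa [hz] at this
      · intro h1
        rw [orderOf_eq_one_iff.2 (Subtype.ext h1)] at hz
        exact (Fact.out : p.Prime).one_lt.ne hz
    exact heM (Subgroup.zpowers_le.2 hz.1 (h z e hz.2.1 hep hz.2.2))

end CfsgLib.Fus
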