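import Cfsg.Agent.Fus.Normal

/-!
Consequences of the fusion theorem: nilpotent systems, central subgroups, simplicity criteria.
-/

set_option autoImplicit false
set_option linter.style.haveILetI false

open Cfsg Cfsg.FusionSystem
open scoped commutatorElement

namespace CfsgLib.Fus

variable {Ω : Type*} [Group Ω] {S : Subgroup Ω} {F : FusionSystem S} {p : ℕ}

theorem isMap_inner_iff {P : Subgroup Ω} {f : Ω → Ω} :
    IsMap (innerFusionSystem S) P f ↔ P ≤ S ∧ ∃ g ∈ S, ∀ x ∈ P, f x = g * x * g⁻¹ := by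
  constructor
  · rintro ⟨φ, ⟨hP, g, hg, h⟩, hf⟩
    exact ⟨hP, g, hg, fun x hx => (hf ⟨x, hx⟩).symm.trans (h ⟨x, hx⟩)⟩
  · rintro ⟨hP, g, hg, h⟩
    exact ⟨conjHom P g, ⟨hP, g, hg, fun _ => rfl⟩, fun x => (h x x.2).symm⟩

theorem inner_le : innerFusionSystem S ≤ F :=
  le_iff.2 fun P f hf => by
    obtain ⟨hP, g, hg, h⟩ := isMap_inner_iff.1 hf
    exact (IsMap.conj F hP hg).congr fun x hx => (h x hx).symm

theorem eq_of_le_le {E : FusionSystem S} (h1 : F ≤ E) (h2 : E ≤ F) : F = E :=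
  system_ext fun P => le_antisymm (h1 P) (h2 P)

theorem not_essential_of_isPGroup [Finite S] [Fact p.Prime] {P : Subgroup Ω}
    (h : IsPGroup p (F.autGroup P)) : ¬ F.IsEssential p P := fun hess => by
  have hle : (⊤ : Subgroup ↥(F.autGroup P)) ≤ (Inn P).subgroupOf (F.autGroup P) :=
    essential_le_inn hess (h.of_equiv Subgroup.topEquiv.symm)
  obtain ⟨-, hn, hN, E, hE⟩ := hess
  haveI := hN
  haveI := finite_mulAut hn.1
  obtain ⟨hdvd, -⟩ := hE
  rw [← Subgroup.index_eq_card, Subgroup.index_eq_one.2 (top_le_iff.1 hle)] at hdvd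
  exact (Fact.out : p.Prime).not_dvd_one hdvd

theorem autGroup_self_eq_inn [Finite S] [Fact p.Prime] (hS : IsPGroup p S) (hF : F.IsSaturated p)
    (h : IsPGroup p (F.autGroup S)) : F.autGroup S = Inn S := by
  haveI := finite_mulAut (le_refl S)
  obtain ⟨⟨-, R, hR⟩, -⟩ := fullyNormalized_spec (F := F) hS hF fullyNormalized_top
  rw [← inn_eq_autInducedBy] at hR
  refine le_antisymm (fun α hα => ?_) (inn_le_autGroup le_rfl)
  have htop : (R : Subgroup ↥(F.autGroup S)) = ⊤ :=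
    (R.is_maximal' (h.of_equiv Subgroup.topEquiv.symm) le_top).symm
  rw [hR] at htop
  exact Subgroup.mem_subgroupOf.1 (htop.ge (Subgroup.mem_top ⟨α, hα⟩))

theorem eq_inner [Finite S] [Fact p.Prime] (hS : IsPGroup p S) (hF : F.IsSaturated p)
    (h : ∀ P : Subgroup Ω, P ≤ S → IsPGroup p (F.autGroup P)) : F = innerFusionSystem S := by
  refine eq_of_le_le (alperin hS hF _ fun P hP => ?_) inner_le
  rcases hP with rfl | hP
  · rw [autGroup_self_eq_inn hS hF (h P le_rfl)]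
    exact inn_le_autGroup le_rfl
  · exact absurd hP (not_essential_of_isPGroup (h P hP.2.1.1))

theorem central_iff [Finite S] [Fact p.Prime] (hS : IsPGroup p S) (hF : F.IsSaturated p)
    (Q : Subgroup Ω) :
    F.IsCentral Q ↔ Q ≤ S ∧ ∀ x ∈ Q, ∀ y : Ω, F.IsConjElt x y → y = x := by
  rw [isCentral_iff]
  constructor
  · rintro ⟨hQS, h⟩
    refine ⟨hQS, fun x hx y hxy => ?_⟩
    obtain ⟨f, hf, rfl⟩ := isConjElt_iff.1 hxy
    obtain ⟨g, -, hge, hgQ⟩ := h _ f hf
    exact (hge x (Subgroup.mem_zpowers x)).symm.trans (hgQ x hx)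
  · rintro ⟨hQS, h⟩
    have hfix : ∀ (P : Subgroup Ω) (f : Ω → Ω), IsMap F P f → ∀ x ∈ P, x ∈ Q → f x = x :=
      fun P f hf x hxP hxQ => h x hxQ _ (isConjElt_of_map hf hxP)
    have hsc : F.StronglyClosed Q :=
      stronglyClosed_iff.2 ⟨hQS, fun P f hf x hxP hxQ => (hfix P f hf x hxP hxQ).symm ▸ hxQ⟩
    have hcomm : ⁅Q, Q⁆ = ⊥ := by
      rw [eq_bot_iff, Subgroup.commutator_le]
      intro a ha b hb
      have h1 : a * b * a⁻¹ = b := hfix Q (conjF a) (IsMap.conj F hQS (hQS ha)) b hb hb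
      rw [Subgroup.mem_bot, commutatorElement_def, h1, mul_inv_cancel]
    have hn := normal_of_series hS hF hsc 1 (fun i => if i = 0 then ⊥ else Q) (if_pos rfl)
      (if_neg one_ne_zero)
      (fun i _ => by beta_reduce; split_ifs; exacts [bot_le, le_rfl])
      (fun i hi => by
        obtain rfl : i = 0 := by omega
        simp [hcomm])
      (fun i hi => by
        obtain rfl : i = 0 := by omega
        simp only [if_pos]
        exact stronglyClosed_weaklyClosed (isNormal_stronglyClosed isNormal_bot))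
    rw [isNormal_iff] at hn
    refine ⟨hQS, fun P f hf => ?_⟩
    obtain ⟨g, hg, hge, -⟩ := hn.2 P f hf
    exact ⟨g, hg, hge, fun x hx => hfix _ g hg x (le_sup_right (a := P) hx) hx⟩

/-- Extension property inside `R` gives normality. -/
theorem normal_of_extend [Finite S] [Fact p.Prime] (hS : IsPGroup p S) (hF : F.IsSaturated p)
    {R : Subgroup Ω} (hRS : R ≤ S)
    (h : ∀ (P : Subgroup Ω) (f : Ω → Ω), P ≤ R → IsMap F P f →
      ∃ α ∈ F.autGroup R, ∀ x ∈ P, autFun α x = f x) : F.IsNormal R := by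
  have hsc : F.StronglyClosed R := stronglyClosed_iff.2 ⟨hRS, fun P f hf x hxP hxR => by
    obtain ⟨α, -, hα⟩ := h (P ⊓ R) f inf_le_right (hf.mono inf_le_left)
    rw [← hα x ⟨hxP, hxR⟩]
    exact autFun_mem α hxR⟩
  have hRn := stronglyClosed_normal hsc
  refine normal_of_closed hS hF hsc fun P hc hr => ?_
  refine le_of_normalizer_le hS hc.1 hRS hRn fun x hx hxn => ?_
  haveI := finite_of_le hc.1
  -- trivial on `P/(P ∩ R)` and inner from `R` on `P ∩ R`
  set T := P ⊓ R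
  have hinvT : ∀ α ∈ F.autGroup P, ∀ y ∈ T, autFun α y ∈ T := fun α hα y hy =>
    ⟨autFun_mem α hy.1, autFun_mem_of_stronglyClosed hsc hc.1 hα hy.1 hy.2⟩
  let K : Subgroup (MulAut P) :=
    { carrier := {κ | κ ∈ F.autGroup P ∧ (∀ y ∈ P, y⁻¹ * autFun κ y ∈ T) ∧
        ∃ r ∈ R, r ∈ Subgroup.normalizer (T : Set Ω) ∧ ∀ y ∈ T, autFun κ y = r * y * r⁻¹}
      one_mem' := ⟨Subgroup.one_mem _, fun y hy => by
          rw [autFun_one hy, inv_mul_cancel]; exact Subgroup.one_mem _,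
        1, R.one_mem, Subgroup.one_mem _, fun y hy => by rw [autFun_one hy.1]; simp⟩
      mul_mem' := by
        rintro κ μ ⟨hκA, hκ, r, hr, hrn, hre⟩ ⟨hμA, hμ, s, hs, hsn, hse⟩
        refine ⟨Subgroup.mul_mem _ hκA hμA, fun y hy => ?_,
          r * s, R.mul_mem hr hs, Subgroup.mul_mem _ hrn hsn, fun y hy => ?_⟩
        · have h1 := T.mul_mem (hκ y hy) (hinvT κ hκA _ (hμ y hy))
          rw [autFun_map_mul κ (P.inv_mem hy) (autFun_mem μ hy), autFun_map_inv κ hy] at h1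
          rw [autFun_mul _ _ hy]
          simpa [mul_assoc] using h1
        · rw [autFun_mul _ _ hy.1, hre _ (hinvT μ hμA y hy), hse y hy]
          simp only [mul_inv_rev, mul_assoc]
      inv_mem' := by
        rintro κ ⟨hκA, hκ, r, hr, hrn, hre⟩
        refine ⟨Subgroup.inv_mem _ hκA, fun y hy => ?_, r⁻¹, R.inv_mem hr, Subgroup.inv_mem _ hrn,
          fun y hy => ?_⟩
        · have h1 := hinvT κ⁻¹ (Subgroup.inv_mem _ hκA) _ (T.inv_mem (hκ y hy))
          rw [mul_inv_rev, inv_inv, autFun_map_mul _ (P.inv_mem (autFun_mem κ hy)) hy,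
            autFun_map_inv _ (autFun_mem κ hy), autFun_inv_apply' κ hy] at h1
          exact h1
        · have h1 := hre _ (hinvT κ⁻¹ (Subgroup.inv_mem _ hκA) y hy)
          rw [autFun_inv_apply κ hy.1] at h1
          rw [inv_inv]
          conv_rhs => rw [h1]
          simp [mul_assoc] }
  have hKn : ∀ α ∈ F.autGroup P, ∀ κ ∈ K, α * κ * α⁻¹ ∈ K := by
    rintro α hα κ ⟨hκA, hκ, r, hr, hrn, hre⟩
    refine ⟨Subgroup.mul_mem _ (Subgroup.mul_mem _ hα hκA) (Subgroup.inv_mem _ hα), fun y hy => ?_, ?_⟩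
    · have hy' := autFun_mem α⁻¹ hy
      have h1 := hinvT α hα _ (hκ _ hy')
      rw [autFun_map_mul α (P.inv_mem hy') (autFun_mem κ hy'), autFun_map_inv α hy',
        autFun_inv_apply α hy] at h1
      rw [autFun_conj _ _ hy]
      exact h1
    · obtain ⟨β, hβ, hβe⟩ := h T (autFun α) inf_le_right (((mem_autGroup hc.1).1 hα).mono inf_le_left)
      have hβm := (mem_autGroup hRS).1 hβ
      have hβT : img (autFun β) T = T := by
        haveI := finite_of_le (inf_le_left.trans hc.1 : T ≤ S)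
        exact Subgroup.eq_of_le_of_card_ge (img_le_iff.2 fun y hy => hβe y hy ▸ hinvT α hα y hy)
          (hβm.mono inf_le_right).card_img.ge
      refine ⟨autFun β r, autFun_mem β hr, ?_, fun y hy => ?_⟩
      · have := hβm.map_normalizer (inf_le_right : T ≤ R) hr hrn
        rwa [hβT] at this
      · have hy' := hinvT α⁻¹ (Subgroup.inv_mem _ hα) y hy
        have hc' : r * autFun α⁻¹ y * r⁻¹ ∈ T := conj_mem_of_normalizer hrn hy'
        rw [autFun_conj _ _ hy.1, hre _ hy', ← hβe _ hc', hβm.map_conj hr hy'.2, hβe _ hy',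
          autFun_inv_apply α hy.1]
  have hKp : IsPGroup p K := isPGroup_of_ppow _ fun γ hγ => by
    refine ppow_eq_one_of_series (hS.to_le hc.1) γ 1
      (fun j => if j = 0 then (T : Set Ω) else (P : Set Ω)) (fun y hy => by simpa using hy) ?_ ?_
    · obtain ⟨-, -, r, hr, -, hre⟩ := id hγ
      obtain ⟨k, hk⟩ := hS ⟨r, hRS hr⟩
      refine ⟨k, fun y hyP hy => ?_⟩
      simp only [if_pos] at hy
      have hiter : ∀ n : ℕ, ∀ z ∈ T, autFun (γ ^ n) z = r ^ n * z * (r ^ n)⁻¹ ∧ autFun (γ ^ n) z ∈ T := by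
        intro n
        induction n with
        | zero => intro z hz; rw [pow_zero, pow_zero, autFun_one hz.1]; simp [hz]
        | succ n ih =>
          intro z hz
          have hz' : autFun γ z ∈ T := hinvT γ hγ.1 z hz
          refine ⟨?_, ?_⟩
          · rw [pow_succ, autFun_mul _ _ hz.1, (ih _ hz').1, hre z hz, pow_succ]
            simp only [mul_inv_rev, mul_assoc]
          · rw [pow_succ, autFun_mul _ _ hz.1]; exact (ih _ hz').2
      have hr1 : r ^ p ^ k = 1 := by simpa using congrArg Subtype.val hk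
      rw [(hiter _ y hy).1, hr1]; simp
    · intro j hj y hyP _
      obtain rfl : j = 0 := by omega
      simpa using hγ.2.1 y hyP
  obtain ⟨κ, hκ, hκe⟩ := exists_autInducedBy (K := S) (hRS hx) hxn
  refine mem_of_centric_radical hc hr K (fun γ hγ => hγ.1) hKp hKn (hRS hx)
    (show κ ∈ K from ⟨autInducedBy_le_autGroup hc.1 hκ, fun y hy => ?_, x, hx,
      mem_normalizer_of_conj (fun y hy => ?_) (fun y hy => ?_), fun y hy => hκe y hy.1⟩) hκe
  · rw [hκe y hy]
    refine ⟨P.mul_mem (P.inv_mem hy) (conj_mem_of_normalizer hxn hy), ?_⟩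
    have h1 := R.mul_mem (conj_mem_of_normalizer' (hRn (hc.1 hy)) hx) (R.inv_mem hx)
    simpa [mul_assoc] using h1
  · exact ⟨conj_mem_of_normalizer hxn hy.1, R.mul_mem (R.mul_mem hx hy.2) (R.inv_mem hx)⟩
  · exact ⟨conj_mem_of_normalizer' hxn hy.1, R.mul_mem (R.mul_mem (R.inv_mem hx) hy.2) hx⟩

theorem simple_criterion [Finite S] [Fact p.Prime] (hF : F.IsSaturated p) (hS1 : S ≠ ⊥)
    (htop : F.autGroup S = Inn S) (hsc : ∀ T : Subgroup Ω, F.StronglyClosed T → T = ⊥ ∨ T = S) :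
    F.IsSimple p := by
  refine ⟨hF, hS1, fun T E hE => ?_⟩
  obtain ⟨⟨-, -, hsub, hT, -, hfr⟩, -⟩ := hE
  rcases hsc T hT with h | h
  · exact Or.inl h
  subst h
  refine Or.inr ⟨rfl, fun P => hom_ext (fun P f => ⟨fun h => isSubsystemOf_iff.1 hsub P f h, fun hf => ?_⟩) P⟩
  obtain ⟨φ, hφ, hφf⟩ := hf
  obtain ⟨α, hα, φ₀, hφ₀, he⟩ := hfr P (F.le_of_mem hφ).1 φ hφ
  rw [htop, inn_eq_autInducedBy] at hα
  obtain ⟨r, hr, hre⟩ := mem_autInducedBy.1 hα
  have hm := IsMap.of_hom hφ₀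
  refine (hm.comp (IsMap.conj E le_rfl hr) fun x hx => hm.mem hx).congr fun x hx => ?_
  simp only [Function.comp_apply, conjF_apply]
  have h0 := (E.le_of_mem hφ₀).2 ⟨x, hx⟩
  rw [← hφf ⟨x, hx⟩, he ⟨x, hx⟩ h0, ev_of_mem φ₀ hx, ← hre _ h0, autFun_of_mem α h0]

theorem fullyCentralized_sub [Finite S] [Fact p.Prime] (hS : IsPGroup p S) (hF : F.IsSaturated p)
    {T : Subgroup Ω} (hT : F.StronglyClosed T) (F' : FusionSystem T) (hsub : F'.IsSubsystemOf F)
    {Q : Subgroup Ω} (hQT : Q ≤ T) :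
    (F.IsFullyCentralized Q → F'.IsFullyCentralized Q) ∧
      (F.IsFullyNormalized Q → F'.IsFullyNormalized Q) := by
  have hTS := hT.1
  have hconj : ∀ R, F'.IsConj Q R → F.IsConj R Q := fun R h => by
    obtain ⟨f, hf, hfi⟩ := isConj_iff.1 (isConj_symm h)
    exact isConj_iff.2 ⟨f, isSubsystemOf_iff.1 hsub _ _ hf, hfi⟩
  have hTc := (stronglyClosed_iff.1 hT).2
  haveI := finite_of_le hTS
  refine ⟨fun hQ => ⟨hQT, fun R hR => ?_⟩, fun hQ => ⟨hQT, fun R hR => ?_⟩⟩
  · obtain ⟨f, hf, hfi⟩ := isConj_iff.1 (hconj R hR)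
    have hR' : R ≤ S := hf.le
    obtain ⟨g, hg, hge⟩ := extend (receptive_of_fullyCentralized hS hF hQ) hf hfi
      (N := centralizerIn S R) fun x hx => ⟨hx.1, Subgroup.centralizer_le_normalizer _ hx.2, 1, S.one_mem,
        fun y hy => by rw [one_mul, inv_one, mul_one, ← hx.2 y hy, mul_inv_cancel_right]⟩
    have hgi : img g R = Q := (img_congr hge).trans hfi
    have hle : centralizerIn T R ≤ R ⊔ centralizerIn S R := fun x hx =>
      le_sup_right (a := R) ⟨hTS hx.1, hx.2⟩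
    haveI := finite_of_le (centralizerIn_le (S := T) Q)
    rw [← (hg.mono hle).card_img]
    refine Subgroup.card_le_of_le (img_le_iff.2 fun x hx => ⟨hTc _ g hg x (hle hx) hx.1, ?_⟩)
    exact (hgi ▸ hg.map_centralizerIn le_sup_left (hle hx) hx.2).2
  · obtain ⟨g, hg, hgi, hgN⟩ := exists_normalizer_map_fn hS hF hQ (hconj R hR)
    have hle : normalizerIn T R ≤ normalizerIn S R := fun x hx => ⟨hTS hx.1, hx.2⟩
    haveI := finite_of_le (normalizerIn_le (S := T) Q)
    rw [← (hg.mono hle).card_img]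
    exact Subgroup.card_le_of_le (img_le_iff.2 fun x hx =>
      ⟨hTc _ g hg x (hle hx) hx.1, (hgN (mem_img_of_mem (hle hx))).2⟩)

end CfsgLib.Fus
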