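import Cfsg.Agent.Fus.Control

/-!
Maps on centric subgroups.
-/

set_option autoImplicit false
set_option linter.style.haveILetI false

open Cfsg Cfsg.FusionSystem

namespace CfsgLib.Fus

variable {Ω : Type*} [Group Ω] {S : Subgroup Ω} {F : FusionSystem S} {p : ℕ}

theorem centric_mono {Q R : Subgroup Ω} (hQ : F.IsCentric Q) (hQR : Q ≤ R) (hR : R ≤ S) :
    F.IsCentric R := by
  refine ⟨hR, fun R' hR' => ?_⟩
  obtain ⟨f, hf, rfl⟩ := isConj_iff.1 hR'
  exact fun c hc => img_mono hQR (hQ.2 _ (isConj_iff.2 ⟨f, hf.mono hQR, rfl⟩)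
    ⟨hc.1, fun y hy => hc.2 y (img_mono hQR hy)⟩)

theorem centric_of_isConj {Q R : Subgroup Ω} (hQ : F.IsCentric Q) (h : F.IsConj Q R) : F.IsCentric R :=
  ⟨(isConj_le h).2, fun T hT => hQ.2 T (isConj_trans h hT)⟩

theorem centric_sub {E : FusionSystem S} (hle : E ≤ F) {Q : Subgroup Ω} (hQ : F.IsCentric Q) :
    E.IsCentric Q :=
  ⟨hQ.1, fun T hT => hQ.2 T (by
    obtain ⟨f, hf, hfi⟩ := isConj_iff.1 hT
    exact isConj_iff.2 ⟨f, le_iff.1 hle _ _ hf, hfi⟩)⟩

theorem fc_of_centric [Finite S] {Q : Subgroup Ω} (hQ : F.IsCentric Q) : F.IsFullyCentralized Q := by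
  refine ⟨hQ.1, fun R hR => ?_⟩
  obtain ⟨g, hg, hgi⟩ := isConj_iff.1 (isConj_symm hR)
  haveI := finite_of_le (centralizerIn_le (S := S) Q)
  rw [← (hg.mono (hQ.2 R hR)).card_img]
  exact Subgroup.card_le_of_le (hgi ▸ hg.img_centralizerIn_le le_rfl (hQ.2 R hR))

theorem centric_center {Q : Subgroup Ω} (hQ : F.IsCentric Q) {x : Ω} (hx : x ∈ S)
    (h : ∀ y ∈ Q, y * x = x * y) : x ∈ Q :=
  hQ.2 Q (isConj_refl hQ.1) ⟨hx, h⟩

/-- Two maps that agree on a centric subgroup differ by conjugation with an element of its centre. -/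
theorem centric_agree [Finite S] [Fact p.Prime] (hS : IsPGroup p S) (hF : F.IsSaturated p)
    {P Q : Subgroup Ω} (hQP : Q ≤ P) (hQ : F.IsCentric Q) {f f' : Ω → Ω} (hf : IsMap F P f)
    (hf' : IsMap F P f') (h : ∀ x ∈ Q, f x = f' x) :
    ∃ z ∈ Q, (∀ y ∈ Q, y * z = z * y) ∧ ∀ y ∈ P, f' y = f (z * y * z⁻¹) := by
  suffices key : ∀ (n : ℕ) (Q : Subgroup Ω), Nat.card ↥P - Nat.card ↥Q = n → Q ≤ P → F.IsCentric Q →
      ∀ f : Ω → Ω, IsMap F P f → (∀ x ∈ Q, f x = f' x) →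
      ∃ z ∈ Q, (∀ y ∈ Q, y * z = z * y) ∧ ∀ y ∈ P, f' y = f (z * y * z⁻¹) from
    key _ Q rfl hQP hQ f hf h
  intro n
  induction n using Nat.strong_induction_on with
  | _ n ih =>
  intro Q hn hQP hQ f hf h
  rcases hQP.eq_or_lt with rfl | hlt
  · exact ⟨1, Q.one_mem, fun y _ => by simp, fun y hy => by simpa using (h y hy).symm⟩
  have hPS := hf.le
  haveI := finite_of_le hPS
  set N := P ⊓ Subgroup.normalizer (Q : Set Ω) with hNdef
  have hQN : Q ≤ N := le_inf hQP Subgroup.le_normalizer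
  have hNP : N ≤ P := inf_le_left
  have hQNlt : Q < N := lt_of_le_of_ne hQN fun he => by
    obtain ⟨x, hx, hxQ, hxn⟩ := exists_normalizing_of_lt (hS.to_le hPS) hlt
    exact hxQ (he ▸ ⟨hx, hxn⟩)
  have hNS : N ≤ S := hNP.trans hPS
  haveI := finite_of_le hNS
  have hfQ : F.IsConj Q (img f Q) := isConj_iff.2 ⟨f, hf.mono hQP, rfl⟩
  have hsub : ∀ x ∈ N, f' x ∈ img f N := by
    intro x hx
    have hu : (f x)⁻¹ * f' x ∈ centralizerIn S (img f Q) := by
      refine ⟨S.mul_mem (S.inv_mem (hf.mem hx.1)) (hf'.mem hx.1), fun y hy => ?_⟩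
      obtain ⟨q, hq, rfl⟩ := (hf.mono hQP).mem_img.1 hy
      have hc := conj_mem_of_normalizer hx.2 hq
      have h1 : f x * f q * (f x)⁻¹ = f' x * f q * (f' x)⁻¹ := by
        rw [← hf.map_conj hx.1 (hQP hq), h q hq, ← hf'.map_conj hx.1 (hQP hq), h _ hc]
      calc f q * ((f x)⁻¹ * f' x) = (f x)⁻¹ * (f x * f q * (f x)⁻¹) * f' x := by simp [mul_assoc]
        _ = (f x)⁻¹ * f' x * f q := by rw [h1]; simp [mul_assoc]
    obtain ⟨q, hq, hqe⟩ := (hf.mono hQP).mem_img.1 (hQ.2 _ hfQ hu)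
    have : f' x = f (x * q) := by rw [hf.map_mul hx.1 (hQP hq), hqe, mul_inv_cancel_left]
    rw [this]
    exact mem_img_of_mem (N.mul_mem hx (hQN hq))
  obtain ⟨k, hk, hkl, hkr, hki⟩ := (hf.mono hNP).inv
  have hθ : IsMap F N (k ∘ f') := (hf'.mono hNP).comp hk fun x hx => hsub x hx
  have hθi : img (k ∘ f') N = N := Subgroup.eq_of_le_of_card_ge
    (img_le_iff.2 fun x hx => hki.le (mem_img_of_mem (hsub x hx))) hθ.card_img.ge
  obtain ⟨θ, hθA, hθe⟩ := exists_aut hθ hθi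
  have hθQ : ∀ q ∈ Q, autFun θ q = q := fun q hq => by
    rw [hθe q (hQN hq), Function.comp_apply, ← h q hq, hkl q (hQN hq)]
  have hθf : ∀ x ∈ N, f (autFun θ x) = f' x := fun x hx => by
    rw [hθe x hx, Function.comp_apply, hkr _ (hsub x hx)]
  -- `θ` stabilizes `N ≥ Q ≥ 1`, so it is a `p`-element
  obtain ⟨c, hc⟩ : ∃ c : ℕ, θ ^ p ^ c = 1 := by
    refine ppow_eq_one_of_series (hS.to_le hNS) θ 1
      (fun j => if j = 0 then (Q : Set Ω) else (N : Set Ω)) (fun y hy => by simpa using hy) ?_ ?_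
    · refine ⟨0, fun y hyN hy => ?_⟩
      simp only [if_pos] at hy
      rw [pow_zero, pow_one, hθQ y hy]
    · intro j hj x hxN _
      obtain rfl : j = 0 := by omega
      simp only [if_pos, SetLike.mem_coe]
      refine centric_center hQ (hNS (N.mul_mem (N.inv_mem hxN) (autFun_mem θ hxN))) fun q hq => ?_
      have hcq := conj_mem_of_normalizer hxN.2 hq
      have h1 : autFun θ x * q * (autFun θ x)⁻¹ = x * q * x⁻¹ := by
        have h2 := hθQ _ hcq
        rw [autFun_map_mul θ (N.mul_mem hxN (hQN hq)) (N.inv_mem hxN),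
          autFun_map_mul θ hxN (hQN hq), autFun_map_inv θ hxN, hθQ q hq] at h2
        exact h2
      calc q * (x⁻¹ * autFun θ x) = x⁻¹ * (x * q * x⁻¹) * autFun θ x := by simp [mul_assoc]
        _ = x⁻¹ * autFun θ x * q := by rw [← h1]; simp [mul_assoc]
  obtain ⟨N', hNN', hN'⟩ := exists_fullyNormalized (F := F) hNS
  obtain ⟨⟨hN'S, Rs, hRs⟩, -⟩ := fullyNormalized_spec hS hF hN'
  haveI := finite_mulAut hN'S
  obtain ⟨e, he, hei⟩ := isConj_iff.1 hNN'
  obtain ⟨ee, hee⟩ := he.equiv hei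
  let γ : ↥(F.autGroup N') := ⟨MulAut.congr ee θ, congr_mem_autGroup he hei hee hθA⟩
  have hγp : IsPGroup p ↥(Subgroup.zpowers γ) := by
    rintro ⟨v, i, rfl⟩
    refine ⟨c, Subtype.ext ?_⟩
    have hγ1 : γ ^ (p ^ c) = 1 :=
      Subtype.ext (by show (MulAut.congr ee θ) ^ (p ^ c) = 1; rw [← map_pow, hc, map_one])
    show (γ ^ i) ^ (p ^ c) = 1
    rw [← zpow_natCast, zpow_comm, zpow_natCast, hγ1, one_zpow]
  obtain ⟨⟨d, hd⟩, hdR⟩ := exists_conj_mem_sylow Rs hγp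
  rw [hRs] at hdR
  obtain ⟨s, hs, hse⟩ := mem_autInducedBy.1
    (show d * MulAut.congr ee θ * d⁻¹ ∈ autInducedBy S N' from hdR)
  have heN : ∀ x ∈ N, e x ∈ N' := fun x hx => hei ▸ mem_img_of_mem hx
  have hh : IsMap F N (autFun d ∘ e) := he.comp ((mem_autGroup hN'S).1 hd) heN
  have hrel : ∀ x ∈ N, autFun d (e (autFun θ x)) = s * autFun d (e x) * s⁻¹ := fun x hx => by
    have h1 := hse _ (autFun_mem d (heN x hx))
    rw [autFun_conj _ _ (autFun_mem d (heN x hx)), autFun_inv_apply' d (heN x hx),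
      autFun_congr hee θ hx] at h1
    exact h1
  have hQ' : F.IsCentric (img (autFun d ∘ e) Q) :=
    centric_of_isConj hQ (isConj_iff.2 ⟨_, hh.mono hQN, rfl⟩)
  have hsQ : s ∈ img (autFun d ∘ e) Q := by
    refine centric_center hQ' hs fun y hy => ?_
    obtain ⟨q, hq, rfl⟩ := (hh.mono hQN).mem_img.1 hy
    have h1 := hrel q (hQN hq)
    rw [hθQ q hq] at h1
    simp only [Function.comp_apply]
    exact eq_mul_inv_iff_mul_eq.1 h1
  obtain ⟨z, hz, hzs⟩ := (hh.mono hQN).mem_img.1 hsQ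
  have hzθ : ∀ x ∈ N, autFun θ x = z * x * z⁻¹ := fun x hx => by
    refine hh.inj (autFun_mem θ hx) (N.mul_mem (N.mul_mem (hQN hz) hx) (N.inv_mem (hQN hz))) ?_
    rw [hh.map_conj (hQN hz) hx, hzs]
    exact hrel x hx
  have hzc : ∀ y ∈ Q, y * z = z * y := fun y hy => by
    have h1 := hzθ y (hQN hy)
    rw [hθQ y hy] at h1
    exact eq_mul_inv_iff_mul_eq.1 h1
  have hzP : z ∈ P := hQP hz
  have hf'' : IsMap F P (f ∘ conjF z) := (IsMap.conj F hPS (hPS hzP)).comp hf fun x hx =>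
    P.mul_mem (P.mul_mem hzP hx) (P.inv_mem hzP)
  obtain ⟨w, hw, hwc, hwe⟩ := ih _ (by
    have := card_lt_of_lt hNS hQNlt
    have := Subgroup.card_le_of_le hNP
    omega) N rfl hNP (centric_mono hQ hQN hNS) (f ∘ conjF z) hf''
    fun x hx => by rw [Function.comp_apply, conjF_apply, ← hzθ x hx, hθf x hx]
  have hwQ : w ∈ Q := centric_center hQ (hNS hw) fun y hy => hwc y (hQN hy)
  refine ⟨z * w, Q.mul_mem hz hwQ, fun y hy => ?_, fun y hy => ?_⟩
  · rw [← mul_assoc, hzc y hy, mul_assoc, hwc y (hQN hy), mul_assoc]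
  · rw [hwe y hy]
    simp only [Function.comp_apply, conjF_apply, mul_inv_rev, mul_assoc]

/-- A map of `F` lies in a saturated subsystem as soon as its restriction to a centric subgroup does. -/
theorem restrict_centric [Finite S] [Fact p.Prime] (hS : IsPGroup p S) (hF : F.IsSaturated p)
    {E : FusionSystem S} (hE : E.IsSaturated p) (hle : E ≤ F) {P Q : Subgroup Ω} (hQP : Q ≤ P)
    (hQ : F.IsCentric Q) {f : Ω → Ω} (hf : IsMap F P f) (h : IsMap E Q f) : IsMap E P f := by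
  suffices key : ∀ (n : ℕ) (Q : Subgroup Ω), Nat.card ↥P - Nat.card ↥Q = n → Q ≤ P → F.IsCentric Q →
      IsMap E Q f → IsMap E P f from key _ Q rfl hQP hQ h
  intro n
  induction n using Nat.strong_induction_on with
  | _ n ih =>
  intro Q hn hQP hQ h
  rcases hQP.eq_or_lt with rfl | hlt
  · exact h
  have hPS := hf.le
  haveI := finite_of_le hPS
  set N := P ⊓ Subgroup.normalizer (Q : Set Ω) with hNdef
  have hQN : Q ≤ N := le_inf hQP Subgroup.le_normalizer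
  have hNP : N ≤ P := inf_le_left
  have hQNlt : Q < N := lt_of_le_of_ne hQN fun he => by
    obtain ⟨x, hx, hxQ, hxn⟩ := exists_normalizing_of_lt (hS.to_le hPS) hlt
    exact hxQ (he ▸ ⟨hx, hxn⟩)
  have hNS : N ≤ S := hNP.trans hPS
  haveI := finite_of_le hNS
  have hQ' : F.IsCentric (img f Q) := centric_of_isConj hQ (isConj_iff.2 ⟨f, hf.mono hQP, rfl⟩)
  have hrec := receptive_of_fullyCentralized hS hE (fc_of_centric (centric_sub hle hQ'))
  obtain ⟨g, hg, hge⟩ := extend hrec h rfl (N := N) fun x hx =>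
    ⟨hNS hx, hx.2, f x, hf.mem hx.1, fun y hy => hf.map_conj hx.1 (hQP hy)⟩
  rw [sup_eq_right.2 hQN] at hg
  obtain ⟨z, hz, -, hzf⟩ := centric_agree hS hF hQN hQ (le_iff.1 hle _ _ hg) (hf.mono hNP) hge
  have hfN : IsMap E N f :=
    ((IsMap.conj E hNS (hQ.1 hz)).comp hg fun x hx =>
      N.mul_mem (N.mul_mem (hQN hz) hx) (N.inv_mem (hQN hz))).congr fun x hx => (hzf x hx).symm
  exact ih _ (by
    have := card_lt_of_lt hNS hQNlt
    have := Subgroup.card_le_of_le hNP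
    omega) N rfl hNP (centric_mono hQ hQN hNS) hfN

theorem exists_minimal_centric [Finite S] {P : Subgroup Ω} (hP : F.IsCentric P) :
    ∃ Q, Q ≤ P ∧ F.IsCentric Q ∧ ∀ R, R < Q → ¬ F.IsCentric R := by
  suffices key : ∀ (n : ℕ) (P : Subgroup Ω), Nat.card ↥P = n → F.IsCentric P →
      ∃ Q, Q ≤ P ∧ F.IsCentric Q ∧ ∀ R, R < Q → ¬ F.IsCentric R from key _ P rfl hP
  intro n
  induction n using Nat.strong_induction_on with
  | _ n ih =>
  intro P hn hP
  by_cases h : ∀ R, R < P → ¬ F.IsCentric R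
  · exact ⟨P, le_rfl, hP, h⟩
  push Not at h
  obtain ⟨R, hRP, hR⟩ := h
  haveI := finite_of_le hP.1
  obtain ⟨Q, hQR, hQ⟩ := ih _ (hn ▸ (lt_of_not_ge fun hle =>
    hRP.ne (Subgroup.eq_of_le_of_card_ge hRP.le hle))) R rfl hR
  exact ⟨Q, hQR.trans hRP.le, hQ⟩

/-- A saturated subsystem agreeing on minimal centric subgroups is the whole system. -/
theorem eq_of_minimal_centric [Finite S] [Fact p.Prime] (hS : IsPGroup p S) (hF : F.IsSaturated p)
    {E : FusionSystem S} (hE : E.IsSaturated p) (hle : E ≤ F)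
    (h : ∀ Q : Subgroup Ω, F.IsCentric Q → (∀ R, R < Q → ¬ F.IsCentric R) → F.Hom Q = E.Hom Q) :
    F = E := by
  refine eq_of_le_le (alperin hS hF E fun P hP => ?_) hle
  obtain ⟨hc, -⟩ := crit_cases hS hF hP
  obtain ⟨Q, hQP, hQ, hmin⟩ := exists_minimal_centric hc
  intro α hα
  have hαm := (mem_autGroup hc.1).1 hα
  obtain ⟨φ, hφ, hφe⟩ := hαm.mono hQP
  exact (mem_autGroup hc.1).2 (restrict_centric hS hF hE hle hQP hQ hαm ⟨φ, h Q hQ hmin ▸ hφ, hφe⟩)

end CfsgLib.Fus
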