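import Cfsg.Agent.Fus.Model

/-!
A constrained system has a model.
-/

set_option autoImplicit false
set_option linter.style.haveILetI false

open Cfsg Cfsg.FusionSystem

namespace CfsgLib.Fus

universe u

variable {Ω : Type u} [Group Ω] {S : Subgroup Ω} {F : FusionSystem S}

theorem exists_model_of_constrained [Finite S] {p : ℕ} [Fact p.Prime] (hS : IsPGroup p S) (hF : F.IsConstrained p) :
    ∃ (G : Type u) (_ : Group G) (ι : S →* G), F.IsModel p G ι := by
  obtain ⟨hsat, Q, hQn, hQc⟩ := hF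
  have hQext := (isNormal_iff.1 hQn).2
  haveI := finite_of_le hQn.1
  have hSQ : S ≤ normalizerIn S Q := fun s hs => ⟨hs, Subgroup.mem_normalizer_fintype fun x hx => by
    obtain ⟨g, -, hge, hgQ⟩ := hQext Q (conjF s) (IsMap.conj F hQn.1 hs)
    show s * x * s⁻¹ ∈ Q
    have h := mem_img_of_mem (f := g) (P := Q) hx
    rw [hgQ, hge x hx, conjF_apply] at h
    exact h⟩
  have hfn : F.IsFullyNormalized Q := ⟨hQn.1, fun R hR => by
    obtain ⟨f, hf, hfi⟩ := isConj_iff.1 hR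
    obtain ⟨g, -, hge, hgQ⟩ := hQext Q f hf
    rw [show R = Q by rw [← hfi]; exact (img_congr fun x hx => (hge x hx).symm).trans hgQ]⟩
  obtain ⟨N, hN⟩ := exists_normalizerSystem F hQn.1
  obtain ⟨L, _, ι, hfin, ⟨hinj, hreal⟩, ⟨T, hT⟩, hc⟩ := exists_normalizer_model hS hsat hfn hQc N hN
  refine ⟨L, ‹_›, ι.comp (Subgroup.inclusion hSQ), hfin,
    ⟨hinj.comp (Subgroup.inclusion_injective hSQ), fun P hP φ hφ => ?_⟩, ⟨T, ?_⟩, hc⟩
  · refine Iff.trans ⟨fun h => ?_, fun h => ?_⟩ (hreal P (hP.trans hSQ) φ fun x => hSQ (hφ x))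
    · rw [hN]
      exact ⟨h, hP.trans hSQ, fun x => hSQ (hφ x), hQn.2 P φ h⟩
    · rw [hN] at h
      exact h.1
  · rw [hT]
    ext y
    constructor
    · rintro ⟨x, rfl⟩
      exact ⟨⟨x, x.2.1⟩, rfl⟩
    · rintro ⟨x, rfl⟩
      exact ⟨_, rfl⟩

end CfsgLib.Fus
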