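import Cfsg.Agent.Fus.Group
import Cfsg.Prelude.Def_FusionComponents

/-!
Factor systems of group fusion systems by normal subgroups.
-/

set_option autoImplicit false
set_option linter.style.haveILetI false

open Cfsg Cfsg.FusionSystem
open scoped Pointwise

namespace CfsgLib.Fus

variable {G : Type*} [Group G] {p : ℕ}

/-- A p-subgroup of `SN` is conjugated into `S` by an element of `N`. -/
theorem exists_normal_conj [Finite G] [hp : Fact p.Prime] (S : Sylow p G) (N : Subgroup G) [N.Normal]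
    {M : Subgroup G} (hM : IsPGroup p M) (hMle : M ≤ (S : Subgroup G) ⊔ N) :
    ∃ k ∈ N, ∀ x ∈ M, k * x * k⁻¹ ∈ (S : Subgroup G) := by
  set X := (S : Subgroup G) ⊔ N
  obtain ⟨T, hT⟩ := (hM.comap_of_injective X.subtype X.subtype_injective).exists_le_sylow
  obtain ⟨⟨x, hxX⟩, hx⟩ := MulAction.exists_smul_eq ↥X T (S.subtype le_sup_left)
  obtain ⟨s, hs, k, hk, hsk⟩ : x ∈ ((S : Subgroup G) : Set G) * (N : Set G) :=
    (Subgroup.coe_mul_of_left_le_normalizer_right (S : Subgroup G) N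
      ((Subgroup.normalizer_eq_top_iff.2 (inferInstance : N.Normal)).symm ▸ le_top)) ▸ hxX
  refine ⟨k, hk, fun y hy => ?_⟩
  have h3 : MulAut.conj (⟨x, hxX⟩ : ↥X) • (⟨y, hMle hy⟩ : ↥X) ∈
      ((S.subtype le_sup_left : Sylow p ↥X) : Subgroup ↥X) := by
    rw [← hx, Sylow.coe_subgroup_smul]
    exact Subgroup.smul_mem_pointwise_smul _ _ _ (hT hy)
  have h4 : x * y * x⁻¹ ∈ (S : Subgroup G) := h3
  have h5 := (S : Subgroup G).mul_mem ((S : Subgroup G).mul_mem ((S : Subgroup G).inv_mem hs) h4) hs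
  have : k * y * k⁻¹ = s⁻¹ * (x * y * x⁻¹) * s := by
    rw [← show s * k = x from hsk]; group
  exact this ▸ h5

theorem group_factorSystem [Finite G] [hp : Fact p.Prime] (S : Sylow p G) (H : Subgroup G) [H.Normal] :
    (groupFusionSystem (S : Subgroup G)).IsFactorSystem ((S : Subgroup G) ⊓ H)
      ((QuotientGroup.mk' H).comp (S : Subgroup G).subtype)
      (groupFusionSystem ((S : Subgroup G).map (QuotientGroup.mk' H))) := by
  refine ⟨inf_le_left, fun s => ?_, ?_, fun P' φ' => ?_⟩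
  · show QuotientGroup.mk' H (s : G) = 1 ↔ _
    exact (QuotientGroup.eq_one_iff _).trans ⟨fun h => ⟨s.2, h⟩, fun h => h.2⟩
  · rw [MonoidHom.range_comp, Subgroup.range_subtype]
  set π := QuotientGroup.mk' H
  set θ := π.comp (S : Subgroup G).subtype
  have hpre : ∀ x, x ∈ preimageAlong θ P' ↔ x ∈ (S : Subgroup G) ∧ π x ∈ P' := fun x =>
    ⟨by rintro ⟨s, hs, rfl⟩; exact ⟨s.2, hs⟩, fun ⟨hx, hx'⟩ => ⟨⟨x, hx⟩, hx', rfl⟩⟩
  constructor
  · rintro ⟨hP', hφ'S, γ, hγ⟩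
    refine ⟨hP', ?_⟩
    obtain ⟨g, rfl⟩ := QuotientGroup.mk'_surjective H γ
    have hM : (preimageAlong θ P').map (MulAut.conj g).toMonoidHom ≤ (S : Subgroup G) ⊔ H := by
      rintro _ ⟨x, hx, rfl⟩
      obtain ⟨t, ht, hte⟩ := hφ'S ⟨π x, ((hpre x).1 hx).2⟩
      rw [hγ] at hte
      have h1 : t⁻¹ * (g * x * g⁻¹) ∈ H := QuotientGroup.eq.1 (hte.trans (by
        simp only [π, QuotientGroup.mk'_apply, QuotientGroup.mk_mul, QuotientGroup.mk_inv]))
      have := Subgroup.mul_mem_sup (ht : t ∈ (S : Subgroup G)) h1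
      rwa [mul_inv_cancel_left] at this
    obtain ⟨k, hk, hkS⟩ := exists_normal_conj S H
      ((S.isPGroup'.to_le fun x hx => ((hpre x).1 hx).1).map _) hM
    have hS' : ∀ x ∈ preimageAlong θ P', k * g * x * (k * g)⁻¹ ∈ (S : Subgroup G) := fun x hx => by
      have := hkS _ ⟨x, hx, rfl⟩
      simpa [mul_assoc] using this
    refine ⟨conjHom _ (k * g), ⟨fun x hx => ((hpre x).1 hx).1, fun x => hS' x x.2, k * g, fun _ => rfl⟩,
      fun x hx => ((hpre x).1 hx).1, fun x => hS' x x.2, fun x => ((hpre x).1 x.2).2, fun x => ?_⟩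
    rw [hγ]
    show π g * π (x : G) * (π g)⁻¹ = π (k * g * (x : G) * (k * g)⁻¹)
    have hk1 : π k = 1 := (QuotientGroup.eq_one_iff k).2 hk
    simp [hk1]
  · rintro ⟨hP', φ, ⟨hPre, hφS, g, hg⟩, hP, hφ, hPP, he⟩
    have hval : ∀ y : P', ∃ x : preimageAlong θ P', π (x : G) = (y : G ⧸ H) ∧
        φ' y = π g * (y : G ⧸ H) * (π g)⁻¹ := by
      intro y
      obtain ⟨s, hs, hsy⟩ := hP' y.2
      have hx : s ∈ preimageAlong θ P' := (hpre s).2 ⟨hs, hsy ▸ y.2⟩
      refine ⟨⟨s, hx⟩, hsy, ?_⟩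
      have h1 := he ⟨s, hx⟩
      have hy : (⟨θ ⟨s, hs⟩, hPP ⟨s, hx⟩⟩ : P') = y := Subtype.ext hsy
      rw [← hy]
      refine h1.trans ?_
      show π (φ ⟨s, hx⟩) = π g * π s * (π g)⁻¹
      rw [hg, map_mul, map_mul, map_inv]
    refine ⟨hP', fun y => ?_, π g, fun y => (hval y).choose_spec.2⟩
    obtain ⟨x, hxy, hv⟩ := hval y
    rw [hv, ← hxy, ← map_inv, ← map_mul, ← map_mul]
    exact ⟨_, (hg x) ▸ hφS x, rfl⟩

end CfsgLib.Fus
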