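import Cfsg.Agent.Fus.ModelConstrained
import Cfsg.Agent.Fus.ConstrainedModel
import Cfsg.Agent.Fus.GroupQuot
import Cfsg.Agent.Fus.NormalizerSystem
import Cfsg.Agent.Fus.Centric
import Cfsg.Agent.Perm.HallHigman

/-!
Fusion systems of `p`-solvable groups.
-/

set_option autoImplicit false
set_option linter.style.haveILetI false

open Cfsg Cfsg.FusionSystem

namespace CfsgLib.Fus.SolvReal

variable {p : ℕ} [hp : Fact p.Prime]

theorem isPSolvable_subgroup {G : Type*} [Group G] (hG : IsPSolvable p G) (X : Subgroup G) : IsPSolvable p ↥X := by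
  obtain ⟨n, H, h0, hl, hm, hN, hs⟩ := hG
  refine ⟨n, fun i => (H i).subgroupOf X, by simp [h0], by simp [hl],
    fun i j hij => Subgroup.comap_mono (hm hij), fun i => (hN i).comap _, fun i => ?_⟩
  haveI := hN i.castSucc
  have hle : H i.castSucc ≤ H i.succ := hm i.castSucc_le_succ
  have hd : ((H i.castSucc).subgroupOf X).relIndex ((H i.succ).subgroupOf X) ∣
      (H i.castSucc).relIndex (H i.succ) := by
    show ((H i.castSucc).comap X.subtype).relIndex _ ∣ _
    rw [Subgroup.relIndex_comap, Subgroup.subgroupOf_map_subtype]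
    have hk := fun K : Subgroup G => Subgroup.relIndex_ker (K := K) (QuotientGroup.mk' (H i.castSucc))
    simp only [QuotientGroup.ker_mk'] at hk
    rw [hk, hk]
    exact Subgroup.card_dvd_of_le (Subgroup.map_mono inf_le_left)
  rcases hs i with ⟨m, hm'⟩ | hc
  · rw [hm'] at hd
    obtain ⟨j, -, hj⟩ := (Nat.dvd_prime_pow hp.out).1 hd
    exact Or.inl ⟨j, hj⟩
  · exact Or.inr (hc.of_dvd_left hd)

theorem isPSolvable_extension {G : Type*} [Group G] [Finite G] (M : Subgroup G) [M.Normal] (hM : IsPGroup p M)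
    (hq : IsPSolvable p (G ⧸ M)) : IsPSolvable p G := by
  obtain ⟨m, H, h0, hl, hmono, hnorm, hstep⟩ := hq
  have hK0 : (H 0).comap (QuotientGroup.mk' M) = M := by
    rw [h0, MonoidHom.comap_bot, QuotientGroup.ker_mk']
  refine ⟨m + 1, Fin.cons ⊥ (fun i => (H i).comap (QuotientGroup.mk' M)), by simp, ?_, ?_, ?_, ?_⟩
  · rw [← Fin.succ_last, Fin.cons_succ, hl, Subgroup.comap_top]
  · intro a b hab
    induction a using Fin.cases with
    | zero => simp
    | succ a =>
      induction b using Fin.cases with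
      | zero => exact absurd hab (not_le.2 (Fin.succ_pos a))
      | succ b =>
        simp only [Fin.cons_succ]
        exact Subgroup.comap_mono (hmono (Fin.succ_le_succ_iff.1 hab))
  · intro i
    induction i using Fin.cases with
    | zero => simp only [Fin.cons_zero]; infer_instance
    | succ i => simp only [Fin.cons_succ]; exact (hnorm i).comap _
  · intro i
    induction i using Fin.cases with
    | zero =>
      rw [Fin.castSucc_zero, Fin.cons_zero, Fin.cons_succ, hK0, Subgroup.relIndex_bot_left]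
      obtain ⟨k, hk⟩ := IsPGroup.iff_card.1 hM
      exact Or.inl ⟨k, hk⟩
    | succ i =>
      rw [Fin.castSucc_succ, Fin.cons_succ, Fin.cons_succ, Subgroup.relIndex_comap,
        Subgroup.map_comap_eq_self_of_surjective (QuotientGroup.mk'_surjective M)]
      exact hstep i

omit hp in
theorem isPSolvable_of_equiv {A B : Type*} [Group A] [Group B] (e : A ≃* B) (h : IsPSolvable p A) :
    IsPSolvable p B := by
  obtain ⟨n, H, h0, hn, hm, hN, hs⟩ := h
  refine ⟨n, fun i => (H i).map e.toMonoidHom, by simp [h0],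
    by simp [hn],
    fun i j hij => Subgroup.map_mono (hm hij), fun i => (hN i).map e.toMonoidHom e.surjective, fun i => ?_⟩
  rw [Subgroup.relIndex_map_map_of_injective _ _ e.injective]
  exact hs i

theorem isPSolvable_of_surjective {A B : Type*} [Group A] [Group B] [Finite A] {f : A →* B} (hf : Function.Surjective f)
    (h : IsPSolvable p A) : IsPSolvable p B :=
  isPSolvable_of_equiv (QuotientGroup.quotientKerEquivOfSurjective f hf) (CfsgLib.Perm.isPSolvable_quotient h f.ker)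

universe u

variable {Ω : Type u} [Group Ω] {S : Subgroup Ω} [Finite S] {F : FusionSystem S}

/-- The image in `G` of a subgroup of `S`. -/
def vim {G : Type u} [Group G] (ι : ↥S →* G) (R : Subgroup Ω) : Subgroup G := (R.subgroupOf S).map ι

omit [Finite S] in
/-- The automizer of a subgroup is a quotient of its normalizer in a realizing group. -/
theorem exists_aut_hom {G : Type u} [Group G] {ι : ↥S →* G} (hr : F.IsRealizedBy ι) {R : Subgroup Ω} (hR : R ≤ S) :
    ∃ θ : ↥(Subgroup.normalizer (vim ι R : Set G)) →* ↥(F.autGroup R), Function.Surjective θ ∧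
      θ.ker = (Subgroup.centralizer (vim ι R : Set G)).subgroupOf (Subgroup.normalizer (vim ι R : Set G)) := by
  set V := vim ι R with hV
  let e : ↥R ≃* ↥V :=
    (Subgroup.subgroupOfEquivOfLe hR).symm.trans ((R.subgroupOf S).equivMapOfInjective ι hr.1)
  have he : ∀ x : R, ((e x : V) : G) = ι ⟨x, hR x.2⟩ := fun x => rfl
  let θ₀ := (MulAut.congr e.symm).toMonoidHom.comp V.normalizerMonoidHom
  have hθ : ∀ (n : ↥(Subgroup.normalizer (V : Set G))) (x : R),
      ι ⟨θ₀ n x, hR (θ₀ n x).2⟩ = n * ι ⟨x, hR x.2⟩ * (n : G)⁻¹ := fun n x => by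
    rw [← he]
    show ((e (e.symm (V.normalizerMonoidHom n (e x))) : V) : G) = _
    rw [e.apply_symm_apply, ← he x]
    rfl
  have hmem : ∀ n, θ₀ n ∈ F.autGroup R := fun n => by
    refine (mem_autGroup hR).2 ⟨R.subtype.comp (θ₀ n : ↥R ≃* ↥R).toMonoidHom, ?_, fun x => (autFun_apply _ x).symm⟩
    exact (hr.2 R hR _ (fun x => hR (θ₀ n x).2)).2 ⟨n, hθ n⟩
  refine ⟨θ₀.codRestrict _ hmem, ?_, ?_⟩
  · rintro ⟨α, hα⟩
    obtain ⟨φ, hφ, hφe⟩ := (mem_autGroup hR).1 hα
    have hφS := (F.le_of_mem hφ).2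
    obtain ⟨g, hg⟩ := (hr.2 R hR φ hφS).1 hφ
    have hgα : ∀ x : R, ι ⟨α x, hR (α x).2⟩ = g * ι ⟨x, hR x.2⟩ * g⁻¹ := fun x => by
      rw [← hg x]
      exact congrArg ι (Subtype.ext ((autFun_apply α x).symm.trans (hφe x).symm))
    have hgN : g ∈ Subgroup.normalizer (V : Set G) := mem_normalizer_of_conj
      (fun v hv => by
        obtain ⟨⟨x, hxS⟩, hx, rfl⟩ := hv
        exact ⟨⟨α ⟨x, hx⟩, hR (α ⟨x, hx⟩).2⟩, (α ⟨x, hx⟩).2, hgα ⟨x, hx⟩⟩)
      (fun v hv => by
        obtain ⟨⟨x, hxS⟩, hx, rfl⟩ := hv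
        obtain ⟨y, hy⟩ := α.surjective ⟨x, hx⟩
        refine ⟨⟨y, hR y.2⟩, y.2, ?_⟩
        have h1 := hgα y
        simp only [hy] at h1
        rw [h1]; group)
    exact ⟨⟨g, hgN⟩, Subtype.ext (MulEquiv.ext fun x => Subtype.ext (congrArg (fun s : ↥S => (s : Ω))
      (hr.1 (a₁ := ⟨θ₀ ⟨g, hgN⟩ x, hR (θ₀ ⟨g, hgN⟩ x).2⟩) (a₂ := ⟨α x, hR (α x).2⟩)
        ((hθ ⟨g, hgN⟩ x).trans (hgα x).symm))))⟩
  · ext n
    rw [MonoidHom.mem_ker, Subgroup.mem_subgroupOf]
    constructor
    · intro h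
      refine Subgroup.mem_centralizer_iff.2 fun v hv => ?_
      obtain ⟨⟨x, hxS⟩, hx, rfl⟩ := hv
      have h1 := hθ n ⟨x, hx⟩
      rw [show θ₀ n = 1 from congrArg Subtype.val h] at h1
      exact (eq_mul_inv_iff_mul_eq.1 h1)
    · intro h
      refine Subtype.ext (MulEquiv.ext fun x => Subtype.ext (congrArg (fun s : ↥S => (s : Ω))
        (hr.1 (a₁ := ⟨θ₀ n x, hR (θ₀ n x).2⟩) (a₂ := ⟨x, hR x.2⟩) ?_)))
      rw [hθ, ← Subgroup.mem_centralizer_iff.1 h _ ⟨⟨x, hR x.2⟩, x.2, rfl⟩, mul_inv_cancel_right]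

omit [Finite S] in
/-- A realizing group can be replaced by its quotient by the `p'`-core. -/
theorem realized_quotient {G : Type u} [Group G] [Finite G] {ι : ↥S →* G} (hr : F.IsRealizedBy ι)
    (T : Sylow p G) (hT : (T : Subgroup G) = ι.range) (N : Subgroup G) [N.Normal] (hN : (Nat.card N).Coprime p) :
    F.IsRealizedBy ((QuotientGroup.mk' N).comp ι) ∧
      ∃ T' : Sylow p (G ⧸ N), (T' : Subgroup (G ⧸ N)) = ((QuotientGroup.mk' N).comp ι).range := by
  have htriv : ∀ u ∈ (T : Subgroup G), u ∈ N → u = 1 := fun u hu huN => by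
    obtain ⟨k, hk⟩ := T.2 ⟨u, hu⟩
    refine orderOf_eq_one_iff.1 (Nat.eq_one_of_dvd_coprimes (hN.pow_right k) ?_
      (orderOf_dvd_of_pow_eq_one (congrArg Subtype.val hk)))
    exact (Subgroup.orderOf_mk u huN) ▸ orderOf_dvd_natCard (⟨u, huN⟩ : N)
  have hinj : Function.Injective ((QuotientGroup.mk' N).comp ι) := by
    rw [injective_iff_map_eq_one]
    exact fun s hs => hr.1 ((htriv _ (hT ▸ ⟨s, rfl⟩) ((QuotientGroup.eq_one_iff _).1 hs)).trans (map_one ι).symm)
  refine ⟨⟨hinj, fun P hP φ hφ => ?_⟩, T.mapSurjective (QuotientGroup.mk'_surjective N), ?_⟩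
  · rw [hr.2 P hP φ hφ]
    constructor
    · rintro ⟨g, hg⟩
      exact ⟨QuotientGroup.mk g, fun x => by
        show QuotientGroup.mk' N (ι _) = _
        rw [hg x, map_mul, map_mul, map_inv]; rfl⟩
    · rintro ⟨c, hc⟩
      obtain ⟨g, rfl⟩ := QuotientGroup.mk'_surjective N c
      let a : P →* G := ((MulAut.conj g).toMonoidHom.comp ι).comp (Subgroup.inclusion hP)
      have hdiff : ∀ x : P, (ι ⟨φ x, hφ x⟩)⁻¹ * a x ∈ N := fun x => QuotientGroup.eq.1 ((hc x).trans (by
        show _ = QuotientGroup.mk' N (g * ι _ * g⁻¹)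
        rw [map_mul, map_mul, map_inv]; rfl))
      have hle : a.range ≤ (T : Subgroup G) ⊔ N := by
        rintro _ ⟨x, rfl⟩
        have := Subgroup.mul_mem_sup (hT.ge (⟨_, rfl⟩ : ι ⟨φ x, hφ x⟩ ∈ ι.range)) (hdiff x)
        rwa [mul_inv_cancel_left] at this
      have hap : IsPGroup p a.range := by
        have hPp : IsPGroup p ↥P := by
          have hSp : IsPGroup p ↥S := (hT ▸ T.2 : IsPGroup p ι.range).of_equiv (MonoidHom.ofInjective hr.1).symm
          exact hSp.to_le hP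
        exact hPp.of_surjective a.rangeRestrict a.rangeRestrict_surjective
      obtain ⟨k, hk, hkc⟩ := exists_normal_conj T N hap hle
      refine ⟨k * g, fun x => ?_⟩
      have h1 := hkc (a x) ⟨x, rfl⟩
      have h2 : (ι ⟨φ x, hφ x⟩)⁻¹ * (k * a x * k⁻¹) ∈ N := by
        have hmk : (QuotientGroup.mk' N) (ι ⟨φ x, hφ x⟩) = QuotientGroup.mk' N (k * a x * k⁻¹) := by
          rw [map_mul, map_mul, map_inv, show QuotientGroup.mk' N k = 1 from (QuotientGroup.eq_one_iff _).2 hk,
            one_mul, inv_one, mul_one]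
          exact QuotientGroup.eq.2 (hdiff x)
        exact QuotientGroup.eq.1 hmk
      have h3 := htriv _ (mul_mem (inv_mem (hT.ge ⟨_, rfl⟩)) h1) h2
      rw [inv_mul_eq_one.1 h3]
      show k * (g * ι ⟨x, hP x.2⟩ * g⁻¹) * k⁻¹ = _
      group
  · rw [MonoidHom.range_comp, ← hT]; rfl

theorem constrained_iff_pSolvable (hS : IsPGroup p S) :
    (∃ (G : Type u) (_ : Group G) (_ : Finite G) (ι : S →* G), IsPSolvable p G ∧ F.IsRealizedBy ι ∧
        ∃ T : Sylow p G, (T : Subgroup G) = ι.range) ↔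
      (F.IsConstrained p ∧ IsPSolvable p ↥(F.autGroup F.core)) := by
  constructor
  · rintro ⟨G, _, _, ι, hsol, hr, T, hT⟩
    constructor
    · haveI := CfsgLib.Solv.pPrimeCore_normal G p
      obtain ⟨hr', T', hT'⟩ := realized_quotient hr T hT (pPrimeCore p G) (coprime_card_pPrimeCore p)
      exact constrained_of_model ⟨inferInstance, hr', ⟨T', hT'⟩, CfsgLib.Perm.centralizer_pCore_le_of_pSolvable
        (CfsgLib.Perm.isPSolvable_quotient hsol _) CfsgLib.Solv.pPrimeCore_quotient_self⟩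
    · obtain ⟨θ, hθ, -⟩ := exists_aut_hom hr (isNormal_core (F := F)).1
      exact isPSolvable_of_surjective hθ (isPSolvable_subgroup hsol _)
  · rintro ⟨hF, hsol⟩
    obtain ⟨G, _, ι, hm⟩ := exists_model_of_constrained hS hF
    obtain ⟨hfin, hr, ⟨T, hT⟩, hc⟩ := id hm
    haveI := hfin
    refine ⟨G, ‹_›, hfin, ι, ?_, hr, T, hT⟩
    set Q := F.core with hQ
    have hQn : F.IsNormal Q := isNormal_core
    have hWQ : coreIn p ι ≤ Q := le_core (coreIn_normal hr T hT)
    haveI hWn := CfsgLib.Solv.pCore_normal G p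
    have hcr : pCore p G ≤ ι.range := hT ▸ normal_le_sylow inferInstance (CfsgLib.Solv.pCore_isPGroup G p) T
    have hWV : pCore p G ≤ vim ι Q := fun w hw => by
      obtain ⟨s, rfl⟩ := hcr hw
      exact ⟨s, hWQ (mem_coreIn.2 ⟨s.2, hw⟩), rfl⟩
    have hQS := hQn.1
    have hVn : ∀ g : G, g ∈ Subgroup.normalizer (vim ι Q : Set G) := by
      -- conjugation by `g` agrees on the `p`-core with an element normalizing the image of the core
      have key : ∀ g : G, ∀ v ∈ vim ι Q, g * v * g⁻¹ ∈ vim ι Q := by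
        intro g v hv
        obtain ⟨φ, hφ, hφg⟩ := exists_realized_map hr.1 (coreIn_le (p := p) (ι := ι)) (g := g) fun x =>
          hcr (hWn.conj_mem _ (mem_coreIn.1 x.2).2 g)
        rw [← eq_realized hr] at hφ
        obtain ⟨ψ, hψ, hψφ, hψQ⟩ := hQn.2 _ φ hφ
        have hψS := (F.le_of_mem hψ).2
        obtain ⟨h, hh⟩ := (hr.2 _ (sup_le coreIn_le hQS) ψ hψS).1 hψ
        have hcen : h⁻¹ * g ∈ Subgroup.centralizer ((pCore p G : Subgroup G) : Set G) := by
          refine Subgroup.mem_centralizer_iff.2 fun w hw => ?_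
          obtain ⟨s, rfl⟩ := hcr hw
          have hs : (s : Ω) ∈ coreIn p ι := mem_coreIn.2 ⟨s.2, hw⟩
          obtain ⟨hS', h1⟩ := hφg ⟨s, hs⟩
          have h2 := hh (Subgroup.inclusion le_sup_left ⟨s, hs⟩)
          have h3 : (⟨ψ (Subgroup.inclusion le_sup_left ⟨s, hs⟩), hψS _⟩ : ↥S) = ⟨φ ⟨s, hs⟩, hS'⟩ :=
            Subtype.ext (hψφ ⟨s, hs⟩)
          rw [h3, h1] at h2
          calc ι s * (h⁻¹ * g) = h⁻¹ * (h * ι s * h⁻¹) * g := by group
            _ = h⁻¹ * (g * ι s * g⁻¹) * g := by rw [h2]; rfl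
            _ = h⁻¹ * g * ι s := by group
        obtain ⟨r, hr'⟩ := hcr (hc hcen)
        obtain ⟨⟨x, hxS⟩, hx, rfl⟩ := hv
        have hrQ : (r : Ω) * x * (r : Ω)⁻¹ ∈ Q :=
          conj_mem_of_normalizer (stronglyClosed_normal (isNormal_stronglyClosed hQn) r.2) hx
        refine ⟨⟨ψ (Subgroup.inclusion le_sup_right ⟨_, hrQ⟩), hψS _⟩, hψQ.le ⟨_, hrQ, rfl⟩, ?_⟩
        rw [hh]
        show h * ι (r * ⟨x, hxS⟩ * r⁻¹) * h⁻¹ = g * ι ⟨x, hxS⟩ * g⁻¹
        rw [map_mul, map_mul, map_inv, hr']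
        group
      exact fun g => mem_normalizer_of_conj (key g) fun v hv => by simpa using key g⁻¹ v hv
    obtain ⟨θ, hθ, hker⟩ := exists_aut_hom hr hQS
    let ψ : G →* ↥(F.autGroup Q) := θ.comp ((MonoidHom.id G).codRestrict _ hVn)
    have hψ : Function.Surjective ψ := fun a => by
      obtain ⟨n, rfl⟩ := hθ a
      exact ⟨n, congrArg θ (Subtype.ext rfl)⟩
    have hkp : IsPGroup p ψ.ker := (CfsgLib.Solv.pCore_isPGroup G p).to_le fun g hg => by
      have h1 : (⟨g, hVn g⟩ : ↥(Subgroup.normalizer (vim ι Q : Set G))) ∈ θ.ker := hg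
      rw [hker, Subgroup.mem_subgroupOf] at h1
      exact hc (Subgroup.centralizer_le hWV h1)
    exact isPSolvable_extension ψ.ker hkp
      (isPSolvable_of_equiv (QuotientGroup.quotientKerEquivOfSurjective ψ hψ).symm hsol)

end CfsgLib.Fus.SolvReal
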