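import Mathlib.GroupTheory.Sylow
import Cfsg.Prelude.Def_FusionSystem

/-!
Basic calculus for fusion systems. A map of a fusion system with source `P` is handled as a function
`f : Ω → Ω` of which only the values on `P` matter (`IsMap F P f`).
-/

set_option autoImplicit false
set_option linter.style.haveILetI false

open Cfsg Cfsg.FusionSystem

namespace CfsgLib.Fus

variable {Ω : Type*} [Group Ω] {S : Subgroup Ω}

open scoped Classical in
/-- The function on the ambient group extending a homomorphism defined on `P` (value `1` outside `P`). -/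
noncomputable def ev {P : Subgroup Ω} (φ : P →* Ω) (x : Ω) : Ω :=
  if h : x ∈ P then φ ⟨x, h⟩ else 1

theorem ev_of_mem {P : Subgroup Ω} (φ : P →* Ω) {x : Ω} (h : x ∈ P) : ev φ x = φ ⟨x, h⟩ :=
  dif_pos h

theorem ev_apply {P : Subgroup Ω} (φ : P →* Ω) (x : P) : ev φ (x : Ω) = φ x :=
  ev_of_mem φ x.2

/-- Conjugation by `g` as a function. -/
def conjF (g : Ω) : Ω → Ω := fun x => g * x * g⁻¹

@[simp] theorem conjF_apply (g x : Ω) : conjF g x = g * x * g⁻¹ := rfl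

/-- The subgroup generated by the image of `P` under `f`. -/
def img (f : Ω → Ω) (P : Subgroup Ω) : Subgroup Ω := Subgroup.closure (f '' (P : Set Ω))

/-- `f` restricted to `P` is a map of the system with source `P`. -/
def IsMap (F : FusionSystem S) (P : Subgroup Ω) (f : Ω → Ω) : Prop :=
  ∃ φ ∈ F.Hom P, ∀ x : P, φ x = f x

theorem mem_img_of_mem {f : Ω → Ω} {P : Subgroup Ω} {x : Ω} (hx : x ∈ P) : f x ∈ img f P :=
  Subgroup.subset_closure ⟨x, hx, rfl⟩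

theorem img_le_iff {f : Ω → Ω} {P Q : Subgroup Ω} : img f P ≤ Q ↔ ∀ x ∈ P, f x ∈ Q := by
  refine ⟨fun h x hx => h (mem_img_of_mem hx), fun h => (Subgroup.closure_le _).2 ?_⟩
  rintro _ ⟨x, hx, rfl⟩
  exact h x hx

theorem img_mono {f : Ω → Ω} {P Q : Subgroup Ω} (h : P ≤ Q) : img f P ≤ img f Q :=
  img_le_iff.2 fun _ hx => mem_img_of_mem (h hx)

theorem img_congr {f g : Ω → Ω} {P : Subgroup Ω} (h : ∀ x ∈ P, f x = g x) : img f P = img g P :=
  le_antisymm (img_le_iff.2 fun x hx => h x hx ▸ mem_img_of_mem hx)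
    (img_le_iff.2 fun x hx => (h x hx).symm ▸ mem_img_of_mem hx)

theorem img_id (P : Subgroup Ω) : img id P = P := by
  rw [img, Set.image_id, Subgroup.closure_eq]

theorem img_conjF (g : Ω) (P : Subgroup Ω) : img (conjF g) P = P.map (MulAut.conj g).toMonoidHom := by
  refine le_antisymm (img_le_iff.2 fun x hx => ⟨x, hx, rfl⟩) ?_
  rintro _ ⟨x, hx, rfl⟩
  exact mem_img_of_mem (f := conjF g) hx

theorem img_ev {P : Subgroup Ω} (φ : P →* Ω) : img (ev φ) P = φ.range := by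
  refine le_antisymm (img_le_iff.2 fun x hx => ⟨⟨x, hx⟩, (ev_of_mem φ hx).symm⟩) ?_
  rintro _ ⟨x, rfl⟩
  rw [← ev_apply φ x]
  exact mem_img_of_mem x.2

theorem map_subgroupOf_eq_img {P Q : Subgroup Ω} (φ : P →* Ω) (hQ : Q ≤ P) :
    (Q.subgroupOf P).map φ = img (ev φ) Q := by
  refine le_antisymm ?_ (img_le_iff.2 fun x hx => ?_)
  · rintro _ ⟨x, hx, rfl⟩
    rw [← ev_apply φ x]
    exact mem_img_of_mem hx
  · exact ⟨⟨x, hQ hx⟩, hx, (ev_of_mem φ (hQ hx)).symm⟩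

namespace IsMap

variable {F : FusionSystem S} {P Q : Subgroup Ω} {f g : Ω → Ω}

theorem of_hom {φ : P →* Ω} (h : φ ∈ F.Hom P) : IsMap F P (ev φ) :=
  ⟨φ, h, fun x => (ev_apply φ x).symm⟩

theorem hom_mem (h : IsMap F P f) {φ : P →* Ω} (hφ : ∀ x : P, φ x = f x) : φ ∈ F.Hom P := by
  obtain ⟨ψ, hψ, hψf⟩ := h
  have : φ = ψ := MonoidHom.ext fun x => (hφ x).trans (hψf x).symm
  exact this ▸ hψ

theorem congr (h : IsMap F P f) (hfg : ∀ x ∈ P, f x = g x) : IsMap F P g := by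
  obtain ⟨φ, hφ, hφf⟩ := h
  exact ⟨φ, hφ, fun x => (hφf x).trans (hfg x x.2)⟩

theorem le (h : IsMap F P f) : P ≤ S := by
  obtain ⟨φ, hφ, -⟩ := h
  exact (F.le_of_mem hφ).1

theorem mem (h : IsMap F P f) {x : Ω} (hx : x ∈ P) : f x ∈ S := by
  obtain ⟨φ, hφ, hφf⟩ := h
  exact hφf ⟨x, hx⟩ ▸ (F.le_of_mem hφ).2 ⟨x, hx⟩

theorem map_mul (h : IsMap F P f) {x y : Ω} (hx : x ∈ P) (hy : y ∈ P) : f (x * y) = f x * f y := by
  obtain ⟨φ, -, hφf⟩ := h
  rw [← hφf ⟨x, hx⟩, ← hφf ⟨y, hy⟩, ← _root_.map_mul]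
  exact (hφf ⟨x * y, P.mul_mem hx hy⟩).symm

theorem map_one (h : IsMap F P f) : f 1 = 1 := by
  obtain ⟨φ, -, hφf⟩ := h
  exact (hφf 1).symm.trans (_root_.map_one φ)

theorem map_inv (h : IsMap F P f) {x : Ω} (hx : x ∈ P) : f x⁻¹ = (f x)⁻¹ :=
  eq_inv_of_mul_eq_one_left (by rw [← h.map_mul (P.inv_mem hx) hx, inv_mul_cancel, h.map_one])

theorem map_pow (h : IsMap F P f) {x : Ω} (hx : x ∈ P) (n : ℕ) : f (x ^ n) = f x ^ n := by
  induction n with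
  | zero => rw [pow_zero, pow_zero, h.map_one]
  | succ n ih => rw [pow_succ, pow_succ, h.map_mul (P.pow_mem hx n) hx, ih]

theorem map_conj (h : IsMap F P f) {x y : Ω} (hx : x ∈ P) (hy : y ∈ P) :
    f (x * y * x⁻¹) = f x * f y * (f x)⁻¹ := by
  rw [h.map_mul (P.mul_mem hx hy) (P.inv_mem hx), h.map_mul hx hy, h.map_inv hx]

theorem inj (h : IsMap F P f) {x y : Ω} (hx : x ∈ P) (hy : y ∈ P) (he : f x = f y) : x = y := by
  obtain ⟨φ, hφ, hφf⟩ := h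
  rw [← hφf ⟨x, hx⟩, ← hφf ⟨y, hy⟩] at he
  exact congrArg Subtype.val (F.injective_of_mem hφ he)

theorem eq_one_iff (h : IsMap F P f) {x : Ω} (hx : x ∈ P) : f x = 1 ↔ x = 1 :=
  ⟨fun he => h.inj hx P.one_mem (he.trans h.map_one.symm), fun he => he ▸ h.map_one⟩

theorem conj (F : FusionSystem S) (hP : P ≤ S) {a : Ω} (ha : a ∈ S) : IsMap F P (conjF a) :=
  ⟨conjHom P a, F.conj_mem hP ha, fun _ => rfl⟩

theorem id' (F : FusionSystem S) (hP : P ≤ S) : IsMap F P id :=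
  (conj F hP S.one_mem).congr fun x _ => by simp

theorem comp (h : IsMap F P f) (h' : IsMap F Q g) (hPQ : ∀ x ∈ P, f x ∈ Q) : IsMap F P (g ∘ f) := by
  obtain ⟨φ, hφ, hφf⟩ := h
  obtain ⟨ψ, hψ, hψg⟩ := h'
  refine ⟨_, F.comp_mem hφ hψ fun x => (hφf x).symm ▸ hPQ x x.2, fun x => ?_⟩
  exact (hψg _).trans (congrArg g (hφf x))

theorem comp_img (h : IsMap F P f) (h' : IsMap F (img f P) g) : IsMap F P (g ∘ f) :=
  h.comp h' fun _ hx => mem_img_of_mem hx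

theorem mono (h : IsMap F P f) (hQ : Q ≤ P) : IsMap F Q f :=
  ((id' F (hQ.trans h.le)).comp h fun _ hx => hQ hx).congr fun _ _ => rfl

theorem mem_img (h : IsMap F P f) {y : Ω} : y ∈ img f P ↔ ∃ x ∈ P, f x = y := by
  refine ⟨fun hy => ?_, fun ⟨x, hx, he⟩ => he ▸ mem_img_of_mem hx⟩
  induction hy using Subgroup.closure_induction with
  | mem z hz => exact hz
  | one => exact ⟨1, P.one_mem, h.map_one⟩
  | mul a b _ _ iha ihb =>
    obtain ⟨x, hx, rfl⟩ := iha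
    obtain ⟨y, hy, rfl⟩ := ihb
    exact ⟨x * y, P.mul_mem hx hy, h.map_mul hx hy⟩
  | inv a _ iha =>
    obtain ⟨x, hx, rfl⟩ := iha
    exact ⟨x⁻¹, P.inv_mem hx, h.map_inv hx⟩

theorem img_le (h : IsMap F P f) : img f P ≤ S :=
  img_le_iff.2 fun _ hx => h.mem hx

theorem img_comp (h : IsMap F P f) (g : Ω → Ω) : img (g ∘ f) P = img g (img f P) := by
  refine le_antisymm (img_le_iff.2 fun x hx => mem_img_of_mem (mem_img_of_mem hx))
    (img_le_iff.2 fun y hy => ?_)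
  obtain ⟨x, hx, rfl⟩ := h.mem_img.1 hy
  exact mem_img_of_mem (f := g ∘ f) hx

/-- The isomorphism induced by a map onto its image. -/
theorem equiv (h : IsMap F P f) (hQ : img f P = Q) : ∃ e : P ≃* Q, ∀ x : P, (e x : Ω) = f x := by
  subst hQ
  let r : P →* ↥(img f P) :=
    { toFun := fun x => ⟨f x, mem_img_of_mem x.2⟩
      map_one' := Subtype.ext h.map_one
      map_mul' := fun x y => Subtype.ext (h.map_mul x.2 y.2) }
  refine ⟨MulEquiv.ofBijective r ⟨fun x y he => Subtype.ext (h.inj x.2 y.2 (congrArg Subtype.val he)),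
    fun y => ?_⟩, fun x => rfl⟩
  obtain ⟨x, hx, hxy⟩ := h.mem_img.1 y.2
  exact ⟨⟨x, hx⟩, Subtype.ext hxy⟩

theorem card_img (h : IsMap F P f) : Nat.card ↥(img f P) = Nat.card P := by
  obtain ⟨e, -⟩ := h.equiv rfl
  exact (Nat.card_congr e.toEquiv).symm

theorem inv (h : IsMap F P f) :
    ∃ g : Ω → Ω, IsMap F (img f P) g ∧ (∀ x ∈ P, g (f x) = x) ∧ (∀ y ∈ img f P, f (g y) = y) ∧
      img g (img f P) = P := by
  have hr : ∀ φ : P →* Ω, (∀ x : P, φ x = f x) → φ.range = img f P := fun φ hφ => by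
    rw [← img_ev φ]
    exact img_congr fun x hx => (ev_of_mem φ hx).trans (hφ ⟨x, hx⟩)
  obtain ⟨φ, hφ, hφf⟩ := h
  obtain ⟨ψ, hψ, hψφ⟩ := F.inv_mem hφ
  have hm : IsMap F (img f P) (ev ψ) := hr φ hφf ▸ IsMap.of_hom hψ
  have hl : ∀ x ∈ P, ev ψ (f x) = x := fun x hx => by
    rw [← hφf ⟨x, hx⟩, ev_of_mem ψ ⟨⟨x, hx⟩, rfl⟩]
    exact hψφ _
  have hf : IsMap F P f := ⟨φ, hφ, hφf⟩
  refine ⟨ev ψ, hm, hl, fun y hy => ?_, le_antisymm (img_le_iff.2 fun y hy => ?_) fun x hx => ?_⟩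
  · obtain ⟨x, hx, rfl⟩ := hf.mem_img.1 hy
    rw [hl x hx]
  · obtain ⟨x, hx, rfl⟩ := hf.mem_img.1 hy
    rw [hl x hx]; exact hx
  · exact hl x hx ▸ mem_img_of_mem (mem_img_of_mem hx)

theorem mem_of_img_eq (h : IsMap F P f) (hQ : img f P = Q) {x : Ω} (hx : x ∈ P) : f x ∈ Q :=
  hQ ▸ mem_img_of_mem hx

end IsMap

variable {F : FusionSystem S}

theorem mem_hom_iff {P : Subgroup Ω} {φ : P →* Ω} : φ ∈ F.Hom P ↔ IsMap F P (ev φ) :=
  ⟨IsMap.of_hom, fun h => h.hom_mem fun x => (ev_apply φ x).symm⟩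

theorem le_iff {E : FusionSystem S} :
    F ≤ E ↔ ∀ (P : Subgroup Ω) (f : Ω → Ω), IsMap F P f → IsMap E P f :=
  ⟨fun h P f ⟨φ, hφ, hf⟩ => ⟨φ, h P hφ, hf⟩, fun h P φ hφ => mem_hom_iff.2 (h P _ (IsMap.of_hom hφ))⟩

theorem isSubsystemOf_iff {T : Subgroup Ω} {E : FusionSystem T} :
    E.IsSubsystemOf F ↔ ∀ (P : Subgroup Ω) (f : Ω → Ω), IsMap E P f → IsMap F P f :=
  ⟨fun h P f ⟨φ, hφ, hf⟩ => ⟨φ, h P hφ, hf⟩, fun h P φ hφ => mem_hom_iff.2 (h P _ (IsMap.of_hom hφ))⟩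

theorem hom_ext {T : Subgroup Ω} {E : FusionSystem T}
    (h : ∀ (P : Subgroup Ω) (f : Ω → Ω), IsMap E P f ↔ IsMap F P f) (P : Subgroup Ω) :
    E.Hom P = F.Hom P :=
  Set.ext fun φ => by rw [mem_hom_iff, mem_hom_iff]; exact h P _

theorem system_ext {E : FusionSystem S} (h : ∀ P : Subgroup Ω, F.Hom P = E.Hom P) : F = E := by
  obtain ⟨a, _, _, _, _, _⟩ := F
  obtain ⟨b, _, _, _, _, _⟩ := E
  obtain rfl : a = b := funext h
  rfl

/-! ### Conjugacy -/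

theorem isConj_iff {P Q : Subgroup Ω} : F.IsConj P Q ↔ ∃ f, IsMap F P f ∧ img f P = Q := by
  constructor
  · rintro ⟨φ, hφ, rfl⟩
    exact ⟨ev φ, IsMap.of_hom hφ, img_ev φ⟩
  · rintro ⟨f, ⟨φ, hφ, hφf⟩, rfl⟩
    refine ⟨φ, hφ, ?_⟩
    rw [← img_ev φ]
    exact img_congr fun x hx => (ev_of_mem φ hx).trans (hφf ⟨x, hx⟩)

theorem isConj_refl {P : Subgroup Ω} (hP : P ≤ S) : F.IsConj P P :=
  isConj_iff.2 ⟨id, IsMap.id' F hP, img_id P⟩

theorem isConj_symm {P Q : Subgroup Ω} (h : F.IsConj P Q) : F.IsConj Q P := by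
  obtain ⟨f, hf, rfl⟩ := isConj_iff.1 h
  obtain ⟨g, hg, -, -, hgi⟩ := hf.inv
  exact isConj_iff.2 ⟨g, hg, hgi⟩

theorem isConj_trans {P Q R : Subgroup Ω} (h : F.IsConj P Q) (h' : F.IsConj Q R) : F.IsConj P R := by
  obtain ⟨f, hf, rfl⟩ := isConj_iff.1 h
  obtain ⟨g, hg, rfl⟩ := isConj_iff.1 h'
  exact isConj_iff.2 ⟨g ∘ f, hf.comp_img hg, hf.img_comp g⟩

theorem isConj_le {P Q : Subgroup Ω} (h : F.IsConj P Q) : P ≤ S ∧ Q ≤ S := by
  obtain ⟨f, hf, rfl⟩ := isConj_iff.1 h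
  exact ⟨hf.le, hf.img_le⟩

theorem card_eq_of_isConj {P Q : Subgroup Ω} (h : F.IsConj P Q) : Nat.card Q = Nat.card P := by
  obtain ⟨f, hf, rfl⟩ := isConj_iff.1 h
  exact hf.card_img

theorem isConj_map_conj {P : Subgroup Ω} (hP : P ≤ S) {a : Ω} (ha : a ∈ S) :
    F.IsConj P (P.map (MulAut.conj a).toMonoidHom) :=
  isConj_iff.2 ⟨conjF a, IsMap.conj F hP ha, img_conjF a P⟩

theorem finite_of_le [Finite S] {P : Subgroup Ω} (hP : P ≤ S) : Finite P :=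
  Finite.of_injective (Subgroup.inclusion hP) (Subgroup.inclusion_injective hP)

theorem isPGroup_of_le {p : ℕ} (hS : IsPGroup p S) {P : Subgroup Ω} (hP : P ≤ S) : IsPGroup p P :=
  hS.to_le hP

/-- A subgroup conjugate to `P` that is at least as large as every other for the given measure. -/
theorem exists_max_conj [Finite S] {P : Subgroup Ω} (hP : P ≤ S) (m : Subgroup Ω → ℕ) :
    ∃ Q, F.IsConj P Q ∧ ∀ R, F.IsConj P R → m R ≤ m Q := by
  have hfin : {Q : Subgroup Ω | F.IsConj P Q}.Finite := by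
    have : Finite {Q : Subgroup Ω // Q ≤ S} :=
      Finite.of_injective (fun Q => (Q.1.subgroupOf S)) fun Q R h => Subtype.ext (by
        have := Subgroup.subgroupOf_inj.1 h
        rwa [inf_eq_left.2 Q.2, inf_eq_left.2 R.2] at this)
    haveI : Finite ↑{Q : Subgroup Ω | Q ≤ S} := this
    exact (Set.toFinite {Q : Subgroup Ω | Q ≤ S}).subset fun Q hQ => (isConj_le hQ).2
  obtain ⟨Q, hQ, hmax⟩ := hfin.exists_maximalFor m _ ⟨P, isConj_refl hP⟩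
  exact ⟨Q, hQ, fun R hR => le_of_not_gt fun hlt => (hmax hR hlt.le).not_gt hlt⟩

theorem exists_fullyNormalized [Finite S] {P : Subgroup Ω} (hP : P ≤ S) :
    ∃ Q, F.IsConj P Q ∧ F.IsFullyNormalized Q := by
  obtain ⟨Q, hQ, hmax⟩ := exists_max_conj (F := F) hP fun R => Nat.card (normalizerIn S R)
  exact ⟨Q, hQ, (isConj_le hQ).2, fun R hR => hmax R (isConj_trans hQ hR)⟩

theorem exists_fullyCentralized [Finite S] {P : Subgroup Ω} (hP : P ≤ S) :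
    ∃ Q, F.IsConj P Q ∧ F.IsFullyCentralized Q := by
  obtain ⟨Q, hQ, hmax⟩ := exists_max_conj (F := F) hP fun R => Nat.card (centralizerIn S R)
  exact ⟨Q, hQ, (isConj_le hQ).2, fun R hR => hmax R (isConj_trans hQ hR)⟩

/-! ### Normalizers and centralizers in `S` -/

theorem mem_normalizerIn {P : Subgroup Ω} {x : Ω} :
    x ∈ normalizerIn S P ↔ x ∈ S ∧ x ∈ Subgroup.normalizer (P : Set Ω) := Iff.rfl

theorem mem_centralizerIn {P : Subgroup Ω} {x : Ω} :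
    x ∈ centralizerIn S P ↔ x ∈ S ∧ ∀ y ∈ P, y * x = x * y := Iff.rfl

theorem normalizerIn_le (P : Subgroup Ω) : normalizerIn S P ≤ S := inf_le_left

theorem centralizerIn_le (P : Subgroup Ω) : centralizerIn S P ≤ S := inf_le_left

theorem le_normalizerIn {P : Subgroup Ω} (hP : P ≤ S) : P ≤ normalizerIn S P :=
  le_inf hP Subgroup.le_normalizer

theorem centralizerIn_le_normalizerIn (P : Subgroup Ω) : centralizerIn S P ≤ normalizerIn S P :=
  inf_le_inf le_rfl (Subgroup.centralizer_le_normalizer _)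

theorem conj_mem_of_normalizer {P : Subgroup Ω} {g x : Ω} (hg : g ∈ Subgroup.normalizer (P : Set Ω))
    (hx : x ∈ P) : g * x * g⁻¹ ∈ P :=
  (Subgroup.mem_normalizer_iff.1 hg x).1 hx

theorem conj_mem_of_normalizer' {P : Subgroup Ω} {g x : Ω} (hg : g ∈ Subgroup.normalizer (P : Set Ω))
    (hx : x ∈ P) : g⁻¹ * x * g ∈ P :=
  (Subgroup.mem_normalizer_iff''.1 hg x).1 hx

theorem mem_normalizer_of_conj {P : Subgroup Ω} {g : Ω} (h : ∀ x ∈ P, g * x * g⁻¹ ∈ P)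
    (h' : ∀ x ∈ P, g⁻¹ * x * g ∈ P) : g ∈ Subgroup.normalizer (P : Set Ω) :=
  Subgroup.mem_normalizer_iff.2 fun x => ⟨h x, fun hx => by simpa [mul_assoc] using h' _ hx⟩

namespace IsMap

variable {P M : Subgroup Ω} {f : Ω → Ω}

theorem map_normalizer (h : IsMap F M f) (hPM : P ≤ M) {x : Ω} (hx : x ∈ M)
    (hxP : x ∈ Subgroup.normalizer (P : Set Ω)) : f x ∈ Subgroup.normalizer (img f P : Set Ω) := by
  have key : ∀ x ∈ M, x ∈ Subgroup.normalizer (P : Set Ω) → ∀ y ∈ img f P,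
      f x * y * (f x)⁻¹ ∈ img f P := by
    intro x hx hxP y hy
    obtain ⟨z, hz, rfl⟩ := (h.mono hPM).mem_img.1 hy
    rw [← h.map_conj hx (hPM hz)]
    exact mem_img_of_mem (conj_mem_of_normalizer hxP hz)
  refine mem_normalizer_of_conj (key x hx hxP) fun y hy => ?_
  have := key x⁻¹ (M.inv_mem hx) (Subgroup.inv_mem _ hxP) y hy
  rwa [h.map_inv hx, inv_inv] at this

theorem map_normalizerIn (h : IsMap F M f) (hPM : P ≤ M) {x : Ω} (hx : x ∈ M)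
    (hxP : x ∈ normalizerIn S P) : f x ∈ normalizerIn S (img f P) :=
  ⟨h.mem hx, h.map_normalizer hPM hx hxP.2⟩

theorem map_centralizerIn (h : IsMap F M f) (hPM : P ≤ M) {x : Ω} (hx : x ∈ M)
    (hxP : ∀ y ∈ P, y * x = x * y) : f x ∈ centralizerIn S (img f P) := by
  refine ⟨h.mem hx, fun y hy => ?_⟩
  obtain ⟨z, hz, rfl⟩ := (h.mono hPM).mem_img.1 hy
  rw [← h.map_mul (hPM hz) hx, hxP z hz, h.map_mul hx (hPM hz)]

theorem img_centralizerIn_le (h : IsMap F M f) (hPM : P ≤ M) (hC : centralizerIn S P ≤ M) :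
    img f (centralizerIn S P) ≤ centralizerIn S (img f P) :=
  img_le_iff.2 fun _ hx => h.map_centralizerIn hPM (hC hx) hx.2

theorem img_normalizerIn_le (h : IsMap F M f) (hPM : P ≤ M) (hN : normalizerIn S P ≤ M) :
    img f (normalizerIn S P) ≤ normalizerIn S (img f P) :=
  img_le_iff.2 fun _ hx => h.map_normalizerIn hPM (hN hx) hx

end IsMap

/-! ### Closedness, normal and central subgroups -/

theorem isConjElt_iff {x y : Ω} :
    F.IsConjElt x y ↔ ∃ f, IsMap F (Subgroup.zpowers x) f ∧ f x = y := by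
  constructor
  · rintro ⟨φ, hφ, rfl⟩
    exact ⟨ev φ, IsMap.of_hom hφ, ev_of_mem φ (Subgroup.mem_zpowers x)⟩
  · rintro ⟨f, ⟨φ, hφ, hφf⟩, rfl⟩
    exact ⟨φ, hφ, hφf _⟩

theorem isConjElt_of_map {P : Subgroup Ω} {f : Ω → Ω} (h : IsMap F P f) {x : Ω} (hx : x ∈ P) :
    F.IsConjElt x (f x) :=
  isConjElt_iff.2 ⟨f, h.mono (Subgroup.zpowers_le.2 hx), rfl⟩

theorem stronglyClosed_iff {T : Subgroup Ω} :
    F.StronglyClosed T ↔ T ≤ S ∧ ∀ (P : Subgroup Ω) (f : Ω → Ω), IsMap F P f →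
      ∀ x ∈ P, x ∈ T → f x ∈ T := by
  constructor
  · rintro ⟨hT, h⟩
    refine ⟨hT, fun P f hf x hx hxT => ?_⟩
    obtain ⟨φ, hφ, hφf⟩ := hf.mono (inf_le_left : P ⊓ T ≤ P)
    exact hφf ⟨x, hx, hxT⟩ ▸ h _ inf_le_right φ hφ _
  · rintro ⟨hT, h⟩
    exact ⟨hT, fun R hR φ hφ x => ev_apply φ x ▸ h R _ (IsMap.of_hom hφ) x x.2 (hR x.2)⟩

theorem weaklyClosed_iff {T : Subgroup Ω} :
    F.WeaklyClosed T ↔ T ≤ S ∧ ∀ f : Ω → Ω, IsMap F T f → img f T = T := by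
  constructor
  · rintro ⟨hT, h⟩
    refine ⟨hT, fun f ⟨φ, hφ, hφf⟩ => ?_⟩
    rw [img_congr (g := ev φ) fun x hx => ((ev_of_mem φ hx).trans (hφf ⟨x, hx⟩)).symm, img_ev]
    exact h φ hφ
  · rintro ⟨hT, h⟩
    exact ⟨hT, fun φ hφ => img_ev φ ▸ h _ (IsMap.of_hom hφ)⟩

theorem isNormal_iff {Q : Subgroup Ω} :
    F.IsNormal Q ↔ Q ≤ S ∧ ∀ (P : Subgroup Ω) (f : Ω → Ω), IsMap F P f →
      ∃ g, IsMap F (P ⊔ Q) g ∧ (∀ x ∈ P, g x = f x) ∧ img g Q = Q := by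
  constructor
  · rintro ⟨hQ, h⟩
    refine ⟨hQ, fun P f ⟨φ, hφ, hφf⟩ => ?_⟩
    obtain ⟨ψ, hψ, hext, hQe⟩ := h P φ hφ
    refine ⟨ev ψ, IsMap.of_hom hψ, fun x hx => ?_, (map_subgroupOf_eq_img ψ le_sup_right).symm.trans hQe⟩
    rw [← hφf ⟨x, hx⟩, ← hext ⟨x, hx⟩]
    exact ev_of_mem ψ (le_sup_left (b := Q) hx)
  · rintro ⟨hQ, h⟩
    refine ⟨hQ, fun P φ hφ => ?_⟩
    obtain ⟨g, ⟨ψ, hψ, hψg⟩, hext, hQe⟩ := h P _ (IsMap.of_hom hφ)
    refine ⟨ψ, hψ, fun x => ?_, ?_⟩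
    · rw [hψg]
      exact (hext x x.2).trans (ev_apply φ x)
    · rw [map_subgroupOf_eq_img ψ le_sup_right]
      exact (img_congr fun x hx => (ev_of_mem ψ (le_sup_right (a := P) hx)).trans (hψg _)).trans hQe

theorem isCentral_iff {Q : Subgroup Ω} :
    F.IsCentral Q ↔ Q ≤ S ∧ ∀ (P : Subgroup Ω) (f : Ω → Ω), IsMap F P f →
      ∃ g, IsMap F (P ⊔ Q) g ∧ (∀ x ∈ P, g x = f x) ∧ ∀ x ∈ Q, g x = x := by
  constructor
  · rintro ⟨hQ, h⟩
    refine ⟨hQ, fun P f ⟨φ, hφ, hφf⟩ => ?_⟩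
    obtain ⟨ψ, hψ, hext, hQe⟩ := h P φ hφ
    refine ⟨ev ψ, IsMap.of_hom hψ, fun x hx => ?_, fun x hx => ?_⟩
    · rw [← hφf ⟨x, hx⟩, ← hext ⟨x, hx⟩]
      exact ev_of_mem ψ (le_sup_left (b := Q) hx)
    · exact (ev_of_mem ψ (le_sup_right (a := P) hx)).trans (hQe ⟨x, hx⟩)
  · rintro ⟨hQ, h⟩
    refine ⟨hQ, fun P φ hφ => ?_⟩
    obtain ⟨g, ⟨ψ, hψ, hψg⟩, hext, hQe⟩ := h P _ (IsMap.of_hom hφ)
    exact ⟨ψ, hψ, fun x => by rw [hψg]; exact (hext x x.2).trans (ev_apply φ x),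
      fun x => by rw [hψg]; exact hQe x x.2⟩

/-! ### The extender -/

theorem mem_extender {P : Subgroup Ω} {φ : P →* Ω} {g : Ω} :
    g ∈ extender S P φ ↔ g ∈ S ∧ g ∈ Subgroup.normalizer (P : Set Ω) ∧
      ∃ h ∈ S, ∀ x ∈ P, ev φ (g * x * g⁻¹) = h * ev φ x * h⁻¹ := by
  constructor
  · intro hg
    induction hg using Subgroup.closure_induction with
    | mem g hg =>
      obtain ⟨hgS, hgN, h, hh, he⟩ := hg
      refine ⟨hgS, hgN, h, hh, fun x hx => ?_⟩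
      rw [ev_of_mem φ (conj_mem_of_normalizer hgN hx), ev_of_mem φ hx]
      exact he ⟨x, hx⟩ _
    | one => exact ⟨S.one_mem, Subgroup.one_mem _, 1, S.one_mem, fun x _ => by simp⟩
    | mul a b _ _ iha ihb =>
      obtain ⟨haS, haN, h, hh, he⟩ := iha
      obtain ⟨hbS, hbN, k, hk, hek⟩ := ihb
      refine ⟨S.mul_mem haS hbS, Subgroup.mul_mem _ haN hbN, h * k, S.mul_mem hh hk, fun x hx => ?_⟩
      rw [show a * b * x * (a * b)⁻¹ = a * (b * x * b⁻¹) * a⁻¹ by simp only [mul_inv_rev, mul_assoc],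
        he _ (conj_mem_of_normalizer hbN hx), hek x hx]
      simp only [mul_inv_rev, mul_assoc]
    | inv a _ iha =>
      obtain ⟨haS, haN, h, hh, he⟩ := iha
      refine ⟨S.inv_mem haS, Subgroup.inv_mem _ haN, h⁻¹, S.inv_mem hh, fun x hx => ?_⟩
      have := he _ (conj_mem_of_normalizer (Subgroup.inv_mem _ haN) hx)
      rw [show a * (a⁻¹ * x * a⁻¹⁻¹) * a⁻¹ = x by simp [mul_assoc]] at this
      rw [this]
      simp [mul_assoc]
  · rintro ⟨hgS, hgN, h, hh, he⟩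
    refine Subgroup.subset_closure ⟨hgS, hgN, h, hh, fun x hx => ?_⟩
    rw [← ev_of_mem φ hx, ← ev_apply φ x]
    exact he x x.2

theorem extender_le (P : Subgroup Ω) (φ : P →* Ω) : extender S P φ ≤ S :=
  fun _ h => (mem_extender.1 h).1

theorem extender_le_normalizerIn (P : Subgroup Ω) (φ : P →* Ω) :
    extender S P φ ≤ normalizerIn S P :=
  fun _ h => ⟨(mem_extender.1 h).1, (mem_extender.1 h).2.1⟩

theorem le_extender {P : Subgroup Ω} {φ : P →* Ω} (hφ : φ ∈ F.Hom P) : P ≤ extender S P φ :=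
  fun g hg => mem_extender.2 ⟨(F.le_of_mem hφ).1 hg, Subgroup.le_normalizer hg, ev φ g,
    (IsMap.of_hom hφ).mem hg, fun _ hx => (IsMap.of_hom hφ).map_conj hg hx⟩

theorem centralizerIn_le_extender (P : Subgroup Ω) (φ : P →* Ω) :
    centralizerIn S P ≤ extender S P φ :=
  fun g hg => mem_extender.2 ⟨hg.1, Subgroup.centralizer_le_normalizer _ hg.2, 1, S.one_mem,
    fun x hx => by rw [one_mul, inv_one, mul_one, ← hg.2 x hx, mul_inv_cancel_right]⟩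

/-- A map whose image is receptive extends to any subgroup of its extender. -/
theorem extend {P Q N : Subgroup Ω} {f : Ω → Ω} (hQ : F.IsReceptive Q) (hf : IsMap F P f)
    (himg : img f P = Q)
    (hN : ∀ g ∈ N, g ∈ S ∧ g ∈ Subgroup.normalizer (P : Set Ω) ∧
      ∃ h ∈ S, ∀ x ∈ P, f (g * x * g⁻¹) = h * f x * h⁻¹) :
    ∃ f', IsMap F (P ⊔ N) f' ∧ ∀ x ∈ P, f' x = f x := by
  obtain ⟨φ, hφ, hφf⟩ := hf
  have hev : ∀ x ∈ P, ev φ x = f x := fun x hx => (ev_of_mem φ hx).trans (hφf ⟨x, hx⟩)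
  have hrange : φ.range = Q := by rw [← img_ev φ, img_congr hev, himg]
  obtain ⟨ψ, hψ, hψe⟩ := hQ.2 P φ hφ hrange
  have hle : P ⊔ N ≤ extender S P φ := sup_le (le_extender hφ) fun g hg => by
    obtain ⟨hgS, hgN, h, hh, he⟩ := hN g hg
    refine mem_extender.2 ⟨hgS, hgN, h, hh, fun x hx => ?_⟩
    rw [hev _ (conj_mem_of_normalizer hgN hx), hev x hx]
    exact he x hx
  refine ⟨ev ψ, (IsMap.of_hom hψ).mono hle, fun x hx => ?_⟩
  rw [ev_of_mem ψ (le_extender hφ hx), hψe x hx, ← ev_of_mem φ hx, hev x hx]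

theorem isReceptive_of {Q : Subgroup Ω} (hQ : Q ≤ S)
    (h : ∀ (P M : Subgroup Ω) (f : Ω → Ω), IsMap F P f → img f P = Q → P ≤ M →
      M ≤ normalizerIn S P →
      (∀ g ∈ M, ∃ s ∈ S, ∀ x ∈ P, f (g * x * g⁻¹) = s * f x * s⁻¹) →
      ∃ f', IsMap F M f' ∧ ∀ x ∈ P, f' x = f x) : F.IsReceptive Q := by
  refine ⟨hQ, fun P φ hφ hrange => ?_⟩
  obtain ⟨f', hf', he⟩ := h P (extender S P φ) (ev φ) (IsMap.of_hom hφ) (by rw [img_ev, hrange])
    (le_extender hφ) (extender_le_normalizerIn P φ) fun g hg => (mem_extender.1 hg).2.2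
  obtain ⟨ψ, hψ, hψf⟩ := hf'
  refine ⟨ψ, hψ, fun x hP hN => ?_⟩
  rw [hψf]
  exact (he x hP).trans (ev_of_mem φ hP)

end CfsgLib.Fus
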