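import Cfsg.Agent.Fus.Automizer

/-!
Fully normalized, fully centralized, fully automized and receptive subgroups; saturation.
-/

set_option autoImplicit false
set_option linter.style.haveILetI false

open Cfsg Cfsg.FusionSystem

namespace CfsgLib.Fus

variable {Ω : Type*} [Group Ω] {S : Subgroup Ω} {F : FusionSystem S} {p : ℕ}

theorem fa_iff [Finite S] [Fact p.Prime] (hS : IsPGroup p S) {P : Subgroup Ω} :
    F.IsFullyAutomized p P ↔
      P ≤ S ∧ ¬ p ∣ ((autInducedBy S P).subgroupOf (F.autGroup P)).index := by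
  constructor
  · rintro ⟨hP, R, hR⟩
    haveI := finite_mulAut hP
    exact ⟨hP, hR ▸ R.not_dvd_index⟩
  · rintro ⟨hP, h⟩
    haveI := finite_mulAut hP
    have hp : IsPGroup p ↥((autInducedBy S P).subgroupOf (F.autGroup P)) :=
      (isPGroup_autInducedBy hS).comap_of_injective _ (Subgroup.subtype_injective _)
    exact ⟨hP, hp.toSylow h, rfl⟩

theorem card_subgroupOf_aut {P : Subgroup Ω} (hP : P ≤ S) :
    Nat.card ↥((autInducedBy S P).subgroupOf (F.autGroup P)) = Nat.card ↥(autInducedBy S P) :=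
  Nat.card_congr (Subgroup.subgroupOfEquivOfLe (autInducedBy_le_autGroup hP)).toEquiv

theorem fa_of_card_le [Finite S] [Fact p.Prime] (hS : IsPGroup p S) {P Q : Subgroup Ω} (hP : P ≤ S)
    (hQ : F.IsFullyAutomized p Q) (hconj : F.IsConj P Q)
    (hle : Nat.card ↥(autInducedBy S Q) ≤ Nat.card ↥(autInducedBy S P)) :
    F.IsFullyAutomized p P := by
  haveI := finite_mulAut hP
  haveI := finite_mulAut hQ.1
  obtain ⟨R, hR⟩ := hQ.2
  have hA : IsPGroup p ↥((autInducedBy S P).subgroupOf (F.autGroup P)) :=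
    (isPGroup_autInducedBy hS).comap_of_injective _ (Subgroup.subtype_injective _)
  obtain ⟨R', hR'⟩ := hA.exists_le_sylow
  refine ⟨hP, R', (Subgroup.eq_of_le_of_card_ge hR' ?_).symm⟩
  have h1 : Nat.card ↥(R' : Subgroup ↥(F.autGroup P)) = Nat.card ↥(R : Subgroup ↥(F.autGroup Q)) := by
    rw [R'.card_eq_multiplicity, R.card_eq_multiplicity, card_autGroup_eq hconj]
  rw [h1, hR, card_subgroupOf_aut hP, card_subgroupOf_aut hQ.1]
  exact hle

theorem card_autInducedBy_le [Finite S] [Fact p.Prime] (hS : IsPGroup p S) {P Q : Subgroup Ω}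
    (hQ : F.IsFullyAutomized p Q) (hconj : F.IsConj P Q) :
    Nat.card ↥(autInducedBy S P) ≤ Nat.card ↥(autInducedBy S Q) := by
  have hP := (isConj_le hconj).1
  haveI := finite_mulAut hP
  haveI := finite_mulAut hQ.1
  obtain ⟨R, hR⟩ := hQ.2
  have hA : IsPGroup p ↥((autInducedBy S P).subgroupOf (F.autGroup P)) :=
    (isPGroup_autInducedBy hS).comap_of_injective _ (Subgroup.subtype_injective _)
  obtain ⟨R', hR'⟩ := hA.exists_le_sylow
  rw [← card_subgroupOf_aut (F := F) hP, ← card_subgroupOf_aut (F := F) hQ.1, ← hR,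
    R.card_eq_multiplicity, card_autGroup_eq hconj, ← R'.card_eq_multiplicity]
  exact Subgroup.card_le_of_le hR'

/-- A receptive subgroup is fully centralized. -/
theorem fullyCentralized_of_receptive [Finite S] {Q : Subgroup Ω} (hQ : F.IsReceptive Q) :
    F.IsFullyCentralized Q := by
  refine ⟨hQ.1, fun R hR => ?_⟩
  obtain ⟨f, hf, hfi⟩ := isConj_iff.1 (isConj_symm hR)
  obtain ⟨g, hg, he⟩ := extend hQ hf hfi (N := centralizerIn S R) fun x hx =>
    ⟨hx.1, Subgroup.centralizer_le_normalizer _ hx.2, 1, S.one_mem, fun y hy => by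
      rw [one_mul, inv_one, mul_one, ← hx.2 y hy, mul_inv_cancel_right]⟩
  have hgi : img g R = Q := (img_congr he).trans hfi
  haveI := finite_of_le (centralizerIn_le (S := S) Q)
  rw [← (hg.mono le_sup_right).card_img]
  refine Subgroup.card_le_of_le (img_le_iff.2 fun x hx => ?_)
  exact hgi ▸ hg.map_centralizerIn le_sup_left (le_sup_right (a := R) hx) hx.2

/-- Fully centralized and fully automized imply fully normalized. -/
theorem fullyNormalized_of [Finite S] [Fact p.Prime] (hS : IsPGroup p S) {Q : Subgroup Ω}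
    (h1 : F.IsFullyAutomized p Q) (h2 : F.IsFullyCentralized Q) : F.IsFullyNormalized Q := by
  refine ⟨h1.1, fun R hR => ?_⟩
  rw [← card_autInducedBy_mul, ← card_autInducedBy_mul]
  exact Nat.mul_le_mul (card_autInducedBy_le hS h1 (isConj_symm hR)) (h2.2 R hR)

theorem card_autInducedBy_pos [Finite S] {P : Subgroup Ω} (hP : P ≤ S) :
    0 < Nat.card ↥(autInducedBy S P) :=
  haveI := finite_mulAut hP
  Nat.card_pos

/-- Some map of the system carries `N_S(P)` into `N_S(Q)` and `P` onto `Q`. -/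
theorem exists_normalizer_map [Finite S] [Fact p.Prime] (hS : IsPGroup p S) {P Q : Subgroup Ω}
    (h1 : F.IsFullyAutomized p Q) (h2 : F.IsReceptive Q) (hc : F.IsConj P Q) :
    ∃ g, IsMap F (normalizerIn S P) g ∧ img g P = Q ∧
      img g (normalizerIn S P) ≤ normalizerIn S Q := by
  obtain ⟨f, hf, hfi⟩ := isConj_iff.1 hc
  obtain ⟨e, he⟩ := hf.equiv hfi
  have hP := hf.le
  haveI := finite_mulAut hP
  haveI := finite_mulAut h1.1
  let A : Subgroup ↥(F.autGroup Q) :=
    ((autInducedBy S P).map (MulAut.congr e).toMonoidHom).subgroupOf (F.autGroup Q)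
  have hA : IsPGroup p ↥A :=
    ((isPGroup_autInducedBy hS).map _).comap_of_injective _ (Subgroup.subtype_injective _)
  obtain ⟨T, hT⟩ := hA.exists_le_sylow
  obtain ⟨R, hR⟩ := h1.2
  obtain ⟨⟨c, hcF⟩, hcTR⟩ := MulAction.exists_smul_eq ↥(F.autGroup Q) T R
  have hmap : ∀ α ∈ autInducedBy S P, c * MulAut.congr e α * c⁻¹ ∈ autInducedBy S Q := by
    intro α hα
    have hm : MulAut.congr e α ∈ F.autGroup Q :=
      congr_mem_autGroup hf hfi he (autInducedBy_le_autGroup hP hα)
    have h3 : (⟨c, hcF⟩ * ⟨_, hm⟩ * ⟨c, hcF⟩⁻¹ : ↥(F.autGroup Q)) ∈ (R : Subgroup ↥(F.autGroup Q)) := by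
      rw [← hcTR, Sylow.coe_subgroup_smul]
      exact Subgroup.smul_mem_pointwise_smul _ _ _ (hT ⟨α, hα, rfl⟩)
    rw [hR] at h3
    exact h3
  have hc' := (mem_autGroup h1.1).1 hcF
  have hfQ : ∀ x ∈ P, f x ∈ Q := fun x hx => hfi ▸ mem_img_of_mem hx
  have hf'i : img (autFun c ∘ f) P = Q := by rw [hf.img_comp, hfi, img_autFun]
  obtain ⟨g, hg, hge⟩ := extend h2 (hf.comp hc' hfQ) hf'i (N := normalizerIn S P) fun a ha => by
    obtain ⟨α, hα, hαe⟩ := exists_autInducedBy ha.1 ha.2
    obtain ⟨s, hs, hse⟩ := mem_autInducedBy.1 (hmap α hα)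
    refine ⟨ha.1, ha.2, s, hs, fun x hx => ?_⟩
    have := hse _ (autFun_mem c (hfQ x hx))
    rw [autFun_mul _ _ (autFun_mem c (hfQ x hx)), autFun_mul _ _ (autFun_mem _ (autFun_mem c (hfQ x hx))),
      ← autFun_mul c⁻¹ c (hfQ x hx), inv_mul_cancel, autFun_one (hfQ x hx), autFun_congr he α hx, hαe x hx] at this
    exact this
  rw [sup_eq_right.2 (le_normalizerIn hP)] at hg
  have hgi : img g P = Q := (img_congr hge).trans hf'i
  exact ⟨g, hg, hgi, hgi ▸ hg.img_normalizerIn_le (le_normalizerIn hP) le_rfl⟩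

theorem img_normalizer_centralizer [Finite S] {P Q : Subgroup Ω} {g : Ω → Ω}
    (hg : IsMap F (normalizerIn S P) g) (hPS : P ≤ S) (hgi : img g P = Q)
    (hle : Nat.card ↥(normalizerIn S Q) ≤ Nat.card ↥(normalizerIn S P)) :
    img g (normalizerIn S P) = normalizerIn S Q ∧
      img g (centralizerIn S P) = centralizerIn S Q := by
  haveI := finite_of_le (normalizerIn_le (S := S) Q)
  have hN : img g (normalizerIn S P) = normalizerIn S Q :=
    Subgroup.eq_of_le_of_card_ge (hgi ▸ hg.img_normalizerIn_le (le_normalizerIn hPS) le_rfl)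
      (hg.card_img.symm ▸ hle)
  refine ⟨hN, le_antisymm
    (hgi ▸ hg.img_centralizerIn_le (le_normalizerIn hPS) (centralizerIn_le_normalizerIn P)) ?_⟩
  intro y hy
  obtain ⟨x, hx, rfl⟩ := hg.mem_img.1 (hN.ge (centralizerIn_le_normalizerIn Q hy))
  refine mem_img_of_mem ⟨hx.1, fun z hz => ?_⟩
  have hzN := le_normalizerIn hPS hz
  refine hg.inj ((normalizerIn S P).mul_mem hzN hx) ((normalizerIn S P).mul_mem hx hzN) ?_
  rw [hg.map_mul hzN hx, hg.map_mul hx hzN]
  exact hy.2 _ (hgi ▸ mem_img_of_mem hz)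

/-- Receptivity passes backwards along a map between normalizers. -/
theorem receptive_transfer [Finite S] {P Q : Subgroup Ω} {g : Ω → Ω}
    (hg : IsMap F (normalizerIn S P) g) (hPS : P ≤ S) (hgi : img g P = Q)
    (hC : centralizerIn S Q ≤ img g (normalizerIn S P)) (hQ : F.IsReceptive Q) :
    F.IsReceptive P := by
  refine isReceptive_of hPS fun R M f hf hfi hRM hM hMf => ?_
  have hPN := le_normalizerIn hPS
  have hfP : ∀ x ∈ R, f x ∈ P := fun x hx => hfi ▸ mem_img_of_mem hx
  have hgf : IsMap F R (g ∘ f) := hf.comp hg fun x hx => hPN (hfP x hx)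
  have hgfi : img (g ∘ f) R = Q := by rw [hf.img_comp, hfi, hgi]
  have hs : ∀ a ∈ M, ∃ s ∈ normalizerIn S P, ∀ x ∈ R, f (a * x * a⁻¹) = s * f x * s⁻¹ := by
    intro a ha
    obtain ⟨s, hs, he⟩ := hMf a ha
    refine ⟨s, ⟨hs, mem_normalizer_of_conj (fun y hy => ?_) fun y hy => ?_⟩, he⟩
    · obtain ⟨x, hx, rfl⟩ := hf.mem_img.1 (hfi.ge hy)
      rw [← he x hx]
      exact hfP _ (conj_mem_of_normalizer (hM ha).2 hx)
    · obtain ⟨x, hx, rfl⟩ := hf.mem_img.1 (hfi.ge hy)
      have := he _ (conj_mem_of_normalizer' (hM ha).2 hx)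
      rw [show a * (a⁻¹ * x * a) * a⁻¹ = x by simp [mul_assoc]] at this
      have h2 : s⁻¹ * f x * s = f (a⁻¹ * x * a) := by rw [this]; simp [mul_assoc]
      rw [h2]
      exact hfP _ (conj_mem_of_normalizer' (hM ha).2 hx)
  obtain ⟨h, hh, hhe⟩ := extend hQ hgf hgfi (N := M) fun a ha => by
    obtain ⟨s, hs, he⟩ := hs a ha
    refine ⟨(hM ha).1, (hM ha).2, g s, hg.mem hs, fun x hx => ?_⟩
    rw [Function.comp_apply, he x hx, hg.map_conj hs (hPN (hfP x hx))]
    rfl
  rw [sup_eq_right.2 hRM] at hh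
  have hhM : img h M ≤ img g (normalizerIn S P) := img_le_iff.2 fun a ha => by
    obtain ⟨s, hsN, he⟩ := hs a ha
    have key : (g s)⁻¹ * h a ∈ centralizerIn S Q := by
      refine ⟨S.mul_mem (S.inv_mem (hg.mem hsN)) (hh.mem ha), fun y hy => ?_⟩
      obtain ⟨x, hx, rfl⟩ := hgf.mem_img.1 (hgfi.ge hy)
      have h1 : h a * g (f x) * (h a)⁻¹ = g s * g (f x) * (g s)⁻¹ := by
        rw [← hg.map_conj hsN (hPN (hfP x hx)), ← he x hx]
        have h2 := hh.map_conj ha (hRM hx)
        rw [hhe x hx, hhe _ (conj_mem_of_normalizer (hM ha).2 hx)] at h2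
        exact h2.symm
      simp only [Function.comp_apply]
      calc g (f x) * ((g s)⁻¹ * h a) = (g s)⁻¹ * (g s * g (f x) * (g s)⁻¹) * h a := by
            simp [mul_assoc]
        _ = (g s)⁻¹ * h a * g (f x) := by rw [← h1]; simp [mul_assoc]
    have := (img g (normalizerIn S P)).mul_mem (mem_img_of_mem hsN) (hC key)
    rwa [mul_inv_cancel_left] at this
  obtain ⟨g', hg', hgl, -, -⟩ := hg.inv
  refine ⟨g' ∘ h, hh.comp hg' fun a ha => hhM (mem_img_of_mem ha), fun x hx => ?_⟩
  rw [Function.comp_apply, hhe x hx, Function.comp_apply, hgl _ (hPN (hfP x hx))]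

/-- In a saturated system a fully normalized subgroup is fully automized and receptive. -/
theorem fullyNormalized_spec [Finite S] [Fact p.Prime] (hS : IsPGroup p S) (hF : F.IsSaturated p)
    {P : Subgroup Ω} (hP : F.IsFullyNormalized P) :
    F.IsFullyAutomized p P ∧ F.IsReceptive P := by
  obtain ⟨Q, hc, hA, hR⟩ := hF P hP.1
  obtain ⟨g, hg, hgi, -⟩ := exists_normalizer_map hS hA hR hc
  obtain ⟨hN, hC⟩ := img_normalizer_centralizer hg hP.1 hgi (hP.2 Q hc)
  refine ⟨fa_of_card_le hS hP.1 hA hc ?_,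
    receptive_transfer hg hP.1 hgi (hC ▸ img_mono (centralizerIn_le_normalizerIn P)) hR⟩
  have hcN : Nat.card ↥(normalizerIn S Q) = Nat.card ↥(normalizerIn S P) := by
    rw [← hN, hg.card_img]
  have hcC : Nat.card ↥(centralizerIn S Q) = Nat.card ↥(centralizerIn S P) := by
    rw [← hC, (hg.mono (centralizerIn_le_normalizerIn P)).card_img]
  haveI := finite_of_le (centralizerIn_le (S := S) P)
  refine le_of_mul_le_mul_right ?_ (Nat.card_pos (α := ↥(centralizerIn S P)))
  rw [card_autInducedBy_mul, ← hcC, card_autInducedBy_mul, hcN]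

theorem fullyCentralized_of_fullyNormalized [Finite S] [Fact p.Prime] (hS : IsPGroup p S)
    (hF : F.IsSaturated p) {P : Subgroup Ω} (hP : F.IsFullyNormalized P) :
    F.IsFullyCentralized P :=
  fullyCentralized_of_receptive (fullyNormalized_spec hS hF hP).2

/-- In a saturated system a fully centralized subgroup is receptive. -/
theorem receptive_of_fullyCentralized [Finite S] [Fact p.Prime] (hS : IsPGroup p S)
    (hF : F.IsSaturated p) {P : Subgroup Ω} (hP : F.IsFullyCentralized P) : F.IsReceptive P := by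
  obtain ⟨Q, hc, hA, hR⟩ := hF P hP.1
  obtain ⟨g, hg, hgi, -⟩ := exists_normalizer_map hS hA hR hc
  haveI := finite_of_le (centralizerIn_le (S := S) Q)
  have hC : img g (centralizerIn S P) = centralizerIn S Q :=
    Subgroup.eq_of_le_of_card_ge
      (hgi ▸ hg.img_centralizerIn_le (le_normalizerIn hP.1) (centralizerIn_le_normalizerIn P))
      ((hg.mono (centralizerIn_le_normalizerIn P)).card_img.symm ▸ hP.2 Q hc)
  exact receptive_transfer hg hP.1 hgi (hC ▸ img_mono (centralizerIn_le_normalizerIn P)) hR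

/-- The basic extension property at a fully normalized subgroup. -/
theorem exists_normalizer_map_fn [Finite S] [Fact p.Prime] (hS : IsPGroup p S) (hF : F.IsSaturated p)
    {P Q : Subgroup Ω} (hQ : F.IsFullyNormalized Q) (hc : F.IsConj P Q) :
    ∃ g, IsMap F (normalizerIn S P) g ∧ img g P = Q ∧
      img g (normalizerIn S P) ≤ normalizerIn S Q :=
  exists_normalizer_map hS (fullyNormalized_spec hS hF hQ).1 (fullyNormalized_spec hS hF hQ).2 hc

theorem fullyNormalized_self (hc : ∀ Q, F.IsConj S Q → Q = S) : F.IsFullyNormalized S :=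
  ⟨le_rfl, fun Q hQ => by rw [hc Q hQ]⟩

theorem eq_of_isConj_self [Finite S] {Q : Subgroup Ω} (h : F.IsConj S Q) : Q = S :=
  Subgroup.eq_of_le_of_card_ge (isConj_le h).2 (card_eq_of_isConj h).ge

theorem fullyNormalized_top [Finite S] : F.IsFullyNormalized S :=
  fullyNormalized_self fun _ h => eq_of_isConj_self h

theorem normalizerIn_self : normalizerIn S S = S :=
  le_antisymm inf_le_left (le_normalizerIn le_rfl)

theorem lt_normalizerIn [Finite S] [Fact p.Prime] (hS : IsPGroup p S) {P : Subgroup Ω} (hP : P < S) :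
    P < normalizerIn S P := by
  haveI := hS.isNilpotent
  refine lt_of_le_of_ne (le_normalizerIn hP.le) fun he => hP.ne ?_
  have hlt : P.subgroupOf S < ⊤ := lt_top_iff_ne_top.2 fun ht => hP.not_ge (Subgroup.subgroupOf_eq_top.1 ht)
  have := normalizerCondition_of_isNilpotent (P.subgroupOf S) hlt
  exfalso
  obtain ⟨x, hx, hxP⟩ := SetLike.exists_of_lt this
  refine hxP (Subgroup.mem_subgroupOf.2 (he ▸ ⟨x.2, ?_⟩))
  refine mem_normalizer_of_conj (fun y hy => ?_) fun y hy => ?_
  · exact (Subgroup.mem_normalizer_iff.1 hx ⟨y, hP.le hy⟩).1 hy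
  · exact (Subgroup.mem_normalizer_iff''.1 hx ⟨y, hP.le hy⟩).1 hy

end CfsgLib.Fus
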