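import Mathlib.RingTheory.Nilpotent.Basic
import Mathlib.RingTheory.Ideal.Operations
import Mathlib.RingTheory.Nilpotent.Lemmas
import Mathlib.Algebra.CharP.Lemmas
import Mathlib.Algebra.CharP.Algebra
import Mathlib.FieldTheory.Finite.Basic
import Mathlib.GroupTheory.OrderOfElement
import Mathlib.Algebra.Polynomial.AlgebraMap
import Mathlib.Algebra.Algebra.ZMod

/-!
An element with `(g - 1) ^ (p - 1) = 0` in a ring of characteristic p centralizes every abelian group of units of order prime to
p that it normalizes.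
-/

set_option autoImplicit false
set_option linter.style.haveILetI false

namespace CfsgLib.Glau

open Finset

theorem short_action_centralizes {p : ℕ} [hp : Fact p.Prime] {E : Type*} [Ring E] [Finite E] (hpE : (p : E) = 0)
    (g : Eˣ) (R : Subgroup Eˣ) (hcomm : ∀ a ∈ R, ∀ b ∈ R, a * b = b * a) (hcop : ¬ p ∣ Nat.card R)
    (hnorm : ∀ r ∈ R, g * r * g⁻¹ ∈ R) (hshort : ((g : E) - 1) ^ (p - 1) = 0) :
    ∀ r ∈ R, g * r * g⁻¹ = r := by
  classical
  intro r hr
  rcases subsingleton_or_nontrivial E with hE | hE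
  · exact Units.ext (Subsingleton.elim _ _)
  haveI : CharP E p := (CharP.charP_iff_prime_eq_zero hp.out).2 hpE
  letI : Algebra (ZMod p) E := ZMod.algebra E p
  have hsum : ∑ i ∈ range p, (g : E) ^ i = 0 := by
    have h : ((Polynomial.X : Polynomial (ZMod p)) - 1) ^ (p - 1) = ∑ i ∈ range p, Polynomial.X ^ i := by
      refine mul_left_cancel₀ (Polynomial.X_sub_C_ne_zero (1 : ZMod p)) ?_
      rw [map_one, mul_geom_sum, ← pow_succ', Nat.sub_add_cancel hp.out.one_le, sub_pow_char, one_pow]
    have h2 := congrArg (Polynomial.aeval (g : E)) h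
    simpa [hshort] using h2.symm
  have hgp : g ^ p = 1 := Units.ext (by
    have h : ((g : E) - 1) ^ p = 0 := by
      rw [← Nat.sub_add_cancel hp.out.one_le, pow_succ, hshort, zero_mul]
    rw [sub_pow_char_of_commute _ (Commute.one_right _), one_pow, sub_eq_zero] at h
    simpa using h)
  let S : Set E := (fun u : Eˣ => (u : E)) '' (R : Set Eˣ)
  let B : Subring E := Subring.closure S
  have hcS : ∀ a ∈ S, ∀ b ∈ S, a * b = b * a := by
    rintro _ ⟨a, ha, rfl⟩ _ ⟨b, hb, rfl⟩
    rw [← Units.val_mul, hcomm a ha b hb, Units.val_mul]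
  letI : CommRing ↥B := Subring.closureCommRingOfComm hcS
  let c : ℕ → E → E := fun i x => ((g ^ i : Eˣ) : E) * x * ((g ^ i)⁻¹ : Eˣ)
  have hc_add : ∀ i j x, c i (c j x) = c (i + j) x := fun i j x => by
    simp only [c, pow_add, Units.val_mul, mul_inv_rev, mul_assoc]
  have hc_mul : ∀ i a b, c i (a * b) = c i a * c i b := fun i a b => by
    simp only [c, mul_assoc, Units.inv_mul_cancel_left]
  have hc_one : ∀ i, c i 1 = 1 := fun i => by simp only [c, mul_one, Units.mul_inv]
  have hc_mem : ∀ i, ∀ x ∈ B, c i x ∈ B := by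
    intro i x hx
    induction hx using Subring.closure_induction with
    | mem y hy =>
      obtain ⟨u, hu, rfl⟩ := hy
      refine Subring.subset_closure ⟨g ^ i * u * (g ^ i)⁻¹, ?_, by simp [c]⟩
      induction i with
      | zero => simpa using hu
      | succ i ih =>
        have := hnorm _ ih
        simpa [pow_succ', mul_assoc] using this
    | zero => simp [c]
    | one => rw [hc_one]; exact B.one_mem
    | add a b _ _ ha hb => simpa [c, mul_add, add_mul] using B.add_mem ha hb
    | neg a _ ha => simpa [c] using B.neg_mem ha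
    | mul a b _ _ ha hb =>
      rw [hc_mul]; exact B.mul_mem ha hb
  let σ : ℕ → ↥B →+* ↥B := fun i =>
    { toFun := fun x => ⟨c i x, hc_mem i x x.2⟩
      map_one' := Subtype.ext (hc_one i)
      map_mul' := fun a b => Subtype.ext (hc_mul i a b)
      map_zero' := Subtype.ext (by simp [c])
      map_add' := fun a b => Subtype.ext (by simp [c, mul_add, add_mul]) }
  have hσ : ∀ i (x : ↥B), ((σ i x : ↥B) : E) = c i x := fun _ _ => rfl
  have hσ0 : ∀ x, σ 0 x = x := fun x => Subtype.ext (by simp [hσ, c])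
  have hσp : ∀ x, σ p x = x := fun x => Subtype.ext (by rw [hσ]; simp only [c, hgp, inv_one, Units.val_one, one_mul, mul_one])
  have hσa : ∀ i j x, σ i (σ j x) = σ (i + j) x := fun i j x => Subtype.ext (hc_add i j x)
  have hgc : ∀ i (x : E), (g : E) ^ i * x = c i x * (g : E) ^ i := fun i x => by
    rw [← Units.val_pow_eq_pow_val]; simp only [c, mul_assoc, Units.inv_mul, mul_one]
  -- the product vanishes
  have hprod : ∀ t : ↥B, ∏ j ∈ (range p).erase 0, (σ j t - t) = 0 := by
    intro t
    have key : ∀ J : Finset ℕ, ∑ i ∈ range p, ((∏ j ∈ J, (σ j t - σ i t) : ↥B) : E) * (g : E) ^ i = 0 := by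
      intro J
      induction J using Finset.induction with
      | empty => simpa using hsum
      | @insert k J hk ih =>
        calc ∑ i ∈ range p, ((∏ j ∈ insert k J, (σ j t - σ i t) : ↥B) : E) * (g : E) ^ i
            = (σ k t : E) * (∑ i ∈ range p, ((∏ j ∈ J, (σ j t - σ i t) : ↥B) : E) * (g : E) ^ i) -
              (∑ i ∈ range p, ((∏ j ∈ J, (σ j t - σ i t) : ↥B) : E) * (g : E) ^ i) * (t : E) := by
              rw [mul_sum, sum_mul, ← sum_sub_distrib]
              refine sum_congr rfl fun i _ => ?_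
              rw [prod_insert hk, mul_assoc _ ((g : E) ^ i) (t : E), hgc i (t : E), ← mul_assoc, ← mul_assoc, ← sub_mul,
                ← hσ i t, ← Subring.coe_mul, ← Subring.coe_mul, ← AddSubgroupClass.coe_sub]
              congr 2
              ring
          _ = 0 := by rw [ih, mul_zero, zero_mul, sub_zero]
    have h := key ((range p).erase 0)
    rw [sum_eq_single 0 (fun i hi hi0 => ?_) (fun h => absurd (mem_range.2 hp.out.pos) h), pow_zero, mul_one] at h
    · refine Subtype.ext (Eq.trans ?_ h)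
      simp [hσ0]
    · rw [prod_eq_zero (i := i) (mem_erase.2 ⟨hi0, hi⟩) (sub_self _)]; simp
  -- every element of `B` is a fixed point of a Frobenius power
  obtain ⟨m, hm0, hm⟩ : ∃ m, m ≠ 0 ∧ ∀ u ∈ R, u ^ p ^ m = u := by
    refine ⟨Nat.totient (Nat.card R), (Nat.totient_pos.2 Nat.card_pos).ne', fun u hu => ?_⟩
    have hmod := Nat.ModEq.pow_totient (hp.out.coprime_iff_not_dvd.2 hcop)
    obtain ⟨k, hk⟩ := (Nat.modEq_iff_dvd' (Nat.one_le_pow _ _ hp.out.pos)).1 hmod.symm
    rw [← Nat.sub_add_cancel (Nat.one_le_pow (Nat.card R).totient p hp.out.pos), hk, pow_succ, pow_mul,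
      show u ^ Nat.card R = 1 from congrArg Subtype.val (pow_card_eq_one' (x := (⟨u, hu⟩ : ↥R))), one_pow, one_mul]
  have hq : ∀ x : ↥B, x ^ p ^ m = x := by
    haveI : CharP ↥B p := (CharP.charP_iff_prime_eq_zero hp.out).2 (Subtype.ext (by simpa using hpE))
    rintro ⟨x, hx⟩
    induction hx using Subring.closure_induction with
    | mem y hy =>
      obtain ⟨u, hu, rfl⟩ := hy
      exact Subtype.ext (by rw [SubmonoidClass.coe_pow, ← Units.val_pow_eq_pow_val, hm u hu])
    | zero => exact zero_pow (pow_ne_zero _ hp.out.ne_zero)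
    | one => exact one_pow _
    | add a b ha hb iha ihb =>
      show ((⟨a, ha⟩ : ↥B) + ⟨b, hb⟩) ^ p ^ m = ⟨a, ha⟩ + ⟨b, hb⟩
      rw [add_pow_char_pow, iha, ihb]
    | neg a ha iha =>
      show (-(⟨a, ha⟩ : ↥B)) ^ p ^ m = -⟨a, ha⟩
      have h := sub_pow_char_pow (R := ↥B) (p := p) (n := m) 0 ⟨a, ha⟩
      rwa [zero_pow (pow_ne_zero _ hp.out.ne_zero), zero_sub, zero_sub, iha] at h
    | mul a b ha hb iha ihb =>
      show ((⟨a, ha⟩ : ↥B) * ⟨b, hb⟩) ^ p ^ m = ⟨a, ha⟩ * ⟨b, hb⟩
      rw [mul_pow, iha, ihb]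
  set x : ↥B := ⟨(r : E), Subring.subset_closure ⟨r, hr, rfl⟩⟩ with hx
  by_contra hne
  set d := σ 1 x - x with hd
  have hd0 : d ≠ 0 := fun h => hne (Units.ext (by
    have h' := congrArg Subtype.val (sub_eq_zero.1 h)
    simpa [hσ, hx, c] using h'))
  have hdn : ¬ IsNilpotent d := by
    rintro ⟨n, hn⟩
    apply hd0
    have hit : ∀ k, d ^ (p ^ m) ^ k = d := by
      intro k
      induction k with
      | zero => simp
      | succ k ih => rw [pow_succ, pow_mul, ih, hq]
    have hle : n ≤ (p ^ m) ^ n := (Nat.lt_pow_self (Nat.one_lt_pow hm0 hp.out.one_lt)).le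
    rw [← hit n]; exact pow_eq_zero_of_le hle hn
  have hinvm : ∀ j, j ≠ 0 → j < p → ∃ k, j * k % p = 1 := fun j hj hjp => by
    refine ⟨((j : ZMod p)⁻¹).val, ?_⟩
    have h : (((j * ((j : ZMod p)⁻¹).val : ℕ)) : ZMod p) = ((1 : ℕ) : ZMod p) := by
      push_cast
      rw [ZMod.natCast_zmod_val, mul_inv_cancel₀]
      exact fun h0 => Nat.not_dvd_of_pos_of_lt (Nat.pos_of_ne_zero hj) hjp ((CharP.cast_eq_zero_iff (ZMod p) p j).1 h0)
    rw [ZMod.natCast_eq_natCast_iff, Nat.ModEq, Nat.one_mod_eq_one.2 hp.out.ne_one] at h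
    exact h
  obtain ⟨M, hM, hdM⟩ : ∃ M : Ideal ↥B, M.IsPrime ∧ d ∉ M := by
    by_contra h
    push_neg at h
    apply hdn
    rw [← mem_nilradical, nilradical_eq_sInf]
    exact Ideal.mem_sInf.2 fun {I} hI => h I hI
  have hfinB : Finite ↥B := inferInstance
  -- the translates of `M`
  have hsplit : ∀ j ∈ (range p).erase 0, ∃ a : ↥B, σ j a ∈ M ∧ (a ∉ M ∨ σ 1 x - x ∈ M) := by
    intro j hj
    by_cases hsub : ∀ a, σ j a ∈ M → a ∈ M
    swap
    · push_neg at hsub
      obtain ⟨a, ha, haM⟩ := hsub
      exact ⟨a, ha, Or.inl haM⟩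
    exfalso
    -- `σ j` stabilizes `M`
    have hjp : j < p := mem_range.1 (mem_erase.1 hj).2
    have hinj : Function.Injective (σ j) := fun a b hab => by
      have h := congrArg (σ (p - j)) hab
      rwa [hσa, hσa, Nat.sub_add_cancel hjp.le, hσp, hσp] at h
    have hsurj := Finite.surjective_of_injective hinj
    have hMM : ∀ a ∈ M, σ j a ∈ M := by
      intro a ha
      let f : {a // σ j a ∈ M} → {a // a ∈ M} := fun a => ⟨a.1, hsub a.1 a.2⟩
      let f' : {a // σ j a ∈ M} → {a // a ∈ M} := fun a => ⟨σ j a.1, a.2⟩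
      have hb : Function.Bijective f' := ⟨fun a b h => Subtype.ext (hinj (congrArg Subtype.val h)), fun b => by
        obtain ⟨a, ha⟩ := hsurj b.1
        exact ⟨⟨a, ha ▸ b.2⟩, Subtype.ext ha⟩⟩
      have hfi : Function.Injective f := fun a b h => Subtype.ext (congrArg (fun z : {a // a ∈ M} => z.1) h)
      have hf : Function.Bijective f :=
        (Nat.bijective_iff_injective_and_card f).2 ⟨hfi, Nat.card_congr (Equiv.ofBijective f' hb)⟩
      obtain ⟨⟨a', ha'⟩, he⟩ := hf.2 ⟨a, ha⟩
      have hval : a' = a := congrArg (fun z : {a // a ∈ M} => z.1) he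
      subst hval
      exact ha'
    -- all powers of `σ` would then fix `x` modulo `M`
    have hj0 : j ≠ 0 := (mem_erase.1 hj).1
    by_cases hall : σ j x - x ∈ M
    · obtain ⟨k, hk⟩ := hinvm j hj0 hjp
      have hiter : ∀ k, σ (j * k) x - x ∈ M := by
        intro k
        induction k with
        | zero => rw [mul_zero, hσ0, sub_self]; exact M.zero_mem
        | succ k ih =>
          have h := M.add_mem (hMM _ ih) hall
          rwa [map_sub, hσa, sub_add_sub_cancel, show j + j * k = j * (k + 1) by ring] at h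
      have hper : ∀ q i, σ (i + p * q) x = σ i x := by
        intro q
        induction q with
        | zero => simp
        | succ q ih => intro i; rw [show i + p * (q + 1) = i + p * q + p by ring, ← hσa, hσp, ih]
      apply hdM
      have h := hiter k
      rwa [← Nat.mod_add_div (j * k) p, hk, hper] at h
    · -- the product would be a nonzero element modulo `M`
      have h := hprod x
      have hz : (∏ i ∈ (range p).erase 0, (σ i x - x)) ∈ M := h ▸ M.zero_mem
      obtain ⟨i, hi, hiM⟩ := hM.prod_mem_iff.1 hz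
      have hip : i < p := mem_range.1 (mem_erase.1 hi).2
      have hi0 : i ≠ 0 := (mem_erase.1 hi).1
      obtain ⟨k, hk⟩ := hinvm j hj0 hjp
      -- `σ i` is a power of `σ j` and preserves `M`
      have hMi : ∀ a ∈ M, σ i a ∈ M := by
        have hstep : ∀ k, ∀ a ∈ M, σ (j * k) a ∈ M := by
          intro k
          induction k with
          | zero => intro a ha; rwa [mul_zero, hσ0]
          | succ k ih => intro a ha; rw [show j * (k + 1) = j + j * k by ring, ← hσa]; exact hMM _ (ih a ha)
        intro a ha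
        have hper : ∀ q i, σ (i + p * q) a = σ i a := by
          intro q
          induction q with
          | zero => simp
          | succ q ih => intro i; rw [show i + p * (q + 1) = i + p * q + p by ring, ← hσa, hσp, ih]
        have h := hstep (k * i) a ha
        rwa [← Nat.mod_add_div (j * (k * i)) p, ← mul_assoc, Nat.mul_mod, hk, one_mul, Nat.mod_mod,
          Nat.mod_eq_of_lt hip, hper] at h
      obtain ⟨l, hl⟩ := hinvm i hi0 hip
      have hiter : ∀ l, σ (i * l) x - x ∈ M := by
        intro l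
        induction l with
        | zero => rw [mul_zero, hσ0, sub_self]; exact M.zero_mem
        | succ l ih =>
          have h := M.add_mem (hMi _ ih) hiM
          rwa [map_sub, hσa, sub_add_sub_cancel, show i + i * l = i * (l + 1) by ring] at h
      have hper : ∀ q i, σ (i + p * q) x = σ i x := by
        intro q
        induction q with
        | zero => simp
        | succ q ih => intro i; rw [show i + p * (q + 1) = i + p * q + p by ring, ← hσa, hσp, ih]
      apply hdM
      have h := hiter l
      rwa [← Nat.mod_add_div (i * l) p, hl, hper] at h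
  choose a ha using hsplit
  let t : ↥B := ∏ j ∈ ((range p).erase 0).attach, a j.1 j.2
  have htM : t ∉ M := fun h => by
    obtain ⟨j, -, hj⟩ := hM.prod_mem_iff.1 h
    exact ((ha j.1 j.2).2.resolve_right hdM) hj
  have hz : (∏ i ∈ (range p).erase 0, (σ i t - t)) ∈ M := (hprod t) ▸ M.zero_mem
  obtain ⟨i, hi, hiM⟩ := hM.prod_mem_iff.1 hz
  refine htM ?_
  have : σ i t ∈ M := by
    rw [map_prod]
    exact hM.prod_mem_iff.2 ⟨⟨i, hi⟩, Finset.mem_attach _ _, (ha i hi).1⟩
  simpa using M.sub_mem this hiM

end CfsgLib.Glau
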