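import Cfsg.Agent.Inv.ThompsonA

/-!
A normal p-complement from p-group automizers of the characteristic subgroups of a Sylow subgroup, for an odd prime or without
`S₄` sections.
-/

set_option autoImplicit false
set_option linter.style.haveILetI false
set_option linter.unusedSectionVars false

open Cfsg

namespace CfsgLib.AutComp

open CfsgLib.Solv

universe u

variable {G : Type u} [Group G] {p : ℕ}

/-- `Q` is invariant under all automorphisms of `T`, read inside the ambient group. -/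
def CharIn (T Q : Subgroup G) : Prop :=
  Q ≤ T ∧ ∀ (e : ↥T ≃* ↥T) (x : ↥T), (x : G) ∈ Q → (e x : G) ∈ Q

theorem CharIn.characteristic {T Q : Subgroup G} (h : CharIn T Q) : (Q.subgroupOf T).Characteristic :=
  Subgroup.characteristic_iff_map_le.2 fun e => by
    rintro _ ⟨x, hx, rfl⟩
    exact h.2 e x hx

theorem CharIn.of_characteristic {T Q : Subgroup G} (hQ : Q ≤ T) (h : (Q.subgroupOf T).Characteristic) :
    CharIn T Q :=
  ⟨hQ, fun e x hx => Subgroup.characteristic_iff_map_le.1 h e ⟨x, hx, rfl⟩⟩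

theorem CharIn.le_normalizer [Finite G] {T Q : Subgroup G} (h : CharIn T Q) :
    Subgroup.normalizer (T : Set G) ≤ Subgroup.normalizer (Q : Set G) := by
  intro g hg
  refine Subgroup.mem_normalizer_fintype fun x hx => ?_
  let e : ↥T ≃* ↥T :=
    ((MulAut.conj g).subgroupMap T).trans (MulEquiv.subgroupCongr (mem_normalizer_iff_map.1 hg))
  exact h.2 e ⟨x, h.1 hx⟩ hx
where
  mem_normalizer_iff_map {g : G} {T : Subgroup G} [Finite G] :
      g ∈ Subgroup.normalizer (T : Set G) ↔ T.map (MulAut.conj g : G ≃* G).toMonoidHom = T := by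
    constructor
    · intro hg
      refine Subgroup.eq_of_le_of_card_ge ?_ (Subgroup.card_map_of_injective (MulAut.conj g).injective).ge
      rintro _ ⟨x, hx, rfl⟩
      exact (Subgroup.mem_normalizer_iff.1 hg x).1 hx
    · intro h
      exact Subgroup.mem_normalizer_fintype fun x hx => h.le ⟨x, hx, rfl⟩

/-- All characteristic subgroups of `T` have `p`-groups of automorphisms induced by their normalizers. -/
def CharAut (p : ℕ) (T : Subgroup G) : Prop :=
  ∀ Q : Subgroup G, CharIn T Q → Q ≠ ⊥ →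
    ∀ g ∈ Subgroup.normalizer (Q : Set G), (orderOf g).Coprime p → g ∈ Subgroup.centralizer (Q : Set G)

theorem CharAut.comap [Finite G] {H : Subgroup G} {T : Subgroup ↥H} (h : CharAut p (T.map H.subtype)) :
    CharAut p T := by
  intro Q hQ hne g hg hco
  let ι := T.equivMapOfInjective H.subtype H.subtype_injective
  have hQ' : CharIn (T.map H.subtype) (Q.map H.subtype) := by
    refine ⟨Subgroup.map_mono hQ.1, fun e x hx => ?_⟩
    obtain ⟨q, hq, hqx⟩ := hx
    have h1 := hQ.2 ((ι.trans e).trans ι.symm) ⟨q, hQ.1 hq⟩ hq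
    refine ⟨_, h1, ?_⟩
    have h2 : ι ⟨q, hQ.1 hq⟩ = x := Subtype.ext hqx
    have h3 : (ι (ι.symm (e (ι ⟨q, hQ.1 hq⟩))) : G) = (e x : G) := by rw [MulEquiv.apply_symm_apply, h2]
    exact h3
  have h1 := h (Q.map H.subtype) hQ' (fun hb => hne ((Subgroup.map_eq_bot_iff_of_injective _ H.subtype_injective).1 hb))
    g ?_ (by rwa [Subgroup.orderOf_coe])
  · intro q hq
    exact Subtype.ext (h1 q ⟨q, hq, rfl⟩)
  · refine Subgroup.mem_normalizer_fintype ?_
    rintro _ ⟨q, hq, rfl⟩
    exact ⟨g * q * g⁻¹, (Subgroup.mem_normalizer_iff.1 hg q).1 hq, rfl⟩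

theorem mem_of_commute {R : Type*} [Group R] [Finite R] {A : Subgroup R} (hA : A ∈ maxAbelianSubgroups R) {z : R}
    (hz : ∀ a ∈ A, a * z = z * a) : z ∈ A := by
  haveI := hA.1
  have hle : A ≤ A ⊔ Subgroup.zpowers z := le_sup_left
  refine Subgroup.eq_of_le_of_card_ge hle (hA.2 _ ⟨⟨fun a b => Subtype.ext ?_⟩⟩) ▸
    Subgroup.mem_sup_right (Subgroup.mem_zpowers z)
  have h1 : A ⊔ Subgroup.zpowers z ≤ Subgroup.centralizer (A ⊔ Subgroup.zpowers z : Subgroup R) := by
    have hcA : A ≤ Subgroup.centralizer (A : Set R) := fun a ha b hb =>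
      congrArg Subtype.val (hA.1.is_comm.comm (⟨b, hb⟩ : A) ⟨a, ha⟩)
    refine sup_le (Subgroup.le_centralizer_iff.1 (sup_le hcA (Subgroup.zpowers_le.2 fun a ha => hz a ha)))
      (Subgroup.zpowers_le.2 fun b hb => ?_)
    have h2 : A ⊔ Subgroup.zpowers z ≤ Subgroup.centralizer ({z} : Set R) := sup_le
      (fun a ha => Subgroup.mem_centralizer_singleton_iff.2 (hz a ha))
      (Subgroup.zpowers_le.2 (Subgroup.mem_centralizer_singleton_iff.2 rfl))
    exact Subgroup.mem_centralizer_singleton_iff.1 (h2 hb)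
  exact h1 b.2 a a.2

theorem zOf_charIn (T : Subgroup G) : CharIn T (zOf T) := by
  refine ⟨zOf_le T, fun e x hx => ⟨(e x).2, fun y hy => ?_⟩⟩
  obtain ⟨y', hy'⟩ := e.surjective ⟨y, hy⟩
  have h := hx.2 (y' : G) y'.2
  have h2 : y' * x = x * y' := Subtype.ext h
  have h3 := congrArg e h2
  rw [map_mul, map_mul, hy'] at h3
  exact congrArg Subtype.val h3

theorem jOf_charIn (T : Subgroup G) : CharIn T (thompsonSubgroupAOf T) := by
  refine ⟨Subgroup.map_subtype_le _, fun e x hx => ?_⟩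
  obtain ⟨y, hy, hyx⟩ := hx
  obtain rfl : y = x := Subtype.ext hyx
  refine ⟨e y, ?_, rfl⟩
  have hle : thompsonSubgroupA ↥T ≤ (thompsonSubgroupA ↥T).comap e.toMonoidHom := sSup_le fun A hA => by
    rw [← Subgroup.map_le_iff_le_comap]
    haveI := hA.1
    refine le_sSup ⟨inferInstance, fun B hB => ?_⟩
    rw [Subgroup.card_map_of_injective (f := e.toMonoidHom) e.injective]
    exact hA.2 B hB
  exact hle hy

/-- A normal complement in the quotient by a central `p`-subgroup lifts. -/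
theorem hnpc_of_central_quotient [Finite G] [hp : Fact p.Prime] (Z : Subgroup G) [Z.Normal]
    (hZp : IsPGroup p Z) (hZc : Z ≤ Subgroup.center G) (h : HasNormalPComplement p (G ⧸ Z)) :
    HasNormalPComplement p G := by
  rw [hnpc_iff]
  set f := QuotientGroup.mk' Z
  set K₀ := (Cfsg.pResidual p (G ⧸ Z)).comap f with hK₀
  have hK : Cfsg.HasNormalPComplement p ↥K₀ := by
    obtain ⟨S⟩ : Nonempty (Sylow p ↥K₀) := inferInstance
    refine hnpc_of_fusion S fun x hx g _ => ⟨1, one_mem _, ?_⟩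
    have hxZ : (x : G) ∈ Z := by
      rw [← QuotientGroup.eq_one_iff]
      refine eq_one_of_isPGroup_coprime ((S.isPGroup'.map K₀.subtype).map f) ⟨x, ⟨x, hx, rfl⟩, rfl⟩ ?_
      exact (hnpc_mem_iff h).1 x.2
    have hcomm : g * x = x * g := Subtype.ext (Subgroup.mem_center_iff.1 (hZc hxZ) g)
    rw [one_mul, inv_one, mul_one, hcomm, mul_inv_cancel_right]
  have hle : Cfsg.pResidual p G ≤ (Cfsg.pResidual p ↥K₀).map K₀.subtype := by
    rw [Cfsg.pResidual, Subgroup.closure_le]
    intro g hg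
    have hgK : g ∈ K₀ := CfsgLib.Inv.mem_pResidual (Nat.Coprime.coprime_dvd_left (orderOf_map_dvd f g) hg)
    exact ⟨⟨g, hgK⟩, CfsgLib.Inv.mem_pResidual (by rwa [Subgroup.orderOf_mk]), rfl⟩
  intro hd
  refine hnpc_iff.1 hK (hd.trans ?_)
  rw [← Subgroup.card_map_of_injective K₀.subtype_injective (K := Cfsg.pResidual p ↥K₀)]
  exact Subgroup.card_dvd_of_le hle

theorem hnpc_of_charAut_aux [hp : Fact p.Prime] : ∀ (n : ℕ) (G : Type u) [Group G] [Finite G], Nat.card G = n →
    (p ≠ 2 ∨ ¬ Cfsg.Involves (Equiv.Perm (Fin 4)) G) → ∀ S : Sylow p G, CharAut p (S : Subgroup G) →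
      HasNormalPComplement p G := by
  intro n
  induction n using Nat.strong_induction_on with
  | _ n ih =>
  intro G _ _ hn h0 S h
  set T := (S : Subgroup G) with hT
  by_cases hTbot : T = ⊥
  · refine hnpc_of_not_dvd fun hd => ?_
    exact S.ne_bot_of_dvd_card hd hTbot
  have overT : ∀ H : Subgroup G, H ≠ ⊤ → T ≤ H → HasNormalPComplement p ↥H := fun H hH hTH => by
    refine ih _ (hn ▸ card_lt_of_ne_top hH) ↥H rfl
      (h0.imp_right fun hs => CfsgLib.Inv.ZJ.not_involves_subgroup H hs) (S.subtype hTH)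
      (CharAut.comap ?_)
    rwa [Sylow.coe_subtype, Subgroup.map_subgroupOf_eq_of_le hTH]
  -- the normalizer of the Thompson subgroup
  set J := thompsonSubgroupAOf T with hJdef
  have hTN : T ≤ Subgroup.normalizer (J : Set G) :=
    Subgroup.le_normalizer.trans (jOf_charIn T).le_normalizer
  have hJne : J ≠ ⊥ := by
    rw [hJdef, CfsgLib.Inv.ZJ.thompsonSubgroupAOf_eq]
    exact CfsgLib.Inv.ZJ.jOf_ne_bot S.isPGroup' hTbot
  have hJ : HasNormalPComplement p ↥(Subgroup.normalizer (J : Set G)) := by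
    by_cases hN : Subgroup.normalizer (J : Set G) = ⊤
    swap
    · exact overT _ hN hTN
    refine hnpc_subgroup ?_ _
    rw [hnpc_iff_frobCond]
    intro Q hQ g hg hco
    -- the centralizer of `J` has central Sylow subgroups
    haveI hJn := Subgroup.normalizer_eq_top_iff.1 hN
    set C := Subgroup.centralizer (J : Set G) with hC
    haveI : C.Normal := inferInstance
    have hCnpc : HasNormalPComplement p ↥C := by
      obtain ⟨S₀⟩ : Nonempty (Sylow p ↥C) := inferInstance
      refine hnpc_of_fusion S₀ fun x hx k _ => ⟨1, one_mem _, ?_⟩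
      have hxJ : (x : G) ∈ J := by
        obtain ⟨m, hm⟩ := (S₀.isPGroup'.map C.subtype).exists_le_sylow
        obtain ⟨c, hc⟩ := MulAction.exists_smul_eq G m S
        have hxm : c * (x : G) * c⁻¹ ∈ T := by
          rw [hT, ← hc, Sylow.coe_subgroup_smul]
          exact ⟨x, hm ⟨x, hx, rfl⟩, rfl⟩
        have hxC : c * (x : G) * c⁻¹ ∈ C := ‹C.Normal›.conj_mem _ x.2 c
        have : c * (x : G) * c⁻¹ ∈ J := by
          obtain ⟨A, hA, hAm⟩ := Set.exists_max_image {A : Subgroup ↥T | IsMulCommutative A} (fun A => Nat.card A)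
            (Set.toFinite _) ⟨⊥, ⟨⟨fun a b => Subsingleton.elim _ _⟩⟩⟩
          have hAmax : A ∈ maxAbelianSubgroups ↥T := ⟨hA, hAm⟩
          have hAJ : A.map T.subtype ≤ J := Subgroup.map_mono (le_sSup hAmax)
          exact hAJ ⟨⟨_, hxm⟩, mem_of_commute hAmax (fun a ha =>
            Subtype.ext (Subgroup.mem_centralizer_iff.1 hxC _ (hAJ ⟨a, ha, rfl⟩))), rfl⟩
        have h2 := hJn.conj_mem _ this c⁻¹
        simpa [mul_assoc] using h2
      have hcomm : k * x = x * k := Subtype.ext (Subgroup.mem_centralizer_iff.1 k.2 _ hxJ).symm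
      rw [one_mul, inv_one, mul_one, hcomm, mul_inv_cancel_right]
    have hgC : g ∈ C := h J (jOf_charIn T) hJne g (hN ▸ Subgroup.mem_top g) hco
    -- `g` lies in the normal complement of `C`
    set D := (Cfsg.pResidual p ↥C).map C.subtype with hD
    haveI := pResidual_char p ↥C
    haveI : D.Normal := normal_map_subtype_of_characteristic _
    have hgD : g ∈ D :=
      ⟨⟨g, hgC⟩, CfsgLib.Inv.mem_pResidual (by rwa [Subgroup.orderOf_mk]), rfl⟩
    have hinf : Q ⊓ D = ⊥ := sylow_inf_eq_bot_of_not_dvd hQ (by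
      rw [hD, Subgroup.card_map_of_injective C.subtype_injective]
      exact hnpc_iff.1 hCnpc)
    refine Subgroup.mem_centralizer_iff.2 fun q hq => ?_
    have h1 : q * g * q⁻¹ * g⁻¹ ∈ Q ⊓ D := by
      refine ⟨?_, D.mul_mem (‹D.Normal›.conj_mem g hgD q) (D.inv_mem hgD)⟩
      have := Q.mul_mem hq ((Subgroup.mem_normalizer_iff.1 hg q⁻¹).1 (Q.inv_mem hq))
      simpa [mul_assoc] using this
    rw [hinf, Subgroup.mem_bot, mul_inv_eq_one, mul_inv_eq_iff_eq_mul] at h1
    exact h1
  -- the centralizer of the centre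
  set Z := zOf T with hZdef
  by_cases hCZ : Subgroup.centralizer (Z : Set G) = ⊤
  swap
  · refine CfsgLib.Inv.ZJ.hnpc_of_hypA h0 S ⟨?_, overT _ hCZ fun t ht => Subgroup.mem_centralizer_iff.2
      fun z hz => (hz.2 t ht).symm⟩
    rwa [← CfsgLib.Inv.ZJ.thompsonSubgroupAOf_eq]
  have hZc : Z ≤ Subgroup.center G := fun z hz => Subgroup.mem_center_iff.2 fun g =>
    ((hCZ ▸ Subgroup.mem_top g : g ∈ Subgroup.centralizer (Z : Set G)) z hz).symm
  haveI hZn : Z.Normal := ⟨fun z hz g => by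
    rw [Subgroup.mem_center_iff.1 (hZc hz) g, mul_inv_cancel_right]; exact hz⟩
  have hZne : Z ≠ ⊥ := zOf_ne_bot S.isPGroup' hTbot
  have hZp : IsPGroup p Z := S.isPGroup'.to_le (zOf_le T)
  refine hnpc_of_central_quotient Z hZp hZc ?_
  set f := QuotientGroup.mk' Z with hf
  have hfs : Function.Surjective f := QuotientGroup.mk'_surjective Z
  refine ih _ (hn ▸ card_quotient_lt hZne) (G ⧸ Z) rfl
    (h0.imp_right fun hs h' => hs (CfsgLib.Fus.involves_comap hfs h')) (S.mapSurjective hfs) ?_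
  rw [Sylow.coe_mapSurjective]
  intro Q hQ hne g hg hco
  -- the preimage is characteristic in `T`
  let φ : ↥T →* ↥(T.map f) := f.subgroupMap T
  have hφ : Function.Surjective φ := f.subgroupMap_surjective T
  have hQ' : CharIn T (Q.comap f) := by
    refine ⟨fun x hx => ?_, fun e x hx => ?_⟩
    · obtain ⟨t, ht, he⟩ := hQ.1 hx
      have h1 : t⁻¹ * x ∈ Z := (QuotientGroup.eq (s := Z)).1 he
      simpa using T.mul_mem ht (zOf_le T h1)
    · have hle : φ.ker ≤ (φ.comp e.toMonoidHom).ker := fun y hy => by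
        have hyZ : (y : G) ∈ Z := (QuotientGroup.eq_one_iff (N := Z) (y : G)).1 (congrArg Subtype.val hy)
        exact Subtype.ext ((QuotientGroup.eq_one_iff (N := Z) (e y : G)).2 ((zOf_charIn T).2 e y hyZ))
      have hle' : φ.ker ≤ (φ.comp e.symm.toMonoidHom).ker := fun y hy => by
        have hyZ : (y : G) ∈ Z := (QuotientGroup.eq_one_iff (N := Z) (y : G)).1 (congrArg Subtype.val hy)
        exact Subtype.ext ((QuotientGroup.eq_one_iff (N := Z) (e.symm y : G)).2 ((zOf_charIn T).2 e.symm y hyZ))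
      let a := φ.liftOfSurjective hφ ⟨φ.comp e.toMonoidHom, hle⟩
      let b := φ.liftOfSurjective hφ ⟨φ.comp e.symm.toMonoidHom, hle'⟩
      have ha : ∀ y, a (φ y) = φ (e y) := fun y => MonoidHom.liftOfRightInverse_comp_apply φ _ _ _ y
      have hb : ∀ y, b (φ y) = φ (e.symm y) := fun y => MonoidHom.liftOfRightInverse_comp_apply φ _ _ _ y
      let ebar : ↥(T.map f) ≃* ↥(T.map f) := MonoidHom.toMulEquiv a b
        (MonoidHom.ext fun q => by
          obtain ⟨y, rfl⟩ := hφ q
          show b (a (φ y)) = φ y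
          rw [ha, hb, MulEquiv.symm_apply_apply])
        (MonoidHom.ext fun q => by
          obtain ⟨y, rfl⟩ := hφ q
          show a (b (φ y)) = φ y
          rw [hb, ha, MulEquiv.apply_symm_apply])
      have h2 := hQ.2 ebar (φ x) hx
      change ((a (φ x) : ↥(T.map f)) : G ⧸ Z) ∈ Q at h2
      rw [ha] at h2
      exact h2
  obtain ⟨g₀, rfl⟩ := hfs g
  -- a representative of order prime to `p`
  obtain ⟨g₁, hg₁, hg₁o⟩ : ∃ g₁, f g₁ = f g₀ ∧ (orderOf g₁).Coprime p := by
    obtain ⟨a, r, hr, hra⟩ := Nat.exists_eq_pow_mul_and_not_dvd (orderOf_pos g₀).ne' p hp.out.ne_one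
    refine ⟨g₀ ^ (((p ^ a : ℕ) : ℤ) * Nat.gcdA (p ^ a) (orderOf (f g₀))), ?_, ?_⟩
    · have hc : Nat.gcd (p ^ a) (orderOf (f g₀)) = 1 := (hco.symm.pow_left a)
      have h1 := Nat.gcd_eq_gcd_ab (p ^ a) (orderOf (f g₀))
      rw [hc, Nat.cast_one] at h1
      rw [map_zpow, eq_sub_of_add_eq h1.symm, zpow_sub, zpow_one, zpow_mul, zpow_natCast, pow_orderOf_eq_one,
        one_zpow, inv_one, mul_one]
    · refine Nat.Coprime.coprime_dvd_left (orderOf_dvd_of_pow_eq_one (n := r) ?_)
        ((hp.out.coprime_iff_not_dvd.2 hr)).symm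
      rw [← zpow_natCast, ← zpow_mul, mul_comm ((p ^ a : ℕ) : ℤ), mul_assoc, ← Nat.cast_mul, ← hra, mul_comm,
        zpow_mul, zpow_natCast, pow_orderOf_eq_one, one_zpow]
  rw [← hg₁] at hg ⊢
  have hg' : g₁ ∈ Subgroup.normalizer (Q.comap f : Set G) := Subgroup.mem_normalizer_fintype fun x hx => by
    show f (g₁ * x * g₁⁻¹) ∈ Q
    rw [map_mul, map_mul, map_inv]
    exact (Subgroup.mem_normalizer_iff.1 hg _).1 hx
  have hne' : Q.comap f ≠ ⊥ := fun hb => hne (by
    rw [← Subgroup.map_comap_eq_self_of_surjective hfs Q, hb, Subgroup.map_bot])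
  have h3 := h _ hQ' hne' g₁ hg' hg₁o
  refine Subgroup.mem_centralizer_iff.2 fun q hq => ?_
  obtain ⟨q₀, rfl⟩ := hfs q
  rw [← map_mul, ← map_mul, Subgroup.mem_centralizer_iff.1 h3 q₀ hq]

/-- A normal `p`-complement from the automizers of the characteristic subgroups of a Sylow subgroup. -/
theorem hnpc_of_charAut [Finite G] [Fact p.Prime] (h0 : p ≠ 2 ∨ ¬ Cfsg.Involves (Equiv.Perm (Fin 4)) G) (S : Sylow p G)
    (h : CharAut p (S : Subgroup G)) : HasNormalPComplement p G :=
  hnpc_of_charAut_aux _ G rfl h0 S h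

end CfsgLib.AutComp
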