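import Cfsg.Agent.Fus.SmallCenter
import Cfsg.Agent.Fus.Centric
import Cfsg.Agent.Fus.AutomizerComplement

/-!
Saturated systems over a `p`-group with a unique abelian subgroup of index `p` that is not essential.
-/

set_option autoImplicit false
set_option linter.style.haveILetI false

open Cfsg Cfsg.FusionSystem
open scoped commutatorElement Pointwise

namespace CfsgLib.Fus

variable {Ω : Type*} [Group Ω] {S : Subgroup Ω} {F : FusionSystem S} {p : ℕ}

/-- A nonabelian group with a unique abelian subgroup of index `p` in a system. -/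
structure AbBase (p : ℕ) (F : FusionSystem S) (A : Subgroup Ω) : Prop where
  pg : IsPGroup p S
  sat : F.IsSaturated p
  odd : p ≠ 2
  le : A ≤ S
  comm : ∀ a ∈ A, ∀ b ∈ A, a * b = b * a
  index : A.relIndex S = p
  uniq : ∀ B : Subgroup Ω, B ≤ S → (∀ a ∈ B, ∀ b ∈ B, a * b = b * a) → B.relIndex S = p → B = A
  nab : ∃ a ∈ S, ∃ b ∈ S, a * b ≠ b * a

/-- A nonabelian group with a unique abelian subgroup of index `p`, not essential, in a system without core. -/
structure AbIdx (p : ℕ) (F : FusionSystem S) (A : Subgroup Ω) : Prop extends AbBase p F A where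
  core : F.core = ⊥
  noess : ¬ F.IsEssential p A

namespace AbBase

variable {A : Subgroup Ω}

theorem normal [Finite S] [hp : Fact p.Prime] (h : AbBase p F A) {g a : Ω} (hg : g ∈ S) (ha : a ∈ A) :
    g * a * g⁻¹ ∈ A := by
  haveI : (A.subgroupOf S).Normal := Subgroup.normal_of_index_eq_minFac_card (by
    rw [show (A.subgroupOf S).index = p from h.index]
    obtain ⟨n, hn⟩ := IsPGroup.iff_card.1 h.pg
    have hn0 : n ≠ 0 := by
      rintro rfl
      rw [pow_zero] at hn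
      have h1 := A.subgroupOf S |>.index_dvd_card
      rw [hn, show (A.subgroupOf S).index = p from h.index] at h1
      exact hp.out.one_lt.ne' (Nat.dvd_one.1 h1)
    rw [hn, Nat.Prime.pow_minFac hp.out hn0])
  exact Subgroup.Normal.conj_mem ‹(A.subgroupOf S).Normal› ⟨a, h.le ha⟩ ha ⟨g, hg⟩

theorem sup_zpowers [Finite S] [hp : Fact p.Prime] (h : AbBase p F A) {x : Ω} (hx : x ∈ S) (hxA : x ∉ A) :
    A ⊔ Subgroup.zpowers x = S := by
  have hle : A ⊔ Subgroup.zpowers x ≤ S := sup_le h.le (Subgroup.zpowers_le.2 hx)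
  refine le_antisymm hle ?_
  have h1 := Subgroup.relIndex_mul_relIndex A (A ⊔ Subgroup.zpowers x) S le_sup_left hle
  rw [h.index] at h1
  rcases (Nat.dvd_prime hp.out).1 ⟨_, h1.symm⟩ with h2 | h2
  · exact absurd ((Subgroup.relIndex_eq_one.1 h2) (le_sup_right (a := A) (Subgroup.mem_zpowers x))) hxA
  · rw [h2] at h1
    exact Subgroup.relIndex_eq_one.1 ((Nat.mul_eq_left hp.out.ne_zero).1 h1)

/-- An element of `A` commuting with one element outside is central. -/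
theorem cent [Finite S] [Fact p.Prime] (h : AbBase p F A) {x a : Ω} (hx : x ∈ S) (hxA : x ∉ A) (ha : a ∈ A)
    (hc : x * a = a * x) : a ∈ Zc S := by
  refine mem_Zc (h.le ha) fun y hy => ?_
  have hle : A ⊔ Subgroup.zpowers x ≤ Subgroup.centralizer ({a} : Set Ω) := sup_le
    (fun b hb => Subgroup.mem_centralizer_singleton_iff.2 (h.comm b hb a ha))
    (Subgroup.zpowers_le.2 (Subgroup.mem_centralizer_singleton_iff.2 hc))
  exact Subgroup.mem_centralizer_singleton_iff.1 (hle ((h.sup_zpowers hx hxA).ge hy))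

theorem Zc_le_base [Finite S] [Fact p.Prime] (h : AbBase p F A) : Zc S ≤ A := by
  intro z hz
  by_contra hzA
  obtain ⟨a, ha, b, hb, hne⟩ := h.nab
  have hA : A ≤ Zc S := fun c hc => h.cent hz.1 hzA hc (Zc_comm hz (h.le hc)).symm
  have hS : S ≤ Zc S := (h.sup_zpowers hz.1 hzA).ge.trans (sup_le hA (Subgroup.zpowers_le.2 hz))
  exact hne (Zc_comm (hS hb) ha)

/-- The commutators of `A` with an outside element form the derived subgroup. -/
theorem derived_eq [Finite S] [Fact p.Prime] (h : AbBase p F A) {x : Ω} (hx : x ∈ S) (hxA : x ∉ A) {d : Ω}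
    (hd : d ∈ ⁅S, S⁆) : ∃ a ∈ A, ⁅x, a⁆ = d := by
  have hadd : ∀ a ∈ A, ∀ b ∈ A, ⁅x, a⁆ * ⁅x, b⁆ = ⁅x, a * b⁆ := by
    intro a ha b hb
    have hmem : a⁻¹ ∈ A := A.inv_mem ha
    have hxb : ⁅x, b⁆ ∈ A := by
      rw [commutatorElement_def]
      exact A.mul_mem (h.normal hx hb) (A.inv_mem hb)
    have e1 : ⁅x, a * b⁆ = ⁅x, a⁆ * (a * ⁅x, b⁆ * a⁻¹) := by simp [commutatorElement_def, mul_assoc]
    rw [e1, h.comm a ha _ hxb, mul_inv_cancel_right]
  let K : Subgroup Ω :=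
    { carrier := {d | ∃ a ∈ A, ⁅x, a⁆ = d}
      one_mem' := ⟨1, A.one_mem, commutatorElement_one_right x⟩
      mul_mem' := by
        rintro _ _ ⟨a, ha, rfl⟩ ⟨b, hb, rfl⟩
        exact ⟨a * b, A.mul_mem ha hb, (hadd a ha b hb).symm⟩
      inv_mem' := by
        rintro _ ⟨a, ha, rfl⟩
        refine ⟨a⁻¹, A.inv_mem ha, eq_inv_of_mul_eq_one_left ?_⟩
        rw [hadd _ (A.inv_mem ha) _ ha, inv_mul_cancel, commutatorElement_one_right] }
  have hKA : K ≤ A := by
    rintro _ ⟨a, ha, rfl⟩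
    rw [commutatorElement_def]
    exact A.mul_mem (h.normal hx ha) (A.inv_mem ha)
  have hKn : ∀ s ∈ S, ∀ k ∈ K, s * k * s⁻¹ ∈ K := by
    intro s hs k hk
    have hle : A ⊔ Subgroup.zpowers x ≤ Subgroup.normalizer (K : Set Ω) := by
      refine sup_le (fun b hb => mem_normalizer_of_conj (fun j hj => ?_) fun j hj => ?_) (Subgroup.zpowers_le.2
        (mem_normalizer_of_conj (fun j hj => ?_) fun j hj => ?_))
      · rwa [h.comm b hb j (hKA hj), mul_inv_cancel_right]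
      · rwa [mul_assoc, ← h.comm b hb j (hKA hj), inv_mul_cancel_left]
      · obtain ⟨a, ha, rfl⟩ := hj
        exact ⟨x * a * x⁻¹, h.normal hx ha, by simp [commutatorElement_def, mul_assoc]⟩
      · obtain ⟨a, ha, rfl⟩ := hj
        refine ⟨x⁻¹ * a * x, ?_, by simp [commutatorElement_def, mul_assoc]⟩
        simpa using h.normal (S.inv_mem hx) ha
    exact conj_mem_of_normalizer (hle ((h.sup_zpowers hx hxA).ge hs)) hk
  let T : Ω → Subgroup Ω := fun y =>
    { carrier := {s | s ∈ S ∧ ⁅s, y⁆ ∈ K}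
      one_mem' := ⟨S.one_mem, by rw [commutatorElement_one_left]; exact one_mem _⟩
      mul_mem' := fun {a b} ha hb => ⟨S.mul_mem ha.1 hb.1, by
        rw [show ⁅a * b, y⁆ = a * ⁅b, y⁆ * a⁻¹ * ⁅a, y⁆ by simp [commutatorElement_def, mul_assoc]]
        exact mul_mem (hKn a ha.1 _ hb.2) ha.2⟩
      inv_mem' := fun {a} ha => ⟨S.inv_mem ha.1, by
        rw [show ⁅a⁻¹, y⁆ = a⁻¹ * ⁅a, y⁆⁻¹ * a⁻¹⁻¹ by simp [commutatorElement_def, mul_assoc]]
        exact hKn _ (S.inv_mem ha.1) _ (inv_mem ha.2)⟩ }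
  have hgens : ∀ y, ⁅x, y⁆ ∈ K → (∀ a ∈ A, ⁅a, y⁆ ∈ K) → S ≤ T y := fun y h1 h2 => by
    intro s hs'
    exact (sup_le (fun a ha => ⟨h.le ha, h2 a ha⟩) (Subgroup.zpowers_le.2 ⟨hx, h1⟩) :
      A ⊔ Subgroup.zpowers x ≤ T y) ((h.sup_zpowers hx hxA).ge hs')
  have hxa : ∀ a ∈ A, ⁅x, a⁆ ∈ K := fun a ha => ⟨a, ha, rfl⟩
  have h1 : S ≤ T x := hgens x (by rw [commutatorElement_self]; exact one_mem _) fun a ha => by
    rw [← commutatorElement_inv]; exact inv_mem (hxa a ha)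
  have h2 : ∀ a ∈ A, S ≤ T a := fun a ha => hgens a (hxa a ha) fun b hb => by
    rw [commutatorElement_eq_one_iff_commute.2 (h.comm b hb a ha)]; exact one_mem _
  have h3 : ⁅S, S⁆ ≤ K := Subgroup.commutator_le.2 fun s hs' t ht => by
    refine ((hgens s ?_ fun a ha => ?_) ht).2 |> fun h => by
      rw [← commutatorElement_inv]; exact inv_mem h
    · rw [← commutatorElement_inv]; exact inv_mem (h1 hs').2
    · rw [← commutatorElement_inv]; exact inv_mem (h2 a ha hs').2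
  exact h3 hd

theorem derived_le [Finite S] : ⁅S, S⁆ ≤ S := Subgroup.commutator_le.2 fun a ha b hb => by
  rw [commutatorElement_def]
  exact S.mul_mem (S.mul_mem (S.mul_mem ha hb) (S.inv_mem ha)) (S.inv_mem hb)

/-- The part of an essential subgroup inside `A` is proper. -/
theorem ess_out [Finite S] [Fact p.Prime] (h : AbBase p F A) {E : Subgroup Ω} (hE : F.IsEssential p E)
    (hne : E ≠ A) : ∃ x ∈ E, x ∉ A := by
  by_contra hn
  push Not at hn
  have hEA : A = E := le_antisymm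
    (fun a ha => centric_center hE.1 (h.le ha) fun y hy => h.comm y (hn y hy) a ha) hn
  exact hne hEA.symm

theorem center_ess [Finite S] [Fact p.Prime] (h : AbBase p F A) {E : Subgroup Ω} (hE : F.IsEssential p E)
    (hEA : E ≠ A)
    (hne : ∃ b ∈ E, b ∈ A ∧ b ∉ Zc S) {z : Ω} (hz : z ∈ E) (hc : ∀ y ∈ E, y * z = z * y) : z ∈ Zc S := by
  obtain ⟨b, hb, hbA, hbZ⟩ := hne
  obtain ⟨x, hxE, hxA⟩ := h.ess_out hE hEA
  by_cases hzA : z ∈ A
  · exact h.cent (hE.1.1 hxE) hxA hzA (hc x hxE)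
  · exact absurd (h.cent (hE.1.1 hz) hzA hbA (hc b hb).symm) hbZ

theorem eq_sup [Finite S] [hp : Fact p.Prime] (h : AbBase p F A) {E : Subgroup Ω} (hE : F.IsEssential p E)
    (hsm : ∀ b ∈ E, b ∈ A → b ∈ Zc S) {x : Ω} (hxE : x ∈ E) (hxA : x ∉ A) :
    E = Zc S ⊔ Subgroup.zpowers x := by
  refine le_antisymm (fun e he => ?_) (sup_le (Zc_le_centric hE.1) (Subgroup.zpowers_le.2 hxE))
  have hS := hE.1.1
  have hmem : e ∈ (A : Set Ω) * (Subgroup.zpowers x : Set Ω) := by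
    rw [← Subgroup.coe_mul_of_right_le_normalizer_left A (Subgroup.zpowers x)]
    · exact (h.sup_zpowers (hS hxE) hxA).ge (hS he)
    · exact Subgroup.zpowers_le.2 (mem_normalizer_of_conj (fun a ha => h.normal (hS hxE) ha) fun a ha => by
        simpa using h.normal (S.inv_mem (hS hxE)) ha)
  obtain ⟨a, ha, q, hq, rfl⟩ := hmem
  have hqE : q ∈ E := Subgroup.zpowers_le.2 hxE hq
  refine Subgroup.mul_mem_sup (hsm a ?_ ha) hq
  have := E.mul_mem he (E.inv_mem hqE)
  simpa using this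

/-- The automizer data of a small essential subgroup. -/
theorem small_aut [Finite S] [hp : Fact p.Prime] (h : AbBase p F A) {E : Subgroup Ω} (hE : F.IsEssential p E)
    (hEA : E ≠ A)
    (hsm : ∀ b ∈ E, b ∈ A → b ∈ Zc S) :
    ∃ hc : ∀ a ∈ E, ∀ b ∈ E, a * b = b * a,
    letI := commOf hc
    Nat.card ↥(Zc S ⊓ ⁅S, S⁆) = p ∧
    ∃ u : MulAut ↥E, Trans.Tv p (F.autGroup E) u ∧ Trans.SylP p (F.autGroup E) ∧
      (∀ x : E, u x = x ↔ (x : Ω) ∈ Zc S) ∧
      (∀ x : E, x ∈ (Trans.dlt u).range ↔ (x : Ω) ∈ Zc S ⊓ ⁅S, S⁆) ∧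
      ∃ γ ∈ F.autGroup E, Subgroup.zpowers (γ * u * γ⁻¹) ≠ Subgroup.zpowers u := by
  obtain ⟨x, hxE, hxA⟩ := h.ess_out hE hEA
  have hES := hE.1.1
  have hxS := hES hxE
  have hEeq := h.eq_sup hE hsm hxE hxA
  have hZE : Zc S ≤ E := Zc_le_centric hE.1
  have hc : ∀ a ∈ E, ∀ b ∈ E, a * b = b * a := by
    intro a ha b hb
    have hle : E ≤ Subgroup.centralizer (E : Set Ω) := hEeq.le.trans (sup_le
      (fun z hz y hy => Zc_comm hz (hES hy)) (Subgroup.zpowers_le.2 fun y hy => ?_))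
    · exact (hle hb a ha)
    · rw [hEeq] at hy
      refine Subgroup.mem_centralizer_singleton_iff.1 ((sup_le (fun z hz => ?_) (Subgroup.zpowers_le.2
        (Subgroup.mem_centralizer_singleton_iff.2 rfl)) : _ ≤ Subgroup.centralizer ({x} : Set Ω)) hy)
      exact Subgroup.mem_centralizer_singleton_iff.2 (Zc_comm hz hxS).symm
  refine ⟨hc, ?_⟩
  letI := commOf hc
  haveI := finite_of_le hES
  haveI := finite_mulAut hES
  have hEp : IsPGroup p ↥E := h.pg.to_le hES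
  set L := Zc S ⊓ ⁅S, S⁆ with hLdef
  haveI := finite_of_le (inf_le_left.trans Zc_le : L ≤ S)
  let Z' : Subgroup ↥E := (Zc S).subgroupOf E
  -- index `p`
  have hZi : Z'.index = p := by
    have hZA : Z' = A.subgroupOf E := by
      ext e
      exact ⟨fun he => h.Zc_le_base he, fun he => hsm e e.2 he⟩
    have h1 : Z'.index ≤ p := by
      rw [hZA]
      have : A.relIndex E ≤ A.relIndex S := Subgroup.relIndex_le_of_le_right hES (by rw [h.index]; exact hp.out.ne_zero)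
      rwa [h.index] at this
    obtain ⟨k, hk⟩ := hEp.index Z'
    have hk0 : k ≠ 0 := fun h0 => by
      rw [h0, pow_zero, Subgroup.index_eq_one] at hk
      have : (⟨x, hxE⟩ : E) ∈ Z' := hk ▸ trivial
      exact hxA (h.Zc_le_base this)
    rw [hk] at h1
    have := (Nat.pow_le_pow_iff_right hp.out.one_lt).1 (h1.trans (pow_one p).ge)
    rw [hk, show k = 1 by omega, pow_one]
  -- elements of the induced automizer
  have hQmem : ∀ q ∈ autInducedBy S E, (∀ e : E, (e : Ω) ∈ Zc S → q e = e) ∧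
      ∀ e : E, ((q e / e : E) : Ω) ∈ L := by
    intro q hq
    obtain ⟨s, hs, hse⟩ := mem_autInducedBy.1 hq
    have hv : ∀ e : E, ((q e : E) : Ω) = s * e * s⁻¹ := fun e => by rw [← autFun_apply]; exact hse e e.2
    refine ⟨fun e he => Subtype.ext (by rw [hv, Zc_comm he hs, mul_inv_cancel_right]), fun e => ?_⟩
    have hd : ((q e / e : E) : Ω) = ⁅s, (e : Ω)⁆ := by
      rw [div_eq_mul_inv, Subgroup.coe_mul, hv, Subgroup.coe_inv, commutatorElement_def]
    have hD : ((q e / e : E) : Ω) ∈ ⁅S, S⁆ := hd ▸ Subgroup.commutator_mem_commutator hs (hES e.2)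
    refine ⟨hsm _ (q e / e).2 ?_, hD⟩
    obtain ⟨a, ha, hae⟩ := h.derived_eq hxS hxA hD
    rw [← hae, commutatorElement_def]
    exact A.mul_mem (h.normal hxS ha) (A.inv_mem ha)
  have hQlift : ∀ l ∈ L, ∃ q ∈ autInducedBy S E, ((q ⟨x, hxE⟩ / ⟨x, hxE⟩ : E) : Ω) = l := by
    intro l hl
    obtain ⟨a, ha, hae⟩ := h.derived_eq hxS hxA (inv_mem hl.2)
    have hconj : a * x * a⁻¹ = l * x := by
      have : x * a * x⁻¹ * a⁻¹ = l⁻¹ := by rw [← commutatorElement_def]; exact hae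
      rw [← inv_inv l, ← this]
      simp [mul_assoc]
    have hn : a ∈ Subgroup.normalizer (E : Set Ω) := by
      refine mem_normalizer_of_conj (fun e he => ?_) fun e he => ?_
      · rw [hEeq] at he ⊢
        refine (sup_le (fun z hz => ?_) (Subgroup.zpowers_le.2 ?_) :
          Zc S ⊔ Subgroup.zpowers x ≤ (Zc S ⊔ Subgroup.zpowers x).comap (MulAut.conj a).toMonoidHom) he
        · refine Subgroup.mem_comap.2 ?_
          show a * z * a⁻¹ ∈ Zc S ⊔ Subgroup.zpowers x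
          rw [Zc_comm hz (h.le ha), mul_inv_cancel_right]
          exact le_sup_left (b := Subgroup.zpowers x) hz
        · refine Subgroup.mem_comap.2 ?_
          show a * x * a⁻¹ ∈ Zc S ⊔ Subgroup.zpowers x
          rw [hconj]
          exact Subgroup.mul_mem_sup hl.1 (Subgroup.mem_zpowers x)
      · rw [hEeq] at he ⊢
        refine (sup_le (fun z hz => ?_) (Subgroup.zpowers_le.2 ?_) :
          Zc S ⊔ Subgroup.zpowers x ≤ (Zc S ⊔ Subgroup.zpowers x).comap (MulAut.conj a⁻¹).toMonoidHom) he |> fun h =>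
            by simpa using h
        · refine Subgroup.mem_comap.2 ?_
          show a⁻¹ * z * a⁻¹⁻¹ ∈ Zc S ⊔ Subgroup.zpowers x
          rw [Zc_comm hz (S.inv_mem (h.le ha)), mul_inv_cancel_right]
          exact le_sup_left (b := Subgroup.zpowers x) hz
        · refine Subgroup.mem_comap.2 ?_
          show a⁻¹ * x * a⁻¹⁻¹ ∈ Zc S ⊔ Subgroup.zpowers x
          have h2 : a⁻¹ * x * a⁻¹⁻¹ = l⁻¹ * x := by
            rw [inv_inv]
            calc a⁻¹ * x * a = a⁻¹ * (l⁻¹ * (l * x)) * a := by rw [inv_mul_cancel_left]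
              _ = l⁻¹ * x := by
                rw [← mul_assoc a⁻¹, Zc_comm (inv_mem hl.1) (S.inv_mem (h.le ha)), ← hconj]
                simp [mul_assoc]
          rw [h2]
          exact Subgroup.mul_mem_sup (inv_mem hl.1) (Subgroup.mem_zpowers x)
    obtain ⟨q, hq, hqe⟩ := exists_autInducedBy (K := S) (P := E) (h.le ha) hn
    refine ⟨q, hq, ?_⟩
    rw [div_eq_mul_inv, Subgroup.coe_mul, ← autFun_apply, hqe x hxE, hconj]
    simp
  set Q := autInducedBy S E with hQdef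
  have hQle : Q ≤ F.autGroup E := autInducedBy_le_autGroup hES
  have hQp : IsPGroup p Q := isPGroup_autInducedBy h.pg
  obtain ⟨⟨-, R, hR⟩, -⟩ := fullyNormalized_spec h.pg h.sat hE.2.1
  have hmax : ∀ P : Subgroup (MulAut ↥E), P ≤ F.autGroup E → IsPGroup p P → Nat.card P ≤ Nat.card Q := by
    intro P hP hPp
    have h1 : IsPGroup p ↥(P.subgroupOf (F.autGroup E)) := hPp.of_equiv (Subgroup.subgroupOfEquivOfLe hP).symm
    obtain ⟨T, hT⟩ := h1.exists_le_sylow
    have h2 := Subgroup.card_le_of_le hT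
    rw [Nat.card_congr (Subgroup.subgroupOfEquivOfLe hP).toEquiv, T.card_eq_multiplicity, ← R.card_eq_multiplicity,
      hR, Nat.card_congr (Subgroup.subgroupOfEquivOfLe hQle).toEquiv] at h2
    exact h2
  -- a nontrivial induced automorphism
  obtain ⟨s, hs, hsE, hsn⟩ := exists_normalizing_of_lt h.pg (essential_lt h.pg h.sat hE)
  obtain ⟨q₀, hq₀, hq₀e⟩ := exists_autInducedBy (K := S) (P := E) hs hsn
  have hq₀1 : q₀ ≠ 1 := fun h1 => hsE (centric_center hE.1 hs fun y hy => by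
    have := hq₀e y hy
    rw [h1, autFun_one hy] at this
    exact (eq_mul_inv_iff_mul_eq.1 this))
  -- a second Sylow subgroup
  obtain ⟨γ₀, hγ₀, hne₀⟩ : ∃ γ ∈ F.autGroup E, ∃ q ∈ Q, γ * q * γ⁻¹ ∉ Q := by
    by_contra hall
    push Not at hall
    haveI : (Q.subgroupOf (F.autGroup E)).Normal := ⟨fun n hn γ => by
      rw [Subgroup.mem_subgroupOf] at hn ⊢
      exact hall γ γ.2 n hn⟩
    have h1 := essential_le_inn hE (hQp.of_equiv (Subgroup.subgroupOfEquivOfLe hQle).symm)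
      (x := ⟨q₀, hQle hq₀⟩) (Subgroup.mem_subgroupOf.2 hq₀)
    rw [Subgroup.mem_subgroupOf, inn_eq_autInducedBy] at h1
    obtain ⟨a, ha, hae⟩ := mem_autInducedBy.1 h1
    exact hq₀1 (aut_ext fun y hy => by rw [hae y hy, autFun_one hy, hc a ha y hy, mul_inv_cancel_right])
  let Q' := Q.map (MulAut.conj γ₀).toMonoidHom
  let Y := Z'.map γ₀.toMonoidHom
  have hQ'le : Q' ≤ F.autGroup E := by
    rintro _ ⟨q, hq, rfl⟩
    exact mul_mem (mul_mem hγ₀ (hQle hq)) (inv_mem hγ₀)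
  have hQ'card : Nat.card Q' = Nat.card Q := Subgroup.card_map_of_injective (MulEquiv.injective _)
  have hQ'stab : ∀ q ∈ Q', (∀ e ∈ Y, q e = e) ∧ ∀ e : E, q e / e ∈ Y := by
    rintro _ ⟨q, hq, rfl⟩
    obtain ⟨h1, h2⟩ := hQmem q hq
    refine ⟨?_, fun e => ?_⟩
    · rintro _ ⟨z, hz, rfl⟩
      show γ₀ (q (γ₀⁻¹ (γ₀ z))) = γ₀ z
      rw [MulAut.inv_apply_self, h1 z hz]
    · refine ⟨q (γ₀⁻¹ e) / γ₀⁻¹ e, (h2 _).1, ?_⟩
      show γ₀ (q (γ₀⁻¹ e) / γ₀⁻¹ e) = γ₀ (q (γ₀⁻¹ e)) / e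
      rw [map_div, MulAut.apply_inv_self]
  have hQstab : ∀ q ∈ Q, (∀ e ∈ Z', q e = e) ∧ ∀ e : E, q e / e ∈ Z' := fun q hq =>
    ⟨fun e he => (hQmem q hq).1 e he, fun e => ((hQmem q hq).2 e).1⟩
  have hYZ : Y ≠ Z' := by
    intro he
    obtain ⟨q, hq, hqn⟩ := hne₀
    apply hqn
    let M := F.autGroup E ⊓ Trans.stab Z' Z'
    have hMle : ∀ P : Subgroup (MulAut ↥E), P ≤ F.autGroup E → (∀ q ∈ P, (∀ e ∈ Z', q e = e) ∧ ∀ e, q e / e ∈ Z') →
        P ≤ M := fun P hP h1 r hr => ⟨hP hr, (h1 r hr).1, fun e he' => by rw [(h1 r hr).1 e he', div_self']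
                                                                              ; exact one_mem _, (h1 r hr).2⟩
    have h1 : Q = M := Subgroup.eq_of_le_of_card_ge (hMle Q hQle hQstab)
      (hmax M inf_le_left ((Trans.isPGroup_stab hEp _ _).to_le inf_le_right))
    rw [h1]
    exact hMle Q' hQ'le (he ▸ hQ'stab) ⟨q, hq, rfl⟩
  let W := Z' ⊓ Y
  let M := F.autGroup E ⊓ Trans.stab W Y
  have hQ'M : Q' = M := Subgroup.eq_of_le_of_card_ge
    (fun r hr => ⟨hQ'le hr, fun e he => (hQ'stab r hr).1 e he.2, fun e he => by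
      rw [(hQ'stab r hr).1 e he, div_self']; exact one_mem _, (hQ'stab r hr).2⟩)
    (hQ'card ▸ hmax M inf_le_left ((Trans.isPGroup_stab hEp _ _).to_le inf_le_right))
  have hYi : Y.index = p := by
    rw [show Y.index = Z'.index from Subgroup.index_map_equiv Z' γ₀, hZi]
  have hsup : Z' ⊔ Y = ⊤ := by
    have h1 : Z' < Z' ⊔ Y := lt_of_le_of_ne le_sup_left fun he => by
      refine hYZ (Subgroup.eq_of_le_of_card_ge (he.ge.trans' le_sup_right) ?_)
      have h2 := Z'.card_mul_index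
      rw [hZi, ← Y.card_mul_index, hYi] at h2
      exact (Nat.eq_of_mul_eq_mul_right hp.out.pos h2).le
    have h3 := Subgroup.relIndex_mul_index h1.le
    rw [hZi] at h3
    rcases (Nat.dvd_prime hp.out).1 ⟨_, h3.symm⟩ with h4 | h4
    · exact absurd (Subgroup.relIndex_eq_one.1 h4) h1.not_ge
    · rw [h4] at h3
      exact Subgroup.index_eq_one.1 ((Nat.mul_eq_left hp.out.ne_zero).1 h3)
  have hfix_all : ∀ q : MulAut ↥E, (∀ e ∈ Z', q e = e) → (∀ e ∈ Y, q e = e) → q = 1 := by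
    intro q h1 h2
    refine MulEquiv.ext fun e => ?_
    obtain ⟨a, ha, b, hb, rfl⟩ := Subgroup.mem_sup.1 (hsup.ge (Subgroup.mem_top e))
    rw [map_mul, h1 a ha, h2 b hb, MulAut.one_apply]
  have hxtop : ∀ q ∈ Q, q ⟨x, hxE⟩ = ⟨x, hxE⟩ → q = 1 := by
    intro q hq hqx
    refine MulEquiv.ext fun e => ?_
    let Fx : Subgroup ↥E := (Trans.dlt q).ker
    have hle : E ≤ Fx.map E.subtype := hEeq.le.trans (sup_le
      (fun z hz => ⟨⟨z, hZE hz⟩, Trans.mem_ker.2 ((hQmem q hq).1 _ hz), rfl⟩)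
      (Subgroup.zpowers_le.2 ⟨⟨x, hxE⟩, Trans.mem_ker.2 hqx, rfl⟩))
    obtain ⟨w, hw, hwe⟩ := hle e.2
    rw [← show w = e from Subtype.ext hwe]
    exact Trans.mem_ker.1 hw
  have hinj : ∀ l ∈ L, ∀ hl : l ∈ E, (⟨l, hl⟩ : E) ∈ Y → l = 1 := by
    intro l hl hlE hlY
    obtain ⟨q, hq, hqx⟩ := hQlift l hl
    have hqM : q ∈ M := by
      have hmov : ∀ e : E, q e / e ∈ W := fun e => by
        let T : Subgroup ↥E := W.comap (Trans.dlt q)
        have hle : E ≤ T.map E.subtype := hEeq.le.trans (sup_le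
          (fun z hz => ⟨⟨z, hZE hz⟩, show Trans.dlt q _ ∈ W by
            rw [Trans.dlt_apply, (hQmem q hq).1 ⟨z, hZE hz⟩ hz, div_self']; exact one_mem _, rfl⟩)
          (Subgroup.zpowers_le.2 ⟨⟨x, hxE⟩, show Trans.dlt q _ ∈ W by
            rw [Trans.dlt_apply, show (q ⟨x, hxE⟩ / ⟨x, hxE⟩ : E) = ⟨l, hlE⟩ from Subtype.ext hqx]
            exact ⟨hl.1, hlY⟩, rfl⟩))
        obtain ⟨w, hw, hwe⟩ := hle e.2
        rw [← show w = e from Subtype.ext hwe]
        exact hw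
      exact ⟨hQle hq, fun e he => (hQmem q hq).1 e he.1, fun e _ => hmov e, fun e => (hmov e).2⟩
    rw [← hQ'M] at hqM
    have hq1 := hfix_all q (fun e he => (hQmem q hq).1 e he) (hQ'stab q hqM).1
    rw [← hqx, hq1, MulAut.one_apply, div_self', Subgroup.coe_one]
  -- the order of `L`
  have hLE : L ≤ E := inf_le_left.trans hZE
  let L' : Subgroup ↥E := L.subgroupOf E
  have hLcard : Nat.card L' = Nat.card L := Nat.card_congr (Subgroup.subgroupOfEquivOfLe hLE).toEquiv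
  have hLle : Nat.card L ≤ p := by
    have h1 : Y ⊓ L' = ⊥ := (Subgroup.eq_bot_iff_forall _).2 fun e he =>
      Subtype.ext (hinj e he.2 e.2 he.1)
    rw [← hLcard, ← Subgroup.relIndex_bot_left L', ← h1, Subgroup.inf_relIndex_right, ← hYi,
      ← Subgroup.relIndex_top_right Y]
    exact Subgroup.relIndex_le_of_le_right le_top (by rw [Subgroup.relIndex_top_right, hYi]; exact hp.out.ne_zero)
  have hl₀ : ((q₀ ⟨x, hxE⟩ / ⟨x, hxE⟩ : E) : Ω) ≠ 1 := fun h1 =>
    hq₀1 (hxtop q₀ hq₀ (div_eq_one.1 (Subtype.ext h1)))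
  have hLeq : Nat.card L = p := by
    obtain ⟨k, hk⟩ := IsPGroup.iff_card.1 (h.pg.to_le (inf_le_left.trans Zc_le : L ≤ S))
    have hk0 : k ≠ 0 := fun h0 => by
      rw [h0, pow_zero, Subgroup.card_eq_one] at hk
      have := (hQmem q₀ hq₀).2 ⟨x, hxE⟩
      exact hl₀ (Subgroup.mem_bot.1 (hk.le this))
    rw [hk] at hLle ⊢
    have := (Nat.pow_le_pow_iff_right hp.out.one_lt).1 (hLle.trans (pow_one p).ge)
    rw [show k = 1 by omega, pow_one]
  refine ⟨hLeq, q₀, ?_⟩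
  have hQcard : Nat.card Q ≤ p := by
    rw [← hLeq]
    refine Nat.card_le_card_of_injective (fun q => (⟨_, (hQmem q.1 q.2).2 ⟨x, hxE⟩⟩ : L)) fun q r he => ?_
    have he' : ((q.1 ⟨x, hxE⟩ / ⟨x, hxE⟩ : E) : Ω) = ((r.1 ⟨x, hxE⟩ / ⟨x, hxE⟩ : E) : Ω) := congrArg (fun t : ↥L => (t : Ω)) he
    have h1 : q.1 ⟨x, hxE⟩ = r.1 ⟨x, hxE⟩ := div_left_injective (Subtype.ext he')
    refine Subtype.ext (inv_mul_eq_one.1 (hxtop _ (Q.mul_mem (Q.inv_mem r.2) q.2) ?_)).symm
    rw [MulAut.mul_apply, h1, MulAut.inv_apply_self]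
  have hord : orderOf q₀ = p := by
    have hd : orderOf q₀ ∣ Nat.card Q := Subgroup.orderOf_dvd_natCard _ hq₀
    obtain ⟨k, hk⟩ := IsPGroup.iff_card.1 hQp
    rw [hk] at hd
    obtain ⟨j, hj, hje⟩ := (Nat.dvd_prime_pow hp.out).1 hd
    rw [hje]
    have : k ≤ 1 := (Nat.pow_le_pow_iff_right hp.out.one_lt).1 ((hk ▸ hQcard).trans (pow_one p).ge)
    have hj0 : j ≠ 0 := fun h0 => hq₀1 (orderOf_eq_one_iff.1 (by rw [hje, h0, pow_zero]))
    rw [show j = 1 by omega, pow_one]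
  have hker : ∀ e : E, q₀ e = e ↔ (e : Ω) ∈ Zc S := by
    refine fun e => ⟨fun he => ?_, (hQmem q₀ hq₀).1 e⟩
    by_contra hn
    have hK : (Trans.dlt q₀).ker = ⊤ := by
      have h1 : Z' < (Trans.dlt q₀).ker := lt_of_le_not_ge
        (fun z hz => Trans.mem_ker.2 ((hQmem q₀ hq₀).1 z hz)) fun hle => hn (hle (Trans.mem_ker.2 he))
      have h3 := Subgroup.relIndex_mul_index h1.le
      rw [hZi] at h3
      rcases (Nat.dvd_prime hp.out).1 ⟨_, h3.symm⟩ with h4 | h4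
      · exact absurd (Subgroup.relIndex_eq_one.1 h4) h1.not_ge
      · rw [h4] at h3
        exact Subgroup.index_eq_one.1 ((Nat.mul_eq_left hp.out.ne_zero).1 h3)
    exact hl₀ (by
      rw [show q₀ ⟨x, hxE⟩ = ⟨x, hxE⟩ from Trans.mem_ker.1 (hK ▸ trivial), div_self', Subgroup.coe_one])
  have hrange : (Trans.dlt q₀).range = L' := by
    refine Subgroup.eq_of_le_of_card_ge ?_ ?_
    · rintro _ ⟨e, rfl⟩
      exact (hQmem q₀ hq₀).2 e
    · rw [hLcard, hLeq]
      obtain ⟨k, hk⟩ := IsPGroup.iff_card.1 (hEp.to_subgroup (Trans.dlt q₀).range)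
      rw [hk]
      refine Nat.le_self_pow (fun h0 => hl₀ ?_) p
      rw [h0, pow_zero, Subgroup.card_eq_one] at hk
      have h1 : Trans.dlt q₀ ⟨x, hxE⟩ ∈ (Trans.dlt q₀).range := ⟨_, rfl⟩
      rw [hk, Subgroup.mem_bot] at h1
      exact congrArg Subtype.val h1
  refine ⟨⟨hQle hq₀, hord, fun e he => ?_, by rw [hrange, hLcard, hLeq]⟩, fun P hP hPp => (hmax P hP hPp).trans hQcard,
    hker, fun e => by rw [hrange]; rfl, γ₀, hγ₀, fun he => ?_⟩
  · rw [hrange] at he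
    exact Trans.mem_ker.2 ((hker e).2 he.1)
  · obtain ⟨q, hq, hqn⟩ := hne₀
    apply hqn
    have hQz : Q = Subgroup.zpowers q₀ :=
      (Subgroup.eq_of_le_of_card_ge (Subgroup.zpowers_le.2 hq₀) (by rw [Nat.card_zpowers, hord]; exact hQcard)).symm
    rw [hQz] at hq ⊢
    obtain ⟨k, rfl⟩ := Subgroup.mem_zpowers_iff.1 hq
    rw [← conj_zpow, ← he]
    exact Subgroup.zpow_mem_zpowers _ k

end AbBase

namespace AbIdx

variable {A : Subgroup Ω}

theorem ne_of_ess (h : AbIdx p F A) {E : Subgroup Ω} (hE : F.IsEssential p E) : E ≠ A := fun he => h.noess (he ▸ hE)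

theorem exists_small [Finite S] [Fact p.Prime] (h : AbIdx p F A) :
    ∃ E : Subgroup Ω, F.IsEssential p E ∧ ∀ b ∈ E, b ∈ A → b ∈ Zc S := by
  by_contra hno
  push Not at hno
  have hn : F.IsNormal (Zc S) := normal_criterion h.pg h.sat fun P hP => by
    refine ⟨Zc_le_centric (crit_cases h.pg h.sat hP).1, fun α _ z hz => ?_⟩
    have hPS : P ≤ S := (crit_cases h.pg h.sat hP).1.1
    have hzP : z ∈ P := Zc_le_centric (crit_cases h.pg h.sat hP).1 hz
    have hcm : ∀ y ∈ P, y * autFun α z = autFun α z * y := fun y hy => by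
      have h1 := congrArg (autFun α) (Zc_comm hz (hPS (autFun_mem α⁻¹ hy)))
      rwa [autFun_map_mul α (autFun_mem α⁻¹ hy) hzP, autFun_map_mul α hzP (autFun_mem α⁻¹ hy),
        autFun_inv_apply α hy] at h1
    rcases hP with rfl | hP
    · exact mem_Zc (autFun_mem α hz.1) hcm
    · exact h.toAbBase.center_ess hP (h.ne_of_ess hP) (hno P hP) (autFun_mem α hzP) hcm
  have hbot : Zc S ≤ ⊥ := h.core ▸ le_sSup hn
  obtain ⟨a, ha, b, hb, hne⟩ := h.nab
  haveI : Nontrivial ↥S := ⟨⟨a, ha⟩, ⟨b, hb⟩, fun e => hne (by rw [show a = b from congrArg Subtype.val e])⟩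
  haveI := h.pg.center_nontrivial
  obtain ⟨c, hc⟩ := exists_ne (1 : Subgroup.center ↥S)
  refine hc (Subtype.ext (Subtype.ext (Subgroup.mem_bot.1 (hbot ?_))))
  exact mem_Zc c.1.2 fun y hy => congrArg Subtype.val (Subgroup.mem_center_iff.1 c.2 ⟨y, hy⟩)

end AbIdx

end CfsgLib.Fus
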