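import Cfsg.Agent.Fus.AbelianIndexP

/-!
The essential subgroups in a system over a group with a unique abelian subgroup of index `p`.
-/

set_option autoImplicit false
set_option linter.style.haveILetI false

open Cfsg Cfsg.FusionSystem
open scoped commutatorElement Pointwise

namespace CfsgLib.Fus

variable {Ω : Type*} [Group Ω] {S : Subgroup Ω} {F : FusionSystem S} {p : ℕ}

/-- The second centre inside the ambient group. -/
def Zc2 (S : Subgroup Ω) : Subgroup Ω := (Subgroup.upperCentralSeries ↥S 2).map S.subtype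

theorem mem_Zc2 {s : Ω} : s ∈ Zc2 S ↔ s ∈ S ∧ ∀ y ∈ S, ⁅s, y⁆ ∈ Zc S := by
  constructor
  · rintro ⟨t, ht, rfl⟩
    refine ⟨t.2, fun y hy => ?_⟩
    have h := Subgroup.mem_upperCentralSeries_succ_iff.1 ht ⟨y, hy⟩
    rw [Subgroup.upperCentralSeries_one] at h
    rw [Zc_eq_map]
    exact ⟨_, h, rfl⟩
  · rintro ⟨hs, h⟩
    refine ⟨⟨s, hs⟩, Subgroup.mem_upperCentralSeries_succ_iff.2 fun y => ?_, rfl⟩
    rw [Subgroup.upperCentralSeries_one]
    obtain ⟨c, hc, hce⟩ := (Zc_eq_map (S := S)).le (h y y.2)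
    have : ⁅(⟨s, hs⟩ : ↥S), y⁆ = c := Subtype.ext hce.symm
    exact this ▸ hc

theorem card_eq_relIndex_mul {H K : Subgroup Ω} (h : H ≤ K) : Nat.card ↥K = H.relIndex K * Nat.card ↥H := by
  have := Subgroup.relIndex_mul_relIndex ⊥ H K bot_le h
  rw [Subgroup.relIndex_bot_left, Subgroup.relIndex_bot_left] at this
  rw [← this, mul_comm]

namespace AbBase

variable {A : Subgroup Ω}

theorem Zc_le_Zc2 : Zc S ≤ Zc2 S := fun z hz => mem_Zc2.2 ⟨hz.1, fun y hy => by
  rw [commutatorElement_eq_one_iff_mul_comm.2 (Zc_comm hz hy).symm]; exact one_mem _⟩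

theorem conj_mem_Zc {z s : Ω} (hz : z ∈ Zc S) (hs : s ∈ S) : s * z * s⁻¹ ∈ Zc S := by
  rwa [Zc_comm hz hs, mul_inv_cancel_right]

theorem mem_second [Finite S] [Fact p.Prime] (h : AbBase p F A) {x a : Ω} (hx : x ∈ S) (hxA : x ∉ A) (ha : a ∈ A) :
    ⁅x, a⁆ ∈ Zc S ↔ a ∈ Zc2 S := by
  refine ⟨fun hc => mem_Zc2.2 ⟨h.le ha, fun y hy => ?_⟩, fun hm => ?_⟩
  · let T : Subgroup Ω :=
      { carrier := {s | s ∈ S ∧ ⁅s, a⁆ ∈ Zc S}
        one_mem' := ⟨S.one_mem, by rw [commutatorElement_one_left]; exact one_mem _⟩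
        mul_mem' := fun {s t} hs ht => ⟨S.mul_mem hs.1 ht.1, by
          rw [show ⁅s * t, a⁆ = s * ⁅t, a⁆ * s⁻¹ * ⁅s, a⁆ by simp [commutatorElement_def, mul_assoc]]
          exact mul_mem (conj_mem_Zc ht.2 hs.1) hs.2⟩
        inv_mem' := fun {s} hs => ⟨S.inv_mem hs.1, by
          rw [show ⁅s⁻¹, a⁆ = s⁻¹ * ⁅s, a⁆⁻¹ * s⁻¹⁻¹ by simp [commutatorElement_def, mul_assoc]]
          exact conj_mem_Zc (inv_mem hs.2) (S.inv_mem hs.1)⟩ }
    have hle : A ⊔ Subgroup.zpowers x ≤ T := sup_le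
      (fun b hb => ⟨h.le hb, by rw [commutatorElement_eq_one_iff_mul_comm.2 (h.comm b hb a ha)]; exact one_mem _⟩)
      (Subgroup.zpowers_le.2 ⟨hx, hc⟩)
    rw [← commutatorElement_inv]
    exact inv_mem (hle ((h.sup_zpowers hx hxA).ge hy)).2
  · rw [← commutatorElement_inv]
    exact inv_mem ((mem_Zc2.1 hm).2 x hx)

theorem commutator_mul [Finite S] [Fact p.Prime] (h : AbBase p F A) {x a b : Ω} (hx : x ∈ S) (ha : a ∈ A) (hb : b ∈ A) :
    ⁅x, a * b⁆ = ⁅x, a⁆ * ⁅x, b⁆ := by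
  have hxb : ⁅x, b⁆ ∈ A := by
    rw [commutatorElement_def]
    exact A.mul_mem (h.normal hx hb) (A.inv_mem hb)
  have e1 : ⁅x, a * b⁆ = ⁅x, a⁆ * (a * ⁅x, b⁆ * a⁻¹) := by simp [commutatorElement_def, mul_assoc]
  rw [e1, h.comm a ha _ hxb, mul_inv_cancel_right]

/-- The commutator map on `A`. -/
def comHom [Finite S] [Fact p.Prime] (h : AbBase p F A) {x : Ω} (hx : x ∈ S) : ↥A →* Ω :=
  MonoidHom.mk' (fun a => ⁅x, (a : Ω)⁆) fun a b => h.commutator_mul hx a.2 b.2

/-- Counting along the commutator map. -/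
theorem card_comHom [Finite S] [hp : Fact p.Prime] (h : AbBase p F A) {x : Ω} (hx : x ∈ S) (hxA : x ∉ A)
    (K : Subgroup Ω) (hKA : K ≤ A) (hZK : Zc S ≤ K) :
    Nat.card ↥((K.subgroupOf A).map (h.comHom hx)) * Nat.card ↥(Zc S) = Nat.card ↥K := by
  haveI := finite_of_le h.le
  let g := (h.comHom hx).comp (K.subgroupOf A).subtype
  have h1 := g.ker.card_mul_index
  rw [Subgroup.index_ker, Nat.card_congr (Subgroup.subgroupOfEquivOfLe hKA).toEquiv] at h1
  have h2 : g.range = (K.subgroupOf A).map (h.comHom hx) := by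
    rw [MonoidHom.range_eq_map, ← Subgroup.map_map, ← MonoidHom.range_eq_map, Subgroup.range_subtype]
  have h3 : Nat.card g.ker = Nat.card ↥(Zc S) := by
    refine Nat.card_congr
      { toFun := fun a => ⟨(a.1.1 : Ω), h.cent hx hxA a.1.1.2 (commutatorElement_eq_one_iff_mul_comm.1 a.2)⟩
        invFun := fun z => ⟨⟨⟨z, hKA (hZK z.2)⟩, hZK z.2⟩, commutatorElement_eq_one_iff_mul_comm.2 ((Zc_comm z.2 hx))⟩
        left_inv := fun a => rfl
        right_inv := fun z => rfl }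
  rw [← h1, ← h2, h3, mul_comm]

/-- The derived subgroup has the order of `A` modulo the centre. -/
theorem card_derived [Finite S] [Fact p.Prime] (h : AbBase p F A) {x : Ω} (hx : x ∈ S) (hxA : x ∉ A) :
    Nat.card ↥⁅S, S⁆ * Nat.card ↥(Zc S) = Nat.card ↥A := by
  rw [← h.card_comHom hx hxA A le_rfl h.Zc_le_base]
  congr 3
  refine le_antisymm (fun d hd => ?_) ?_
  · obtain ⟨a, ha, rfl⟩ := h.derived_eq hx hxA hd
    exact ⟨⟨a, ha⟩, ha, rfl⟩
  · rintro _ ⟨a, -, rfl⟩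
    exact Subgroup.commutator_mem_commutator hx (h.le a.2)

/-- The central part of the derived subgroup measures the second centre inside `A`. -/
theorem card_second [Finite S] [Fact p.Prime] (h : AbBase p F A) {x : Ω} (hx : x ∈ S) (hxA : x ∉ A) :
    Nat.card ↥(A ⊓ Zc2 S) = Nat.card ↥(Zc S ⊓ ⁅S, S⁆) * Nat.card ↥(Zc S) := by
  rw [← h.card_comHom hx hxA (A ⊓ Zc2 S) inf_le_left (le_inf h.Zc_le_base Zc_le_Zc2)]
  congr 3
  refine le_antisymm ?_ fun d hd => ?_
  · rintro _ ⟨a, ha, rfl⟩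
    exact ⟨(h.mem_second hx hxA a.2).2 ha.2, Subgroup.commutator_mem_commutator hx (h.le a.2)⟩
  · obtain ⟨a, ha, rfl⟩ := h.derived_eq hx hxA hd.2
    exact ⟨⟨a, ha⟩, ⟨ha, (h.mem_second hx hxA ha).1 hd.1⟩, rfl⟩

/-- Elements of `A` stabilizing a series of an essential subgroup lie in it. -/
theorem stab_mem [Finite S] [hp : Fact p.Prime] (h : AbBase p F A) {P : Subgroup Ω} (hP : F.IsEssential p P)
    (V : Subgroup Ω) (hVP : V ≤ P) (hV : ∀ α ∈ F.autGroup P, ∀ v ∈ V, autFun α v ∈ V) {a : Ω} (ha : a ∈ S)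
    (han : a ∈ Subgroup.normalizer (P : Set Ω)) (hfix : ∀ v ∈ V, a * v * a⁻¹ = v)
    (hmov : ∀ e ∈ P, e⁻¹ * (a * e * a⁻¹) ∈ V) : a ∈ P := by
  have hPS := hP.1.1
  haveI := finite_of_le hPS
  have hc := (crit_cases h.pg h.sat (Or.inr hP))
  let K : Subgroup (MulAut ↥P) :=
    { carrier := {α | α ∈ F.autGroup P ∧ (∀ v ∈ V, autFun α v = v) ∧ ∀ e ∈ P, e⁻¹ * autFun α e ∈ V}
      one_mem' := ⟨one_mem _, fun v hv => autFun_one (hVP hv), fun e he => by
        rw [autFun_one he, inv_mul_cancel]; exact one_mem _⟩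
      mul_mem' := fun {α β} hα hβ => ⟨mul_mem hα.1 hβ.1, fun v hv => by
          rw [autFun_mul _ _ (hVP hv), hβ.2.1 v hv, hα.2.1 v hv], fun e he => by
          have h1 : autFun β e = e * (e⁻¹ * autFun β e) := (mul_inv_cancel_left _ _).symm
          rw [autFun_mul _ _ he, h1, autFun_map_mul α he (hVP (hβ.2.2 e he)), hα.2.1 _ (hβ.2.2 e he), ← mul_assoc]
          exact V.mul_mem (hα.2.2 e he) (hβ.2.2 e he)⟩
      inv_mem' := fun {α} hα => by
        have hi : ∀ v ∈ V, autFun α⁻¹ v = v := fun v hv => by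
          conv_lhs => rw [← hα.2.1 v hv]
          exact autFun_inv_apply' α (hVP hv)
        refine ⟨inv_mem hα.1, hi, fun e he => ?_⟩
        have h1 := hα.2.2 _ (autFun_mem α⁻¹ he)
        rw [autFun_inv_apply α he] at h1
        simpa using V.inv_mem h1 }
  have hKp : IsPGroup p K := fun ⟨α, hαA, hαf, hαm⟩ => by
    obtain ⟨k, hk⟩ : ∃ k, ∀ v ∈ V, v ^ p ^ k = 1 := by
      haveI := finite_of_le (hVP.trans hPS)
      obtain ⟨k, hk⟩ := IsPGroup.iff_card.1 (h.pg.to_le (hVP.trans hPS))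
      exact ⟨k, fun v hv => by
        have := congrArg Subtype.val (pow_card_eq_one' (x := (⟨v, hv⟩ : V)))
        rwa [hk] at this⟩
    refine ⟨k, Subtype.ext (aut_ext fun e he => ?_)⟩
    have hpow : ∀ n : ℕ, autFun (α ^ n) e = e * (e⁻¹ * autFun α e) ^ n := by
      intro n
      induction n with
      | zero => rw [pow_zero, pow_zero, mul_one, autFun_one he]
      | succ n ih =>
        rw [pow_succ', autFun_mul _ _ he, ih, autFun_map_mul α he (hVP (V.pow_mem (hαm e he) n)),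
          hαf _ (V.pow_mem (hαm e he) n), pow_succ', ← mul_assoc e, mul_inv_cancel_left]
    show autFun ((α ^ p ^ k : MulAut ↥P)) e = autFun 1 e
    rw [hpow, hk _ (hαm e he), mul_one, autFun_one he]
  obtain ⟨κ, hκ, hκe⟩ := exists_autInducedBy (K := S) (P := P) ha han
  refine mem_of_centric_radical hc.1 hc.2 K (fun α hα => hα.1) hKp (fun α hα γ hγ => ?_) ha
    (κ := κ) ⟨autInducedBy_le_autGroup hPS hκ, fun v hv => by rw [hκe v (hVP hv), hfix v hv], fun e he => by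
      rw [hκe e he]; exact hmov e he⟩ hκe
  refine ⟨mul_mem (mul_mem hα hγ.1) (inv_mem hα), fun v hv => ?_, fun e he => ?_⟩
  · rw [autFun_conj _ _ (hVP hv), hγ.2.1 _ (hV _ (inv_mem hα) v hv), autFun_inv_apply α (hVP hv)]
  · have hw := autFun_mem α⁻¹ he
    have h1 := hV α hα _ (hγ.2.2 _ hw)
    rw [autFun_map_mul α (P.inv_mem hw) (autFun_mem γ hw), autFun_map_inv α hw, autFun_inv_apply α he] at h1
    rw [autFun_conj _ _ he]
    exact h1

theorem decomp [Finite S] [Fact p.Prime] (h : AbBase p F A) {P : Subgroup Ω} (hPS : P ≤ S) {x e : Ω} (hxP : x ∈ P)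
    (hxA : x ∉ A) (he : e ∈ P) : ∃ a ∈ P ⊓ A, ∃ q ∈ Subgroup.zpowers x, e = a * q := by
  have hmem : e ∈ (A : Set Ω) * (Subgroup.zpowers x : Set Ω) := by
    rw [← Subgroup.coe_mul_of_right_le_normalizer_left A (Subgroup.zpowers x)]
    · exact (h.sup_zpowers (hPS hxP) hxA).ge (hPS he)
    · exact Subgroup.zpowers_le.2 (mem_normalizer_of_conj (fun a ha => h.normal (hPS hxP) ha) fun a ha => by
        simpa using h.normal (S.inv_mem (hPS hxP)) ha)
  obtain ⟨a, ha, q, hq, rfl⟩ := hmem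
  refine ⟨a, ⟨?_, ha⟩, q, hq, rfl⟩
  simpa using P.mul_mem he (P.inv_mem (Subgroup.zpowers_le.2 hxP hq))

theorem relIndex_base [Finite S] [hp : Fact p.Prime] (h : AbBase p F A) {P : Subgroup Ω} (hPS : P ≤ S)
    (hPA : ¬ P ≤ A) : A.relIndex P = p := by
  have h1 : A.relIndex P ≤ A.relIndex S :=
    Subgroup.relIndex_le_of_le_right hPS (by rw [h.index]; exact hp.out.ne_zero)
  rw [h.index] at h1
  haveI := finite_of_le hPS
  obtain ⟨k, hk⟩ := (h.pg.to_le hPS).index (A.subgroupOf P)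
  change A.relIndex P = p ^ k at hk
  have hk0 : k ≠ 0 := fun h0 => hPA (Subgroup.relIndex_eq_one.1 (by rw [hk, h0, pow_zero]))
  rw [hk] at h1
  have := (Nat.pow_le_pow_iff_right hp.out.one_lt).1 (h1.trans (pow_one p).ge)
  rw [hk, show k = 1 by omega, pow_one]

/-- A large essential subgroup. -/
theorem large_data [Finite S] [hp : Fact p.Prime] (h : AbBase p F A) {P : Subgroup Ω} (hP : F.IsEssential p P)
    (hPA : P ≠ A) (hne : ∃ b ∈ P, b ∈ A ∧ b ∉ Zc S) :
    Nat.card ↥(Zc S ⊓ ⁅S, S⁆) = p ∧ P ⊓ A = A ⊓ Zc2 S ∧ P.relIndex (normalizerIn S P) = p := by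
  obtain ⟨x, hxP, hxA⟩ := h.ess_out hP hPA
  obtain ⟨b, hb, hbA, hbZ⟩ := hne
  have hne : ∃ b ∈ P, b ∈ A ∧ b ∉ Zc S := ⟨b, hb, hbA, hbZ⟩
  have hPS := hP.1.1
  have hxS := hPS hxP
  haveI := finite_of_le hPS
  haveI := finite_of_le h.le
  have hlt := essential_lt h.pg h.sat hP
  have hAP : ¬ A ≤ P := fun hle => by
    refine hlt.not_ge ?_
    rw [← h.sup_zpowers hxS hxA]
    exact sup_le hle (Subgroup.zpowers_le.2 hxP)
  have hAn : S ≤ Subgroup.normalizer (A : Set Ω) := fun s hs => mem_normalizer_of_conj (fun a ha => h.normal hs ha)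
    fun a ha => by simpa using h.normal (S.inv_mem hs) ha
  have hZP : Zc S ≤ P := Zc_le_centric hP.1
  haveI := finite_of_le (inf_le_left.trans hPS : P ⊓ A ≤ S)
  -- the part inside `A` is not invariant
  obtain ⟨α, hα, a₀, ha₀, ha₀'⟩ : ∃ α ∈ F.autGroup P, ∃ a ∈ P ⊓ A, autFun α a ∉ A := by
    by_contra hall
    push Not at hall
    refine hAP (le_of_normalizer_le h.pg hPS h.le hAn fun a ha han => h.stab_mem hP (P ⊓ A) inf_le_left
      (fun α hα v hv => ⟨autFun_mem α hv.1, hall α hα v hv⟩) (h.le ha) han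
      (fun v hv => by rw [h.comm a ha v hv.2, mul_inv_cancel_right]) fun e he =>
        ⟨P.mul_mem (P.inv_mem he) (conj_mem_of_normalizer han he), ?_⟩)
    have : e⁻¹ * (a * e * a⁻¹) = e⁻¹ * a * e⁻¹⁻¹ * a⁻¹ := by simp [mul_assoc]
    rw [this]
    exact A.mul_mem (h.normal (S.inv_mem (hPS he)) ha) (A.inv_mem ha)
  have hidx := h.relIndex_base hPS (fun hle => hxA (hle hxP))
  -- the part inside `A` has the centre with index `p`
  have hαm := (mem_autGroup hPS).1 hα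
  have hcenP : ∀ β : MulAut ↥P, ∀ z ∈ Zc S, autFun β z ∈ Zc S := fun β z hz => by
    refine h.center_ess hP hPA hne (autFun_mem β (hZP hz)) fun y hy => ?_
    have h1 := congrArg (autFun β) (Zc_comm hz (hPS (autFun_mem β⁻¹ hy)))
    rwa [autFun_map_mul β (autFun_mem β⁻¹ hy) (hZP hz), autFun_map_mul β (hZP hz) (autFun_mem β⁻¹ hy),
      autFun_inv_apply β hy] at h1
  have hmax : ∀ s ∈ P, s ∉ A → (P ⊓ A) ⊔ Subgroup.zpowers s = P := fun s hs hsA => by
    refine le_antisymm (sup_le inf_le_left (Subgroup.zpowers_le.2 hs)) fun e he => ?_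
    obtain ⟨a, ha, q, hq, rfl⟩ := h.decomp hPS hs hsA he
    exact Subgroup.mul_mem_sup ha hq
  have hZ0 : ∀ c ∈ P ⊓ A, autFun α⁻¹ c ∈ A → c ∈ Zc S := fun c hc hca => by
    refine h.center_ess hP hPA hne hc.1 fun y hy => ?_
    have hle : P ≤ Subgroup.centralizer ({c} : Set Ω) := by
      rw [← hmax _ (autFun_mem α ha₀.1) ha₀']
      refine sup_le (fun w hw => Subgroup.mem_centralizer_singleton_iff.2 (h.comm w hw.2 c hc.2)) ?_
      refine Subgroup.zpowers_le.2 (Subgroup.mem_centralizer_singleton_iff.2 ?_)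
      have h1 := congrArg (autFun α) (h.comm a₀ ha₀.2 _ hca)
      rwa [autFun_map_mul α ha₀.1 (autFun_mem α⁻¹ hc.1), autFun_map_mul α (autFun_mem α⁻¹ hc.1) ha₀.1,
        autFun_inv_apply α hc.1] at h1
    exact Subgroup.mem_centralizer_singleton_iff.1 (hle hy)
  have hrel : (Zc S).relIndex (P ⊓ A) = p := by
    set B := img (autFun α) (P ⊓ A) with hB
    have hBP : B ≤ P := img_le_iff.2 fun v hv => autFun_mem α hv.1
    have hBeq : B ⊓ (P ⊓ A) ≤ Zc S := fun c hc => by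
      obtain ⟨v, hv, rfl⟩ := (hαm.mono inf_le_left).mem_img.1 hc.1
      refine hZ0 _ hc.2 ?_
      rw [autFun_inv_apply' α hv.1]
      exact hv.2
    have hBi : B.relIndex P = p := by
      have h1 := card_eq_relIndex_mul (inf_le_left : P ⊓ A ≤ P)
      have h2 := card_eq_relIndex_mul hBP
      rw [(hαm.mono inf_le_left).card_img, h1, Subgroup.inf_relIndex_left, hidx] at h2
      exact (Nat.eq_of_mul_eq_mul_right Nat.card_pos h2).symm
    obtain ⟨k, hk⟩ : ∃ k, (Zc S).relIndex (P ⊓ A) = p ^ k := by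
      haveI := finite_of_le (inf_le_left.trans hPS : P ⊓ A ≤ S)
      exact (h.pg.to_le (inf_le_left.trans hPS)).index _
    have h3 : (Zc S).relIndex (P ⊓ A) ≤ p := by
      calc (Zc S).relIndex (P ⊓ A) ≤ (B ⊓ (P ⊓ A)).relIndex (P ⊓ A) := Subgroup.relIndex_le_of_le_left hBeq (by
              haveI := finite_of_le (inf_le_left.trans hPS : P ⊓ A ≤ S)
              exact Subgroup.index_ne_zero_of_finite)
        _ = B.relIndex (P ⊓ A) := Subgroup.inf_relIndex_right _ _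
        _ ≤ B.relIndex P := Subgroup.relIndex_le_of_le_right inf_le_left (by rw [hBi]; exact hp.out.ne_zero)
        _ = p := hBi
    have hk0 : k ≠ 0 := fun h0 => hbZ (Subgroup.relIndex_eq_one.1 (by rw [hk, h0, pow_zero]) (show b ∈ P ⊓ A from ⟨hb, hbA⟩))
    rw [hk] at h3
    have := (Nat.pow_le_pow_iff_right hp.out.one_lt).1 (h3.trans (pow_one p).ge)
    rw [hk, show k = 1 by omega, pow_one]
  -- the part inside `A` is the second centre
  have hsec : P ⊓ A = A ⊓ Zc2 S := by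
    refine le_antisymm ?_ ?_ <;> [intro c hc; intro a ha]
    · refine ⟨hc.2, (h.mem_second hxS hxA hc.2).1 ?_⟩
      have hZc : (Zc S).subgroupOf P ≤ Subgroup.center ↥P := fun z hz =>
        Subgroup.mem_center_iff.2 fun y => Subtype.ext (Zc_comm hz (hPS y.2))
      haveI : ((Zc S).subgroupOf P).Normal := ⟨fun z hz g => by
        rw [Subgroup.mem_center_iff.1 (hZc hz) g, mul_inv_cancel_right]; exact hz⟩
      have hcard : Nat.card (↥P ⧸ (Zc S).subgroupOf P) = p ^ 2 := by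
        show (Zc S).relIndex P = _
        rw [← Subgroup.relIndex_mul_relIndex (Zc S) (P ⊓ A) P (le_inf hZP h.Zc_le_base) inf_le_left, hrel,
          Subgroup.inf_relIndex_left, hidx, pow_two]
      have hcm := IsPGroup.isMulCommutative_of_card_eq_prime_sq hcard
      have h1 := Subgroup.Normal.quotient_commutative_iff_commutator_le.1 hcm
        (Subgroup.commutator_mem_commutator (Subgroup.mem_top (⟨x, hxP⟩ : ↥P)) (Subgroup.mem_top ⟨c, hc.1⟩))
      exact h1
    · refine ⟨?_, ha.1⟩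
      have hT : ∀ e ∈ P, ⁅a, e⁆ ∈ Zc S := fun e he => (mem_Zc2.1 ha.2).2 e (hPS he)
      refine h.stab_mem hP (Zc S) hZP (fun β _ => hcenP β) (h.le ha.1) (mem_normalizer_of_conj (fun e he => ?_)
        fun e he => ?_) (fun v hv => by rw [Zc_comm hv (h.le ha.1), mul_inv_cancel_right]) fun e he => ?_
      · have := P.mul_mem (hZP (hT e he)) he
        rwa [commutatorElement_def, inv_mul_cancel_right] at this
      · have h2 : a⁻¹ ∈ Zc2 S := (Zc2 S).inv_mem ha.2
        have := P.mul_mem (hZP ((mem_Zc2.1 h2).2 e (hPS he))) he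
        rwa [commutatorElement_def, inv_mul_cancel_right, inv_inv] at this
      · have : e⁻¹ * (a * e * a⁻¹) = e⁻¹ * ⁅a, e⁆ * e⁻¹⁻¹ := by simp [commutatorElement_def, mul_assoc]
        rw [this]
        exact conj_mem_Zc (hT e he) (S.inv_mem (hPS he))
  have hL : Nat.card ↥(Zc S ⊓ ⁅S, S⁆) = p := by
    have h1 := card_eq_relIndex_mul (le_inf hZP h.Zc_le_base : Zc S ≤ P ⊓ A)
    rw [hrel, hsec, h.card_second hxS hxA] at h1
    exact Nat.eq_of_mul_eq_mul_right Nat.card_pos h1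
  refine ⟨hL, hsec, ?_⟩
  -- the normalizer
  set N := normalizerIn S P with hN
  haveI := finite_of_le (normalizerIn_le (S := S) P)
  have hPN : P ≤ N := le_normalizerIn hPS
  obtain ⟨s, hs, hsP, hsn⟩ := exists_normalizing_of_lt h.pg hlt
  obtain ⟨k, hk⟩ : ∃ k, P.relIndex N = p ^ k := (h.pg.to_le (normalizerIn_le P)).index _
  have hk0 : k ≠ 0 := fun h0 => hsP (Subgroup.relIndex_eq_one.1 (by rw [hk, h0, pow_zero]) (show s ∈ normalizerIn S P from ⟨hs, hsn⟩))
  set M := N ⊓ A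
  haveI := finite_of_le (inf_le_right.trans h.le : M ≤ S)
  have hPM : P ⊓ A ≤ M := inf_le_inf_right _ hPN
  have hD : Nat.card ↥((M.subgroupOf A).map (h.comHom hxS)) ≤ Nat.card ↥(P ⊓ A ⊓ ⁅S, S⁆ : Subgroup Ω) := by
    haveI := finite_of_le (inf_le_left.trans (inf_le_left.trans hPS) : (P ⊓ A ⊓ ⁅S, S⁆ : Subgroup Ω) ≤ S)
    refine Subgroup.card_le_of_le ?_
    rintro _ ⟨a, ha, rfl⟩
    have h1 : ⁅x, (a : Ω)⁆ ∈ A := by
      rw [commutatorElement_def]; exact A.mul_mem (h.normal hxS a.2) (A.inv_mem a.2)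
    refine ⟨⟨?_, h1⟩, Subgroup.commutator_mem_commutator hxS (h.le a.2)⟩
    show ⁅x, (a : Ω)⁆ ∈ P
    rw [commutatorElement_def, mul_assoc, mul_assoc, ← mul_assoc (a : Ω)]
    exact P.mul_mem hxP (conj_mem_of_normalizer ha.1.2 (P.inv_mem hxP))
  have hD2 : Nat.card ↥(P ⊓ A ⊓ ⁅S, S⁆ : Subgroup Ω) ≤ p * p := by
    set D := (P ⊓ A ⊓ ⁅S, S⁆ : Subgroup Ω)
    have hDS : D ≤ S := inf_le_left.trans (inf_le_left.trans hPS)
    haveI := finite_of_le hDS
    rw [card_eq_relIndex_mul (inf_le_right : Zc S ⊓ D ≤ D), Subgroup.inf_relIndex_right]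
    have h2 : Nat.card ↥(Zc S ⊓ D : Subgroup Ω) ≤ p := by
      rw [← hL]
      haveI := finite_of_le (inf_le_left.trans Zc_le : Zc S ⊓ ⁅S, S⁆ ≤ S)
      exact Subgroup.card_le_of_le (inf_le_inf_left _ inf_le_right)
    have h3 : (Zc S).relIndex D ≤ p := by
      rw [← hrel]
      exact Subgroup.relIndex_le_of_le_right inf_le_left (by rw [hrel]; exact hp.out.ne_zero)
    exact Nat.mul_le_mul h3 h2
  have hMc : (P ⊓ A).relIndex M ≤ p := by
    have h4 := h.card_comHom hxS hxA M inf_le_right (le_inf (hZP.trans hPN) h.Zc_le_base)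
    have h5 := card_eq_relIndex_mul hPM
    rw [card_eq_relIndex_mul (le_inf hZP h.Zc_le_base : Zc S ≤ P ⊓ A), hrel, ← h4] at h5
    have h6 : (P ⊓ A).relIndex M * p * Nat.card ↥(Zc S) ≤ p * p * Nat.card ↥(Zc S) := by
      rw [mul_assoc, ← h5]
      exact Nat.mul_le_mul_right _ (hD.trans hD2)
    exact Nat.le_of_mul_le_mul_right (Nat.le_of_mul_le_mul_right h6 Nat.card_pos) hp.out.pos
  have hle : P.relIndex N ≤ p := by
    refine le_trans ?_ hMc
    refine Nat.card_le_card_of_surjective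
      (Quotient.lift (fun m : ↥M => ((⟨(m : Ω), m.2.1⟩ : ↥N) : ↥N ⧸ P.subgroupOf N)) fun a b hab =>
        QuotientGroup.eq.2 (QuotientGroup.leftRel_apply.1 hab).1) fun q => ?_
    obtain ⟨⟨e, he⟩, rfl⟩ := QuotientGroup.mk_surjective q
    have hxN := hPN hxP
    obtain ⟨a, ha, q, hq, rfl⟩ := h.decomp (normalizerIn_le P) hxN hxA he
    exact ⟨QuotientGroup.mk ⟨a, ha⟩, QuotientGroup.eq.2 (by
      rw [Subgroup.mem_subgroupOf]
      simpa using Subgroup.zpowers_le.2 hxP hq)⟩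
  rw [hk] at hle
  have := (Nat.pow_le_pow_iff_right hp.out.one_lt).1 (hle.trans (pow_one p).ge)
  rw [hk, show k = 1 by omega, pow_one]

theorem small_data [Finite S] [hp : Fact p.Prime] (h : AbBase p F A) {P : Subgroup Ω} (hP : F.IsEssential p P)
    (hPA : P ≠ A) (hsm : ∀ b ∈ P, b ∈ A → b ∈ Zc S) :
    Nat.card ↥(Zc S ⊓ ⁅S, S⁆) = p ∧ P.relIndex (normalizerIn S P) = p := by
  obtain ⟨hc, hL, u, hu, hsyl, -, -, -⟩ := h.small_aut hP hPA hsm
  refine ⟨hL, ?_⟩
  have hPS := hP.1.1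
  haveI := finite_of_le hPS
  haveI := finite_mulAut hPS
  set Q := autInducedBy S P
  set N := normalizerIn S P
  haveI := finite_of_le (normalizerIn_le (S := S) P)
  have hC : centralizerIn S P = P := le_antisymm (hP.1.2 P (isConj_refl hPS)) fun e he =>
    ⟨hPS he, fun y hy => hc y hy e he⟩
  have h1 := card_autInducedBy_mul S P
  rw [hC, card_eq_relIndex_mul (le_normalizerIn hPS)] at h1
  have hQ : P.relIndex N = Nat.card Q := (Nat.eq_of_mul_eq_mul_right Nat.card_pos h1).symm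
  have hle : Nat.card Q ≤ p := hsyl Q (autInducedBy_le_autGroup hPS) (isPGroup_autInducedBy h.pg)
  obtain ⟨s, hs, hsP, hsn⟩ := exists_normalizing_of_lt h.pg (essential_lt h.pg h.sat hP)
  obtain ⟨k, hk⟩ : ∃ k, P.relIndex N = p ^ k := (h.pg.to_le (normalizerIn_le P)).index _
  have hk0 : k ≠ 0 := fun h0 => hsP (Subgroup.relIndex_eq_one.1 (by rw [hk, h0, pow_zero]) (show s ∈ normalizerIn S P from ⟨hs, hsn⟩))
  rw [← hQ, hk] at hle
  have := (Nat.pow_le_pow_iff_right hp.out.one_lt).1 (hle.trans (pow_one p).ge)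
  rw [hk, show k = 1 by omega, pow_one]

theorem card_central_derived [Finite S] [Fact p.Prime] (h : AbBase p F A) {P : Subgroup Ω} (hP : F.IsEssential p P)
    (hPA : P ≠ A) : Nat.card ↥(Zc S ⊓ ⁅S, S⁆) = p ∧ P.relIndex (normalizerIn S P) = p := by
  by_cases hne : ∃ b ∈ P, b ∈ A ∧ b ∉ Zc S
  · exact ⟨(h.large_data hP hPA hne).1, (h.large_data hP hPA hne).2.2⟩
  · push Not at hne
    exact h.small_data hP hPA hne

/-- The second centre lies in `A`. -/
theorem second_le [Finite S] [hp : Fact p.Prime] (h : AbBase p F A) (hL : Nat.card ↥(Zc S ⊓ ⁅S, S⁆) = p) :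
    Zc2 S ≤ A := by
  intro s hs
  by_contra hsA
  have hsS := (mem_Zc2.1 hs).1
  have hA2 : A ⊓ Zc2 S = A := inf_eq_left.2 fun a ha =>
    (h.mem_second hsS hsA ha).1 ((mem_Zc2.1 hs).2 a (h.le ha))
  have hcA : Nat.card ↥A = p * Nat.card ↥(Zc S) := by
    have := h.card_second hsS hsA
    rwa [hA2, hL] at this
  set B := Zc S ⊔ Subgroup.zpowers s
  have hBS : B ≤ S := sup_le Zc_le (Subgroup.zpowers_le.2 hsS)
  have hBc : B ≤ Subgroup.centralizer (B : Set Ω) := sup_le (fun z hz y hy => Zc_comm hz (hBS hy))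
    (Subgroup.zpowers_le.2 fun y hy => Subgroup.mem_centralizer_singleton_iff.1 ((sup_le
      (fun z hz => Subgroup.mem_centralizer_singleton_iff.2 (Zc_comm hz hsS).symm)
      (Subgroup.zpowers_le.2 (Subgroup.mem_centralizer_singleton_iff.2 rfl)) :
        B ≤ Subgroup.centralizer ({s} : Set Ω)) hy))
  haveI := finite_of_le hBS
  haveI := finite_of_le h.le
  have hZB : Zc S < B := lt_of_le_not_ge le_sup_left fun hle =>
    hsA (h.Zc_le_base (hle (le_sup_right (a := Zc S) (Subgroup.mem_zpowers s))))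
  have hBne : B ≠ S := fun he => by
    obtain ⟨a, ha, b, hb, hne⟩ := h.nab
    exact hne (hBc (he.ge hb) a (he.ge ha))
  have hcS : Nat.card S = p * Nat.card ↥A := by rw [card_eq_relIndex_mul h.le, h.index]
  obtain ⟨i, hi⟩ := IsPGroup.iff_card.1 (h.pg.to_le hBS)
  obtain ⟨j, hj⟩ := IsPGroup.iff_card.1 (h.pg.to_le (Zc_le (S := S)))
  have h1 := card_lt_of_lt hBS hZB
  have h2 := card_lt_of_lt le_rfl (lt_of_le_of_ne hBS hBne)
  rw [hi, hj] at h1
  rw [hi, hcS, hcA, hj, ← pow_succ', ← pow_succ'] at h2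
  have h1' := (Nat.pow_lt_pow_iff_right hp.out.one_lt).1 h1
  have h2' := (Nat.pow_lt_pow_iff_right hp.out.one_lt).1 h2
  have hcB : Nat.card B = Nat.card A := by rw [hi, hcA, hj, ← pow_succ', show i = j + 1 by omega]
  have hBi : B.relIndex S = p := by
    have := card_eq_relIndex_mul hBS
    rw [hcS, hcB] at this
    exact (Nat.eq_of_mul_eq_mul_right Nat.card_pos this).symm
  exact hsA ((h.uniq B hBS (fun a ha b hb => hBc hb a ha) hBi).le (le_sup_right (a := Zc S) (Subgroup.mem_zpowers s)))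

theorem second_index [Finite S] [hp : Fact p.Prime] (h : AbBase p F A) (hL : Nat.card ↥(Zc S ⊓ ⁅S, S⁆) = p)
    {x : Ω} (hx : x ∈ S) (hxA : x ∉ A) : (Zc S).relIndex (Zc2 S) = p := by
  have h1 := h.card_second hx hxA
  rw [inf_eq_right.2 (h.second_le hL), hL, card_eq_relIndex_mul (Zc_le_Zc2 (S := S))] at h1
  exact Nat.eq_of_mul_eq_mul_right Nat.card_pos h1

theorem derived_sup_index [Finite S] [hp : Fact p.Prime] (h : AbBase p F A)
    (hL : Nat.card ↥(Zc S ⊓ ⁅S, S⁆) = p) {x : Ω} (hx : x ∈ S) (hxA : x ∉ A) :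
    (Zc S ⊔ ⁅S, S⁆).relIndex A = p := by
  have hDA : ⁅S, S⁆ ≤ A := fun d hd => by
    obtain ⟨a, ha, rfl⟩ := h.derived_eq hx hxA hd
    rw [commutatorElement_def]; exact A.mul_mem (h.normal hx ha) (A.inv_mem ha)
  haveI := finite_of_le h.le
  haveI := finite_of_le (hDA.trans h.le : ⁅S, S⁆ ≤ S)
  have hle : Zc S ⊔ ⁅S, S⁆ ≤ A := sup_le h.Zc_le_base hDA
  haveI : ((Zc S).subgroupOf A).Normal := ⟨fun z hz g => by
    show (g : Ω) * z * (g : Ω)⁻¹ ∈ Zc S
    exact conj_mem_Zc hz (h.le g.2)⟩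
  have h1 : (Zc S).relIndex (Zc S ⊔ ⁅S, S⁆) = (Zc S).relIndex ⁅S, S⁆ := by
    rw [← Subgroup.relIndex_subgroupOf (H := Zc S) hle, ← Subgroup.relIndex_subgroupOf (H := Zc S) hDA,
      Subgroup.subgroupOf_sup h.Zc_le_base hDA, Subgroup.relIndex_sup_left]
  have h2 := card_eq_relIndex_mul hle
  rw [card_eq_relIndex_mul (le_sup_left : Zc S ≤ Zc S ⊔ ⁅S, S⁆), h1] at h2
  have h3 := card_eq_relIndex_mul (inf_le_right : Zc S ⊓ ⁅S, S⁆ ≤ ⁅S, S⁆)
  rw [Subgroup.inf_relIndex_right, hL] at h3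
  rw [← h.card_derived hx hxA, h3] at h2
  have h4 : (Zc S).relIndex ⁅S, S⁆ * Nat.card ↥(Zc S) * p =
      (Zc S).relIndex ⁅S, S⁆ * Nat.card ↥(Zc S) * (Zc S ⊔ ⁅S, S⁆).relIndex A := by
    calc _ = (Zc S).relIndex ⁅S, S⁆ * p * Nat.card ↥(Zc S) := by ring
      _ = _ := by rw [h2]; ring
  haveI : Finite ↥((Zc S).subgroupOf ⁅S, S⁆) := inferInstance
  refine (Nat.eq_of_mul_eq_mul_left (Nat.mul_pos ?_ Nat.card_pos) h4).symm
  exact Nat.pos_of_ne_zero Subgroup.index_ne_zero_of_finite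

theorem not_lower_le [Finite S] [hp : Fact p.Prime] (h : AbBase p F A) (hL : Nat.card ↥(Zc S ⊓ ⁅S, S⁆) = p)
    {m : ℕ} (hm : (Zc S).relIndex S = p ^ m) (h3 : 3 ≤ m) : ¬ Subgroup.lowerCentralSeries S (m - 2) ≤ Zc S := by
  haveI := finite_of_le h.le
  obtain ⟨x, hx, hxA⟩ : ∃ x ∈ S, x ∉ A := by
    by_contra hall
    push Not at hall
    have h1 := h.index
    rw [Subgroup.relIndex_eq_one.2 hall] at h1
    exact hp.out.one_lt.ne h1
  let f : ↥A →* ↥A := (h.comHom hx).codRestrict A fun a => by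
    show ⁅x, (a : Ω)⁆ ∈ A
    rw [commutatorElement_def]; exact A.mul_mem (h.normal hx a.2) (A.inv_mem a.2)
  let g : ℕ → (↥A →* ↥A) := fun i => Nat.rec (MonoidHom.id _) (fun _ k => f.comp k) i
  have hlow : ∀ i a, ((g i a : ↥A) : Ω) ∈ Subgroup.lowerCentralSeries S i := by
    intro i
    induction i with
    | zero => exact fun a => h.le a.2
    | succ i ih =>
      intro a
      show ⁅x, ((g i a : ↥A) : Ω)⁆ ∈ _
      rw [Subgroup.lowerCentralSeries_succ, ← commutatorElement_inv]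
      exact inv_mem (Subgroup.commutator_mem_commutator (ih a) hx)
  have hfker : ∀ a : ↥A, f a = 1 → (a : Ω) ∈ Zc S := fun a ha =>
    h.cent hx hxA a.2 (commutatorElement_eq_one_iff_mul_comm.1 (congrArg Subtype.val ha))
  have hker : ∀ i, Nat.card (g (i + 1)).ker ≤ p ^ i * Nat.card ↥(Zc S) := by
    intro i
    induction i with
    | zero =>
      rw [pow_zero, one_mul]
      exact Nat.card_le_card_of_injective (fun a => (⟨((a : ↥A) : Ω), hfker a.1 a.2⟩ : ↥(Zc S)))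
        fun a b he => Subtype.ext (Subtype.ext (congrArg (fun t : ↥(Zc S) => (t : Ω)) he))
    | succ i ih =>
      obtain ⟨q, hq⟩ : ∃ q : ↥A →* ↥A, g (i + 1) = q := ⟨_, rfl⟩
      have hq2 : g (i + 1 + 1) = f.comp q := by rw [← hq]
      rw [hq2]
      rw [hq] at ih
      let k := q.comp (f.comp q).ker.subtype
      have h1 := k.ker.card_mul_index
      rw [Subgroup.index_ker] at h1
      have h2 : Nat.card k.ker ≤ Nat.card q.ker :=
        Nat.card_le_card_of_injective (fun a => (⟨(a.1 : ↥A), a.2⟩ : q.ker))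
          fun a b he => Subtype.ext (Subtype.ext (congrArg (fun t : ↥q.ker => (t : ↥A)) he))
      have h3' : Nat.card k.range ≤ p := by
        rw [← hL]
        haveI := finite_of_le (inf_le_left.trans Zc_le : Zc S ⊓ ⁅S, S⁆ ≤ S)
        refine Nat.card_le_card_of_injective (fun a => (⟨((a : ↥A) : Ω), ?_⟩ : ↥(Zc S ⊓ ⁅S, S⁆)))
          fun a b he => Subtype.ext (Subtype.ext (congrArg (fun t : ↥(Zc S ⊓ ⁅S, S⁆) => (t : Ω)) he))
        obtain ⟨v, hv⟩ := a.2
        refine ⟨hfker _ (by rw [← hv]; exact v.2), ?_⟩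
        rw [← hv]
        show ((q v : ↥A) : Ω) ∈ _
        rw [show q v = g (i + 1) (v : ↥A) by rw [hq]]
        show ⁅x, ((g i v : ↥A) : Ω)⁆ ∈ _
        exact Subgroup.commutator_mem_commutator hx (h.le (g i v).2)
      rw [← h1, pow_succ', mul_assoc, mul_comm p]
      exact Nat.mul_le_mul (h2.trans ih) h3'
  intro hle
  have hall : (g (m - 1)).ker = ⊤ := by
    rw [eq_top_iff]
    intro a _
    rw [show m - 1 = m - 2 + 1 by omega, MonoidHom.mem_ker]
    refine Subtype.ext (commutatorElement_eq_one_iff_mul_comm.2 ?_)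
    exact Zc_comm (hle (hlow (m - 2) a)) hx
  have h1 := hker (m - 2)
  rw [show m - 2 + 1 = m - 1 by omega, hall, Subgroup.card_top] at h1
  have h2 := card_eq_relIndex_mul (Zc_le (S := S))
  rw [hm, card_eq_relIndex_mul h.le, h.index] at h2
  have h4 := Nat.mul_le_mul_left p h1
  rw [h2, ← mul_assoc, ← pow_succ'] at h4
  have := (Nat.pow_le_pow_iff_right hp.out.one_lt).1 (Nat.le_of_mul_le_mul_right h4 Nat.card_pos)
  omega

end AbBase

end CfsgLib.Fus
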