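import Cfsg.Agent.Fus.AbelianIndexP
import Cfsg.Agent.Perm.MinClass

/-!
The centre and the class of the group in a system over a group with a unique abelian subgroup of index `p`
that is not essential.
-/

set_option autoImplicit false
set_option linter.style.haveILetI false

open Cfsg Cfsg.FusionSystem
open scoped commutatorElement

namespace CfsgLib.Fus.AbIdx

variable {Ω : Type*} [Group Ω] {S : Subgroup Ω} {F : FusionSystem S} {p : ℕ} {A : Subgroup Ω}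

/-- An automorphism of the centre inverting its part in the derived subgroup and trivial modulo it. -/
structure Neg (F : FusionSystem S) (β : MulAut ↥(Zc S)) : Prop where
  mem : β ∈ F.autGroup (Zc S)
  neg : ∀ l ∈ Zc S ⊓ ⁅S, S⁆, autFun β l = l⁻¹
  cen : ∀ z ∈ Zc S, z⁻¹ * autFun β z ∈ Zc S ⊓ ⁅S, S⁆

theorem autZ_trivial [Finite S] [hp : Fact p.Prime] (h : AbIdx p F A) {g : MulAut ↥(Zc S)}
    (hg : g ∈ F.autGroup (Zc S)) {k : ℕ} (hk : g ^ p ^ k = 1) : g = 1 := by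
  haveI := finite_mulAut (S := S) Zc_le
  have hn : normalizerIn S (Zc S) = S := le_antisymm (normalizerIn_le _) fun s hs =>
    ⟨hs, mem_normalizer_of_conj (fun z hz => by rwa [Zc_comm hz hs, mul_inv_cancel_right]) fun z hz => by
      rwa [mul_assoc, ← Zc_comm hz hs, inv_mul_cancel_left]⟩
  have hfn : F.IsFullyNormalized (Zc S) :=
    ⟨Zc_le, fun R _ => hn.symm ▸ Subgroup.card_le_of_le (normalizerIn_le R)⟩
  have hidx := ((fa_iff h.pg).1 (fullyNormalized_spec h.pg h.sat hfn).1).2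
  have hbot : (autInducedBy S (Zc S)).subgroupOf (F.autGroup (Zc S)) = ⊥ := (Subgroup.eq_bot_iff_forall _).2 fun β hβ => by
    obtain ⟨s, hs, hse⟩ := mem_autInducedBy.1 (Subgroup.mem_subgroupOf.1 hβ)
    exact Subtype.ext (aut_ext fun z hz => by
      rw [OneMemClass.coe_one, autFun_one hz, hse z hz, Zc_comm hz hs, mul_inv_cancel_right])
  rw [hbot, Subgroup.index_bot] at hidx
  have hdvd : orderOf g ∣ Nat.card ↥(F.autGroup (Zc S)) := Subgroup.orderOf_dvd_natCard _ hg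
  have hco : Nat.Coprime (p ^ k) (Nat.card ↥(F.autGroup (Zc S))) :=
    ((hp.out.coprime_iff_not_dvd).2 hidx).pow_left k
  exact orderOf_eq_one_iff.1 (Nat.eq_one_of_dvd_coprimes hco (orderOf_dvd_of_pow_eq_one hk) hdvd)

theorem Neg.agree [Finite S] [Fact p.Prime] (h : AbIdx p F A) {α β : MulAut ↥(Zc S)} (hα : Neg F α)
    (hβ : Neg F β) : α = β := by
  letI := commOf (A := Zc S) (fun a ha b hb => Zc_comm hb (Zc_le ha))
  haveI := finite_mulAut (S := S) Zc_le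
  set L := Zc S ⊓ ⁅S, S⁆
  let L' : Subgroup ↥(Zc S) := L.subgroupOf (Zc S)
  have hcoe : ∀ (γ : MulAut ↥(Zc S)) (z : ↥(Zc S)), ((γ z : ↥(Zc S)) : Ω) = autFun γ z := fun γ z =>
    (autFun_apply γ z).symm
  have hn : ∀ γ : MulAut ↥(Zc S), Neg F γ → ∀ l ∈ L', γ l = l⁻¹ := fun γ hγ l hl =>
    Subtype.ext (by rw [hcoe, Subgroup.coe_inv]; exact hγ.neg _ hl)
  have hc : ∀ γ : MulAut ↥(Zc S), Neg F γ → ∀ z, z⁻¹ * γ z ∈ L' := fun γ hγ z => by
    show ((z⁻¹ * γ z : ↥(Zc S)) : Ω) ∈ L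
    rw [Subgroup.coe_mul, Subgroup.coe_inv, hcoe]
    exact hγ.cen z z.2
  have hfix : ∀ l ∈ L', (β⁻¹ * α) l = l := fun l hl => by
    rw [MulAut.mul_apply, hn α hα l hl, ← hn β hβ l hl, MulAut.inv_apply_self]
  have hmov : ∀ z, (β⁻¹ * α) z / z ∈ L' := fun z => by
    have h1 : (β z)⁻¹ * α z ∈ L' := by
      have := L'.mul_mem (L'.inv_mem (hc β hβ z)) (hc α hα z)
      rwa [mul_inv_rev, inv_inv, mul_assoc, mul_inv_cancel_left] at this
    have h2 : α z = β (z * ((β z)⁻¹ * α z)⁻¹) := by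
      rw [map_mul, map_inv, hn β hβ _ h1, inv_inv, mul_inv_cancel_left]
    rw [MulAut.mul_apply, h2, MulAut.inv_apply_self, mul_div_cancel_left]
    exact L'.inv_mem h1
  have hmem : β⁻¹ * α ∈ Trans.stab L' L' := ⟨hfix, fun z _ => hmov z, hmov⟩
  obtain ⟨k, hk⟩ := Trans.isPGroup_stab (h.pg.to_le Zc_le) L' L' ⟨_, hmem⟩
  exact (inv_mul_eq_one.1 (autZ_trivial h ((F.autGroup _).mul_mem ((F.autGroup _).inv_mem hβ.mem) hα.mem)
    (congrArg Subtype.val hk))).symm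

/-- The fixed elements of the inverting automorphism are invariant under automorphisms of the centre preserving
its part in the derived subgroup. -/
theorem Neg.commute [Finite S] [Fact p.Prime] (h : AbIdx p F A) {β δ : MulAut ↥(Zc S)} (hβ : Neg F β)
    (hδ : δ ∈ F.autGroup (Zc S)) (hL : ∀ l ∈ Zc S ⊓ ⁅S, S⁆, autFun δ l ∈ Zc S ⊓ ⁅S, S⁆) {z : Ω}
    (hz : z ∈ Zc S) (hfix : autFun β z = z) : autFun δ z ∈ Zc S ∧ autFun β (autFun δ z) = autFun δ z := by
  set L := Zc S ⊓ ⁅S, S⁆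
  haveI := finite_of_le (inf_le_left.trans Zc_le : L ≤ S)
  have hδm := (mem_autGroup Zc_le).1 hδ
  have himg : img (autFun δ) L = L := Subgroup.eq_of_le_of_card_ge (img_le_iff.2 hL)
    (hδm.mono inf_le_left).card_img.ge
  have hneg : Neg F (δ * β * δ⁻¹) := by
    refine ⟨(F.autGroup _).mul_mem ((F.autGroup _).mul_mem hδ hβ.mem) ((F.autGroup _).inv_mem hδ),
      fun l hl => ?_, fun w hw => ?_⟩
    · obtain ⟨l', hl', rfl⟩ := (hδm.mono inf_le_left).mem_img.1 (himg.ge hl)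
      rw [autFun_conj _ _ (autFun_mem δ hl'.1), autFun_inv_apply' δ hl'.1, hβ.neg _ hl', autFun_map_inv δ hl'.1]
    · have hw' := autFun_mem δ⁻¹ hw
      have h1 := hL _ (hβ.cen _ hw')
      rw [autFun_map_mul δ (Subgroup.inv_mem _ hw') (autFun_mem β hw'), autFun_map_inv δ hw',
        autFun_inv_apply δ hw] at h1
      rw [autFun_conj _ _ hw]
      exact h1
  refine ⟨autFun_mem δ hz, ?_⟩
  rw [← hneg.agree h hβ, autFun_conj _ _ (autFun_mem δ hz), autFun_inv_apply' δ hz, hfix]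

theorem exists_restrict [Finite S] {P : Subgroup Ω} (hPS : P ≤ S) (hZP : Zc S ≤ P) {α : MulAut ↥P}
    (hα : α ∈ F.autGroup P) (hZ : ∀ z ∈ Zc S, autFun α z ∈ Zc S) :
    ∃ δ ∈ F.autGroup (Zc S), ∀ z ∈ Zc S, autFun δ z = autFun α z := by
  have hm := ((mem_autGroup hPS).1 hα).mono hZP
  exact exists_aut hm (Subgroup.eq_of_le_of_card_ge (img_le_iff.2 hZ) hm.card_img.ge)

theorem small_neg [Finite S] [hp : Fact p.Prime] (h : AbIdx p F A) {E : Subgroup Ω} (hE : F.IsEssential p E)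
    (hsm : ∀ b ∈ E, b ∈ A → b ∈ Zc S) :
    Nat.card ↥(Zc S ⊓ ⁅S, S⁆) = p ∧ (∃ β, Neg F β) ∧ ∀ β, Neg F β →
      (∀ z ∈ Zc S, ∃ s ∈ Zc S ⊓ ⁅S, S⁆, ∃ c ∈ Zc S, autFun β c = c ∧ z = s * c) ∧
      ∀ γ ∈ F.autGroup E, ∀ c ∈ Zc S, autFun β c = c →
        autFun γ c ∈ Zc S ∧ autFun β (autFun γ c) = autFun γ c := by
  obtain ⟨hc, hL, u, hu, hsyl, hker, hrange, γ₀, hγ₀, hne₀⟩ := h.small_aut hE (h.ne_of_ess hE) hsm
  letI := commOf hc
  have hES := hE.1.1
  have hZE : Zc S ≤ E := Zc_le_centric hE.1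
  haveI := finite_of_le hES
  haveI := finite_mulAut hES
  have hEp : IsPGroup p ↥E := h.pg.to_le hES
  have hv₀ := hu.conj hγ₀
  have hmk : ∀ v, Trans.Tv p (F.autGroup E) v → Subgroup.zpowers u ≠ Subgroup.zpowers v →
      ∃ β, Neg F β ∧ ∀ c : E, u c = c → v c = c → autFun β c = c := by
    intro v hv hne
    obtain ⟨ι, hι, hιu, hιs, hιc⟩ := Trans.exists_neg hEp hsyl hu hv hne
    have hιZ : ∀ z ∈ Zc S, autFun ι z ∈ Zc S := fun z hz => by
      rw [autFun_of_mem ι (hZE hz), ← hker, ← MulAut.mul_apply, ← hιu, MulAut.mul_apply,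
        (hker ⟨z, hZE hz⟩).2 hz]
    obtain ⟨β, hβ, hβe⟩ := exists_restrict hES hZE hι hιZ
    refine ⟨β, ⟨hβ, fun l hl => ?_, fun z hz => ?_⟩, fun c h1 h2 => ?_⟩
    · rw [hβe l hl.1, autFun_of_mem ι (hZE hl.1), hιs _ ((hrange ⟨l, hZE hl.1⟩).2 hl)]
      rfl
    · obtain ⟨c, s, hc1, hc2, hsr, he⟩ :=
        Trans.decomp_ker hEp hsyl hu hv hne (x := ⟨z, hZE hz⟩) ((hker _).2 hz)
      rw [hβe z hz, autFun_of_mem ι (hZE hz), he, map_mul, hιs s hsr, hιc c hc1 hc2]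
      have h2 : z = (s : Ω) * c := congrArg Subtype.val he
      rw [h2, ← Subgroup.coe_mul, ← Subgroup.coe_inv, ← Subgroup.coe_mul,
        show ((s * c)⁻¹ * (s⁻¹ * c) : E) = s⁻¹ * s⁻¹ by
          rw [mul_inv_rev, mul_comm s⁻¹ c, mul_assoc, mul_comm c⁻¹, mul_assoc, mul_assoc, mul_comm c]
          simp, Subgroup.coe_mul, Subgroup.coe_inv]
      exact mul_mem (inv_mem ((hrange s).1 hsr)) (inv_mem ((hrange s).1 hsr))
    · rw [hβe _ ((hker c).1 h1), autFun_apply, hιc c h1 h2]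
  refine ⟨hL, ?_, fun β hβ => ?_⟩
  · obtain ⟨β, hβ, -⟩ := hmk _ hv₀ hne₀.symm
    exact ⟨β, hβ⟩
  have hfix : ∀ v, Trans.Tv p (F.autGroup E) v → Subgroup.zpowers u ≠ Subgroup.zpowers v →
      ∀ c : E, u c = c → (v c = c ↔ autFun β c = c) := by
    intro v hv hne c hc
    obtain ⟨g, hg, hgc⟩ := hmk v hv hne
    obtain rfl := hβ.agree h hg
    refine ⟨fun h1 => hgc c hc h1, fun h1 => ?_⟩
    obtain ⟨d, s, hd1, hd2, hsr, rfl⟩ := Trans.decomp_ker hEp hsyl hu hv hne hc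
    have hsd := (hrange s).1 hsr
    have hdZ := (hker d).1 hd1
    rw [Subgroup.coe_mul, autFun_map_mul β hsd.1 hdZ, hβ.neg _ hsd, hgc d hd1 hd2] at h1
    have h2 : s * s = 1 := by
      apply Subtype.ext
      rw [Subgroup.coe_mul, Subgroup.coe_one]
      exact inv_eq_iff_mul_eq_one.1 (mul_right_cancel h1)
    have h3 : s ^ p = 1 := by
      have := congrArg Subtype.val (pow_card_eq_one' (x := (⟨s, hsr⟩ : (Trans.dlt u).range)))
      rwa [hu.card] at this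
    obtain ⟨q, hq⟩ := hp.out.odd_of_ne_two h.odd
    rw [hq, pow_succ, pow_mul, pow_two, h2, one_pow, one_mul] at h3
    rw [h3, one_mul, hd2]
  have hallfix : ∀ γ ∈ F.autGroup E, ∀ c : E, (c : Ω) ∈ Zc S → autFun β c = c → (γ * u * γ⁻¹) c = c := by
    intro γ hγ c hc hfc
    by_cases hz : Subgroup.zpowers u = Subgroup.zpowers (γ * u * γ⁻¹)
    · obtain ⟨k, hk⟩ := Subgroup.mem_zpowers_iff.1 (hz.ge (Subgroup.mem_zpowers _))
      rw [← hk]
      let Fx : Subgroup (MulAut ↥E) :=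
        { carrier := {x | x c = c}
          one_mem' := rfl
          mul_mem' := fun {a b} ha hb => show a (b c) = c by rw [show b c = c from hb]; exact ha
          inv_mem' := fun {a} ha => show a⁻¹ c = c by
            conv_lhs => rw [← show a c = c from ha]
            exact MulAut.inv_apply_self _ _ _ }
      exact Fx.zpow_mem (show u ∈ Fx from (hker c).2 hc) k
    · exact (hfix _ (hu.conj hγ) hz c ((hker c).2 hc)).2 hfc
  refine ⟨fun z hz => ?_, fun γ hγ c hc hfc => ?_⟩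
  · obtain ⟨c, s, hc1, hc2, hsr, he⟩ :=
      Trans.decomp_ker hEp hsyl hu hv₀ hne₀.symm (x := ⟨z, hZE hz⟩) ((hker _).2 hz)
    exact ⟨s, (hrange s).1 hsr, c, (hker c).1 hc1, (hfix _ hv₀ hne₀.symm c hc1).1 hc2,
      congrArg Subtype.val he⟩
  · have hcE : c ∈ E := hZE hc
    have hkey : ∀ δ ∈ F.autGroup E, (δ * u * δ⁻¹) (γ ⟨c, hcE⟩) = γ ⟨c, hcE⟩ := fun δ hδ => by
      have h1 := hallfix (γ⁻¹ * δ) ((F.autGroup E).mul_mem ((F.autGroup E).inv_mem hγ) hδ) ⟨c, hcE⟩ hc hfc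
      have h2 : δ * u * δ⁻¹ * γ = γ * (γ⁻¹ * δ * u * (γ⁻¹ * δ)⁻¹) := by group
      rw [← MulAut.mul_apply, h2, MulAut.mul_apply, h1]
    have h1 := hkey 1 (one_mem _)
    rw [one_mul, inv_one, mul_one] at h1
    rw [autFun_of_mem γ hcE]
    exact ⟨(hker _).1 h1, (hfix _ hv₀ hne₀.symm _ h1).1 (hkey γ₀ hγ₀)⟩

/-- An automorphism of a large essential subgroup preserves the central part of the derived subgroup. -/
theorem large_derived [Finite S] [hp : Fact p.Prime] (h : AbIdx p F A) {E : Subgroup Ω} (hE : F.IsEssential p E)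
    (hne : ∃ b ∈ E, b ∈ A ∧ b ∉ Zc S) (hL : Nat.card ↥(Zc S ⊓ ⁅S, S⁆) = p) {α : MulAut ↥E} {l : Ω}
    (hl : l ∈ Zc S ⊓ ⁅S, S⁆) : autFun α l ∈ Zc S ⊓ ⁅S, S⁆ := by
  have hES := hE.1.1
  haveI := finite_of_le hES
  have hEp : IsPGroup p ↥E := h.pg.to_le hES
  set M := commutator ↥E ⊓ Subgroup.center ↥E
  have hML : ∀ m ∈ M, ((m : ↥E) : Ω) ∈ Zc S ⊓ ⁅S, S⁆ := fun m hm => by
    refine ⟨h.center_ess hE (h.ne_of_ess hE) hne m.2 fun y hy => congrArg Subtype.val (Subgroup.mem_center_iff.1 hm.2 ⟨y, hy⟩), ?_⟩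
    have h1 : (m : Ω) ∈ (commutator ↥E).map E.subtype := ⟨m, hm.1, rfl⟩
    rw [map_commutator_subtype] at h1
    exact Subgroup.commutator_mono hES hES h1
  have hM : M ≠ ⊥ := by
    refine CfsgLib.Perm.inf_center_ne_bot hEp _ fun hb => ?_
    obtain ⟨b, hb', hbA, hbZ⟩ := hne
    obtain ⟨x, hxE, hxA⟩ := h.ess_out hE (h.ne_of_ess hE)
    refine hbZ (h.cent (hES hxE) hxA hbA ?_)
    have h1 : ⁅(⟨x, hxE⟩ : ↥E), ⟨b, hb'⟩⁆ ∈ commutator ↥E :=
      Subgroup.commutator_mem_commutator (Subgroup.mem_top _) (Subgroup.mem_top _)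
    rw [hb, Subgroup.mem_bot, commutatorElement_eq_one_iff_mul_comm] at h1
    exact congrArg Subtype.val h1
  obtain ⟨⟨c, hcM⟩, hc1⟩ := Subgroup.ne_bot_iff_exists_ne_one.1 hM
  haveI := finite_of_le (inf_le_left.trans Zc_le : Zc S ⊓ ⁅S, S⁆ ≤ S)
  obtain ⟨k, hk⟩ := mem_powers_of_prime_card (g := (⟨(c : Ω), hML c hcM⟩ : ↥(Zc S ⊓ ⁅S, S⁆))) (g' := ⟨l, hl⟩) hL
    fun he => hc1 (Subtype.ext (Subtype.ext (congrArg (fun t : ↥(Zc S ⊓ ⁅S, S⁆) => (t : Ω)) he)))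
  have hlc : ((c ^ k : ↥E) : Ω) = l := by
    have := congrArg (fun t : ↥(Zc S ⊓ ⁅S, S⁆) => (t : Ω)) hk
    simpa using this
  have hαM : α (c ^ k) ∈ M := by
    have h1 : α c ∈ commutator ↥E :=
      Subgroup.characteristic_iff_map_le.1 inferInstance α ⟨c, hcM.1, rfl⟩
    have h2 : α c ∈ Subgroup.center ↥E :=
      Subgroup.characteristic_iff_map_le.1 inferInstance α ⟨c, hcM.2, rfl⟩
    rw [map_pow]
    exact M.pow_mem ⟨h1, h2⟩ k
  rw [← hlc, autFun_apply]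
  exact hML _ hαM

theorem center_derived [Finite S] [hp : Fact p.Prime] (h : AbIdx p F A) :
    Zc S ≤ ⁅S, S⁆ ∧ Nat.card ↥(Zc S) = p := by
  obtain ⟨E₀, hE₀, hsm₀⟩ := h.exists_small
  obtain ⟨hL, ⟨β, hβ⟩, hspec⟩ := h.small_neg hE₀ hsm₀
  let C : Subgroup Ω :=
    { carrier := {z | z ∈ Zc S ∧ autFun β z = z}
      one_mem' := ⟨one_mem _, by rw [autFun_of_mem β (one_mem _)]; exact congrArg Subtype.val (map_one β)⟩
      mul_mem' := fun {a b} ha hb => ⟨mul_mem ha.1 hb.1, by rw [autFun_map_mul β ha.1 hb.1, ha.2, hb.2]⟩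
      inv_mem' := fun {a} ha => ⟨inv_mem ha.1, by rw [autFun_map_inv β ha.1, ha.2]⟩ }
  have hn : F.IsNormal C := normal_criterion h.pg h.sat fun P hP => by
    have hPc := (crit_cases h.pg h.sat hP).1
    have hZP : Zc S ≤ P := Zc_le_centric hPc
    refine ⟨fun x hx => hZP hx.1, fun α hα x hx => ?_⟩
    -- the automorphisms preserving the centre and its derived part
    have hrest : (∀ z ∈ Zc S, autFun α z ∈ Zc S) →
        (∀ l ∈ Zc S ⊓ ⁅S, S⁆, autFun α l ∈ Zc S ⊓ ⁅S, S⁆) → autFun α x ∈ C := fun h1 h2 => by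
      obtain ⟨δ, hδ, hδe⟩ := exists_restrict hPc.1 hZP hα h1
      have := hβ.commute h hδ (fun l hl => by rw [hδe l hl.1]; exact h2 l hl) hx.1 hx.2
      rwa [hδe x hx.1] at this
    have hcm : ∀ z ∈ Zc S, ∀ y ∈ P, y * autFun α z = autFun α z * y := fun z hz y hy => by
      have h1 := congrArg (autFun α) (Zc_comm hz (hPc.1 (autFun_mem α⁻¹ hy)))
      rwa [autFun_map_mul α (autFun_mem α⁻¹ hy) (hZP hz), autFun_map_mul α (hZP hz) (autFun_mem α⁻¹ hy),
        autFun_inv_apply α hy] at h1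
    rcases hP with rfl | hP
    · have hZ : ∀ z ∈ Zc P, autFun α z ∈ Zc P := fun z hz => mem_Zc (autFun_mem α hz.1) (hcm z hz)
      exact hrest hZ fun l hl => ⟨hZ l hl.1, derived_map _ ((mem_autGroup le_rfl).1 hα) hl.2⟩
    · by_cases hne : ∃ b ∈ P, b ∈ A ∧ b ∉ Zc S
      · exact hrest (fun z hz => h.center_ess hP (h.ne_of_ess hP) hne (autFun_mem α (hZP hz)) (hcm z hz))
          fun l hl => h.large_derived hP hne hL hl
      · push Not at hne
        exact ((h.small_neg hP hne).2.2 β hβ).2 α hα x hx.1 hx.2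
  have hC : C ≤ ⊥ := h.core ▸ le_sSup hn
  have hle : Zc S ≤ Zc S ⊓ ⁅S, S⁆ := fun z hz => by
    obtain ⟨s, hs, c, hc, hfc, rfl⟩ := (hspec β hβ).1 z hz
    rwa [Subgroup.mem_bot.1 (hC ⟨hc, hfc⟩), mul_one]
  exact ⟨hle.trans inf_le_right, by rw [← le_antisymm inf_le_left hle, hL]⟩

theorem maximal_class [Finite S] [hp : Fact p.Prime] (h : AbIdx p F A) (hZ : Nat.card ↥(Zc S) = p) {n : ℕ}
    (hn : Nat.card S = p ^ n) (h3 : 3 ≤ n) : Subgroup.lowerCentralSeries S (n - 2) ≠ ⊥ := by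
  haveI := finite_of_le h.le
  obtain ⟨x, hx, hxA⟩ : ∃ x ∈ S, x ∉ A := by
    by_contra hall
    push Not at hall
    have h1 := h.index
    rw [Subgroup.relIndex_eq_one.2 hall] at h1
    exact hp.out.one_lt.ne h1
  have hmem : ∀ a ∈ A, ⁅x, a⁆ ∈ A := fun a ha => by
    rw [commutatorElement_def]; exact A.mul_mem (h.normal hx ha) (A.inv_mem ha)
  let f : ↥A →* ↥A := MonoidHom.mk' (fun a => ⟨⁅x, (a : Ω)⁆, hmem a a.2⟩) fun a b => Subtype.ext (by
    show ⁅x, (a : Ω) * b⁆ = ⁅x, (a : Ω)⁆ * ⁅x, (b : Ω)⁆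
    have e1 : ⁅x, (a : Ω) * b⁆ = ⁅x, (a : Ω)⁆ * ((a : Ω) * ⁅x, (b : Ω)⁆ * (a : Ω)⁻¹) := by
      simp [commutatorElement_def, mul_assoc]
    rw [e1, h.comm a a.2 _ (hmem b b.2), mul_inv_cancel_right])
  have hkerle : Nat.card f.ker ≤ p := by
    rw [← hZ]
    refine Nat.card_le_card_of_injective (fun a => (⟨((a : ↥A) : Ω), h.cent hx hxA a.1.2
      (commutatorElement_eq_one_iff_mul_comm.1 (congrArg Subtype.val (MonoidHom.mem_ker.1 a.2)))⟩ : ↥(Zc S)))
      fun a b he => Subtype.ext (Subtype.ext (congrArg (fun t : ↥(Zc S) => (t : Ω)) he))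
  let B : ℕ → Subgroup ↥A := fun i => Nat.rec ⊤ (fun _ K => K.map f) i
  have hB : ∀ i, (B i).map A.subtype ≤ Subgroup.lowerCentralSeries S i ∧
      Nat.card ↥A ≤ Nat.card ↥(B i) * p ^ i := by
    intro i
    induction i with
    | zero =>
      refine ⟨fun a ha => h.le (Subgroup.map_subtype_le _ ha), ?_⟩
      show Nat.card ↥A ≤ Nat.card ↥(⊤ : Subgroup ↥A) * p ^ 0
      rw [pow_zero, mul_one, Subgroup.card_top]
    | succ i ih =>
      refine ⟨?_, ?_⟩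
      · rintro _ ⟨_, ⟨a, ha, rfl⟩, rfl⟩
        show ⁅x, (a : Ω)⁆ ∈ _
        rw [Subgroup.lowerCentralSeries_succ, ← commutatorElement_inv]
        exact inv_mem (Subgroup.commutator_mem_commutator (ih.1 ⟨a, ha, rfl⟩) hx)
      · refine ih.2.trans ?_
        show Nat.card ↥(B i) * p ^ i ≤ Nat.card ↥((B i).map f) * p ^ (i + 1)
        obtain ⟨K, hK⟩ : ∃ K : Subgroup ↥A, B i = K := ⟨_, rfl⟩
        rw [hK]
        have h1 := (f.comp K.subtype).ker.card_mul_index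
        rw [Subgroup.index_ker, MonoidHom.range_eq_map, ← Subgroup.map_map, ← MonoidHom.range_eq_map,
          Subgroup.range_subtype] at h1
        have h2 : Nat.card (f.comp K.subtype).ker ≤ p := by
          refine le_trans ?_ hkerle
          exact Nat.card_le_card_of_injective (fun a => (⟨(a.1 : ↥A), a.2⟩ : f.ker))
            fun a b he => Subtype.ext (Subtype.ext (congrArg (fun t : ↥f.ker => (t : ↥A)) he))
        rw [← h1, pow_succ]
        calc Nat.card (f.comp K.subtype).ker * Nat.card ↥(K.map f) * p ^ i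
            ≤ p * Nat.card ↥(K.map f) * p ^ i := by gcongr
          _ = _ := by ring
  intro hbot
  have hcA : Nat.card ↥A * p = p ^ n := by
    rw [← hn, ← h.index, ← Nat.card_congr (Subgroup.subgroupOfEquivOfLe h.le).toEquiv]
    exact Subgroup.card_mul_index _
  have h1 : Nat.card ↥(B (n - 2)) = 1 := by
    rw [Subgroup.card_eq_one, Subgroup.eq_bot_iff_forall]
    intro a ha
    exact Subtype.ext (Subgroup.mem_bot.1 (hbot.le ((hB (n - 2)).1 ⟨a, ha, rfl⟩)))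
  have h2 := (hB (n - 2)).2
  rw [h1, one_mul] at h2
  have h4 := Nat.mul_le_mul_right p h2
  rw [hcA, ← pow_succ] at h4
  have := (Nat.pow_le_pow_iff_right hp.out.one_lt).1 h4
  omega

end CfsgLib.Fus.AbIdx
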