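import Cfsg.Prelude.Def_ConjugacyFunctors
import Mathlib.GroupTheory.Nilpotent
import Mathlib.GroupTheory.PGroup
import Mathlib.Algebra.Group.Pointwise.Set.Basic

/-!
The K-infinity subgroups: monotonicity, transport along injective maps, characteristic subgroups, and the cubic element outside a
normal subgroup when the K-sequence leaves it.
-/

set_option autoImplicit false
set_option linter.style.haveILetI false

open Cfsg
open scoped commutatorElement Pointwise

namespace CfsgLib.KInf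

variable {P : Type*} [Group P]

/-- The centre of a subgroup, inside the ambient group. -/
abbrev zc (B : Subgroup P) : Subgroup P := B ⊓ Subgroup.centralizer (B : Set P)

theorem classTwo_iff {B : Subgroup P} : B ∈ classTwoSubgroups P ↔ ⁅⁅B, B⁆, B⁆ = ⊥ :=
  Subgroup.commutator_eq_bot_iff_le_centralizer.symm

theorem classTwo_bot : (⊥ : Subgroup P) ∈ classTwoSubgroups P := by
  simp [classTwo_iff]

theorem lower_bot (Q : Subgroup P) : (⊥ : Subgroup P) ∈ kLowerStarFamily Q := by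
  refine ⟨classTwo_bot, ?_, fun A _ _ _ _ _ => by simp⟩
  rw [Subgroup.normalizer_eq_top_iff.2 (inferInstance : (⊥ : Subgroup P).Normal)]; exact le_top

theorem upper_bot (Q : Subgroup P) : (⊥ : Subgroup P) ∈ kUpperStarFamily Q :=
  ⟨classTwo_bot, by simp⟩

theorem lower_anti {Q Q' : Subgroup P} (h : Q ≤ Q') : kLowerStarFamily Q' ⊆ kLowerStarFamily Q :=
  fun _ hB => ⟨hB.1, h.trans hB.2.1, fun A hA hAQ => hB.2.2 A hA (hAQ.trans h)⟩

theorem upper_anti {Q Q' : Subgroup P} (h : Q ≤ Q') : kUpperStarFamily Q' ⊆ kUpperStarFamily Q :=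
  fun _ hB => ⟨hB.1, (Subgroup.commutator_mono le_rfl h).trans hB.2⟩

theorem odd_succ (n : ℕ) : kSeqOdd P (n + 1) = sSup (kUpperStarFamily (kSeqEven P n)) := rfl

theorem odd_succ_le : ∀ n, kSeqOdd P (n + 1) ≤ kSeqOdd P n
  | 0 => le_top
  | n + 1 => sSup_le_sSup (upper_anti (sSup_le_sSup (lower_anti (odd_succ_le n))))

theorem even_le_succ (n : ℕ) : kSeqEven P n ≤ kSeqEven P (n + 1) :=
  sSup_le_sSup (lower_anti (odd_succ_le n))

theorem even_mono : Monotone (kSeqEven P) := monotone_nat_of_le_succ even_le_succ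

theorem odd_anti : Antitone (kSeqOdd P) := antitone_nat_of_succ_le odd_succ_le

theorem exists_stable [Finite P] : ∃ n, ∀ m, n ≤ m → kSeqEven P m = kInfLower P ∧ kSeqOdd P m = kInfUpper P := by
  obtain ⟨a, ha⟩ := WellFoundedGT.monotone_chain_condition (⟨kSeqEven P, even_mono⟩ : ℕ →o Subgroup P)
  obtain ⟨b, hb⟩ := WellFoundedGT.monotone_chain_condition
    (⟨fun n => OrderDual.toDual (kSeqOdd P n), fun _ _ h => odd_anti h⟩ : ℕ →o (Subgroup P)ᵒᵈ)
  refine ⟨max a b, fun m hm => ⟨le_antisymm (le_iSup (kSeqEven P) m) (iSup_le fun k => ?_),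
    le_antisymm (le_iInf fun k => ?_) (iInf_le (kSeqOdd P) m)⟩⟩
  · refine (even_mono (le_max_right a k)).trans ?_
    have h1 := ha (max a k) (le_max_left a k)
    have h2 := ha m (le_of_max_le_left hm)
    exact le_of_eq (h1.symm.trans h2)
  · refine le_trans ?_ (odd_anti (le_max_right b k))
    have h1 := hb (max b k) (le_max_left b k)
    have h2 := hb m (le_of_max_le_right hm)
    exact le_of_eq (OrderDual.toDual_inj.1 (h2.symm.trans h1))

/-! ### Normal abelian subgroups and maximal members -/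

theorem abelian_mem {A : Subgroup P} [A.Normal] (hA : IsMulCommutative ↥A) (Q : Subgroup P) :
    A ∈ kLowerStarFamily Q ∧ A ∈ kUpperStarFamily Q := by
  have hc : A ≤ Subgroup.centralizer (A : Set P) := by
    intro a ha b hb
    exact congrArg Subtype.val (hA.is_comm.comm (⟨b, hb⟩ : ↥A) ⟨a, ha⟩)
  have h2 : A ∈ classTwoSubgroups P := (Subgroup.commutator_le_left A A).trans hc
  refine ⟨⟨h2, ?_, fun B _ _ _ _ _ => ?_⟩, h2, ?_⟩
  · rw [Subgroup.normalizer_eq_top_iff.2 ‹A.Normal›]; exact le_top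
  · exact (Subgroup.commutator_le_left A B).trans (le_inf le_rfl hc)
  · exact (Subgroup.commutator_le_left A Q).trans (le_inf le_rfl hc)

theorem exists_extension [Group.IsNilpotent P] {B Q : Subgroup P} (hQ : Q ≤ Subgroup.normalizer (B : Set P))
    (hC : ¬ Subgroup.centralizer (B : Set P) ≤ B) :
    ∃ c, c ∉ B ∧ c ∈ Subgroup.centralizer (B : Set P) ∧ ∀ q ∈ Q, ⁅c, q⁆ ∈ zc B := by
  set K := Subgroup.centralizer (B : Set P) with hK
  have hNC : ∀ q ∈ Subgroup.normalizer (B : Set P), ∀ c ∈ K, ⁅c, q⁆ ∈ K := by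
    intro q hq c hc
    rw [commutatorElement_def, mul_assoc, mul_assoc]
    refine K.mul_mem hc ?_
    rw [← mul_assoc]
    intro b hb
    have h1 := K.inv_mem hc _ ((Subgroup.mem_normalizer_iff''.1 hq b).1 hb)
    calc b * (q * c⁻¹ * q⁻¹) = q * (q⁻¹ * b * q * c⁻¹) * q⁻¹ := by group
      _ = q * (c⁻¹ * (q⁻¹ * b * q)) * q⁻¹ := by rw [h1]
      _ = q * c⁻¹ * q⁻¹ * b := by group
  obtain ⟨m, hm⟩ := Group.IsNilpotent.nilpotent' (G := P)
  suffices key : ∀ k, (∃ c, c ∈ K ∧ c ∉ B ∧ c ∈ Subgroup.upperCentralSeries P k) →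
      ∃ c, c ∉ B ∧ c ∈ K ∧ ∀ q ∈ Q, ⁅c, q⁆ ∈ zc B by
    obtain ⟨c, hc, hcB⟩ := Set.not_subset.1 hC
    exact key m ⟨c, hc, hcB, hm ▸ Subgroup.mem_top c⟩
  intro k
  induction k with
  | zero =>
    rintro ⟨c, -, hcB, hc⟩
    rw [Subgroup.upperCentralSeries_zero, Subgroup.mem_bot] at hc
    exact absurd (hc ▸ B.one_mem) hcB
  | succ k ih =>
    rintro ⟨c, hcK, hcB, hc⟩
    by_cases h : ∀ q ∈ Q, ⁅c, q⁆ ∈ B
    · exact ⟨c, hcB, hcK, fun q hq => ⟨h q hq, hNC q (hQ hq) c hcK⟩⟩
    · push_neg at h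
      obtain ⟨q, hq, hqB⟩ := h
      exact ih ⟨_, hNC q (hQ hq) c hcK, hqB, (Subgroup.mem_upperCentralSeries_succ_iff).1 hc q⟩

theorem sup_zpowers_facts {B : Subgroup P} {c : P} (hc : c ∈ Subgroup.centralizer (B : Set P)) :
    zc B ≤ zc (B ⊔ Subgroup.zpowers c) ∧
      (B ∈ classTwoSubgroups P → B ⊔ Subgroup.zpowers c ∈ classTwoSubgroups P) := by
  set C := B ⊔ Subgroup.zpowers c
  have hzC : ∀ z, z ∈ Subgroup.centralizer (B : Set P) → z * c = c * z →
      z ∈ Subgroup.centralizer (C : Set P) := by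
    intro z hz hzc x hx
    have : C ≤ Subgroup.centralizer ({z} : Set P) := sup_le
      (fun b hb w hw => by rw [Set.mem_singleton_iff.1 hw]; exact (hz b hb).symm)
      (Subgroup.zpowers_le.2 fun w hw => by rw [Set.mem_singleton_iff.1 hw]; exact hzc)
    exact (this hx z rfl).symm
  have hcC : c ∈ Subgroup.centralizer (C : Set P) := hzC c hc rfl
  refine ⟨fun z hz => ⟨Subgroup.mem_sup_left hz.1, hzC z hz.2 (hc z hz.1)⟩, fun hB => ?_⟩
  have hBB : ⁅B, B⁆ ≤ Subgroup.centralizer (C : Set P) := fun z hz =>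
    hzC z (hB hz) (hc z (Subgroup.commutator_le.2 (fun a ha b hb =>
      B.mul_mem (B.mul_mem (B.mul_mem ha hb) (B.inv_mem ha)) (B.inv_mem hb)) hz))
  refine Subgroup.commutator_le.2 fun x hx y hy => hBB ?_
  obtain ⟨b, hb, i, hi, rfl⟩ : ∃ b ∈ B, ∃ i ∈ Subgroup.zpowers c, b * i = x :=
    Set.mem_mul.1 ((Subgroup.coe_mul_of_right_le_normalizer_left B (Subgroup.zpowers c)
      ((Subgroup.zpowers_le.2 hc).trans (Subgroup.centralizer_le_normalizer (B : Set P)))).symm ▸ hx :
        x ∈ ((B : Set P) * (Subgroup.zpowers c : Set P)))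
  obtain ⟨b', hb', i', hi', rfl⟩ : ∃ b ∈ B, ∃ i ∈ Subgroup.zpowers c, b * i = y :=
    Set.mem_mul.1 ((Subgroup.coe_mul_of_right_le_normalizer_left B (Subgroup.zpowers c)
      ((Subgroup.zpowers_le.2 hc).trans (Subgroup.centralizer_le_normalizer (B : Set P)))).symm ▸ hy :
        y ∈ ((B : Set P) * (Subgroup.zpowers c : Set P)))
  have hcen : ∀ j ∈ Subgroup.zpowers c, ∀ z ∈ C, z * j = j * z := fun j hj z hz =>
    Subgroup.zpowers_le.2 hcC hj z hz
  have hiC : i ∈ C := Subgroup.mem_sup_right hi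
  have hi'C : i' ∈ C := Subgroup.mem_sup_right hi'
  have e1 : Commute i (b' * i') := (hcen i hi _ hy).symm
  have e2 : Commute b i' := hcen i' hi' b (Subgroup.mem_sup_left hb)
  have : ⁅b * i, b' * i'⁆ = ⁅b, b'⁆ := by
    rw [commutatorElement_mul_left_eq_conj_mul, commutatorElement_eq_one_iff_commute.2 e1, mul_one, mul_inv_cancel, one_mul,
      commutatorElement_mul_right_eq_mul_conj, commutatorElement_eq_one_iff_commute.2 e2, mul_one,
      mul_inv_cancel_right]
  rw [this]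
  exact Subgroup.commutator_mem_commutator hb hb'

theorem centralizer_le_of_maximal [Group.IsNilpotent P] {B : Subgroup P} {𝒦 : Set (Subgroup P)}
    (h𝒦 : 𝒦 = classTwoSubgroups P ∨ (∃ Q, 𝒦 = kLowerStarFamily Q) ∨ ∃ Q, 𝒦 = kUpperStarFamily Q)
    (hB : B ∈ 𝒦) (hmax : ∀ C ∈ 𝒦, B ≤ C → C = B) : Subgroup.centralizer (B : Set P) ≤ B := by
  by_contra hC
  have hcB : ∀ c, B ⊔ Subgroup.zpowers c = B → c ∈ B := fun c h =>
    h ▸ Subgroup.mem_sup_right (Subgroup.mem_zpowers c)
  rcases h𝒦 with rfl | ⟨Q, rfl⟩ | ⟨Q, rfl⟩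
  · obtain ⟨c, hc, hcB'⟩ := Set.not_subset.1 hC
    exact hcB' (hcB c (hmax _ ((sup_zpowers_facts hc).2 hB) le_sup_left))
  · obtain ⟨c, hcB', hc, hq⟩ := exists_extension hB.2.1 hC
    obtain ⟨hz, h2⟩ := sup_zpowers_facts hc
    refine hcB' (hcB c (hmax _ ⟨h2 hB.1, fun q hq' => ?_, fun A hA hAQ hN hb hzA => ?_⟩ le_sup_left))
    · have hqc : ∀ r ∈ Q, r * c * r⁻¹ ∈ B ⊔ Subgroup.zpowers c := fun r hr => by
        have h3 : r * c * r⁻¹ = (⁅c, r⁆)⁻¹ * c := by rw [commutatorElement_def]; group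
        rw [h3]
        exact mul_mem (inv_mem (Subgroup.mem_sup_left (hq r hr).1)) (Subgroup.mem_sup_right (Subgroup.mem_zpowers c))
      have key : ∀ r ∈ Q, (B ⊔ Subgroup.zpowers c).map (MulAut.conj r).toMonoidHom ≤ B ⊔ Subgroup.zpowers c := by
        intro r hr
        rw [Subgroup.map_sup, MonoidHom.map_zpowers]
        refine sup_le ?_ (Subgroup.zpowers_le.2 (hqc r hr))
        rintro _ ⟨b, hb, rfl⟩
        exact Subgroup.mem_sup_left ((Subgroup.mem_normalizer_iff.1 (hB.2.1 hr) b).1 hb)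
      refine Subgroup.mem_normalizer_iff.2 fun x => ⟨fun hx => key q hq' ⟨x, hx, rfl⟩, fun hx => ?_⟩
      simpa [mul_assoc] using key q⁻¹ (Q.inv_mem hq') ⟨_, hx, rfl⟩
    · have hBA : ⁅B, A⁆ ≤ zc B := hB.2.2 A hA hAQ (le_sup_left.trans hN)
        (eq_bot_iff.2 ((Subgroup.commutator_mono le_sup_left le_rfl).trans hb.le))
        (eq_bot_iff.2 ((Subgroup.commutator_mono (Subgroup.commutator_mono hz le_rfl) le_rfl).trans hzA.le))
      refine le_trans ?_ hz
      refine Subgroup.commutator_le.2 fun x hx a ha => ?_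
      have hle : B ⊔ Subgroup.zpowers c ≤ Subgroup.normalizer ((zc B) : Set P) := by
        refine sup_le (fun b hb => Subgroup.mem_normalizer_iff.2 fun y => ?_)
          (Subgroup.zpowers_le.2 (Subgroup.centralizer_le_normalizer _ fun y hy => hc y hy.1))
        refine ⟨fun hy => ?_, fun hy => ?_⟩
        · rwa [hy.2 b hb, mul_inv_cancel_right]
        · have := hy.2 b hb
          rwa [mul_left_cancel (a := b) (this.trans (inv_mul_cancel_right (b * y) b))] at hy
      let Y : Subgroup P :=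
        { carrier := {x | x ∈ B ⊔ Subgroup.zpowers c ∧ ⁅x, a⁆ ∈ zc B}
          one_mem' := ⟨one_mem _, by simp [commutatorElement_def]⟩
          mul_mem' := by
            rintro u v ⟨hu, hua⟩ ⟨hv, hva⟩
            refine ⟨mul_mem hu hv, ?_⟩
            rw [commutatorElement_mul_left_eq_conj_mul]
            exact mul_mem ((Subgroup.mem_normalizer_iff.1 (hle hu) _).1 hva) hua
          inv_mem' := by
            rintro u ⟨hu, hua⟩
            refine ⟨inv_mem hu, ?_⟩
            have := (Subgroup.mem_normalizer_iff.1 (hle (inv_mem hu)) _).1 (inv_mem hua)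
            simpa [commutatorElement_def, mul_assoc] using this }
      have : B ⊔ Subgroup.zpowers c ≤ Y := sup_le
        (fun b hb => ⟨Subgroup.mem_sup_left hb, hBA (Subgroup.commutator_mem_commutator hb ha)⟩)
        (Subgroup.zpowers_le.2 ⟨Subgroup.mem_sup_right (Subgroup.mem_zpowers c), hq a (hAQ ha)⟩)
      exact (this hx).2
  · have hQN : Q ≤ Subgroup.normalizer (B : Set P) :=
      Subgroup.le_normalizer_iff_commutator_le_left.2 (hB.2.trans inf_le_left)
    obtain ⟨c, hcB', hc, hq⟩ := exists_extension hQN hC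
    obtain ⟨hz, h2⟩ := sup_zpowers_facts hc
    refine hcB' (hcB c (hmax _ ⟨h2 hB.1, ?_⟩ le_sup_left))
    refine le_trans (Subgroup.commutator_le.2 fun x hx r hr => ?_) hz
    obtain ⟨b, hb, i, hi, rfl⟩ : ∃ b ∈ B, ∃ i ∈ Subgroup.zpowers c, b * i = x :=
      Set.mem_mul.1 ((Subgroup.coe_mul_of_right_le_normalizer_left B (Subgroup.zpowers c)
        ((Subgroup.zpowers_le.2 hc).trans (Subgroup.centralizer_le_normalizer (B : Set P)))).symm ▸ hx :
          x ∈ ((B : Set P) * (Subgroup.zpowers c : Set P)))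
    have hir : ⁅i, r⁆ ∈ zc B := by
      let Y : Subgroup P :=
        { carrier := {x | x ∈ Subgroup.centralizer (B : Set P) ∧ ⁅x, r⁆ ∈ zc B}
          one_mem' := ⟨one_mem _, by simp [commutatorElement_def]⟩
          mul_mem' := by
            rintro u v ⟨hu, hur⟩ ⟨hv, hvr⟩
            refine ⟨mul_mem hu hv, ?_⟩
            rw [commutatorElement_mul_left_eq_conj_mul, show u * ⁅v, r⁆ * u⁻¹ = ⁅v, r⁆ by
              rw [← hu _ hvr.1, mul_inv_cancel_right]]
            exact mul_mem hvr hur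
          inv_mem' := by
            rintro u ⟨hu, hur⟩
            refine ⟨inv_mem hu, ?_⟩
            have h3 : ⁅u⁻¹, r⁆ = u⁻¹ * (⁅u, r⁆)⁻¹ * u := by rw [commutatorElement_def, commutatorElement_def]; group
            rw [h3, ← inv_mem hu _ (inv_mem hur.1), inv_mul_cancel_right]
            exact inv_mem hur }
      exact ((Subgroup.zpowers_le (H := Y)).2 ⟨hc, hq r hr⟩ hi).2
    rw [commutatorElement_mul_left_eq_conj_mul, show b * ⁅i, r⁆ * b⁻¹ = ⁅i, r⁆ by
      rw [hir.2 b hb, mul_inv_cancel_right]]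
    exact mul_mem hir (hB.2 (Subgroup.commutator_mem_commutator hb hr))

theorem exists_max [Finite P] (𝒦 : Set (Subgroup P)) (h : 𝒦.Nonempty) :
    ∃ B ∈ 𝒦, ∀ C ∈ 𝒦, B ≤ C → C = B := by
  obtain ⟨B, hB⟩ := Set.Finite.exists_maximal (Set.toFinite 𝒦) h
  exact ⟨B, hB.1, fun C hC hBC => le_antisymm (hB.2 hC hBC) hBC⟩

theorem centralizer_kInf [Finite P] [Group.IsNilpotent P] :
    Subgroup.centralizer (kInfLower P : Set P) ≤ kInfLower P ∧
      Subgroup.centralizer (kInfUpper P : Set P) ≤ kInfUpper P := by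
  obtain ⟨n, hn⟩ := exists_stable (P := P)
  obtain ⟨B, hB, hBm⟩ := exists_max _ ⟨⊥, lower_bot (kSeqOdd P n)⟩
  obtain ⟨C, hC, hCm⟩ := exists_max _ ⟨⊥, upper_bot (kSeqEven P n)⟩
  have h1 : B ≤ kInfLower P := (le_sSup hB).trans (hn n le_rfl).1.le
  have h2 : C ≤ kInfUpper P := (le_sSup hC).trans (hn (n + 1) n.le_succ).2.le
  exact ⟨((Subgroup.centralizer_le h1).trans (centralizer_le_of_maximal (Or.inr (Or.inl ⟨_, rfl⟩)) hB hBm)).trans h1,
    ((Subgroup.centralizer_le h2).trans (centralizer_le_of_maximal (Or.inr (Or.inr ⟨_, rfl⟩)) hC hCm)).trans h2⟩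

/-! ### Transport -/

section

variable {R : Type*} [Group R] {f : P →* R}

theorem zc_map (hf : Function.Injective f) (B : Subgroup P) : zc (B.map f) = (zc B).map f := by
  apply le_antisymm
  · rintro _ ⟨⟨b, hb, rfl⟩, hc⟩
    exact ⟨b, ⟨hb, fun x hx => hf (by simpa using hc (f x) ⟨x, hx, rfl⟩)⟩, rfl⟩
  · rintro _ ⟨b, ⟨hb, hc⟩, rfl⟩
    refine ⟨⟨b, hb, rfl⟩, ?_⟩
    rintro _ ⟨x, hx, rfl⟩
    rw [← map_mul, ← map_mul, hc x hx]

theorem classTwo_map (hf : Function.Injective f) {B : Subgroup P} :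
    B.map f ∈ classTwoSubgroups R ↔ B ∈ classTwoSubgroups P := by
  rw [classTwo_iff, classTwo_iff, ← Subgroup.map_commutator, ← Subgroup.map_commutator,
    Subgroup.map_eq_bot_iff_of_injective _ hf]

theorem upper_map (hf : Function.Injective f) {B Q : Subgroup P} :
    B.map f ∈ kUpperStarFamily (Q.map f) ↔ B ∈ kUpperStarFamily Q := by
  show (_ ∧ _ ≤ zc _) ↔ (_ ∧ _ ≤ zc _)
  rw [classTwo_map hf, ← Subgroup.map_commutator, zc_map hf, Subgroup.map_le_map_iff_of_injective hf]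

theorem normalizer_map (hf : Function.Injective f) {B Q : Subgroup P} :
    Q.map f ≤ Subgroup.normalizer (B.map f : Set R) ↔ Q ≤ Subgroup.normalizer (B : Set P) := by
  rw [Subgroup.le_normalizer_iff_commutator_le_left, Subgroup.le_normalizer_iff_commutator_le_left,
    ← Subgroup.map_commutator, Subgroup.map_le_map_iff_of_injective hf]

theorem lower_map (hf : Function.Injective f) {B Q : Subgroup P} :
    B.map f ∈ kLowerStarFamily (Q.map f) ↔ B ∈ kLowerStarFamily Q := by
  constructor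
  · rintro ⟨h1, h2, h3⟩
    refine ⟨(classTwo_map hf).1 h1, (normalizer_map hf).1 h2, fun A hA hAQ hN hb hz => ?_⟩
    have := h3 (A.map f) ((classTwo_map hf).2 hA) (Subgroup.map_mono hAQ) ((normalizer_map hf).2 hN)
      (by rw [← Subgroup.map_commutator, ← Subgroup.map_commutator, hb, Subgroup.map_bot])
      (by
        show ⁅⁅zc (B.map f), A.map f⁆, A.map f⁆ = ⊥
        rw [zc_map hf, ← Subgroup.map_commutator, ← Subgroup.map_commutator, hz, Subgroup.map_bot])
    change _ ≤ zc _ at this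
    rwa [zc_map hf, ← Subgroup.map_commutator, Subgroup.map_le_map_iff_of_injective hf] at this
  · rintro ⟨h1, h2, h3⟩
    refine ⟨(classTwo_map hf).2 h1, (normalizer_map hf).2 h2, fun A hA hAQ hN hb hz => ?_⟩
    obtain ⟨A, rfl⟩ : ∃ A' : Subgroup P, A'.map f = A :=
      ⟨A.comap f, Subgroup.map_comap_eq_self (hAQ.trans (Subgroup.map_le_range f Q))⟩
    rw [Subgroup.map_le_map_iff_of_injective hf] at hAQ
    rw [← Subgroup.map_commutator, ← Subgroup.map_commutator, Subgroup.map_eq_bot_iff_of_injective _ hf] at hb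
    change ⁅⁅zc _, _⁆, _⁆ = ⊥ at hz
    rw [zc_map hf, ← Subgroup.map_commutator, ← Subgroup.map_commutator,
      Subgroup.map_eq_bot_iff_of_injective _ hf] at hz
    show _ ≤ zc _
    rw [zc_map hf, ← Subgroup.map_commutator, Subgroup.map_le_map_iff_of_injective hf]
    exact h3 A ((classTwo_map hf).1 hA) hAQ ((normalizer_map hf).1 hN) hb hz

theorem sSup_lower_map_le (hf : Function.Injective f) (Q : Subgroup P) :
    (sSup (kLowerStarFamily Q)).map f ≤ sSup (kLowerStarFamily (Q.map f)) := by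
  rw [Subgroup.map_le_iff_le_comap]
  exact sSup_le fun B hB => Subgroup.map_le_iff_le_comap.1 (le_sSup ((lower_map hf).2 hB))

theorem sSup_upper_map_le (hf : Function.Injective f) (Q : Subgroup P) :
    (sSup (kUpperStarFamily Q)).map f ≤ sSup (kUpperStarFamily (Q.map f)) := by
  rw [Subgroup.map_le_iff_le_comap]
  exact sSup_le fun B hB => Subgroup.map_le_iff_le_comap.1 (le_sSup ((upper_map hf).2 hB))

/-- If the sequences of `R` stay inside the image of `P`, the two pairs of sequences are interleaved. -/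
theorem interleave (hf : Function.Injective f)
    (h : ∀ n, kSeqEven R n ≤ f.range ∧ kSeqOdd R (n + 1) ≤ f.range) :
    ∀ n, kSeqEven R n ≤ (kSeqEven P n).map f ∧ (kSeqEven P n).map f ≤ kSeqEven R (n + 1) ∧
      kSeqOdd R (n + 1) ≤ (kSeqOdd P n).map f ∧ (kSeqOdd P n).map f ≤ kSeqOdd R n := by
  have hlow : ∀ (Q : Subgroup P) (Q' : Subgroup R), Q.map f ≤ Q' → sSup (kLowerStarFamily Q') ≤ f.range →
      sSup (kLowerStarFamily Q') ≤ (sSup (kLowerStarFamily Q)).map f := by
    intro Q Q' hQ hr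
    refine sSup_le fun B hB => ?_
    obtain ⟨B, rfl⟩ : ∃ B' : Subgroup P, B'.map f = B :=
      ⟨B.comap f, Subgroup.map_comap_eq_self ((le_sSup hB).trans hr)⟩
    exact Subgroup.map_mono (le_sSup ((lower_map hf).1 (lower_anti hQ hB)))
  have hup : ∀ (Q : Subgroup P) (Q' : Subgroup R), Q.map f ≤ Q' → sSup (kUpperStarFamily Q') ≤ f.range →
      sSup (kUpperStarFamily Q') ≤ (sSup (kUpperStarFamily Q)).map f := by
    intro Q Q' hQ hr
    refine sSup_le fun B hB => ?_
    obtain ⟨B, rfl⟩ : ∃ B' : Subgroup P, B'.map f = B :=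
      ⟨B.comap f, Subgroup.map_comap_eq_self ((le_sSup hB).trans hr)⟩
    exact Subgroup.map_mono (le_sSup ((upper_map hf).1 (upper_anti hQ hB)))
  intro n
  induction n with
  | zero =>
    have h1 : kSeqOdd R 1 ≤ (kSeqOdd P 0).map f := (h 0).2.trans (MonoidHom.range_eq_map f).le
    have h2 : (kSeqOdd P 0).map f ≤ kSeqOdd R 0 := le_top
    exact ⟨hlow _ _ h2 (h 0).1, (sSup_lower_map_le hf _).trans (sSup_le_sSup (lower_anti h1)), h1, h2⟩
  | succ n ih =>
    have h1 : kSeqOdd R (n + 2) ≤ (kSeqOdd P (n + 1)).map f := hup _ _ ih.2.1 (h (n + 1)).2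
    have h2 : (kSeqOdd P (n + 1)).map f ≤ kSeqOdd R (n + 1) :=
      (sSup_upper_map_le hf _).trans (sSup_le_sSup (upper_anti ih.1))
    exact ⟨hlow _ _ h2 (h (n + 1)).1, (sSup_lower_map_le hf _).trans (sSup_le_sSup (lower_anti h1)), h1, h2⟩

theorem kInf_map [Finite P] [Finite R] (hf : Function.Injective f)
    (h : ∀ n, kSeqEven R n ≤ f.range ∧ kSeqOdd R (n + 1) ≤ f.range) :
    (kInfLower P).map f = kInfLower R ∧ (kInfUpper P).map f = kInfUpper R := by
  obtain ⟨a, ha⟩ := exists_stable (P := P)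
  obtain ⟨b, hb⟩ := exists_stable (P := R)
  obtain ⟨e1, e2, e3, e4⟩ := interleave hf h (max a b)
  obtain ⟨p1, p2⟩ := ha (max a b) (le_max_left a b)
  obtain ⟨r1, r2⟩ := hb (max a b) (le_max_right a b)
  obtain ⟨r1', r2'⟩ := hb (max a b + 1) ((le_max_right a b).trans (Nat.le_succ _))
  rw [p1, r1] at e1
  rw [p1, r1'] at e2
  rw [p2, r2'] at e3
  rw [p2, r2] at e4
  exact ⟨le_antisymm e2 e1, le_antisymm e4 e3⟩

theorem kInf_map_equiv [Finite P] [Finite R] (e : P ≃* R) :
    (kInfLower P).map e.toMonoidHom = kInfLower R ∧ (kInfUpper P).map e.toMonoidHom = kInfUpper R := by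
  refine kInf_map e.injective fun n => ?_
  rw [MonoidHom.range_eq_top.2 e.surjective]
  exact ⟨le_top, le_top⟩

end

theorem kInf_char [Finite P] : (kInfLower P).Characteristic ∧ (kInfUpper P).Characteristic :=
  ⟨Subgroup.characteristic_iff_map_eq.2 fun e => (kInf_map_equiv e).1,
    Subgroup.characteristic_iff_map_eq.2 fun e => (kInf_map_equiv e).2⟩

theorem kInf_ne_bot [Finite P] [Group.IsNilpotent P] [Nontrivial P] : kInfLower P ≠ ⊥ ∧ kInfUpper P ≠ ⊥ := by
  obtain ⟨h1, h2⟩ := centralizer_kInf (P := P)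
  have key : ∀ K : Subgroup P, Subgroup.centralizer (K : Set P) ≤ K → K ≠ ⊥ := by
    rintro K hK rfl
    obtain ⟨x, hx⟩ := exists_ne (1 : P)
    refine hx (Subgroup.mem_bot.1 (hK fun y hy => ?_))
    rw [Subgroup.mem_bot.1 hy, one_mul, mul_one]
  exact ⟨key _ h1, key _ h2⟩

theorem center_le_kInf [Finite P] [Group.IsNilpotent P] :
    Subgroup.center P ≤ kInfLower P ∧ Subgroup.center P ≤ kInfUpper P :=
  ⟨(Subgroup.center_le_centralizer _).trans centralizer_kInf.1,
    (Subgroup.center_le_centralizer _).trans centralizer_kInf.2⟩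

/-! ### Elements outside a normal subgroup -/

/-- If the K-sequences leave `T`, then some subgroup outside `T` acts cubically on `A` and quadratically on its centre. -/
theorem exists_cubic {T A : Subgroup P} [A.Normal] (hA : A ∈ classTwoSubgroups P) (hAT : ⁅A, T⁆ ≤ zc A)
    (hnot : ¬ ∀ n, kSeqEven P n ≤ T ∧ kSeqOdd P (n + 1) ≤ T) :
    ∃ B : Subgroup P, ¬ B ≤ T ∧ ⁅⁅⁅A, B⁆, B⁆, B⁆ = ⊥ ∧ ⁅⁅zc A, B⁆, B⁆ = ⊥ := by
  by_contra hno
  have cub : ∀ B : Subgroup P, B ∈ classTwoSubgroups P → A ≤ Subgroup.normalizer (B : Set P) →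
      ⁅⁅⁅A, B⁆, B⁆, B⁆ = ⊥ := fun B hB hN => eq_bot_iff.2
    ((Subgroup.commutator_mono (Subgroup.commutator_mono
      (Subgroup.le_normalizer_iff_commutator_le_right.1 hN) le_rfl) le_rfl).trans (classTwo_iff.1 hB).le)
  have hlow : ∀ Q, A ≤ Q → sSup (kLowerStarFamily Q) ≤ T := by
    intro Q hQ
    refine sSup_le fun B hB => ?_
    by_contra hBT
    refine hno ⟨B, hBT, cub B hB.1 (hQ.trans hB.2.1), ?_⟩
    have hzA : zc A ∈ classTwoSubgroups P :=
      Subgroup.commutator_le.2 fun a ha b hb => by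
        rw [commutatorElement_eq_one_iff_commute.2 (hb.2 a ha.1)]
        exact one_mem _
    haveI : (zc A).Normal := Subgroup.normal_inf_normal A _
    have hz0 : ⁅⁅zc B, zc A⁆, zc A⁆ = ⊥ := eq_bot_iff.2 ((Subgroup.commutator_mono
      (Subgroup.commutator_le_right (zc B) (zc A)) le_rfl).trans
        (Subgroup.commutator_eq_bot_iff_le_centralizer.2
          (inf_le_right.trans (Subgroup.centralizer_le inf_le_left))).le)
    have h1 := hB.2.2 (zc A) hzA (inf_le_left.trans hQ)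
      (by rw [Subgroup.normalizer_eq_top_iff.2 inferInstance]; exact le_top)
      (by rw [Subgroup.commutator_eq_bot_iff_le_centralizer.2
        (inf_le_right.trans (Subgroup.centralizer_le inf_le_left)), Subgroup.commutator_bot_right]) hz0
    rw [Subgroup.commutator_comm] at h1
    exact eq_bot_iff.2 ((Subgroup.commutator_mono h1 le_rfl).trans
      (Subgroup.commutator_eq_bot_iff_le_centralizer.2 inf_le_right).le)
  have hA0 : A ≤ kSeqEven P 0 := by
    refine le_sSup ⟨hA, ?_, fun B hB _ hN hb hz => ?_⟩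
    · rw [Subgroup.normalizer_eq_top_iff.2 inferInstance]; exact le_top
    · have hBT : B ≤ T := by
        by_contra hBT
        exact hno ⟨B, hBT, cub B hB hN, hz⟩
      exact (Subgroup.commutator_mono le_rfl hBT).trans hAT
  have hup : sSup (kUpperStarFamily (kSeqEven P 0)) ≤ T := by
    refine sSup_le fun B hB => ?_
    by_contra hBT
    have h1 : ⁅A, B⁆ ≤ zc B := by
      rw [Subgroup.commutator_comm]
      exact (Subgroup.commutator_mono le_rfl hA0).trans hB.2
    have h2 : ⁅⁅A, B⁆, B⁆ = ⊥ := eq_bot_iff.2 ((Subgroup.commutator_mono h1 le_rfl).trans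
      (Subgroup.commutator_eq_bot_iff_le_centralizer.2 inf_le_right).le)
    refine hno ⟨B, hBT, by rw [h2, Subgroup.commutator_bot_left], eq_bot_iff.2 ?_⟩
    exact (Subgroup.commutator_mono (Subgroup.commutator_mono inf_le_left le_rfl) le_rfl).trans h2.le
  have hodd : ∀ n, kSeqOdd P (n + 1) ≤ T := fun n => (odd_anti (Nat.le_add_left 1 n)).trans hup
  refine hnot fun n => ⟨?_, hodd n⟩
  induction n with
  | zero => exact hlow _ le_top
  | succ n ih =>
    exact hlow _ (le_sSup ⟨hA, (Subgroup.commutator_mono le_rfl ih).trans hAT⟩)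

end CfsgLib.KInf
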