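import Cfsg.Agent.Fus.Functor
import Cfsg.Agent.Fus.KInf
import Cfsg.Agent.Solv.Basic
import Cfsg.Prelude.Def_Amalgam

/-!
`O_p` of subgroups in functor arguments, the Frattini argument inside a subgroup, and the functors induced by the K-infinity
subgroups.
-/

set_option autoImplicit false
set_option linter.style.haveILetI false

open Cfsg
open scoped commutatorElement

namespace CfsgLib.Glau

variable {G : Type*} [Group G]

theorem centralizer_normalizer {A : Subgroup G} {g : G} (hg : g ∈ Subgroup.normalizer (A : Set G)) :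
    g ∈ Subgroup.normalizer (Subgroup.centralizer (A : Set G) : Set G) := by
  refine Subgroup.mem_normalizer_iff.2 fun x => ⟨fun hx a ha => ?_, fun hx a ha => ?_⟩
  · have := hx _ ((Subgroup.mem_normalizer_iff''.1 hg a).1 ha)
    calc a * (g * x * g⁻¹) = g * (g⁻¹ * a * g * x) * g⁻¹ := by group
      _ = g * (x * (g⁻¹ * a * g)) * g⁻¹ := by rw [this]
      _ = g * x * g⁻¹ * a := by group
  · have := hx _ ((Subgroup.mem_normalizer_iff.1 hg a).1 ha)
    calc a * x = g⁻¹ * (g * a * g⁻¹ * (g * x * g⁻¹)) * g := by group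
      _ = g⁻¹ * (g * x * g⁻¹ * (g * a * g⁻¹)) * g := by rw [this]
      _ = x * a := by group

theorem normalizer_le_centralizer_normalizer (A : Subgroup G) :
    Subgroup.normalizer (A : Set G) ≤ Subgroup.normalizer (Subgroup.centralizer (A : Set G) : Set G) :=
  fun _ => centralizer_normalizer

theorem cj_centralizer (g : G) (A : Subgroup G) :
    cj g (Subgroup.centralizer (A : Set G)) = Subgroup.centralizer (cj g A : Set G) := by
  ext x
  rw [mem_cj]
  constructor
  · rintro h _ ⟨a, ha, rfl⟩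
    have := h a ha
    calc g * a * g⁻¹ * x = g * (a * (g⁻¹ * x * g)) * g⁻¹ := by group
      _ = g * (g⁻¹ * x * g * a) * g⁻¹ := by rw [this]
      _ = x * (g * a * g⁻¹) := by group
  · intro h a ha
    have := h _ (conj_mem_cj ha)
    calc a * (g⁻¹ * x * g) = g⁻¹ * (g * a * g⁻¹ * x) * g := by group
      _ = g⁻¹ * (x * (g * a * g⁻¹)) * g := by rw [this]
      _ = g⁻¹ * x * g * a := by group

section

variable [Finite G] {p : ℕ} [hp : Fact p.Prime]

theorem pc_le (H : Subgroup G) : pCoreOf p H ≤ H := Subgroup.map_subtype_le _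

omit hp in
theorem pc_pg (H : Subgroup G) : IsPGroup p ↥(pCoreOf p H) := (CfsgLib.Solv.pCore_isPGroup ↥H p).map _

omit hp in
theorem le_normalizer_pc (H : Subgroup G) : H ≤ Subgroup.normalizer (pCoreOf p H : Set G) := by
  haveI := CfsgLib.Solv.pCore_normal ↥H p
  refine le_trans ?_ (Subgroup.le_normalizer_map H.subtype)
  rw [Subgroup.normalizer_eq_top, ← MonoidHom.range_eq_map, Subgroup.range_subtype]

omit hp in
theorem le_pc {X H : Subgroup G} (hXH : X ≤ H) (hX : IsPGroup p X)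
    (hn : H ≤ Subgroup.normalizer (X : Set G)) : X ≤ pCoreOf p H := by
  haveI : (X.subgroupOf H).Normal := (Subgroup.normal_subgroupOf_iff_le_normalizer hXH).2 hn
  intro x hx
  exact Subgroup.mem_map.2 ⟨⟨x, hXH hx⟩,
    CfsgLib.Solv.le_pCore (G := ↥H) (N := X.subgroupOf H) hX.comap_subtype hx, rfl⟩

theorem Syl.normal_le {S H P : Subgroup G} (h : Syl p S H) (hP : P ≤ H) (hPp : IsPGroup p P)
    (hn : H ≤ Subgroup.normalizer (P : Set G)) : P ≤ S := by
  obtain ⟨x, hx, hxP⟩ := h.exists_conj_le hP hPp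
  rwa [mem_normalizer_iff_cj.1 (hn hx)] at hxP

theorem Syl.pc_le {S H : Subgroup G} (h : Syl p S H) : pCoreOf p H ≤ S :=
  h.normal_le (Glau.pc_le H) (pc_pg H) (le_normalizer_pc H)

theorem Syl.inf_normal {S H N : Subgroup G} (h : Syl p S H) (hN : H ≤ Subgroup.normalizer (N : Set G)) :
    Syl p (S ⊓ N) (H ⊓ N) := by
  obtain ⟨T, hle, hT⟩ := exists_syl (p := p) (H ⊓ N) (inf_le_inf_right N h.le) (h.pg.to_le inf_le_left)
  obtain ⟨x, hx, hxT⟩ := h.exists_conj_le (hT.le.trans inf_le_left) hT.pg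
  refine hT.of_card_le (inf_le_inf_right N h.le) (h.pg.to_le inf_le_left) ?_
  rw [← card_cj x T]
  exact Subgroup.card_le_of_le (le_inf hxT ((cj_mono x (hT.le.trans inf_le_right)).trans
    (mem_normalizer_iff_cj.1 (hN hx)).le))

/-- The Frattini argument inside `H`. -/
theorem frattini {S H N : Subgroup G} (h : Syl p S H) (hN : H ≤ Subgroup.normalizer (N : Set G)) {g : G}
    (hg : g ∈ H) : ∃ n ∈ H ⊓ N, ∃ k ∈ H ⊓ Subgroup.normalizer ((S ⊓ N : Subgroup G) : Set G), g = n * k := by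
  have hR := h.inf_normal hN
  have h1 : cj g (S ⊓ N) ≤ H ⊓ N := (cj_mono g hR.le).trans
    (le_of_eq (by rw [cj_inf, cj_eq_of_mem hg, mem_normalizer_iff_cj.1 (hN hg)]))
  obtain ⟨n, hn, hle⟩ := hR.exists_conj_le h1 (isPGroup_cj g hR.pg)
  rw [← cj_mul] at hle
  have he : cj (n * g) (S ⊓ N) = S ⊓ N := Subgroup.eq_of_le_of_card_ge hle (card_cj (n * g) _).ge
  exact ⟨n⁻¹, inv_mem hn, n * g, ⟨H.mul_mem hn.1 hg, mem_normalizer_iff_cj.2 he⟩, (inv_mul_cancel_left n g).symm⟩

/-- The Frattini argument as a generation statement. -/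
theorem le_of_frattini {S H N L : Subgroup G} (h : Syl p S H) (hN : H ≤ Subgroup.normalizer (N : Set G))
    (hNL : H ⊓ N ≤ L) (hKL : H ⊓ Subgroup.normalizer ((S ⊓ N : Subgroup G) : Set G) ≤ L) : H ≤ L := by
  intro g hg
  obtain ⟨n, hn, k, hk, rfl⟩ := frattini h hN hg
  exact L.mul_mem (hNL hn) (hKL hk)

end

end CfsgLib.Glau

namespace CfsgLib.KInf

universe u

theorem isCharPFunctor_lower (p : ℕ) [Fact p.Prime] : IsCharPFunctor.{u} p kInfLower.{u} :=
  ⟨fun Q _ _ hQ hn => by haveI := hQ.isNilpotent; exact kInf_ne_bot.1,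
    fun Q R _ _ _ _ e => by haveI : Finite R := Finite.of_equiv Q e.toEquiv; exact (kInf_map_equiv e).1⟩

theorem isCharPFunctor_upper (p : ℕ) [Fact p.Prime] : IsCharPFunctor.{u} p kInfUpper.{u} :=
  ⟨fun Q _ _ hQ hn => by haveI := hQ.isNilpotent; exact kInf_ne_bot.2,
    fun Q R _ _ _ _ e => by haveI : Finite R := Finite.of_equiv Q e.toEquiv; exact (kInf_map_equiv e).2⟩

variable {G : Type u} [Group G] [Finite G] {p : ℕ}

theorem inducedFunctor_conjugacy {W : ∀ (Q : Type u) [Group Q], Subgroup Q} (hW : IsCharPFunctor.{u} p W) :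
    IsConjugacyFunctor p (inducedFunctor (G := G) W) := by
  refine fun P hP => ⟨Subgroup.map_subtype_le _, fun hne hb => ?_, fun g => ?_⟩
  · haveI : Nontrivial ↥P := (Subgroup.nontrivial_iff_ne_bot P).2 hne
    exact hW.1 ↥P hP inferInstance ((Subgroup.map_eq_bot_iff_of_injective _ P.subtype_injective).1 hb)
  · let e : ↥P ≃* ↥(P.map (MulAut.conj g).toMonoidHom) := P.equivMapOfInjective _ (MulAut.conj g).injective
    show (W ↥(P.map (MulAut.conj g).toMonoidHom)).map _ = ((W ↥P).map P.subtype).map _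
    rw [← hW.2 ↥P _ hP e, Subgroup.map_map, Subgroup.map_map]
    rfl

theorem kInf_center_le [Fact p.Prime] (P : Subgroup G) (hP : IsPGroup p ↥P) :
    P ⊓ Subgroup.centralizer (P : Set G) ≤ inducedFunctor kInfLower P ∧
      P ⊓ Subgroup.centralizer (P : Set G) ≤ inducedFunctor kInfUpper P := by
  haveI := hP.isNilpotent
  have hc : ∀ x (hx : x ∈ P ⊓ Subgroup.centralizer (P : Set G)), (⟨x, hx.1⟩ : ↥P) ∈ Subgroup.center ↥P :=
    fun x hx => Subgroup.mem_center_iff.2 fun y => Subtype.ext (hx.2 y y.2)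
  exact ⟨fun x hx => ⟨⟨x, hx.1⟩, center_le_kInf.1 (hc x hx), rfl⟩,
    fun x hx => ⟨⟨x, hx.1⟩, center_le_kInf.2 (hc x hx), rfl⟩⟩

/-- If a K-infinity subgroup of a Sylow subgroup of `H` is not normal in `H`, some subgroup outside `O_p(H)` acts cubically on
`A` and quadratically on its centre. -/
theorem exists_offender [hp : Fact p.Prime] {H S A : Subgroup G} (h : Glau.Syl p S H)
    (hA : A ≤ pCoreOf p H) (hAn : H ≤ Subgroup.normalizer (A : Set G)) (hA2 : A ∈ classTwoSubgroups G)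
    (hAT : ⁅A, pCoreOf p H⁆ ≤ zc A)
    (hK : ¬ H ≤ Subgroup.normalizer (inducedFunctor kInfLower S : Set G) ∨
      ¬ H ≤ Subgroup.normalizer (inducedFunctor kInfUpper S : Set G)) :
    ∃ B : Subgroup G, B ≤ S ∧ ¬ B ≤ pCoreOf p H ∧ ⁅⁅⁅A, B⁆, B⁆, B⁆ = ⊥ ∧ ⁅⁅zc A, B⁆, B⁆ = ⊥ := by
  have hf := S.subtype_injective
  set P := pCoreOf p H with hP
  have hPS : P ≤ S := h.pc_le
  have eA : (A.subgroupOf S).map S.subtype = A := Subgroup.map_subgroupOf_eq_of_le (hA.trans hPS)
  have eP : (P.subgroupOf S).map S.subtype = P := Subgroup.map_subgroupOf_eq_of_le hPS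
  by_cases hin : ∀ n, kSeqEven ↥S n ≤ P.subgroupOf S ∧ kSeqOdd ↥S (n + 1) ≤ P.subgroupOf S
  · exfalso
    obtain ⟨e1, e2⟩ := kInf_map (f := Subgroup.inclusion hPS) (Subgroup.inclusion_injective hPS)
      (by simpa only [Subgroup.inclusion_range] using hin)
    have key : ∀ {X : Subgroup ↥P} {Y : Subgroup ↥S}, X.Characteristic → X.map (Subgroup.inclusion hPS) = Y →
        H ≤ Subgroup.normalizer (Y.map S.subtype : Set G) := by
      intro X Y hX hXY g hg
      rw [Glau.mem_normalizer_iff_cj, ← hXY, Subgroup.map_map, Subgroup.subtype_comp_inclusion]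
      let e : MulAut ↥P := (P.equivMapOfInjective _ (MulAut.conj g).injective).trans
        (MulEquiv.subgroupCongr (Glau.mem_normalizer_iff_cj.1 (Glau.le_normalizer_pc H hg)))
      conv_rhs => rw [← Subgroup.characteristic_iff_map_eq.1 hX e]
      rw [Glau.cj, Subgroup.map_map, Subgroup.map_map]
      rfl
    rcases hK with hK | hK
    · exact hK (key kInf_char.1 e1)
    · exact hK (key kInf_char.2 e2)
  haveI : (A.subgroupOf S).Normal :=
    (Subgroup.normal_subgroupOf_iff_le_normalizer (hA.trans hPS)).2 (h.le.trans hAn)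
  obtain ⟨B, hB, h1, h2⟩ := exists_cubic (T := P.subgroupOf S) (A := A.subgroupOf S)
    ((classTwo_map hf).1 (by rwa [eA]))
    (by rw [← Subgroup.map_le_map_iff_of_injective hf, Subgroup.map_commutator, ← zc_map hf, eA, eP]; exact hAT) hin
  refine ⟨B.map S.subtype, Subgroup.map_subtype_le _, ?_, ?_, ?_⟩
  · rwa [← eP, Subgroup.map_le_map_iff_of_injective hf]
  · rw [← eA, ← Subgroup.map_commutator, ← Subgroup.map_commutator, ← Subgroup.map_commutator, h1, Subgroup.map_bot]
  · rw [← eA, zc_map hf, ← Subgroup.map_commutator, ← Subgroup.map_commutator, h2, Subgroup.map_bot]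

end CfsgLib.KInf
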