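import Cfsg.Prelude.Def_Solvable
import Cfsg.Agent.Fus.CoreBasic
import Cfsg.Agent.Solv.FittingBasic
import Cfsg.Agent.Solv.Generation
import Mathlib

/-!
A lower bound on `|V : C_V(A)|` for an elementary abelian 2-group acting faithfully inside a solvable
group with trivial 2-core and no inverted element of order 3.
-/

set_option autoImplicit false
set_option linter.style.haveILetI false

open Cfsg

namespace CfsgLib.Fus

/-- The fixed points of a set of automorphisms. -/
def fixedBy {V : Type*} [Group V] (A : Set (MulAut V)) : Subgroup V where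
  carrier := {v | ∀ α ∈ A, α v = v}
  one_mem' α _ := map_one α
  mul_mem' {u v} hu hv α hα := by rw [map_mul, hu α hα, hv α hα]
  inv_mem' {v} hv α hα := by rw [map_inv, hv α hα]

theorem eq_one_of_sq_of_odd_pow {K : Type*} [Group K] {x : K} (h2 : x ^ 2 = 1) {n : ℕ} (hn : Odd n)
    (h : x ^ n = 1) : x = 1 := by
  obtain ⟨m, rfl⟩ := hn
  rwa [pow_succ, pow_mul, h2, one_pow, one_mul] at h

/-- An automorphism of odd order moving `u` to `u w` with `w` fixed fixes `u`. -/
theorem aut_fix_of_step {V : Type*} [Group V] (h2 : ∀ v : V, v ^ 2 = 1) {y : MulAut V} {n : ℕ}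
    (hn : Odd n) (hy : y ^ n = 1) {u w : V} (hu : y u = u * w) (hw : y w = w) : y u = u := by
  have hk : ∀ k : ℕ, (y ^ k) u = u * w ^ k := by
    intro k
    induction k with
    | zero => simp
    | succ k ih => rw [pow_succ', MulAut.mul_apply, ih, map_mul, map_pow, hu, hw, mul_assoc, ← pow_succ']
  have h1 := hk n
  rw [hy, MulAut.one_apply, left_eq_mul] at h1
  rw [hu, eq_one_of_sq_of_odd_pow (h2 w) hn h1, mul_one]

theorem offender_bound {V : Type*} [Group V] [Finite V] (hV : ∀ a b : V, a * b = b * a)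
    (h2 : ∀ v : V, v ^ 2 = 1) (X : Subgroup (MulAut V)) [Group.IsSolvable X]
    (hO : Cfsg.pCore 2 X = ⊥)
    (h3 : ∀ y ∈ X, ∀ a ∈ X, y ^ 3 = 1 → y ≠ 1 → a ^ 2 = 1 → a * y * a = y⁻¹ → False) :
    ∀ A : Subgroup X, IsMulCommutative A → (∀ a ∈ A, a ^ 2 = 1) → A ≠ ⊥ →
      Nat.card A * Nat.card (fixedBy (((↑) : X → MulAut V) '' (A : Set X))) < Nat.card V := by
  haveI : Finite (MulAut V) := Finite.of_injective (fun α : MulAut V => (α : V → V)) DFunLike.coe_injective
  set O := Cfsg.pPrimeCore 2 X with hOdef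
  haveI hOn : O.Normal := normal_pPrimeCore 2
  have hOodd : (Nat.card O).Coprime 2 := coprime_card_pPrimeCore 2
  -- `O` contains its centralizer
  have hCO : Subgroup.centralizer (O : Set X) ≤ O := by
    have hF : Cfsg.fittingSubgroup X ≤ O := by
      rw [CfsgLib.Solv.fittingSubgroup_eq_iSup_pCore]
      refine iSup_le fun ⟨q, hq⟩ => ?_
      rcases eq_or_ne q 2 with rfl | hne
      · rw [hO]; exact bot_le
      · haveI : Fact q.Prime := ⟨hq⟩
        obtain ⟨k, hk⟩ := IsPGroup.iff_card.1 (isPGroup_pCore (G := X) (p := q))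
        refine le_pPrimeCore (normal_pCore q) ?_
        rw [hk]
        exact ((Nat.coprime_primes hq Nat.prime_two).2 hne).pow_left k
    exact (Subgroup.centralizer_le hF).trans (CfsgLib.Solv.centralizer_fittingSubgroup_le.trans hF)
  suffices key : ∀ (n : ℕ) (A : Subgroup X), Nat.card A = n → IsMulCommutative A → (∀ a ∈ A, a ^ 2 = 1) →
      A ≠ ⊥ → Nat.card A * Nat.card (fixedBy (((↑) : X → MulAut V) '' (A : Set X))) < Nat.card V from
    fun A => key _ A rfl
  intro n
  induction n using Nat.strong_induction_on with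
  | _ n ih =>
  intro A hn hA hAe hA1
  haveI := hA
  have hcop : (Nat.card A).Coprime (Nat.card O) := by
    have hAp : IsPGroup 2 A := fun a => ⟨1, Subtype.ext (by rw [pow_one]; exact hAe a a.2)⟩
    haveI : Fact (Nat.Prime 2) := ⟨Nat.prime_two⟩
    obtain ⟨k, hk⟩ := IsPGroup.iff_card.1 hAp
    rw [hk]
    exact hOodd.symm.pow_left k
  -- a hyperplane whose centralizer in `O` is not centralized by `A`
  obtain ⟨B, hBA, a, haA, hBa, hnle⟩ : ∃ B ≤ A, ∃ a ∈ A, B ⊔ Subgroup.zpowers a = A ∧
      ¬ O ⊓ Subgroup.centralizer (B : Set X) ≤ Subgroup.centralizer (A : Set X) := by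
    by_contra hcon
    push_neg at hcon
    have h1 := CfsgLib.Solv.le_of_cocyclic_centralizers
      (K := O) (W := Subgroup.centralizer (A : Set X))
      ((Subgroup.normalizer_eq_top_iff.2 hOn).symm ▸ le_top) hcop
      fun B hB ⟨a, ha, hBa⟩ => hcon B hB a ha hBa
    have h2' : A ≤ O := fun x hx => hCO fun o ho => (h1 ho x hx).symm
    refine hA1 ((Subgroup.eq_bot_iff_card A).2 ?_)
    exact Nat.eq_one_of_dvd_coprimes hcop dvd_rfl (Subgroup.card_dvd_of_le h2')
  obtain ⟨y₀, hy₀, hy₀A⟩ := SetLike.not_le_iff_exists.1 hnle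
  have haB : a ∉ B := by
    intro haB
    apply hy₀A
    rw [← hBa, sup_eq_left.2 (Subgroup.zpowers_le.2 haB)]
    exact hy₀.2
  have hcommA : ∀ x ∈ A, ∀ z ∈ A, x * z = z * x := fun x hx z hz =>
    CfsgLib.Solv.commute_of_isMulCommutative hx hz
  -- an element inverted by `a`, centralizing `B`
  set w := y₀⁻¹ * (a * y₀ * a) with hw
  have haa : a * a = 1 := by rw [← pow_two]; exact hAe a haA
  have hainv : a⁻¹ = a := inv_eq_of_mul_eq_one_right haa
  have hwa : a * w * a = w⁻¹ := by
    rw [hw]; simp only [mul_inv_rev, inv_inv, hainv, mul_assoc, haa, mul_one]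
  have hw1 : w ≠ 1 := by
    intro h1
    apply hy₀A
    rw [← hBa]
    intro x hx
    have hle : B ⊔ Subgroup.zpowers a ≤ Subgroup.centralizer ({y₀} : Set X) := by
      refine sup_le (fun b hb => ?_) (Subgroup.zpowers_le.2 ?_)
      · intro z hz; rw [Set.mem_singleton_iff.1 hz]; exact (hy₀.2 b hb).symm
      · intro z hz
        rw [Set.mem_singleton_iff.1 hz]
        rw [hw, inv_mul_eq_one] at h1
        calc y₀ * a = a * y₀ * a * a := by rw [← h1]
          _ = a * y₀ := by rw [mul_assoc, haa, mul_one]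
    exact (hle hx y₀ rfl).symm
  have hwO : w ∈ O := O.mul_mem (O.inv_mem hy₀.1) (by simpa [hainv] using hOn.conj_mem y₀ hy₀.1 a)
  have hwB : ∀ b ∈ B, Commute b w := fun b hb => by
    have h1 : Commute b y₀ := hy₀.2 b hb
    have h2' : Commute b a := hcommA b (hBA hb) a haA
    exact h1.inv_right.mul_right ((h2'.mul_right h1).mul_right h2')
  -- power it to prime order
  obtain ⟨q, hq, hqd⟩ := Nat.exists_prime_and_dvd (n := orderOf w)
    (fun h => hw1 (orderOf_eq_one_iff.1 h))
  have hodd_dvd : orderOf w ∣ Nat.card O := by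
    rw [← Subgroup.orderOf_mk w hwO]; exact orderOf_dvd_natCard _
  have hq2 : q ≠ 2 := fun h => by
    have : Nat.gcd (Nat.card O) 2 = 1 := hOodd
    have h2d : 2 ∣ Nat.card O := h ▸ hqd.trans hodd_dvd
    rw [Nat.gcd_eq_right h2d] at this
    omega
  set y := w ^ (orderOf w / q) with hy
  have hyq : orderOf y = q := orderOf_pow_orderOf_div (orderOf_pos w).ne' hqd
  have hya : a * y * a = y⁻¹ := by
    have h1 := conj_pow (a := a) (b := w) (i := orderOf w / q)
    rw [hainv, hwa, inv_pow] at h1
    exact h1.symm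
  have hq5 : 5 ≤ q := by
    have := hq.two_le
    by_contra hlt
    interval_cases q
    · exact hq2 rfl
    · refine h3 y y.2 a a.2 ?_ ?_ ?_ ?_
      · exact congrArg Subtype.val (show y ^ 3 = 1 from hyq ▸ pow_orderOf_eq_one y)
      · intro h1
        have : y = 1 := Subtype.ext h1
        rw [this, orderOf_one] at hyq
        omega
      · exact congrArg Subtype.val (hAe a haA)
      · exact congrArg Subtype.val hya
    · exact absurd hq (by decide)
  have hyB : ∀ b ∈ B, Commute b y := fun b hb => (hwB b hb).pow_right _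
  have hqodd : Odd q := hq.odd_of_ne_two hq2
  -- the centralizer of `B`
  set U := fixedBy (((↑) : X → MulAut V) '' (B : Set X)) with hU
  set P := fixedBy (((↑) : X → MulAut V) '' (A : Set X)) with hP
  have hPU : P ≤ U := fun v hv α ⟨b, hb, e⟩ => hv α ⟨b, hBA hb, e⟩
  set Y : MulAut V := (y : MulAut V) with hYdef
  set α : MulAut V := (a : MulAut V) with hαdef
  have hyU : ∀ u ∈ U, Y u ∈ U := by
    rintro u hu _ ⟨b, hb, rfl⟩
    have h1 : ((b : MulAut V) * Y) u = (Y * (b : MulAut V)) u := by
      exact congrArg (fun z : X => (z : MulAut V) u) (hyB b hb).eq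
    rw [MulAut.mul_apply, MulAut.mul_apply, hu _ ⟨b, hb, rfl⟩] at h1
    exact h1
  have hYq : Y ^ q = 1 := congrArg Subtype.val (show y ^ q = 1 from hyq ▸ pow_orderOf_eq_one y)
  have hY1 : Y ≠ 1 := fun h => by
    have : y = 1 := Subtype.ext h
    rw [this, orderOf_one] at hyq
    omega
  -- `y` moves a point of `U`
  obtain ⟨m, hmU, hym⟩ : ∃ m ∈ U, Y m ≠ m := by
    let f : V →* V :=
      { toFun := fun v => v⁻¹ * Y v
        map_one' := by simp
        map_mul' := fun u v => by
          rw [map_mul, mul_inv_rev, hV v⁻¹ u⁻¹]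
          calc u⁻¹ * v⁻¹ * (Y u * Y v) = u⁻¹ * ((v⁻¹ * Y u) * Y v) := by simp only [mul_assoc]
            _ = u⁻¹ * Y u * (v⁻¹ * Y v) := by rw [hV v⁻¹ (Y u)]; simp only [mul_assoc] }
    have hbf : ∀ b : B, ∀ m ∈ f.range, ((b : X) : MulAut V) m ∈ f.range := by
      rintro b _ ⟨v, rfl⟩
      refine ⟨((b : X) : MulAut V) v, ?_⟩
      show (((b : X) : MulAut V) v)⁻¹ * Y (((b : X) : MulAut V) v) = ((b : X) : MulAut V) (v⁻¹ * Y v)
      have h1 : (((b : X) : MulAut V) * Y) v = (Y * ((b : X) : MulAut V)) v :=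
        congrArg (fun z : X => (z : MulAut V) v) (hyB b b.2).eq
      rw [map_mul, map_inv]
      simp only [MulAut.mul_apply] at h1
      rw [h1]
    letI : MulAction B f.range :=
      { smul := fun b m => ⟨((b : X) : MulAut V) m, hbf b m m.2⟩
        one_smul := fun m => Subtype.ext rfl
        mul_smul := fun b c m => Subtype.ext rfl }
    haveI : Fact (Nat.Prime 2) := ⟨Nat.prime_two⟩
    have hBp : IsPGroup 2 B := fun b => ⟨1, Subtype.ext (by rw [pow_one]; exact hAe b (hBA b.2))⟩
    have hfp : IsPGroup 2 f.range := fun m => ⟨1, Subtype.ext (by rw [pow_one]; exact h2 m)⟩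
    have hfne : f.range ≠ ⊥ := by
      intro hb
      refine hY1 (MulEquiv.ext fun v => ?_)
      have : f v ∈ f.range := ⟨v, rfl⟩
      rw [hb, Subgroup.mem_bot] at this
      exact (inv_mul_eq_one.1 this).symm
    haveI := (Subgroup.nontrivial_iff_ne_bot f.range).2 hfne
    obtain ⟨k, hk⟩ := IsPGroup.iff_card.1 hfp
    have hdvd : 2 ∣ Nat.card f.range := by
      rw [hk]
      refine dvd_pow_self 2 fun h0 => ?_
      have := Finite.one_lt_card (α := f.range)
      rw [hk, h0, pow_zero] at this
      omega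
    obtain ⟨m, hm, hm1⟩ := hBp.exists_fixed_point_of_prime_dvd_card_of_fixed_point f.range hdvd
      (a := (1 : f.range)) (fun b => Subtype.ext (map_one _))
    refine ⟨m, ?_, fun hfix => hm1 ?_⟩
    · rintro _ ⟨b, hb, rfl⟩
      exact congrArg Subtype.val (hm ⟨b, hb⟩)
    · obtain ⟨v, hv⟩ := m.2
      have hv' : v⁻¹ * Y v = (m : V) := hv
      have hYv : Y v = v * m := by rw [← hv', mul_inv_cancel_left]
      have := aut_fix_of_step h2 hqodd hYq hYv hfix
      refine Subtype.ext ?_
      show (1 : V) = (m : V)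
      rw [← hv', this, inv_mul_cancel]
  -- `|U : P| ≥ 4`
  have hUP : 4 ≤ P.relIndex U := by
    by_contra hlt
    have hlt' : P.relIndex U ≤ 3 := by omega
    -- the translate of `P` by `y`
    set P' : Subgroup V := P.map Y.toMonoidHom with hP'
    have hP'U : P'.relIndex U = P.relIndex U := by
      have hUy : U.map Y.toMonoidHom = U := Subgroup.eq_of_le_of_card_ge
        (by rintro _ ⟨u, hu, rfl⟩; exact hyU u hu)
        (le_of_eq (Nat.card_congr (U.equivMapOfInjective _ Y.injective).toEquiv))
      conv_lhs => rw [← hUy]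
      exact Subgroup.relIndex_map_map_of_injective P U Y.injective
    have hQ : (P ⊓ P').relIndex U ≤ P.relIndex U * P'.relIndex U := Subgroup.relIndex_inf_le
    -- `y` fixes `P ∩ P'`
    have hfix : ∀ v ∈ P ⊓ P', Y v = v := by
      rintro v ⟨hv, v', hv', rfl⟩
      have h1 : α (Y v') = Y v' := hv α ⟨a, haA, rfl⟩
      have h1' : α v' = v' := hv' α ⟨a, haA, rfl⟩
      have hYa : α * Y * α = Y⁻¹ := congrArg Subtype.val hya
      have h4 : Y⁻¹ v' = Y v' := by rw [← hYa, MulAut.mul_apply, MulAut.mul_apply, h1', h1]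
      have h5 : (Y ^ 2) v' = v' := by
        rw [pow_two, MulAut.mul_apply]
        conv_lhs => rw [← h4]
        exact MulEquiv.apply_symm_apply Y v'
      show Y (Y v') = Y v'
      have h6 : ∀ k : ℕ, (Y ^ (2 * k)) v' = v' := by
        intro k
        induction k with
        | zero => simp
        | succ k ihk => rw [mul_add, mul_one, pow_add, MulAut.mul_apply, h5, ihk]
      obtain ⟨k, hk⟩ := hqodd
      have h7 : Y v' = v' := by
        have : (Y ^ q) v' = Y v' := by rw [hk, pow_succ', MulAut.mul_apply, h6]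
        rw [← this, hYq]; rfl
      rw [h7, h7]
    -- so the group of fixed points of `y` has index at most 9, hence at most 4, in `U`
    set C := fixedBy ({Y} : Set (MulAut V)) with hC
    have hCU : C.relIndex U ≤ 9 := by
      refine le_trans ?_ (le_trans hQ (by rw [hP'U]; exact Nat.mul_le_mul hlt' hlt'))
      refine Nat.le_of_dvd (Nat.pos_of_ne_zero (Subgroup.index_ne_zero_of_finite)) ?_
      exact Subgroup.relIndex_dvd_of_le_left U fun v hv β hβ => by
        rw [Set.mem_singleton_iff.1 hβ]; exact hfix v hv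
    have hCU4 : C.relIndex U ≤ 4 := by
      have h2p : ∀ K : Subgroup V, IsPGroup 2 K := fun K v => ⟨1, Subtype.ext (by rw [pow_one]; exact h2 _)⟩
      have hd : P.relIndex U ≤ 2 := by
        haveI : Fact (Nat.Prime 2) := ⟨Nat.prime_two⟩
        haveI : (P.subgroupOf U).Normal := ⟨fun x hx g => by
          have : g * x * g⁻¹ = x := Subtype.ext (by
            show (g : V) * x * (g : V)⁻¹ = x
            rw [hV (g : V) x, mul_inv_cancel_right])
          rwa [this]⟩
        obtain ⟨k, hk⟩ := IsPGroup.iff_card.1 ((h2p U).to_quotient (P.subgroupOf U))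
        rw [← Subgroup.index_eq_card] at hk
        change P.relIndex U = _ at hk
        rw [hk] at hlt' ⊢
        have hk1 : k ≤ 1 := by
          by_contra hk2
          have := Nat.pow_le_pow_right two_pos (show 2 ≤ k by omega)
          omega
        exact le_trans (Nat.pow_le_pow_right two_pos hk1) (le_of_eq (pow_one 2))
      refine le_trans ?_ (le_trans hQ (by rw [hP'U]; exact Nat.mul_le_mul hd hd))
      refine Nat.le_of_dvd (Nat.pos_of_ne_zero (Subgroup.index_ne_zero_of_finite)) ?_
      exact Subgroup.relIndex_dvd_of_le_left U fun v hv β hβ => by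
        rw [Set.mem_singleton_iff.1 hβ]; exact hfix v hv
    -- `y` permutes the cosets of `C` in `U`
    let π : U →* U :=
      { toFun := fun u => ⟨Y u, hyU u u.2⟩
        map_one' := Subtype.ext (map_one Y)
        map_mul' := fun u v => Subtype.ext (map_mul Y (u : V) v) }
    haveI hCn : (C.subgroupOf U).Normal := ⟨fun x hx g => by
      have : g * x * g⁻¹ = x := Subtype.ext (by
        show (g : V) * x * (g : V)⁻¹ = x
        rw [hV (g : V) x, mul_inv_cancel_right])
      rwa [this]⟩
    let σ : (U ⧸ C.subgroupOf U) →* (U ⧸ C.subgroupOf U) :=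
      QuotientGroup.map _ _ π fun x hx => by
        rw [Subgroup.mem_comap, Subgroup.mem_subgroupOf]
        intro β hβ
        rw [Set.mem_singleton_iff.1 hβ]
        show Y (Y (x : V)) = Y (x : V)
        exact congrArg Y (hx Y rfl)
    set c := (QuotientGroup.mk ⟨m, hmU⟩ : U ⧸ C.subgroupOf U) with hc
    have hσk : ∀ k : ℕ, σ^[k] c = QuotientGroup.mk ⟨(Y ^ k) m, by
        induction k with
        | zero => exact hmU
        | succ k ihk => rw [pow_succ', MulAut.mul_apply]; exact hyU _ ihk⟩ := by
      intro k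
      induction k with
      | zero => rfl
      | succ k ihk =>
        rw [Function.iterate_succ_apply', ihk]
        exact congrArg QuotientGroup.mk (Subtype.ext (by
          show Y ((Y ^ k) m) = (Y ^ (k + 1)) m
          rw [pow_succ', MulAut.mul_apply]))
    haveI : Fact q.Prime := ⟨hq⟩
    have hper : Function.IsPeriodicPt σ q c := by
      show σ^[q] c = c
      rw [hσk]
      exact congrArg QuotientGroup.mk (Subtype.ext (by
        show (Y ^ q) m = m
        rw [hYq]; rfl))
    by_cases hfixc : σ c = c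
    · -- a fixed coset contains only fixed points
      have h1 := hfixc
      rw [hc, QuotientGroup.map_mk, eq_comm, QuotientGroup.eq] at h1
      have h1' : (m⁻¹ * Y m) ∈ C := h1
      exact hym (aut_fix_of_step h2 hqodd hYq (w := m⁻¹ * Y m) (by rw [mul_inv_cancel_left]) (h1' Y rfl))
    · have hmin : Function.minimalPeriod σ c = q :=
        Function.minimalPeriod_eq_prime hper (fun h => hfixc h)
      have hinj : Set.InjOn (fun k : ℕ => σ^[k] c) (Set.Iio (Function.minimalPeriod σ c)) :=
        Function.iterate_injOn_Iio_minimalPeriod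
      have hle : q ≤ Nat.card (U ⧸ C.subgroupOf U) := by
        rw [← Nat.card_fin q]
        refine Nat.card_le_card_of_injective (fun k : Fin q => σ^[(k : ℕ)] c) fun k l hkl => ?_
        exact Fin.ext (hinj (by rw [hmin]; exact k.2) (by rw [hmin]; exact l.2) hkl)
      rw [← Subgroup.index_eq_card] at hle
      have : C.relIndex U = (C.subgroupOf U).index := rfl
      omega
  -- count
  have hcard : Nat.card A ≤ 2 * Nat.card B := by
    have hmem : ∀ x ∈ A, x ∈ B ∨ a * x ∈ B := by
      let W : Subgroup X :=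
        { carrier := {x | x ∈ A ∧ (x ∈ B ∨ a * x ∈ B)}
          one_mem' := ⟨A.one_mem, Or.inl B.one_mem⟩
          mul_mem' := by
            rintro u v ⟨hu, hu'⟩ ⟨hv, hv'⟩
            refine ⟨A.mul_mem hu hv, ?_⟩
            rcases hu' with hu' | hu' <;> rcases hv' with hv' | hv'
            · exact Or.inl (B.mul_mem hu' hv')
            · refine Or.inr ?_
              rw [← mul_assoc, hcommA a haA u hu, mul_assoc]
              exact B.mul_mem hu' hv'
            · refine Or.inr ?_
              rw [← mul_assoc]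
              exact B.mul_mem hu' hv'
            · refine Or.inl ?_
              have h := B.mul_mem hu' hv'
              rwa [mul_assoc, ← mul_assoc u, hcommA u hu a haA, mul_assoc a, ← mul_assoc a a, haa,
                one_mul] at h
          inv_mem' := by
            rintro u ⟨hu, hu'⟩
            have : u⁻¹ = u := inv_eq_of_mul_eq_one_right (by rw [← pow_two]; exact hAe u hu)
            rw [this]; exact ⟨hu, hu'⟩ }
      intro x hx
      rw [← hBa] at hx
      exact (sup_le (fun b hb => (⟨hBA hb, Or.inl hb⟩ : b ∈ W))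
        (Subgroup.zpowers_le.2 (⟨haA, Or.inr (haa.symm ▸ B.one_mem)⟩ : a ∈ W)) hx : x ∈ W).2
    let f : B × Fin 2 → A := fun v => if v.2 = 0 then ⟨v.1, hBA v.1.2⟩ else ⟨a * v.1, A.mul_mem haA (hBA v.1.2)⟩
    have hf : Function.Surjective f := by
      rintro ⟨x, hx⟩
      rcases hmem x hx with hb | hb
      · exact ⟨(⟨x, hb⟩, 0), rfl⟩
      · exact ⟨(⟨a * x, hb⟩, 1), Subtype.ext (show a * (a * x) = x by rw [← mul_assoc, haa, one_mul])⟩
    have := Nat.card_le_card_of_surjective f hf
    rwa [Nat.card_prod, Nat.card_fin, mul_comm] at this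
  have hPUcard : Nat.card P * P.relIndex U = Nat.card U := by
    rw [← Nat.card_congr (Subgroup.subgroupOfEquivOfLe hPU).toEquiv]
    exact (P.subgroupOf U).card_mul_index
  have hBU : Nat.card B * Nat.card U ≤ Nat.card V := by
    rcases eq_or_ne B ⊥ with hB | hB
    · rw [hB, Subgroup.card_bot, one_mul]
      exact Subgroup.card_le_card_group U
    · refine (ih (Nat.card B) ?_ B rfl ?_ (fun b hb => hAe b (hBA hb)) hB).le
      · rw [← hn]
        exact lt_of_le_of_ne (Subgroup.card_le_of_le hBA) fun he =>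
          haB ((Subgroup.eq_of_le_of_card_ge hBA he.ge).ge haA)
      · exact ⟨⟨fun x z => Subtype.ext (hcommA x (hBA x.2) z (hBA z.2))⟩⟩
  have hpos : 0 < Nat.card B * Nat.card U := Nat.mul_pos Nat.card_pos Nat.card_pos
  have h4 : Nat.card P * 4 ≤ Nat.card U := hPUcard ▸ Nat.mul_le_mul_left _ hUP
  calc Nat.card A * Nat.card P ≤ 2 * Nat.card B * Nat.card P := Nat.mul_le_mul_right _ hcard
    _ < Nat.card B * Nat.card U := by nlinarith [Nat.card_pos (α := P), Nat.card_pos (α := B)]
    _ ≤ Nat.card V := hBU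

end CfsgLib.Fus
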