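import Cfsg.Prelude.Def_LocalEven
import Cfsg.Agent.Fus.Offender
import Cfsg.Agent.Solv.Basic

/-!
An element of order 3 inverted by an involution on a normal elementary abelian 2-subgroup gives an
`S₄` section.
-/

set_option autoImplicit false
set_option linter.style.haveILetI false

open Cfsg
open scoped Pointwise

namespace CfsgLib.Fus

variable {G : Type*} [Group G]

theorem orderOf_three {y : G} (h : y ^ 3 = 1) (h1 : y ≠ 1) : orderOf y = 3 := by
  haveI : Fact (Nat.Prime 3) := ⟨Nat.prime_three⟩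
  exact orderOf_eq_prime h h1

/-- `S₄` as a section, from a complement configuration. -/
theorem involves_s4_of_config [Finite G] {w y a : G} (hw : w ^ 2 = 1) (hw1 : w ≠ 1)
    (hy : y ^ 3 = 1) (hyw : y * w * y⁻¹ ≠ w) (hsum : w * (y * w * y⁻¹) * (y ^ 2 * w * (y ^ 2)⁻¹) = 1)
    (hcomm : w * (y * w * y⁻¹) = y * w * y⁻¹ * w) (haw : a * w * a⁻¹ = w)
    (hay : a * y * a⁻¹ = y⁻¹) (ha2 : ∀ i : Fin 3, a ^ 2 * (y ^ (i : ℕ) * w * (y ^ (i : ℕ))⁻¹) * (a ^ 2)⁻¹ = y ^ (i : ℕ) * w * (y ^ (i : ℕ))⁻¹) :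
    Cfsg.Involves (Equiv.Perm (Fin 4)) G := by
  set u := y * w * y⁻¹ with hu
  set v := y ^ 2 * w * (y ^ 2)⁻¹ with hv
  have hy1 : y ≠ 1 := fun h => hyw (by rw [hu, h]; simp)
  have hyo := orderOf_three hy hy1
  have hu2 : u * u = 1 := by rw [hu, ← pow_two, conj_pow, hw, mul_one, mul_inv_cancel]
  have hww : w * w = 1 := by rw [← pow_two, hw]
  have hv2 : v * v = 1 := by rw [hv, ← pow_two, conj_pow, hw, mul_one, mul_inv_cancel]
  have hvwu : v = w * u := by
    have h1 : w * u * v = 1 := hsum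
    calc v = (w * u)⁻¹ := eq_inv_of_mul_eq_one_right h1
      _ = u⁻¹ * w⁻¹ := mul_inv_rev _ _
      _ = u * w := by rw [inv_eq_of_mul_eq_one_right hu2, inv_eq_of_mul_eq_one_right hww]
      _ = w * u := hcomm.symm
  have hu1 : u ≠ 1 := fun h => hw1 (by rw [hu, conj_eq_one_iff] at h; exact h)
  have hv1 : v ≠ 1 := fun h => hw1 (by rw [hv, conj_eq_one_iff] at h; exact h)
  have hwu : w ≠ u := fun h => hyw h.symm
  have hwv : w ≠ v := fun h => hu1 (by rw [hvwu] at h; exact left_eq_mul.1 h)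
  have huv : u ≠ v := fun h => hw1 (by rw [hvwu] at h; exact right_eq_mul.1 h)
  -- the four-group
  let W : Subgroup G :=
    { carrier := {x | x = 1 ∨ x = w ∨ x = u ∨ x = v}
      one_mem' := Or.inl rfl
      mul_mem' := by
        rintro x z (rfl | rfl | rfl | rfl) (rfl | rfl | rfl | rfl) <;>
          simp only [one_mul, mul_one, hww, hu2, hv2, Set.mem_setOf_eq, true_or, or_true, hvwu,
            ← hcomm] <;>
          first
            | tauto
            | (right; right; left; rw [← mul_assoc, hww, one_mul])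
            | (right; right; left; rw [mul_assoc, ← hcomm, ← mul_assoc, hww, one_mul])
            | (right; left; rw [hcomm, ← mul_assoc, hu2, one_mul])
            | (right; left; rw [mul_assoc, hu2, mul_one])
            | (left; rw [← hvwu, hv2])
      inv_mem' := by
        rintro x (rfl | rfl | rfl | rfl)
        · exact Or.inl inv_one
        · exact Or.inr (Or.inl (inv_eq_of_mul_eq_one_right hww))
        · exact Or.inr (Or.inr (Or.inl (inv_eq_of_mul_eq_one_right hu2)))
        · exact Or.inr (Or.inr (Or.inr (inv_eq_of_mul_eq_one_right hv2))) }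
  have memW : ∀ {x}, x ∈ W ↔ x = 1 ∨ x = w ∨ x = u ∨ x = v := Iff.rfl
  -- `y` and `a` normalize `W`
  have hyu : y * u * y⁻¹ = v := by rw [hu, hv, pow_two]; simp [mul_assoc]
  have hyv : y * v * y⁻¹ = w := by
    have : y * y ^ 2 = 1 := by rw [← pow_succ', hy]
    calc y * v * y⁻¹ = (y * y ^ 2) * w * (y * y ^ 2)⁻¹ := by rw [hv]; simp [mul_assoc]
      _ = w := by rw [this]; simp
  have hau : a * u * a⁻¹ = v := by
    have h2 : y⁻¹ = y ^ 2 := inv_eq_of_mul_eq_one_right (by rw [← pow_succ', hy])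
    calc a * u * a⁻¹ = (a * y * a⁻¹) * (a * w * a⁻¹) * (a * y * a⁻¹)⁻¹ := by rw [hu]; simp [mul_assoc]
      _ = v := by rw [hay, haw, h2]
  have hav : a * v * a⁻¹ = u := by
    calc a * v * a⁻¹ = (a * w * a⁻¹) * (a * u * a⁻¹) := by rw [hvwu]; simp [mul_assoc]
      _ = u := by rw [haw, hau, hvwu, ← mul_assoc, hww, one_mul]
  set L := Subgroup.closure ({y, a} : Set G) with hL
  have hLW : L ≤ Subgroup.normalizer (W : Set G) := by
    have key : ∀ g : G, (∀ x ∈ W, g * x * g⁻¹ ∈ W) → g ∈ Subgroup.normalizer (W : Set G) :=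
      fun g hg => Subgroup.mem_normalizer_iff.2 fun x => ⟨fun hx => hg x hx, fun hx => by
        obtain ⟨k, hk⟩ : ∃ k : ℕ, g ^ k = g⁻¹ := by
          refine ⟨orderOf g - 1, eq_inv_of_mul_eq_one_left ?_⟩
          rw [← pow_succ, Nat.sub_add_cancel (orderOf_pos g), pow_orderOf_eq_one]
        have hpow : ∀ n : ℕ, ∀ z ∈ W, g ^ n * z * (g ^ n)⁻¹ ∈ W := by
          intro n
          induction n with
          | zero => intro z hz; simpa using hz
          | succ n ih => intro z hz; rw [pow_succ']; simpa [mul_assoc] using hg _ (ih z hz)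
        have := hpow k _ hx
        rw [hk] at this
        simpa [mul_assoc] using this⟩
    rw [hL, Subgroup.closure_le]
    rintro g (rfl | rfl)
    · refine key _ fun x hx => memW.2 ?_
      rcases memW.1 hx with rfl | rfl | rfl | rfl
      · exact Or.inl (by simp)
      · exact Or.inr (Or.inr (Or.inl rfl))
      · exact Or.inr (Or.inr (Or.inr hyu))
      · exact Or.inr (Or.inl hyv)
    · refine key _ fun x hx => memW.2 ?_
      rcases memW.1 hx with rfl | rfl | rfl | rfl
      · exact Or.inl (by simp)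
      · exact Or.inr (Or.inl haw)
      · exact Or.inr (Or.inr (Or.inr hau))
      · exact Or.inr (Or.inr (Or.inl hav))
  -- `L ∩ W = 1`
  have hLy : ∀ g ∈ L, g * y * g⁻¹ ∈ Subgroup.zpowers y := by
    intro g hg
    have hle : L ≤ Subgroup.normalizer (Subgroup.zpowers y : Set G) := by
      rw [hL, Subgroup.closure_le]
      rintro g (rfl | rfl)
      · exact Subgroup.le_normalizer (Subgroup.mem_zpowers g)
      · refine Subgroup.mem_normalizer_iff.2 fun x => ⟨?_, ?_⟩
        · rintro ⟨i, rfl⟩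
          refine ⟨-i, ?_⟩
          show y ^ (-i) = g * y ^ i * g⁻¹
          rw [← conj_zpow, hay, inv_zpow, zpow_neg]
        · rintro ⟨i, hi⟩
          refine ⟨-i, ?_⟩
          show y ^ (-i) = x
          have hi' : y ^ i = g * x * g⁻¹ := hi
          have h2 : g * y ^ (-i) * g⁻¹ = g * x * g⁻¹ := by
            rw [← conj_zpow, hay, inv_zpow, zpow_neg, inv_inv, hi']
          exact mul_left_cancel (mul_right_cancel h2)
    exact (Subgroup.mem_normalizer_iff.1 (hle hg) y).1 (Subgroup.mem_zpowers y)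
  have hinf : ∀ x ∈ W, x ∈ L → x = 1 := by
    intro x hxW hxL
    obtain ⟨i, hi⟩ := hLy x hxL
    have hi' : y ^ i = x * y * x⁻¹ := hi
    -- `[x, y]` lies in both
    have hcW : x * y * x⁻¹ * y⁻¹ ∈ W := by
      have h1 : y * x⁻¹ * y⁻¹ ∈ W :=
        (Subgroup.mem_normalizer_iff.1 (hLW (Subgroup.subset_closure (by simp : y ∈ ({y, a} : Set G)))) _).1
          (W.inv_mem hxW)
      simpa [mul_assoc] using W.mul_mem hxW h1
    have hcy : x * y * x⁻¹ * y⁻¹ ∈ Subgroup.zpowers y :=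
      mul_mem (hi' ▸ Subgroup.zpow_mem_zpowers y i) (inv_mem (Subgroup.mem_zpowers y))
    have hc1 : x * y * x⁻¹ * y⁻¹ = 1 := by
      have h2 : (x * y * x⁻¹ * y⁻¹) ^ 2 = 1 := by
        rcases memW.1 hcW with h | h | h | h <;> rw [h]
        · exact one_pow 2
        · exact hw
        · rw [pow_two, hu2]
        · rw [pow_two, hv2]
      obtain ⟨j, hj⟩ := hcy
      have h3 : (x * y * x⁻¹ * y⁻¹) ^ 3 = 1 := by
        rw [← hj]
        show (y ^ j) ^ (3 : ℕ) = 1
        rw [← zpow_natCast, ← zpow_mul, mul_comm, zpow_mul, zpow_natCast, hy, one_zpow]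
      exact eq_one_of_sq_of_odd_pow h2 (by decide) h3
    have hxy : y * x * y⁻¹ = x := by
      rw [mul_inv_eq_one, mul_inv_eq_iff_eq_mul] at hc1
      rw [← hc1, mul_inv_cancel_right]
    rcases memW.1 hxW with rfl | rfl | rfl | rfl
    · rfl
    · exact absurd hxy hyw
    · exact absurd (hyu.symm.trans hxy).symm huv
    · exact absurd (hyv.symm.trans hxy) hwv
  -- the action on cosets
  set E := W ⊔ L with hE
  set Ls := L.subgroupOf E with hLs
  have hWE : W ≤ E := le_sup_left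
  have hLE : L ≤ E := le_sup_right
  let f : W → E ⧸ Ls := fun x => QuotientGroup.mk ⟨x, hWE x.2⟩
  have hf : Function.Bijective f := by
    refine ⟨fun x z hxz => ?_, fun q => ?_⟩
    · have := QuotientGroup.eq.1 hxz
      rw [hLs, Subgroup.mem_subgroupOf] at this
      exact Subtype.ext (inv_mul_eq_one.1 (hinf _ (W.mul_mem (W.inv_mem x.2) z.2) this))
    · obtain ⟨⟨e, he⟩, rfl⟩ := QuotientGroup.mk_surjective q
      have he' : e ∈ (W : Set G) * (L : Set G) := by
        rw [← Subgroup.coe_mul_of_right_le_normalizer_left W L hLW]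
        exact he
      obtain ⟨x, hx, l, hl, rfl⟩ := he'
      refine ⟨⟨x, hx⟩, QuotientGroup.eq.2 ?_⟩
      rw [hLs, Subgroup.mem_subgroupOf]
      simpa using hl
  have hW4 : Nat.card W = 4 := by
    classical
    have : (W : Set G) = ↑({1, w, u, v} : Finset G) := by
      ext x
      simp only [SetLike.mem_coe, memW, Finset.coe_insert, Finset.coe_singleton, Set.mem_insert_iff,
        Set.mem_singleton_iff]
    rw [show Nat.card W = Nat.card (W : Set G) from rfl, this, Nat.card_coe_set_eq, Set.ncard_coe_finset]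
    rw [Finset.card_insert_of_notMem (by simp [hw1.symm, hu1.symm, hv1.symm]),
      Finset.card_insert_of_notMem (by simp [hwu, hwv]),
      Finset.card_insert_of_notMem (by simp [huv]), Finset.card_singleton]
  have hX4 : Nat.card (E ⧸ Ls) = 4 := by rw [← Nat.card_congr (Equiv.ofBijective f hf), hW4]
  let ρ := MulAction.toPermHom E (E ⧸ Ls)
  set R := ρ.range with hR
  let base : E ⧸ Ls := QuotientGroup.mk 1
  haveI : MulAction.IsPretransitive R (E ⧸ Ls) := by
    refine ⟨fun q r => ?_⟩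
    obtain ⟨g, hg⟩ := MulAction.exists_smul_eq E q r
    exact ⟨⟨ρ g, g, rfl⟩, hg⟩
  set St := MulAction.stabilizer R base with hSt
  have hidx : St.index = 4 := by
    rw [hSt, MulAction.index_stabilizer_of_transitive, hX4]
  have hy0 : y ∈ L := Subgroup.subset_closure (by simp)
  have ha0 : a ∈ L := Subgroup.subset_closure (by simp)
  have hconjmk : ∀ (g : G) (hg : g ∈ L) (x : G) (hx : x ∈ W) (hgx : g * x * g⁻¹ ∈ W),
      (ρ ⟨g, hLE hg⟩) (f ⟨x, hx⟩) = f ⟨g * x * g⁻¹, hgx⟩ := by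
    intro g hg x hx hgx
    show (⟨g, hLE hg⟩ : E) • (QuotientGroup.mk ⟨x, hWE hx⟩ : E ⧸ Ls) = _
    rw [MulAction.Quotient.smul_mk]
    refine QuotientGroup.eq.2 ?_
    rw [hLs, Subgroup.mem_subgroupOf]
    simpa [mul_assoc] using L.inv_mem hg
  have hbase : ∀ (g : G) (hg : g ∈ L), (⟨ρ ⟨g, hLE hg⟩, _, rfl⟩ : R) ∈ St := by
    intro g hg
    show (⟨g, hLE hg⟩ : E) • (QuotientGroup.mk 1 : E ⧸ Ls) = QuotientGroup.mk 1
    rw [MulAction.Quotient.smul_mk]
    refine QuotientGroup.eq.2 ?_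
    rw [hLs, Subgroup.mem_subgroupOf]
    simpa using L.inv_mem hg
  have hρ : ∀ (g : G) (hg : g ∈ L), (ρ ⟨g, hLE hg⟩ = 1 ↔ ∀ x ∈ W, g * x * g⁻¹ = x) := by
    intro g hg
    constructor
    · intro h1 x hx
      have hgx := (Subgroup.mem_normalizer_iff.1 (hLW hg) x).1 hx
      have := hconjmk g hg x hx hgx
      rw [h1, Equiv.Perm.one_apply] at this
      exact (congrArg Subtype.val (hf.1 this)).symm
    · intro h1
      refine Equiv.ext fun q => ?_
      obtain ⟨⟨x, hx⟩, rfl⟩ := hf.2 q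
      have hgx : g * x * g⁻¹ ∈ W := (h1 x hx).symm ▸ hx
      rw [hconjmk g hg x hx hgx, Equiv.Perm.one_apply]
      exact congrArg f (Subtype.ext (h1 x hx))
  have h6 : 6 ∣ Nat.card St := by
    have h3 : orderOf (⟨⟨ρ ⟨y, hLE hy0⟩, _, rfl⟩, hbase y hy0⟩ : St) = 3 := by
      refine orderOf_three (Subtype.ext (Subtype.ext ?_)) ?_
      · show (ρ ⟨y, hLE hy0⟩) ^ 3 = 1
        rw [← map_pow, show (⟨y, hLE hy0⟩ : E) ^ 3 = 1 from Subtype.ext hy, map_one]
      · intro h
        have h' : ρ ⟨y, hLE hy0⟩ = 1 := congrArg (fun z : St => ((z : R) : Equiv.Perm (E ⧸ Ls))) h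
        exact hyw ((hρ y hy0).1 h' w (memW.2 (Or.inr (Or.inl rfl))))
    have h2 : orderOf (⟨⟨ρ ⟨a, hLE ha0⟩, _, rfl⟩, hbase a ha0⟩ : St) = 2 := by
      haveI : Fact (Nat.Prime 2) := ⟨Nat.prime_two⟩
      refine orderOf_eq_prime (Subtype.ext (Subtype.ext ?_)) ?_
      · show (ρ ⟨a, hLE ha0⟩) ^ 2 = 1
        rw [← map_pow]
        refine (hρ (a ^ 2) (L.pow_mem ha0 2)).2 fun x hx => ?_
        rcases memW.1 hx with rfl | rfl | rfl | rfl
        · simp
        · simpa using ha2 0
        · simpa [hu] using ha2 1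
        · simpa [hv] using ha2 2
      · intro h
        have h' : ρ ⟨a, hLE ha0⟩ = 1 := congrArg (fun z : St => ((z : R) : Equiv.Perm (E ⧸ Ls))) h
        exact huv ((hρ a ha0).1 h' u (memW.2 (Or.inr (Or.inr (Or.inl rfl)))) ▸ hau)
    have d3 := h3 ▸ orderOf_dvd_natCard (⟨⟨ρ ⟨y, hLE hy0⟩, _, rfl⟩, hbase y hy0⟩ : St)
    have d2 := h2 ▸ orderOf_dvd_natCard (⟨⟨ρ ⟨a, hLE ha0⟩, _, rfl⟩, hbase a ha0⟩ : St)
    exact Nat.Coprime.mul_dvd_of_dvd_of_dvd (by decide : Nat.Coprime 2 3) d2 d3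
  have hsurj : Function.Surjective ρ := by
    rw [← MonoidHom.range_eq_top]
    refine Subgroup.eq_top_of_card_eq _ (le_antisymm (Subgroup.card_le_card_group _) ?_)
    rw [Nat.card_perm, hX4, ← hR, ← St.card_mul_index, hidx]
    have := Nat.le_of_dvd Nat.card_pos h6
    show (4 : ℕ).factorial ≤ _
    simp [Nat.factorial]
    omega
  obtain ⟨e⟩ : Nonempty ((E ⧸ Ls) ≃ Fin 4) := ⟨(Finite.equivFinOfCardEq hX4)⟩
  let ψ : E →* Equiv.Perm (Fin 4) := e.permCongrHom.toMonoidHom.comp ρ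
  have hψ : Function.Surjective ψ := e.permCongrHom.surjective.comp hsurj
  have hsub : (ψ.ker.map E.subtype).subgroupOf E = ψ.ker :=
    Subgroup.comap_map_eq_self_of_injective E.subtype_injective _
  haveI hn : ((ψ.ker.map E.subtype).subgroupOf E).Normal := by rw [hsub]; infer_instance
  exact ⟨E, ψ.ker.map E.subtype, hn,
    ⟨(QuotientGroup.quotientMulEquivOfEq hsub).trans (QuotientGroup.quotientKerEquivOfSurjective ψ hψ)⟩⟩

end CfsgLib.Fus
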