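import Cfsg.Agent.Fus.Offender
import Cfsg.Agent.Fus.SFourSection
import Cfsg.Agent.Inv.BaerSuzuki
import Cfsg.Agent.Solv.FittingBasic

/-!
Thompson factorization for `S₄`-free solvable groups with Sylow 2-subgroups of class at most two.
-/

set_option autoImplicit false
set_option linter.style.haveILetI false

open Cfsg
open scoped commutatorElement

namespace CfsgLib.Fus

variable {G : Type*} [Group G]

theorem involves_comap {H G' : Type*} [Group H] [Group G'] {f : G →* G'} (hf : Function.Surjective f)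
    (h : Cfsg.Involves H G') : Cfsg.Involves H G := by
  obtain ⟨K, R, hn, ⟨e⟩⟩ := h
  haveI := hn
  let g : K.comap f →* K ⧸ R.subgroupOf K :=
    (QuotientGroup.mk' _).comp ((f.comp (K.comap f).subtype).codRestrict K fun x => x.2)
  have hg : Function.Surjective g := fun q => by
    obtain ⟨⟨k, hk⟩, rfl⟩ := QuotientGroup.mk_surjective q
    obtain ⟨x, rfl⟩ := hf k
    exact ⟨⟨x, hk⟩, rfl⟩
  have hker : g.ker = (R.comap f).subgroupOf (K.comap f) := by
    ext x
    simp only [g, MonoidHom.mem_ker, MonoidHom.comp_apply, QuotientGroup.mk'_apply,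
      QuotientGroup.eq_one_iff, Subgroup.mem_subgroupOf, Subgroup.mem_comap]
    rfl
  haveI hn' : ((R.comap f).subgroupOf (K.comap f)).Normal := hker ▸ inferInstance
  exact ⟨K.comap f, R.comap f, hn',
    ⟨((QuotientGroup.quotientMulEquivOfEq hker.symm).trans
      (QuotientGroup.quotientKerEquivOfSurjective g hg)).trans e⟩⟩

theorem mem_maxElementary_map {P P' : Type*} [Group P] [Group P'] (e : P ≃* P') {p : ℕ}
    {A : Subgroup P} (hA : A ∈ Cfsg.maxElementaryAbelianSubgroups p P) :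
    A.map e.toMonoidHom ∈ Cfsg.maxElementaryAbelianSubgroups p P' := by
  obtain ⟨⟨hc, he⟩, hmax⟩ := hA
  refine ⟨⟨?_, ?_⟩, fun B hB => ?_⟩
  · haveI := hc
    exact Subgroup.map_isMulCommutative A e.toMonoidHom
  · rintro _ ⟨a, ha, rfl⟩; rw [← map_pow, he a ha, map_one]
  · obtain ⟨hBc, hBe⟩ := hB
    haveI := hBc
    have h1 := hmax (B.map e.symm.toMonoidHom) ⟨Subgroup.map_isMulCommutative B e.symm.toMonoidHom, by
      rintro _ ⟨b, hb, rfl⟩; rw [← map_pow, hBe b hb, map_one]⟩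
    rw [← Nat.card_congr (B.equivMapOfInjective _ e.symm.injective).toEquiv] at h1
    rwa [← Nat.card_congr (A.equivMapOfInjective _ e.injective).toEquiv]

theorem thompsonSubgroup_map {P P' : Type*} [Group P] [Group P'] (e : P ≃* P') (p : ℕ) :
    (Cfsg.thompsonSubgroup p P).map e.toMonoidHom = Cfsg.thompsonSubgroup p P' := by
  refine le_antisymm ?_ ?_
  · rw [Subgroup.map_le_iff_le_comap]
    refine sSup_le fun A hA => ?_
    rw [← Subgroup.map_le_iff_le_comap]
    exact le_sSup (mem_maxElementary_map e hA)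
  · refine sSup_le fun A hA => ?_
    have h1 : A.map e.symm.toMonoidHom ≤ Cfsg.thompsonSubgroup p P := le_sSup (mem_maxElementary_map e.symm hA)
    intro a ha
    exact ⟨e.symm a, h1 ⟨a, ha, rfl⟩, e.apply_symm_apply a⟩

theorem thompsonSubgroupOf_eq_sSup (p : ℕ) (S : Subgroup G) :
    Cfsg.thompsonSubgroupOf p S = sSup {A : Subgroup G | A ≤ S ∧ Cfsg.IsElementaryAbelian p A ∧
      ∀ B : Subgroup G, B ≤ S → Cfsg.IsElementaryAbelian p B → Nat.card B ≤ Nat.card A} := by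
  refine le_antisymm ?_ ?_
  · rw [Cfsg.thompsonSubgroupOf, Subgroup.map_le_iff_le_comap]
    refine sSup_le fun A hA => ?_
    rw [← Subgroup.map_le_iff_le_comap]
    obtain ⟨⟨hc, he⟩, hmax⟩ := hA
    refine le_sSup ⟨Subgroup.map_subtype_le A, ⟨?_, ?_⟩, fun B hB hBe => ?_⟩
    · haveI := hc; exact Subgroup.map_isMulCommutative A S.subtype
    · rintro _ ⟨a, ha, rfl⟩; rw [← map_pow, he a ha, map_one]
    · rw [← Nat.card_congr (A.equivMapOfInjective _ S.subtype_injective).toEquiv,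
        ← Nat.card_congr (Subgroup.subgroupOfEquivOfLe hB).toEquiv]
      refine hmax _ ⟨?_, fun b hb => Subtype.ext (hBe.2 b hb)⟩
      haveI := hBe.1
      exact ⟨⟨fun x y => Subtype.ext (Subtype.ext
        (CfsgLib.Solv.commute_of_isMulCommutative (A := B) x.2 y.2))⟩⟩
  · refine sSup_le fun A ⟨hAS, ⟨hc, he⟩, hmax⟩ => ?_
    have hmem : A.subgroupOf S ∈ Cfsg.maxElementaryAbelianSubgroups p S := by
      refine ⟨⟨?_, fun a ha => Subtype.ext (he a ha)⟩, fun B ⟨hBc, hBe⟩ => ?_⟩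
      · haveI := hc
        exact ⟨⟨fun x y => Subtype.ext (Subtype.ext
          (CfsgLib.Solv.commute_of_isMulCommutative (A := A) x.2 y.2))⟩⟩
      · rw [Nat.card_congr (B.equivMapOfInjective _ S.subtype_injective).toEquiv,
          Nat.card_congr (Subgroup.subgroupOfEquivOfLe hAS).toEquiv]
        haveI := hBc
        refine hmax _ (Subgroup.map_subtype_le B) ⟨Subgroup.map_isMulCommutative B S.subtype, ?_⟩
        rintro _ ⟨b, hb, rfl⟩; rw [← map_pow, hBe b hb, map_one]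
    intro a ha
    exact ⟨⟨a, hAS ha⟩, le_sSup hmem (show (⟨a, hAS ha⟩ : S) ∈ A.subgroupOf S from ha), rfl⟩

/-- The action of `K` by conjugation on a normal subgroup. -/
def actHom (K V : Subgroup G) [V.Normal] : K →* MulAut V := MulAut.conjNormal.comp K.subtype

theorem actHom_apply (K V : Subgroup G) [V.Normal] (k : K) (v : V) :
    ((actHom K V k v : V) : G) = (k : G) * v * (k : G)⁻¹ := MulAut.conjNormal_apply _ _

/-- Every elementary abelian 2-subgroup of largest order lies in the 2-core. -/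
theorem max_elementary_le_pCore [Finite G] (S : Sylow 2 G) [Group.IsSolvable G]
    (hO : Cfsg.pPrimeCore 2 G = ⊥) (hS4 : ¬ Cfsg.Involves (Equiv.Perm (Fin 4)) G)
    (hcl : ∀ x ∈ (S : Subgroup G), ∀ y ∈ (S : Subgroup G), ∀ z ∈ (S : Subgroup G),
      ⁅x, y⁆ * z = z * ⁅x, y⁆)
    {A : Subgroup G} (hAS : A ≤ S) (hA : Cfsg.IsElementaryAbelian 2 A)
    (hmax : ∀ B : Subgroup G, B ≤ S → Cfsg.IsElementaryAbelian 2 B → Nat.card B ≤ Nat.card A) :
    A ≤ Cfsg.pCore 2 G := by
  haveI : Fact (Nat.Prime 2) := ⟨Nat.prime_two⟩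
  set T := Cfsg.pCore 2 G with hT
  haveI hTn : T.Normal := normal_pCore 2
  have hTp : IsPGroup 2 T := isPGroup_pCore
  have hTS : T ≤ S := by
    obtain ⟨U, hU⟩ := hTp.exists_le_sylow
    obtain ⟨g, hg⟩ := MulAction.exists_smul_eq G U S
    intro x hx
    rw [← hg, Sylow.coe_subgroup_smul]
    exact ⟨g⁻¹ * x * g, hU (by simpa using hTn.conj_mem x hx g⁻¹), by simp [mul_assoc]⟩
  have hCT : Subgroup.centralizer (T : Set G) ≤ T := CfsgLib.Solv.centralizer_pCore_le hO
  let V : Subgroup G :=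
    { carrier := {v | v ∈ T ∧ (∀ t ∈ T, t * v = v * t) ∧ v ^ 2 = 1}
      one_mem' := ⟨T.one_mem, fun t _ => by simp, one_pow 2⟩
      mul_mem' := by
        rintro u v ⟨hu, huc, hu2⟩ ⟨hv, hvc, hv2⟩
        refine ⟨T.mul_mem hu hv, fun t ht => ?_, ?_⟩
        · rw [← mul_assoc, huc t ht, mul_assoc, hvc t ht, mul_assoc]
        · rw [(show Commute u v from hvc u hu).mul_pow, hu2, hv2, mul_one]
      inv_mem' := by
        rintro u ⟨hu, huc, hu2⟩
        exact ⟨T.inv_mem hu, fun t ht => (show Commute t u from huc t ht).inv_right.eq,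
          by rw [inv_pow, hu2, inv_one]⟩ }
  haveI hVn : V.Normal := ⟨fun v ⟨hv, hvc, hv2⟩ g => ⟨hTn.conj_mem v hv g, fun t ht => by
    have h1 := hvc _ (hTn.conj_mem t ht g⁻¹)
    calc t * (g * v * g⁻¹) = g * ((g⁻¹ * t * g⁻¹⁻¹) * v) * g⁻¹ := by simp [mul_assoc]
      _ = g * v * g⁻¹ * t := by rw [h1]; simp [mul_assoc],
    by rw [conj_pow, hv2]; simp⟩⟩
  set K := Subgroup.normalClosure ((S : Subgroup G) : Set G) with hKdef
  have hSK : (S : Subgroup G) ≤ K := Subgroup.le_normalClosure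
  -- `K` centralizes `T / Z(T)`
  let M : Subgroup G :=
    { carrier := {g | ∀ x ∈ T, g * x * g⁻¹ * x⁻¹ ∈ Subgroup.centralizer (T : Set G)}
      one_mem' := fun x _ => by simp
      mul_mem' := by
        intro g h hg hh x hx
        have h1 := hg _ (hTn.conj_mem x hx h)
        have h2 := hh x hx
        simpa [mul_assoc] using mul_mem h1 h2
      inv_mem' := by
        intro g hg x hx
        have h1 := hg _ (hTn.conj_mem x hx g⁻¹)
        simpa [mul_assoc] using inv_mem h1 }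
  haveI : M.Normal := ⟨fun m hm g x hx => by
    have h1 := (Subgroup.Normal.conj_mem (inferInstance : (Subgroup.centralizer (T : Set G)).Normal) _
      (hm _ (hTn.conj_mem x hx g⁻¹)) g)
    simpa [mul_assoc] using h1⟩
  have hKM : K ≤ M := Subgroup.normalClosure_le_normal fun s hs x hx => by
    refine Subgroup.mem_centralizer_iff.2 fun t ht => ?_
    have h1 := hcl s hs x (hTS hx) t (hTS ht)
    rw [commutatorElement_def] at h1
    exact h1.symm
  -- odd elements of `K` centralizing `V` are trivial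
  have hodd : ∀ y ∈ K, ∀ n : ℕ, Odd n → y ^ n = 1 → (∀ v ∈ V, y * v = v * y) → y = 1 := by
    intro y hy n hn hyn hyV
    have hpow : ∀ (x w : G), y * x * y⁻¹ = x * w → y * w = w * y → ∀ k : ℕ,
        y ^ k * x * (y ^ k)⁻¹ = x * w ^ k := by
      intro x w hxw hyw k
      induction k with
      | zero => simp
      | succ k ih =>
        calc y ^ (k + 1) * x * (y ^ (k + 1))⁻¹ = y * (y ^ k * x * (y ^ k)⁻¹) * y⁻¹ := by
              simp [pow_succ', mul_assoc]
          _ = (y * x * y⁻¹) * (y * w ^ k * y⁻¹) := by rw [ih]; simp [mul_assoc]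
          _ = x * w ^ (k + 1) := by
              rw [hxw, ((show Commute y w from hyw).pow_right k).eq, mul_inv_cancel_right, pow_succ',
                mul_assoc]
    have hstep : ∀ x w : G, w ∈ T → y * x * y⁻¹ = x * w → y * w = w * y → y * x = x * y := by
      intro x w hwT hxw hyw
      have h1 := hpow x w hxw hyw n
      rw [hyn, inv_one, one_mul, mul_one, left_eq_mul] at h1
      obtain ⟨j, hj⟩ := hTp ⟨w, hwT⟩
      have hj' : w ^ 2 ^ j = 1 := congrArg Subtype.val hj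
      have hw : w = 1 := orderOf_eq_one_iff.1 (Nat.eq_one_of_dvd_coprimes
        (Nat.Coprime.pow_left j (Nat.coprime_two_left.2 hn))
        (orderOf_dvd_of_pow_eq_one hj') (orderOf_dvd_of_pow_eq_one h1))
      rw [hw, mul_one, mul_inv_eq_iff_eq_mul] at hxw
      exact hxw
    have hZ : ∀ (j : ℕ) (z : G), z ∈ T → (∀ t ∈ T, t * z = z * t) → z ^ 2 ^ j = 1 → y * z = z * y := by
      intro j
      induction j with
      | zero => intro z _ _ hz; rw [pow_zero, pow_one] at hz; simp [hz]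
      | succ j ih =>
        intro z hzT hzc hz
        have h2 := ih (z ^ 2) (T.pow_mem hzT 2)
          (fun t ht => ((show Commute t z from hzc t ht).pow_right 2).eq)
          (by rw [← pow_mul, ← pow_succ', hz])
        have hyz : y * z * y⁻¹ ∈ T := hTn.conj_mem z hzT y
        have hwT : z⁻¹ * (y * z * y⁻¹) ∈ T := T.mul_mem (T.inv_mem hzT) hyz
        have hyzc : ∀ t ∈ T, t * (y * z * y⁻¹) = y * z * y⁻¹ * t := fun t ht => by
          have h1 := hzc _ (hTn.conj_mem t ht y⁻¹)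
          calc t * (y * z * y⁻¹) = y * ((y⁻¹ * t * y⁻¹⁻¹) * z) * y⁻¹ := by simp [mul_assoc]
            _ = y * z * y⁻¹ * t := by rw [h1]; simp [mul_assoc]
        refine hstep z _ hwT (by rw [mul_inv_cancel_left]) (hyV _ ⟨hwT, fun t ht =>
          (((show Commute t z from hzc t ht).inv_right).mul_right (hyzc t ht)).eq, ?_⟩)
        have hc : Commute z⁻¹ (y * z * y⁻¹) := (hyzc _ (T.inv_mem hzT))
        rw [hc.mul_pow, conj_pow, h2, mul_inv_cancel_right, inv_pow, inv_mul_cancel]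
    have hT1 : ∀ x ∈ T, y * x = x * y := by
      intro x hx
      have h1 := hKM hy x hx
      have hwT : x⁻¹ * (y * x * y⁻¹) ∈ T := T.mul_mem (T.inv_mem hx) (hTn.conj_mem x hx y)
      have hwc : ∀ t ∈ T, t * (x⁻¹ * (y * x * y⁻¹)) = x⁻¹ * (y * x * y⁻¹) * t := by
        have h2 := (inferInstance : (Subgroup.centralizer (T : Set G)).Normal).conj_mem _ h1 x⁻¹
        intro t ht
        have h3 := Subgroup.mem_centralizer_iff.1 h2 t ht
        simpa [mul_assoc] using h3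
      obtain ⟨j, hj⟩ := hTp ⟨_, hwT⟩
      exact hstep x _ hwT (by rw [mul_inv_cancel_left]) (hZ j _ hwT hwc (congrArg Subtype.val hj))
    have hyT : y ∈ T := hCT (fun t ht => (hT1 t ht).symm)
    obtain ⟨j, hj⟩ := hTp ⟨y, hyT⟩
    exact orderOf_eq_one_iff.1 (Nat.eq_one_of_dvd_coprimes
      (Nat.Coprime.pow_left j (Nat.coprime_two_left.2 hn))
      (orderOf_dvd_of_pow_eq_one (congrArg Subtype.val hj : y ^ 2 ^ j = 1)) (orderOf_dvd_of_pow_eq_one hyn))
  -- the kernel of the action of `K`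
  have hker : ∀ k ∈ K, (∀ v ∈ V, k * v = v * k) → k ∈ T := by
    have hP : IsPGroup 2 ↥(K ⊓ Subgroup.centralizer (V : Set G)) := by
      rw [IsPGroup.iff_orderOf]
      intro x
      obtain ⟨j, m, hm, hjm⟩ := Nat.exists_eq_two_pow_mul_odd (orderOf_pos x).ne'
      refine ⟨j, ?_⟩
      have h1 : ((x : G) ^ 2 ^ j) ^ m = 1 := by
        rw [← pow_mul, ← hjm, ← Subgroup.orderOf_coe x, pow_orderOf_eq_one]
      have h2 := hodd _ (K.pow_mem x.2.1 _) m hm h1 fun v hv =>
        ((show Commute v (x : G) from x.2.2 v hv).pow_right _).symm.eq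
      have h3 := orderOf_dvd_of_pow_eq_one h2
      rw [Subgroup.orderOf_coe] at h3
      exact Nat.dvd_antisymm h3 (hjm ▸ dvd_mul_right _ _)
    intro k hk hkV
    exact le_pCore (inferInstance : (K ⊓ Subgroup.centralizer (V : Set G)).Normal) hP
      ⟨hk, fun v hv => (hkV v hv).symm⟩
  set θ := actHom K V with hθ
  have hθ1 : ∀ k : K, θ k = 1 ↔ (k : G) ∈ T := by
    intro k
    constructor
    · intro h
      refine hker k k.2 fun v hv => ?_
      have h1 := congrArg (fun α : MulAut V => ((α ⟨v, hv⟩ : V) : G)) h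
      simp only [hθ, actHom_apply, MulAut.one_apply] at h1
      exact mul_inv_eq_iff_eq_mul.1 h1
    · intro hk
      refine MulEquiv.ext fun v => Subtype.ext ?_
      rw [hθ, actHom_apply, v.2.2.1 k hk, mul_inv_cancel_right]
      rfl
  have hO2 : Cfsg.pCore 2 θ.range = ⊥ := by
    rw [eq_bot_iff]
    intro α hα
    set N := (Cfsg.pCore 2 θ.range).comap θ.rangeRestrict
    have hNp : IsPGroup 2 N := by
      refine (isPGroup_pCore (G := θ.range) (p := 2)).comap_of_ker_isPGroup θ.rangeRestrict fun x => ?_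
      obtain ⟨j, hj⟩ := hTp ⟨((x : K) : G), (hθ1 x).1 (by
        exact congrArg Subtype.val (MonoidHom.mem_ker.1 x.2))⟩
      exact ⟨j, Subtype.ext (Subtype.ext (congrArg Subtype.val hj : ((x : K) : G) ^ 2 ^ j = 1))⟩
    haveI : (Cfsg.pCore 2 θ.range).Normal := normal_pCore 2
    have hle : N ≤ Cfsg.pCore 2 K := le_pCore inferInstance hNp
    haveI := characteristic_pCore (G := K) 2
    haveI : ((Cfsg.pCore 2 K).map K.subtype).Normal := ConjAct.normal_of_characteristic_of_normal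
    have hle' : (Cfsg.pCore 2 K).map K.subtype ≤ T := le_pCore inferInstance (isPGroup_pCore.map _)
    obtain ⟨k, rfl⟩ := θ.rangeRestrict_surjective α
    rw [Subgroup.mem_bot]
    exact Subtype.ext ((hθ1 k).2 (hle' ⟨k, hle hα, rfl⟩))
  have h3 : ∀ y ∈ θ.range, ∀ a ∈ θ.range, y ^ 3 = 1 → y ≠ 1 → a ^ 2 = 1 → a * y * a = y⁻¹ → False := by
    rintro _ ⟨y₁, rfl⟩ _ ⟨a₁, rfl⟩ hy3 hy1 ha2 hay
    have hV2 : ∀ v : V, v ^ 2 = 1 := fun v => Subtype.ext v.2.2.2
    have hVc : ∀ u v : V, u * v = v * u := fun u v => Subtype.ext (v.2.2.1 u u.2.1)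
    obtain ⟨j, hj⟩ := hTp ⟨((y₁ : G)) ^ 3, (hθ1 (y₁ ^ 3)).1 (by rw [map_pow, hy3])⟩
    have hj' : ((y₁ : G) ^ 3) ^ 2 ^ j = 1 := congrArg Subtype.val hj
    set y₀ := (y₁ : G) ^ 2 ^ j with hy₀
    have hy₀3 : y₀ ^ 3 = 1 := by rw [hy₀, ← pow_mul, mul_comm, pow_mul, hj']
    have hy₀T : y₀ ∉ T := fun h => hy1 (by
      have h1 : (θ y₁) ^ 2 ^ j = 1 := by rw [← map_pow]; exact (hθ1 _).2 h
      have : orderOf (θ y₁) = 1 := Nat.eq_one_of_dvd_coprimes
        (Nat.Coprime.pow_left j (by decide : Nat.Coprime 2 3))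
        (orderOf_dvd_of_pow_eq_one h1) (orderOf_dvd_of_pow_eq_one hy3)
      exact orderOf_eq_one_iff.1 this)
    have hy₀1 : y₀ ≠ 1 := fun h => hy₀T (h ▸ T.one_mem)
    set Y := Subgroup.zpowers y₀ ⊔ T with hY
    haveI : Fact (Nat.Prime 3) := ⟨Nat.prime_three⟩
    have hP3 : Nat.card (Subgroup.zpowers y₀) = 3 := by
      rw [Nat.card_zpowers, orderOf_three hy₀3 hy₀1]
    obtain ⟨l, hl⟩ := IsPGroup.iff_card.1 hTp
    have hYc : Nat.card Y = 3 * 2 ^ l := by
      have h1 := CfsgLib.Solv.card_sup_mul_card_inf (Subgroup.zpowers y₀) T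
      have hinf : Subgroup.zpowers y₀ ⊓ T = ⊥ := by
        refine (Subgroup.eq_bot_iff_card _).2 (Nat.eq_one_of_dvd_coprimes
          (Nat.Coprime.pow_right l (by decide : Nat.Coprime 3 2))
          (hP3 ▸ Subgroup.card_dvd_of_le inf_le_left) (hl ▸ Subgroup.card_dvd_of_le inf_le_right))
      rw [hinf, Subgroup.card_bot, mul_one, hP3, hl] at h1
      exact h1
    have hfac : (Nat.card Y).factorization 3 = 1 := by
      rw [hYc, Nat.factorization_mul (by norm_num) (pow_pos two_pos l).ne', Finsupp.add_apply,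
        Nat.Prime.factorization_self Nat.prime_three, Nat.Prime.factorization_pow Nat.prime_two,
        Finsupp.single_eq_of_ne (by norm_num), add_zero]
    -- the conjugate by `a₁` lies in `Y`
    set z₀ := (a₁ : G) * y₀ * (a₁ : G)⁻¹
    have hzy : z₀ * y₀ ∈ T := (hθ1 (a₁ * y₁ ^ 2 ^ j * a₁⁻¹ * y₁ ^ 2 ^ j)).1 (by
      have ha' : (θ a₁)⁻¹ = θ a₁ := inv_eq_of_mul_eq_one_right (by rw [← pow_two, ha2])
      simp only [map_mul, map_inv, map_pow]
      rw [← conj_pow, ha', hay, inv_pow, inv_mul_cancel])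
    have hz₀Y : z₀ ∈ Y := by
      have : z₀ = z₀ * y₀ * y₀⁻¹ := by simp
      rw [this]
      exact Y.mul_mem (Subgroup.mem_sup_right hzy) (Y.inv_mem (Subgroup.mem_sup_left (Subgroup.mem_zpowers y₀)))
    have hzord : orderOf z₀ = 3 := by
      refine orderOf_three (by rw [conj_pow, hy₀3]; simp) fun h => hy₀1 ?_
      rwa [conj_eq_one_iff] at h
    let P : Sylow 3 Y := Sylow.ofCard (Subgroup.zpowers ⟨y₀, Subgroup.mem_sup_left (Subgroup.mem_zpowers y₀)⟩)
      (by rw [Nat.card_zpowers, Subgroup.orderOf_mk, orderOf_three hy₀3 hy₀1, hfac, pow_one])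
    let Q : Sylow 3 Y := Sylow.ofCard (Subgroup.zpowers ⟨z₀, hz₀Y⟩)
      (by rw [Nat.card_zpowers, Subgroup.orderOf_mk, hzord, hfac, pow_one])
    obtain ⟨τ, hτ⟩ := MulAction.exists_smul_eq Y Q P
    have hτz : τ * ⟨z₀, hz₀Y⟩ * τ⁻¹ ∈ (P : Subgroup Y) := by
      rw [← hτ, Sylow.coe_subgroup_smul]
      exact ⟨⟨z₀, hz₀Y⟩, Subgroup.mem_zpowers _, rfl⟩
    obtain ⟨i, hi⟩ := Subgroup.mem_zpowers_iff.1 (show τ * ⟨z₀, hz₀Y⟩ * τ⁻¹ ∈ Subgroup.zpowers _ from hτz)
    set a₀ := (τ : G) * a₁ with ha₀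
    have hi' : y₀ ^ i = a₀ * y₀ * a₀⁻¹ := by
      have := congrArg (fun x : Y => (x : G)) hi
      simpa [ha₀, z₀, mul_assoc] using this
    -- `τ` acts as a power of `y`
    have hYK : Y ≤ K := sup_le (Subgroup.zpowers_le.2 (K.pow_mem y₁.2 _)) (hTS.trans hSK)
    have ha₀K : a₀ ∈ K := K.mul_mem (hYK τ.2) a₁.2
    obtain ⟨τ₁, hτ₁, τ₂, hτ₂, hτe⟩ := Subgroup.mem_sup_of_normal_right.1 τ.2
    obtain ⟨m, rfl⟩ := Subgroup.mem_zpowers_iff.1 hτ₁
    set y' := θ ⟨y₀, K.pow_mem y₁.2 _⟩ with hy'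
    have hθa₀ : θ ⟨a₀, ha₀K⟩ = y' ^ m * θ a₁ := by
      have : (⟨a₀, ha₀K⟩ : K) = (⟨y₀, K.pow_mem y₁.2 _⟩ : K) ^ m * ⟨τ₂, (hTS.trans hSK) hτ₂⟩ * a₁ := by
        apply Subtype.ext; simp [ha₀, ← hτe]
      rw [this, map_mul, map_mul, map_zpow, (hθ1 ⟨τ₂, _⟩).2 hτ₂, mul_one]
    have hy'3 : y' ^ (3 : ℤ) = 1 := by
      have h1 : (⟨y₀, K.pow_mem y₁.2 _⟩ : K) ^ (3 : ℕ) = 1 := Subtype.ext hy₀3
      rw [show (3 : ℤ) = ((3 : ℕ) : ℤ) from rfl, zpow_natCast, hy', ← map_pow, h1, map_one]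
    have hy'1 : y' ≠ 1 := fun h => hy₀T ((hθ1 _).1 h)
    have hinvert : θ a₁ * y' * (θ a₁)⁻¹ = y'⁻¹ := by
      have : y' = θ y₁ ^ 2 ^ j := by rw [hy', ← map_pow]; rfl
      have ha' : (θ a₁)⁻¹ = θ a₁ := inv_eq_of_mul_eq_one_right (by rw [← pow_two, ha2])
      rw [this, ← conj_pow, ha', hay, inv_pow]
    have hai : i = -1 ∨ ∃ k : ℤ, i = -1 + 3 * k := by
      right
      have h1 : θ ⟨a₀, ha₀K⟩ * y' * (θ ⟨a₀, ha₀K⟩)⁻¹ = y' ^ i := by
        rw [hy', ← map_inv, ← map_mul, ← map_mul, ← map_zpow]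
        exact congrArg θ (Subtype.ext (by simpa using hi'.symm))
      have h2 : θ ⟨a₀, ha₀K⟩ * y' * (θ ⟨a₀, ha₀K⟩)⁻¹ = y'⁻¹ := by
        rw [hθa₀]
        calc y' ^ m * θ a₁ * y' * (y' ^ m * θ a₁)⁻¹
            = y' ^ m * (θ a₁ * y' * (θ a₁)⁻¹) * (y' ^ m)⁻¹ := by simp [mul_assoc]
          _ = y'⁻¹ := by rw [hinvert, ((Commute.refl y').inv_right.zpow_left m).eq, mul_inv_cancel_right]
      rw [h2] at h1
      have h4 : orderOf y' = 3 := orderOf_three (by exact_mod_cast hy'3) hy'1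
      have h5 : (3 : ℤ) ∣ i + 1 := by
        have : y' ^ (i + 1) = 1 := by rw [zpow_add, ← h1, zpow_one, inv_mul_cancel]
        have := orderOf_dvd_iff_zpow_eq_one.2 this
        rwa [h4] at this
      obtain ⟨k, hk⟩ := h5
      exact ⟨k, by omega⟩
    have hay₀ : a₀ * y₀ * a₀⁻¹ = y₀⁻¹ := by
      rw [← hi']
      rcases hai with rfl | ⟨k, rfl⟩
      · exact zpow_neg_one y₀
      · rw [zpow_add, zpow_mul, zpow_neg_one, show (3 : ℤ) = ((3 : ℕ) : ℤ) from rfl, zpow_natCast, hy₀3,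
          one_zpow, mul_one]
    have ha₀sq : θ ⟨a₀, ha₀K⟩ * θ ⟨a₀, ha₀K⟩ = 1 := by
      rw [hθa₀]
      calc y' ^ m * θ a₁ * (y' ^ m * θ a₁) = y' ^ m * (θ a₁ * y' * (θ a₁)⁻¹) ^ m * (θ a₁ * θ a₁) := by
            rw [conj_zpow]; simp [mul_assoc]
        _ = 1 := by rw [hinvert, inv_zpow, mul_inv_cancel, one_mul, ← pow_two, ha2]
    -- a vector fixed by `a₀`, moved by `y₀`
    set α := θ ⟨a₀, ha₀K⟩ with hα
    obtain ⟨v, hv⟩ : ∃ v : V, y' v ≠ v := by
      by_contra hcon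
      push_neg at hcon
      exact hy'1 (MulEquiv.ext hcon)
    let f : V → V := fun v => v⁻¹ * y' v
    have hfm : ∀ u v : V, f (u * v) = f u * f v := fun u v => by
      simp only [f, map_mul, mul_inv_rev]
      rw [hVc v⁻¹ u⁻¹]
      calc u⁻¹ * v⁻¹ * (y' u * y' v) = u⁻¹ * ((v⁻¹ * y' u) * y' v) := by simp only [mul_assoc]
        _ = u⁻¹ * y' u * (v⁻¹ * y' v) := by rw [hVc v⁻¹ (y' u)]; simp only [mul_assoc]
    have hy'n : y' ^ 3 = 1 := by exact_mod_cast hy'3
    have hfix : ∀ u : V, y' (f u) = f u → f u = 1 := fun u hu => by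
      have := aut_fix_of_step hV2 (n := 3) (by decide) hy'n (u := u) (w := f u) (by simp [f]) hu
      simp [f, this]
    have hαy : α * y' = y'⁻¹ * α := by
      have h2 : α * y' * α⁻¹ = y'⁻¹ := by
        rw [hα, hy', ← map_inv, ← map_mul, ← map_mul, ← map_inv]
        exact congrArg θ (Subtype.ext (by simpa using hay₀))
      rw [← h2, inv_mul_cancel_right]
    set u' := y'⁻¹ (α v) with hu'
    have hαf : α (f v) = f u' := by
      have h1 : α (f v) = (α v)⁻¹ * u' := by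
        show α (v⁻¹ * y' v) = _
        rw [map_mul, map_inv, ← MulAut.mul_apply, hαy, MulAut.mul_apply]
      have h2 : f u' = u'⁻¹ * α v := by
        show u'⁻¹ * y' u' = _
        rw [hu', MulAut.apply_inv_self]
      have h3 : (α v)⁻¹ * u' = ((α v)⁻¹ * u')⁻¹ :=
        (inv_eq_of_mul_eq_one_right (by rw [← pow_two, hV2])).symm
      rw [h1, h2, h3, mul_inv_rev, inv_inv]
    have hfv : f v ≠ 1 := fun h => hv (inv_mul_eq_one.1 h).symm
    obtain ⟨u, hw1, hαw⟩ : ∃ u : V, f u ≠ 1 ∧ α (f u) = f u := by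
      by_cases hfx : α (f v) = f v
      · exact ⟨v, hfv, hfx⟩
      · refine ⟨v * u', ?_, ?_⟩
        · rw [hfm, ← hαf]
          intro h
          have h' : α (f v) = (f v)⁻¹ := eq_inv_of_mul_eq_one_right h
          exact hfx (h'.trans (inv_eq_of_mul_eq_one_right (by rw [← pow_two, hV2])))
        · have hinv2 : ∀ x : V, α (α x) = x := fun x => congrArg (fun β : MulAut V => β x) ha₀sq
          rw [hfm, ← hαf, map_mul, hinv2, hVc]
    have hyw : y' (f u) ≠ f u := fun h => hw1 (hfix u h)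
    have hsum : f u * y' (f u) * (y' ^ 2) (f u) = 1 := by
      have hy3u : (y' ^ 2) (y' u) = u := by
        rw [← MulAut.mul_apply, ← pow_succ, hy'n]; rfl
      simp only [f, map_mul, map_inv, hy3u]
      have e : (y' ^ 2) u = y' (y' u) := by rw [pow_two]; rfl
      rw [e]
      simp [mul_assoc]
    refine hS4 (involves_s4_of_config (w := ((f u : V) : G)) (y := y₀) (a := a₀) ?_ ?_ hy₀3 ?_ ?_ ?_ ?_ hay₀ ?_)
    · exact congrArg Subtype.val (hV2 (f u))
    · exact fun h => hw1 (Subtype.ext h)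
    · intro h
      exact hyw (Subtype.ext (by rw [hy', hθ, actHom_apply]; exact h))
    · have := congrArg (fun x : V => (x : G)) hsum
      rw [pow_two] at this
      simpa [hy', hθ, actHom_apply, pow_two, mul_assoc] using this
    · exact ((hVn.conj_mem _ (f u).2 y₀).2.1 _ (f u).2.1)
    · have := congrArg (fun x : V => (x : G)) hαw
      simpa [hα, hθ, actHom_apply] using this
    · intro i
      have hT2 : a₀ ^ 2 ∈ T := (hθ1 (⟨a₀, ha₀K⟩ ^ 2)).1 (by rw [map_pow, pow_two]; exact ha₀sq)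
      rw [(hVn.conj_mem _ (f u).2 _).2.1 _ hT2, mul_inv_cancel_right]
  -- the offender argument
  by_contra hAT
  haveI := hA.1
  let g : A →* θ.range :=
    θ.rangeRestrict.comp ((A.subtype).codRestrict K fun a => hSK (hAS a.2))
  have hgker : g.ker = T.subgroupOf A := by
    ext a
    rw [MonoidHom.mem_ker, Subgroup.mem_subgroupOf]
    constructor
    · intro h
      exact (hθ1 _).1 (congrArg Subtype.val h)
    · intro h
      exact Subtype.ext ((hθ1 _).2 h)
  have hne : g.range ≠ ⊥ := by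
    intro h
    apply hAT
    intro a ha
    have h1 : g ⟨a, ha⟩ ∈ g.range := ⟨_, rfl⟩
    rw [h, Subgroup.mem_bot] at h1
    have : (⟨a, ha⟩ : A) ∈ g.ker := h1
    rwa [hgker] at this
  haveI : Group.IsSolvable θ.range := Group.isSolvable_of_surjective θ.rangeRestrict_surjective
  have hbound := offender_bound (V := V) (fun u v => Subtype.ext (v.2.2.1 u u.2.1))
    (fun v => Subtype.ext v.2.2.2) θ.range hO2 h3 g.range
    ⟨⟨by
      rintro ⟨_, a, rfl⟩ ⟨_, b, rfl⟩
      refine Subtype.ext ?_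
      show g a * g b = g b * g a
      rw [← map_mul, ← map_mul]
      exact congrArg g (Subtype.ext (CfsgLib.Solv.commute_of_isMulCommutative a.2 b.2))⟩⟩
    (by rintro _ ⟨a, rfl⟩; rw [← map_pow]; rw [show a ^ 2 = 1 from Subtype.ext (hA.2 a a.2), map_one])
    hne
  -- compare with `(A ∩ T) V`
  set P := fixedBy (((↑) : θ.range → MulAut V) '' (g.range : Set θ.range)) with hP
  have hAg : Nat.card A = Nat.card ↥(A ⊓ T) * Nat.card g.range := by
    rw [← g.ker.card_mul_index, Subgroup.index_ker, hgker]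
    congr 1
    rw [← Subgroup.inf_subgroupOf_left]
    exact Nat.card_congr (Subgroup.subgroupOfEquivOfLe inf_le_left).toEquiv
  have hB : Cfsg.IsElementaryAbelian 2 ((A ⊓ T) ⊔ V) := by
    have hcomm : ∀ x ∈ (A ⊓ T) ⊔ V, ∃ a ∈ A ⊓ T, ∃ v ∈ V, a * v = x := fun x hx =>
      Subgroup.mem_sup_of_normal_right.1 hx
    refine ⟨⟨⟨fun x y => Subtype.ext ?_⟩⟩, fun x hx => ?_⟩
    · obtain ⟨a, ha, u, hu, hxe⟩ := hcomm x x.2
      obtain ⟨b, hb, v, hv, hye⟩ := hcomm y y.2
      show (x : G) * y = y * x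
      rw [← hxe, ← hye]
      have c1 : Commute a b := CfsgLib.Solv.commute_of_isMulCommutative ha.1 hb.1
      have c2 : Commute a v := hv.2.1 a ha.2
      have c3 : Commute b u := hu.2.1 b hb.2
      have c4 : Commute u v := hv.2.1 u hu.1
      exact ((c1.mul_right c2).mul_left ((c3.symm).mul_right c4)).eq
    · obtain ⟨a, ha, v, hv, rfl⟩ := hcomm x hx
      rw [(show Commute a v from hv.2.1 a ha.2).mul_pow, hA.2 a ha.1, hv.2.2, mul_one]
  have h1 := hmax _ (sup_le (inf_le_left.trans hAS) (fun v (hv : v ∈ V) => hTS hv.1)) hB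
  have h2 := CfsgLib.Solv.card_sup_mul_card_inf (A ⊓ T) V
  have h4 : Nat.card ↥(A ⊓ T ⊓ V) ≤ Nat.card P := by
    refine Nat.card_le_card_of_injective (fun x => (⟨⟨x, x.2.2⟩, ?_⟩ : P)) fun x y hxy =>
      Subtype.ext (congrArg (fun z : P => ((z : V) : G)) hxy)
    rintro _ ⟨_, ⟨a, rfl⟩, rfl⟩
    refine Subtype.ext ?_
    show ((θ ⟨a, hSK (hAS a.2)⟩ ⟨x, x.2.2⟩ : V) : G) = x
    rw [hθ, actHom_apply]
    show (a : G) * x * (a : G)⁻¹ = x
    rw [CfsgLib.Solv.commute_of_isMulCommutative a.2 x.2.1.1, mul_inv_cancel_right]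
  have hpos : 0 < Nat.card ↥(A ⊓ T) := Nat.card_pos
  have : Nat.card ↥(A ⊓ T) * (Nat.card g.range * Nat.card P) < Nat.card ↥(A ⊓ T) * Nat.card V :=
    Nat.mul_lt_mul_of_pos_left hbound hpos
  rw [← h2, ← mul_assoc, ← hAg] at this
  exact absurd (Nat.mul_le_mul h1 h4) (by omega)

/-- The factorization. -/
theorem thompson_factorization [Finite G] [Group.IsSolvable G]
    (hS4 : ¬ Cfsg.Involves (Equiv.Perm (Fin 4)) G) (S : Sylow 2 G)
    (hcl : Subgroup.lowerCentralSeries (S : Subgroup G) 2 = ⊥) :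
    Subgroup.normalizer ((Cfsg.thompsonSubgroupOf 2 (S : Subgroup G)) : Set G) ⊔ Cfsg.pPrimeCore 2 G = ⊤ := by
  haveI : Fact (Nat.Prime 2) := ⟨Nat.prime_two⟩
  haveI hNn := normal_pPrimeCore (G := G) 2
  have hNc := coprime_card_pPrimeCore (G := G) 2
  set N := Cfsg.pPrimeCore 2 G with hN
  set π := QuotientGroup.mk' N with hπ
  have hπs : Function.Surjective π := QuotientGroup.mk'_surjective N
  let S' : Sylow 2 (G ⧸ N) := S.mapSurjective hπs
  have hinj : Function.Injective (π.comp (S : Subgroup G).subtype) := by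
    refine (injective_iff_map_eq_one _).2 fun x hx => ?_
    have hxN : (x : G) ∈ N := (QuotientGroup.eq_one_iff _).1 hx
    obtain ⟨k, hk⟩ := S.isPGroup' x
    have h1 : orderOf (x : G) ∣ Nat.card N := by
      rw [← Subgroup.orderOf_mk (x : G) hxN]; exact orderOf_dvd_natCard _
    exact Subtype.ext (orderOf_eq_one_iff.1 (Nat.eq_one_of_dvd_coprimes (hNc.pow_right k) h1
      (orderOf_dvd_of_pow_eq_one (congrArg Subtype.val hk : (x : G) ^ 2 ^ k = 1))))
  let e : (S : Subgroup G) ≃* (S' : Subgroup (G ⧸ N)) :=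
    (MonoidHom.ofInjective hinj).trans (MulEquiv.subgroupCongr
      (by rw [MonoidHom.range_comp, Subgroup.range_subtype]; rfl))
  have hJ : (Cfsg.thompsonSubgroupOf 2 (S : Subgroup G)).map π =
      Cfsg.thompsonSubgroupOf 2 (S' : Subgroup (G ⧸ N)) := by
    rw [Cfsg.thompsonSubgroupOf, Cfsg.thompsonSubgroupOf, ← thompsonSubgroup_map e 2, Subgroup.map_map,
      Subgroup.map_map]
    rfl
  have hcl' : ∀ x ∈ (S' : Subgroup (G ⧸ N)), ∀ y ∈ (S' : Subgroup (G ⧸ N)),
      ∀ z ∈ (S' : Subgroup (G ⧸ N)), ⁅x, y⁆ * z = z * ⁅x, y⁆ := by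
    rintro _ ⟨x, hx, rfl⟩ _ ⟨y, hy, rfl⟩ _ ⟨z, hz, rfl⟩
    rw [← map_commutatorElement, ← map_mul, ← map_mul]
    refine congrArg π ?_
    have h1 : ⁅x, y⁆ ∈ Subgroup.lowerCentralSeries (S : Subgroup G) 1 := by
      rw [Subgroup.lowerCentralSeries_succ, Subgroup.lowerCentralSeries_zero]
      exact Subgroup.commutator_mem_commutator hx hy
    rw [Subgroup.lowerCentralSeries_succ, Subgroup.commutator_eq_bot_iff_le_centralizer] at hcl
    exact (Subgroup.mem_centralizer_iff.1 (hcl h1) z hz).symm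
  have hO : Cfsg.pPrimeCore 2 (G ⧸ N) = ⊥ := pPrimeCore_quotient_eq_bot 2
  haveI : Group.IsSolvable (G ⧸ N) := Group.isSolvable_of_surjective hπs
  haveI hJn : (Cfsg.thompsonSubgroupOf 2 (S' : Subgroup (G ⧸ N))).Normal := by
    rw [thompsonSubgroupOf_eq_sSup]
    refine ⟨fun n hn g => ?_⟩
    refine (show Subgroup.map (MulAut.conj g).toMonoidHom _ ≤ _ from ?_) ⟨n, hn, rfl⟩
    rw [Subgroup.map_le_iff_le_comap]
    refine sSup_le fun A ⟨hAS, hA, hmax⟩ => ?_
    rw [← Subgroup.map_le_iff_le_comap]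
    have hle := max_elementary_le_pCore S' hO (fun h => hS4 (involves_comap hπs h)) hcl' hAS hA hmax
    have hTS : Cfsg.pCore 2 (G ⧸ N) ≤ (S' : Subgroup (G ⧸ N)) := by
      obtain ⟨U, hU⟩ := (isPGroup_pCore (G := G ⧸ N) (p := 2)).exists_le_sylow
      obtain ⟨b, hb⟩ := MulAction.exists_smul_eq (G ⧸ N) U S'
      intro x hx
      rw [← hb, Sylow.coe_subgroup_smul]
      exact ⟨b⁻¹ * x * b, hU (by simpa using (normal_pCore 2).conj_mem x hx b⁻¹), by simp [mul_assoc]⟩
    refine le_sSup ⟨?_, ⟨?_, ?_⟩, fun B hB hBe => ?_⟩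
    · rintro _ ⟨a, ha, rfl⟩
      exact hTS ((normal_pCore 2).conj_mem a (hle ha) g)
    · haveI := hA.1
      exact Subgroup.map_isMulCommutative A _
    · rintro _ ⟨a, ha, rfl⟩; rw [← map_pow, hA.2 a ha, map_one]
    · rw [← Nat.card_congr (A.equivMapOfInjective _ (MulAut.conj g).injective).toEquiv]
      exact hmax B hB hBe
  -- Frattini
  set J := Cfsg.thompsonSubgroupOf 2 (S : Subgroup G) with hJdef
  haveI hJNn : (J ⊔ N).Normal := by
    have : J ⊔ N = (J.map π).comap π := by rw [Subgroup.comap_map_eq, QuotientGroup.ker_mk']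
    rw [this, hJ]
    exact hJn.comap π
  have hJp : IsPGroup 2 J := S.isPGroup'.to_le (Subgroup.map_subtype_le _)
  obtain ⟨k, hk⟩ := IsPGroup.iff_card.1 hJp
  have hinf : J ⊓ N = ⊥ := by
    refine (Subgroup.eq_bot_iff_card _).2 (Nat.eq_one_of_dvd_coprimes (hNc.symm.pow_left k)
      (hk ▸ Subgroup.card_dvd_of_le inf_le_left) (Subgroup.card_dvd_of_le inf_le_right))
  have hcard : Nat.card ↥(J ⊔ N) = 2 ^ k * Nat.card N := by
    have := CfsgLib.Solv.card_sup_mul_card_inf J N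
    rwa [hinf, Subgroup.card_bot, mul_one, hk] at this
  let P : Sylow 2 ↥(J ⊔ N) := Sylow.ofCard (J.subgroupOf (J ⊔ N)) (by
    rw [Nat.card_congr (Subgroup.subgroupOfEquivOfLe le_sup_left).toEquiv, hk, hcard,
      Nat.factorization_mul (pow_pos two_pos k).ne' Nat.card_pos.ne', Finsupp.add_apply,
      Nat.Prime.factorization_pow Nat.prime_two, Finsupp.single_eq_same,
      Nat.factorization_eq_zero_of_not_dvd ((Nat.prime_two.coprime_iff_not_dvd).1 hNc.symm), add_zero])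
  have h := P.normalizer_sup_eq_top
  rw [show (P : Subgroup ↥(J ⊔ N)).map (J ⊔ N).subtype = J from by
    show (J.subgroupOf (J ⊔ N)).map (J ⊔ N).subtype = J
    rw [Subgroup.subgroupOf_map_subtype, inf_eq_left.2 le_sup_left]] at h
  rw [eq_top_iff, ← h]
  exact sup_le le_sup_left (sup_le (Subgroup.le_normalizer.trans le_sup_left) le_sup_right)

end CfsgLib.Fus
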