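import Cfsg.Agent.Fus.SFourSection
import Cfsg.Agent.Fus.ThompsonFactor
import Cfsg.Agent.Fus.FunctorCore
import Cfsg.Agent.Inv.BaerSuzuki

/-!
Two transvections on an elementary abelian 2-subgroup generating more than a 2-group give an `S₄` section.
-/

set_option autoImplicit false
set_option linter.style.haveILetI false

open Cfsg
open scoped commutatorElement

namespace CfsgLib.Fus

variable {G : Type*} [Group G]

theorem involves_of_subgroup_type {H : Type*} [Group H] {K : Subgroup G} (h : Cfsg.Involves H ↥K) :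
    Cfsg.Involves H G := by
  obtain ⟨E, R, hn, ⟨e⟩⟩ := h
  haveI := hn
  let f : ↥(E.map K.subtype) →* ↥E ⧸ R.subgroupOf E :=
    (QuotientGroup.mk' _).comp (E.equivMapOfInjective K.subtype K.subtype_injective).symm.toMonoidHom
  have hf : Function.Surjective f :=
    (QuotientGroup.mk'_surjective _).comp (E.equivMapOfInjective K.subtype K.subtype_injective).symm.surjective
  have hker : f.ker = (f.ker.map (E.map K.subtype).subtype).subgroupOf (E.map K.subtype) :=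
    (Subgroup.comap_map_eq_self_of_injective (E.map K.subtype).subtype_injective _).symm
  haveI hn' : ((f.ker.map (E.map K.subtype).subtype).subgroupOf (E.map K.subtype)).Normal := hker ▸ inferInstance
  exact ⟨E.map K.subtype, f.ker.map (E.map K.subtype).subtype, hn',
    ⟨((QuotientGroup.quotientMulEquivOfEq hker.symm).trans (QuotientGroup.quotientKerEquivOfSurjective f hf)).trans e⟩⟩

variable [Finite G]

omit [Finite G] in
theorem conj_pow_two (g x : G) : g ^ 2 * x * (g ^ 2)⁻¹ = g * (g * x * g⁻¹) * g⁻¹ := by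
  rw [pow_two]; group

omit [Finite G] in
theorem conj_pow_three (g x : G) : g ^ 3 * x * (g ^ 3)⁻¹ = g * (g * (g * x * g⁻¹) * g⁻¹) * g⁻¹ := by
  rw [pow_succ, pow_two]; group

/-- An element permuting three involutions of a four-group cyclically and one fixing one of them and exchanging the others give
an `S₄` section. -/
theorem involves_s4_of_perm {e e' y b : G} (he : e * e = 1) (he' : e' * e' = 1) (hc : e * e' = e' * e) (he1 : e ≠ 1)
    (he'1 : e' ≠ 1) (hne : e ≠ e') (hy : y * e * y⁻¹ = e' ∧ y * e' * y⁻¹ = e * e')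
    (hb : b * e * b⁻¹ = e ∧ b * e' * b⁻¹ = e * e') : Cfsg.Involves (Equiv.Perm (Fin 4)) G := by
  haveI : Fact (Nat.Prime 3) := ⟨Nat.prime_three⟩
  -- the pointwise stabilizer and the cyclic part
  let C : Subgroup G :=
    { carrier := {g | g * e * g⁻¹ = e ∧ g * e' * g⁻¹ = e'}
      one_mem' := by constructor <;> group
      mul_mem' := fun {g k} hg hk => ⟨by
          calc g * k * e * (g * k)⁻¹ = g * (k * e * k⁻¹) * g⁻¹ := by group
            _ = e := by rw [hk.1, hg.1], by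
          calc g * k * e' * (g * k)⁻¹ = g * (k * e' * k⁻¹) * g⁻¹ := by group
            _ = e' := by rw [hk.2, hg.2]⟩
      inv_mem' := fun {g} hg => ⟨by conv_lhs => rw [← hg.1]
                                    group, by conv_lhs => rw [← hg.2]
                                              group⟩ }
  have hee' : e * e' ≠ 1 := fun h => hne (eq_inv_of_mul_eq_one_left h |>.trans (inv_eq_of_mul_eq_one_right he'))
  have hy2 : y * (e * e') * y⁻¹ = e := by
    calc y * (e * e') * y⁻¹ = y * e * y⁻¹ * (y * e' * y⁻¹) := by group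
      _ = e' * e * e' := by rw [hy.1, hy.2]; group
      _ = e := by rw [← hc, mul_assoc, he', mul_one]
  have hb2 : b * (e * e') * b⁻¹ = e' := by
    calc b * (e * e') * b⁻¹ = b * e * b⁻¹ * (b * e' * b⁻¹) := by group
      _ = e' := by rw [hb.1, hb.2, ← mul_assoc, he, one_mul]
  let Z : Subgroup G := Subgroup.closure ({y} ∪ (C : Set G))
  -- elements acting as powers of `y`
  have hCy : ∀ c ∈ C, y * c * y⁻¹ ∈ C := fun c hc' => by
    have h1 : c * (e * e') * c⁻¹ = e * e' := by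
      calc c * (e * e') * c⁻¹ = c * e * c⁻¹ * (c * e' * c⁻¹) := by group
        _ = e * e' := by rw [hc'.1, hc'.2]
    constructor
    · conv_lhs => rw [← hy2]
      calc y * c * y⁻¹ * (y * (e * e') * y⁻¹) * (y * c * y⁻¹)⁻¹ = y * (c * (e * e') * c⁻¹) * y⁻¹ := by group
        _ = e := by rw [h1, hy2]
    · conv_lhs => rw [← hy.1]
      calc y * c * y⁻¹ * (y * e * y⁻¹) * (y * c * y⁻¹)⁻¹ = y * (c * e * c⁻¹) * y⁻¹ := by group
        _ = e' := by rw [hc'.1, hy.1]
  have hCb : ∀ c ∈ C, b * c * b⁻¹ ∈ C := fun c hc' => by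
    have h1 : c * (e * e') * c⁻¹ = e * e' := by
      calc c * (e * e') * c⁻¹ = c * e * c⁻¹ * (c * e' * c⁻¹) := by group
        _ = e * e' := by rw [hc'.1, hc'.2]
    constructor
    · conv_lhs => rw [← hb.1]
      calc b * c * b⁻¹ * (b * e * b⁻¹) * (b * c * b⁻¹)⁻¹ = b * (c * e * c⁻¹) * b⁻¹ := by group
        _ = e := by rw [hc'.1, hb.1]
    · conv_lhs => rw [← hb2]
      calc b * c * b⁻¹ * (b * (e * e') * b⁻¹) * (b * c * b⁻¹)⁻¹ = b * (c * (e * e') * c⁻¹) * b⁻¹ := by group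
        _ = e' := by rw [h1, hb2]
  have hy3 : y ^ 3 ∈ C := by
    refine ⟨?_, ?_⟩
    · rw [conj_pow_three, hy.1, hy.2, hy2]
    · rw [conj_pow_three, hy.2, hy2, hy.1]
  have hby : b * y * b⁻¹ * y ∈ C := by
    have hbi : b⁻¹ * e * b = e := by conv_lhs => rw [← hb.1]
                                     group
    have hbi' : b⁻¹ * e' * b = e * e' := by conv_lhs => rw [← hb2]
                                            group
    refine ⟨?_, ?_⟩
    · calc b * y * b⁻¹ * y * e * (b * y * b⁻¹ * y)⁻¹ = b * (y * (b⁻¹ * (y * e * y⁻¹) * b) * y⁻¹) * b⁻¹ := by group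
        _ = e := by rw [hy.1, hbi', hy2, hb.1]
    · calc b * y * b⁻¹ * y * e' * (b * y * b⁻¹ * y)⁻¹ = b * (y * (b⁻¹ * (y * e' * y⁻¹) * b) * y⁻¹) * b⁻¹ := by group
        _ = b * (y * ((b⁻¹ * e * b) * (b⁻¹ * e' * b)) * y⁻¹) * b⁻¹ := by rw [hy.2]; group
        _ = e' := by rw [hbi, hbi', ← mul_assoc e e e', he, one_mul, hy.2, hb2]
  have hyZ : y ∈ Z := Subgroup.subset_closure (Or.inl rfl)
  have hCZ : C ≤ Z := fun c hc' => Subgroup.subset_closure (Or.inr hc')
  have hZcase : ∀ z ∈ Z, z ∈ C ∨ y⁻¹ * z ∈ C ∨ y * z ∈ C := by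
    let D : Subgroup G :=
      { carrier := {z | ∃ i : ℤ, (y ^ i)⁻¹ * z ∈ C}
        one_mem' := ⟨0, by simp⟩
        mul_mem' := by
          rintro z w ⟨i, hi⟩ ⟨j, hj⟩
          refine ⟨i + j, ?_⟩
          have hn : ∀ (k : ℤ), ∀ c ∈ C, (y ^ k)⁻¹ * c * y ^ k ∈ C := by
            have hN : y ∈ Subgroup.normalizer (C : Set G) := Subgroup.mem_normalizer_fintype hCy
            intro k c hc'
            simpa using (Subgroup.mem_normalizer_iff.1 ((Subgroup.normalizer (C : Set G)).zpow_mem hN (-k)) c).1 hc'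
          rw [show (y ^ (i + j))⁻¹ * (z * w) = (y ^ j)⁻¹ * ((y ^ i)⁻¹ * z) * y ^ j * ((y ^ j)⁻¹ * w) by
            rw [zpow_add]; group]
          exact C.mul_mem (hn j _ hi) hj
        inv_mem' := by
          rintro z ⟨i, hi⟩
          refine ⟨-i, ?_⟩
          have hN : y ∈ Subgroup.normalizer (C : Set G) := Subgroup.mem_normalizer_fintype hCy
          have h := (Subgroup.mem_normalizer_iff.1 ((Subgroup.normalizer (C : Set G)).zpow_mem hN i) _).1 (C.inv_mem hi)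
          simpa [mul_assoc] using h }
    intro z hz
    have hle : Z ≤ D := (Subgroup.closure_le D).2 (by
      rintro w (rfl | hw)
      · exact ⟨1, by simp⟩
      · exact ⟨0, by simpa using hw⟩)
    obtain ⟨i, hi⟩ := hle hz
    have h3 : (y ^ (3 * (i / 3))) ∈ C := by rw [zpow_mul, zpow_ofNat]; exact C.zpow_mem hy3 _
    have hsplit : y ^ i = y ^ (i % 3) * y ^ (3 * (i / 3)) := by rw [← zpow_add, show i % 3 + 3 * (i / 3) = i by omega]
    have hi' : (y ^ (i % 3))⁻¹ * z ∈ C := by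
      have hN : y ∈ Subgroup.normalizer (C : Set G) := Subgroup.mem_normalizer_fintype hCy
      have := C.mul_mem h3 hi
      rw [hsplit] at this
      simpa [mul_assoc] using this
    rcases (by omega : i % 3 = 0 ∨ i % 3 = 1 ∨ i % 3 = 2) with h | h | h <;> rw [h] at hi'
    · exact Or.inl (by simpa using hi')
    · exact Or.inr (Or.inl (by simpa using hi'))
    · refine Or.inr (Or.inr ?_)
      have := C.mul_mem hy3 hi'
      rwa [show y ^ 3 * ((y ^ (2 : ℤ))⁻¹ * z) = y * z by rw [zpow_ofNat]; group] at this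
  -- a Sylow 3-subgroup of `Z` and a normalizing element
  set N := Z ⊔ Subgroup.zpowers b with hN
  have hZb : ∀ z ∈ Z, b * z * b⁻¹ ∈ Z := by
    intro z hz
    have hle : Z ≤ Z.comap (MulAut.conj b).toMonoidHom := (Subgroup.closure_le _).2 (by
      rintro w (rfl | hw)
      · show b * w * b⁻¹ ∈ Z
        rw [show b * w * b⁻¹ = (b * w * b⁻¹ * w) * w⁻¹ by group]
        exact Z.mul_mem (hCZ hby) (Z.inv_mem hyZ)
      · exact hCZ (hCb w hw))
    exact hle hz
  obtain ⟨u, r, hr, hrN⟩ := Nat.exists_eq_pow_mul_and_not_dvd (orderOf_pos y).ne' 3 (by norm_num)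
  set q := y ^ r with hq
  have hqp : IsPGroup 3 ↥(Subgroup.zpowers q) := IsPGroup.of_card (n := u) (by
    rw [Nat.card_zpowers, hq, orderOf_pow, hrN, Nat.gcd_mul_left_left, Nat.mul_div_cancel _ (Nat.pos_of_ne_zero fun h => hr (by rw [h]; exact dvd_zero 3))])
  have hqZ : q ∈ Z := Z.pow_mem hyZ r
  have hqC : q ∉ C := fun h => by
    have hc' : y ∈ C := by
      have h1 : (3 : ℕ).Coprime r := (Nat.Prime.coprime_iff_not_dvd Nat.prime_three).2 hr
      have h2 := C.zpow_mem hy3 (Nat.gcdA 3 r)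
      have h3 := C.zpow_mem h (Nat.gcdB 3 r)
      have h4 := C.mul_mem h2 h3
      rw [hq, ← zpow_natCast, ← zpow_mul, ← zpow_natCast y r, ← zpow_mul, ← zpow_add, ← Nat.gcd_eq_gcd_ab,
        h1.gcd_eq_one, Nat.cast_one, zpow_one] at h4
      exact h4
    exact hne (hc'.1.symm.trans hy.1)
  obtain ⟨T, hqT, hT⟩ := Glau.exists_syl (p := 3) N (Subgroup.zpowers_le.2 (Subgroup.mem_sup_left hqZ)) hqp
  have hNZ : N ≤ Subgroup.normalizer (Z : Set G) :=
    sup_le Subgroup.le_normalizer (Subgroup.zpowers_le.2 (Subgroup.mem_normalizer_fintype hZb))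
  have hNC : N ≤ Subgroup.normalizer (C : Set G) :=
    sup_le ((Subgroup.closure_le _).2 (by
      rintro w (rfl | hw)
      · exact Subgroup.mem_normalizer_fintype hCy
      · exact Subgroup.le_normalizer hw))
      (Subgroup.zpowers_le.2 (Subgroup.mem_normalizer_fintype hCb))
  obtain ⟨n₀, hn₀, k, hk, hbk⟩ := Glau.frattini hT hNZ (Subgroup.mem_sup_right (Subgroup.mem_zpowers b) : b ∈ N)
  set Q := T ⊓ Z with hQ
  have hqQ : q ∈ Q := ⟨hqT (Subgroup.mem_zpowers q), hqZ⟩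
  -- an element of `Q` acting as `y`
  obtain ⟨y₁, hy₁Q, hy₁⟩ : ∃ y₁ ∈ Q, y⁻¹ * y₁ ∈ C := by
    rcases hZcase q hqZ with h | h | h
    · exact absurd h hqC
    · exact ⟨q, hqQ, h⟩
    · refine ⟨q⁻¹, Q.inv_mem hqQ, ?_⟩
      have h2 := (Subgroup.mem_normalizer_iff.1 (hNC (Subgroup.mem_sup_left (Z.inv_mem hyZ))) _).1 (C.inv_mem h)
      simpa [mul_assoc] using h2
  -- a normalizing element acting as `b`
  obtain ⟨a, ha, hab⟩ : ∃ a ∈ N ⊓ Subgroup.normalizer (Q : Set G), a * b⁻¹ ∈ C := by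
    have hy₁N : y₁ ∈ N ⊓ Subgroup.normalizer (Q : Set G) := ⟨Subgroup.mem_sup_left hy₁Q.2, Subgroup.le_normalizer hy₁Q⟩
    have hyn : ∀ c ∈ C, y⁻¹ * c * y ∈ C ∧ y * c * y⁻¹ ∈ C := fun c hc' =>
      ⟨by simpa using (Subgroup.mem_normalizer_iff.1 (hNC (Subgroup.mem_sup_left (Z.inv_mem hyZ))) c).1 hc', hCy c hc'⟩
    rcases hZcase n₀ hn₀.2 with h | h | h
    · refine ⟨k, hk, ?_⟩
      rw [hbk, show k * (n₀ * k)⁻¹ = n₀⁻¹ by group]
      exact C.inv_mem h
    · refine ⟨y₁ * k, mul_mem hy₁N hk, ?_⟩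
      rw [hbk, show y₁ * k * (n₀ * k)⁻¹ = y * ((y⁻¹ * y₁) * (y⁻¹ * n₀)⁻¹) * y⁻¹ by group]
      exact (hyn _ (C.mul_mem hy₁ (C.inv_mem h))).2
    · refine ⟨y₁⁻¹ * k, mul_mem (inv_mem hy₁N) hk, ?_⟩
      rw [hbk, show y₁⁻¹ * k * (n₀ * k)⁻¹ = (y⁻¹ * y₁)⁻¹ * (y⁻¹ * (y * n₀)⁻¹ * y) * 1 by group]
      · exact C.mul_mem (C.mul_mem (C.inv_mem hy₁) (hyn _ (C.inv_mem h)).1) C.one_mem
  have hact : ∀ g g' : G, g⁻¹ * g' ∈ C → g' * e * g'⁻¹ = g * e * g⁻¹ ∧ g' * e' * g'⁻¹ = g * e' * g⁻¹ := by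
    intro g g' h
    constructor
    · calc g' * e * g'⁻¹ = g * ((g⁻¹ * g') * e * (g⁻¹ * g')⁻¹) * g⁻¹ := by group
        _ = g * e * g⁻¹ := by rw [h.1]
    · calc g' * e' * g'⁻¹ = g * ((g⁻¹ * g') * e' * (g⁻¹ * g')⁻¹) * g⁻¹ := by group
        _ = g * e' * g⁻¹ := by rw [h.2]
  obtain ⟨hy1e, hy1e'⟩ := hact y y₁ hy₁
  rw [hy.1] at hy1e
  rw [hy.2] at hy1e'
  have hbN : b ∈ N := Subgroup.mem_sup_right (Subgroup.mem_zpowers b)
  obtain ⟨hae, hae'⟩ := hact b a (by
    simpa [mul_assoc] using (Subgroup.mem_normalizer_iff.1 (hNC (N.inv_mem hbN)) _).1 hab)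
  rw [hb.1] at hae
  rw [hb.2] at hae'
  -- pass to the quotient by the part of `Q` stabilizing the four-group
  set N₀ := Q ⊓ C with hN₀
  have hmem : ∀ g : G, g ∈ Subgroup.normalizer (Q : Set G) → g ∈ N → g ∈ Subgroup.normalizer (N₀ : Set G) :=
    fun g h1 h2 => Subgroup.inf_normalizer_le_normalizer_inf ⟨h1, hNC h2⟩
  have hcen : ∀ z : G, (∀ c ∈ C, c * z * c⁻¹ = z) → z ∈ Subgroup.normalizer (N₀ : Set G) := fun z hz =>
    Subgroup.mem_normalizer_fintype fun c hc' => by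
      have h : z * c * z⁻¹ = c := by
        calc z * c * z⁻¹ = (c * z * c⁻¹) * c * z⁻¹ := by rw [hz c hc'.2]
          _ = c := by group
      rw [h]
      exact hc'
  set H := Subgroup.normalizer (N₀ : Set G) with hH
  set w : ↥H := ⟨e, hcen e fun c hc' => hc'.1⟩ with hw
  set w' : ↥H := ⟨e', hcen e' fun c hc' => hc'.2⟩ with hw'
  set Y : ↥H := ⟨y₁, hmem y₁ (Subgroup.le_normalizer hy₁Q) (Subgroup.mem_sup_left hy₁Q.2)⟩ with hY
  set A : ↥H := ⟨a, hmem a ha.2 ha.1⟩ with hA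
  haveI : (N₀.subgroupOf H).Normal := Subgroup.normal_in_normalizer
  let π := QuotientGroup.mk' (N₀.subgroupOf H)
  have h3 : ∀ g : ↥H, g * g = 1 → π g = 1 → g = 1 := fun g hg hπ => by
    have hgQ : (g : G) ∈ Q := ((QuotientGroup.eq_one_iff g).1 hπ).1
    obtain ⟨j, hj⟩ := (hT.pg.to_le inf_le_left : IsPGroup 3 ↥Q) ⟨g, hgQ⟩
    have hj' : g ^ 3 ^ j = 1 := Subtype.ext (by simpa using congrArg Subtype.val hj)
    exact eq_one_of_sq_of_odd_pow (by rw [pow_two, hg]) (Odd.pow (by decide)) hj'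
  have hπone : ∀ g : ↥H, (g : G) ∈ N₀ → π g = 1 := fun g hg => (QuotientGroup.eq_one_iff g).2 hg
  refine involves_of_subgroup_type (K := H) (involves_comap (f := π) (QuotientGroup.mk'_surjective _) ?_)
  have f2 : y₁ * (e * e') * y₁⁻¹ = e := by
    calc y₁ * (e * e') * y₁⁻¹ = y₁ * e * y₁⁻¹ * (y₁ * e' * y₁⁻¹) := by group
      _ = e' * e * e' := by rw [hy1e, hy1e']; group
      _ = e := by rw [← hc, mul_assoc, he', mul_one]
  have e1 : Y * w * Y⁻¹ = w' := Subtype.ext hy1e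
  have e2 : Y * w' * Y⁻¹ = w * w' := Subtype.ext hy1e'
  have e3 : A * w * A⁻¹ = w := Subtype.ext hae
  have e4 : A * w' * A⁻¹ = w * w' := Subtype.ext hae'
  have hww : w * w = 1 := Subtype.ext he
  have hw'w' : w' * w' = 1 := Subtype.ext he'
  have hcw : w * w' = w' * w := Subtype.ext hc
  have e5 : A * (w * w') * A⁻¹ = w' := by
    calc A * (w * w') * A⁻¹ = A * w * A⁻¹ * (A * w' * A⁻¹) := by group
      _ = w' := by rw [e3, e4, ← mul_assoc, hww, one_mul]
  refine involves_s4_of_config (w := π w) (y := π Y) (a := π A) ?_ ?_ ?_ ?_ ?_ ?_ ?_ ?_ ?_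
  · rw [← map_pow, pow_two, hww, map_one]
  · exact fun h => he1 (congrArg Subtype.val (h3 w hww h))
  · rw [← map_pow]
    refine hπone _ ⟨Q.pow_mem hy₁Q 3, ?_⟩
    refine ⟨?_, ?_⟩
    · show y₁ ^ 3 * e * (y₁ ^ 3)⁻¹ = e
      rw [conj_pow_three, hy1e, hy1e', f2]
    · show y₁ ^ 3 * e' * (y₁ ^ 3)⁻¹ = e'
      rw [conj_pow_three, hy1e', f2, hy1e]
  · rw [← map_inv, ← map_mul, ← map_mul, e1]
    intro h
    have h6 : π (w' * w) = 1 := by rw [map_mul, h, ← map_mul, hww, map_one]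
    have h5 := h3 (w' * w) (by
      rw [mul_assoc, ← mul_assoc w w' w, hcw, mul_assoc w', hww, mul_one, hw'w']) h6
    exact hne (congrArg Subtype.val (eq_inv_of_mul_eq_one_left h5 |>.trans (inv_eq_of_mul_eq_one_right hww)).symm)
  · rw [← map_inv, ← map_mul, ← map_mul, ← map_mul, ← map_pow, ← map_inv, ← map_mul, ← map_mul, ← map_mul]
    rw [e1, conj_pow_two Y w, e1, e2]
    rw [← mul_assoc (w * w') w w', mul_assoc w w' w, ← hcw, ← mul_assoc w w w', hww, one_mul, hw'w', map_one]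
  · rw [← map_inv, ← map_mul, ← map_mul, ← map_mul, ← map_mul, e1, hcw]
  · rw [← map_inv, ← map_mul, ← map_mul, e3]
  · rw [← map_inv π A, ← map_inv π Y, ← map_mul, ← map_mul, map_inv π Y]
    refine eq_inv_of_mul_eq_one_left ?_
    rw [← map_mul]
    refine hπone _ ⟨?_, ?_⟩
    · exact Q.mul_mem ((Subgroup.mem_normalizer_iff.1 ha.2 _).1 hy₁Q) hy₁Q
    · have f1 : a * (e * e') * a⁻¹ = e' := congrArg Subtype.val e5
      have g1 : a⁻¹ * e * a = e := by conv_lhs => rw [← hae]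
                                      group
      have g2 : a⁻¹ * e' * a = e * e' := by conv_lhs => rw [← f1]
                                            group
      constructor
      · show a * y₁ * a⁻¹ * y₁ * e * (a * y₁ * a⁻¹ * y₁)⁻¹ = e
        calc a * y₁ * a⁻¹ * y₁ * e * (a * y₁ * a⁻¹ * y₁)⁻¹
            = a * (y₁ * (a⁻¹ * (y₁ * e * y₁⁻¹) * a) * y₁⁻¹) * a⁻¹ := by group
          _ = e := by rw [hy1e, g2, f2, hae]
      · show a * y₁ * a⁻¹ * y₁ * e' * (a * y₁ * a⁻¹ * y₁)⁻¹ = e'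
        calc a * y₁ * a⁻¹ * y₁ * e' * (a * y₁ * a⁻¹ * y₁)⁻¹
            = a * (y₁ * ((a⁻¹ * (y₁ * e' * y₁⁻¹) * a)) * y₁⁻¹) * a⁻¹ := by group
          _ = a * (y₁ * ((a⁻¹ * e * a) * (a⁻¹ * e' * a)) * y₁⁻¹) * a⁻¹ := by rw [hy1e']; group
          _ = e' := by rw [g1, g2, ← mul_assoc e e e', he, one_mul, hy1e', f1]
  · have hA2 : ∀ v : ↥H, v = w ∨ v = w' ∨ v = w * w' → π A ^ 2 * π v * (π A ^ 2)⁻¹ = π v := by
      intro v hv
      rw [← map_pow, ← map_inv, ← map_mul, ← map_mul, conj_pow_two A v]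
      rcases hv with rfl | rfl | rfl
      · rw [e3, e3]
      · rw [e4, e5]
      · rw [e5, e4]
    intro i
    have hi : π Y ^ (i : ℕ) * π w * (π Y ^ (i : ℕ))⁻¹ = π (Y ^ (i : ℕ) * w * (Y ^ (i : ℕ))⁻¹) := by
      simp only [map_mul, map_pow, map_inv]
    rw [hi]
    refine hA2 _ ?_
    fin_cases i
    · left; simp
    · right; left; simpa using e1
    · right; right
      show Y ^ 2 * w * (Y ^ 2)⁻¹ = _
      rw [conj_pow_two, e1, e2]

end CfsgLib.Fus
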