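import Cfsg.Agent.Fus.NormMoved
import Cfsg.Agent.Fus.TransvectionPair

/-!
An element of a central abelian normal subgroup fixed by the normalizers of the larger invariant subgroups of a Sylow subgroup
is central, if an abelian subgroup of maximal order moves it and the prime is odd or there is no `S₄` section.
-/

set_option autoImplicit false
set_option linter.style.haveILetI false

open Cfsg
open scoped commutatorElement

namespace CfsgLib.Fus

variable {L : Type*} [Group L] [Finite L] {p : ℕ} [hp : Fact p.Prime]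

omit [Finite L] hp in
/-- Commutation with a fixed element on an invariant abelian subgroup, as a homomorphism. -/
theorem comm_mul {U : Subgroup L} [U.Normal] (hUc : ∀ a ∈ U, ∀ b ∈ U, a * b = b * a) (t : L) {u v : L} (hu : u ∈ U)
    (hv : v ∈ U) : ⁅t, u * v⁆ = ⁅t, u⁆ * ⁅t, v⁆ := by
  have h2 : ⁅t, v⁆ ∈ U := by
    rw [commutatorElement_def]
    exact U.mul_mem (‹U.Normal›.conj_mem v hv t) (U.inv_mem hv)
  calc ⁅t, u * v⁆ = ⁅t, u⁆ * (u * ⁅t, v⁆ * u⁻¹) := by rw [commutatorElement_def, commutatorElement_def, commutatorElement_def]; group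
    _ = ⁅t, u⁆ * ⁅t, v⁆ := by rw [hUc u hu _ h2, mul_inv_cancel_right]

/-- A `p`-element moving an elementary abelian subgroup only in a subgroup of order at most `p` fixes its commutators. -/
theorem comm_fixed_of_small {U : Subgroup L} [U.Normal] (hUc : ∀ a ∈ U, ∀ b ∈ U, a * b = b * a)
    (hexp : ∀ a ∈ U, a ^ p = 1) {K : Subgroup L} (hKU : K ≤ U) (hsmall : Nat.card U ≤ p * Nat.card K) {t : L}
    (ht : ∃ n, t ^ p ^ n = 1) (hK : ∀ u ∈ K, t * u = u * t) :
    (∀ u ∈ U, ⁅t, ⁅t, u⁆⁆ = 1) ∧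
      ∀ u₀ ∈ U, ⁅t, u₀⁆ ≠ 1 → ∀ u ∈ U, ⁅t, u⁆ ∈ Subgroup.zpowers ⁅t, u₀⁆ := by
  have hmemU : ∀ u ∈ U, ⁅t, u⁆ ∈ U := fun u hu => by
    rw [commutatorElement_def]
    exact U.mul_mem (‹U.Normal›.conj_mem u hu t) (U.inv_mem hu)
  let φ : ↥U →* ↥U := MonoidHom.mk' (fun u => ⟨⁅t, (u : L)⁆, hmemU u u.2⟩)
    fun a b => Subtype.ext (comm_mul hUc t a.2 b.2)
  have hker : K.subgroupOf U ≤ φ.ker := fun u hu =>
    Subtype.ext (commutatorElement_eq_one_iff_commute.2 (hK u hu))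
  have hrange : Nat.card φ.range ≤ p := by
    rw [← Subgroup.index_ker]
    have h2 : Nat.card ↥(K.subgroupOf U) ≤ Nat.card φ.ker := Subgroup.card_le_of_le hker
    rw [Nat.card_congr (Subgroup.subgroupOfEquivOfLe hKU).toEquiv] at h2
    by_contra hlt
    push_neg at hlt
    have h3 := φ.ker.card_mul_index
    have h4 : Nat.card K * (p + 1) ≤ Nat.card φ.ker * φ.ker.index := Nat.mul_le_mul h2 hlt
    have h5 : 0 < Nat.card φ.ker := Nat.card_pos
    have h6 : 0 < Nat.card K := by haveI := Finite.of_injective _ K.subtype_injective; exact Nat.card_pos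
    nlinarith
  have gen : ∀ u₀ ∈ U, ⁅t, u₀⁆ ≠ 1 → ∀ u ∈ U, ⁅t, u⁆ ∈ Subgroup.zpowers ⁅t, u₀⁆ := by
    intro u₀ hu₀ hne u hu
    set g : ↥U := φ ⟨u₀, hu₀⟩ with hg
    have hgo : orderOf g = p := orderOf_eq_prime (Subtype.ext (by simpa using hexp _ g.2))
      fun h => hne (congrArg Subtype.val h)
    have heq : Subgroup.zpowers g = φ.range := Subgroup.eq_of_le_of_card_ge
      (Subgroup.zpowers_le.2 ⟨_, rfl⟩) (by rw [Nat.card_zpowers, hgo]; exact hrange)
    obtain ⟨i, hi⟩ := Subgroup.mem_zpowers_iff.1 (heq.ge ⟨⟨u, hu⟩, rfl⟩ : φ ⟨u, hu⟩ ∈ Subgroup.zpowers g)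
    refine Subgroup.mem_zpowers_iff.2 ⟨i, ?_⟩
    exact (Subgroup.coe_zpow U g i).symm.trans (congrArg Subtype.val hi)
  refine ⟨fun u hu => ?_, gen⟩
  by_cases hc : ⁅t, u⁆ = 1
  · rw [hc, commutatorElement_one_right]
  set c := ⁅t, u⁆ with hcdef
  have hcU : c ∈ U := hmemU u hu
  obtain ⟨k, hk⟩ := Subgroup.mem_zpowers_iff.1 (gen u hu hc c hcU)
  -- `t c t⁻¹ = c ^ (1 + k)`
  have hconj : t * c * t⁻¹ = c ^ (1 + k) := by
    rw [zpow_add, zpow_one, hk, ← hUc _ (hmemU c hcU) c hcU, commutatorElement_def, inv_mul_cancel_right]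
  have hit : ∀ N : ℕ, t ^ N * c * (t ^ N)⁻¹ = c ^ ((1 + k) ^ N) := by
    intro N
    induction N with
    | zero => simp
    | succ N ih =>
      calc t ^ (N + 1) * c * (t ^ (N + 1))⁻¹ = t * (t ^ N * c * (t ^ N)⁻¹) * t⁻¹ := by rw [pow_succ']; group
        _ = (t * c * t⁻¹) ^ ((1 + k) ^ N) := by rw [ih, conj_zpow]
        _ = c ^ ((1 + k) ^ (N + 1)) := by rw [hconj, ← zpow_mul, pow_succ']
  obtain ⟨n, hn⟩ := ht
  have h1 : c ^ ((1 + k) ^ (p ^ n)) = c ^ (1 : ℤ) := by rw [← hit, hn, zpow_one]; simp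
  have hco : orderOf c = p := orderOf_eq_prime (hexp c hcU) hc
  rw [zpow_eq_zpow_iff_modEq, hco] at h1
  have h2 : ((1 : ℤ) + k : ZMod p) ^ (p ^ n) = 1 := by
    have := (ZMod.intCast_eq_intCast_iff _ _ p).2 h1
    simpa using this
  rw [ZMod.pow_card_pow] at h2
  have h3 : c ^ k = 1 := by
    rw [← zpow_zero c, zpow_eq_zpow_iff_modEq, hco, ← ZMod.intCast_eq_intCast_iff]
    simpa using h2
  rw [← hk, h3]

/-- A central element of a Sylow subgroup lying in an abelian normal subgroup centralized by the normal `X`, with central `p`-th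
power, is central, provided that the normalizers of the invariant subgroups above `X` fix it, that an abelian subgroup of maximal
order lies outside `X` and that the prime is odd or there is no `S₄` section. -/
theorem central_of_offender {T X V A : Subgroup L} [X.Normal] [V.Normal] (hT : Glau.Syl p T ⊤) (hXT : X ≤ T)
    (hVX : V ≤ X) (hVc : ∀ v ∈ V, ∀ a ∈ X, a * v = v * a) {x : L} (hxV : x ∈ V) (hxT : ∀ t ∈ T, t * x = x * t)
    (hxp : x ^ p ∈ Subgroup.center L)
    (hN : ∀ R : Subgroup L, X < R → R ≤ T → T ≤ Subgroup.normalizer (R : Set L) →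
      ∀ l ∈ Subgroup.normalizer (R : Set L), l * x = x * l)
    (hAT : A ≤ T) (hA : ∀ a ∈ A, ∀ b ∈ A, a * b = b * a)
    (hAmax : ∀ B : Subgroup L, B ≤ T → (∀ a ∈ B, ∀ b ∈ B, a * b = b * a) → Nat.card B ≤ Nat.card A)
    (hAX : ¬ A ≤ X) (hsmall : p ≠ 2 ∨ ¬ Cfsg.Involves (Equiv.Perm (Fin 4)) L) : x ∈ Subgroup.center L := by
  classical
  have hUV : ∀ {a b : L}, a ∈ V → b ∈ V → a * b = b * a := fun ha hb => hVc _ hb _ (hVX ha)
  let U : Subgroup L :=
    { carrier := {v | v ∈ V ∧ v ^ p = 1}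
      one_mem' := ⟨one_mem _, one_pow p⟩
      mul_mem' := fun {a b} ha hb => ⟨mul_mem ha.1 hb.1, by
        rw [(show Commute a b from hUV ha.1 hb.1).mul_pow, ha.2, hb.2, one_mul]⟩
      inv_mem' := fun {a} ha => ⟨inv_mem ha.1, by rw [inv_pow, ha.2, inv_one]⟩ }
  haveI hUn : U.Normal := ⟨fun u hu g =>
    ⟨‹V.Normal›.conj_mem u hu.1 g, by rw [conj_pow, hu.2, mul_one, mul_inv_cancel]⟩⟩
  have hUc : ∀ a ∈ U, ∀ b ∈ U, a * b = b * a := fun a ha b hb => hUV ha.1 hb.1
  have hexp : ∀ a ∈ U, a ^ p = 1 := fun a ha => ha.2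
  have hUX : U ≤ X := fun u hu => hVX hu.1
  have hXU : ∀ a ∈ X, ∀ u ∈ U, a * u = u * a := fun a ha u hu => hVc u hu.1 a ha
  have hxU : ∀ h : L, ⁅h, x⁆ ∈ U := by
    intro h
    have hx' : h * x * h⁻¹ ∈ V := ‹V.Normal›.conj_mem x hxV h
    refine ⟨V.mul_mem hx' (V.inv_mem hxV), ?_⟩
    rw [commutatorElement_def, (show Commute (h * x * h⁻¹) x⁻¹ from hUV hx' (V.inv_mem hxV)).mul_pow, conj_pow,
      inv_pow, Subgroup.mem_center_iff.1 hxp h, mul_inv_cancel_right, mul_inv_cancel]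
  set M := Subgroup.centralizer ({x} : Set L) with hM
  have hMmem : ∀ {m : L}, m ∈ M ↔ m * x = x * m := Subgroup.mem_centralizer_singleton_iff
  have hTM : T ≤ M := fun t ht => hMmem.2 (hxT t ht)
  refine by_contra fun hx => ?_
  have htop : ∀ H : Subgroup L, (∀ l : L, l ∈ H) → H ≤ M → False := fun H hall hle =>
    hx (Subgroup.mem_center_iff.2 fun l => hMmem.1 (hle (hall l)))
  -- the centralizer of `U`
  set C := Subgroup.centralizer (U : Set L) with hC
  haveI hCn : C.Normal := Subgroup.normalizer_eq_top_iff.1 (eq_top_iff.2 fun g _ => CfsgLib.Glau.centralizer_normalizer ((Subgroup.normalizer_eq_top_iff.2 hUn).ge (Subgroup.mem_top g)))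
  have hCM : C ≤ M := by
    let δ : ↥C →* L := MonoidHom.mk' (fun c => ⁅(c : L), x⁆) fun a b => by
      show ⁅(a : L) * b, x⁆ = ⁅(a : L), x⁆ * ⁅(b : L), x⁆
      rw [commutatorElement_mul_left_eq_conj_mul, ← a.2 _ (hxU b), mul_inv_cancel_right]
      exact hUc _ (hxU b) _ (hxU a)
    have hR := hT.inf_normal (show (⊤ : Subgroup L) ≤ Subgroup.normalizer (C : Set L) by
      rw [Subgroup.normalizer_eq_top_iff.2 hCn])
    rw [top_inf_eq] at hR
    intro c hc
    have hk : ∀ d : ↥C, (d : L) ∈ T → δ d = 1 := fun d hd =>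
      commutatorElement_eq_one_iff_commute.2 (hxT _ hd)
    have h1 : δ ⟨c, hc⟩ ^ p = 1 := hexp _ (hxU c)
    have hdvd : ¬ p ∣ δ.ker.index := fun hd => by
      refine hR.idx (hd.trans ?_)
      exact Subgroup.index_dvd_of_le (fun d hd => hk d hd.1)
    have h2 : δ ⟨c, hc⟩ ^ δ.ker.index = 1 := by
      rw [← map_pow, ← MonoidHom.mem_ker]
      exact Subgroup.pow_index_mem δ.ker _
    have h3 := pow_gcd_eq_one.2 ⟨h1, h2⟩
    rw [(hp.out.coprime_iff_not_dvd.2 hdvd).gcd_eq_one, pow_one] at h3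
    exact hMmem.2 (commutatorElement_eq_one_iff_commute.1 h3)
  -- normal subgroups whose `p`-part is above `X`
  have hnormal : ∀ N : Subgroup L, N.Normal → X ≤ N → N ≤ M → ∀ t ∈ T, t ∈ N → t ∈ X := by
    intro N hNn hXN hNM t ht htN
    by_contra htX
    have hR : X < T ⊓ N := lt_of_le_of_ne (le_inf hXT hXN) fun h => htX (h.ge ⟨ht, htN⟩)
    refine htop ⊤ (fun l => Subgroup.mem_top l) (CfsgLib.Glau.le_of_frattini hT
      (show (⊤ : Subgroup L) ≤ Subgroup.normalizer (N : Set L) by rw [Subgroup.normalizer_eq_top_iff.2 hNn])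
      (inf_le_right.trans hNM) fun l hl => hMmem.2 (hN _ hR inf_le_left (fun s hs => ?_) l hl.2))
    exact Subgroup.mem_normalizer_fintype fun y hy =>
      ⟨T.mul_mem (T.mul_mem hs hy.1) (T.inv_mem hs), hNn.conj_mem y hy.2 s⟩
  have hCX : ∀ t ∈ T, t ∈ C → t ∈ X :=
    hnormal C hCn (fun a ha u hu => (hXU a ha u hu).symm) hCM
  -- offending subgroups
  let CU : Subgroup L → Subgroup L := fun B => U ⊓ Subgroup.centralizer (B : Set L)
  let off : Set (Subgroup L) :=
    {B | X < B ∧ B ≤ T ∧ Nat.card U * Nat.card X ≤ Nat.card B * Nat.card (CU B)}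
  have hoff : off.Nonempty := by
    refine ⟨A ⊔ X, lt_of_le_of_ne le_sup_right fun h => hAX (le_sup_left.trans h.ge), sup_le hAT hXT, ?_⟩
    have h1 := CfsgLib.Solv.card_sup_mul_card_inf A X
    have h2 := CfsgLib.Solv.card_sup_mul_card_inf (A ⊓ X) U
    have hab : ∀ a ∈ (A ⊓ X) ⊔ U, ∀ b ∈ (A ⊓ X) ⊔ U, a * b = b * a := by
      have hle : (A ⊓ X) ⊔ U ≤ Subgroup.centralizer (((A ⊓ X) ⊔ U : Subgroup L) : Set L) := by
        have e1 : A ⊓ X ≤ Subgroup.centralizer (((A ⊓ X) ⊔ U : Subgroup L) : Set L) :=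
          Subgroup.le_centralizer_iff.1 (sup_le (fun a ha b hb => hA b hb.1 a ha.1)
            fun u hu b hb => hXU b hb.2 u hu)
        exact sup_le e1 (Subgroup.le_centralizer_iff.1 (sup_le (fun a ha u hu => (hXU a ha.2 u hu).symm)
          fun u hu b hb => hUc b hb u hu))
      exact fun a ha b hb => hle hb a ha
    have h3 : Nat.card ↥(A ⊓ X ⊔ U) ≤ Nat.card A :=
      hAmax _ (sup_le (inf_le_left.trans hAT) (hUX.trans hXT)) hab
    have h4 : Nat.card ↥(A ⊓ X ⊓ U) ≤ Nat.card ↥(CU (A ⊔ X)) := Subgroup.card_le_of_le fun u hu =>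
      ⟨hu.2, fun b hb => by
        have hle : A ⊔ X ≤ Subgroup.centralizer ({u} : Set L) := sup_le
          (fun a ha => Subgroup.mem_centralizer_singleton_iff.2 (hA a ha u hu.1.1))
          (fun a ha => Subgroup.mem_centralizer_singleton_iff.2 (hXU a ha u hu.2))
        exact Subgroup.mem_centralizer_singleton_iff.1 (hle hb)⟩
    have h5 : 0 < Nat.card ↥(A ⊓ X) := Nat.card_pos
    refine le_of_mul_le_mul_right ?_ h5
    calc Nat.card U * Nat.card X * Nat.card ↥(A ⊓ X)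
        = Nat.card X * (Nat.card ↥(A ⊓ X ⊔ U) * Nat.card ↥(A ⊓ X ⊓ U)) := by rw [h2]; ring
      _ ≤ Nat.card X * (Nat.card A * Nat.card ↥(CU (A ⊔ X))) :=
          Nat.mul_le_mul le_rfl (Nat.mul_le_mul h3 h4)
      _ = Nat.card ↥(A ⊔ X) * Nat.card ↥(CU (A ⊔ X)) * Nat.card ↥(A ⊓ X) := by
          rw [mul_right_comm (Nat.card ↥(A ⊔ X)), h1]; ring
  obtain ⟨B, ⟨hXB, hBT, hBo⟩, hBmin⟩ := Set.exists_min_image off (fun B => Nat.card B) (Set.toFinite _) hoff
  have hpB : IsPGroup p ↥B := hT.pg.to_le hBT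
  have htp : ∀ t ∈ T, ∃ n, t ^ p ^ n = 1 := fun t ht => by
    obtain ⟨n, hn⟩ := hT.pg ⟨t, ht⟩
    exact ⟨n, congrArg Subtype.val hn⟩
  -- large subgroups of `B` fix no more
  have hbig : ∀ B₀ : Subgroup L, X < B₀ → B₀ < B → Nat.card B ≤ p * Nat.card B₀ →
      ∀ u ∈ U, (∀ b ∈ B₀, b * u = u * b) → ∀ b ∈ B, b * u = u * b := by
    intro B₀ hXB₀ hlt hcard u hu huB₀
    have hnot : ¬ Nat.card U * Nat.card X ≤ Nat.card B₀ * Nat.card (CU B₀) := fun h =>
      hlt.ne (Subgroup.eq_of_le_of_card_ge hlt.le (hBmin B₀ ⟨hXB₀, hlt.le.trans hBT, h⟩))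
    push_neg at hnot
    have hUp : IsPGroup p ↥U := hT.pg.to_le (hUX.trans hXT)
    obtain ⟨a, ha⟩ := IsPGroup.iff_card.1 (hT.pg.to_le (hlt.le.trans hBT) : IsPGroup p ↥B₀)
    obtain ⟨b, hb⟩ := IsPGroup.iff_card.1 (hUp.to_le inf_le_left : IsPGroup p ↥(CU B₀))
    obtain ⟨c, hc⟩ := IsPGroup.iff_card.1 hUp
    obtain ⟨d, hd⟩ := IsPGroup.iff_card.1 (hT.pg.to_le hXT : IsPGroup p ↥X)
    have hstep : p * (Nat.card B₀ * Nat.card (CU B₀)) ≤ Nat.card U * Nat.card X := by
      rw [ha, hb, hc, hd, ← pow_add, ← pow_add] at hnot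
      rw [ha, hb, hc, hd, ← pow_add, ← pow_add, ← pow_succ']
      exact Nat.pow_le_pow_right hp.out.pos (Nat.succ_le_of_lt ((Nat.pow_lt_pow_iff_right hp.out.one_lt).1 hnot))
    have hle : Nat.card (CU B₀) ≤ Nat.card (CU B) := by
      refine Nat.le_of_mul_le_mul_left ?_ (Nat.mul_pos hp.out.pos (Nat.card_pos (α := ↥B₀)))
      calc p * Nat.card B₀ * Nat.card (CU B₀) = p * (Nat.card B₀ * Nat.card (CU B₀)) := by ring
        _ ≤ Nat.card B * Nat.card (CU B) := hstep.trans hBo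
        _ ≤ p * Nat.card B₀ * Nat.card (CU B) := Nat.mul_le_mul hcard le_rfl
    have heq : CU B = CU B₀ := Subgroup.eq_of_le_of_card_ge
      (inf_le_inf_left U (Subgroup.centralizer_le hlt.le)) hle
    have huB : u ∈ CU B := heq ▸ ⟨hu, huB₀⟩
    exact huB.2
  -- the case of index `p`
  have hcase : Nat.card B ≤ p * Nat.card X → ∀ t ∈ B,
      (∀ u ∈ U, ⁅t, ⁅t, u⁆⁆ = 1) ∧
        ∀ u₀ ∈ U, ⁅t, u₀⁆ ≠ 1 → ∀ u ∈ U, ⁅t, u⁆ ∈ Subgroup.zpowers ⁅t, u₀⁆ := fun hle t ht =>
    comm_fixed_of_small hUc hexp (K := CU B) inf_le_left (by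
      refine le_of_mul_le_mul_right ?_ (Nat.card_pos (α := ↥X))
      calc Nat.card U * Nat.card X ≤ Nat.card B * Nat.card (CU B) := hBo
        _ ≤ p * Nat.card X * Nat.card (CU B) := Nat.mul_le_mul hle le_rfl
        _ = p * Nat.card (CU B) * Nat.card X := by ring) (htp t (hBT ht)) fun u hu => hu.2 t ht
  -- for the prime two index `p` gives `S₄`
  have hnot2 : p = 2 → ¬ Nat.card B ≤ p * Nat.card X := by
    intro h2 hle
    refine absurd ?_ (hsmall.resolve_left (not_not_intro h2))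
    subst h2
    obtain ⟨b, hbB, hbX⟩ := SetLike.exists_of_lt hXB
    have hbC : b ∉ C := fun h => hbX (hCX b (hBT hbB) h)
    have hb2 : b ^ 2 ∈ C := by
      have hidx : (X.subgroupOf B).index = 2 := by
        have h := (X.subgroupOf B).card_mul_index
        rw [Nat.card_congr (Subgroup.subgroupOfEquivOfLe hXB.le).toEquiv] at h
        have h1 : (X.subgroupOf B).index ≠ 1 := fun h1 =>
          hbX (Subgroup.index_eq_one.1 h1 ▸ Subgroup.mem_top (⟨b, hbB⟩ : ↥B) : (⟨b, hbB⟩ : ↥B) ∈ X.subgroupOf B)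
        have h0 : (X.subgroupOf B).index ≠ 0 := Subgroup.index_ne_zero_of_finite
        have h2 : (X.subgroupOf B).index ≤ 2 := by
          by_contra h2
          have h3 : Nat.card ↥X * 3 ≤ Nat.card ↥X * (X.subgroupOf B).index := Nat.mul_le_mul le_rfl (by omega)
          have := Nat.card_pos (α := ↥X)
          omega
        omega
      have h3 := Subgroup.mul_self_mem_of_index_two hidx (⟨b, hbB⟩ : ↥B)
      rw [pow_two]
      exact fun u hu => (hXU _ h3 u hu).symm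
    obtain ⟨u₀, hu₀, hne⟩ : ∃ u₀ ∈ U, ⁅b, u₀⁆ ≠ 1 := by
      by_contra h
      push_neg at h
      exact hbC fun u hu => (commutatorElement_eq_one_iff_commute.1 (h u hu)).symm
    obtain ⟨hquad, hgen⟩ := hcase hle b hbB
    have hbU : ∀ u ∈ U, b * u * b⁻¹ = u ∨ b * u * b⁻¹ = ⁅b, u₀⁆ * u := by
      intro u hu
      have h := hgen u₀ hu₀ hne u hu
      have he2 : ⁅b, u₀⁆ ^ 2 = 1 := hexp _ (by
        rw [commutatorElement_def]
        exact U.mul_mem (hUn.conj_mem u₀ hu₀ b) (U.inv_mem hu₀))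
      obtain ⟨i, hi⟩ := Subgroup.mem_zpowers_iff.1 h
      have hbu : b * u * b⁻¹ = ⁅b, u⁆ * u := by rw [commutatorElement_def]; group
      rcases Int.even_or_odd' i with ⟨k, rfl | rfl⟩
      · rw [zpow_mul, zpow_ofNat, he2, one_zpow] at hi
        exact Or.inl (by rw [hbu, ← hi, one_mul])
      · rw [zpow_add, zpow_mul, zpow_ofNat, he2, one_zpow, one_mul, zpow_one] at hi
        exact Or.inr (by rw [hbu, ← hi])
    set e := ⁅b, u₀⁆ with he
    have heU : e ∈ U := by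
      rw [he, commutatorElement_def]
      exact U.mul_mem (hUn.conj_mem u₀ hu₀ b) (U.inv_mem hu₀)
    have hbe : b * e * b⁻¹ = e := by
      have := hquad u₀ hu₀
      rw [← he, commutatorElement_eq_one_iff_commute] at this
      rw [this.eq, mul_inv_cancel_right]
    -- Baer–Suzuki in the action on `U`
    let π := QuotientGroup.mk' C
    have hπ : Function.Surjective π := QuotientGroup.mk'_surjective C
    by_contra hno
    let Ω : Set (Subgroup (L ⧸ C)) := Set.range fun g => Subgroup.zpowers (π (g * b * g⁻¹))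
    have hpair : ∀ Y ∈ Ω, ∀ Z ∈ Ω, IsPGroup 2 ↥(Y ⊔ Z) := by
      rintro _ ⟨g₁, rfl⟩ _ ⟨g₂, rfl⟩
      set b₁ := g₁ * b * g₁⁻¹ with hb₁
      set b₂ := g₂ * b * g₂⁻¹ with hb₂
      set e₁ := g₁ * e * g₁⁻¹ with he₁
      set e₂ := g₂ * e * g₂⁻¹ with he₂
      have hprop : ∀ g : L, (∀ u ∈ U, g * b * g⁻¹ * u * (g * b * g⁻¹)⁻¹ = u ∨
          g * b * g⁻¹ * u * (g * b * g⁻¹)⁻¹ = g * e * g⁻¹ * u) ∧
          g * b * g⁻¹ * (g * e * g⁻¹) * (g * b * g⁻¹)⁻¹ = g * e * g⁻¹ ∧ (g * b * g⁻¹) ^ 2 ∈ C := by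
        intro g
        refine ⟨fun u hu => ?_, ?_, by rw [conj_pow]; exact hCn.conj_mem _ hb2 g⟩
        · have hu' := hbU (g⁻¹ * u * g) (by simpa using hUn.conj_mem u hu g⁻¹)
          rcases hu' with h | h
          · left
            calc g * b * g⁻¹ * u * (g * b * g⁻¹)⁻¹ = g * (b * (g⁻¹ * u * g) * b⁻¹) * g⁻¹ := by group
              _ = u := by rw [h]; group
          · right
            calc g * b * g⁻¹ * u * (g * b * g⁻¹)⁻¹ = g * (b * (g⁻¹ * u * g) * b⁻¹) * g⁻¹ := by group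
              _ = g * e * g⁻¹ * u := by rw [h]; group
        · calc g * b * g⁻¹ * (g * e * g⁻¹) * (g * b * g⁻¹)⁻¹ = g * (b * e * b⁻¹) * g⁻¹ := by group
            _ = g * e * g⁻¹ := by rw [hbe]
      obtain ⟨h1U, h1e, h1C⟩ := hprop g₁
      obtain ⟨h2U, h2e, h2C⟩ := hprop g₂
      rw [← hb₁, ← he₁] at h1U h1e
      rw [← hb₁] at h1C
      rw [← hb₂, ← he₂] at h2U h2e
      rw [← hb₂] at h2C
      have he₁U : e₁ ∈ U := hUn.conj_mem e heU g₁
      have he₂U : e₂ ∈ U := hUn.conj_mem e heU g₂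
      have he₁2 : e₁ * e₁ = 1 := by rw [← pow_two]; exact hexp _ he₁U
      have he₂2 : e₂ * e₂ = 1 := by rw [← pow_two]; exact hexp _ he₂U
      have he₁ne : e₁ ≠ 1 := fun h => hne (by rw [he₁, conj_eq_one_iff] at h; exact h)
      have he₂ne : e₂ ≠ 1 := fun h => hne (by rw [he₂, conj_eq_one_iff] at h; exact h)
      have hcm := hUc e₁ he₁U e₂ he₂U
      set y := b₁ * b₂ with hy
      have hyconj : ∀ u, y * u * y⁻¹ = b₁ * (b₂ * u * b₂⁻¹) * b₁⁻¹ := fun u => by rw [hy]; group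
      have hmulc : ∀ (g : L) (u v : L), g * (u * v) * g⁻¹ = g * u * g⁻¹ * (g * v * g⁻¹) := fun g u v => by group
      by_cases hboth : b₁ * e₂ * b₁⁻¹ = e₁ * e₂ ∧ b₂ * e₁ * b₂⁻¹ = e₂ * e₁
      · exfalso
        refine hno (involves_s4_of_perm (y := y) (b := b₁) he₁2 he₂2 hcm he₁ne he₂ne ?_ ⟨?_, ?_⟩ ⟨h1e, hboth.1⟩)
        · intro h
          have := hboth.1
          rw [← h, h1e] at this
          exact he₁ne (left_eq_mul.1 (this.trans rfl))
        · rw [hyconj, hboth.2, hmulc, hboth.1, h1e, hcm, mul_assoc, he₁2, mul_one]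
        · rw [hyconj, h2e, hboth.1]
      -- otherwise the product is a `2`-element
      have hy4 : π y ^ 4 = 1 := by
        have hE : ∀ e', (e' = e₁ ∨ e' = e₂ ∨ e' = e₁ * e₂ ∨ e' = 1) → y ^ 2 * e' * (y ^ 2)⁻¹ = e' := by
          have hcases : (y * e₁ * y⁻¹ = e₁ ∧ y * e₂ * y⁻¹ = e₂) ∨ (y * e₁ * y⁻¹ = e₁ ∧ y * e₂ * y⁻¹ = e₁ * e₂) ∨
              (y * e₁ * y⁻¹ = e₂ * e₁ ∧ y * e₂ * y⁻¹ = e₂) := by
            rcases h1U e₂ he₂U with h1 | h1 <;> rcases h2U e₁ he₁U with h2 | h2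
            · exact Or.inl ⟨by rw [hyconj, h2, h1e], by rw [hyconj, h2e, h1]⟩
            · exact Or.inr (Or.inr ⟨by rw [hyconj, h2, hmulc, h1, h1e], by rw [hyconj, h2e, h1]⟩)
            · exact Or.inr (Or.inl ⟨by rw [hyconj, h2, h1e], by rw [hyconj, h2e, h1]⟩)
            · exact absurd ⟨h1, h2⟩ hboth
          have hsq : y ^ 2 * e₁ * (y ^ 2)⁻¹ = e₁ ∧ y ^ 2 * e₂ * (y ^ 2)⁻¹ = e₂ := by
            rw [conj_pow_two, conj_pow_two]
            rcases hcases with ⟨a1, a2⟩ | ⟨a1, a2⟩ | ⟨a1, a2⟩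
            · exact ⟨by rw [a1, a1], by rw [a2, a2]⟩
            · exact ⟨by rw [a1, a1], by rw [a2, hmulc, a1, a2, ← mul_assoc, he₁2, one_mul]⟩
            · exact ⟨by rw [a1, hmulc, a1, a2, ← mul_assoc, he₂2, one_mul], by rw [a2, a2]⟩
          rintro e' (rfl | rfl | rfl | rfl)
          exacts [hsq.1, hsq.2, by rw [hmulc, hsq.1, hsq.2], by group]
        have hy1 : ∀ u ∈ U, ∃ w, (w = e₁ ∨ w = e₂ ∨ w = e₁ * e₂ ∨ w = 1) ∧ y * u * y⁻¹ = w * u := by
          intro u hu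
          rcases h2U u hu with h2 | h2 <;> rcases h1U u hu with h1 | h1
          · exact ⟨1, by simp, by rw [hyconj, h2, h1, one_mul]⟩
          · exact ⟨e₁, by simp, by rw [hyconj, h2, h1]⟩
          · rcases h1U e₂ he₂U with h3 | h3
            · exact ⟨e₂, by simp, by rw [hyconj, h2, hmulc, h1, h3]⟩
            · exact ⟨e₁ * e₂, by simp, by rw [hyconj, h2, hmulc, h1, h3]⟩
          · rcases h1U e₂ he₂U with h3 | h3
            · exact ⟨e₁ * e₂, by simp, by rw [hyconj, h2, hmulc, h1, h3, ← mul_assoc, ← hcm]⟩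
            · refine ⟨e₂, by simp, ?_⟩
              rw [hyconj, h2, hmulc, h1, h3, hcm, mul_assoc, ← mul_assoc e₁, he₁2, one_mul]
        rw [← map_pow]
        refine (QuotientGroup.eq_one_iff _).2 fun u hu => ?_
        obtain ⟨w, hw, hwu⟩ := hy1 u hu
        have hwU : w ∈ U := by
          rcases hw with rfl | rfl | rfl | rfl
          exacts [he₁U, he₂U, U.mul_mem he₁U he₂U, U.one_mem]
        have hyw : y * w * y⁻¹ ∈ U := hUn.conj_mem w hwU y
        set v := y * w * y⁻¹ * w with hv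
        have hvU : v ∈ U := U.mul_mem hyw hwU
        have hy2u : y ^ 2 * u * (y ^ 2)⁻¹ = v * u := by
          rw [conj_pow_two, hwu, hmulc, hwu, hv]; group
        have hy2v : y ^ 2 * v * (y ^ 2)⁻¹ = v := by
          rw [hv, hmulc, hE w hw]
          congr 1
          calc y ^ 2 * (y * w * y⁻¹) * (y ^ 2)⁻¹ = y * (y ^ 2 * w * (y ^ 2)⁻¹) * y⁻¹ := by group
            _ = y * w * y⁻¹ := by rw [hE w hw]
        have h4 : y ^ 4 * u * (y ^ 4)⁻¹ = u := by
          rw [show y ^ 4 = (y ^ 2) ^ 2 by rw [← pow_mul], conj_pow_two, hy2u, hmulc, hy2v, hy2u, ← mul_assoc,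
            ← pow_two v, hexp v hvU, one_mul]
        exact (mul_inv_eq_iff_eq_mul.1 h4).symm
      -- dihedral
      set β := π b₁ with hβ
      have hβ2 : β ^ 2 = 1 := by rw [hβ, ← map_pow]; exact (QuotientGroup.eq_one_iff _).2 h1C
      have hγ2 : π b₂ ^ 2 = 1 := by rw [← map_pow]; exact (QuotientGroup.eq_one_iff _).2 h2C
      set η := π y with hη
      have hηb : π b₂ = β * η := by
        rw [hη, hy, map_mul π b₁ b₂, ← hβ, ← mul_assoc, ← pow_two, hβ2, one_mul]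
      have hinv : β * η * β⁻¹ = η⁻¹ := by
        have h := hγ2
        rw [hηb, pow_two] at h
        have hb' : β⁻¹ = β := inv_eq_of_mul_eq_one_right (by rw [← pow_two, hβ2])
        rw [hb']
        exact eq_inv_of_mul_eq_one_left (by rw [mul_assoc, h])
      have hnorm : Subgroup.zpowers β ≤ Subgroup.normalizer (Subgroup.zpowers η : Set (L ⧸ C)) := by
        rw [Subgroup.zpowers_le]
        refine Subgroup.mem_normalizer_fintype ?_
        rintro _ ⟨i, rfl⟩
        refine ⟨-i, ?_⟩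
        show η ^ (-i) = β * η ^ i * β⁻¹
        rw [← conj_zpow, hinv, inv_zpow, zpow_neg]
      have hP1 : IsPGroup 2 ↥(Subgroup.zpowers η) := IsPGroup.of_card (n := Nat.log 2 (orderOf η)) (by
        rw [Nat.card_zpowers]
        have hd : orderOf η ∣ 2 ^ 2 := orderOf_dvd_of_pow_eq_one hy4
        obtain ⟨k, -, hk⟩ := (Nat.dvd_prime_pow Nat.prime_two).1 hd
        rw [hk, Nat.log_pow (by norm_num)])
      have hP2 : IsPGroup 2 ↥(Subgroup.zpowers β) := IsPGroup.of_card (n := Nat.log 2 (orderOf β)) (by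
        rw [Nat.card_zpowers]
        obtain ⟨k, -, hk⟩ := (Nat.dvd_prime_pow Nat.prime_two).1 (orderOf_dvd_of_pow_eq_one (show β ^ 2 ^ 1 = 1 by rw [pow_one]; exact hβ2))
        rw [hk, Nat.log_pow (by norm_num)])
      refine (hP2.to_sup_of_normal_right' hP1 hnorm).to_le (sup_le ?_ ?_)
      · exact Subgroup.zpowers_le.2 (Subgroup.mem_sup_left (Subgroup.mem_zpowers β))
      · refine Subgroup.zpowers_le.2 ?_
        rw [hηb]
        exact mul_mem (Subgroup.mem_sup_left (Subgroup.mem_zpowers β)) (Subgroup.mem_sup_right (Subgroup.mem_zpowers η))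
    have hconj : ∀ Y ∈ Ω, ∀ g : L ⧸ C, Y.map (MulAut.conj g).toMonoidHom ∈ Ω := by
      rintro _ ⟨g₁, rfl⟩ g
      obtain ⟨g, rfl⟩ := hπ g
      refine ⟨g * g₁, ?_⟩
      rw [MonoidHom.map_zpowers]
      show Subgroup.zpowers (π (g * g₁ * b * (g * g₁)⁻¹)) = Subgroup.zpowers (π g * π (g₁ * b * g₁⁻¹) * (π g)⁻¹)
      congr 1
      rw [← map_inv, ← map_mul, ← map_mul]
      congr 1
      group
    have hbs := CfsgLib.Inv.baer_suzuki Ω hconj hpair
    haveI hPn : (sSup Ω).Normal := ⟨fun q hq g => by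
      have hle : (sSup Ω).map (MulAut.conj g).toMonoidHom ≤ sSup Ω := by
        rw [(Subgroup.gc_map_comap _).l_sSup]
        exact iSup₂_le fun Y hY => le_sSup (hconj Y hY g)
      exact hle ⟨q, hq, rfl⟩⟩
    let Ts : Sylow 2 L := hT.pg.toSylow (by simpa using hT.idx)
    have hPT : sSup Ω ≤ T.map π := by
      have := hbs.le_sylow_of_normal (Ts.mapSurjective hπ)
      simpa [Ts] using this
    have hcomap : (sSup Ω).comap π ≤ M := by
      intro l hl
      obtain ⟨t, ht, he⟩ := hPT hl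
      have hlt : t⁻¹ * l ∈ C := (QuotientGroup.eq (s := C)).1 he
      simpa using M.mul_mem (hTM ht) (hCM hlt)
    refine hbX (hnormal _ (Subgroup.Normal.comap hPn π) ?_ hcomap b (hBT hbB) ?_)
    · intro a ha
      show π a ∈ sSup Ω
      rw [show π a = 1 from (QuotientGroup.eq_one_iff (N := C) a).2 (show a ∈ C from fun u hu => (hXU a ha u hu).symm)]
      exact one_mem _
    · exact le_sSup (show Subgroup.zpowers (π (1 * b * 1⁻¹)) ∈ Ω from ⟨1, rfl⟩) (by simp)
  -- the criterion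
  have hXM : X ≤ M := hXT.trans hTM
  refine hx (CfsgLib.Norm.fixed_of_moved (p := p) (U := U) (M := M) hUc hexp hT.pg hTM ?_ hxU
    (fun m hm => hMmem.1 hm) fun h hh => ?_)
  · intro hd
    have hi := hT.idx
    rw [← Subgroup.relIndex_mul_relIndex T M ⊤ hTM le_top, Subgroup.relIndex_top_right] at hi
    exact hi (hd.mul_left _)
  obtain ⟨k, hkT, hkh⟩ : ∃ k : L, Glau.cj k B ≤ T ∧ ∃ t ∈ Glau.cj k B, h⁻¹ * t * h ∉ M := by
    by_contra hno
    push_neg at hno
    set R := ⨆ k : {k : L // Glau.cj k B ≤ T}, Glau.cj (k : L) B with hR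
    have hRT : R ≤ T := iSup_le fun k => k.2
    have hRM : Glau.cj h⁻¹ R ≤ M := by
      rw [Glau.cj, Subgroup.map_le_iff_le_comap]
      exact iSup_le fun k t ht => by
        show h⁻¹ * t * h⁻¹⁻¹ ∈ M
        rw [inv_inv]
        exact hno k k.2 t ht
    obtain ⟨m, hm, hmR⟩ := (hT.mono hTM le_top).exists_conj_le hRM (Glau.isPGroup_cj _ (hT.pg.to_le hRT))
    rw [← Glau.cj_mul] at hmR
    have hdR : ∀ y : L, Glau.cj y R ≤ T → y ∈ Subgroup.normalizer (R : Set L) := by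
      intro y hy
      refine Glau.mem_normalizer_iff_cj.2 (Subgroup.eq_of_le_of_card_ge ?_ (Glau.card_cj y R).ge)
      rw [Glau.cj, Subgroup.map_le_iff_le_comap]
      refine iSup_le fun k => ?_
      rw [← Subgroup.map_le_iff_le_comap]
      change Glau.cj y (Glau.cj (k : L) B) ≤ R
      rw [← Glau.cj_mul]
      refine le_iSup_of_le (⟨y * (k : L), ?_⟩ : {k : L // Glau.cj k B ≤ T}) le_rfl
      rw [Glau.cj_mul]
      exact (Glau.cj_mono y (le_iSup (fun k : {k : L // Glau.cj k B ≤ T} => Glau.cj (k : L) B) k)).trans hy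
    have hBR : B ≤ R := by
      refine le_iSup_of_le (⟨1, ?_⟩ : {k : L // Glau.cj k B ≤ T}) ?_
      · rw [Glau.cj_eq_of_mem (one_mem B)]; exact hBT
      · exact (Glau.cj_eq_of_mem (one_mem B)).ge
    have hTN : T ≤ Subgroup.normalizer (R : Set L) := fun s hs =>
      hdR s ((Glau.cj_mono s hRT).trans (Glau.cj_eq_of_mem hs).le)
    have h3 := hMmem.2 (hN R (hXB.trans_le hBR) hRT hTN _ (hdR _ hmR))
    have h4 := M.mul_mem (M.inv_mem hm) h3
    rw [inv_mul_cancel_left] at h4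
    exact hh (by simpa using M.inv_mem h4)
  refine ⟨Glau.cj k B, hkT, hkh, fun B₀ hB₀ hker hcard t ht htB₀ u hu hfix => ?_⟩
  obtain ⟨r, hr⟩ : ∃ r, p - 1 = r + 1 := ⟨p - 2, by have := hp.out.two_le; omega⟩
  have hones : ∀ n : ℕ, (fun a => ⁅t, a⁆)^[n] (1 : L) = 1 := fun n => by
    induction n with
    | zero => rfl
    | succ n ih => rw [Function.iterate_succ_apply', ih]; exact commutatorElement_one_right t
  rw [hr, Function.iterate_succ_apply]
  set c := (MulAut.conj k).toMonoidHom with hc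
  have hB₀' : B₀.comap c ≤ B := fun b hb => by
    obtain ⟨b', hb', he⟩ := hB₀ hb
    exact (MulAut.conj k).injective he ▸ hb'
  have hXB₀ : X ≤ B₀.comap c := fun a ha => hker _ ⟨a, hXB.le ha, rfl⟩ fun g => hXM (by
    show g⁻¹ * (k * a * k⁻¹) * g ∈ X
    simpa [mul_assoc] using ‹X.Normal›.conj_mem a ha (g⁻¹ * k))
  have hcard' : Nat.card B ≤ p * Nat.card ↥(B₀.comap c) := by
    rw [← Subgroup.card_map_of_injective (f := c) (MulAut.conj k).injective (K := B₀.comap c),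
      Subgroup.map_comap_eq_self_of_surjective (MulAut.conj k).surjective,
      ← Subgroup.card_map_of_injective (f := c) (MulAut.conj k).injective (K := B)]
    exact hcard
  obtain ⟨b, hb, rfl⟩ := ht
  set u' := k⁻¹ * u * k with hu'
  have hu'U : u' ∈ U := by simpa using hUn.conj_mem u hu k⁻¹
  have hcu : c u' = u := by show k * (k⁻¹ * u * k) * k⁻¹ = u; group
  have hlt : B₀.comap c < B := lt_of_le_of_ne hB₀' fun he => htB₀ (he ▸ hb : b ∈ B₀.comap c)
  by_cases heq : X = B₀.comap c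
  · have hle : Nat.card B ≤ p * Nat.card X := by rw [heq]; exact hcard'
    obtain ⟨hq, -⟩ := hcase hle b hb
    obtain ⟨r', rfl⟩ : ∃ r', r = r' + 1 := ⟨r - 1, by
      by_contra h
      exact hnot2 (by omega) hle⟩
    rw [Function.iterate_succ_apply]
    have h2 : ⁅c b, ⁅c b, u⁆⁆ = 1 := by
      rw [← hcu, ← map_commutatorElement, ← map_commutatorElement, hq u' hu'U, map_one]
    rw [h2]
    exact hones r'
  · have h1 := hbig _ (lt_of_le_of_ne hXB₀ heq) hlt hcard' u' hu'U (fun a ha => by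
      refine (MulAut.conj k).injective ?_
      change c (a * u') = c (u' * a)
      have h := hfix _ ha
      rw [← hcu] at h
      exact (map_mul c a u').trans (h.trans (map_mul c u' a).symm)) b hb
    have h2 : ⁅c b, u⁆ = 1 := by
      rw [← hcu, ← map_commutatorElement, commutatorElement_eq_one_iff_commute.2 h1, map_one]
    rw [h2]
    exact hones r

end CfsgLib.Fus
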