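import Cfsg.Agent.Fus.WeakClosureCenter
import Cfsg.Agent.Fus.CentreOffender
import Cfsg.Prelude.Def_FusionReduction

/-!
Central elements fixed by the maps stabilizing the Thompson subgroup are fixed by all maps when their `p`-th powers are, the
prime being odd or the system `S₄`-free.
-/

set_option autoImplicit false
set_option linter.style.haveILetI false

open Cfsg Cfsg.FusionSystem

namespace CfsgLib.Fus

universe u

variable {Ω : Type u} [Group Ω] {S : Subgroup Ω} {F : FusionSystem S} {p : ℕ}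

/-- A subgroup containing `X` carried by an element of the model into the Sylow subgroup gives a map of the system. -/
theorem exists_model_map {X : Subgroup Ω} {L : Type*} [Group L] {ι : ↥(normalizerIn S X) →* L}
    {N : FusionSystem (normalizerIn S X)} (hN : F.IsNormalizerSystem X N) (hι : N.IsRealizedBy ι) {l : L}
    {M : Subgroup Ω} (hMR : M ≤ normalizerIn S X)
    (hmem : ∀ r : ↥(normalizerIn S X), (r : Ω) ∈ M → l * ι r * l⁻¹ ∈ ι.range) :
    ∃ f, IsMap F M f ∧ ∀ r : ↥(normalizerIn S X), (r : Ω) ∈ M →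
      ∀ r' : ↥(normalizerIn S X), l * ι r * l⁻¹ = ι r' → f r = r' := by
  obtain ⟨hinj, hreal⟩ := hι
  let φ : ↥M →* Ω :=
    MonoidHom.mk' (fun x => (((MonoidHom.ofInjective hinj).symm ⟨l * ι ⟨x, hMR x.2⟩ * l⁻¹, hmem _ x.2⟩ :
      ↥(normalizerIn S X)) : Ω))
      fun a b => by
        rw [← Subgroup.coe_mul, ← map_mul]
        congr 2
        refine Subtype.ext ?_
        show l * ι (⟨(a : Ω), hMR a.2⟩ * ⟨(b : Ω), hMR b.2⟩) * l⁻¹ = _
        rw [map_mul, Subgroup.coe_mul]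
        group
  have hφR : ∀ x : ↥M, φ x ∈ normalizerIn S X := fun x => SetLike.coe_mem _
  have hφι : ∀ x : ↥M, ι ⟨φ x, hφR x⟩ = l * ι ⟨x, hMR x.2⟩ * l⁻¹ := fun x => by
    show ι ((MonoidHom.ofInjective hinj).symm _) = _
    exact MonoidHom.apply_ofInjective_symm hinj _
  refine ⟨ev φ, (isMap_of_normalizerSystem hN (IsMap.of_hom ((hreal M hMR φ hφR).2 ⟨l, hφι⟩))).1,
    fun r hr r' he => ?_⟩
  rw [ev_of_mem φ hr]
  exact congrArg Subtype.val (hinj ((hφι ⟨r, hr⟩).trans he))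

/-- A central element fixed by the stabilizer of `J(S)`, with `p`-th power fixed by everything, is fixed by everything, if `p` is
odd or the system is `S₄`-free. -/
theorem thompsonCentre_fixed [Finite S] [Fact p.Prime] (hS : IsPGroup p S) (hF : F.IsSaturated p)
    (hp : p ≠ 2 ∨ F.IsSectionFree p (Equiv.Perm (Fin 4))) {z : Ω} (hz : z ∈ Zc S)
    (hzp : ∀ (P : Subgroup Ω) f, IsMap F P f → z ∈ P → f (z ^ p) = z ^ p)
    (hfix : ∀ (P : Subgroup Ω) f, IsMap F P f → thompsonSubgroupAOf S ≤ P →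
      img f (thompsonSubgroupAOf S) = thompsonSubgroupAOf S → z ∈ P → f z = z) :
    ∀ (P : Subgroup Ω) f, IsMap F P f → z ∈ P → f z = z := by
  suffices h : F ≤ fixSys F z hz from fun P f hf hzP => (isMap_fixSys.1 (le_iff.1 h P f hf)).2.1 hzP
  refine pointed_induction hS hF _ (Subgroup.zpowers z) (Subgroup.zpowers_le.2 hz)
    (fun P f hf hle h => isMap_fixSys_of_mem hf (hle (Subgroup.mem_zpowers z)) (h z (Subgroup.mem_zpowers z))) ?_
  intro X hXn hXc hmove
  have hzX : z ∈ X := Zc_le_centric hXc hz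
  have hXS := hXn.1
  suffices hα : ∀ α : ↥(F.autGroup X), autFun (α : MulAut X) z = z by
    intro P f hf hXP hPN hfX
    obtain ⟨α, hαA, hαe⟩ := exists_aut (hf.mono hXP) hfX
    exact isMap_fixSys_of_mem hf (hXP hzX) ((hαe z hzX).symm.trans (hα ⟨α, hαA⟩))
  set R := normalizerIn S X with hR
  have hRS : R ≤ S := normalizerIn_le X
  have hXR : X ≤ R := le_normalizerIn hXS
  haveI : Finite ↥R := finite_of_le hRS
  haveI := finite_of_le hXS
  by_cases hA : ∀ A ∈ maxAbelianSubgroups R, A.map R.subtype ≤ X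
  · intro α
    have hf : IsMap F X (autFun (α : MulAut X)) := (mem_autGroup hXS).1 α.2
    set J := thompsonSubgroupAOf X with hJ
    have hJR : J = thompsonSubgroupAOf R := thompsonAOf_eq hXR hA
    have hfJ : img (autFun (α : MulAut X)) J = J := img_thompsonA_eq hf le_rfl (img_autFun _)
    by_cases hRS' : R = S
    · rw [hJR, hRS'] at hfJ
      exact hfix X _ hf (by rw [← hRS', ← hJR]; exact thompsonAOf_le X) hfJ hzX
    have hNJ : normalizerIn S R ≤ normalizerIn S J := by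
      have hmem : ∀ a ∈ normalizerIn S R, ∀ y ∈ J, a * y * a⁻¹ ∈ J := by
        intro a ha y hy
        have hm : IsMap F R (conjF a) := IsMap.conj F hRS ha.1
        have hRi : img (conjF a) R = R := Subgroup.eq_of_le_of_card_ge
          (img_le_iff.2 fun x hx => conj_mem_of_normalizer ha.2 hx) hm.card_img.ge
        have h := img_thompsonA_eq hm le_rfl hRi
        rw [← hJR] at h
        exact h.le (mem_img_of_mem hy)
      refine fun a ha => ⟨ha.1, mem_normalizer_of_conj (hmem a ha) fun y hy => ?_⟩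
      simpa using hmem a⁻¹ (InvMemClass.inv_mem ha) y hy
    have hXN : X ≤ normalizerIn S J := hXR.trans ((le_normalizerIn hRS).trans hNJ)
    refine (isMap_fixSys.1 (hmove J ((thompsonAOf_le X).trans hXS) (prior_of_normalizer hS hRS' hNJ)
      (fun Y hY hYn => ?_) X _ hf (thompsonAOf_le X) hXN hfJ)).2.1 hzX
    obtain ⟨ψ, hψ, hψi, -⟩ := exists_normalizer_map_fn hS hF hYn hY
    exact (Subgroup.zpowers_le.2 hz).trans (Zc_le_of_isConj_center hXc (hψ.mono hXN) hψi)
  push Not at hA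
  obtain ⟨A, hA, hAX⟩ := hA
  obtain ⟨L, _, _, ι, θ, hmodel, hθs, hθι, -, hconj⟩ := exists_model_aut hS hF hXn hXc
  obtain ⟨N, hN⟩ := exists_normalizerSystem F hXS
  have hmod := hmodel N hN
  obtain ⟨-, hι, ⟨T, hT⟩, -⟩ := hmod
  have hinj := hι.1
  set zR : ↥R := ⟨z, hXR hzX⟩ with hzR
  have key : ∀ l : L, autFun (θ l : MulAut X) z = z → l * ι zR = ι zR * l := fun l h => by
    obtain ⟨q', hq'c, hq'⟩ := hconj l zR hzX
    rw [show q' = zR from Subtype.ext (hq'c.trans h)] at hq'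
    exact mul_inv_eq_iff_eq_mul.1 hq'
  set Xb := (X.subgroupOf R).map ι with hXb
  haveI : Xb.Normal := ⟨by
    rintro _ ⟨x, hx, rfl⟩ l
    obtain ⟨q', hq'c, hq'⟩ := hconj l x hx
    exact ⟨q', (show (q' : Ω) ∈ X from hq'c.symm ▸ autFun_mem _ hx), hq'.symm⟩⟩
  set Vb := ((Zc X).subgroupOf R).map ι with hVb
  haveI : Vb.Normal := ⟨by
    rintro _ ⟨x, hx, rfl⟩ l
    obtain ⟨q', hq'c, hq'⟩ := hconj l x (Zc_le hx)
    refine ⟨q', ?_, hq'.symm⟩
    show (q' : Ω) ∈ Zc X
    rw [hq'c]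
    refine mem_Zc (autFun_mem _ (Zc_le hx)) fun y hy => ?_
    show y * autFun (θ l : MulAut X) (x : Ω) = autFun (θ l : MulAut X) (x : Ω) * y
    rw [← autFun_inv_apply (θ l : MulAut X) hy, ← autFun_map_mul _ (autFun_mem _ hy) (Zc_le hx : (x : Ω) ∈ X),
      ← autFun_map_mul _ (Zc_le hx : (x : Ω) ∈ X) (autFun_mem _ hy)]
    exact congrArg (autFun (θ l : MulAut X)) (Zc_comm hx (autFun_mem _ hy))⟩
  have hTr : (T : Subgroup L) = ι.range := hT
  have hxV : ι zR ∈ Vb := ⟨zR, mem_Zc hzX fun y hy => Zc_comm hz (hXS hy), rfl⟩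
  have hxc : ι zR ∈ Subgroup.center L := by
    refine central_of_offender (p := p) (T := (T : Subgroup L)) (X := Xb) (V := Vb) (A := A.map ι)
      (CfsgLib.Glau.syl_top T) ?_ (Subgroup.map_mono fun y hy => (Zc_le hy : (y : Ω) ∈ X)) ?_ hxV ?_ ?_ ?_ ?_ ?_ ?_ ?_ ?_
    · rw [hTr]; exact Subgroup.map_le_range ι _
    · rintro _ ⟨v, hv, rfl⟩ _ ⟨a, ha, rfl⟩
      rw [← map_mul, ← map_mul, show a * v = v * a from Subtype.ext (Zc_comm hv ha)]
    · rw [hTr]
      rintro _ ⟨t, rfl⟩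
      rw [← map_mul, ← map_mul, show t * zR = zR * t from Subtype.ext (Zc_comm hz (hRS t.2))]
    · refine Subgroup.mem_center_iff.2 fun l => ?_
      obtain ⟨q', hq'c, hq'⟩ := hconj l (zR ^ p) (X.pow_mem hzX p)
      have hfp : autFun (θ l : MulAut X) (z ^ p) = z ^ p :=
        hzp X _ ((mem_autGroup hXS).1 (θ l).2) hzX
      rw [show q' = zR ^ p from Subtype.ext (hq'c.trans hfp), map_pow] at hq'
      exact mul_inv_eq_iff_eq_mul.1 hq'
    · intro R' hXR' hR'T hTN l hl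
      refine key l ?_
      set R₁ := (R'.comap ι).map R.subtype with hR₁
      have hR₁R : R₁ ≤ R := Subgroup.map_subtype_le _
      have hXR₁ : X ≤ R₁ := fun y hy => ⟨⟨y, hXR hy⟩, hXR'.le ⟨_, hy, rfl⟩, rfl⟩
      have hlt : X < R₁ := by
        refine lt_of_le_of_ne hXR₁ fun he => hXR'.not_ge fun r' hr' => ?_
        obtain ⟨r, hr⟩ : r' ∈ ι.range := hTr ▸ hR'T hr'
        exact ⟨r, (show (r : Ω) ∈ X from he.ge ⟨r, (show ι r ∈ R' from hr.symm ▸ hr'), rfl⟩), hr⟩
      have hNN : R ≤ normalizerIn S R₁ := by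
        have hmem : ∀ a ∈ R, ∀ y ∈ R₁, a * y * a⁻¹ ∈ R₁ := by
          rintro a ha _ ⟨y, hy, rfl⟩
          refine ⟨⟨a, ha⟩ * y * ⟨a, ha⟩⁻¹, ?_, rfl⟩
          show ι (⟨a, ha⟩ * y * ⟨a, ha⟩⁻¹) ∈ R'
          rw [map_mul, map_mul, map_inv]
          exact conj_mem_of_normalizer (hTN (hTr ▸ ⟨_, rfl⟩)) hy
        exact fun a ha => ⟨hRS ha, mem_normalizer_of_conj (hmem a ha) fun y hy => by
          simpa using hmem a⁻¹ (R.inv_mem ha) y hy⟩
      have hmem : ∀ r : ↥R, (r : Ω) ∈ R₁ → l * ι r * l⁻¹ ∈ R' := by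
        rintro r ⟨r', hr', he⟩
        rw [← Subtype.ext he]
        exact conj_mem_of_normalizer hl hr'
      obtain ⟨f, hf, hfe⟩ := exists_model_map hN hι hR₁R (fun r hr => hTr ▸ hR'T (hmem r hr))
      have hfz : f z = autFun (θ l : MulAut X) z := by
        obtain ⟨q', hq'c, hq'⟩ := hconj l zR hzX
        rw [← hq'c]
        exact hfe zR (hXR₁ hzX) q' hq'
      have hfR : img f R₁ = R₁ := by
        haveI := finite_of_le (hR₁R.trans hRS)
        refine Subgroup.eq_of_le_of_card_ge (img_le_iff.2 fun y hy => ?_) hf.card_img.ge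
        obtain ⟨r', hr'⟩ : l * ι ⟨y, hR₁R hy⟩ * l⁻¹ ∈ ι.range := hTr ▸ hR'T (hmem ⟨y, hR₁R hy⟩ hy)
        rw [hfe ⟨y, hR₁R hy⟩ hy r' hr'.symm]
        exact ⟨r', (show ι r' ∈ R' from hr' ▸ hmem ⟨y, hR₁R hy⟩ hy), rfl⟩
      have hc : F.IsCentric R₁ := centric_of_centralizer_le (fullyCentralized_of_fullyNormalized hS hF hXn) hXR₁
        (hR₁R.trans hRS) ((hXc.2 X (isConj_refl hXS)).trans hXR₁)
      rw [← hfz]
      exact (isMap_fixSys.1 (hmove R₁ (hR₁R.trans hRS) (prior_of_lt hlt (hR₁R.trans hRS) hNN)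
        (fun Y hY _ => (Subgroup.zpowers_le.2 hz).trans (Zc_le_centric (centric_of_isConj hc hY))) R₁ f hf le_rfl
        (hR₁R.trans hNN) hfR)).2.1 (hXR₁ hzX)
    · rw [hTr]; exact Subgroup.map_le_range ι _
    · rintro _ ⟨a, ha, rfl⟩ _ ⟨b, hb, rfl⟩
      rw [← map_mul, ← map_mul]
      exact congrArg ι (congrArg Subtype.val (hA.1.is_comm.comm (⟨a, ha⟩ : A) ⟨b, hb⟩))
    · intro B hBT hB
      rw [Subgroup.card_map_of_injective hinj, ← Subgroup.map_comap_eq_self (f := ι) (H := B) (hTr ▸ hBT),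
        Subgroup.card_map_of_injective hinj]
      exact hA.2 _ ⟨⟨fun a b => Subtype.ext (hinj (by
        rw [Subgroup.coe_mul, Subgroup.coe_mul, map_mul, map_mul]
        exact hB _ a.2 _ b.2))⟩⟩
    · intro hle
      refine hAX ?_
      rintro _ ⟨a, ha, rfl⟩
      obtain ⟨y, hy, he⟩ := hle ⟨a, ha, rfl⟩
      exact hinj he ▸ hy
    · exact hp.imp_right fun hfree => hfree X hXn hXc N hN L ι (hmodel N hN)
  intro α
  obtain ⟨l, rfl⟩ := hθs α
  obtain ⟨q', hq'c, hq'⟩ := hconj l zR hzX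
  rw [Subgroup.mem_center_iff.1 hxc l, mul_inv_cancel_right] at hq'
  rw [← hq'c, ← hinj hq']

theorem normalizerIn_thompsonA_self [Finite S] : normalizerIn S (thompsonSubgroupAOf S) = S := by
  refine le_antisymm (normalizerIn_le _) fun a ha => ?_
  have hmem : ∀ a ∈ S, ∀ y ∈ thompsonSubgroupAOf S, a * y * a⁻¹ ∈ thompsonSubgroupAOf S := by
    intro a ha y hy
    have hm : IsMap (innerFusionSystem S) S (conjF a) := IsMap.conj _ le_rfl ha
    have hSi : img (conjF a) S = S := Subgroup.eq_of_le_of_card_ge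
      (img_le_iff.2 fun x hx => S.mul_mem (S.mul_mem ha hx) (S.inv_mem ha)) hm.card_img.ge
    exact (img_thompsonA_eq hm le_rfl hSi).le (mem_img_of_mem hy)
  exact ⟨ha, mem_normalizer_of_conj (hmem a ha) fun y hy => by simpa using hmem a⁻¹ (S.inv_mem ha) y hy⟩

/-- The `p`-th powers of central elements fixed by the stabilizer of `J(S)` are fixed by all maps. -/
theorem thompsonPower_fixed [Finite S] [Fact p.Prime] (hS : IsPGroup p S) (hF : F.IsSaturated p) {y : Ω}
    (hy : y ∈ powerClosure p 1 (Zc S))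
    (hfix : ∀ (P : Subgroup Ω) f, IsMap F P f → thompsonSubgroupAOf S ≤ P →
      img f (thompsonSubgroupAOf S) = thompsonSubgroupAOf S → y ∈ P → f y = y) :
    ∀ (P : Subgroup Ω) f, IsMap F P f → y ∈ P → f y = y := by
  have hyZ : y ∈ Zc S := powerClosure_le hy
  suffices h : F ≤ fixSys F y hyZ from fun P f hf hyP => (isMap_fixSys.1 (le_iff.1 h P f hf)).2.1 hyP
  refine le_of_power_thompson hS hF _ (fun P f hf hle h => isMap_fixSys_of_mem hf (hle hy) (h y hy))
    fun P f hf hle h => ?_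
  have hyJ : y ∈ thompsonSubgroupAOf S :=
    ⟨⟨y, hyZ.1⟩, center_le_thompsonA (Subgroup.mem_center_iff.2 fun x => Subtype.ext (Zc_comm hyZ x.2)), rfl⟩
  exact isMap_fixSys_of_mem hf (hle hyJ) (hfix P f hf hle h (hle hyJ))

end CfsgLib.Fus
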