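import Cfsg.Agent.Fus.Quadratic

/-!
The quadratic element given by the K-infinity subgroups, and strong consequences for normalizer p-stability.
-/

set_option autoImplicit false
set_option linter.style.haveILetI false

open Cfsg
open scoped commutatorElement

namespace CfsgLib.KInf

section

variable {P : Type*} [Group P]

/-- If the K-sequences leave `T`, some subgroup outside `T` is in a lower family above `A`, or acts quadratically on `A` modulo
its centre and on the centre. -/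
theorem exists_cubic_cases {T A : Subgroup P} [A.Normal] (hA : A ∈ classTwoSubgroups P) (hAT : ⁅A, T⁆ ≤ zc A)
    (hnot : ¬ ∀ n, kSeqEven P n ≤ T ∧ kSeqOdd P (n + 1) ≤ T) :
    ∃ B : Subgroup P, ¬ B ≤ T ∧ ((∃ Q, A ≤ Q ∧ B ∈ kLowerStarFamily Q) ∨
      (⁅⁅A, B⁆, B⁆ ≤ zc A ∧ ⁅⁅zc A, B⁆, B⁆ = ⊥)) := by
  by_contra hno
  have hlow : ∀ Q, A ≤ Q → sSup (kLowerStarFamily Q) ≤ T := by
    intro Q hQ
    refine sSup_le fun B hB => ?_
    by_contra hBT
    exact hno ⟨B, hBT, Or.inl ⟨Q, hQ, hB⟩⟩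
  have hA0 : A ≤ kSeqEven P 0 := by
    refine le_sSup ⟨hA, ?_, fun B hB _ hN hb hz => ?_⟩
    · rw [Subgroup.normalizer_eq_top_iff.2 inferInstance]; exact le_top
    · have hBT : B ≤ T := by
        by_contra hBT
        refine hno ⟨B, hBT, Or.inr ⟨le_inf ((Subgroup.commutator_mono (Subgroup.commutator_le_left A B) le_rfl).trans
          (Subgroup.commutator_le_left A B)) ?_, hz⟩⟩
        refine (Subgroup.commutator_mono (Subgroup.le_normalizer_iff_commutator_le_right.1 hN) le_rfl).trans ?_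
        exact fun x hx => fun y hy => commutatorElement_eq_one_iff_commute.1 (Subgroup.mem_bot.1
          (hb ▸ Subgroup.commutator_mem_commutator hy hx))
      exact (Subgroup.commutator_mono le_rfl hBT).trans hAT
  have hup : sSup (kUpperStarFamily (kSeqEven P 0)) ≤ T := by
    refine sSup_le fun B hB => ?_
    by_contra hBT
    have h1 : ⁅A, B⁆ ≤ zc B := by
      rw [Subgroup.commutator_comm]
      exact (Subgroup.commutator_mono le_rfl hA0).trans hB.2
    have h2 : ⁅⁅A, B⁆, B⁆ = ⊥ := eq_bot_iff.2 ((Subgroup.commutator_mono h1 le_rfl).trans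
      (Subgroup.commutator_eq_bot_iff_le_centralizer.2 inf_le_right).le)
    refine hno ⟨B, hBT, Or.inr ⟨h2.le.trans bot_le, eq_bot_iff.2 ?_⟩⟩
    exact (Subgroup.commutator_mono (Subgroup.commutator_mono inf_le_left le_rfl) le_rfl).trans h2.le
  have hodd : ∀ n, kSeqOdd P (n + 1) ≤ T := fun n => (odd_anti (Nat.le_add_left 1 n)).trans hup
  refine hnot fun n => ⟨?_, hodd n⟩
  induction n with
  | zero => exact hlow _ le_top
  | succ n ih =>
    exact hlow _ (le_sSup ⟨hA, (Subgroup.commutator_mono le_rfl ih).trans hAT⟩)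

end

section

universe u

variable {G : Type u} [Group G] [Finite G] {p : ℕ}

/-- If a K-infinity subgroup of a Sylow subgroup of `H` is not normal in `H`, some subgroup outside `O_p(H)` lies in a lower family above `A`
or acts quadratically. -/
theorem exists_offender_cases [hp : Fact p.Prime] {H S A : Subgroup G} (h : Glau.Syl p S H)
    (hA : A ≤ pCoreOf p H) (hAn : H ≤ Subgroup.normalizer (A : Set G)) (hA2 : A ∈ classTwoSubgroups G)
    (hAT : ⁅A, pCoreOf p H⁆ ≤ zc A)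
    (hK : ¬ H ≤ Subgroup.normalizer (inducedFunctor kInfLower S : Set G) ∨
      ¬ H ≤ Subgroup.normalizer (inducedFunctor kInfUpper S : Set G)) :
    ∃ B : Subgroup G, B ≤ S ∧ ¬ B ≤ pCoreOf p H ∧ ((∃ Q, A ≤ Q ∧ B ∈ kLowerStarFamily Q) ∨
      (⁅⁅A, B⁆, B⁆ ≤ zc A ∧ ⁅⁅zc A, B⁆, B⁆ = ⊥)) := by
  have hf := S.subtype_injective
  set P := pCoreOf p H with hP
  have hPS : P ≤ S := h.pc_le
  have eA : (A.subgroupOf S).map S.subtype = A := Subgroup.map_subgroupOf_eq_of_le (hA.trans hPS)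
  have eP : (P.subgroupOf S).map S.subtype = P := Subgroup.map_subgroupOf_eq_of_le hPS
  by_cases hin : ∀ n, kSeqEven ↥S n ≤ P.subgroupOf S ∧ kSeqOdd ↥S (n + 1) ≤ P.subgroupOf S
  · exfalso
    obtain ⟨e1, e2⟩ := kInf_map (f := Subgroup.inclusion hPS) (Subgroup.inclusion_injective hPS)
      (by simpa only [Subgroup.inclusion_range] using hin)
    have key : ∀ {X : Subgroup ↥P} {Y : Subgroup ↥S}, X.Characteristic → X.map (Subgroup.inclusion hPS) = Y →
        H ≤ Subgroup.normalizer (Y.map S.subtype : Set G) := by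
      intro X Y hX hXY g hg
      rw [Glau.mem_normalizer_iff_cj, ← hXY, Subgroup.map_map, Subgroup.subtype_comp_inclusion]
      let e : MulAut ↥P := (P.equivMapOfInjective _ (MulAut.conj g).injective).trans
        (MulEquiv.subgroupCongr (Glau.mem_normalizer_iff_cj.1 (Glau.le_normalizer_pc H hg)))
      conv_rhs => rw [← Subgroup.characteristic_iff_map_eq.1 hX e]
      rw [Glau.cj, Subgroup.map_map, Subgroup.map_map]
      rfl
    rcases hK with hK | hK
    · exact hK (key kInf_char.1 e1)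
    · exact hK (key kInf_char.2 e2)
  haveI : (A.subgroupOf S).Normal :=
    (Subgroup.normal_subgroupOf_iff_le_normalizer (hA.trans hPS)).2 (h.le.trans hAn)
  obtain ⟨B, hB, h⟩ := exists_cubic_cases (T := P.subgroupOf S) (A := A.subgroupOf S)
    ((classTwo_map hf).1 (by rwa [eA]))
    (by rw [← Subgroup.map_le_map_iff_of_injective hf, Subgroup.map_commutator, ← zc_map hf, eA, eP]; exact hAT) hin
  refine ⟨B.map S.subtype, Subgroup.map_subtype_le _, ?_, ?_⟩
  · rwa [← eP, Subgroup.map_le_map_iff_of_injective hf]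
  rcases h with ⟨Q, hQ, hB'⟩ | ⟨h1, h2⟩
  · exact Or.inl ⟨Q.map S.subtype, eA.symm.trans_le (Subgroup.map_mono hQ), (lower_map hf).2 hB'⟩
  · refine Or.inr ⟨?_, ?_⟩
    · rw [← eA, ← Subgroup.map_commutator, ← Subgroup.map_commutator, zc_map hf]
      exact Subgroup.map_mono h1
    · rw [← eA, zc_map hf, ← Subgroup.map_commutator, ← Subgroup.map_commutator, h2, Subgroup.map_bot]

end

end CfsgLib.KInf

namespace CfsgLib.Glau

universe u

variable {Γ : Type u} [Group Γ] [Finite Γ] {p : ℕ} [hp : Fact p.Prime]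

theorem pCoreOf_top (p : ℕ) : pCoreOf p (⊤ : Subgroup Γ) = pCore p Γ := by
  rw [pCoreOf, ← CfsgLib.Solv.map_pCore_equiv (Subgroup.topEquiv (G := Γ))]
  rfl

/-- An element of order prime to `p` centralizing a subgroup with faithful coprime action on `O_p` is trivial, in a constrained
group. -/
theorem eq_one_of_faithful {A : Subgroup Γ}
    (hA5 : ∀ φ : MulAut ↥(pCore p Γ), (orderOf φ).Coprime p →
      (∀ a : ↥(pCore p Γ), (a : Γ) ∈ A → φ a = a) → φ = 1)
    (hC : Subgroup.centralizer (pCore p Γ : Set Γ) ≤ pCore p Γ) {x : Γ} (hx : (orderOf x).Coprime p)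
    (hxA : x ∈ Subgroup.centralizer (A : Set Γ)) : x = 1 := by
  haveI := CfsgLib.Solv.pCore_normal Γ p
  have h1 : MulAut.conjNormal (H := pCore p Γ) x = 1 := hA5 _ (hx.coprime_dvd_left (orderOf_map_dvd _ x))
    fun a ha => Subtype.ext (by
      rw [MulAut.conjNormal_apply, mul_inv_eq_iff_eq_mul]
      exact (hxA a ha).symm)
  refine CfsgLib.Inv.eq_one_of_coprime_mem (CfsgLib.Solv.pCore_isPGroup Γ p) (hC fun a ha => ?_) hx
  have h2 := congrArg (fun φ : MulAut ↥(pCore p Γ) => (φ ⟨a, ha⟩ : Γ)) h1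
  simp only [MulAut.one_apply, MulAut.conjNormal_apply] at h2
  exact (mul_inv_eq_iff_eq_mul.1 h2).symm

/-- The subgroup outside `O_p` given by a non-normal K-infinity subgroup, and its quadratic element. -/
theorem kInf_offender_chief (S : Sylow p Γ) {A : Subgroup Γ} [A.Normal] (hAT : A ≤ pCore p Γ)
    (hA1 : ∀ a ∈ A, a ^ p ∈ KInf.zc A) (hA2 : A ∈ classTwoSubgroups Γ) (hAP : ⁅A, pCore p Γ⁆ ≤ KInf.zc A)
    (hK : ¬ (inducedFunctor kInfLower (S : Subgroup Γ)).Normal ∨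
      ¬ (inducedFunctor kInfUpper (S : Subgroup Γ)).Normal) :
    ∃ B : Subgroup Γ, B ≤ S ∧ ¬ B ≤ pCore p Γ ∧ ⁅⁅⁅A, B⁆, B⁆, B⁆ ≤ KInf.zc A ∧ ⁅⁅KInf.zc A, B⁆, B⁆ = ⊥ ∧
      ((∀ x : Γ, (orderOf x).Coprime p → x ∈ Subgroup.centralizer (A : Set Γ) → x = 1) →
        ∃ g ∈ B, g ∉ pCore p Γ ∧ ∃ U V : Subgroup Γ, IsChiefFactor U V ∧ U ≤ A ∧ g ∈ stab V ∧
          ⁅⁅U, Subgroup.zpowers g⁆, Subgroup.zpowers g⁆ ≤ V ∧ ¬ ⁅U, Subgroup.zpowers g⁆ ≤ V) := by
  haveI := centralizer_normal ‹A.Normal›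
  haveI : (KInf.zc A).Normal := Subgroup.normal_inf_normal _ _
  have hAp : IsPGroup p A := (CfsgLib.Solv.pCore_isPGroup Γ p).to_le hAT
  obtain ⟨B, hBS, hBT, hcase⟩ := KInf.exists_offender_cases (syl_top S) (A := A) ((pCoreOf_top (Γ := Γ) p).symm ▸ hAT)
    (by rw [Subgroup.normalizer_eq_top_iff.2 ‹A.Normal›]) hA2 ((pCoreOf_top (Γ := Γ) p).symm ▸ hAP)
    (hK.imp (fun h h' => h (Subgroup.normalizer_eq_top_iff.1 (top_le_iff.1 h')))
      (fun h h' => h (Subgroup.normalizer_eq_top_iff.1 (top_le_iff.1 h'))))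
  rw [pCoreOf_top] at hBT
  refine ⟨B, hBS, hBT, ?_⟩
  rcases hcase with ⟨Q, hAQ, hB⟩ | ⟨h1, h2⟩
  · have hAB : A ≤ Subgroup.normalizer (B : Set Γ) := hAQ.trans hB.2.1
    have hzz : ⁅KInf.zc A, KInf.zc A⁆ = ⊥ :=
      Subgroup.commutator_eq_bot_iff_le_centralizer.2 (inf_le_right.trans (Subgroup.centralizer_le inf_le_left))
    have h1 : ⁅B, KInf.zc A⁆ ≤ KInf.zc B := hB.2.2 _ (hzz.le.trans bot_le) (inf_le_left.trans hAQ)
      (by rw [Subgroup.normalizer_eq_top_iff.2 inferInstance]; exact le_top)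
      (by rw [hzz, Subgroup.commutator_bot_right])
      (eq_bot_iff.2 ((Subgroup.commutator_mono (Subgroup.commutator_le_right _ _) le_rfl).trans hzz.le))
    refine ⟨((Subgroup.commutator_mono (Subgroup.commutator_mono (Subgroup.le_normalizer_iff_commutator_le_right.1 hAB)
      le_rfl) le_rfl).trans (KInf.classTwo_iff.1 hB.1).le).trans bot_le, eq_bot_iff.2 ?_, fun hker => ?_⟩
    · rw [Subgroup.commutator_comm (KInf.zc A) B]
      exact (Subgroup.commutator_mono h1 le_rfl).trans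
        (Subgroup.commutator_eq_bot_iff_le_centralizer.2 inf_le_right).le
    · exact quadratic_exists hAT hA1 hA2 hAP hker (S.isPGroup'.to_le hBS) hBT hAB
        fun A₀ hA₀ hcl hN hb hz => hB.2.2 A₀ hcl (hA₀.trans hAQ) hN hb hz
  · refine ⟨(Subgroup.commutator_mono h1 le_rfl).trans (Subgroup.commutator_le_left _ B), h2, fun hker => ?_⟩
    obtain ⟨g, hgB, hgT⟩ := Set.not_subset.1 hBT
    refine ⟨g, hgB, hgT, ?_⟩
    by_contra hcon
    refine hgT (stab_le_pCore hAp hker (stab_of_quad (fun U V hc hUA hqUV hgV u hu => ?_) fun U V hc hUA w hw => ?_))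
    · haveI := hc.2.1
      haveI := hc.2.2.1
      by_contra hn
      exact hcon ⟨U, V, hc, hUA, hgV, iter_le_of_iterate (n := 2) (chief_elementary (p := p) hc (hAp.to_le hUA)).2 hqUV,
        fun h => hn (comm_mem_of_le h hu)⟩
    haveI := hc.2.1
    haveI := hc.2.2.1
    show ⁅g, ⁅g, w⁆⁆ ∈ V
    have hmem : ⁅g, ⁅g, w⁆⁆ ∈ U ⊓ KInf.zc A :=
      ⟨iterate_mem_normal U g 2 hw, quad_mem_of_le (h1.trans' (Subgroup.commutator_mono
        (Subgroup.commutator_mono le_rfl (Subgroup.zpowers_le.2 hgB)) (Subgroup.zpowers_le.2 hgB))) (hUA hw)⟩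
    by_cases hle : U ⊓ KInf.zc A ≤ V
    · exact hle hmem
    obtain ⟨-, hs⟩ := chief_inf hc (Subgroup.normal_inf_normal _ _) inf_le_left hle
    rw [← hs] at hw
    obtain ⟨a, ha, v, hv, rfl⟩ := Subgroup.mem_sup_of_normal_left.1 hw
    refine (QuotientGroup.eq_one_iff _).1 ?_
    show QuotientGroup.mk' V ⁅g, ⁅g, a * v⁆⁆ = 1
    rw [map_commutatorElement, map_commutatorElement, map_mul,
      show QuotientGroup.mk' V v = 1 from (QuotientGroup.eq_one_iff v).2 hv, mul_one, ← map_commutatorElement,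
      ← map_commutatorElement, show ⁅g, ⁅g, a⁆⁆ = 1 from Subgroup.mem_bot.1 (h2.le (quad_mem_of_le
        (Subgroup.commutator_mono (Subgroup.commutator_mono le_rfl (Subgroup.zpowers_le.2 hgB))
          (Subgroup.zpowers_le.2 hgB)) ha.2)), map_one]

/-- A quartic element outside `O_p`, quadratic on the centre, and in a constrained group quadratic and nontrivial on a chief
factor below `O_p`. -/
theorem kInf_quartic_chief (S : Sylow p Γ)
    (hK : ¬ (inducedFunctor kInfLower (S : Subgroup Γ)).Normal ∨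
      ¬ (inducedFunctor kInfUpper (S : Subgroup Γ)).Normal) :
    ∃ g : Γ, g ∈ (S : Subgroup Γ) ∧ g ∉ pCore p Γ ∧
      (∀ U V : Subgroup Γ, IsChiefFactor U V → U ≤ pCore p Γ → iterCommutator U (Subgroup.zpowers g) 4 ≤ V) ∧
      ⁅⁅pCore p Γ ⊓ Subgroup.centralizer (pCore p Γ : Set Γ), Subgroup.zpowers g⁆, Subgroup.zpowers g⁆ = ⊥ ∧
      (Subgroup.centralizer (pCore p Γ : Set Γ) ≤ pCore p Γ →
        ∃ U V : Subgroup Γ, IsChiefFactor U V ∧ U ≤ pCore p Γ ∧ g ∈ stab V ∧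
          ⁅⁅U, Subgroup.zpowers g⁆, Subgroup.zpowers g⁆ ≤ V ∧ ¬ ⁅U, Subgroup.zpowers g⁆ ≤ V) := by
  haveI hPn := CfsgLib.Solv.pCore_normal Γ p
  set P := pCore p Γ with hP
  have hPp : IsPGroup p ↥P := CfsgLib.Solv.pCore_isPGroup Γ p
  obtain ⟨A₀, hA₀c, hA₀f, hA₀P, hA₀C⟩ := CfsgLib.Solv.exists_critical hPp
  haveI := hA₀c
  set A := A₀.map P.subtype with hA
  haveI hAn : A.Normal := CfsgLib.Solv.normal_map_subtype_of_characteristic A₀
  have hAP : A ≤ P := Subgroup.map_subtype_le _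
  have hzc : KInf.zc A = (KInf.zc A₀).map P.subtype := KInf.zc_map P.subtype_injective A₀
  have hPA : ⁅A, P⁆ ≤ KInf.zc A := by
    have h1 := Subgroup.map_mono (f := P.subtype) hA₀P
    rwa [Subgroup.map_commutator, ← MonoidHom.range_eq_map, P.range_subtype, ← hA, ← hzc] at h1
  have hcl : A ∈ classTwoSubgroups Γ := ((Subgroup.commutator_mono le_rfl hAP).trans hPA).trans inf_le_right
  have hA1 : ∀ a ∈ A, a ^ p ∈ KInf.zc A := by
    rintro _ ⟨a, ha, rfl⟩
    rw [hzc, ← map_pow]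
    exact ⟨a ^ p, ⟨A₀.pow_mem ha p, hA₀f ⟨(⟨a, ha⟩ : ↥A₀) ^ p,
      CfsgLib.Solv.pow_mem_frattini (hPp.to_subgroup A₀) _, rfl⟩⟩, rfl⟩
  obtain ⟨B, hBS, hBT, h3, h2, hq⟩ := kInf_offender_chief S hAP hA1 hcl hPA hK
  have hzP : P ⊓ Subgroup.centralizer (P : Set Γ) ≤ KInf.zc A := fun x hx => by
    rw [hzc]
    refine ⟨⟨x, hx.1⟩, ?_, rfl⟩
    have hc : (⟨x, hx.1⟩ : ↥P) ∈ Subgroup.centralizer (A₀ : Set ↥P) := fun a _ => Subtype.ext (hx.2 _ a.2)
    exact ⟨hA₀C hc, hc⟩
  have hquart : ∀ g ∈ B, ∀ U V : Subgroup Γ, IsChiefFactor U V → U ≤ P →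
      iterCommutator U (Subgroup.zpowers g) 4 ≤ V := by
    intro g hgB U V hUV hUP
    have hgz : Subgroup.zpowers g ≤ B := Subgroup.zpowers_le.2 hgB
    haveI := centralizer_normal hAn
    haveI : (KInf.zc A).Normal := Subgroup.normal_inf_normal _ _
    refine hit_below (i := 3) (j := 2) hPp hAP ((Subgroup.commutator_comm P A).trans_le hPA) ?_ (by omega) (by omega)
      ?_ ?_ U V hUV hUP
    · rintro x ⟨hxP, hxC⟩
      exact ⟨⟨x, hxP⟩, hA₀C fun a ha => Subtype.ext (hxC (a : Γ) ⟨a, ha, rfl⟩), rfl⟩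
    · intro U' V' h' hU'
      haveI := h'.2.1
      haveI := h'.2.2.1
      refine iter_le_of_iterate (chief_elementary (p := p) h' (hPp.to_le (hU'.trans hAP))).2 fun u hu => ?_
      have hmem : (fun a => ⁅g, a⁆)^[3] u ∈ U' ⊓ KInf.zc A :=
        ⟨iterate_mem_normal U' g 3 hu, ((iterCommutator_mono hU' hgz 3).trans h3) (iterate_mem U' hu 3)⟩
      by_cases hle : U' ⊓ KInf.zc A ≤ V'
      · exact hle hmem
      obtain ⟨-, hs⟩ := chief_inf h' (Subgroup.normal_inf_normal _ _) inf_le_left hle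
      rw [← hs] at hu
      obtain ⟨a, ha, v, hv, rfl⟩ := Subgroup.mem_sup_of_normal_left.1 hu
      refine (QuotientGroup.eq_one_iff _).1 ?_
      show QuotientGroup.mk' V' ⁅g, ⁅g, ⁅g, a * v⁆⁆⁆ = 1
      rw [map_commutatorElement, map_commutatorElement, map_commutatorElement, map_mul,
        show QuotientGroup.mk' V' v = 1 from (QuotientGroup.eq_one_iff v).2 hv, mul_one, ← map_commutatorElement,
        ← map_commutatorElement, ← map_commutatorElement, show ⁅g, ⁅g, a⁆⁆ = 1 from Subgroup.mem_bot.1 (h2.le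
          (quad_mem_of_le (Subgroup.commutator_mono (Subgroup.commutator_mono le_rfl hgz) hgz) ha.2)),
        commutatorElement_one_right, map_one]
    · exact fun U V _ hU => ((iterCommutator_mono hU hgz 2).trans h2.le).trans bot_le
  have hzq : ∀ g ∈ B, ⁅⁅P ⊓ Subgroup.centralizer (P : Set Γ), Subgroup.zpowers g⁆, Subgroup.zpowers g⁆ = ⊥ :=
    fun g hgB => eq_bot_iff.2 ((Subgroup.commutator_mono (Subgroup.commutator_mono hzP (Subgroup.zpowers_le.2 hgB))
      (Subgroup.zpowers_le.2 hgB)).trans h2.le)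
  by_cases hC : Subgroup.centralizer (P : Set Γ) ≤ P
  · obtain ⟨g, hgB, hgP, U, V, hc, hUA, hgV, h1, hn⟩ := hq fun x hx hxA =>
      eq_one_of_faithful (A := A) (fun φ hφ hfix => CfsgLib.Solv.aut_eq_one_of_fix hPp hA₀C hφ
        fun a ha => hfix a ⟨a, ha, rfl⟩) hC hx hxA
    exact ⟨g, hBS hgB, hgP, hquart g hgB, hzq g hgB, fun _ => ⟨U, V, hc, hUA.trans hAP, hgV, h1, hn⟩⟩
  · obtain ⟨g, hgB, hgP⟩ := Set.not_subset.1 hBT
    exact ⟨g, hBS hgB, hgP, hquart g hgB, hzq g hgB, fun h => absurd h hC⟩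

/-- A quartic element outside `O_p`, quadratic on the centre, and in a constrained group a quotient that is not normalizer
`p`-stable. -/
theorem kInf_quartic_pstable (S : Sylow p Γ)
    (hK : ¬ (inducedFunctor kInfLower (S : Subgroup Γ)).Normal ∨
      ¬ (inducedFunctor kInfUpper (S : Subgroup Γ)).Normal) :
    ∃ g : Γ, g ∈ (S : Subgroup Γ) ∧ g ∉ pCore p Γ ∧
      (∀ U V : Subgroup Γ, IsChiefFactor U V → U ≤ pCore p Γ → iterCommutator U (Subgroup.zpowers g) 4 ≤ V) ∧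
      ⁅⁅pCore p Γ ⊓ Subgroup.centralizer (pCore p Γ : Set Γ), Subgroup.zpowers g⁆, Subgroup.zpowers g⁆ = ⊥ ∧
      (Subgroup.centralizer (pCore p Γ : Set Γ) ≤ pCore p Γ →
        ∃ (N : Subgroup Γ) (_ : N.Normal), ¬ IsNormalizerPStable p (Γ ⧸ N)) := by
  obtain ⟨g, h1, h2, h3, h4, h5⟩ := kInf_quartic_chief S hK
  refine ⟨g, h1, h2, h3, h4, fun hC => ?_⟩
  obtain ⟨U, V, hc, hU, -, hq, hn⟩ := h5 hC
  haveI := hc.2.2.1
  exact ⟨V, inferInstance, not_pstable_of_chief hc ((CfsgLib.Solv.pCore_isPGroup Γ p).to_le hU) hq hn⟩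

/-- In a constrained group whose quotients are normalizer `p`-stable the K-infinity subgroups are normal. -/
theorem kInf_normal_of_pstable (S : Sylow p Γ) (hC : Subgroup.centralizer (pCore p Γ : Set Γ) ≤ pCore p Γ)
    (hst : ∀ V : Subgroup Γ, V.Normal → ∃ (Q : Type u) (_ : Group Q) (π : Γ →* Q), Function.Surjective π ∧
      π.ker = V ∧ IsNormalizerPStable p Q) :
    (inducedFunctor kInfLower (S : Subgroup Γ)).Normal ∧ (inducedFunctor kInfUpper (S : Subgroup Γ)).Normal := by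
  by_contra hK
  obtain ⟨g, -, -, -, -, h5⟩ := kInf_quartic_chief S (not_and_or.1 hK)
  obtain ⟨U, V, hc, hU, -, hq, hn⟩ := h5 hC
  obtain ⟨Q, _, π, hπ, hker, hQ⟩ := hst V hc.2.2.1
  exact not_pstable_of_hom hc ((CfsgLib.Solv.pCore_isPGroup Γ p).to_le hU) hq hn π hπ hker hQ

end CfsgLib.Glau
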