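import Cfsg.Agent.Fus.FusionCore
import Cfsg.Agent.Fus.QuadraticKInf

/-!
Strong fusion controlled by the K-infinity subgroups in groups with normalizer p-stable sections.
-/

set_option autoImplicit false
set_option linter.style.haveILetI false

open Cfsg

namespace CfsgLib.Glau

universe u

theorem isSec_quot {G : Type u} [Group G] (K R : Subgroup G) [(R.subgroupOf K).Normal] :
    IsSec G (↥K ⧸ R.subgroupOf K) :=
  ⟨K, QuotientGroup.mk' _, QuotientGroup.mk'_surjective _⟩

theorem controls_of_fus {G : Type*} [Group G] [Finite G] {p : ℕ} [Fact p.Prime] (T : Sylow p G) {U : Subgroup G}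
    (hU : U ≤ (T : Subgroup G)) (h : Fus (T : Subgroup G) ⊤ ((⊤ : Subgroup G) ⊓ Subgroup.normalizer (U : Set G))) :
    ControlsStrongFusion p U :=
  ⟨T, hU, fun A hA => ⟨hA, fun g hg => by
    obtain ⟨x, hx, hxe⟩ := def_of_fus h A g trivial hA hg
    exact ⟨x, hx.2, fun a ha => (hxe a ha).symm⟩⟩⟩

/-- Strong fusion in every section, from normality in constrained sections. -/
theorem fusion_of_sections {G : Type u} [Group G] [Finite G] {p : ℕ} [hp : Fact p.Prime]
    (W : ∀ (Q : Type u) [Group Q], Subgroup Q) (hW : IsCharPFunctor.{u} p W)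
    (hloc : ∀ (K R : Subgroup G) [(R.subgroupOf K).Normal],
      Subgroup.centralizer (pCore p (↥K ⧸ R.subgroupOf K) : Set (↥K ⧸ R.subgroupOf K)) ≤
        pCore p (↥K ⧸ R.subgroupOf K) → ∀ T : Sylow p (↥K ⧸ R.subgroupOf K),
        (inducedFunctor W (T : Subgroup (↥K ⧸ R.subgroupOf K))).Normal) :
    ∀ (Γ : Type u) [Group Γ] [Finite Γ], IsSec G Γ → ∀ (H S : Subgroup Γ), Syl p S H →
      Fus S H (H ⊓ Subgroup.normalizer (inducedFunctor W S : Set Γ)) := by
  refine fusion_of_core W hW fun Γ _ _ hsec hC S => ?_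
  obtain ⟨K', R', hn, ⟨e⟩⟩ := hsec.exists_equiv
  obtain ⟨T, hT⟩ := exists_sylow_map e S
  have h := (hloc K' R' (constrained_equiv e hC) T).map e.toMonoidHom e.surjective
  rwa [ind_equiv hW, hT] at h

theorem fus_kInf {G : Type u} [Group G] [Finite G] {p : ℕ} [hp : Fact p.Prime]
    (hst : ∀ (K R : Subgroup G) [(R.subgroupOf K).Normal], IsNormalizerPStable p (↥K ⧸ R.subgroupOf K)) :
    (∀ (Γ : Type u) [Group Γ] [Finite Γ], IsSec G Γ → ∀ (H S : Subgroup Γ), Syl p S H →
      Fus S H (H ⊓ Subgroup.normalizer (inducedFunctor kInfLower S : Set Γ))) ∧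
    (∀ (Γ : Type u) [Group Γ] [Finite Γ], IsSec G Γ → ∀ (H S : Subgroup Γ), Syl p S H →
      Fus S H (H ⊓ Subgroup.normalizer (inducedFunctor kInfUpper S : Set Γ))) := by
  have key : ∀ (Γ : Type u) [Group Γ] [Finite Γ], IsSec G Γ →
      Subgroup.centralizer (pCore p Γ : Set Γ) ≤ pCore p Γ → ∀ S : Sylow p Γ,
      (inducedFunctor kInfLower (S : Subgroup Γ)).Normal ∧ (inducedFunctor kInfUpper (S : Subgroup Γ)).Normal := by
    intro Γ _ _ hsec hC S
    refine kInf_normal_of_pstable S hC fun V hV => ?_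
    obtain ⟨K, R, hn, ⟨e⟩⟩ := (hsec.of_surjective (QuotientGroup.mk'_surjective V)).exists_equiv
    refine ⟨↥K ⧸ R.subgroupOf K, inferInstance, e.symm.toMonoidHom.comp (QuotientGroup.mk' V),
      e.symm.surjective.comp (QuotientGroup.mk'_surjective V), ?_, hst K R⟩
    ext x
    rw [MonoidHom.mem_ker, MonoidHom.comp_apply, MulEquiv.toMonoidHom_eq_coe, MonoidHom.coe_coe,
      MulEquiv.map_eq_one_iff, ← MonoidHom.mem_ker, QuotientGroup.ker_mk']
  exact ⟨fusion_of_core _ (KInf.isCharPFunctor_lower p) fun Γ _ _ hs hC S => (key Γ hs hC S).1,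
    fusion_of_core _ (KInf.isCharPFunctor_upper p) fun Γ _ _ hs hC S => (key Γ hs hC S).2⟩

end CfsgLib.Glau
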