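import Mathlib.GroupTheory.Sylow
import Mathlib.GroupTheory.Nilpotent
import Mathlib.GroupTheory.QuotientGroup.Basic
import Mathlib.Algebra.Polynomial.AlgebraMap
import Mathlib.Algebra.CharP.Lemmas
import Mathlib.FieldTheory.Finite.Basic
import Mathlib.Algebra.Module.ZMod
import Mathlib.Algebra.Algebra.Basic
import Mathlib.Algebra.Module.LinearMap.End
import Mathlib.LinearAlgebra.Finsupp.Defs
import Mathlib.Algebra.BigOperators.Group.Finset.Basic
import Mathlib.GroupTheory.GroupAction.Quotient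

/-!
Norm products: an element centralized by a subgroup containing a Sylow subgroup is central modulo an elementary abelian normal
subgroup, provided enough elements of the Sylow subgroup act on it with short commutator chains.
-/

set_option autoImplicit false
set_option linter.style.haveILetI false

open scoped commutatorElement

namespace CfsgLib.Norm

theorem sum_iterate {V : Type*} [AddCommGroup V] {p : ℕ} [hp : Fact p.Prime] [Module (ZMod p) V]
    (f : V →ₗ[ZMod p] V) (D : V → V) (hD : ∀ v, D v = f v - v) (v : V) (hv : D^[p - 1] v = 0) :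
    ∑ j ∈ Finset.range p, (⇑f)^[j] v = 0 := by
  let F : Module.End (ZMod p) V := f
  have hd : ∀ (j : ℕ) (w : V), ((F - 1) ^ j : Module.End (ZMod p) V) w = D^[j] w := by
    intro j
    induction j with
    | zero => intro w; rfl
    | succ j ih => intro w; rw [pow_succ', Module.End.mul_apply, ih, Function.iterate_succ_apply', hD]; rfl
  have hpoly : ∑ j ∈ Finset.range p, (Polynomial.X : Polynomial (ZMod p)) ^ j =
      (Polynomial.X - 1) ^ (p - 1) := by
    refine mul_right_cancel₀ (Polynomial.X_sub_C_ne_zero (1 : ZMod p)) ?_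
    rw [map_one, geom_sum_mul, ← pow_succ, Nat.sub_add_cancel hp.out.one_le, sub_pow_char, one_pow]
  have h1 := congrArg (Polynomial.aeval F) hpoly
  simp only [map_sum, map_pow, map_sub, map_one, Polynomial.aeval_X] at h1
  have h2 := LinearMap.congr_fun h1 v
  rw [LinearMap.sum_apply, hd, hv] at h2
  refine Eq.trans (Finset.sum_congr rfl fun j _ => ?_) h2
  exact (Module.End.pow_apply F j v).symm

/-- In characteristic `p`, `1 + T + ⋯ + T^(p-1) = (T-1)^(p-1)`, applied to an element. -/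
theorem prod_iterate {B : Type*} [CommGroup B] {p : ℕ} [hp : Fact p.Prime] (hexp : ∀ b : B, b ^ p = 1)
    (T : B →* B) (D : B → B) (hD : ∀ b, D b = T b / b) (b : B) (hb : D^[p - 1] b = 1) :
    ∏ j ∈ Finset.range p, (⇑T)^[j] b = 1 := by
  letI : Module (ZMod p) (Additive B) := AddCommGroup.zmodModule fun x => hexp x.toMul
  exact sum_iterate (V := Additive B) ((MonoidHom.toAdditive T).toZModLinearMap p) D hD b hb

variable {Γ X A : Type*} [Group Γ] [Finite Γ] [MulAction Γ X] [CommGroup A] {p : ℕ} [hp : Fact p.Prime]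

theorem coatom_zpowers {K : Subgroup Γ} (hK : IsPGroup p K) {M : Subgroup ↥K} (hM : IsCoatom M) :
    ∃ _ : M.Normal, Nat.card (↥K ⧸ M) = p := by
  haveI : Group.IsNilpotent ↥K := hK.isNilpotent
  have hn : M.Normal := Subgroup.NormalizerCondition.normal_of_coatom M normalizerCondition_of_isNilpotent hM
  refine ⟨hn, ?_⟩
  obtain ⟨x, hx⟩ := SetLike.exists_not_mem_of_ne_top M hM.1
  obtain ⟨i, hi⟩ := (hK.to_quotient M).exists_card_eq
  have h1 : p ∣ Nat.card (↥K ⧸ M) := by
    rcases Nat.eq_zero_or_pos i with rfl | hi0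
    · exfalso
      rw [pow_zero, Nat.card_eq_one_iff_unique] at hi
      haveI := hi.1
      exact hx ((QuotientGroup.eq_one_iff x).1 (Subsingleton.elim _ _))
    · exact hi ▸ dvd_pow_self p hi0.ne'
  obtain ⟨y, hy⟩ := exists_prime_orderOf_dvd_card' p h1
  have hC : (Subgroup.zpowers y).comap (QuotientGroup.mk' M) = ⊤ := by
    refine hM.2 _ (lt_of_le_of_ne ?_ fun he => ?_)
    · intro m hm
      rw [Subgroup.mem_comap, QuotientGroup.mk'_apply, (QuotientGroup.eq_one_iff m).2 hm]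
      exact one_mem _
    · obtain ⟨z, rfl⟩ := QuotientGroup.mk'_surjective M y
      have : z ∈ M := he ▸ (Subgroup.mem_zpowers _ : QuotientGroup.mk' M z ∈ Subgroup.zpowers _)
      rw [QuotientGroup.mk'_apply, (QuotientGroup.eq_one_iff z).2 this, orderOf_one] at hy
      exact hp.out.ne_one hy.symm
  have : Subgroup.zpowers y = ⊤ := by
    rw [← Subgroup.map_comap_eq_self_of_surjective (QuotientGroup.mk'_surjective M) (Subgroup.zpowers y), hC,
      Subgroup.map_top_of_surjective _ (QuotientGroup.mk'_surjective M)]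
  rw [← hy, ← Nat.card_zpowers, this, Subgroup.card_top]

/-- An equivariant product over a set stable under a `p`-group vanishes if every point is trivial or is moved by an element
of vanishing norm. -/
theorem prod_eq_one (ρ : Γ →* MulAut A) (φ : X → A) :
    ∀ (n : ℕ) (K : Subgroup Γ) (s : Finset X), Nat.card K + s.card = n → IsPGroup p K →
      (∀ k ∈ K, ∀ y ∈ s, k • y ∈ s) → (∀ k ∈ K, ∀ y ∈ s, φ (k • y) = ρ k (φ y)) →
      (∀ y ∈ s, φ y = 1 ∨ ∃ t ∈ K, t • y ≠ y ∧ ∀ a : A, (∃ u ∈ s, a = φ u) ∨ (∃ v : Finset X, v ⊆ s ∧ a = ∏ u ∈ v, φ u) →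
        ∏ j ∈ Finset.range p, ρ (t ^ j) a = 1) →
      ∏ y ∈ s, φ y = 1 := by
  classical
  intro n
  induction n using Nat.strong_induction_on with
  | _ n ih =>
  intro K s hn hK hst heq hc
  by_cases hs : s = ∅
  · simp [hs]
  obtain ⟨x, hx⟩ := Finset.nonempty_of_ne_empty hs
  let O := s.filter fun y => ∃ k ∈ K, k • x = y
  by_cases hO : O = s
  swap
  · have hsub : O ⊆ s := Finset.filter_subset _ _
    have hxO : x ∈ O := Finset.mem_filter.2 ⟨hx, 1, K.one_mem, one_smul Γ x⟩
    have main : ∀ v ⊆ s, v.card < s.card → (∀ k ∈ K, ∀ y ∈ v, k • y ∈ v) → ∏ y ∈ v, φ y = 1 := by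
      intro v hv hlt hv'
      refine ih _ (by omega) K v rfl hK hv' (fun k hk y hy => heq k hk y (hv hy)) fun y hy => ?_
      refine (hc y (hv hy)).imp id fun ⟨t, ht, hty, hta⟩ => ⟨t, ht, hty, fun a ha => hta a ?_⟩
      rcases ha with ⟨u, hu, rfl⟩ | ⟨w, hw, rfl⟩
      exacts [Or.inl ⟨u, hv hu, rfl⟩, Or.inr ⟨w, hw.trans hv, rfl⟩]
    rw [← Finset.prod_sdiff hsub, main O hsub ?_ ?_, main (s \ O) Finset.sdiff_subset ?_ ?_, mul_one]
    · exact Finset.card_lt_card (Finset.sdiff_ssubset hsub ⟨x, hxO⟩)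
    · intro k hk y hy
      rw [Finset.mem_sdiff] at hy ⊢
      refine ⟨hst k hk y hy.1, fun hky => hy.2 ?_⟩
      obtain ⟨-, k', hk', e⟩ := Finset.mem_filter.1 hky
      exact Finset.mem_filter.2 ⟨hy.1, k⁻¹ * k', K.mul_mem (K.inv_mem hk) hk', by rw [mul_smul, e, inv_smul_smul]⟩
    · exact Finset.card_lt_card (lt_of_le_of_ne hsub hO)
    · intro k hk y hy
      obtain ⟨hys, k', hk', e⟩ := Finset.mem_filter.1 hy
      exact Finset.mem_filter.2 ⟨hst k hk y hys, k * k', K.mul_mem hk hk', by rw [mul_smul, e]⟩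
  have htr : ∀ y ∈ s, ∃ k ∈ K, k • x = y := fun y hy => (Finset.mem_filter.1 (hO.symm ▸ hy : y ∈ O)).2
  by_cases hR : ∀ k ∈ K, k • x = x
  · have hs1 : s = {x} := Finset.eq_singleton_iff_unique_mem.2
      ⟨hx, fun y hy => by obtain ⟨k, hk, rfl⟩ := htr y hy; exact hR k hk⟩
    rw [hs1, Finset.prod_singleton]
    exact (hc x hx).resolve_right fun ⟨t, ht, htx, _⟩ => htx (hR t ht)
  -- a maximal subgroup of `K` containing the stabilizer
  let R : Subgroup ↥K := (MulAction.stabilizer Γ x).comap K.subtype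
  obtain ⟨M, hM, hRM⟩ := (eq_top_or_exists_le_coatom R).resolve_left fun he => hR fun k hk =>
    (he ▸ Subgroup.mem_top (⟨k, hk⟩ : ↥K) : (⟨k, hk⟩ : ↥K) ∈ R)
  obtain ⟨hMn, hMc⟩ := coatom_zpowers hK hM
  have hkey : ∀ k k' : ↥K, (k : Γ) • x = (k' : Γ) • x → (QuotientGroup.mk k : ↥K ⧸ M) = QuotientGroup.mk k' := by
    intro k k' he
    refine QuotientGroup.eq.2 (hRM ?_)
    show ((k : Γ)⁻¹ * (k' : Γ)) • x = x
    rw [mul_smul, ← he, inv_smul_smul]
  -- the fibres
  let π : X → ↥K ⧸ M := fun y =>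
    if h : ∃ k : ↥K, (k : Γ) • x = y then QuotientGroup.mk h.choose else QuotientGroup.mk 1
  have hπ : ∀ k : ↥K, π ((k : Γ) • x) = QuotientGroup.mk k := fun k => by
    have h : ∃ k' : ↥K, (k' : Γ) • x = (k : Γ) • x := ⟨k, rfl⟩
    simp only [π, dif_pos h]
    exact hkey _ _ h.choose_spec
  let fib : ↥K ⧸ M → Finset X := fun c => s.filter fun y => π y = c
  have hF : ∀ (k : ↥K) (c : ↥K ⧸ M), ∏ y ∈ fib (QuotientGroup.mk k * c), φ y = ρ k (∏ y ∈ fib c, φ y) := by
    intro k c
    rw [map_prod]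
    symm
    refine Finset.prod_bij' (fun y _ => (k : Γ) • y) (fun y _ => (k : Γ)⁻¹ • y) ?_ ?_ ?_ ?_ ?_
    · intro y hy
      obtain ⟨hys, hyc⟩ := Finset.mem_filter.1 hy
      obtain ⟨k', hk', rfl⟩ := htr y hys
      refine Finset.mem_filter.2 ⟨hst _ k.2 _ hys, ?_⟩
      have e : π (k' • x) = QuotientGroup.mk (⟨k', hk'⟩ : ↥K) := hπ ⟨k', hk'⟩
      rw [← mul_smul, show (k : Γ) * k' = ((k * ⟨k', hk'⟩ : ↥K) : Γ) from rfl, hπ, QuotientGroup.mk_mul, ← hyc, e]
    · intro y hy
      obtain ⟨hys, hyc⟩ := Finset.mem_filter.1 hy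
      obtain ⟨k', hk', rfl⟩ := htr y hys
      refine Finset.mem_filter.2 ⟨hst _ (K.inv_mem k.2) _ hys, ?_⟩
      rw [show k' = ((⟨k', hk'⟩ : ↥K) : Γ) from rfl, hπ] at hyc
      rw [← mul_smul, show (k : Γ)⁻¹ * k' = ((k⁻¹ * ⟨k', hk'⟩ : ↥K) : Γ) from rfl, hπ, QuotientGroup.mk_mul, hyc,
        QuotientGroup.mk_inv, inv_mul_cancel_left]
    · intro y _; exact inv_smul_smul _ _
    · intro y _; exact smul_inv_smul _ _
    · intro y hy
      exact (heq _ k.2 y (Finset.mem_filter.1 hy).1).symm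
  haveI : Fintype (↥K ⧸ M) := Fintype.ofFinite _
  rw [← Finset.prod_fiberwise s π φ]
  rcases hc x hx with hx1 | ⟨t, ht, htx, hta⟩
  · refine Finset.prod_eq_one fun c _ => Finset.prod_eq_one fun y hy => ?_
    obtain ⟨k, hk, rfl⟩ := htr y (Finset.mem_filter.1 hy).1
    rw [heq k hk x hx, hx1, map_one]
  by_cases htM : (⟨t, ht⟩ : ↥K) ∈ M
  · have h1 : ∏ y ∈ fib 1, φ y = 1 := by
      refine ih _ ?_ (M.map K.subtype) (fib 1) rfl ((hK.to_subgroup M).map _) ?_
        (fun k hk y hy => heq k (Subgroup.map_subtype_le M hk) y (Finset.mem_filter.1 hy).1) ?_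
      · have a1 : Nat.card ↥(M.map K.subtype) < Nat.card ↥K := by
          rw [Subgroup.card_map_of_injective K.subtype_injective]
          refine lt_of_le_of_ne (Nat.card_le_card_of_injective _ M.subtype_injective) fun he => hM.1 ?_
          exact Subgroup.eq_top_of_card_eq _ he
        have a2 : (fib 1).card ≤ s.card := Finset.card_filter_le _ _
        omega
      · rintro _ ⟨k, hk, rfl⟩ y hy
        obtain ⟨hys, hyc⟩ := Finset.mem_filter.1 hy
        obtain ⟨k', hk', rfl⟩ := htr y hys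
        refine Finset.mem_filter.2 ⟨hst _ k.2 _ hys, ?_⟩
        rw [show k' = ((⟨k', hk'⟩ : ↥K) : Γ) from rfl, hπ] at hyc
        rw [← mul_smul, show K.subtype k * k' = ((k * ⟨k', hk'⟩ : ↥K) : Γ) from rfl, hπ, QuotientGroup.mk_mul, hyc,
          mul_one, (QuotientGroup.eq_one_iff k).2 hk]
      · intro y hy
        obtain ⟨hys, hyc⟩ := Finset.mem_filter.1 hy
        obtain ⟨k', hk', rfl⟩ := htr y hys
        rw [show k' = ((⟨k', hk'⟩ : ↥K) : Γ) from rfl, hπ] at hyc
        have hk'M : (⟨k', hk'⟩ : ↥K) ∈ M := (QuotientGroup.eq_one_iff _).1 hyc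
        refine Or.inr ⟨k' * t * k'⁻¹, ⟨⟨k', hk'⟩ * ⟨t, ht⟩ * ⟨k', hk'⟩⁻¹,
          mul_mem (mul_mem hk'M htM) (inv_mem hk'M), rfl⟩, ?_, fun a ha => ?_⟩
        · rw [mul_smul, mul_smul, inv_smul_smul]
          exact fun he => htx (smul_left_cancel k' he)
        · have hsub : fib 1 ⊆ s := Finset.filter_subset _ _
          -- pull the element back by `k'`
          have hb : (∃ u ∈ s, (ρ k').symm a = φ u) ∨ (∃ v : Finset X, v ⊆ s ∧ (ρ k').symm a = ∏ u ∈ v, φ u) := by
            have e : ∀ u ∈ s, (ρ k').symm (φ u) = φ (k'⁻¹ • u) := fun u hu => by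
              rw [heq _ (K.inv_mem hk') u hu, map_inv]; rfl
            rcases ha with ⟨u, hu, rfl⟩ | ⟨v, hv, rfl⟩
            · exact Or.inl ⟨_, hst _ (K.inv_mem hk') u (hsub hu), e u (hsub hu)⟩
            · refine Or.inr ⟨v.image (k'⁻¹ • ·), ?_, ?_⟩
              · intro u hu
                obtain ⟨w, hw, rfl⟩ := Finset.mem_image.1 hu
                exact hst _ (K.inv_mem hk') w (hsub (hv hw))
              · rw [Finset.prod_image fun a _ b _ h => smul_left_cancel _ h, map_prod]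
                exact Finset.prod_congr rfl fun u hu => e u (hsub (hv hu))
          have h3 := congrArg (ρ k') (hta _ hb)
          rw [map_prod, map_one] at h3
          refine Eq.trans (Finset.prod_congr rfl fun j _ => ?_) h3
          rw [conj_pow, map_mul, map_mul, map_inv]
          rfl
    refine Finset.prod_eq_one fun c _ => ?_
    obtain ⟨k, rfl⟩ := QuotientGroup.mk_surjective c
    show ∏ y ∈ fib (QuotientGroup.mk k), φ y = 1
    rw [show (QuotientGroup.mk k : ↥K ⧸ M) = QuotientGroup.mk k * 1 from (mul_one _).symm, hF, h1, map_one]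
  -- the cyclic quotient
  set T : ↥K ⧸ M := QuotientGroup.mk (⟨t, ht⟩ : ↥K)
  have hTo : orderOf T = p := orderOf_eq_prime (by rw [← hMc]; exact pow_card_eq_one') fun h =>
    htM ((QuotientGroup.eq_one_iff _).1 h)
  show ∏ c, ∏ y ∈ fib c, φ y = 1
  have hbij : ∏ j ∈ Finset.range p, ∏ y ∈ fib (T ^ j), φ y = ∏ c, ∏ y ∈ fib c, φ y := by
    refine Finset.prod_bij (fun j _ => T ^ j) (fun j _ => Finset.mem_univ _) ?_ ?_ fun _ _ => rfl
    · intro i hi j hj hij
      exact pow_injOn_Iio_orderOf (by simpa [hTo] using Finset.mem_range.1 hi)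
        (by simpa [hTo] using Finset.mem_range.1 hj) hij
    · intro c _
      have : c ∈ Subgroup.zpowers T := by
        rw [Subgroup.eq_top_of_card_eq (Subgroup.zpowers T) (by rw [Nat.card_zpowers, hTo, hMc])]; trivial
      obtain ⟨j, hj, rfl⟩ := (mem_zpowers_iff_mem_range_orderOf).1 this |> Finset.mem_image.1
      exact ⟨j, by rwa [hTo] at hj, rfl⟩
  rw [← hbij]
  refine Eq.trans (Finset.prod_congr rfl fun j _ => ?_)
    (hta _ (Or.inr ⟨fib 1, Finset.filter_subset _ _, rfl⟩))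
  rw [show T ^ j = QuotientGroup.mk ((⟨t, ht⟩ : ↥K) ^ j) * 1 by rw [mul_one]; rfl, hF]
  rfl

/-- The fixed point criterion. -/
theorem fixed_of_norm {Q : Type*} [Group Q] [Finite Q] {U M S : Subgroup Q} [U.Normal]
    (hUc : ∀ a ∈ U, ∀ b ∈ U, a * b = b * a) (hexp : ∀ a ∈ U, a ^ p = 1) (hS : IsPGroup p S) (hSM : S ≤ M)
    (hidx : ¬ p ∣ M.index) {x : Q} (hxU : ∀ h : Q, ⁅h, x⁆ ∈ U) (hMx : ∀ m ∈ M, m * x = x * m)
    (hmove : ∀ h, h ∉ M → ∃ t ∈ S, h⁻¹ * t * h ∉ M ∧ ∀ u ∈ U, (fun a => ⁅t, a⁆)^[p - 1] u = 1) :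
    x ∈ Subgroup.center Q := by
  classical
  letI : CommGroup ↥U :=
    { (inferInstance : Group ↥U) with mul_comm := fun a b => Subtype.ext (hUc a a.2 b b.2) }
  let ρ : Q →* MulAut ↥U := MulAut.conjNormal
  let δ : Q → ↥U := fun h => ⟨⁅h, x⁆, hxU h⟩
  have hmul : ∀ a b : Q, δ (a * b) = ρ a (δ b) * δ a := fun a b =>
    Subtype.ext (by
      show ⁅a * b, x⁆ = ((ρ a (δ b) : ↥U) : Q) * ⁅a, x⁆
      rw [commutatorElement_mul_left_eq_conj_mul, MulAut.conjNormal_apply])
  have hM1 : ∀ m ∈ M, δ m = 1 := fun m hm => Subtype.ext (commutatorElement_eq_one_iff_commute.2 (hMx m hm))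
  let φ : Q ⧸ M → ↥U := fun c => Quotient.liftOn' c δ fun a b h => by
    have h' : a⁻¹ * b ∈ M := (QuotientGroup.leftRel_apply).1 h
    conv_rhs => rw [show b = a * (a⁻¹ * b) by group, hmul, hM1 _ h', map_one, one_mul]
  have hφ : ∀ a : Q, φ (QuotientGroup.mk a) = δ a := fun a => rfl
  haveI : Fintype (Q ⧸ M) := Fintype.ofFinite _
  have h0 : ∏ c : Q ⧸ M, φ c = 1 := by
    refine prod_eq_one ρ φ _ S Finset.univ rfl hS (fun _ _ _ _ => Finset.mem_univ _) ?_ ?_
    · intro s hs y _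
      obtain ⟨a, rfl⟩ := QuotientGroup.mk_surjective y
      show δ (s * a) = ρ s (δ a)
      rw [hmul, hM1 s (hSM hs), mul_one]
    · intro y _
      obtain ⟨a, rfl⟩ := QuotientGroup.mk_surjective y
      by_cases ha : a ∈ M
      · exact Or.inl (hM1 a ha)
      obtain ⟨t, ht, htM, htU⟩ := hmove a ha
      refine Or.inr ⟨t, ht, fun he => htM ?_, fun b _ => ?_⟩
      · have h2 := QuotientGroup.eq.1 (he : (QuotientGroup.mk (t * a) : Q ⧸ M) = QuotientGroup.mk a).symm
        simpa [mul_assoc] using h2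
      · have hit : ∀ j : ℕ, ρ (t ^ j) b = (⇑(ρ t).toMonoidHom)^[j] b := by
          intro j
          induction j with
          | zero => simp
          | succ j ih => rw [Function.iterate_succ_apply', ← ih, pow_succ', map_mul]; rfl
        rw [Finset.prod_congr rfl fun j _ => hit j]
        refine prod_iterate (fun c => Subtype.ext (by simpa using hexp c c.2)) _
          (fun c => ρ t c / c) (fun _ => rfl) b (Subtype.ext ?_)
        have hD : ∀ (j : ℕ) (c : ↥U), (((fun c => ρ t c / c)^[j] c : ↥U) : Q) = (fun a => ⁅t, a⁆)^[j] (c : Q) := by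
          intro j
          induction j with
          | zero => intro c; rfl
          | succ j ih =>
            intro c
            rw [Function.iterate_succ_apply', Function.iterate_succ_apply', ← ih]
            simp [div_eq_mul_inv, commutatorElement_def, ρ]
        rw [hD, htU _ b.2]
        rfl
  refine Subgroup.mem_center_iff.2 fun q => ?_
  have h1 : ∏ c : Q ⧸ M, φ (q • c) = 1 :=
    (Fintype.prod_equiv (MulAction.toPerm q) _ φ fun _ => rfl).trans h0
  have h2 : ∀ c : Q ⧸ M, φ (q • c) = ρ q (φ c) * δ q := fun c => by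
    obtain ⟨a, rfl⟩ := QuotientGroup.mk_surjective c
    exact hmul q a
  simp only [h2] at h1
  rw [Finset.prod_mul_distrib, ← map_prod, h0, map_one, one_mul, Finset.prod_const, Finset.card_univ,
    ← Nat.card_eq_fintype_card, ← Subgroup.index_eq_card] at h1
  have h3 : δ q ^ p = 1 := Subtype.ext (by simpa using hexp _ (δ q).2)
  have h4 : δ q ^ Nat.gcd p M.index = 1 := pow_gcd_eq_one.2 ⟨h3, h1⟩
  rw [(hp.out.coprime_iff_not_dvd.2 hidx).gcd_eq_one, pow_one] at h4
  exact commutatorElement_eq_one_iff_commute.1 (congrArg Subtype.val h4 : ⁅q, x⁆ = 1)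

end CfsgLib.Norm
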