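import Cfsg.Agent.Fus.FunctorCore
import Cfsg.Agent.Fus.NormProduct
import Cfsg.Prelude.Def_LocalEven
import Cfsg.Prelude.Def_PLocal

/-!
Weak closure of central elements and of central p-th powers under a functor with short commutator chains.
-/

set_option autoImplicit false
set_option linter.style.haveILetI false

open Cfsg
open scoped commutatorElement

namespace CfsgLib.Glau
universe u

variable {G : Type*} [Group G] [Finite G] {p : ℕ} [hp : Fact p.Prime]

/-- The subgroup generated by the p-th powers of `X`. -/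
abbrev pw (p : ℕ) (X : Subgroup G) : Subgroup G := Subgroup.closure ((fun z : G => z ^ p) '' (X : Set G))

omit hp in
theorem pw_le (X : Subgroup G) : pw p X ≤ X :=
  (Subgroup.closure_le X).2 (by rintro _ ⟨z, hz, rfl⟩; exact X.pow_mem hz p)

omit [Finite G] hp in
theorem pw_mono {X Y : Subgroup G} (h : X ≤ Y) : pw p X ≤ pw p Y :=
  Subgroup.closure_mono (Set.image_mono h)

omit [Finite G] hp in
theorem cj_pw (g : G) (X : Subgroup G) : cj g (pw p X) = pw p (cj g X) := by
  rw [cj, pw, MonoidHom.map_closure, pw, Subgroup.coe_map, ← Set.image_comp, ← Set.image_comp]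
  congr 1
  exact Set.image_congr fun z _ => map_pow _ z p

/-- A quadratic element whose p-th power centralizes `V` fixes the p-th powers of `V`. -/
theorem quadratic_fix {V : Subgroup G} (hV : ∀ a ∈ V, ∀ b ∈ V, a * b = b * a) {g : G}
    (hgV : g ∈ Subgroup.normalizer (V : Set G))
    (hq : ∀ z ∈ V, g * ⁅g, z⁆ = ⁅g, z⁆ * g) (hgp : g ^ p ∈ Subgroup.centralizer (V : Set G)) :
    g ∈ Subgroup.centralizer (pw p V : Set G) := by
  rw [Subgroup.centralizer_closure]
  rintro _ ⟨z, hz, rfl⟩
  set c := ⁅g, z⁆ with hc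
  have hcV : c ∈ V := by
    rw [hc, commutatorElement_def]
    exact V.mul_mem ((Subgroup.mem_normalizer_iff.1 hgV z).1 hz) (V.inv_mem hz)
  have h1 : g * z = c * z * g := by rw [hc, commutatorElement_def]; group
  have hn : ∀ n : ℕ, g ^ n * z = c ^ n * z * g ^ n := by
    intro n
    induction n with
    | zero => simp
    | succ n ih =>
      have hgc : Commute g (c ^ n) := (show Commute g c from hq z hz).pow_right n
      calc g ^ (n + 1) * z = g * (g ^ n * z) := by rw [pow_succ']; group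
        _ = g * c ^ n * (z * g ^ n) := by rw [ih]; group
        _ = c ^ n * (g * z) * g ^ n := by rw [hgc.eq]; group
        _ = c ^ (n + 1) * z * g ^ (n + 1) := by rw [h1, pow_succ, pow_succ']; group
  have hcp : c ^ p = 1 := by
    have h2 := hn p
    have h3 : g ^ p * z = z * g ^ p := (hgp z hz).symm
    rw [h3] at h2
    exact mul_right_cancel (b := z * g ^ p) (by rw [one_mul, ← mul_assoc, ← h2])
  show z ^ p * g = g * z ^ p
  calc z ^ p * g = (c * z) ^ p * g := by
        rw [(show Commute c z from hV c hcV z hz).mul_pow, hcp, one_mul]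
    _ = (g * z * g⁻¹) ^ p * g := by rw [h1, mul_inv_cancel_right]
    _ = g * z ^ p := by rw [conj_pow, inv_mul_cancel_right]

/-- Weak closure of subgroups generated by central p-th powers. -/
theorem wc_power (W : Subgroup G → Subgroup G) (hW : IsConjugacyFunctor p W)
    (hWZ : ∀ P : Subgroup G, IsPGroup p ↥P → P ⊓ Subgroup.centralizer (P : Set G) ≤ W P)
    (hloc : ∀ (H S : Subgroup G), Syl p S H → ¬ H ≤ Subgroup.normalizer (W S : Set G) →
      ∃ g ∈ S, g ∉ pCoreOf p H ∧ ⁅⁅pCoreOf p H ⊓ Subgroup.centralizer (pCoreOf p H : Set G),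
        Subgroup.zpowers g⁆, Subgroup.zpowers g⁆ = ⊥)
    {H S A L : Subgroup G} (h : Syl p S H) (hA : A ≤ pw p (S ⊓ Subgroup.centralizer (S : Set G)))
    (hL : L ≤ Subgroup.normalizer (A : Set G)) (hCL : Subgroup.centralizer (A : Set G) ≤ L)
    (hN : H ⊓ Subgroup.normalizer (W S : Set G) ≤ L) :
    ∀ g ∈ H, cj g A ≤ S → g ∈ L := by
  revert H S
  suffices key : ∀ (n : ℕ) (H S : Subgroup G), Nat.card H = n → Syl p S H →
      A ≤ pw p (S ⊓ Subgroup.centralizer (S : Set G)) → H ⊓ Subgroup.normalizer (W S : Set G) ≤ L →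
      ∀ g ∈ H, cj g A ≤ S → g ∈ L from fun {H S} h hA hN => key _ H S rfl h hA hN
  intro n
  induction n using Nat.strong_induction_on with
  | _ n ih =>
  intro H S hn h hA hN g hg hgA
  by_contra hgL
  have hAZ : A ≤ S ⊓ Subgroup.centralizer (S : Set G) := hA.trans (pw_le _)
  have hAS : A ≤ S := hAZ.trans inf_le_left
  obtain ⟨T, hT, hAT, hle, m, hm, hmL⟩ :=
    exists_moving hW h hAS hL hN (hAZ.trans inf_le_right) hWZ hg hgL hgA
  have hQ := (hT.2 0).syl h
  change Syl p (S ⊓ Subgroup.normalizer (T : Set G)) (H ⊓ Subgroup.normalizer (T : Set G)) at hQ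
  have hmA : cj m A ≤ T := (cj_mono m hAT).trans (mem_normalizer_iff_cj.1 hm.2).le
  have hTQ : T ≤ S ⊓ Subgroup.normalizer (T : Set G) := le_inf hT.1 Subgroup.le_normalizer
  by_cases hlt : Nat.card ↥(H ⊓ Subgroup.normalizer (T : Set G)) < n
  · refine hmL (ih _ hlt _ _ rfl hQ (hA.trans (pw_mono fun z hz => ⟨⟨hz.1, ?_⟩, fun q hq => hz.2 q hq.1⟩))
      ((inf_le_inf_right _ inf_le_left).trans ?_) m hm (hmA.trans hTQ))
    · exact Subgroup.centralizer_le_normalizer _ fun t ht => hz.2 t (hT.1 ht)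
    · exact hle
  have hHT : H ≤ Subgroup.normalizer (T : Set G) := by
    have := Subgroup.eq_of_le_of_card_ge (inf_le_left : H ⊓ Subgroup.normalizer (T : Set G) ≤ H) (by omega)
    exact this.ge.trans inf_le_right
  set P := pCoreOf p H with hPdef
  have hTP : T ≤ P := le_pc (hT.1.trans h.le) (h.pg.to_le hT.1) hHT
  have hPS : P ≤ S := h.pc_le
  refine hmL (?_ : m ∈ L)
  suffices hHL : H ≤ L from hHL hm.1
  -- proper overgroups of `S` lie in `L`
  have hprop : ∀ K : Subgroup G, S ≤ K → K ≤ H → ¬ H ≤ K → K ≤ L := by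
    intro K hSK hKH hne k hk
    refine ih _ ?_ K S rfl (h.mono hSK hKH) hA ((inf_le_inf_right _ hKH).trans hN) k hk ?_
    · refine hn ▸ lt_of_not_ge fun hge => hne (Subgroup.eq_of_le_of_card_ge hKH hge).ge
    · exact (cj_mono k hAT).trans ((mem_normalizer_iff_cj.1 (hHT (hKH hk))).le.trans hT.1)
  have hPN := le_normalizer_pc (p := p) H
  set N := Subgroup.centralizer (P : Set G) with hNdef
  have hHN : H ≤ Subgroup.normalizer (N : Set G) := hPN.trans (normalizer_le_centralizer_normalizer P)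
  have hCA : N ≤ Subgroup.centralizer (A : Set G) := Subgroup.centralizer_le (hAT.trans hTP)
  by_cases hK : H ≤ Subgroup.normalizer ((S ⊓ N : Subgroup G) : Set G)
  swap
  · exact le_of_frattini h hHN ((inf_le_right.trans hCA).trans hCL) (hprop _ (le_inf h.le
      ((le_inf Subgroup.le_normalizer (h.le.trans hHN)).trans
        (Subgroup.inf_normalizer_le_normalizer_inf))) inf_le_left fun hh => hK (hh.trans inf_le_right))
  have hRP : S ⊓ N ≤ P := le_pc (inf_le_left.trans h.le) (h.pg.to_le inf_le_left) hK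
  set V := P ⊓ Subgroup.centralizer (P : Set G) with hVdef
  have hAV : A ≤ pw p V := hA.trans (pw_mono fun z hz => by
    have : z ∈ N := fun y hy => hz.2 y (hPS hy)
    exact ⟨hRP ⟨hz.1, this⟩, this⟩)
  by_cases hWS : H ≤ Subgroup.normalizer (W S : Set G)
  · exact (le_inf le_rfl hWS).trans hN
  obtain ⟨g, hgS, hgP, hgq⟩ := hloc H S h hWS
  obtain ⟨e, he⟩ := h.pg ⟨g, hgS⟩
  have hex : ∃ k, g ^ p ^ k ∈ P := ⟨e, by
    rw [show g ^ p ^ e = 1 from congrArg Subtype.val he]; exact one_mem _⟩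
  classical
  obtain ⟨k, hk⟩ : ∃ k, Nat.find hex = k + 1 := by
    refine Nat.exists_eq_succ_of_ne_zero fun h0 => hgP ?_
    have := Nat.find_spec hex
    rwa [h0, pow_zero, pow_one] at this
  set t := g ^ p ^ k with ht
  have htP : t ∉ P := Nat.find_min hex (by omega)
  have htp : t ^ p ∈ P := by
    have := Nat.find_spec hex
    rw [hk] at this
    rwa [ht, ← pow_mul, ← pow_succ]
  have htS : t ∈ S := S.pow_mem hgS _
  have htz : Subgroup.zpowers t ≤ Subgroup.zpowers g :=
    Subgroup.zpowers_le.2 (Subgroup.pow_mem _ (Subgroup.mem_zpowers g) _)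
  have htV : t ∈ Subgroup.centralizer (pw p V : Set G) := by
    have hVN : H ≤ Subgroup.normalizer (V : Set G) :=
      (le_inf hPN hHN).trans Subgroup.inf_normalizer_le_normalizer_inf
    refine quadratic_fix (fun a (ha : a ∈ V) b (hb : b ∈ V) => hb.2 a ha.1) (hVN (h.le htS)) (fun z hz => ?_) (fun z hz => (hz.2 _ htp).symm)
    have h0 : ⁅⁅z, t⁆, t⁆ = 1 := by
      rw [← Subgroup.mem_bot, ← hgq]
      exact Subgroup.commutator_mem_commutator (Subgroup.commutator_mem_commutator hz
        (htz (Subgroup.mem_zpowers t))) (htz (Subgroup.mem_zpowers t))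
    have hc : Commute ⁅z, t⁆ t := commutatorElement_eq_one_iff_commute.1 h0
    have h3 : Commute (⁅z, t⁆)⁻¹ t := hc.inv_left
    rw [commutatorElement_inv] at h3
    exact h3.symm.eq
  set C := Subgroup.centralizer (pw p V : Set G) with hCdef
  have hHC : H ≤ Subgroup.normalizer (C : Set G) := by
    intro x hx
    refine centralizer_normalizer (mem_normalizer_iff_cj.2 ?_)
    rw [cj_pw, hVdef, cj_inf, cj_centralizer, mem_normalizer_iff_cj.1 (hPN hx)]
  refine le_of_frattini h hHC ((inf_le_right.trans (Subgroup.centralizer_le hAV)).trans hCL) (hprop _ (le_inf h.le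
    ((le_inf Subgroup.le_normalizer (h.le.trans hHC)).trans (Subgroup.inf_normalizer_le_normalizer_inf)))
      inf_le_left fun hh => htP ?_)
  exact le_pc (inf_le_left.trans h.le) (h.pg.to_le inf_le_left) (hh.trans inf_le_right) ⟨htS, htV⟩

/-- The commutator chain transported by an automorphism. -/
theorem map_iterCommutator {Q : Type*} [Group Q] (f : G →* Q) (U K : Subgroup G) :
    ∀ n, (iterCommutator U K n).map f = iterCommutator (U.map f) (K.map f) n
  | 0 => rfl
  | n + 1 => by
    show (⁅iterCommutator U K n, K⁆).map f = _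
    rw [Subgroup.map_commutator, map_iterCommutator f U K n]; rfl

theorem iterate_mem (U : Subgroup G) {t u : G} (hu : u ∈ U) :
    ∀ n, (fun a => ⁅t, a⁆)^[n] u ∈ iterCommutator U (Subgroup.zpowers t) n
  | 0 => hu
  | n + 1 => by
    rw [Function.iterate_succ_apply']
    show _ ∈ ⁅iterCommutator U (Subgroup.zpowers t) n, Subgroup.zpowers t⁆
    rw [Subgroup.commutator_comm]
    exact Subgroup.commutator_mem_commutator (Subgroup.mem_zpowers t) (iterate_mem U hu n)

/-- A central element of a Sylow subgroup is central if some element acts with short chains on the chief factors. -/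
theorem central_of_hit {Γ : Type*} [Group Γ] [Finite Γ] {S V : Subgroup Γ} [V.Normal] (hS : Syl p S ⊤)
    (hVc : ∀ a ∈ V, ∀ b ∈ V, a * b = b * a) (hVp : IsPGroup p V) {x : Γ} (hxV : x ∈ V)
    (hxS : ∀ s ∈ S, s * x = x * s) (hmax : ∀ K : Subgroup Γ, S ≤ K → K ≠ ⊤ → K ≤ Subgroup.centralizer ({x} : Set Γ))
    {g : Γ} (hgS : g ∈ S) (hg : ∀ N : Subgroup Γ, N.Normal → IsPGroup p N → g ∉ N)
    (hit : ∀ U W : Subgroup Γ, IsChiefFactor U W → U ≤ V → iterCommutator U (Subgroup.zpowers g) (p - 1) ≤ W) :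
    x ∈ Subgroup.center Γ := by
  classical
  set M := Subgroup.centralizer ({x} : Set Γ) with hMdef
  have hMx : ∀ m ∈ M, m * x = x * m := fun m hm => (hm x rfl).symm
  have hSM : S ≤ M := fun s hs y hy => by rw [Set.mem_singleton_iff.1 hy]; exact (hxS s hs).symm
  have hVM : V ≤ M := fun v hv y hy => by rw [Set.mem_singleton_iff.1 hy]; exact hVc x hxV v hv
  let 𝒰 : Set (Subgroup Γ) := {U | U.Normal ∧ U ≤ V ∧ ∀ h : Γ, ⁅h, x⁆ ∈ U}
  obtain ⟨U, hU, hUmin⟩ := Set.Finite.exists_minimal (Set.toFinite 𝒰) ⟨V, ‹V.Normal›, le_rfl, fun h => by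
    rw [commutatorElement_def]
    exact V.mul_mem (‹V.Normal›.conj_mem x hxV h) (V.inv_mem hxV)⟩
  obtain ⟨hUn, hUV, hUx⟩ := hU
  by_cases hU0 : U = ⊥
  · exact Subgroup.mem_center_iff.2 fun h =>
      commutatorElement_eq_one_iff_commute.1 (Subgroup.mem_bot.1 (hU0 ▸ hUx h))
  exfalso
  obtain ⟨W, hW, hWmax⟩ := Set.Finite.exists_maximal (Set.toFinite {W : Subgroup Γ | W.Normal ∧ W < U})
    ⟨⊥, inferInstance, bot_lt_iff_ne_bot.2 hU0⟩
  obtain ⟨hWn, hWU⟩ := hW
  have hchief : IsChiefFactor U W := ⟨hWU, hUn, hWn, fun N hN hWN hNU =>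
    (eq_or_lt_of_le hNU).elim Or.inr fun hlt => Or.inl (le_antisymm (hWmax ⟨hN, hlt⟩ hWN) hWN)⟩
  suffices hx : ∀ h, ⁅h, x⁆ ∈ W from hWU.not_ge (hUmin ⟨hWn, hWU.le.trans hUV, hx⟩ hWU.le)
  let π := QuotientGroup.mk' W
  have hπ : Function.Surjective π := QuotientGroup.mk'_surjective W
  have hexp : ∀ a ∈ U, a ^ p ∈ W := by
    have hle : pw p U ⊔ W ≤ U := sup_le (pw_le U) hWU.le
    have hn : (pw p U).Normal := ⟨fun a ha h => by
      have := conj_mem_cj (g := h) ha
      rwa [cj_pw, mem_normalizer_iff_cj.1 ((Subgroup.normalizer_eq_top_iff.2 hUn) ▸ Subgroup.mem_top h)] at this⟩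
    rcases hchief.2.2.2 _ inferInstance le_sup_right hle with he | he
    · exact fun a ha => he ▸ Subgroup.mem_sup_left (Subgroup.subset_closure ⟨a, ha, rfl⟩)
    · exfalso
      let Ub := U.map π
      letI : CommGroup ↥Ub :=
        { (inferInstance : Group ↥Ub) with
          mul_comm := fun a b => Subtype.ext (by
            obtain ⟨a', ha', e1⟩ := a.2
            obtain ⟨b', hb', e2⟩ := b.2
            show (a : Γ ⧸ W) * b = b * a
            rw [← e1, ← e2, ← map_mul, ← map_mul, hVc a' (hUV ha') b' (hUV hb')]) }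
      have hsurj : Function.Surjective (powMonoidHom p : ↥Ub →* ↥Ub) := by
        rw [← MonoidHom.range_eq_top, eq_top_iff]
        intro y _
        have hy : (y : Γ ⧸ W) ∈ (powMonoidHom p : ↥Ub →* ↥Ub).range.map Ub.subtype := by
          have h1 : U.map π ≤ (powMonoidHom p : ↥Ub →* ↥Ub).range.map Ub.subtype := by
            conv_lhs => rw [← he]
            rw [Subgroup.map_sup, sup_le_iff, MonoidHom.map_closure, Subgroup.closure_le]
            refine ⟨?_, ?_⟩
            · rintro _ ⟨_, ⟨a, ha, rfl⟩, rfl⟩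
              exact ⟨⟨π a, a, ha, rfl⟩ ^ p, ⟨_, rfl⟩, (map_pow π a p).symm⟩
            · rintro _ ⟨w, hw, rfl⟩
              have hw1 : π w = 1 := (QuotientGroup.eq_one_iff w).2 hw
              rw [hw1]
              exact one_mem _
          exact h1 y.2
        obtain ⟨z, hz, hzy⟩ := hy
        rwa [← Subtype.ext hzy]
      have hinj := Finite.injective_iff_surjective.2 hsurj
      obtain ⟨u, huU, huW⟩ := SetLike.exists_of_lt hWU
      obtain ⟨k, hk⟩ := hVp ⟨u, hUV huU⟩
      have hk' : (⟨π u, u, huU, rfl⟩ : ↥Ub) ^ p ^ k = 1 :=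
        Subtype.ext (by simpa using congrArg π (congrArg Subtype.val hk))
      have : ∀ (j : ℕ) (y : ↥Ub), y ^ p ^ j = 1 → y = 1 := by
        intro j
        induction j with
        | zero => intro y hy; simpa using hy
        | succ j ih => intro y hy; exact ih y (hinj (by simpa [← pow_mul, ← pow_succ] using hy))
      exact huW ((QuotientGroup.eq_one_iff u).1 (congrArg Subtype.val (this k _ hk')))
  have hWM : W ≤ M := (hWU.le.trans hUV).trans hVM
  haveI : (U.map π).Normal := hUn.map π hπ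
  have hfix : π x ∈ Subgroup.center (Γ ⧸ W) := by
    refine Norm.fixed_of_norm (p := p) (U := U.map π) (M := M.map π) (S := S.map π) ?_ ?_ (hS.pg.map π)
      (Subgroup.map_mono hSM) ?_ ?_ ?_ ?_
    · rintro _ ⟨a, ha, rfl⟩ _ ⟨b, hb, rfl⟩
      rw [← map_mul, ← map_mul, hVc a (hUV ha) b (hUV hb)]
    · rintro _ ⟨a, ha, rfl⟩
      rw [← map_pow]
      exact (QuotientGroup.eq_one_iff _).2 (hexp a ha)
    · intro hd
      refine (hS.mono hSM le_top).idx ?_ |>.elim
      have hd' : p ∣ M.index := hd.trans (M.index_map_dvd hπ)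
      have := hS.idx
      rw [← Subgroup.relIndex_mul_relIndex S M ⊤ hSM le_top, Subgroup.relIndex_top_right] at this
      exact absurd (hd'.mul_left _) this
    · intro h
      obtain ⟨h, rfl⟩ := hπ h
      exact ⟨_, hUx h, (map_commutatorElement π h x).symm ▸ rfl⟩
    · rintro _ ⟨m, hm, rfl⟩
      rw [← map_mul, ← map_mul, hMx m hm]
    · intro h hh
      obtain ⟨h, rfl⟩ := hπ h
      have hhM : h ∉ M := fun hm => hh ⟨h, hm, rfl⟩
      obtain ⟨t, htS, ⟨k, rfl⟩, htM⟩ : ∃ t ∈ S, (∃ k, t = k * g * k⁻¹) ∧ h⁻¹ * t * h ∉ M := by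
        by_contra hno
        push_neg at hno
        let D : Set Γ := {t | t ∈ S ∧ ∃ k, t = k * g * k⁻¹}
        set R := Subgroup.closure D with hR
        have hRS : R ≤ S := (Subgroup.closure_le S).2 fun t ht => ht.1
        have hRM : cj h⁻¹ R ≤ M := by
          rw [cj, MonoidHom.map_closure, Subgroup.closure_le]
          rintro _ ⟨t, ⟨htS, k, rfl⟩, rfl⟩
          have := hno _ htS ⟨k, rfl⟩
          simpa [mul_assoc] using this
        obtain ⟨m, hm, hmR⟩ := (hS.mono hSM le_top).exists_conj_le hRM (isPGroup_cj _ (hS.pg.to_le hRS))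
        rw [← cj_mul] at hmR
        have hdR : ∀ y : Γ, cj y R ≤ S → y ∈ Subgroup.normalizer (R : Set Γ) := by
          intro y hy
          refine mem_normalizer_iff_cj.2 (Subgroup.eq_of_le_of_card_ge ?_ (card_cj y R).ge)
          rw [cj, MonoidHom.map_closure, Subgroup.closure_le]
          rintro _ ⟨t, ⟨htS, k, rfl⟩, rfl⟩
          exact Subgroup.subset_closure ⟨hy (conj_mem_cj (Subgroup.subset_closure ⟨htS, k, rfl⟩)),
            y * k, by simp [mul_assoc]⟩
        have hSN : S ≤ Subgroup.normalizer (R : Set Γ) := fun s hs =>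
          hdR s ((cj_mono s hRS).trans (cj_eq_of_mem hs).le)
        have hgR : g ∈ R := Subgroup.subset_closure ⟨hgS, 1, by group⟩
        have hN := hmax _ hSN fun he =>
          hg R (Subgroup.normalizer_eq_top_iff.1 he) (hS.pg.to_le hRS) hgR
        have h2 := M.mul_mem (M.inv_mem hm) (hN (hdR _ hmR))
        rw [inv_mul_cancel_left] at h2
        exact hhM (by simpa using M.inv_mem h2)
      refine ⟨π (k * g * k⁻¹), ⟨_, htS, rfl⟩, ?_, ?_⟩
      · rintro ⟨m, hm, he⟩
        rw [← map_inv, ← map_mul, ← map_mul] at he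
        refine htM ?_
        have h3 := hWM ((QuotientGroup.eq (s := W)).1 he)
        have h4 := M.mul_mem hm h3
        rwa [mul_inv_cancel_left] at h4
      · rintro _ ⟨u, hu, rfl⟩
        have hD : ∀ n, (fun a => ⁅π (k * g * k⁻¹), a⁆)^[n] (π u) = π ((fun a => ⁅k * g * k⁻¹, a⁆)^[n] u) := by
          intro n
          induction n with
          | zero => rfl
          | succ n ih => rw [Function.iterate_succ_apply', Function.iterate_succ_apply', ih, map_commutatorElement]
        rw [hD]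
        refine (QuotientGroup.eq_one_iff _).2 ?_
        have h5 : cj k (iterCommutator U (Subgroup.zpowers g) (p - 1)) ≤ cj k W := cj_mono k (hit U W hchief hUV)
        rw [mem_normalizer_iff_cj.1 (show k ∈ Subgroup.normalizer (W : Set Γ) by rw [Subgroup.normalizer_eq_top_iff.2 hWn]; trivial)] at h5
        refine h5 ?_
        rw [cj, map_iterCommutator, MonoidHom.map_zpowers]
        refine iterate_mem _ ?_ _
        show u ∈ cj k U
        rwa [mem_normalizer_iff_cj.1 ((Subgroup.normalizer_eq_top_iff.2 hUn) ▸ Subgroup.mem_top k)]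
  intro h
  have h1 := commutatorElement_eq_one_iff_commute.2 (Subgroup.mem_center_iff.1 hfix (π h))
  rw [← map_commutatorElement] at h1
  exact (QuotientGroup.eq_one_iff _).1 h1

/-- Weak closure of elements. -/
theorem wc_elements (W : Subgroup G → Subgroup G) (hW : IsConjugacyFunctor p W)
    (hWZ : ∀ P : Subgroup G, IsPGroup p ↥P → P ⊓ Subgroup.centralizer (P : Set G) ≤ W P)
    (hloc : ∀ (H T : Subgroup G), Syl p T H → ¬ H ≤ Subgroup.normalizer (W T : Set G) →
      ∃ g ∈ T, g ∉ pCoreOf p H ∧ ∀ U V : Subgroup ↥H, IsChiefFactor U V →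
        U.map H.subtype ≤ pCoreOf p H ⊓ Subgroup.centralizer (pCoreOf p H : Set G) →
        iterCommutator (U.map H.subtype) (Subgroup.zpowers g) (p - 1) ≤ V.map H.subtype) :
    ∀ H : Subgroup G, ControlsWeakClosureOfElementsIn p W H := by
  suffices key : ∀ (n : ℕ) (H S : Subgroup G), Nat.card H = n → Syl p S H → ∀ x ∈ S,
      x ∈ Subgroup.centralizer ((H ⊓ Subgroup.normalizer (W S : Set G) : Subgroup G) : Set G) →
      ∀ h ∈ H, h * x * h⁻¹ ∈ S → h * x * h⁻¹ = x by
    intro H
    obtain ⟨S, -, hS⟩ := exists_syl (p := p) H bot_le IsPGroup.of_bot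
    exact ⟨hWZ, S, hS.le, hS.pg, hS.idx, fun x hx h hh hhx => key _ H S rfl hS x hx.1 hx.2 h hh hhx⟩
  intro n
  induction n using Nat.strong_induction_on with
  | _ n ih =>
  intro H S hn hS x hxS hx h hh hhx
  by_contra hmove
  set A := Subgroup.zpowers x with hA
  set L := Subgroup.centralizer (A : Set G) with hL
  have hNL : H ⊓ Subgroup.normalizer (W S : Set G) ≤ L := fun y hy => by
    intro a ha
    obtain ⟨i, rfl⟩ := ha
    exact ((show Commute x y from (hx y hy).symm).zpow_left i).eq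
  have hAC : A ≤ Subgroup.centralizer (S : Set G) := Subgroup.zpowers_le.2 fun s hs =>
    hx s ⟨hS.le hs, functor_normalizer hW hS.pg (Subgroup.le_normalizer hs)⟩
  have hfix : ∀ y ∈ L, y * x * y⁻¹ = x := fun y hy => by
    rw [← hy x (Subgroup.mem_zpowers x), mul_inv_cancel_right]
  obtain ⟨T, hT, hAT, hle, m, hm, hmL⟩ := exists_moving hW hS (Subgroup.zpowers_le.2 hxS)
    (Subgroup.centralizer_le_normalizer _) hNL hAC hWZ hh (fun hL' => hmove (hfix h hL')) (by
      rw [cj, MonoidHom.map_zpowers, Subgroup.zpowers_le]; exact hhx)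
  have hxT : x ∈ T := hAT (Subgroup.mem_zpowers x)
  have hTQ : T ≤ S ⊓ Subgroup.normalizer (T : Set G) := le_inf hT.1 Subgroup.le_normalizer
  have hLof : ∀ y, y * x * y⁻¹ = x → y ∈ L := by
    intro y hy a ha
    obtain ⟨i, rfl⟩ := ha
    exact ((show Commute x y from (mul_inv_eq_iff_eq_mul.1 hy).symm).zpow_left i).eq
  by_cases hlt : Nat.card ↥(H ⊓ Subgroup.normalizer (T : Set G)) < n
  · refine hmL (hLof m (ih _ hlt _ _ rfl ((hT.2 0).syl hS) x (hTQ hxT) ?_ m hm ?_))
    · intro y hy
      exact ((hle ⟨hy.1.1, hy.2⟩) x (Subgroup.mem_zpowers x)).symm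
    · exact hTQ ((Subgroup.mem_normalizer_iff.1 hm.2 x).1 hxT)
  have hHT : H ≤ Subgroup.normalizer (T : Set G) := by
    have := Subgroup.eq_of_le_of_card_ge (inf_le_left : H ⊓ Subgroup.normalizer (T : Set G) ≤ H) (by omega)
    exact this.ge.trans inf_le_right
  by_cases hWS : H ≤ Subgroup.normalizer (W S : Set G)
  · exact hmove (hfix h (hNL ⟨hh, hWS hh⟩))
  obtain ⟨g, hgS, hgP, hit⟩ := hloc H S hS hWS
  set P := pCoreOf p H with hP
  have hxP : x ∈ P := le_pc (hT.1.trans hS.le) (hS.pg.to_le hT.1) hHT hxT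
  have hxV : x ∈ P ⊓ Subgroup.centralizer (P : Set G) :=
    ⟨hxP, fun y hy => hAC (Subgroup.mem_zpowers x) y (hS.pc_le hy)⟩
  have hVH : P ⊓ Subgroup.centralizer (P : Set G) ≤ H := inf_le_left.trans (pc_le H)
  haveI : ((P ⊓ Subgroup.centralizer (P : Set G)).subgroupOf H).Normal :=
    (Subgroup.normal_subgroupOf_iff_le_normalizer hVH).2 ((le_inf (le_normalizer_pc H)
      ((le_normalizer_pc H).trans (normalizer_le_centralizer_normalizer P))).trans
        Subgroup.inf_normalizer_le_normalizer_inf)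
  have hxc := central_of_hit (p := p) (S := S.subgroupOf H) (V := (P ⊓ Subgroup.centralizer (P : Set G)).subgroupOf H)
    ⟨le_top, hS.pg.comap_subtype, by rw [Subgroup.relIndex_top_right]; exact hS.idx⟩
    (fun a ha b hb => Subtype.ext (hb.2 _ ha.1)) (((pc_pg (p := p) H).to_le inf_le_left).comap_subtype)
    (x := ⟨x, hS.le hxS⟩) hxV (fun s hs => Subtype.ext (hAC (Subgroup.mem_zpowers x) _ hs)) ?_
    (g := ⟨g, hS.le hgS⟩) hgS ?_ ?_
  · exact hmove (by
      have := congrArg Subtype.val (Subgroup.mem_center_iff.1 hxc ⟨h, hh⟩)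
      rw [show h * x = x * h from this, mul_inv_cancel_right])
  · intro K hSK hK y hy z hz
    rw [Set.mem_singleton_iff.1 hz]
    refine Subtype.ext ?_
    have hS' : Syl p S (K.map H.subtype) := hS.mono (fun s hs => ⟨⟨s, hS.le hs⟩, hSK hs, rfl⟩)
      (Subgroup.map_subtype_le _)
    have hcard : Nat.card ↥(K.map H.subtype) < n := by
      rw [Subgroup.card_map_of_injective H.subtype_injective, ← hn]
      exact lt_of_le_of_ne (Nat.card_le_card_of_injective _ K.subtype_injective) fun he =>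
        hK (Subgroup.eq_top_of_card_eq _ he)
    have h1 := ih _ hcard _ S rfl hS' x hxS (fun z hz => hx z ⟨Subgroup.map_subtype_le _ hz.1, hz.2⟩) y
      ⟨y, hy, rfl⟩ (hT.1 ((Subgroup.mem_normalizer_iff.1 (hHT y.2) x).1 hxT))
    exact (mul_inv_eq_iff_eq_mul.1 h1).symm
  · intro N hN hNp hgN
    exact hgP ⟨_, CfsgLib.Solv.le_pCore hNp hgN, rfl⟩
  · intro U W' hUW hUV
    have h1 := hit U W' hUW ((Subgroup.map_mono hUV).trans
      (le_of_eq (Subgroup.map_subgroupOf_eq_of_le hVH)))
    rwa [show Subgroup.zpowers g = (Subgroup.zpowers (⟨g, hS.le hgS⟩ : ↥H)).map H.subtype by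
      rw [MonoidHom.map_zpowers]; rfl, ← map_iterCommutator,
      Subgroup.map_le_map_iff_of_injective H.subtype_injective] at h1

end CfsgLib.Glau

namespace CfsgLib.Glau
universe u

variable {G : Type*} [Group G]

theorem iterCommutator_mono {U U' K K' : Subgroup G} (hU : U ≤ U') (hK : K ≤ K') :
    ∀ n, iterCommutator U K n ≤ iterCommutator U' K' n
  | 0 => hU
  | n + 1 => Subgroup.commutator_mono (iterCommutator_mono hU hK n) hK

theorem iterCommutator_bot {U K : Subgroup G} {m : ℕ} (h : iterCommutator U K m = ⊥) :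
    ∀ n, m ≤ n → iterCommutator U K n = ⊥ := by
  intro n hn
  induction hn with
  | refl => exact h
  | step _ ih =>
    show ⁅iterCommutator U K _, K⁆ = ⊥
    rw [ih, Subgroup.commutator_bot_left]

/-- A K-infinity subgroup that is not normal gives a quadratic element on `Z(O_p(H))` outside `O_p(H)`. -/
theorem kInf_quadratic {G : Type u} [Group G] [Finite G] {p : ℕ} [Fact p.Prime] {H S : Subgroup G}
    (h : Syl p S H)
    (hK : ¬ H ≤ Subgroup.normalizer (inducedFunctor kInfLower S : Set G) ∨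
      ¬ H ≤ Subgroup.normalizer (inducedFunctor kInfUpper S : Set G)) :
    ∃ g ∈ S, g ∉ pCoreOf p H ∧ ⁅⁅pCoreOf p H ⊓ Subgroup.centralizer (pCoreOf p H : Set G),
        Subgroup.zpowers g⁆, Subgroup.zpowers g⁆ = ⊥ := by
  set P := pCoreOf p H
  set V := P ⊓ Subgroup.centralizer (P : Set G)
  have hVV : V ≤ Subgroup.centralizer (V : Set G) := fun v hv w hw => hv.2 w hw.1
  have hVP : ⁅V, P⁆ = ⊥ := Subgroup.commutator_eq_bot_iff_le_centralizer.2 inf_le_right
  obtain ⟨B, hBS, hBP, -, hq⟩ := KInf.exists_offender h (inf_le_left : V ≤ P)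
    ((le_inf (le_normalizer_pc H) ((le_normalizer_pc H).trans (normalizer_le_centralizer_normalizer P))).trans
      Subgroup.inf_normalizer_le_normalizer_inf)
    (show ⁅V, V⁆ ≤ _ by rw [Subgroup.commutator_eq_bot_iff_le_centralizer.2 hVV]; exact bot_le)
    (by rw [hVP]; exact bot_le) hK
  rw [show KInf.zc V = V from inf_eq_left.2 hVV] at hq
  obtain ⟨g, hgB, hgP⟩ := Set.not_subset.1 hBP
  exact ⟨g, hBS hgB, hgP, eq_bot_iff.2 ((Subgroup.commutator_mono (Subgroup.commutator_mono le_rfl
    (Subgroup.zpowers_le.2 hgB)) (Subgroup.zpowers_le.2 hgB)).trans hq.le)⟩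

/-- The two conclusions about central p-th powers. -/
theorem wc_power_pair [Finite G] {p : ℕ} [Fact p.Prime] (W : Subgroup G → Subgroup G) (hW : IsConjugacyFunctor p W)
    (hWZ : ∀ P : Subgroup G, IsPGroup p ↥P → P ⊓ Subgroup.centralizer (P : Set G) ≤ W P)
    (hloc : ∀ (H S : Subgroup G), Syl p S H → ¬ H ≤ Subgroup.normalizer (W S : Set G) →
      ∃ g ∈ S, g ∉ pCoreOf p H ∧ ⁅⁅pCoreOf p H ⊓ Subgroup.centralizer (pCoreOf p H : Set G),
        Subgroup.zpowers g⁆, Subgroup.zpowers g⁆ = ⊥)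
    (S : Sylow p G) {Z : Subgroup G}
    (hZ : Z = pw p ((S : Subgroup G) ⊓ Subgroup.centralizer ((S : Subgroup G) : Set G))) :
    (∀ x ∈ Z ⊓ Subgroup.centralizer ((Subgroup.normalizer (W (S : Subgroup G) : Set G) : Subgroup G) : Set G),
        ∀ g : G, g * x * g⁻¹ ∈ (S : Subgroup G) → g * x * g⁻¹ = x) ∧
      ∀ A : Subgroup G, A ≤ Z → Subgroup.normalizer (W (S : Subgroup G) : Set G) ≤ Subgroup.normalizer (A : Set G) →
        IsWeaklyClosed A (S : Subgroup G) := by
  subst hZ
  refine ⟨fun x hx g hg => ?_, fun A hA hAN => ⟨hA.trans ((pw_le _).trans inf_le_left), fun g hg => ?_⟩⟩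
  · have hgL := wc_power W hW hWZ hloc (syl_top S) (A := Subgroup.zpowers x)
      (L := Subgroup.centralizer (Subgroup.zpowers x : Set G)) (Subgroup.zpowers_le.2 hx.1)
      (Subgroup.centralizer_le_normalizer _) le_rfl (fun y hy a ha => by
        obtain ⟨i, rfl⟩ := ha
        exact ((show Commute x y from (hx.2 y hy.2).symm).zpow_left i).eq) g (Subgroup.mem_top g)
      (by rw [cj, MonoidHom.map_zpowers, Subgroup.zpowers_le]; exact hg)
    rw [← hgL x (Subgroup.mem_zpowers x), mul_inv_cancel_right]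
  · exact mem_normalizer_iff_cj.1 (wc_power W hW hWZ hloc (syl_top S) hA le_rfl
      (Subgroup.centralizer_le_normalizer _) (inf_le_right.trans hAN) g (Subgroup.mem_top g) hg)

end CfsgLib.Glau
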