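import Cfsg.Agent.Fus.TransferControl
import Cfsg.Agent.Fus.WeakClosure

/-!
Transfer control from an element with short commutator chains on the chief factors below `O_p`.
-/

set_option autoImplicit false
set_option linter.style.haveILetI false

open Cfsg
open scoped commutatorElement

namespace CfsgLib.Glau

variable {Γ : Type*} [Group Γ] [Finite Γ] {p : ℕ} [hp : Fact p.Prime]

/-- A chief factor inside a normal `p`-subgroup is elementary abelian. -/
theorem chief_elementary {U W : Subgroup Γ} (hc : IsChiefFactor U W) (hU : IsPGroup p ↥U) :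
    (∀ u ∈ U, u ^ p ∈ W) ∧ ∀ a ∈ U, ∀ b ∈ U, ⁅a, b⁆ ∈ W := by
  obtain ⟨hWU, hUn, hWn, hmin⟩ := hc
  let π := QuotientGroup.mk' W
  have hπ : Function.Surjective π := QuotientGroup.mk'_surjective W
  set V := U.map π with hV
  haveI : V.Normal := hUn.map π hπ
  have hmin' : ∀ N : Subgroup (Γ ⧸ W), N.Normal → N ≤ V → N ≠ ⊥ → N = V := by
    intro N hN hNV hN0
    rcases hmin (N.comap π) (hN.comap π) (fun w hw => by
        show π w ∈ N
        rw [show π w = 1 from (QuotientGroup.eq_one_iff w).2 hw]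
        exact one_mem _)
      ((Subgroup.comap_mono hNV).trans (by
        rw [hV, Subgroup.comap_map_eq, QuotientGroup.ker_mk']; exact sup_le le_rfl hWU.le)) with he | he
    · refine absurd ?_ hN0
      rw [← Subgroup.map_comap_eq_self_of_surjective hπ N, he, Subgroup.map_eq_bot_iff, QuotientGroup.ker_mk']
    · rw [hV, ← he, Subgroup.map_comap_eq_self_of_surjective hπ N]
  have hVp : IsPGroup p ↥V := hU.map π
  have hV0 : V ≠ ⊥ := by
    rw [hV, ne_eq, Subgroup.map_eq_bot_iff, QuotientGroup.ker_mk']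
    exact hWU.not_ge
  haveI : Nontrivial ↥V := (Subgroup.nontrivial_iff_ne_bot V).2 hV0
  haveI : (Subgroup.centralizer (V : Set (Γ ⧸ W))).Normal := Subgroup.normalizer_eq_top_iff.1 (eq_top_iff.2
    ((Subgroup.normalizer_eq_top_iff.2 (inferInstance : V.Normal)).ge.trans (normalizer_le_centralizer_normalizer V)))
  have hab : V ≤ Subgroup.centralizer (V : Set (Γ ⧸ W)) := by
    have hz : V ⊓ Subgroup.centralizer (V : Set (Γ ⧸ W)) ≠ ⊥ := by
      haveI := hVp.center_nontrivial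
      obtain ⟨x, hx⟩ := exists_ne (1 : ↥(Subgroup.center ↥V))
      intro h0
      refine hx (Subtype.ext (Subtype.ext (Subgroup.mem_bot.1 (h0 ▸ (⟨(x : ↥V).2, fun y hy => ?_⟩ :
        ((x : ↥V) : Γ ⧸ W) ∈ V ⊓ Subgroup.centralizer (V : Set (Γ ⧸ W)))))))
      exact congrArg Subtype.val (Subgroup.mem_center_iff.1 x.2 ⟨y, hy⟩)
    exact (hmin' _ (Subgroup.normal_inf_normal _ _) inf_le_left hz).ge.trans inf_le_right
  have hcomm : ∀ a ∈ V, ∀ b ∈ V, a * b = b * a := fun a ha b hb => hab hb a ha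
  let Ω : Subgroup (Γ ⧸ W) :=
    { carrier := {x | x ∈ V ∧ x ^ p = 1}
      one_mem' := ⟨one_mem _, one_pow p⟩
      mul_mem' := fun {a b} ha hb => ⟨mul_mem ha.1 hb.1, by
        rw [(show Commute a b from hcomm a ha.1 b hb.1).mul_pow, ha.2, hb.2, one_mul]⟩
      inv_mem' := fun {a} ha => ⟨inv_mem ha.1, by rw [inv_pow, ha.2, inv_one]⟩ }
  have hΩn : Ω.Normal := ⟨fun x hx g => ⟨‹V.Normal›.conj_mem x hx.1 g, by rw [conj_pow, hx.2]; group⟩⟩
  have hΩ0 : Ω ≠ ⊥ := by
    obtain ⟨k, hk, hk'⟩ : ∃ k, 0 < k ∧ Nat.card ↥V = p ^ k := hVp.nontrivial_iff_card.1 inferInstance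
    obtain ⟨x, hx⟩ := exists_prime_orderOf_dvd_card' (G := ↥V) p (hk' ▸ dvd_pow_self p hk.ne')
    intro h0
    have hmem : (x : Γ ⧸ W) ∈ Ω := ⟨x.2, by rw [← SubmonoidClass.coe_pow, ← hx, pow_orderOf_eq_one]; rfl⟩
    rw [h0, Subgroup.mem_bot, OneMemClass.coe_eq_one] at hmem
    rw [hmem, orderOf_one] at hx
    exact hp.out.ne_one hx.symm
  have hΩ := hmin' Ω hΩn (fun x hx => hx.1) hΩ0
  refine ⟨fun u hu => (QuotientGroup.eq_one_iff _).1 ?_, fun a ha b hb => (QuotientGroup.eq_one_iff _).1 ?_⟩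
  · exact ((map_pow π u p).trans (hΩ.ge ⟨u, hu, rfl⟩).2)
  · exact (map_commutatorElement π a b).trans
      (commutatorElement_eq_one_iff_commute.2 (hcomm _ ⟨a, ha, rfl⟩ _ ⟨b, hb, rfl⟩))

/-- Every element outside `M` moves some conjugate of `g` lying in the Sylow subgroup out of `M`. -/
theorem exists_conjugate_outside {S M : Subgroup Γ} (hS : Syl p S ⊤) (hSM : S ≤ M)
    (hmax : ∀ K : Subgroup Γ, S ≤ K → K ≠ ⊤ → K ≤ M) {g : Γ} (hgS : g ∈ S)
    (hg : ∀ N : Subgroup Γ, N.Normal → IsPGroup p N → g ∉ N) {h : Γ} (hh : h ∉ M) :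
    ∃ k : Γ, k * g * k⁻¹ ∈ S ∧ h⁻¹ * (k * g * k⁻¹) * h ∉ M := by
  by_contra hno
  push_neg at hno
  let D : Set Γ := {t | t ∈ S ∧ ∃ k, t = k * g * k⁻¹}
  set R := Subgroup.closure D with hR
  have hRS : R ≤ S := (Subgroup.closure_le S).2 fun t ht => ht.1
  have hRM : cj h⁻¹ R ≤ M := by
    rw [cj, MonoidHom.map_closure, Subgroup.closure_le]
    rintro _ ⟨t, ⟨htS, k, rfl⟩, rfl⟩
    simpa [mul_assoc] using hno k htS
  obtain ⟨m, hm, hmR⟩ := (hS.mono hSM le_top).exists_conj_le hRM (isPGroup_cj _ (hS.pg.to_le hRS))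
  rw [← cj_mul] at hmR
  have hdR : ∀ y : Γ, cj y R ≤ S → y ∈ Subgroup.normalizer (R : Set Γ) := by
    intro y hy
    refine mem_normalizer_iff_cj.2 (Subgroup.eq_of_le_of_card_ge ?_ (card_cj y R).ge)
    rw [cj, MonoidHom.map_closure, Subgroup.closure_le]
    rintro _ ⟨t, ⟨htS, k, rfl⟩, rfl⟩
    exact Subgroup.subset_closure ⟨hy (conj_mem_cj (Subgroup.subset_closure ⟨htS, k, rfl⟩)),
      y * k, by simp [mul_assoc]⟩
  have hSN : S ≤ Subgroup.normalizer (R : Set Γ) := fun s hs =>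
    hdR s ((cj_mono s hRS).trans (cj_eq_of_mem hs).le)
  have hgR : g ∈ R := Subgroup.subset_closure ⟨hgS, 1, by group⟩
  have hN := hmax _ hSN fun he =>
    hg R (Subgroup.normalizer_eq_top_iff.1 he) (hS.pg.to_le hRS) hgR
  have h2 := M.mul_mem (M.inv_mem hm) (hN (hdR _ hmR))
  rw [inv_mul_cancel_left] at h2
  exact hh (by simpa using M.inv_mem h2)

theorem cocycle_eq_one {A : Type*} [CommGroup A] {S M : Subgroup Γ} (hS : IsPGroup p S) (hSM : S ≤ M)
    (hidx : ¬ p ∣ M.index) (hexp : ∀ a : A, a ^ p = 1) (ρ : Γ →* MulAut A) (δ : Γ → A)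
    (hmul : ∀ a b, δ (a * b) = ρ a (δ b) * δ a) (hM1 : ∀ m ∈ M, δ m = 1)
    (hmove : ∀ h, h ∉ M → ∃ t ∈ S, h⁻¹ * t * h ∉ M ∧ ∀ a : A, (fun c => ρ t c / c)^[p - 1] a = 1) (q : Γ) :
    δ q = 1 := by
  classical
  let φ : Γ ⧸ M → A := fun c => Quotient.liftOn' c δ fun a b h => by
    have h' : a⁻¹ * b ∈ M := (QuotientGroup.leftRel_apply).1 h
    conv_rhs => rw [show b = a * (a⁻¹ * b) by group, hmul, hM1 _ h', map_one, one_mul]
  haveI : Fintype (Γ ⧸ M) := Fintype.ofFinite _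
  have h0 : ∏ c : Γ ⧸ M, φ c = 1 := by
    refine Norm.prod_eq_one (p := p) ρ φ _ S Finset.univ rfl hS (fun _ _ _ _ => Finset.mem_univ _) ?_ ?_
    · intro s hs y _
      obtain ⟨a, rfl⟩ := QuotientGroup.mk_surjective y
      show δ (s * a) = ρ s (δ a)
      rw [hmul, hM1 s (hSM hs), mul_one]
    · intro y _
      obtain ⟨a, rfl⟩ := QuotientGroup.mk_surjective y
      by_cases ha : a ∈ M
      · exact Or.inl (hM1 a ha)
      obtain ⟨t, ht, htM, htU⟩ := hmove a ha
      refine Or.inr ⟨t, ht, fun he => htM ?_, fun b _ => ?_⟩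
      · have h2 := QuotientGroup.eq.1 (he : (QuotientGroup.mk (t * a) : Γ ⧸ M) = QuotientGroup.mk a).symm
        simpa [mul_assoc] using h2
      · have hit : ∀ j : ℕ, ρ (t ^ j) b = (⇑(ρ t).toMonoidHom)^[j] b := by
          intro j
          induction j with
          | zero => simp
          | succ j ih => rw [Function.iterate_succ_apply', ← ih, pow_succ', map_mul]; rfl
        rw [Finset.prod_congr rfl fun j _ => hit j]
        exact Norm.prod_iterate hexp _ (fun c => ρ t c / c) (fun _ => rfl) b (htU b)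
  have h1 : ∏ c : Γ ⧸ M, φ (q • c) = 1 :=
    (Fintype.prod_equiv (MulAction.toPerm q) _ φ fun _ => rfl).trans h0
  have h2 : ∀ c : Γ ⧸ M, φ (q • c) = ρ q (φ c) * δ q := fun c => by
    obtain ⟨a, rfl⟩ := QuotientGroup.mk_surjective c
    exact hmul q a
  simp only [h2] at h1
  rw [Finset.prod_mul_distrib, ← map_prod, h0, map_one, one_mul, Finset.prod_const, Finset.card_univ,
    ← Nat.card_eq_fintype_card, ← Subgroup.index_eq_card] at h1
  have h4 : δ q ^ Nat.gcd p M.index = 1 := pow_gcd_eq_one.2 ⟨hexp _, h1⟩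
  rwa [(hp.out.coprime_iff_not_dvd.2 hidx).gcd_eq_one, pow_one] at h4

section

variable {S N P : Subgroup Γ} [hPn : P.Normal]

theorem commutator_mem_of_hit (hS : Syl p S ⊤) (hPS : P ≤ S) (hSN : S ≤ N)
    (hprop : ∀ K : Subgroup Γ, S ≤ K → K ≠ ⊤ → S ⊓ ⁅K, K⁆ ≤ ⁅N, N⁆) {g : Γ} (hgS : g ∈ S)
    (hg : ∀ Q : Subgroup Γ, Q.Normal → IsPGroup p Q → g ∉ Q)
    (hit : ∀ U W : Subgroup Γ, IsChiefFactor U W → U ≤ P → iterCommutator U (Subgroup.zpowers g) (p - 1) ≤ W) :
    ∀ h : Γ, ∀ u ∈ P, ⁅h, u⁆ ∈ P ⊓ ⁅N, N⁆ := by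
  classical
  have hPN : P ≤ N := hPS.trans hSN
  set D := P ⊓ ⁅N, N⁆ with hD
  haveI hDn : (D.subgroupOf P).Normal := (Subgroup.normal_subgroupOf_iff_le_normalizer inf_le_left).2 fun x hx =>
    mem_normalizer_iff_cj.2 (by
      rw [cj_inf, cj_eq_of_mem hx, cj_commutator, cj_eq_of_mem (hPN hx)])
  let π := QuotientGroup.mk' (D.subgroupOf P)
  letI : CommGroup (↥P ⧸ D.subgroupOf P) :=
    { (inferInstance : Group (↥P ⧸ D.subgroupOf P)) with
      mul_comm := fun a b => by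
        obtain ⟨a, rfl⟩ := QuotientGroup.mk'_surjective _ a
        obtain ⟨b, rfl⟩ := QuotientGroup.mk'_surjective _ b
        refine commutatorElement_eq_one_iff_commute.1 ?_
        rw [← map_commutatorElement]
        exact (QuotientGroup.eq_one_iff _).2 ⟨SetLike.coe_mem ⁅a, b⁆,
          Subgroup.commutator_mem_commutator (hPN a.2) (hPN b.2)⟩ }
  let c : Γ →* MulAut ↥P := MulAut.conjNormal
  let Y : Subgroup Γ :=
    { carrier := {h | ∀ u : ↥P, π (c h u) = π u}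
      one_mem' := fun u => by rw [map_one]; rfl
      mul_mem' := fun {a b} ha hb u => by
        rw [map_mul]
        exact (ha (c b u)).trans (hb u)
      inv_mem' := fun {a} ha u => by
        have := ha (c a⁻¹ u)
        rw [← MulAut.mul_apply, ← map_mul, mul_inv_cancel, map_one] at this
        exact this.symm }
  have hYiff : ∀ h, h ∈ Y → ∀ u ∈ P, ⁅h, u⁆ ∈ D := by
    intro h hh u hu
    have h1 := hh ⟨u, hu⟩
    have h2 : π (c h ⟨u, hu⟩ / ⟨u, hu⟩) = 1 := by rw [map_div, h1, div_self']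
    have h3 := (QuotientGroup.eq_one_iff _).1 h2
    simpa [Subgroup.mem_subgroupOf, div_eq_mul_inv, commutatorElement_def, c] using h3
  have hYof : ∀ h, (∀ u ∈ P, ⁅h, u⁆ ∈ D) → h ∈ Y := by
    intro h hh u
    have h2 : π (c h u / u) = 1 := (QuotientGroup.eq_one_iff _).2 (by
      simpa [Subgroup.mem_subgroupOf, div_eq_mul_inv, commutatorElement_def, c] using hh u u.2)
    rwa [map_div, div_eq_one] at h2
  suffices hY : Y = ⊤ from fun h => hYiff h (hY ▸ Subgroup.mem_top h)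
  have hover : ∀ K : Subgroup Γ, S ≤ K → K ≠ ⊤ → K ≤ Y := fun K hSK hK h hh => hYof h fun u hu => by
    have hP : ⁅h, u⁆ ∈ P := by
      rw [commutatorElement_def]; exact P.mul_mem (hPn.conj_mem u hu h) (P.inv_mem hu)
    exact ⟨hP, hprop K hSK hK ⟨hPS hP, Subgroup.commutator_mem_commutator hh (hSK (hPS hu))⟩⟩
  have hStop : S ≠ ⊤ := fun he => hg S (he ▸ inferInstance) hS.pg hgS
  have hSY : S ≤ Y := hover S le_rfl hStop
  by_contra hY
  -- a least normal subgroup on which some element acts nontrivially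
  let 𝒰 : Set (Subgroup Γ) := {U | U.Normal ∧ U ≤ P ∧ ∃ h : Γ, ∃ u : ↥P, (u : Γ) ∈ U ∧ π (c h u) ≠ π u}
  obtain ⟨U, hU, hUmin⟩ := Set.Finite.exists_minimal (Set.toFinite 𝒰) ⟨P, hPn, le_rfl, by
    by_contra hno
    push_neg at hno
    exact hY (eq_top_iff.2 fun h _ u => hno h u u.2)⟩
  obtain ⟨hUn, hUP, h0, u0, hu0, hne⟩ := hU
  have hU0 : U ≠ ⊥ := by
    rintro rfl
    rw [Subgroup.mem_bot, OneMemClass.coe_eq_one] at hu0
    exact hne (by rw [hu0, map_one])
  obtain ⟨V, hV, hVmax⟩ := Set.Finite.exists_maximal (Set.toFinite {V : Subgroup Γ | V.Normal ∧ V < U})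
    ⟨⊥, inferInstance, bot_lt_iff_ne_bot.2 hU0⟩
  obtain ⟨hVn, hVU⟩ := hV
  have hchief : IsChiefFactor U V := ⟨hVU, hUn, hVn, fun Q hQ hVQ hQU =>
    (eq_or_lt_of_le hQU).elim Or.inr fun hlt => Or.inl (le_antisymm (hVmax ⟨hQ, hlt⟩ hVQ) hVQ)⟩
  have hVfix : ∀ h : Γ, ∀ u : ↥P, (u : Γ) ∈ V → π (c h u) = π u := by
    by_contra hno
    push_neg at hno
    obtain ⟨h, u, hu, hne'⟩ := hno
    exact hVU.not_ge (hUmin ⟨hVn, hVU.le.trans hUP, h, u, hu, hne'⟩ hVU.le)
  obtain ⟨hexp, -⟩ := chief_elementary (p := p) hchief ((hS.pg.to_le hPS).to_le hUP)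
  -- characters of `U / V`
  let UV := (U.subgroupOf P : Subgroup ↥P)
  let A : Subgroup (↥UV →* ↥P ⧸ D.subgroupOf P) :=
    { carrier := {f | ∀ u : ↥UV, ((u : ↥P) : Γ) ∈ V → f u = 1}
      one_mem' := fun _ _ => rfl
      mul_mem' := fun {a b} ha hb u hu => by rw [MonoidHom.mul_apply, ha u hu, hb u hu, one_mul]
      inv_mem' := fun {a} ha u hu => by rw [MonoidHom.inv_apply, ha u hu, inv_one] }
  let cU : Γ → ↥UV →* ↥UV := fun h =>
    { toFun := fun u => ⟨c h u, show ((c h (u : ↥P) : ↥P) : Γ) ∈ U from hUn.conj_mem _ u.2 h⟩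
      map_one' := Subtype.ext (map_one (c h))
      map_mul' := fun a b => Subtype.ext (map_mul (c h) (a : ↥P) b) }
  have hcU : ∀ (a b : Γ) (u : ↥UV), cU (a * b) u = cU a (cU b u) := fun a b u => Subtype.ext (by
    show c (a * b) (u : ↥P) = c a (c b u)
    rw [map_mul]; rfl)
  have hcU1 : ∀ u : ↥UV, cU 1 u = u := fun u => Subtype.ext (by show c 1 (u : ↥P) = u; rw [map_one]; rfl)
  let ρ₀ : Γ → ↥A → ↥A := fun h f => ⟨f.1.comp (cU h⁻¹), fun u hu =>
    f.2 _ (show h⁻¹ * ((u : ↥P) : Γ) * h⁻¹⁻¹ ∈ V from hVn.conj_mem _ hu _)⟩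
  have hρmul : ∀ a b f, ρ₀ (a * b) f = ρ₀ a (ρ₀ b f) := fun a b f => Subtype.ext (MonoidHom.ext fun u => by
    show f.1 (cU (a * b)⁻¹ u) = f.1 (cU b⁻¹ (cU a⁻¹ u))
    rw [← hcU, mul_inv_rev])
  have hρone : ∀ f, ρ₀ 1 f = f := fun f => Subtype.ext (MonoidHom.ext fun u => by
    show f.1 (cU 1⁻¹ u) = f.1 u
    rw [inv_one, hcU1])
  let ρ : Γ →* MulAut ↥A :=
    { toFun := fun h =>
        { toFun := ρ₀ h
          invFun := ρ₀ h⁻¹
          left_inv := fun f => by rw [← hρmul, inv_mul_cancel, hρone]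
          right_inv := fun f => by rw [← hρmul, mul_inv_cancel, hρone]
          map_mul' := fun f₁ f₂ => Subtype.ext (MonoidHom.ext fun u => rfl) }
      map_one' := MulEquiv.ext hρone
      map_mul' := fun a b => MulEquiv.ext (hρmul a b) }
  let δ : Γ → ↥A := fun h => ⟨(π.comp UV.subtype).comp (cU h⁻¹) / π.comp UV.subtype, fun u hu => by
    rw [MonoidHom.div_apply, div_eq_one]
    exact hVfix h⁻¹ (u : ↥P) hu⟩
  have hδ : ∀ a b, δ (a * b) = ρ a (δ b) * δ a := fun a b => Subtype.ext (MonoidHom.ext fun u => by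
    show π (cU (a * b)⁻¹ u : ↥P) / π (u : ↥P) =
      π (cU b⁻¹ (cU a⁻¹ u) : ↥P) / π (cU a⁻¹ u : ↥P) * (π (cU a⁻¹ u : ↥P) / π (u : ↥P))
    rw [div_mul_div_cancel, ← hcU, mul_inv_rev])
  refine hne ?_
  have hfin := cocycle_eq_one (p := p) hS.pg hSY (M := Y) ?_ ?_ ρ δ hδ ?_ ?_ h0⁻¹
  · have := DFunLike.congr_fun (congrArg Subtype.val hfin) ⟨u0, hu0⟩
    change π (c h0⁻¹⁻¹ u0) / π u0 = 1 at this
    rwa [inv_inv, div_eq_one] at this
  · intro hd
    have := hS.idx
    rw [← Subgroup.relIndex_mul_relIndex S Y ⊤ hSY le_top, Subgroup.relIndex_top_right Y] at this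
    exact this (hd.mul_left _)
  · intro f
    refine Subtype.ext (MonoidHom.ext fun u => ?_)
    show (f.1 u) ^ p = 1
    rw [← map_pow]
    exact f.2 _ (hexp _ u.2)
  · intro m hm
    refine Subtype.ext (MonoidHom.ext fun u => ?_)
    show π (c m⁻¹ (u : ↥P)) / π (u : ↥P) = 1
    rw [div_eq_one]
    exact Y.inv_mem hm (u : ↥P)
  · intro h hh
    obtain ⟨k, hkS, hkM⟩ := exists_conjugate_outside hS hSY hover hgS hg hh
    set t := k * g * k⁻¹ with ht
    refine ⟨t, hkS, hkM, fun f => ?_⟩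
    let E : ↥UV → ↥UV := fun u => cU t⁻¹ u / u
    have hD : ∀ (j : ℕ) (f : ↥A) (u : ↥UV),
        (((fun a => ρ t a / a)^[j] f : ↥A)).1 u = f.1 (E^[j] u) := by
      intro j
      induction j with
      | zero => intro f u; rfl
      | succ j ih =>
        intro f u
        rw [Function.iterate_succ_apply, ih, Function.iterate_succ_apply']
        show f.1 (cU t⁻¹ _) / f.1 _ = _
        rw [← map_div]
    refine Subtype.ext (MonoidHom.ext fun u => ?_)
    rw [hD]
    refine f.2 _ ?_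
    have hE : ∀ (j : ℕ) (u : ↥UV), (((E^[j] u : ↥UV) : ↥P) : Γ) = (fun a => ⁅t⁻¹, a⁆)^[j] ((u : ↥P) : Γ) := by
      intro j
      induction j with
      | zero => intro u; rfl
      | succ j ih =>
        intro u
        rw [Function.iterate_succ_apply', Function.iterate_succ_apply', ← ih]
        show (((cU t⁻¹ (E^[j] u) / E^[j] u : ↥UV) : ↥P) : Γ) = _
        simp [div_eq_mul_inv, commutatorElement_def, cU, c]
    rw [hE]
    have h5 : cj k (iterCommutator U (Subgroup.zpowers g) (p - 1)) ≤ cj k V := cj_mono k (hit U V hchief hUP)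
    rw [mem_normalizer_iff_cj.1 (show k ∈ Subgroup.normalizer (V : Set Γ) by
      rw [Subgroup.normalizer_eq_top_iff.2 hVn]; trivial), cj, map_iterCommutator, MonoidHom.map_zpowers] at h5
    refine h5 (iterCommutator_mono le_rfl ?_ _ (iterate_mem _ ?_ _))
    · rw [show t⁻¹ = ((MulAut.conj k).toMonoidHom g)⁻¹ from rfl, Subgroup.zpowers_inv]
    · show _ ∈ cj k U
      rw [mem_normalizer_iff_cj.1 (show k ∈ Subgroup.normalizer (U : Set Γ) by
        rw [Subgroup.normalizer_eq_top_iff.2 hUn]; trivial)]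
      exact u.2

/-- `O_p ∩ G' ≤ N'`. -/
theorem inf_commutator_le_of_hit (hS : Syl p S ⊤) (hPS : P ≤ S) (hSN : S ≤ N)
    (hprop : ∀ K : Subgroup Γ, S ≤ K → K ≠ ⊤ → S ⊓ ⁅K, K⁆ ≤ ⁅N, N⁆) {g : Γ} (hgS : g ∈ S)
    (hg : ∀ Q : Subgroup Γ, Q.Normal → IsPGroup p Q → g ∉ Q)
    (hit : ∀ U W : Subgroup Γ, IsChiefFactor U W → U ≤ P → iterCommutator U (Subgroup.zpowers g) (p - 1) ≤ W) :
    P ⊓ commutator Γ ≤ ⁅N, N⁆ := by
  have hcen := commutator_mem_of_hit hS hPS hSN hprop hgS hg hit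
  set D := P ⊓ ⁅N, N⁆ with hD
  haveI : D.Normal := ⟨fun x hx h => by
    have := mul_mem (hcen h x hx.1) hx
    rwa [commutatorElement_def, inv_mul_cancel_right] at this⟩
  let π := QuotientGroup.mk' D
  have hπ : Function.Surjective π := QuotientGroup.mk'_surjective D
  have hSb := hS.map π
  rw [Subgroup.map_top_of_surjective π hπ] at hSb
  rintro z ⟨hzP, hzG⟩
  have h1 : π z ∈ ⁅S.map π, S.map π⁆ := by
    refine central_commutator hSb ⟨z, hPS hzP, rfl⟩ (Subgroup.mem_center_iff.2 fun y => ?_) ?_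
    · obtain ⟨y, rfl⟩ := hπ y
      refine commutatorElement_eq_one_iff_commute.1 ?_
      rw [← map_commutatorElement]
      exact (QuotientGroup.eq_one_iff _).2 (hcen y z hzP)
    · exact (Subgroup.map_commutator ⊤ ⊤ π).trans_le (Subgroup.commutator_mono le_top le_top) ⟨z, hzG, rfl⟩
  rw [← Subgroup.map_commutator] at h1
  obtain ⟨d, hd, hdz⟩ := h1
  have h2 := mul_mem (Subgroup.commutator_mono hSN hSN hd) (Subgroup.mem_inf.1 (QuotientGroup.eq.1 hdz)).2
  rwa [mul_inv_cancel_left] at h2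

end

end CfsgLib.Glau

namespace CfsgLib.Glau

universe u

section Transport

variable {Q Γ : Type u} [Group Q] [Group Γ] [Finite Q] [Finite Γ] {p : ℕ} [Fact p.Prime]

theorem map_centralizer_equiv (e : Q ≃* Γ) (X : Subgroup Q) :
    (Subgroup.centralizer (X : Set Q)).map e.toMonoidHom = Subgroup.centralizer (X.map e.toMonoidHom : Set Γ) := by
  ext y
  constructor
  · rintro ⟨a, ha, rfl⟩ _ ⟨x, hx, rfl⟩
    rw [← map_mul, ← map_mul, ha x hx]
  · intro hy
    refine ⟨e.symm y, fun x hx => e.injective ?_, e.apply_symm_apply y⟩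
    rw [map_mul, map_mul, e.apply_symm_apply]
    exact hy _ ⟨x, hx, rfl⟩

theorem constrained_equiv (e : Q ≃* Γ) (h : Subgroup.centralizer (pCore p Γ : Set Γ) ≤ pCore p Γ) :
    Subgroup.centralizer (pCore p Q : Set Q) ≤ pCore p Q := by
  rw [← Subgroup.map_le_map_iff_of_injective (f := e.toMonoidHom) e.injective, map_centralizer_equiv,
    CfsgLib.Solv.map_pCore_equiv]
  exact h

theorem exists_sylow_map (e : Q ≃* Γ) (S : Sylow p Γ) :
    ∃ T : Sylow p Q, (T : Subgroup Q).map e.toMonoidHom = (S : Subgroup Γ) := by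
  have h := (syl_top S).map e.symm.toMonoidHom
  rw [Subgroup.map_top_of_surjective e.symm.toMonoidHom e.symm.surjective] at h
  refine ⟨h.pg.toSylow (fun hd => h.idx (by rwa [Subgroup.relIndex_top_right])), ?_⟩
  rw [IsPGroup.toSylow_coe, Subgroup.map_map]
  rw [show e.toMonoidHom.comp e.symm.toMonoidHom = MonoidHom.id Γ from MonoidHom.ext e.apply_symm_apply,
    Subgroup.map_id]

theorem ind_equiv {W : ∀ (Q : Type u) [Group Q], Subgroup Q} (hW : IsCharPFunctor.{u} p W) (e : Q ≃* Γ)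
    (T : Sylow p Q) : (inducedFunctor W (T : Subgroup Q)).map e.toMonoidHom =
      inducedFunctor W ((T : Subgroup Q).map e.toMonoidHom) :=
  (ind_map hW e.toMonoidHom T.isPGroup' e.injective.injOn).symm

omit [Finite Q] [Finite Γ] in
theorem chief_comap (e : Q ≃* Γ) {U W : Subgroup Γ} (h : IsChiefFactor U W) :
    IsChiefFactor (U.comap e.toMonoidHom) (W.comap e.toMonoidHom) := by
  obtain ⟨h1, h2, h3, h4⟩ := h
  have he : Function.Surjective e.toMonoidHom := e.surjective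
  refine ⟨(Subgroup.comap_lt_comap_of_surjective he).2 h1, h2.comap _, h3.comap _, fun N hN hWN hNU => ?_⟩
  rcases h4 (N.map e.toMonoidHom) (hN.map _ he)
    (by rw [← Subgroup.map_comap_eq_self_of_surjective he W]; exact Subgroup.map_mono hWN)
    ((Subgroup.map_mono hNU).trans (Subgroup.map_comap_eq_self_of_surjective he U).le) with hN' | hN'
  · exact Or.inl (by rw [← hN', Subgroup.comap_map_eq_self_of_injective e.injective])
  · exact Or.inr (by rw [← hN', Subgroup.comap_map_eq_self_of_injective e.injective])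

end Transport

/-- The conclusion for the standard sections. -/
theorem controls_of_tra {G : Type u} [Group G] [Finite G] {p : ℕ} [Fact p.Prime]
    {W : ∀ (Q : Type u) [Group Q], Subgroup Q}
    (h : ∀ (Γ : Type u) [Group Γ] [Finite Γ], IsSec G Γ → ∀ (H S : Subgroup Γ), Syl p S H →
      Tra (inducedFunctor W) S H)
    (K R : Subgroup G) [(R.subgroupOf K).Normal] :
    ControlsTransferIn p (inducedFunctor (G := (↥K ⧸ R.subgroupOf K)) W) ⊤ := by
  obtain ⟨S, -, hS⟩ := exists_syl (G := ↥K ⧸ R.subgroupOf K) (p := p) ⊤ bot_le IsPGroup.of_bot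
  exact def_of_tra hS (h _ ⟨K, QuotientGroup.mk' _, QuotientGroup.mk'_surjective _⟩ ⊤ S hS)

end CfsgLib.Glau
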