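import Cfsg.Agent.Fus.QdStable
import Cfsg.Agent.Fus.HitTransfer
import Cfsg.Agent.Fus.ComplementInduction
import Cfsg.Prelude.Def_EvenType

/-!
A functor controlling strong fusion in stable sections whose normalizer has a normal p-complement gives one.
-/

set_option autoImplicit false
set_option linter.style.haveILetI false
set_option linter.deprecated false

open Cfsg
open scoped commutatorElement

namespace CfsgLib.Dickson

open CfsgLib.Glau CfsgLib.Solv
open Matrix (SpecialLinearGroup)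

universe u

variable {p : ℕ} [hp : Fact p.Prime]

/-- A group with an abelian normal `p`-complement modulo a normal `p`-subgroup has no section `qd p`. -/
theorem not_isSec_qd (hp2 : p ≠ 2) {Γ : Type u} [Group Γ] [Finite Γ] {U : Subgroup Γ} [U.Normal] (hU : IsPGroup p U)
    {R : Subgroup (Γ ⧸ U)} (hR : ∀ x : Γ ⧸ U, (orderOf x).Coprime p → x ∈ R)
    (hab : ∀ x ∈ R, ∀ y ∈ R, x * y = y * x) : ¬ IsSec Γ ↥(Cfsg.qd p) := by
  rintro ⟨K, f, hf⟩
  obtain ⟨a, b, hab1⟩ := ZMod.sq_add_sq p (-1 : ZMod p)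
  let M1 : ↥(Cfsg.qd p) := CfsgLib.Fus.Qd.mk a b b (-a) 0 0 (by linear_combination -hab1)
  let M2 : ↥(Cfsg.qd p) := CfsgLib.Fus.Qd.mk 0 1 (-1) 0 0 0 (by ring)
  obtain ⟨k1, hk1⟩ := hf M1
  obtain ⟨k2, hk2⟩ := hf M2
  have hsplit : ∀ k : ↥K, ∃ r : ℕ, Odd r ∧ ((QuotientGroup.mk' U) ((k ^ r : ↥K) : Γ)) ∈ R := fun k => by
    refine ⟨p ^ (orderOf (k : Γ)).factorization p, (hp.out.odd_of_ne_two hp2).pow, hR _ ?_⟩
    refine Nat.Coprime.coprime_dvd_left (orderOf_map_dvd _ _) ?_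
    rw [Subgroup.coe_pow, orderOf_pow' _ (pow_ne_zero _ hp.out.ne_zero), Nat.gcd_eq_right (Nat.ordProj_dvd _ p)]
    exact (Nat.coprime_ordCompl hp.out (orderOf_pos (k : Γ)).ne').symm
  obtain ⟨r1, ⟨i1, hr1⟩, hR1⟩ := hsplit k1
  obtain ⟨r2, ⟨i2, hr2⟩, hR2⟩ := hsplit k2
  have hcU : ((⁅k1 ^ r1, k2 ^ r2⁆ : ↥K) : Γ) ∈ U := by
    rw [← QuotientGroup.eq_one_iff]
    show QuotientGroup.mk' U ((K.subtype) ⁅k1 ^ r1, k2 ^ r2⁆) = 1
    rw [map_commutatorElement, map_commutatorElement, commutatorElement_eq_one_iff_commute]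
    exact hab _ hR1 _ hR2
  obtain ⟨n, hn⟩ := hU ⟨_, hcU⟩
  have hn' : ⁅k1 ^ r1, k2 ^ r2⁆ ^ p ^ n = 1 := Subtype.ext (by simpa using congrArg Subtype.val hn)
  let β : ↥K →* Matrix (Fin 2) (Fin 2) (ZMod p) := CfsgLib.Fus.Qd.blockHom.comp f
  set A : Matrix (Fin 2) (Fin 2) (ZMod p) := !![a, b; b, -a] with hA
  set B : Matrix (Fin 2) (Fin 2) (ZMod p) := !![0, 1; -1, 0] with hB
  have hβ1 : β k1 = A := by show CfsgLib.Fus.Qd.blockHom (f k1) = A; rw [hk1]; rfl
  have hβ2 : β k2 = B := by show CfsgLib.Fus.Qd.blockHom (f k2) = B; rw [hk2]; rfl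
  have hA2 : A * A = -1 := by
    ext i j
    fin_cases i <;> fin_cases j <;> simp [hA, Matrix.mul_apply, Fin.sum_univ_two]
    · linear_combination hab1
    · ring
    · ring
    · linear_combination hab1
  have hB2 : B * B = -1 := by
    ext i j
    fin_cases i <;> fin_cases j <;> simp [hB, Matrix.mul_apply, Fin.sum_univ_two]
  have hanti : B * A = -(A * B) := by
    ext i j
    fin_cases i <;> fin_cases j <;> simp [hA, hB, Matrix.mul_apply, Fin.sum_univ_two]
  have hs1 : β (k1 ^ r1) = ((-1) ^ i1 : Matrix (Fin 2) (Fin 2) (ZMod p)) * A := by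
    rw [map_pow, hβ1, hr1, pow_succ, pow_mul, pow_two, hA2]
  have hs2 : β (k2 ^ r2) = ((-1) ^ i2 : Matrix (Fin 2) (Fin 2) (ZMod p)) * B := by
    rw [map_pow, hβ2, hr2, pow_succ, pow_mul, pow_two, hB2]
  have hswap : β (k1 ^ r1) * β (k2 ^ r2) = -(β (k2 ^ r2) * β (k1 ^ r1)) := by
    rw [hs1, hs2]
    rcases neg_one_pow_eq_or (Matrix (Fin 2) (Fin 2) (ZMod p)) i1 with h1 | h1 <;>
      rcases neg_one_pow_eq_or (Matrix (Fin 2) (Fin 2) (ZMod p)) i2 with h2 | h2 <;>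
        simp [h1, h2, hanti]
  have hc : β ⁅k1 ^ r1, k2 ^ r2⁆ = -1 := by
    rw [show ⁅k1 ^ r1, k2 ^ r2⁆ = k1 ^ r1 * k2 ^ r2 * ((k2 ^ r2 * k1 ^ r1)⁻¹) by
      rw [commutatorElement_def]; group, map_mul, map_mul, hswap, neg_mul, ← map_mul, ← map_mul, mul_inv_cancel,
      map_one]
  have h := congrArg β hn'
  rw [map_pow, hc, map_one, ((hp.out.odd_of_ne_two hp2).pow (n := n)).neg_one_pow] at h
  have h00 := congrFun (congrFun h 0) 0
  simp at h00
  refine hp2 ((Nat.prime_dvd_prime_iff_eq hp.out Nat.prime_two).1 ((CharP.cast_eq_zero_iff (ZMod p) p 2).1 ?_))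
  push_cast
  linear_combination -h00

/-- Control of strong fusion by a normalizer with a normal `p`-complement. -/
theorem hnpc_of_controls {Γ : Type u} [Group Γ] [Finite Γ] {W : ∀ (Q : Type u) [Group Q], Subgroup Q}
    (hW : IsCharPFunctor.{u} p W) (T : Sylow p Γ)
    (hc : ControlsStrongFusion p (inducedFunctor (G := Γ) W (T : Subgroup Γ)))
    (hN : HasNormalPComplement p ↥(Subgroup.normalizer (inducedFunctor (G := Γ) W (T : Subgroup Γ) : Set Γ))) :
    HasNormalPComplement p Γ := by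
  obtain ⟨T', hle, hctl⟩ := hc
  set N := Subgroup.normalizer (inducedFunctor (G := Γ) W (T : Subgroup Γ) : Set Γ) with hNdef
  have hTN : (T' : Subgroup Γ) ≤ N := by
    intro g hg
    obtain ⟨n, hn, hne⟩ := (hctl (T' : Subgroup Γ) (by simp)).2 g (by
      rintro _ ⟨x, hx, rfl⟩
      exact (T' : Subgroup Γ).mul_mem ((T' : Subgroup Γ).mul_mem hg hx) ((T' : Subgroup Γ).inv_mem hg))
    have hc : n⁻¹ * g ∈ N := Subgroup.centralizer_le_normalizer _ (fun w hw => by
      have h := hne w (hle hw)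
      calc w * (n⁻¹ * g) = n⁻¹ * (n * w * n⁻¹) * g := by group
        _ = n⁻¹ * (g * w * g⁻¹) * g := by rw [h]
        _ = n⁻¹ * g * w := by group)
    simpa using N.mul_mem hn hc
  refine hnpc_of_fusion T' fun x hx g hg => ?_
  obtain ⟨n, hn, hne⟩ := (hctl {x} (Set.singleton_subset_iff.2 hx)).2 g (by
    rintro _ ⟨y, rfl, rfl⟩; exact hg)
  have he := hne x rfl
  obtain ⟨s, hs, hse⟩ := fusion_of_frobCond (hnpc_iff_frobCond.1 hN) (T'.subtype hTN)
    (x := (⟨x, hTN hx⟩ : ↥N)) hx (g := ⟨n, hn⟩) (by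
      show n * x * n⁻¹ ∈ (T' : Subgroup Γ); rw [← he]; exact hg)
  exact ⟨(s : Γ), hs, (congrArg Subtype.val hse).trans he.symm⟩

/-- A section with a normal `p`-complement for the normalizer of the functor has one itself. -/
theorem hnpc_of_sections (hp2 : p ≠ 2) {G : Type u} [Group G] [Finite G] (W : ∀ (Q : Type u) [Group Q], Subgroup Q)
    (hW : IsCharPFunctor.{u} p W)
    (hctl : ∀ (K R : Subgroup G) [(R.subgroupOf K).Normal],
      (∀ (K' R' : Subgroup (↥K ⧸ R.subgroupOf K)) [(R'.subgroupOf K').Normal],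
        IsNormalizerPStable p (↥K' ⧸ R'.subgroupOf K')) →
      ∀ T : Sylow p (↥K ⧸ R.subgroupOf K), ControlsStrongFusion p
        (inducedFunctor (G := (↥K ⧸ R.subgroupOf K)) W (T : Subgroup (↥K ⧸ R.subgroupOf K)))) :
    ∀ (Γ : Type u) [Group Γ] [Finite Γ], IsSec G Γ → ∀ S : Sylow p Γ,
      HasNormalPComplement p ↥(Subgroup.normalizer (inducedFunctor (G := Γ) W (S : Subgroup Γ) : Set Γ)) →
      HasNormalPComplement p Γ := by
  refine hnpc_induction W hW fun Γ _ _ _ hsec S hN _ _ _ hab _ => ?_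
  have hqd : ¬ IsSec Γ ↥(Cfsg.qd p) :=
    not_isSec_qd hp2 (CfsgLib.Solv.pCore_isPGroup Γ p) (fun x hx => CfsgLib.Inv.mem_pResidual hx) hab
  obtain ⟨K, R, hR, ⟨e⟩⟩ := hsec.exists_equiv
  haveI := hR
  obtain ⟨T, hT⟩ := exists_sylow_map e S
  refine hnpc_mulEquiv e (hnpc_of_controls hW T (hctl K R ?_ T) ?_)
  · intro K' R' _
    by_contra hns
    exact hqd ((isSec_trans (isSec_quot' K' (R'.subgroupOf K')) (isSec_qd_of_not_stable hp2 hns) |> fun h =>
      isSec_trans (IsSec.of_surjective (isSec_self Γ) e.symm.surjective (q := e.symm.toMonoidHom)) h))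
  · refine hnpc_of_map_le (f := e.toMonoidHom) e.injective ?_ hN
    rw [← hT, ← ind_equiv hW e T]
    exact Subgroup.le_normalizer_map _

end CfsgLib.Dickson
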