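import Cfsg.Agent.Fus.FunctorCore
import Mathlib.GroupTheory.QuotientGroup.Basic

/-!
Sections of a group, naturality of the functors induced by isomorphism-invariant p-group functors, and moving transfer control
along homomorphisms.
-/

set_option autoImplicit false
set_option linter.style.haveILetI false

open Cfsg
open scoped commutatorElement

namespace CfsgLib.Glau

universe u v

/-- `Γ` is a homomorphic image of a subgroup of `G`. -/
def IsSec (G : Type u) [Group G] (Γ : Type v) [Group Γ] : Prop :=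
  ∃ (K : Subgroup G) (f : ↥K →* Γ), Function.Surjective f

section

variable {G : Type u} [Group G] {Γ : Type v} [Group Γ]

theorem isSec_self (G : Type u) [Group G] : IsSec G G :=
  ⟨⊤, (⊤ : Subgroup G).subtype, fun x => ⟨⟨x, trivial⟩, rfl⟩⟩

theorem IsSec.subgroup (h : IsSec G Γ) (H : Subgroup Γ) : IsSec G ↥H := by
  obtain ⟨K, f, hf⟩ := h
  refine ⟨(H.comap f).map K.subtype, (f.subgroupComap H).comp
    ((H.comap f).equivMapOfInjective K.subtype K.subtype_injective).symm.toMonoidHom, ?_⟩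
  exact (f.subgroupComap_surjective_of_surjective H hf).comp (MulEquiv.surjective _)

theorem IsSec.of_surjective (h : IsSec G Γ) {Δ : Type*} [Group Δ] {q : Γ →* Δ} (hq : Function.Surjective q) :
    IsSec G Δ := by
  obtain ⟨K, f, hf⟩ := h
  exact ⟨K, q.comp f, hq.comp hf⟩

/-- A section is isomorphic to one of the standard ones. -/
theorem IsSec.exists_equiv (h : IsSec G Γ) :
    ∃ (K R : Subgroup G) (_ : (R.subgroupOf K).Normal), Nonempty ((↥K ⧸ R.subgroupOf K) ≃* Γ) := by
  obtain ⟨K, f, hf⟩ := h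
  have he : (f.ker.map K.subtype).subgroupOf K = f.ker :=
    Subgroup.comap_map_eq_self_of_injective K.subtype_injective _
  haveI hn : ((f.ker.map K.subtype).subgroupOf K).Normal := he.symm ▸ f.normal_ker
  exact ⟨K, f.ker.map K.subtype, hn,
    ⟨(QuotientGroup.quotientMulEquivOfEq he).trans (QuotientGroup.quotientKerEquivOfSurjective f hf)⟩⟩

end

section

variable {A : Type u} [Group A] {B : Type u} [Group B]

/-- The induced functor commutes with homomorphisms that are injective on the argument. -/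
theorem ind_map [Finite A] {p : ℕ} {W : ∀ (Q : Type u) [Group Q], Subgroup Q} (hW : IsCharPFunctor.{u} p W)
    (f : A →* B) {Q : Subgroup A} (hQ : IsPGroup p ↥Q) (hf : Set.InjOn f (Q : Set A)) :
    inducedFunctor W (Q.map f) = (inducedFunctor W Q).map f := by
  let e : ↥Q ≃* ↥(Q.map f) := MulEquiv.ofBijective (f.subgroupMap Q)
    ⟨fun a b h => Subtype.ext (hf a.2 b.2 (congrArg Subtype.val h)), f.subgroupMap_surjective Q⟩
  show (W ↥(Q.map f)).map _ = ((W ↥Q).map Q.subtype).map f
  rw [← hW.2 ↥Q _ hQ e, Subgroup.map_map, Subgroup.map_map]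
  rfl

end

section

variable {A B : Type*} [Group A] [Group B]

theorem map_cj (f : A →* B) (a : A) (X : Subgroup A) : (cj a X).map f = cj (f a) (X.map f) := by
  rw [cj, cj, Subgroup.map_map, Subgroup.map_map]
  congr 1
  ext x
  simp

theorem map_inf_normalizer [Finite A] [Finite B] {f : A →* B} (hf : Function.Injective f) (H X : Subgroup A) :
    (H ⊓ Subgroup.normalizer (X : Set A)).map f = H.map f ⊓ Subgroup.normalizer (X.map f : Set B) := by
  ext b
  constructor
  · rintro ⟨a, ⟨ha, hN⟩, rfl⟩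
    exact ⟨⟨a, ha, rfl⟩, mem_normalizer_iff_cj.2 (by rw [← map_cj, mem_normalizer_iff_cj.1 hN])⟩
  · rintro ⟨⟨a, ha, rfl⟩, hb⟩
    refine ⟨a, ⟨ha, mem_normalizer_iff_cj.2 (Subgroup.map_injective hf ?_)⟩, rfl⟩
    rw [map_cj, mem_normalizer_iff_cj.1 hb]

theorem map_top_normalizer [Finite A] [Finite B] {f : A →* B} (hf : Function.Surjective f) (Y : Subgroup B) :
    (Subgroup.normalizer (Y.comap f : Set A)).map f = Subgroup.normalizer (Y : Set B) := by
  have key : ∀ a, a ∈ Subgroup.normalizer (Y.comap f : Set A) ↔ f a ∈ Subgroup.normalizer (Y : Set B) := by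
    intro a
    constructor
    · intro h
      refine Subgroup.mem_normalizer_iff.2 fun y => ?_
      obtain ⟨x, rfl⟩ := hf y
      rw [← map_inv, ← map_mul, ← map_mul]
      exact Subgroup.mem_normalizer_iff.1 h x
    · intro h
      refine Subgroup.mem_normalizer_iff.2 fun x => ?_
      show f x ∈ Y ↔ f (a * x * a⁻¹) ∈ Y
      rw [map_mul, map_mul, map_inv]
      exact Subgroup.mem_normalizer_iff.1 h (f x)
  ext b
  constructor
  · rintro ⟨a, ha, rfl⟩; exact (key a).1 ha
  · intro hb
    obtain ⟨a, rfl⟩ := hf b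
    exact ⟨a, (key a).2 hb, rfl⟩

theorem Syl.map {p : ℕ} {S H : Subgroup A} (h : Syl p S H) (f : A →* B) : Syl p (S.map f) (H.map f) := by
  refine ⟨Subgroup.map_mono h.le, h.pg.map f, fun hd => h.idx (hd.trans ?_)⟩
  have he : (S.map f).subgroupOf (H.map f) = (S.subgroupOf H).map (f.subgroupMap H) := by
    ext ⟨b, hb⟩
    constructor
    · intro (hbS : b ∈ S.map f)
      obtain ⟨a, ha, rfl⟩ := hbS
      exact ⟨⟨a, h.le ha⟩, ha, rfl⟩
    · rintro ⟨⟨a, haH⟩, ha, e⟩
      exact ⟨a, ha, congrArg Subtype.val e⟩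
  show (S.map f).relIndex (H.map f) ∣ S.relIndex H
  rw [Subgroup.relIndex, Subgroup.relIndex, he]
  exact (S.subgroupOf H).index_map_dvd (f.subgroupMap_surjective H)

theorem Syl.subgroupOf {p : ℕ} {S H : Subgroup A} (h : Syl p S H) : Syl p (S.subgroupOf H) (⊤ : Subgroup ↥H) :=
  ⟨le_top, h.pg.comap_subtype, by rw [Subgroup.relIndex_top_right]; exact h.idx⟩

theorem mem_of_pow_coprime {p : ℕ} [hp : Fact p.Prime] {Y : Subgroup A} {z : A} {a k : ℕ} (ha : ¬ p ∣ a)
    (hz : z ^ p ^ k = 1) (hza : z ^ a ∈ Y) : z ∈ Y := by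
  have hc : Nat.Coprime a (orderOf z) :=
    Nat.Coprime.coprime_dvd_right (orderOf_dvd_of_pow_eq_one hz)
      (Nat.Coprime.pow_right k (hp.out.coprime_iff_not_dvd.2 ha).symm)
  obtain ⟨m, hm⟩ := exists_pow_eq_self_of_coprime hc
  rw [← hm]
  exact Y.pow_mem hza m

theorem pow_mul_mem {Y : Subgroup A} {y n : A} (hy : y ∈ Y) (hn : n ∈ Subgroup.normalizer (Y : Set A)) :
    ∀ a : ℕ, (y * n) ^ a * (n ^ a)⁻¹ ∈ Y
  | 0 => by simp
  | a + 1 => by
    have h := Y.mul_mem hy ((Subgroup.mem_normalizer_iff.1 hn _).1 (pow_mul_mem hy hn a))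
    rw [show (y * n) ^ (a + 1) * (n ^ (a + 1))⁻¹ = y * (n * ((y * n) ^ a * (n ^ a)⁻¹) * n⁻¹) by
      rw [pow_succ', pow_succ']; group]
    exact h

end

section

variable {A : Type u} [Group A] [Finite A] {B : Type u} [Group B] [Finite B] {p : ℕ}

theorem Tra.of_hom {W : ∀ (Q : Type u) [Group Q], Subgroup Q} (hW : IsCharPFunctor.{u} p W) {f : A →* B}
    (hf : Function.Injective f) {S H : Subgroup A} (hS : IsPGroup p ↥S) (h : Tra (inducedFunctor W) S H) :
    Tra (inducedFunctor W) (S.map f) (H.map f) := by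
  rw [Tra, ind_map hW f hS hf.injOn, ← map_inf_normalizer hf, ← Subgroup.map_commutator, ← Subgroup.map_commutator,
    ← Subgroup.map_inf _ _ f hf]
  exact Subgroup.map_mono h

end

end CfsgLib.Glau
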