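import Mathlib
import Cfsg.Prelude.Def_PLocal

/-!
Elementary facts on the group `qd p`: block form, the matrices used, and the central involution of the block.
-/

set_option autoImplicit false

open Cfsg Matrix

namespace CfsgLib.Fus.Qd

variable {p : ℕ} [Fact p.Prime]

local notation "K" => ZMod p

theorem row (M : ↥(Cfsg.qd p)) : M.1.1 2 0 = 0 ∧ M.1.1 2 1 = 0 ∧ M.1.1 2 2 = 1 := by
  suffices h : ∀ N ∈ Cfsg.qd p, N.1 2 0 = 0 ∧ N.1 2 1 = 0 ∧ N.1 2 2 = 1 from h M.1 M.2
  intro N hN
  induction hN using Subgroup.closure_induction with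
  | mem A hA => exact hA
  | one => simp
  | mul A B _ _ ha hb =>
    simp [Matrix.SpecialLinearGroup.coe_mul, Matrix.mul_apply, Fin.sum_univ_three, ha, hb]
  | inv A _ ha =>
    have h : A.1 * (A⁻¹).1 = 1 := by
      rw [← Matrix.SpecialLinearGroup.coe_mul, mul_inv_cancel, Matrix.SpecialLinearGroup.coe_one]
    have e := fun j => congrFun (congrFun h 2) j
    have e0 := e 0; have e1 := e 1; have e2 := e 2
    simp [Matrix.mul_apply, Fin.sum_univ_three, ha] at e0 e1 e2
    exact ⟨e0, e1, e2⟩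

/-- A matrix of `qd p` given by its block and its column. -/
def mk (a b c d x y : K) (h : a * d - b * c = 1) : ↥(Cfsg.qd p) :=
  ⟨⟨!![a, b, x; c, d, y; 0, 0, 1], by rw [Matrix.det_fin_three]; simp; linear_combination h⟩,
    Subgroup.subset_closure ⟨by simp, by simp, by simp⟩⟩

theorem mk_mul (a b c d x y : K) (h : a * d - b * c = 1) (a' b' c' d' x' y' : K)
    (h' : a' * d' - b' * c' = 1) :
    mk a b c d x y h * mk a' b' c' d' x' y' h' =
      mk (a * a' + b * c') (a * b' + b * d') (c * a' + d * c') (c * b' + d * d')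
        (a * x' + b * y' + x) (c * x' + d * y' + y)
        (by linear_combination h' * (a * d - b * c) + h) := by
  refine Subtype.ext (Subtype.ext ?_)
  show !![a, b, x; c, d, y; 0, 0, 1] * !![a', b', x'; c', d', y'; 0, 0, 1] =
    !![a * a' + b * c', a * b' + b * d', a * x' + b * y' + x;
       c * a' + d * c', c * b' + d * d', c * x' + d * y' + y; 0, 0, (1 : K)]
  ext i j
  fin_cases i <;> fin_cases j <;> simp [Matrix.mul_apply, Fin.sum_univ_three]

theorem mk_congr {a b c d x y : K} {h : a * d - b * c = 1} {a' b' c' d' x' y' : K}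
    {h' : a' * d' - b' * c' = 1} (e₁ : a = a') (e₂ : b = b') (e₃ : c = c') (e₄ : d = d')
    (e₅ : x = x') (e₆ : y = y') : mk a b c d x y h = mk a' b' c' d' x' y' h' := by
  subst_vars; rfl

theorem mk_one : mk (1 : K) 0 0 1 0 0 (by ring) = 1 := by
  apply Subtype.ext; apply Subtype.ext
  ext i j
  fin_cases i <;> fin_cases j <;> simp [mk]

theorem eq_mk (M : ↥(Cfsg.qd p)) :
    ∃ (a b c d x y : K) (h : a * d - b * c = 1), M = mk a b c d x y h := by
  obtain ⟨h0, h1, h2⟩ := row M
  refine ⟨M.1.1 0 0, M.1.1 0 1, M.1.1 1 0, M.1.1 1 1, M.1.1 0 2, M.1.1 1 2, ?_, ?_⟩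
  · have h := M.1.2
    rw [Matrix.det_fin_three, h0, h1, h2] at h
    linear_combination h
  · apply Subtype.ext; apply Subtype.ext
    ext i j
    fin_cases i <;> fin_cases j <;> simp [mk, h0, h1, h2]

/-- The block part, a monoid homomorphism. -/
def blockHom : ↥(Cfsg.qd p) →* Matrix (Fin 2) (Fin 2) K where
  toFun M := !![M.1.1 0 0, M.1.1 0 1; M.1.1 1 0, M.1.1 1 1]
  map_one' := by ext i j; fin_cases i <;> fin_cases j <;> simp
  map_mul' M N := by
    obtain ⟨h0, h1, -⟩ := row N
    ext i j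
    fin_cases i <;> fin_cases j <;>
      simp [Matrix.mul_apply, Fin.sum_univ_three, Fin.sum_univ_two, h0, h1]

/-- The translations. -/
def trans : Subgroup ↥(Cfsg.qd p) := (blockHom (p := p)).ker

theorem trans_normal : (trans (p := p)).Normal := MonoidHom.normal_ker _

theorem mem_trans_iff {M : ↥(Cfsg.qd p)} :
    M ∈ trans ↔ ∃ x y : K, M = mk 1 0 0 1 x y (by ring) := by
  constructor
  · intro hM
    obtain ⟨a, b, c, d, x, y, h, rfl⟩ := eq_mk M
    have h1 : blockHom (mk a b c d x y h) = 1 := hM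
    have e := fun i j => congrFun (congrFun h1 i) j
    refine ⟨x, y, mk_congr ?_ ?_ ?_ ?_ rfl rfl⟩
    · simpa [blockHom, mk] using e 0 0
    · simpa [blockHom, mk] using e 0 1
    · simpa [blockHom, mk] using e 1 0
    · simpa [blockHom, mk] using e 1 1
  · rintro ⟨x, y, rfl⟩
    show blockHom (mk 1 0 0 1 x y _) = 1
    ext i j
    fin_cases i <;> fin_cases j <;> simp [blockHom, mk]

theorem card_trans : Nat.card ↥(trans (p := p)) = p ^ 2 := by
  let f : K × K → ↥(trans (p := p)) := fun v =>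
    ⟨mk 1 0 0 1 v.1 v.2 (by ring), mem_trans_iff.2 ⟨v.1, v.2, rfl⟩⟩
  have hf : Function.Bijective f := by
    refine ⟨fun v w h => ?_, fun M => ?_⟩
    · have h' := fun i j => congrFun (congrFun (congrArg (fun M : ↥(trans (p := p)) => M.1.1.1) h) i) j
      exact Prod.ext (by simpa [f, mk] using h' 0 2) (by simpa [f, mk] using h' 1 2)
    · obtain ⟨x, y, h⟩ := mem_trans_iff.1 M.2
      exact ⟨(x, y), Subtype.ext h.symm⟩
  rw [← Nat.card_congr (Equiv.ofBijective f hf), Nat.card_prod, Nat.card_zmod, sq]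

theorem trans_comm {M N : ↥(Cfsg.qd p)} (hM : M ∈ trans) (hN : N ∈ trans) : M * N = N * M := by
  obtain ⟨x, y, rfl⟩ := mem_trans_iff.1 hM
  obtain ⟨x', y', rfl⟩ := mem_trans_iff.1 hN
  rw [mk_mul, mk_mul]
  exact mk_congr (by ring) (by ring) (by ring) (by ring) (by ring) (by ring)

theorem trans_pow (x y : K) (n : ℕ) :
    (mk 1 0 0 1 x y (by ring)) ^ n = mk (1 : K) 0 0 1 (n * x) (n * y) (by ring) := by
  induction n with
  | zero => rw [pow_zero, ← mk_one]; exact mk_congr rfl rfl rfl rfl (by simp) (by simp)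
  | succ n ih =>
    rw [pow_succ, ih, mk_mul]
    exact mk_congr (by ring) (by ring) (by ring) (by ring) (by push_cast; ring) (by push_cast; ring)

theorem trans_pow_p {M : ↥(Cfsg.qd p)} (hM : M ∈ trans) : M ^ p = 1 := by
  obtain ⟨x, y, rfl⟩ := mem_trans_iff.1 hM
  rw [trans_pow, ← mk_one]
  exact mk_congr rfl rfl rfl rfl (by simp) (by simp)

/-- The central involution of the block. -/
def z : ↥(Cfsg.qd p) := mk (-1) 0 0 (-1) 0 0 (by ring)

theorem z_mul_z : z (p := p) * z = 1 := by
  rw [z, mk_mul, ← mk_one]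
  exact mk_congr (by ring) (by ring) (by ring) (by ring) (by ring) (by ring)

theorem z_trans {M : ↥(Cfsg.qd p)} (hM : M ∈ trans) : z * M * z * M = 1 := by
  obtain ⟨x, y, rfl⟩ := mem_trans_iff.1 hM
  rw [z, mk_mul, mk_mul, mk_mul, ← mk_one]
  exact mk_congr (by ring) (by ring) (by ring) (by ring) (by ring) (by ring)

theorem z_commute_mod (M : ↥(Cfsg.qd p)) : M * z * M⁻¹ * z ∈ trans := by
  have hzc : blockHom (p := p) z = -1 := by
    ext i j
    fin_cases i <;> fin_cases j <;> simp [blockHom, z, mk]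
  show blockHom _ = 1
  rw [map_mul, map_mul, map_mul, hzc]
  simp only [Matrix.mul_neg, Matrix.mul_one, Matrix.neg_mul, neg_neg]
  rw [← map_mul, mul_inv_cancel, map_one]

/-- Upper transvection. -/
def up (s : K) : ↥(Cfsg.qd p) := mk 1 s 0 1 0 0 (by ring)

/-- Lower transvection. -/
def low (s : K) : ↥(Cfsg.qd p) := mk 1 0 s 1 0 0 (by ring)

theorem up_mul (s t : K) : up s * up t = up (s + t) := by
  rw [up, up, mk_mul]
  exact mk_congr (by ring) (by ring) (by ring) (by ring) (by ring) (by ring)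

theorem z_eq : z (p := p) = up 1 * low (-1) * up 1 * (up 1 * low (-1) * up 1) := by
  simp only [z, up, low, mk_mul]
  exact mk_congr (by ring) (by ring) (by ring) (by ring) (by ring) (by ring)

theorem up_commute_z (s : K) : up s * z = z * up s := by
  rw [up, z, mk_mul, mk_mul]
  exact mk_congr (by ring) (by ring) (by ring) (by ring) (by ring) (by ring)

theorem low_commute_z (s : K) : low s * z = z * low s := by
  rw [low, z, mk_mul, mk_mul]
  exact mk_congr (by ring) (by ring) (by ring) (by ring) (by ring) (by ring)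

/-- The diagonal element with entries `a`, `a⁻¹`. -/
def diag (a : K) (ha : a ≠ 0) : ↥(Cfsg.qd p) := mk a 0 0 a⁻¹ 0 0 (by simp [mul_inv_cancel₀ ha])

theorem diag_eq (a : K) (ha : a ≠ 0) :
    diag a ha = up a * low (-a⁻¹) * up a * (up (-1) * low 1 * up (-1)) := by
  simp only [diag, up, low, mk_mul]
  refine mk_congr ?_ ?_ ?_ ?_ ?_ ?_ <;> field_simp <;> ring

theorem diag_commute_z (a : K) (ha : a ≠ 0) : diag a ha * z = z * diag a ha := by
  rw [diag, z, mk_mul, mk_mul]
  exact mk_congr (by ring) (by ring) (by ring) (by ring) (by ring) (by ring)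

theorem diag_up (a s : K) (ha : a ≠ 0) : diag a ha * up s = up (a ^ 2 * s) * diag a ha := by
  rw [diag, up, up, mk_mul, mk_mul]
  refine mk_congr ?_ ?_ ?_ ?_ ?_ ?_ <;> field_simp <;> ring

theorem diag_low (a s : K) (ha : a ≠ 0) : diag a ha * low (a ^ 2 * s) = low s * diag a ha := by
  rw [diag, low, low, mk_mul, mk_mul]
  refine mk_congr ?_ ?_ ?_ ?_ ?_ ?_ <;> field_simp <;> ring

theorem up_inj {s t : K} (h : up s = up t) : s = t := by
  have h' := congrFun (congrFun (congrArg (fun M : ↥(Cfsg.qd p) => M.1.1) h) 0) 1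
  simpa [up, mk] using h'

theorem up_not_trans {s : K} (hs : s ≠ 0) : up s ∉ trans (p := p) := by
  intro h
  have h' : blockHom (up s) = 1 := h
  have h'' := congrFun (congrFun h' 0) 1
  exact hs (by simpa [blockHom, up, mk] using h'')

theorem up_fixes (s x : K) :
    up s * mk 1 0 0 1 x 0 (by ring) = mk 1 0 0 1 x 0 (by ring) * up s := by
  rw [up, mk_mul, mk_mul]
  exact mk_congr (by ring) (by ring) (by ring) (by ring) (by ring) (by ring)

theorem up_moves (s y : K) :
    up s * mk 1 0 0 1 0 y (by ring) = mk 1 0 0 1 (s * y) y (by ring) * up s := by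
  rw [up, mk_mul, mk_mul]
  exact mk_congr (by ring) (by ring) (by ring) (by ring) (by ring) (by ring)

theorem trans_inj {x y x' y' : K}
    (h : mk 1 0 0 1 x y (by ring) = mk 1 0 0 1 x' y' (by ring)) : x = x' ∧ y = y' := by
  have e := fun i j => congrFun (congrFun (congrArg (fun M : ↥(Cfsg.qd p) => M.1.1) h) i) j
  exact ⟨by simpa [mk] using e 0 2, by simpa [mk] using e 1 2⟩

end CfsgLib.Fus.Qd
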