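import Cfsg.Agent.Fus.QdModule
import Cfsg.Agent.Fus.QdGroup
import Cfsg.Agent.Fus.FunctorSection
import Cfsg.Prelude.Def_LocalEven

/-!
A quadratic pair acting irreducibly on an elementary abelian subgroup gives a section isomorphic to `qd p`.
-/

set_option autoImplicit false
set_option linter.style.haveILetI false

open Cfsg
open scoped commutatorElement

namespace CfsgLib.Dickson

open Matrix

variable {p : ℕ} [hp : Fact p.Prime]

/-- A section in the sense of a surjection from a subgroup is an involvement. -/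
theorem involves_of_isSec {G H : Type*} [Group G] [Group H] (h : CfsgLib.Glau.IsSec G H) : Cfsg.Involves H G := by
  obtain ⟨K, f, hf⟩ := h
  have e : (f.ker.map K.subtype).subgroupOf K = f.ker :=
    Subgroup.comap_map_eq_self_of_injective K.subtype_injective f.ker
  haveI hn : ((f.ker.map K.subtype).subgroupOf K).Normal := by rw [e]; infer_instance
  exact ⟨K, f.ker.map K.subtype, hn,
    ⟨(QuotientGroup.quotientMulEquivOfEq e).trans (QuotientGroup.quotientKerEquivOfSurjective f hf)⟩⟩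

theorem isSec_of_involves {G H : Type*} [Group G] [Group H] (h : Cfsg.Involves H G) : CfsgLib.Glau.IsSec G H := by
  obtain ⟨K, R, hn, ⟨e⟩⟩ := h
  haveI := hn
  exact ⟨K, e.toMonoidHom.comp (QuotientGroup.mk' _), e.surjective.comp (QuotientGroup.mk'_surjective _)⟩

set_option maxHeartbeats 1000000 in
/-- A quadratic pair, irreducible on an elementary abelian subgroup, gives a section `qd p`. -/
theorem isSec_qd_of_module (hp2 : p ≠ 2) {Γ : Type*} [Group Γ] [Finite Γ] (W : Subgroup Γ) (x y : Γ)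
    (hxN : x ∈ Subgroup.normalizer (W : Set Γ)) (hyN : y ∈ Subgroup.normalizer (W : Set Γ))
    (hab : ∀ a ∈ W, ∀ b ∈ W, a * b = b * a) (hexp : ∀ a ∈ W, a ^ p = 1)
    (hqx : ∀ w ∈ W, ⁅x, ⁅x, w⁆⁆ = 1) (hqy : ∀ w ∈ W, ⁅y, ⁅y, w⁆⁆ = 1)
    (hx1 : ∃ w ∈ W, ⁅x, w⁆ ≠ 1) (hy1 : ∃ w ∈ W, ⁅y, w⁆ ≠ 1)
    (hirr : ∀ W' ≤ W, x ∈ Subgroup.normalizer (W' : Set Γ) → y ∈ Subgroup.normalizer (W' : Set Γ) →
      W' = ⊥ ∨ W' = W) :
    CfsgLib.Glau.IsSec Γ ↥(Cfsg.qd p) := by
  classical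
  letI : CommGroup ↥W := { (inferInstance : Group ↥W) with
    mul_comm := fun a b => Subtype.ext (hab a.1 a.2 b.1 b.2) }
  set N : Subgroup Γ := Subgroup.normalizer (W : Set Γ) with hN
  have hNW : ∀ (l : ↥N) (w : ↥W), (l : Γ) * w * (l : Γ)⁻¹ ∈ W := fun l w =>
    (Subgroup.mem_normalizer_iff.1 l.2 w).1 w.2
  let act : ↥N →* AddMonoid.End (Additive ↥W) :=
    { toFun := fun l => ({
        toFun := fun w => Additive.ofMul ⟨(l : Γ) * (Additive.toMul w : ↥W) * (l : Γ)⁻¹, hNW l _⟩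
        map_zero' := by
          apply Additive.toMul.injective
          exact Subtype.ext (by simp)
        map_add' := fun a b => by
          apply Additive.toMul.injective
          exact Subtype.ext (by simp [mul_assoc]) } : Additive ↥W →+ Additive ↥W)
      map_one' := by
        refine AddMonoidHom.ext fun w => ?_
        apply Additive.toMul.injective
        exact Subtype.ext (show ((1 : ↥N) : Γ) * ((Additive.toMul w : ↥W) : Γ) * ((1 : ↥N) : Γ)⁻¹ =
          ((Additive.toMul w : ↥W) : Γ) by simp)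
      map_mul' := fun l l' => by
        refine AddMonoidHom.ext fun w => ?_
        apply Additive.toMul.injective
        exact Subtype.ext (show ((l * l' : ↥N) : Γ) * ((Additive.toMul w : ↥W) : Γ) * ((l * l' : ↥N) : Γ)⁻¹ =
          (l : Γ) * ((l' : Γ) * ((Additive.toMul w : ↥W) : Γ) * (l' : Γ)⁻¹) * (l : Γ)⁻¹ by simp [mul_assoc]) }
  let val : Additive ↥W → Γ := fun w => ((Additive.toMul w : ↥W) : Γ)
  have hval : Function.Injective val := fun a b h => Additive.toMul.injective (Subtype.ext h)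
  have vact : ∀ (l : ↥N) (w : Additive ↥W), val (act l w) = (l : Γ) * val w * (l : Γ)⁻¹ := fun _ _ => rfl
  have vsub : ∀ a b : Additive ↥W, val (a - b) = val a * (val b)⁻¹ := fun a b => by
    simp [val, toMul_sub, div_eq_mul_inv]
  have hquad : ∀ (l : ↥N), (∀ w ∈ W, ⁅(l : Γ), ⁅(l : Γ), w⁆⁆ = 1) → ∀ w, act l (act l w - w) = act l w - w := by
    intro l hq w
    apply hval
    rw [vact, vsub, vact]
    have h := hq (val w) (Additive.toMul w).2
    rw [commutatorElement_def (l : Γ) ⁅(l : Γ), val w⁆, mul_inv_eq_one] at h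
    rwa [commutatorElement_def] at h
  have hne : ∀ (l : ↥N), (∃ w ∈ W, ⁅(l : Γ), w⁆ ≠ 1) → ∃ w, act l w ≠ w := by
    rintro l ⟨w, hw, h⟩
    refine ⟨Additive.ofMul ⟨w, hw⟩, fun he => h ?_⟩
    have := congrArg val he
    rw [vact] at this
    rw [commutatorElement_def, mul_inv_eq_one]
    exact this
  have hpW : ∀ w : Additive ↥W, p • w = 0 := fun w => by
    apply Additive.toMul.injective
    exact Subtype.ext (by simpa using hexp _ (Additive.toMul w).2)
  obtain ⟨ι, hι, hM⟩ := natural_module p hp2 hpW act ⟨x, hxN⟩ ⟨y, hyN⟩ (hquad _ hqx) (hquad _ hqy) (hne _ hx1)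
    (hne _ hy1) (fun A hAx hAy => by
      let W' : Subgroup Γ :=
        { carrier := {g | ∃ a ∈ A, val a = g}
          one_mem' := ⟨0, A.zero_mem, rfl⟩
          mul_mem' := by rintro _ _ ⟨a, ha, rfl⟩ ⟨b, hb, rfl⟩; exact ⟨a + b, A.add_mem ha hb, rfl⟩
          inv_mem' := by rintro _ ⟨a, ha, rfl⟩; exact ⟨-a, A.neg_mem ha, rfl⟩ }
      have hmem : ∀ l : ↥N, (∀ a ∈ A, act l a ∈ A) → (l : Γ) ∈ Subgroup.normalizer (W' : Set Γ) :=
        fun l hl => Subgroup.mem_normalizer_fintype (by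
          rintro _ ⟨a, ha, rfl⟩; exact ⟨act l a, hl a ha, vact l a⟩)
      rcases hirr W' (by rintro _ ⟨a, -, rfl⟩; exact (Additive.toMul a).2) (hmem _ hAx) (hmem _ hAy) with h | h
      · left
        refine eq_bot_iff.2 fun a ha => AddSubgroup.mem_bot.2 (hval ?_)
        exact (Subgroup.mem_bot.1 (h.le ⟨a, ha, rfl⟩)).trans rfl
      · right
        refine eq_top_iff.2 fun a _ => ?_
        obtain ⟨b, hb, hba⟩ := h.ge (show val a ∈ W from (Additive.toMul a).2)
        rwa [← hval hba])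
  -- the acting group
  let S : Subgroup ↥N :=
    { carrier := {l | ∃ M : SpecialLinearGroup (Fin 2) (ZMod p), ∀ t, act l (ι t) = ι (M.1 *ᵥ t)}
      one_mem' := ⟨1, fun t => by simp⟩
      mul_mem' := fun {l l'} ⟨M, hM⟩ ⟨M', hM'⟩ => ⟨M * M', fun t => by
        rw [map_mul, show (act l * act l') (ι t) = act l (act l' (ι t)) from rfl, hM', hM, mulVec_mulVec]
        rfl⟩
      inv_mem' := fun {l} ⟨M, hM⟩ => ⟨M⁻¹, fun t => by
        have h := hM (M⁻¹.1 *ᵥ t)
        rw [mulVec_mulVec, show M.1 * (M⁻¹).1 = 1 from congrArg Subtype.val (mul_inv_cancel M), one_mulVec] at h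
        rw [← h, show act l⁻¹ (act l (ι (M⁻¹.1 *ᵥ t))) = (act l⁻¹ * act l) (ι (M⁻¹.1 *ᵥ t)) from rfl, ← map_mul,
          inv_mul_cancel, map_one]
        rfl⟩ }
  have uniq : ∀ {M M' : SpecialLinearGroup (Fin 2) (ZMod p)}, (∀ t, ι (M.1 *ᵥ t) = ι (M'.1 *ᵥ t)) → M = M' := by
    intro M M' h
    refine Subtype.ext (Matrix.ext fun i j => ?_)
    have h' := congrFun (hι (h (Pi.single j 1))) i
    simpa [mulVec_single] using h'
  choose m hm using fun l : ↥S => l.2
  let ψ : ↥S →* SpecialLinearGroup (Fin 2) (ZMod p) :=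
    { toFun := m
      map_one' := uniq fun t => by rw [← hm 1 t]; simp
      map_mul' := fun l l' => uniq fun t => by
        rw [← hm (l * l') t, show (m l * m l').1 = (m l).1 * (m l').1 from rfl, ← mulVec_mulVec, ← hm l, ← hm l']
        simp [map_mul] }
  have hψ : ∀ (l : ↥S) t, act (l : ↥N) (ι t) = ι ((ψ l).1 *ᵥ t) := hm
  have hψs : Function.Surjective ψ := fun M => by
    obtain ⟨l, hl⟩ := hM M
    exact ⟨⟨l, M, hl⟩, uniq fun t => by rw [← hψ]; exact hl t⟩
  -- a minimal supplement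
  obtain ⟨T, hT, hTmin⟩ := Set.Finite.exists_minimal
    (Set.toFinite {T : Subgroup ↥S | T.map ψ = ⊤}) ⟨⊤, Subgroup.map_top_of_surjective ψ hψs⟩
  let ψT : ↥T →* SpecialLinearGroup (Fin 2) (ZMod p) := ψ.comp T.subtype
  have hψT : Function.Surjective ψT := fun M => by
    obtain ⟨l, hl, rfl⟩ := (hT : T.map ψ = ⊤).ge (Subgroup.mem_top M)
    exact ⟨⟨l, hl⟩, rfl⟩
  set c : SpecialLinearGroup (Fin 2) (ZMod p) := m1 (ZMod p) with hc
  obtain ⟨z₀, hz₀⟩ := hψT c
  haveI : Fact (Nat.Prime 2) := ⟨Nat.prime_two⟩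
  obtain ⟨a, r, hr, hor⟩ := Nat.exists_eq_two_pow_mul_odd (orderOf_pos z₀).ne'
  set z : ↥T := z₀ ^ r with hzdef
  have hzc : ψT z = c := by
    obtain ⟨i, rfl⟩ := hr
    rw [hzdef, map_pow, hz₀, pow_succ, pow_mul, pow_two, hc, m1_sq, one_pow, one_mul]
  have hz2 : z ^ 2 ^ a = 1 := by rw [hzdef, ← pow_mul, mul_comm, ← hor, pow_orderOf_eq_one]
  let Nn : Subgroup ↥T := (Subgroup.zpowers c).comap ψT
  haveI : (Subgroup.zpowers c).Normal := ⟨fun g hg k => by
    obtain ⟨i, rfl⟩ := Subgroup.mem_zpowers_iff.1 hg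
    rw [((show Commute k c from (m1_mul k).symm).zpow_right i).eq, mul_inv_cancel_right]
    exact Subgroup.zpow_mem_zpowers _ i⟩
  haveI : Nn.Normal := (inferInstance : (Subgroup.zpowers c).Normal).comap ψT
  have hzN : z ∈ Nn := by show ψT z ∈ Subgroup.zpowers c; rw [hzc]; exact Subgroup.mem_zpowers c
  have hz2' : IsPGroup 2 ↥(Subgroup.zpowers (⟨z, hzN⟩ : ↥Nn)) := fun u => by
    refine ⟨a, Subtype.ext ?_⟩
    obtain ⟨i, hi⟩ := Subgroup.mem_zpowers_iff.1 u.2
    rw [SubmonoidClass.coe_pow, ← hi, ← zpow_natCast, ← _root_.zpow_mul, mul_comm, _root_.zpow_mul, zpow_natCast,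
      show (⟨z, hzN⟩ : ↥Nn) ^ 2 ^ a = 1 from Subtype.ext (by simpa using hz2), _root_.one_zpow]
    rfl
  obtain ⟨Q, hQ⟩ := hz2'.exists_le_sylow
  let Q' : Subgroup ↥T := (Q : Subgroup ↥Nn).map Nn.subtype
  have hzQ : z ∈ Q' := ⟨⟨z, hzN⟩, hQ (Subgroup.mem_zpowers _), rfl⟩
  have hnorm : Subgroup.normalizer (Q' : Set ↥T) = ⊤ := by
    have htop : (Subgroup.normalizer (Q' : Set ↥T)).map ψT = ⊤ := by
      refine eq_top_iff.2 ?_
      calc (⊤ : Subgroup (SpecialLinearGroup (Fin 2) (ZMod p)))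
          = (Subgroup.normalizer (Q' : Set ↥T) ⊔ Nn).map ψT := by
            rw [show Subgroup.normalizer (Q' : Set ↥T) ⊔ Nn = ⊤ from Sylow.normalizer_sup_eq_top Q,
              Subgroup.map_top_of_surjective ψT hψT]
        _ ≤ _ := by
            rw [Subgroup.map_sup]
            refine sup_le le_rfl ((Subgroup.map_comap_le _ _).trans ?_)
            rw [Subgroup.zpowers_le]
            exact ⟨z, Subgroup.le_normalizer hzQ, hzc⟩
    have h1 : T ≤ (Subgroup.normalizer (Q' : Set ↥T)).map T.subtype :=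
      hTmin (show ((Subgroup.normalizer (Q' : Set ↥T)).map T.subtype).map ψ = ⊤ by rw [Subgroup.map_map]; exact htop)
        (Subgroup.map_subtype_le _)
    refine eq_top_iff.2 fun t _ => ?_
    obtain ⟨t', ht', he⟩ := h1 t.2
    rwa [← T.subtype_injective he]
  have hQ2 : ∀ g ∈ Q', ∃ n, g ^ 2 ^ n = 1 := fun g hg => by
    obtain ⟨⟨g', hg'⟩, hgQ, rfl⟩ := hg
    obtain ⟨n, hn⟩ := Q.2 ⟨⟨g', hg'⟩, hgQ⟩
    exact ⟨n, congrArg (fun u : ↥(Q : Subgroup ↥Nn) => ((u : ↥Nn) : ↥T)) hn⟩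
  let e : ↥T →* Γ := N.subtype.comp (S.subtype.comp T.subtype)
  have he : Function.Injective e := N.subtype_injective.comp (S.subtype_injective.comp T.subtype_injective)
  have hψe : ∀ (s : ↥T) t, e s * val (ι t) * (e s)⁻¹ = val (ι ((ψT s).1 *ᵥ t)) := fun s t => by
    show (((s : ↥S) : ↥N) : Γ) * val (ι t) * (((s : ↥S) : ↥N) : Γ)⁻¹ = _
    rw [← vact]; exact congrArg val (hψ _ t)
  have vW : ∀ w, val w ∈ W := fun w => (Additive.toMul w).2
  have vadd : ∀ a b : Additive ↥W, val (a + b) = val a * val b := fun _ _ => rfl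
  have vzero : val 0 = 1 := rfl
  -- the module meets the supplement trivially
  have hdisj : ∀ (s : ↥T) t, e s = val (ι t) → t = 0 := by
    intro s t hst
    have hk : s * z * s⁻¹ ∈ Q' := (Subgroup.mem_normalizer_iff.1 (by rw [hnorm]; trivial) z).1 hzQ
    have hq : z * s * z⁻¹ * s⁻¹ ∈ Q' := by
      rw [show z * s * z⁻¹ * s⁻¹ = z * (s * z⁻¹ * s⁻¹) by group, show s * z⁻¹ * s⁻¹ = (s * z * s⁻¹)⁻¹ by group]
      exact Q'.mul_mem hzQ (Q'.inv_mem hk)
    have he' : e (z * s * z⁻¹ * s⁻¹) = val (ι (c.1 *ᵥ t) - ι t) := by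
      rw [vsub, map_mul, map_mul, map_mul, map_inv, map_inv, hst, hψe, hzc]
    obtain ⟨n, hn⟩ := hQ2 _ hq
    have h1 : z * s * z⁻¹ * s⁻¹ = 1 := by
      have hp' : (z * s * z⁻¹ * s⁻¹) ^ p = 1 := he (by
        rw [map_pow, he', map_one]; exact hexp _ (vW _))
      have h := (pow_gcd_eq_one).2 ⟨hn, hp'⟩
      rwa [(Nat.Coprime.pow_left n ((Nat.coprime_primes Nat.prime_two hp.out).2 (Ne.symm hp2))).gcd_eq_one,
        pow_one] at h
    rw [h1, map_one, ← vzero] at he'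
    have h2 := hι (sub_eq_zero.1 (hval he').symm)
    funext i
    have h3 := congrFun h2 i
    have h2' : (2 : ZMod p) ≠ 0 := fun h => hp2 ((Nat.prime_dvd_prime_iff_eq hp.out Nat.prime_two).1
      ((CharP.cast_eq_zero_iff (ZMod p) p 2).1 (by exact_mod_cast h)))
    have h4 : (2 : ZMod p) * t i = 0 := by
      fin_cases i <;> simp [hc, m1, mulVec, dotProduct, Fin.sum_univ_two] at h3
      · show (2 : ZMod p) * t 0 = 0; linear_combination -h3
      · show (2 : ZMod p) * t 1 = 0; linear_combination -h3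
    simpa using (mul_eq_zero.1 h4).resolve_left h2'
  -- the section
  let K : Subgroup Γ :=
    { carrier := {g | ∃ t, ∃ s : ↥T, g = val (ι t) * e s}
      one_mem' := ⟨0, 1, by rw [map_zero, vzero, map_one, one_mul]⟩
      mul_mem' := by
        rintro _ _ ⟨t, s, rfl⟩ ⟨t', s', rfl⟩
        refine ⟨t + (ψT s).1 *ᵥ t', s * s', ?_⟩
        rw [map_add, vadd, map_mul, ← hψe]; group
      inv_mem' := by
        rintro _ ⟨t, s, rfl⟩
        refine ⟨(ψT s⁻¹).1 *ᵥ (-t), s⁻¹, ?_⟩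
        rw [← hψe, map_neg, show val (-ι t) = (val (ι t))⁻¹ from rfl, map_inv]; group }
  choose kt ks hks using fun g : ↥K => g.2
  have huniq : ∀ {t t' : Fin 2 → ZMod p} {s s' : ↥T}, val (ι t) * e s = val (ι t') * e s' →
      t = t' ∧ ψT s = ψT s' := by
    intro t t' s s' h
    have h' : e (s * s'⁻¹) = val (ι (t' - t)) := by
      rw [map_mul, map_inv, map_sub, vsub]
      have h'' : e s * (e s')⁻¹ = (val (ι t))⁻¹ * val (ι t') := by
        rw [eq_inv_mul_iff_mul_eq, ← mul_assoc, h, mul_inv_cancel_right]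
      rw [h'']
      exact hab _ ((Subgroup.inv_mem_iff _).2 (vW _)) _ (vW _)
    have ht := hdisj _ _ h'
    refine ⟨(sub_eq_zero.1 ht).symm, uniq fun u => hval ?_⟩
    rw [ht, map_zero, vzero, ← map_one e] at h'
    rw [← hψe, ← hψe, mul_inv_eq_one.1 (he h')]
  have hd : ∀ M : SpecialLinearGroup (Fin 2) (ZMod p), M.1 0 0 * M.1 1 1 - M.1 0 1 * M.1 1 0 = 1 := fun M => by
    rw [← Matrix.det_fin_two, M.2]
  let q : (Fin 2 → ZMod p) → SpecialLinearGroup (Fin 2) (ZMod p) → ↥(Cfsg.qd p) := fun t M =>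
    CfsgLib.Fus.Qd.mk (M.1 0 0) (M.1 0 1) (M.1 1 0) (M.1 1 1) (t 0) (t 1) (hd M)
  let f : ↥K →* ↥(Cfsg.qd p) :=
    { toFun := fun g => q (kt g) (ψT (ks g))
      map_one' := by
        obtain ⟨e1, e2⟩ := huniq (t := kt 1) (s := ks 1) (t' := 0) (s' := 1)
          (by rw [← hks, map_zero, vzero, map_one, one_mul]; rfl)
        rw [e1, e2, map_one, ← CfsgLib.Fus.Qd.mk_one]
        exact CfsgLib.Fus.Qd.mk_congr (by simp) (by simp) (by simp) (by simp) rfl rfl
      map_mul' := fun g g' => by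
        obtain ⟨e1, e2⟩ := huniq (t := kt (g * g')) (s := ks (g * g')) (t' := kt g + (ψT (ks g)).1 *ᵥ kt g')
          (s' := ks g * ks g') (by
            rw [← hks, map_add, vadd, map_mul, ← hψe, Subgroup.coe_mul, hks g, hks g']; group)
        rw [e1, e2, map_mul]
        simp only [q, CfsgLib.Fus.Qd.mk_mul]
        refine CfsgLib.Fus.Qd.mk_congr ?_ ?_ ?_ ?_ ?_ ?_ <;>
          simp [Matrix.mul_apply, mulVec, dotProduct, Fin.sum_univ_two] <;> ring }
  refine ⟨K, f, fun M => ?_⟩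
  obtain ⟨a', b', c', d', t0, t1, hdet, rfl⟩ := CfsgLib.Fus.Qd.eq_mk M
  obtain ⟨s, hs⟩ := hψT (mk a' b' c' d' hdet)
  refine ⟨⟨val (ι ![t0, t1]) * e s, _, s, rfl⟩, ?_⟩
  obtain ⟨e1, e2⟩ := huniq (hks ⟨val (ι ![t0, t1]) * e s, _, s, rfl⟩).symm
  show q _ _ = _
  rw [e1, e2, hs]
  exact CfsgLib.Fus.Qd.mk_congr rfl rfl rfl rfl rfl rfl

end CfsgLib.Dickson
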