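import Cfsg.Agent.Fus.StabInduction
import Cfsg.Agent.Fus.ThompsonCentre
import Cfsg.Agent.Fus.AutomizerComplement
import Cfsg.Agent.Inv.ZJApp

/-!
Criteria for a saturated fusion system to be inner, from normal p-complement criteria in the models.
-/

set_option autoImplicit false
set_option linter.style.haveILetI false

open Cfsg Cfsg.FusionSystem

namespace CfsgLib.Fus

universe u

variable {Ω : Type u} [Group Ω] {S : Subgroup Ω} {F : FusionSystem S} {p : ℕ}

theorem normalizerIn_le_charIn {R Y : Subgroup Ω} (h : AutComp.CharIn R Y) :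
    normalizerIn S R ≤ normalizerIn S Y := by
  intro a ha
  let e : ↥R ≃* ↥R :=
    { toFun := fun x => ⟨a * x * a⁻¹, conj_mem_of_normalizer ha.2 x.2⟩
      invFun := fun x => ⟨a⁻¹ * x * a, conj_mem_of_normalizer' ha.2 x.2⟩
      left_inv := fun x => Subtype.ext (by simp [mul_assoc])
      right_inv := fun x => Subtype.ext (by simp [mul_assoc])
      map_mul' := fun x y => Subtype.ext (by simp [mul_assoc]) }
  exact ⟨ha.1, mem_normalizer_of_conj (fun y hy => h.2 e ⟨y, h.1 hy⟩ hy) fun y hy => h.2 e.symm ⟨y, h.1 hy⟩ hy⟩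

theorem normalizerIn_charIn_self {Y : Subgroup Ω} (h : AutComp.CharIn S Y) : normalizerIn S Y = S :=
  le_antisymm (normalizerIn_le Y) ((le_normalizerIn le_rfl).trans (normalizerIn_le_charIn h))

/-- A characteristic subgroup of the Sylow subgroup of a model, read in `S`. -/
theorem charIn_comap {R : Subgroup Ω} {L : Type*} [Group L] (ι : ↥R →* L) (hinj : Function.Injective ι)
    {Q : Subgroup L} (hQ : AutComp.CharIn ι.range Q) : AutComp.CharIn R ((Q.comap ι).map R.subtype) := by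
  refine ⟨Subgroup.map_subtype_le _, fun e x hx => ?_⟩
  obtain ⟨y, hy, hyx⟩ := hx
  obtain rfl : y = x := Subtype.ext hyx
  let i := MonoidHom.ofInjective hinj
  refine ⟨e y, ?_, rfl⟩
  show ι (e y) ∈ Q
  have h := hQ.2 ((i.symm.trans e).trans i) (i y) hy
  simp only [MulEquiv.trans_apply, MulEquiv.symm_apply_apply] at h
  exact h

/-- The model map on `X ⊔ Y` of an element normalizing the image of `Y`. -/
theorem exists_char_map [Finite S] {X Y : Subgroup Ω} {L : Type*} [Group L] {ι : ↥(normalizerIn S X) →* L}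
    {N : FusionSystem (normalizerIn S X)} (hN : F.IsNormalizerSystem X N) (hι : N.IsRealizedBy ι)
    (θ : L →* ↥(F.autGroup X))
    (hconj : ∀ (l : L) (q : ↥(normalizerIn S X)) (_ : (q : Ω) ∈ X), ∃ q' : ↥(normalizerIn S X),
      (q' : Ω) = autFun (θ l : MulAut X) q ∧ l * ι q * l⁻¹ = ι q')
    (hXS : X ≤ S) (hY : Y ≤ normalizerIn S X) {l : L}
    (hl : ∀ y : ↥(normalizerIn S X), (y : Ω) ∈ Y → ∃ y' : ↥(normalizerIn S X), (y' : Ω) ∈ Y ∧ l * ι y * l⁻¹ = ι y') :
    ∃ f, IsMap F (X ⊔ Y) f ∧ img f Y = Y ∧ (∀ x ∈ X, f x = autFun (θ l : MulAut X) x) ∧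
      ∀ r r' : ↥(normalizerIn S X), (r : Ω) ∈ Y → l * ι r * l⁻¹ = ι r' → f r = r' := by
  have hXR : X ≤ normalizerIn S X := le_normalizerIn hXS
  have hMR : X ⊔ Y ≤ normalizerIn S X := sup_le hXR hY
  have hmem : ∀ r : ↥(normalizerIn S X), (r : Ω) ∈ X ⊔ Y → l * ι r * l⁻¹ ∈ ι.range := by
    intro r hr
    have hle : X ⊔ Y ≤ (ι.range.comap ((MulAut.conj l).toMonoidHom.comp ι)).map (normalizerIn S X).subtype := by
      refine sup_le (fun x hx => ⟨⟨x, hXR hx⟩, ?_, rfl⟩) fun y hy => ⟨⟨y, hY hy⟩, ?_, rfl⟩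
      · obtain ⟨q', -, hq'⟩ := hconj l ⟨x, hXR hx⟩ hx
        exact ⟨q', hq'.symm⟩
      · obtain ⟨y', -, hy'⟩ := hl ⟨y, hY hy⟩ hy
        exact ⟨y', hy'.symm⟩
    obtain ⟨r', hr', hrr⟩ := hle hr
    rw [Subgroup.coe_subtype] at hrr
    exact Subtype.ext hrr ▸ hr'
  obtain ⟨f, hf, hfe⟩ := exists_model_map hN hι hMR hmem
  refine ⟨f, hf, ?_, fun x hx => ?_, fun r r' hr he => hfe r (Subgroup.mem_sup_right hr) r' he⟩
  · haveI := finite_of_le (hY.trans (normalizerIn_le X))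
    refine Subgroup.eq_of_le_of_card_ge (img_le_iff.2 fun y hy => ?_) (hf.mono le_sup_right).card_img.ge
    obtain ⟨y', hy'Y, hy'⟩ := hl ⟨y, hY hy⟩ hy
    rw [hfe ⟨y, hY hy⟩ (Subgroup.mem_sup_right hy) y' hy']
    exact hy'Y
  · obtain ⟨q', hq'c, hq'⟩ := hconj l ⟨x, hXR hx⟩ hx
    rw [← hq'c]
    exact hfe ⟨x, hXR hx⟩ (Subgroup.mem_sup_left hx) q' hq'

/-- A map of the model agreeing with an inner one comes from an element of order prime to `p` only trivially. -/
theorem eq_one_of_inner [Finite S] [Fact p.Prime] (hS : IsPGroup p S) {X : Subgroup Ω} {L : Type*} [Group L]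
    [Finite L] {ι : ↥(normalizerIn S X) →* L} {θ : L →* ↥(F.autGroup X)}
    (hθι : ∀ (r : ↥(normalizerIn S X)) (x : Ω), x ∈ X → autFun (θ (ι r) : MulAut X) x = (r : Ω) * x * (r : Ω)⁻¹)
    (hker : θ.ker = ((Zc X).subgroupOf (normalizerIn S X)).map ι) (hXS : X ≤ S) {l : L}
    (hco : (orderOf l).Coprime p) {s : Ω} (hs : s ∈ S) (h : ∀ x ∈ X, autFun (θ l : MulAut X) x = s * x * s⁻¹) :
    l = 1 := by
  haveI := finite_of_le hXS
  have hsX : s ∈ normalizerIn S X := by
    refine ⟨hs, Subgroup.mem_normalizer_fintype fun x hx => ?_⟩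
    rw [← h x hx]
    exact autFun_mem _ hx
  have heq : θ l = θ (ι ⟨s, hsX⟩) := Subtype.ext (aut_ext fun x hx => by rw [h x hx, hθι ⟨s, hsX⟩ x hx])
  obtain ⟨k, hk⟩ := (hS.to_le (normalizerIn_le X)) ⟨s, hsX⟩
  have h1 : θ l ^ p ^ k = 1 := by rw [heq, ← map_pow, ← map_pow, hk, map_one, map_one]
  have h2 : θ l = 1 := by
    rw [← orderOf_eq_one_iff]
    exact Nat.eq_one_of_dvd_coprimes (hco.pow_right k) (orderOf_map_dvd θ l) (orderOf_dvd_of_pow_eq_one h1)
  have h3 : l ∈ ι.range := by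
    have h4 : l ∈ θ.ker := h2
    rw [hker] at h4
    exact Subgroup.map_le_range ι _ h4
  obtain ⟨r, rfl⟩ := h3
  obtain ⟨j, hj⟩ := (hS.to_le (normalizerIn_le X)) r
  rw [← orderOf_eq_one_iff]
  exact Nat.eq_one_of_dvd_coprimes (hco.pow_right j) dvd_rfl
    (orderOf_dvd_of_pow_eq_one (by rw [← map_pow, hj, map_one]))

/-- An element of order prime to `p` normalizing the image of `Y` centralizes it when `Aut_F(Y)` is a `p`-group. -/
theorem centralize_of_autP [Finite S] [Fact p.Prime] {X Y : Subgroup Ω} {L : Type*} [Group L]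
    {ι : ↥(normalizerIn S X) →* L} (hY : Y ≤ normalizerIn S X) (hp' : IsPGroup p (F.autGroup Y)) {M : Subgroup Ω}
    {f : Ω → Ω} (hf : IsMap F M f) (hYM : Y ≤ M) (hfY : img f Y = Y) {l : L} (hco : (orderOf l).Coprime p)
    (hfe : ∀ r r' : ↥(normalizerIn S X), (r : Ω) ∈ Y → l * ι r * l⁻¹ = ι r' → f r = r')
    (hl : ∀ y : ↥(normalizerIn S X), (y : Ω) ∈ Y → ∃ y' : ↥(normalizerIn S X), (y' : Ω) ∈ Y ∧ l * ι y * l⁻¹ = ι y') :
    ∀ y : ↥(normalizerIn S X), (y : Ω) ∈ Y → l * ι y = ι y * l := by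
  obtain ⟨β, hβA, hβ⟩ := exists_aut (hf.mono hYM) hfY
  have hit : ∀ (k : ℕ) (y : ↥(normalizerIn S X)) (hy : (y : Ω) ∈ Y),
      l ^ k * ι y * (l ^ k)⁻¹ = ι ⟨autFun (β ^ k) (y : Ω), hY (autFun_mem _ hy)⟩ := by
    intro k
    induction k with
    | zero => intro y hy; simp [autFun_one hy]
    | succ k ih =>
      intro y hy
      obtain ⟨y', hy'Y, hy'⟩ := hl y hy
      calc l ^ (k + 1) * ι y * (l ^ (k + 1))⁻¹ = l ^ k * (l * ι y * l⁻¹) * (l ^ k)⁻¹ := by rw [pow_succ]; group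
        _ = _ := by
          rw [hy', ih y' hy'Y]
          congr 1
          refine Subtype.ext ?_
          show autFun (β ^ k) (y' : Ω) = autFun (β ^ (k + 1)) (y : Ω)
          rw [pow_succ, autFun_mul _ _ hy, hβ _ hy, hfe y y' hy hy']
  obtain ⟨k, hk⟩ := hp' ⟨β, hβA⟩
  have hk' : β ^ p ^ k = 1 := congrArg Subtype.val hk
  intro y hy
  have h1 : l ^ p ^ k * ι y * (l ^ p ^ k)⁻¹ = ι y := by
    rw [hit _ y hy]
    exact congrArg ι (Subtype.ext (by rw [hk']; exact autFun_one hy))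
  obtain ⟨m, hm⟩ : ∃ m : ℤ, (l ^ p ^ k) ^ m = l := by
    refine ⟨Nat.gcdA (p ^ k) (orderOf l), ?_⟩
    have hc : Nat.gcd (p ^ k) (orderOf l) = 1 := (hco.symm.pow_left k)
    have h2 := Nat.gcd_eq_gcd_ab (p ^ k) (orderOf l)
    rw [hc, Nat.cast_one] at h2
    rw [← zpow_natCast, ← zpow_mul, eq_sub_of_add_eq h2.symm, zpow_sub, zpow_one, zpow_mul, zpow_natCast,
      pow_orderOf_eq_one, one_zpow, inv_one, mul_one]
  have h3 : Commute (l ^ p ^ k) (ι y) := mul_inv_eq_iff_eq_mul.1 h1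
  have h4 := h3.zpow_left m
  rw [hm] at h4
  exact h4.eq

/-- A saturated system is inner when, in each model, either the automizers of the characteristic subgroups of `N_S(X)` are `p`-groups
or some criterion gives a normal `p`-complement. -/
theorem eq_inner_of_models [Finite S] [Fact p.Prime] (hS : IsPGroup p S) (hF : F.IsSaturated p)
    (hp : p ≠ 2 ∨ F.IsSectionFree p (Equiv.Perm (Fin 4)))
    (top : ∀ X : Subgroup Ω, F.IsFullyNormalized X → F.IsCentric X → normalizerIn S X = S →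
      ∀ (L : Type u) [Group L] [Finite L] (ι : ↥(normalizerIn S X) →* L) (θ : L →* ↥(F.autGroup X))
        (N : FusionSystem (normalizerIn S X)) (T : Sylow p L), F.IsNormalizerSystem X N → N.IsRealizedBy ι →
        (∀ (l : L) (q : ↥(normalizerIn S X)) (_ : (q : Ω) ∈ X), ∃ q' : ↥(normalizerIn S X),
          (q' : Ω) = autFun (θ l : MulAut X) q ∧ l * ι q * l⁻¹ = ι q') →
        (∀ (r : ↥(normalizerIn S X)) (x : Ω), x ∈ X → autFun (θ (ι r) : MulAut X) x = (r : Ω) * x * (r : Ω)⁻¹) →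
        θ.ker = ((Zc X).subgroupOf (normalizerIn S X)).map ι → (T : Subgroup L) = ι.range →
        (p ≠ 2 ∨ ¬ Involves (Equiv.Perm (Fin 4)) L) → HasNormalPComplement p L) :
    F = innerFusionSystem S := by
  refine eq_inner hS hF (autP_induction hS hF fun X hXn hXc prior => ?_)
  obtain ⟨L, _, _, ι, θ, hmodel, hθs, hθι, hker, hconj⟩ := exists_model_aut hS hF hXn hXc
  have hXS := hXn.1
  obtain ⟨N, hN⟩ := exists_normalizerSystem F hXS
  obtain ⟨-, hι, ⟨T, hT⟩, hC⟩ := hmodel N hN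
  have hS4 : p ≠ 2 ∨ ¬ Involves (Equiv.Perm (Fin 4)) L :=
    hp.imp_right fun hfree => hfree X hXn hXc N hN L ι (hmodel N hN)
  suffices hL : HasNormalPComplement p L by
    have hLp : IsPGroup p (⊤ : Subgroup L) := CfsgLib.Solv.isPGroup_of_forall_coprime fun l _ hco => by
      have hl := CfsgLib.Solv.mem_centralizer_of_hnpc hL (CfsgLib.Solv.pCore_isPGroup L p) (g := l)
        (by haveI := CfsgLib.Solv.pCore_normal L p; rw [Subgroup.normalizer_eq_top]; trivial) hco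
      exact CfsgLib.Solv.eq_one_of_isPGroup_coprime (CfsgLib.Solv.pCore_isPGroup L p) (hC hl) hco
    exact (hLp.of_equiv Subgroup.topEquiv).of_surjective θ hθs
  by_cases hRS : normalizerIn S X = S
  · exact top X hXn hXc hRS L ι θ N T hN hι hconj hθι hker hT hS4
  refine AutComp.hnpc_of_charAut hS4 T fun Q hQ _ l hl hco => ?_
  rw [hT] at hQ
  set Y := (Q.comap ι).map (normalizerIn S X).subtype with hY
  have hYc : AutComp.CharIn (normalizerIn S X) Y := charIn_comap ι hι.1 hQ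
  have hYR : Y ≤ normalizerIn S X := Subgroup.map_subtype_le _
  have hlY : ∀ y : ↥(normalizerIn S X), (y : Ω) ∈ Y →
      ∃ y' : ↥(normalizerIn S X), (y' : Ω) ∈ Y ∧ l * ι y * l⁻¹ = ι y' := by
    rintro y ⟨y₀, hy₀, he⟩
    obtain rfl : y₀ = y := Subtype.ext he
    obtain ⟨y', hy'⟩ := hQ.1 ((Subgroup.mem_normalizer_iff.1 hl _).1 hy₀)
    exact ⟨y', ⟨y', (show ι y' ∈ Q from hy'.symm ▸ (Subgroup.mem_normalizer_iff.1 hl _).1 hy₀), rfl⟩, hy'.symm⟩
  obtain ⟨f, hf, hfY, -, hfe⟩ := exists_char_map hN hι θ hconj hXS hYR hlY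
  have hprior := prior Y (hYR.trans (normalizerIn_le X)) (prior_of_normalizer hS hRS (normalizerIn_le_charIn hYc))
  refine Subgroup.mem_centralizer_iff.2 fun q hq => ?_
  obtain ⟨y, rfl⟩ := hQ.1 hq
  exact (centralize_of_autP hYR hprior hf le_sup_right hfY hco hfe hlY y ⟨y, hq, rfl⟩).symm

/-- Characteristic subgroups with `p`-groups of automorphisms give an inner system. -/
theorem eq_inner_of_charAut [Finite S] [Fact p.Prime] (hS : IsPGroup p S) (hF : F.IsSaturated p)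
    (hp : p ≠ 2 ∨ F.IsSectionFree p (Equiv.Perm (Fin 4)))
    (h : ∀ Q : Subgroup Ω, AutComp.CharIn S Q → Q ≠ ⊥ → IsPGroup p (F.autGroup Q)) : F = innerFusionSystem S := by
  refine eq_inner_of_models hS hF hp ?_
  intro X hXn hXc hRS L _ _ ι θ N T hN hι hconj hθι hker hT hS4
  refine AutComp.hnpc_of_charAut hS4 T fun Q hQ hne l hl hco => ?_
  rw [hT] at hQ
  set Y := (Q.comap ι).map (normalizerIn S X).subtype with hY
  have hYc : AutComp.CharIn (normalizerIn S X) Y := charIn_comap ι hι.1 hQ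
  have hYR : Y ≤ normalizerIn S X := Subgroup.map_subtype_le _
  have hYne : Y ≠ ⊥ := fun hb => hne (by
    rw [eq_bot_iff]
    intro q hq
    obtain ⟨y, rfl⟩ := hQ.1 hq
    have hy : (y : Ω) ∈ Y := ⟨y, hq, rfl⟩
    rw [hb, Subgroup.mem_bot] at hy
    rw [show y = 1 from Subtype.ext hy, map_one]
    exact one_mem _)
  have hlY : ∀ y : ↥(normalizerIn S X), (y : Ω) ∈ Y →
      ∃ y' : ↥(normalizerIn S X), (y' : Ω) ∈ Y ∧ l * ι y * l⁻¹ = ι y' := by
    rintro y ⟨y₀, hy₀, he⟩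
    obtain rfl : y₀ = y := Subtype.ext he
    obtain ⟨y', hy'⟩ := hQ.1 ((Subgroup.mem_normalizer_iff.1 hl _).1 hy₀)
    exact ⟨y', ⟨y', (show ι y' ∈ Q from hy'.symm ▸ (Subgroup.mem_normalizer_iff.1 hl _).1 hy₀), rfl⟩, hy'.symm⟩
  obtain ⟨f, hf, hfY, -, hfe⟩ := exists_char_map hN hι θ hconj hXn.1 hYR hlY
  refine Subgroup.mem_centralizer_iff.2 fun q hq => ?_
  obtain ⟨y, rfl⟩ := hQ.1 hq
  refine (centralize_of_autP hYR (h Y ?_ hYne) hf le_sup_right hfY hco hfe hlY y ⟨y, hq, rfl⟩).symm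
  rwa [hRS] at hYc

/-- The normalizer of a characteristic subgroup of the Sylow subgroup of a top model has a normal `p`-complement if its stabilizer
in the system is inner. -/
theorem hnpc_normalizer_of_inner [Finite S] [Fact p.Prime] (hS : IsPGroup p S) {X : Subgroup Ω} (hXn : F.IsFullyNormalized X)
    (hRS : normalizerIn S X = S) {L : Type*} [Group L] [Finite L] {ι : ↥(normalizerIn S X) →* L}
    {θ : L →* ↥(F.autGroup X)} {N : FusionSystem (normalizerIn S X)} {T : Sylow p L}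
    (hN : F.IsNormalizerSystem X N) (hι : N.IsRealizedBy ι)
    (hconj : ∀ (l : L) (q : ↥(normalizerIn S X)) (_ : (q : Ω) ∈ X), ∃ q' : ↥(normalizerIn S X),
      (q' : Ω) = autFun (θ l : MulAut X) q ∧ l * ι q * l⁻¹ = ι q')
    (hθι : ∀ (r : ↥(normalizerIn S X)) (x : Ω), x ∈ X → autFun (θ (ι r) : MulAut X) x = (r : Ω) * x * (r : Ω)⁻¹)
    (hker : θ.ker = ((Zc X).subgroupOf (normalizerIn S X)).map ι) (hT : (T : Subgroup L) = ι.range) {Q : Subgroup L}
    (hQT : Q ≤ (T : Subgroup L))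
    (hinner : ∀ f, IsMap F (X ⊔ (Q.comap ι).map (normalizerIn S X).subtype) f →
      img f ((Q.comap ι).map (normalizerIn S X).subtype) = (Q.comap ι).map (normalizerIn S X).subtype →
      ∃ s ∈ S, ∀ x ∈ X, f x = s * x * s⁻¹) :
    HasNormalPComplement p ↥(Subgroup.normalizer (Q : Set L)) := by
  refine CfsgLib.Solv.hnpc_of_isPGroup (CfsgLib.Solv.isPGroup_of_forall_coprime fun l hl hco => ?_)
  rw [hT] at hQT
  have hlY : ∀ y : ↥(normalizerIn S X), (y : Ω) ∈ (Q.comap ι).map (normalizerIn S X).subtype →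
      ∃ y' : ↥(normalizerIn S X), (y' : Ω) ∈ (Q.comap ι).map (normalizerIn S X).subtype ∧ l * ι y * l⁻¹ = ι y' := by
    rintro y ⟨y₀, hy₀, he⟩
    obtain rfl : y₀ = y := Subtype.ext he
    obtain ⟨y', hy'⟩ := hQT ((Subgroup.mem_normalizer_iff.1 hl _).1 hy₀)
    exact ⟨y', ⟨y', (show ι y' ∈ Q from hy'.symm ▸ (Subgroup.mem_normalizer_iff.1 hl _).1 hy₀), rfl⟩, hy'.symm⟩
  obtain ⟨f, hf, hfY, hfX, -⟩ := exists_char_map hN hι θ hconj hXn.1 (Subgroup.map_subtype_le _) hlY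
  obtain ⟨s, hs, hse⟩ := hinner f hf hfY
  exact eq_one_of_inner hS hθι hker hXn.1 hco hs fun x hx => (hfX x hx).symm.trans (hse x hx)

/-- Reading back the Thompson subgroup of the Sylow subgroup of a top model. -/
theorem comap_thompsonA {R : Subgroup Ω} {L : Type*} [Group L] (ι : ↥R →* L) (hinj : Function.Injective ι) :
    ((thompsonSubgroupAOf ι.range).comap ι).map R.subtype = thompsonSubgroupAOf R := by
  have h := thompsonA_map (MonoidHom.ofInjective hinj)
  show _ = (thompsonSubgroupA ↥R).map R.subtype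
  congr 1
  ext x
  constructor
  · rintro ⟨y, hy, hyx⟩
    obtain ⟨x', hx', rfl⟩ := h.ge hy
    have : x' = x := hinj hyx
    exact this ▸ hx'
  · intro hx
    exact ⟨_, h.le ⟨x, hx, rfl⟩, rfl⟩

theorem comap_centerThompsonA {R : Subgroup Ω} {L : Type*} [Group L] (ι : ↥R →* L) (hinj : Function.Injective ι) :
    ((centerThompsonAOf ι.range).comap ι).map R.subtype = centerThompsonAOf R := by
  have h := comap_thompsonA ι hinj
  have hJR : thompsonSubgroupAOf R ≤ R := Subgroup.map_subtype_le _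
  have hJT : thompsonSubgroupAOf ι.range ≤ ι.range := Subgroup.map_subtype_le _
  have hmem : ∀ r : ↥R, ι r ∈ thompsonSubgroupAOf ι.range ↔ (r : Ω) ∈ thompsonSubgroupAOf R := fun r => by
    rw [← h]
    exact ⟨fun hr => ⟨r, hr, rfl⟩, fun ⟨r', hr', he⟩ => Subtype.ext he ▸ hr'⟩
  ext x
  constructor
  · rintro ⟨r, ⟨h1, h2⟩, rfl⟩
    refine ⟨(hmem r).1 h1, fun y hy => ?_⟩
    have h3 := h2 (ι ⟨y, hJR hy⟩) ((hmem _).2 hy)
    rw [← map_mul, ← map_mul] at h3
    exact congrArg Subtype.val (hinj h3)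
  · rintro ⟨h1, h2⟩
    refine ⟨⟨x, hJR h1⟩, ⟨(hmem _).2 h1, fun q hq => ?_⟩, rfl⟩
    obtain ⟨r, rfl⟩ := hJT hq
    rw [← map_mul, ← map_mul]
    exact congrArg ι (Subtype.ext (h2 r ((hmem r).1 hq)))

/-- An inner normalizer system makes the stabilizing maps inner. -/
theorem inner_of_normalizer {W : Subgroup Ω} (hWS : W ≤ S) (hW : normalizerIn S W = S)
    (hN : ∀ N : FusionSystem (normalizerIn S W), F.IsNormalizerSystem W N →
      ∀ P : Subgroup Ω, N.Hom P = (innerFusionSystem (normalizerIn S W)).Hom P)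
    {P : Subgroup Ω} {f : Ω → Ω} (hf : IsMap F P f) (hWP : W ≤ P) (hfW : img f W = W) :
    ∃ s ∈ S, ∀ x ∈ P, f x = s * x * s⁻¹ := by
  obtain ⟨N, hNs⟩ := exists_normalizerSystem F hWS
  obtain ⟨φ, hφ, hφf⟩ := isMap_normalizerSystem hNs hf hWP hfW (by rw [hW]; exact hf.le)
  rw [hN N hNs] at hφ
  obtain ⟨-, s, hs, h⟩ := isMap_inner_iff.1 (⟨φ, hφ, hφf⟩ : IsMap (innerFusionSystem (normalizerIn S W)) P f)
  exact ⟨s, normalizerIn_le W hs, h⟩

/-- Thompson's criterion. -/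
theorem eq_inner_of_thompson [Finite S] [Fact p.Prime] (hS : IsPGroup p S) (hF : F.IsSaturated p)
    (hp : p ≠ 2 ∨ F.IsSectionFree p (Equiv.Perm (Fin 4)))
    (hC : ∀ C : FusionSystem (centralizerIn S (S ⊓ Subgroup.centralizer (S : Set Ω))),
      F.IsCentralizerSystem (S ⊓ Subgroup.centralizer (S : Set Ω)) C → ∀ P : Subgroup Ω,
        C.Hom P = (innerFusionSystem (centralizerIn S (S ⊓ Subgroup.centralizer (S : Set Ω)))).Hom P)
    (hN : ∀ N : FusionSystem (normalizerIn S (thompsonSubgroupAOf S)), F.IsNormalizerSystem (thompsonSubgroupAOf S) N →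
      ∀ P : Subgroup Ω, N.Hom P = (innerFusionSystem (normalizerIn S (thompsonSubgroupAOf S))).Hom P) :
    F = innerFusionSystem S := by
  refine eq_inner_of_models hS hF hp ?_
  intro X hXn hXc hRS L _ _ ι θ N T hNs hι hconj hθι hker hT hS4
  refine CfsgLib.Inv.ZJ.hnpc_of_hypA hS4 T ⟨?_, ?_⟩
  · rw [← CfsgLib.Inv.ZJ.thompsonSubgroupAOf_eq]
    refine hnpc_normalizer_of_inner hS hXn hRS hNs hι hconj hθι hker hT (Subgroup.map_subtype_le _) fun f hf hfY => ?_
    rw [hT, comap_thompsonA ι hι.1, hRS] at hfY hf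
    obtain ⟨s, hs, h⟩ := inner_of_normalizer (thompsonAOf_le S) normalizerIn_thompsonA_self hN hf le_sup_right hfY
    exact ⟨s, hs, fun x hx => h x (Subgroup.mem_sup_left hx)⟩
  · refine CfsgLib.Solv.hnpc_of_isPGroup (CfsgLib.Solv.isPGroup_of_forall_coprime fun l hl hco => ?_)
    obtain ⟨C, hCs⟩ := exists_centralizerSystem F (inf_le_left : S ⊓ Subgroup.centralizer (S : Set Ω) ≤ S)
    have hfix : ∀ z ∈ Zc S, autFun (θ l : MulAut X) z = z := by
      intro z hz
      have hzX : z ∈ X := Zc_le_centric hXc hz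
      set zR : ↥(normalizerIn S X) := ⟨z, le_normalizerIn hXn.1 hzX⟩ with hzR
      have hzT : ι zR ∈ CfsgLib.Solv.zOf (T : Subgroup L) := by
        refine ⟨hT ▸ ⟨_, rfl⟩, fun t ht => ?_⟩
        obtain ⟨r, rfl⟩ : t ∈ ι.range := hT ▸ ht
        rw [← map_mul, ← map_mul]
        exact congrArg ι (Subtype.ext (Zc_comm hz (normalizerIn_le X r.2)))
      obtain ⟨q', hq'c, hq'⟩ := hconj l zR hzX
      have h := Subgroup.mem_centralizer_iff.1 hl _ hzT
      rw [← h, mul_inv_cancel_right] at hq'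
      rw [← hq'c, ← hι.1 hq']
    have hα : IsMap F X (autFun (θ l : MulAut X)) := (mem_autGroup hXn.1).1 (θ l).2
    obtain ⟨φ, hφ, hφf⟩ := isMap_centralizerSystem hCs hα (Zc_le_centric hXc) hfix
      fun x hx => ⟨hXn.1 hx, fun z hz => (Zc_comm hz (hXn.1 hx)).symm⟩
    rw [hC C hCs] at hφ
    obtain ⟨-, s, hs, h⟩ := isMap_inner_iff.1
      (⟨φ, hφ, hφf⟩ : IsMap (innerFusionSystem (centralizerIn S (Zc S))) X (autFun (θ l : MulAut X)))
    exact eq_one_of_inner hS hθι hker hXn.1 hco hs.1 h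

/-- The Glauberman-Thompson criterion. -/
theorem eq_inner_of_centerThompson [Finite S] [Fact p.Prime] (hS : IsPGroup p S) (hF : F.IsSaturated p) (hp : p ≠ 2)
    (hW : normalizerIn S (centerThompsonAOf S) = S)
    (hN : ∀ N : FusionSystem (normalizerIn S (centerThompsonAOf S)), F.IsNormalizerSystem (centerThompsonAOf S) N →
      ∀ P : Subgroup Ω, N.Hom P = (innerFusionSystem (normalizerIn S (centerThompsonAOf S))).Hom P) :
    F = innerFusionSystem S := by
  refine eq_inner_of_models hS hF (Or.inl hp) ?_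
  intro X hXn hXc hRS L _ _ ι θ N T hNs hι hconj hθι hker hT hS4
  refine CfsgLib.Inv.ZJ.hnpc_of_zJ hp (Or.inl rfl) L T _ (CfsgLib.Inv.ZJ.stronglyClosed_self _) ?_
  rw [← CfsgLib.Inv.ZJ.centerThompsonAOf_eq]
  refine hnpc_normalizer_of_inner hS hXn hRS hNs hι hconj hθι hker hT
    (inf_le_left.trans (Subgroup.map_subtype_le _)) fun f hf hfY => ?_
  rw [hT, comap_centerThompsonA ι hι.1, hRS] at hfY hf
  obtain ⟨s, hs, h⟩ := inner_of_normalizer (inf_le_left.trans (thompsonAOf_le S)) hW hN hf le_sup_right hfY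
  exact ⟨s, hs, fun x hx => h x (Subgroup.mem_sup_left hx)⟩

/-- The centre of the Thompson subgroup is characteristic. -/
theorem centerThompson_charIn [Finite S] : normalizerIn S (centerThompsonAOf S) = S := by
  refine le_antisymm (normalizerIn_le _) fun a ha => ⟨ha, ?_⟩
  have h : a ∈ normalizerIn S (thompsonSubgroupAOf S) := normalizerIn_thompsonA_self.ge ha
  exact Subgroup.inf_normalizer_le_normalizer_inf ⟨h.2, CfsgLib.Glau.centralizer_normalizer h.2⟩

/-- An inner system has inner normalizer systems at normal subgroups. -/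
theorem normalizer_inner {W : Subgroup Ω} (hW : normalizerIn S W = S) (hF : F = innerFusionSystem S)
    {N : FusionSystem (normalizerIn S W)} (hN : F.IsNormalizerSystem W N) :
    N = innerFusionSystem (normalizerIn S W) := by
  refine eq_of_le_le (le_iff.2 fun P f hf => ?_) inner_le
  obtain ⟨hfF, hP, -⟩ := isMap_of_normalizerSystem hN hf
  rw [hF] at hfF
  obtain ⟨-, g, hg, h⟩ := isMap_inner_iff.1 hfF
  exact isMap_inner_iff.2 ⟨hP, g, hW.ge hg, h⟩

end CfsgLib.Fus
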