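import Cfsg.Agent.Fus.ConstrainedSubsystem
import Cfsg.Agent.Fus.InnerCriteria

/-!
The maps acting on a normal subgroup `C₀` as elements of `S`, and the splitting of every map into such a map and one stabilizing
`C₀ C_S(C₀)`; sparse systems are constrained.
-/

set_option autoImplicit false
set_option linter.style.haveILetI false

open Cfsg Cfsg.FusionSystem

namespace CfsgLib.Fus

universe u

variable {Ω : Type u} [Group Ω] {S : Subgroup Ω} {F : FusionSystem S} {p : ℕ}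

/-- The system of maps acting on a normal subgroup as elements of `S`. -/
theorem exists_acting_system [Finite S] [Fact p.Prime] (hS : IsPGroup p S) (hF : F.IsSaturated p) {C₀ : Subgroup Ω}
    (hC₀ : F.IsNormal C₀) : ∃ B : FusionSystem S, B.IsSaturated p ∧ ∀ P f, IsMap B P f ↔ IsMap F P f ∧
      ∃ g, IsMap F (P ⊔ C₀) g ∧ (∀ x ∈ P, g x = f x) ∧ ∃ s ∈ S, ∀ x ∈ C₀, g x = s * x * s⁻¹ := by
  have hC₀S := hC₀.1
  haveI := finite_of_le hC₀S
  haveI := finite_mulAut (S := S) hC₀S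
  have conj_mem : ∀ a ∈ S, ∀ x ∈ C₀, a * x * a⁻¹ ∈ C₀ := fun a ha x hx => by
    obtain ⟨g, -, hge, hgC⟩ := (isNormal_iff.1 hC₀).2 C₀ _ (IsMap.conj F hC₀S ha)
    exact ((img_congr fun y hy => (hge y hy).symm).trans hgC).le (mem_img_of_mem hx)
  have hnormC : ∀ t ∈ S, t ∈ Subgroup.normalizer (C₀ : Set Ω) := fun t ht =>
    mem_normalizer_of_conj (conj_mem t ht) fun y hy => by simpa using conj_mem t⁻¹ (S.inv_mem ht) y hy
  have hNC : normalizerIn S C₀ = S := le_antisymm (normalizerIn_le _) fun a ha => ⟨ha, hnormC a ha⟩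
  have hC₀fn : F.IsFullyNormalized C₀ := ⟨hC₀S, fun R _ => hNC.symm ▸ Subgroup.card_le_of_le (normalizerIn_le R)⟩
  have hB : ExtCond F C₀ S (fun u => ∃ s ∈ S, ∀ x ∈ C₀, u x = s * x * s⁻¹) :=
    { conj := fun a ha => ⟨a, ha, fun x _ => rfl⟩
      congr := fun h ⟨s, hs, hse⟩ => ⟨s, hs, fun x hx => (h x hx).symm.trans (hse x hx)⟩
      img_eq := fun {u} ⟨s, hs, hse⟩ => by
        refine le_antisymm (img_le_iff.2 fun x hx => by rw [hse x hx]; exact conj_mem _ hs _ hx) fun y hy => ?_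
        have hy' : s⁻¹ * y * s ∈ C₀ := by simpa using conj_mem _ (S.inv_mem hs) _ hy
        have : u (s⁻¹ * y * s) = y := by rw [hse _ hy']; group
        exact this ▸ mem_img_of_mem hy'
      comp := fun {u v} _ ⟨s, hs, hse⟩ ⟨t, ht, hte⟩ => ⟨t * s, S.mul_mem ht hs, fun x hx => by
        rw [Function.comp_apply, hse x hx, hte _ (conj_mem _ hs _ hx)]; group⟩
      inv := fun {u v} _ ⟨s, hs, hse⟩ h => ⟨s⁻¹, S.inv_mem hs, fun y hy => by
        have hy' : s⁻¹ * y * s ∈ C₀ := by simpa using conj_mem _ (S.inv_mem hs) _ hy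
        have h1 := h _ hy'
        rw [hse _ hy', show s * (s⁻¹ * y * s) * s⁻¹ = y by group] at h1
        rw [h1]; group⟩ }
  have hiff := fun M u => isMap_extSystem_iff (F := F) (hQ := hC₀S) (hT := le_rfl) (hC := hB) M u
  have hBsat : (extSystem F C₀ S hC₀S le_rfl _ hB).IsSaturated p := by
    refine saturated_of_full hS hF hC₀S le_rfl hB hnormC (fun s hs _ _ => hs) (fun u hu => ?_) hiff
    obtain ⟨k, hk, hkl, hkr, hki⟩ := hu.inv
    have huC : img u C₀ = C₀ := (by obtain ⟨g', -, hge', hgC'⟩ := (isNormal_iff.1 hC₀).2 C₀ u hu; exact (img_congr fun y hy => (hge' y hy).symm).trans hgC')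
    have huS : ∀ x ∈ C₀, u x ∈ C₀ := fun x hx => huC.le (mem_img_of_mem hx)
    obtain ⟨-, hrec⟩ := fullyNormalized_spec hS hF hC₀fn
    let M : Subgroup Ω :=
      { carrier := {s | s ∈ S ∧ ∃ t ∈ S, ∀ x ∈ C₀, s * u x * s⁻¹ = u (t * x * t⁻¹)}
        one_mem' := ⟨S.one_mem, 1, S.one_mem, fun x _ => by simp⟩
        mul_mem' := fun {a b} ⟨ha, s, hs, hse⟩ ⟨hb, t, ht, hte⟩ => ⟨S.mul_mem ha hb, s * t, S.mul_mem hs ht,
          fun x hx => by
            rw [show a * b * u x * (a * b)⁻¹ = a * (b * u x * b⁻¹) * a⁻¹ by group, hte x hx,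
              hse _ (conj_mem _ ht _ hx)]
            congr 1; group⟩
        inv_mem' := fun {a} ⟨ha, s, hs, hse⟩ => ⟨S.inv_mem ha, s⁻¹, S.inv_mem hs, fun x hx => by
          have h1 := hse (s⁻¹ * x * s⁻¹⁻¹) (conj_mem _ (S.inv_mem hs) _ hx)
          rw [show s * (s⁻¹ * x * s⁻¹⁻¹) * s⁻¹ = x by group] at h1
          rw [← h1]; group⟩ }
    rw [huC] at hk hki
    obtain ⟨χ, hχ, hχe⟩ := extend hrec hk hki (N := M) fun s hs => by
      obtain ⟨hsS, t, ht, hte⟩ := hs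
      refine ⟨hsS, hnormC s hsS, t, ht, fun y hy => ?_⟩
      obtain ⟨x, hx, rfl⟩ := hu.mem_img.1 (huC.ge hy)
      rw [hte x hx, hkl _ (conj_mem _ ht _ hx), hkl x hx]
    refine ⟨_, χ, hχ, huC.le.trans le_sup_left, ⟨1, S.one_mem, fun x hx => ?_⟩, fun s hs _ ⟨c, _, ⟨t, ht, hte⟩, hce⟩ => ?_⟩
    · rw [Function.comp_apply, hχe _ (huS x hx), hkl x hx]; group
    · have hsM : s ∈ M := ⟨hs, t, ht, fun x hx => (hce x hx).trans (congrArg u (hte x hx))⟩
      exact ⟨Subgroup.mem_sup_right hsM, hχ.mem (Subgroup.mem_sup_right hsM)⟩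
  exact ⟨_, hBsat, fun P f => (hiff P f).trans
    ⟨fun ⟨h1, _, _, h4⟩ => ⟨h1, h4⟩, fun ⟨h1, h4⟩ => ⟨h1, h1.le, fun x hx => h1.mem hx, h4⟩⟩⟩

/-- Every map is a map stabilizing `C₀ C_S(C₀)` followed by one acting on `C₀` trivially. -/
theorem exists_split_normal [Finite S] [Fact p.Prime] (hS : IsPGroup p S) (hF : F.IsSaturated p) {C₀ : Subgroup Ω}
    (hC₀ : F.IsNormal C₀) {P : Subgroup Ω} {f : Ω → Ω} (hf : IsMap F P f) :
    ∃ (M : Subgroup Ω) (h k : Ω → Ω), IsMap F M h ∧ P ≤ M ∧ C₀ ⊔ centralizerIn S C₀ ≤ M ∧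
      img h (C₀ ⊔ centralizerIn S C₀) = C₀ ⊔ centralizerIn S C₀ ∧ IsMap F (img h P ⊔ C₀) k ∧
      (∀ x ∈ C₀, k x = x) ∧ ∀ x ∈ P, k (h x) = f x := by
  have hC₀S := hC₀.1
  haveI := finite_of_le hC₀S
  haveI := finite_mulAut (S := S) hC₀S
  have conj_mem : ∀ a ∈ S, ∀ x ∈ C₀, a * x * a⁻¹ ∈ C₀ := fun a ha x hx => by
    obtain ⟨g, -, hge, hgC⟩ := (isNormal_iff.1 hC₀).2 C₀ _ (IsMap.conj F hC₀S ha)
    exact ((img_congr fun y hy => (hge y hy).symm).trans hgC).le (mem_img_of_mem hx)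
  have hnormC : ∀ t ∈ S, t ∈ Subgroup.normalizer (C₀ : Set Ω) := fun t ht =>
    mem_normalizer_of_conj (conj_mem t ht) fun y hy => by simpa using conj_mem t⁻¹ (S.inv_mem ht) y hy
  have hNC : normalizerIn S C₀ = S := le_antisymm (normalizerIn_le _) fun a ha => ⟨ha, hnormC a ha⟩
  have hC₀fn : F.IsFullyNormalized C₀ := ⟨hC₀S, fun R _ => hNC.symm ▸ Subgroup.card_le_of_le (normalizerIn_le R)⟩
  obtain ⟨g, hg, hge, hgC⟩ := (isNormal_iff.1 hC₀).2 P f hf
  set C := centralizerIn S C₀ with hCdef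
  set C₁ := C₀ ⊔ C with hC₁def
  have hC₁S : C₁ ≤ S := sup_le hC₀S (centralizerIn_le C₀)
  haveI := finite_of_le hC₁S
  obtain ⟨-, hrec⟩ := fullyNormalized_spec hS hF hC₀fn
  have hgC₀ : ∀ x ∈ C₀, g x ∈ C₀ := fun x hx => hgC.le (mem_img_of_mem hx)
  let D : Subgroup Ω :=
    { carrier := {n | n ∈ S ∧ ∃ s ∈ S, ∀ x ∈ C₀, g (n * x * n⁻¹) = s * g x * s⁻¹}
      one_mem' := ⟨S.one_mem, 1, S.one_mem, fun x _ => by simp⟩
      mul_mem' := fun {a b} ⟨ha, s, hs, hse⟩ ⟨hb, t, ht, hte⟩ => ⟨S.mul_mem ha hb, s * t, S.mul_mem hs ht,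
        fun x hx => by
          rw [show a * b * x * (a * b)⁻¹ = a * (b * x * b⁻¹) * a⁻¹ by group, hse _ (conj_mem _ hb _ hx),
            hte x hx]
          group⟩
      inv_mem' := fun {a} ⟨ha, s, hs, hse⟩ => ⟨S.inv_mem ha, s⁻¹, S.inv_mem hs, fun x hx => by
        have h1 := hse (a⁻¹ * x * a⁻¹⁻¹) (conj_mem _ (S.inv_mem ha) _ hx)
        rw [show a * (a⁻¹ * x * a⁻¹⁻¹) * a⁻¹ = x by group] at h1
        rw [h1]; group⟩ }
  have hCD : C ≤ D := fun c hc => ⟨hc.1, 1, S.one_mem, fun x hx => by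
    rw [← hc.2 x hx, mul_inv_cancel_right]; simp⟩
  have hPD : P ≤ D := fun n hn => ⟨hf.le hn, g n, hg.mem (Subgroup.mem_sup_left hn), fun x hx =>
    hg.map_conj (Subgroup.mem_sup_left hn) (Subgroup.mem_sup_right hx)⟩
  obtain ⟨h, hh, hhe⟩ := extend hrec (hg.mono le_sup_right) hgC (N := D) fun n hn => by
    obtain ⟨hnS, s, hs, hse⟩ := hn
    exact ⟨hnS, hnormC n hnS, s, hs, hse⟩
  have hhC₀ : img h C₀ = C₀ := (img_congr hhe).trans hgC
  have hhC₁ : img h C₁ = C₁ := by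
    refine Subgroup.eq_of_le_of_card_ge ?_ (hh.mono (sup_le le_sup_left (hCD.trans le_sup_right))).card_img.ge
    rw [hC₁def, hh.img_sup le_sup_left (hCD.trans le_sup_right), hhC₀]
    refine sup_le le_sup_left (le_sup_of_le_right ?_)
    have := hh.img_centralizerIn_le (P := C₀) le_sup_left (hCD.trans le_sup_right)
    rwa [hhC₀] at this
  have hPC : P ⊔ C₀ ≤ C₀ ⊔ D := sup_le (hPD.trans le_sup_right) le_sup_left
  obtain ⟨k, hk, hkl, -, hki⟩ := (hh.mono hPC).inv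
  have hkD : ∀ y ∈ img h (P ⊔ C₀), k y ∈ P ⊔ C₀ := fun y hy => hki.le (mem_img_of_mem hy)
  have hle : img h P ⊔ C₀ ≤ img h (P ⊔ C₀) :=
    sup_le (img_mono le_sup_left) (hhC₀.symm.le.trans (img_mono le_sup_right))
  refine ⟨C₀ ⊔ D, h, g ∘ k, hh, hPD.trans le_sup_right, sup_le le_sup_left (hCD.trans le_sup_right), hhC₁,
    (hk.comp hg hkD).mono hle, fun y hy => ?_, fun x hx => ?_⟩
  · obtain ⟨x, hx, rfl⟩ := (hh.mono le_sup_left).mem_img.1 (hhC₀.ge hy)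
    rw [Function.comp_apply, hkl x (Subgroup.mem_sup_right hx), hhe x hx]
  · rw [Function.comp_apply, hkl x (Subgroup.mem_sup_left hx), hge x hx]

/-- A sparse system is constrained. -/
theorem constrained_of_sparse [Finite S] [Fact p.Prime] (hS : IsPGroup p S) (hF : F.IsSaturated p)
    (hne : F ≠ innerFusionSystem S)
    (hsp : ∀ E : FusionSystem S, E.IsSaturated p → E ≤ F → F ≤ E ∨ E ≤ innerFusionSystem S)
    (hp : p ≠ 2 ∨ F.IsSectionFree p (Equiv.Perm (Fin 4))) : F.IsConstrained p := by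
  obtain ⟨Q, hQ, hQp⟩ : ∃ Q : Subgroup Ω, AutComp.CharIn S Q ∧ ¬ IsPGroup p (F.autGroup Q) := by
    by_contra h
    push Not at h
    exact hne (eq_inner_of_charAut hS hF hp fun Q hQ _ => h Q hQ)
  have hQS := hQ.1
  haveI := finite_of_le hQS
  haveI := finite_mulAut (S := S) hQS
  -- normalizer systems of normal subgroups, read over `S`
  have normalSys : ∀ Y : Subgroup Ω, Y ≤ S → normalizerIn S Y = S → ∃ E : FusionSystem S, E.IsSaturated p ∧ E ≤ F ∧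
      ∀ P f, IsMap E P f ↔ IsMap F P f ∧ ∃ g, IsMap F (P ⊔ Y) g ∧ (∀ x ∈ P, g x = f x) ∧ img g Y = Y := by
    intro Y hYS hY
    obtain ⟨N, hN⟩ := exists_normalizerSystem F hYS
    have hsat : N.IsSaturated p := normalizerSystem_saturated hS hF
      ⟨hYS, fun R _ => hY.symm ▸ Subgroup.card_le_of_le (normalizerIn_le R)⟩ hN
    have hiff := isMap_normalizerSystem_iff hYS hN
    clear hN
    revert N
    rw [hY]
    intro N hsat hiff
    exact ⟨N, hsat, le_iff.2 fun P f hf => ((hiff P f).1 hf).1, fun P f => (hiff P f).trans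
      ⟨fun ⟨h1, _, _, h4⟩ => ⟨h1, h4⟩, fun ⟨h1, h4⟩ => ⟨h1, h1.le, fun x hx => h1.mem hx, h4⟩⟩⟩
  have hinnerP : ∀ {Y : Subgroup Ω}, Y ≤ S → ∀ α : MulAut ↥Y, IsMap (innerFusionSystem S) Y (autFun α) →
      α ∈ autInducedBy S Y := fun {Y} hY α hα => by
    obtain ⟨-, s, hs, h⟩ := isMap_inner_iff.1 hα
    exact mem_autInducedBy.2 ⟨s, hs, h⟩
  have hindP : IsPGroup p ↥(autInducedBy S Q) := by
    rw [← range_inducedHom]
    exact (hS.to_le (normalizerIn_le Q)).of_surjective _ (inducedHom S Q).rangeRestrict_surjective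
  -- `Q` is normal
  have hQn : F.IsNormal Q := by
    obtain ⟨E, hE, hEF, hEiff⟩ := normalSys Q hQS (normalizerIn_charIn_self hQ)
    rcases hsp E hE hEF with h | h
    · exact isNormal_iff.2 ⟨hQS, fun P f hf => ((hEiff P f).1 (le_iff.1 h P f hf)).2⟩
    · refine absurd (hindP.to_le fun α hα => hinnerP hQS α (le_iff.1 h _ _ ((hEiff _ _).2 ?_))) hQp
      have hm := (mem_autGroup hQS).1 hα
      exact ⟨hm, autFun α, hm.mono (sup_le le_rfl le_rfl), fun _ _ => rfl, img_autFun α⟩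
  set C₀ := F.core with hC₀def
  have hC₀ : F.IsNormal C₀ := isNormal_core
  refine ⟨hF, C₀, hC₀, ?_⟩
  have hC₀S := hC₀.1
  have hQC : Q ≤ C₀ := le_core hQn
  haveI := finite_of_le hC₀S
  by_contra hnc
  set C₁ := C₀ ⊔ centralizerIn S C₀ with hC₁
  have hC₁S : C₁ ≤ S := sup_le hC₀S (centralizerIn_le C₀)
  have hC₀n : ∀ a ∈ S, ∀ x ∈ C₀, a * x * a⁻¹ ∈ C₀ := fun a ha x hx => by
    obtain ⟨g, -, hge, hgC⟩ := (isNormal_iff.1 hC₀).2 C₀ _ (IsMap.conj F hC₀S ha)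
    exact ((img_congr fun y hy => (hge y hy).symm).trans hgC).le (mem_img_of_mem hx)
  have hnormC : ∀ t ∈ S, t ∈ Subgroup.normalizer (C₀ : Set Ω) := fun t ht =>
    mem_normalizer_of_conj (hC₀n t ht) fun y hy => by simpa using hC₀n t⁻¹ (S.inv_mem ht) y hy
  have hlt : C₀ < C₁ := by
    refine left_lt_sup.2 fun hle => hnc ?_
    exact centric_of_fc (fullyCentralized_of_fullyNormalized hS hF
      ⟨hC₀S, fun R _ => by
        rw [show normalizerIn S C₀ = S from le_antisymm (normalizerIn_le _) fun a ha => ⟨ha, hnormC a ha⟩]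
        exact Subgroup.card_le_of_le (normalizerIn_le R)⟩) hle
  have hNC₁ : normalizerIn S C₁ = S := by
    refine le_antisymm (normalizerIn_le _) fun a ha => ⟨ha, ?_⟩
    have hconj : ∀ a ∈ S, ∀ y ∈ C₁, a * y * a⁻¹ ∈ C₁ := by
      intro a ha y hy
      have hle : C₁ ≤ C₁.comap (MulAut.conj a).toMonoidHom := sup_le
        (fun x hx => Subgroup.mem_sup_left (hC₀n a ha x hx))
        (fun x hx => Subgroup.mem_sup_right ⟨S.mul_mem (S.mul_mem ha hx.1) (S.inv_mem ha),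
          conj_mem_of_normalizer (CfsgLib.Glau.centralizer_normalizer (hnormC a ha)) hx.2⟩)
      exact hle hy
    exact mem_normalizer_of_conj (hconj a ha) fun y hy => by simpa using hconj a⁻¹ (S.inv_mem ha) y hy
  obtain ⟨E₁, hE₁, hE₁F, hE₁iff⟩ := normalSys C₁ hC₁S hNC₁
  rcases hsp E₁ hE₁ hE₁F with h | h₁
  · haveI := finite_of_le hC₁S
    exact hlt.not_ge (le_core (isNormal_iff.2 ⟨hC₁S, fun P f hf => ((hE₁iff P f).1 (le_iff.1 h P f hf)).2⟩))
  obtain ⟨B, hB, hBiff⟩ := exists_acting_system hS hF hC₀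
  rcases hsp B hB (le_iff.2 fun P f hf => ((hBiff P f).1 hf).1) with h | h₂
  · -- the action on `Q` would be by `S`
    refine hQp (hindP.to_le fun α hα => ?_)
    obtain ⟨-, g, hg, hge, s, hs, hse⟩ := (hBiff _ _).1 (le_iff.1 h _ _ ((mem_autGroup hQS).1 hα))
    exact mem_autInducedBy.2 ⟨s, hs, fun x hx => (hge x hx).symm.trans (hse x (hQC hx))⟩
  refine hne (eq_of_le_le (le_iff.2 fun P f hf => ?_) inner_le)
  obtain ⟨M, h, k, hh, hPM, hC₁M, hhC₁, hk, hkfix, hkh⟩ := exists_split_normal hS hF hC₀ hf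
  have hh' := hh.mono (sup_le hPM hC₁M)
  obtain ⟨-, a, ha, hae⟩ := isMap_inner_iff.1 (le_iff.1 h₁ _ _ ((hE₁iff (P ⊔ C₁) h).2
    ⟨hh', h, hh'.mono (sup_le le_rfl le_sup_right), fun _ _ => rfl, hhC₁⟩))
  obtain ⟨-, b, hb, hbe⟩ := isMap_inner_iff.1 (le_iff.1 h₂ _ _ ((hBiff (img h P) k).2
    ⟨hk.mono le_sup_left, k, hk, fun _ _ => rfl, 1, S.one_mem, fun x hx => by rw [hkfix x hx]; group⟩))
  refine isMap_inner_iff.2 ⟨hf.le, b * a, S.mul_mem hb ha, fun x hx => ?_⟩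
  rw [← hkh x hx, hbe _ (mem_img_of_mem hx), hae x (Subgroup.mem_sup_left hx)]
  group

end CfsgLib.Fus
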