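import Cfsg.Prelude.Def_EvenType
import Mathlib.GroupTheory.Sylow

/-!
Strongly p-embedded subgroups: the conjugation criterion.
-/

set_option autoImplicit false
set_option linter.style.haveILetI false

open Cfsg

namespace CfsgLib.Fus

variable {G : Type*} [Group G] {p : ℕ}

theorem exists_conj_mem_sylow [Finite G] [Fact p.Prime] (P : Sylow p G) {u : G}
    (hu : IsPGroup p ↥(Subgroup.zpowers u)) : ∃ g : G, g * u * g⁻¹ ∈ (P : Subgroup G) := by
  obtain ⟨Q, hQ⟩ := hu.exists_le_sylow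
  obtain ⟨g, hg⟩ := MulAction.exists_smul_eq G Q P
  refine ⟨g, ?_⟩
  rw [← hg, Sylow.coe_subgroup_smul]
  exact Subgroup.smul_mem_pointwise_smul _ (MulAut.conj g) _ (hQ (Subgroup.mem_zpowers u))

theorem isPGroup_zpowers_of_mem {P : Subgroup G} (hP : IsPGroup p P) {u : G} (hu : u ∈ P) :
    IsPGroup p ↥(Subgroup.zpowers u) :=
  hP.to_le (Subgroup.zpowers_le.2 hu)

theorem ne_bot_of_rank {Q : Subgroup G} (h : ¬ PRankLE p 0 ↥Q) : Q ≠ ⊥ := by
  rintro rfl
  refine h fun A _ _ => ?_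
  rw [pow_zero, Finite.card_le_one_iff_subsingleton]
  infer_instance

theorem rank_of_ne_bot [Finite G] [hp : Fact p.Prime] {Q : Subgroup G} (hQ : IsPGroup p Q) (h : Q ≠ ⊥) :
    ¬ PRankLE p 0 ↥Q := by
  haveI : Nontrivial Q := (Subgroup.nontrivial_iff_ne_bot _).2 h
  obtain ⟨n, hn, hcard⟩ := hQ.nontrivial_iff_card.1 inferInstance
  obtain ⟨x, hx⟩ := exists_prime_orderOf_dvd_card' p (G := ↥Q) (hcard ▸ dvd_pow_self p hn.ne')
  intro hr
  have := hr (Subgroup.zpowers x) inferInstance fun a ha => by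
    obtain ⟨i, rfl⟩ := ha
    show (x ^ i) ^ p = 1
    rw [← zpow_natCast, zpow_comm, zpow_natCast, ← hx, pow_orderOf_eq_one, one_zpow]
  rw [Nat.card_zpowers, hx, pow_zero] at this
  exact absurd this hp.out.one_lt.not_ge

/-- In a strongly p-embedded subgroup every normalizer of a nontrivial p-subgroup lies in it. -/
theorem spe_normalizer_le [Finite G] [Fact p.Prime] {Y : Subgroup G} (hY : IsStronglyPEmbedded p Y)
    {Q : Subgroup G} (hQ : IsPGroup p Q) (hQY : Q ≤ Y) (hQ1 : Q ≠ ⊥) :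
    Subgroup.normalizer (Q : Set G) ≤ Y := by
  obtain ⟨hdvd, -, P, hP⟩ := hY
  have hcore : ∀ R : Subgroup G, R ≤ P → R ≠ ⊥ → Subgroup.normalizer (R : Set G) ≤ Y :=
    fun R hR hR1 => le_trans
      (le_iSup (fun Q : {Q : Subgroup G // Q ≤ (P : Subgroup G) ∧ ¬ PRankLE p (1 - 1) Q} =>
        Subgroup.normalizer ((Q : Subgroup G) : Set G))
        ⟨R, hR, by simpa using rank_of_ne_bot (P.isPGroup'.to_le hR) hR1⟩) hP
  have hP1 : (P : Subgroup G) ≠ ⊥ := P.ne_bot_of_dvd_card hdvd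
  have hPY : (P : Subgroup G) ≤ Y := Subgroup.le_normalizer.trans (hcore P le_rfl hP1)
  let PY : Sylow p ↥Y := P.subtype hPY
  obtain ⟨T, hT⟩ := (hQ.comap_of_injective Y.subtype Y.subtype_injective).exists_le_sylow
  obtain ⟨⟨y, hy⟩, hyT⟩ := MulAction.exists_smul_eq ↥Y T PY
  have hmem : ∀ q ∈ Q, y * q * y⁻¹ ∈ (P : Subgroup G) := by
    intro q hq
    have h3 : (⟨y, hy⟩ * ⟨q, hQY hq⟩ * ⟨y, hy⟩⁻¹ : ↥Y) ∈ (PY : Subgroup ↥Y) := by
      rw [← hyT, Sylow.coe_subgroup_smul]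
      exact Subgroup.smul_mem_pointwise_smul _ _ _ (hT hq)
    exact h3
  intro g hg
  have hg' : y * g * y⁻¹ ∈ Y := hcore (Q.map (MulAut.conj y).toMonoidHom)
    (by rintro _ ⟨q, hq, rfl⟩; exact hmem q hq)
    (fun h => hQ1 ((Subgroup.map_eq_bot_iff_of_injective _ (MulAut.conj y).injective).1 h)) (by
      rw [Subgroup.mem_normalizer_iff]
      intro z
      constructor
      · rintro ⟨q, hq, rfl⟩
        exact ⟨g * q * g⁻¹, (Subgroup.mem_normalizer_iff.1 hg q).1 hq, by simp [mul_assoc]⟩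
      · rintro ⟨q, hq, hqe⟩
        refine ⟨g⁻¹ * q * g, (Subgroup.mem_normalizer_iff''.1 hg q).1 hq, ?_⟩
        have : z = (y * g * y⁻¹)⁻¹ * (y * q * y⁻¹) * (y * g * y⁻¹) := by
          have h : y * q * y⁻¹ = y * g * y⁻¹ * z * (y * g * y⁻¹)⁻¹ := hqe
          rw [h]; group
        rw [this]
        simp [mul_assoc])
  simpa [mul_assoc] using Y.mul_mem (Y.mul_mem (Y.inv_mem hy) hg') hy

/-- If a nontrivial p-element of `Y` is conjugated into `Y` by `x`, then `x ∈ Y`. -/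
theorem spe_mem [Finite G] [Fact p.Prime] {Y : Subgroup G} (hY : IsStronglyPEmbedded p Y) {u x : G}
    (hu : u ∈ Y) (hu1 : u ≠ 1) (hup : IsPGroup p ↥(Subgroup.zpowers u)) (hux : x⁻¹ * u * x ∈ Y) :
    x ∈ Y := by
  have hle : ∀ (R : Sylow p G) (w : G), w ∈ (R : Subgroup G) → w ∈ Y → w ≠ 1 → (R : Subgroup G) ≤ Y := by
    intro R w hwR hwY hw1
    have hne : (R : Subgroup G) ⊓ Y ≠ ⊥ := fun h => hw1 (by
      simpa [Subgroup.mem_bot] using h.le ⟨hwR, hwY⟩)
    have hN := spe_normalizer_le hY (R.isPGroup'.to_le (inf_le_left (b := Y))) inf_le_right hne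
    haveI := R.isPGroup'.isNilpotent
    have htop : (((R : Subgroup G) ⊓ Y).subgroupOf R) = ⊤ := by
      by_contra h
      obtain ⟨z, hz, hzR⟩ := SetLike.exists_of_lt
        (normalizerCondition_of_isNilpotent _ (lt_top_iff_ne_top.2 h))
      refine hzR (Subgroup.mem_subgroupOf.2 ⟨z.2, hN (Subgroup.mem_normalizer_iff.2 fun a => ⟨fun ha => ?_, fun ha => ?_⟩)⟩)
      · exact (Subgroup.mem_normalizer_iff.1 hz ⟨a, ha.1⟩).1 ha
      · have haR : a ∈ (R : Subgroup G) := by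
          simpa [mul_assoc] using
            (R : Subgroup G).mul_mem ((R : Subgroup G).mul_mem ((R : Subgroup G).inv_mem z.2) ha.1) z.2
        exact (Subgroup.mem_normalizer_iff.1 hz ⟨a, haR⟩).2 ha
    exact (Subgroup.subgroupOf_eq_top.1 htop).trans inf_le_right
  set v := x⁻¹ * u * x with hv
  have hv1 : v ≠ 1 := fun h => hu1 (by
    have : u = x * v * x⁻¹ := by rw [hv]; group
    rw [this, h]; group)
  have hvp : IsPGroup p ↥(Subgroup.zpowers v) := by
    have hmap : (Subgroup.zpowers u).map (MulAut.conj x⁻¹).toMonoidHom = Subgroup.zpowers v := by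
      rw [MonoidHom.map_zpowers]; simp [hv, mul_assoc]
    exact hmap ▸ hup.map _
  obtain ⟨R, hR⟩ := hvp.exists_le_sylow
  have hvR : v ∈ (R : Subgroup G) := hR (Subgroup.mem_zpowers v)
  have hRY := hle R v hvR hux hv1
  have huR : u ∈ ((x • R : Sylow p G) : Subgroup G) := by
    rw [Sylow.coe_subgroup_smul, show u = MulAut.conj x • v by simp [hv, MulAut.smul_def, mul_assoc]]
    exact Subgroup.smul_mem_pointwise_smul _ _ _ hvR
  have hxRY := hle (x • R) u huR hu hu1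
  obtain ⟨⟨y, hy⟩, hyR⟩ :=
    MulAction.exists_smul_eq ↥Y ((x • R).subtype hxRY) (R.subtype hRY)
  have hfix : y • x • R = R := Sylow.subtype_injective (hP := by
      exact Sylow.smul_le hxRY ⟨y, hy⟩) (hQ := hRY) (by
    rw [← hyR]; exact (Sylow.smul_subtype hxRY ⟨y, hy⟩).symm)
  rw [← mul_smul, Sylow.smul_eq_iff_mem_normalizer] at hfix
  have hR1 : (R : Subgroup G) ≠ ⊥ := fun h => hv1 (by simpa [Subgroup.mem_bot] using h.le hvR)
  simpa using Y.mul_mem (Y.inv_mem hy) (spe_normalizer_le hY R.isPGroup' hRY hR1 hfix)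

theorem spe_of [Finite G] [Fact p.Prime] {Y : Subgroup G} (P : Sylow p G) (hPY : (P : Subgroup G) ≤ Y)
    (hdvd : p ∣ Nat.card G) (hY : Y ≠ ⊤)
    (h : ∀ u x : G, u ∈ Y → u ≠ 1 → IsPGroup p ↥(Subgroup.zpowers u) → x⁻¹ * u * x ∈ Y → x ∈ Y) :
    IsStronglyPEmbedded p Y := by
  refine ⟨hdvd, hY, P, iSup_le fun Q g hg => ?_⟩
  obtain ⟨u, hu, hu1⟩ := (Subgroup.bot_or_exists_ne_one (Q : Subgroup G)).resolve_left
    (ne_bot_of_rank Q.2.2)
  exact h u g (hPY (Q.2.1 hu)) hu1 (isPGroup_zpowers_of_mem P.isPGroup' (Q.2.1 hu))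
    (hPY (Q.2.1 ((Subgroup.mem_normalizer_iff''.1 hg u).1 hu)))

theorem spe_comap_conj [Finite G] [Fact p.Prime] {Y : Subgroup G} (hY : IsStronglyPEmbedded p Y)
    (P : Sylow p G) : ∃ Y' : Subgroup G, (P : Subgroup G) ≤ Y' ∧ Y' ≠ ⊤ ∧
      ∀ u x : G, u ∈ Y' → u ≠ 1 → IsPGroup p ↥(Subgroup.zpowers u) → x⁻¹ * u * x ∈ Y' → x ∈ Y' := by
  obtain ⟨hdvd, hne, P0, hP0⟩ := id hY
  have hP1 : (P0 : Subgroup G) ≠ ⊥ := P0.ne_bot_of_dvd_card hdvd
  have hP0Y : (P0 : Subgroup G) ≤ Y := Subgroup.le_normalizer.trans (le_trans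
    (le_iSup (fun Q : {Q : Subgroup G // Q ≤ (P0 : Subgroup G) ∧ ¬ PRankLE p (1 - 1) Q} =>
      Subgroup.normalizer ((Q : Subgroup G) : Set G))
      ⟨P0, le_rfl, by simpa using rank_of_ne_bot P0.isPGroup' hP1⟩) hP0)
  obtain ⟨c, hc⟩ := MulAction.exists_smul_eq G P P0
  refine ⟨Y.comap (MulAut.conj c).toMonoidHom, fun q hq => ?_, fun h => hne ?_, fun u x hu hu1 hup hux => ?_⟩
  · refine hP0Y ?_
    rw [← hc, Sylow.coe_subgroup_smul]
    exact Subgroup.smul_mem_pointwise_smul _ _ _ hq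
  · exact Subgroup.comap_injective (MulAut.conj c).surjective
      (h.trans (Subgroup.comap_top _).symm)
  · have hmap : (Subgroup.zpowers u).map (MulAut.conj c).toMonoidHom = Subgroup.zpowers (MulAut.conj c u) := by
      rw [MonoidHom.map_zpowers]; rfl
    refine spe_mem hY hu (fun h => hu1 ((MulAut.conj c).injective (h.trans (map_one _).symm))) (hmap ▸ hup.map _) ?_
    simpa [mul_assoc] using hux

end CfsgLib.Fus
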