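import Cfsg.Agent.Fus.Equivalent
import Cfsg.Agent.Fus.StronglyEmbedded

/-!
The dichotomy at a fully normalized subgroup and the fusion theorem for saturated systems.
-/

set_option autoImplicit false
set_option linter.style.haveILetI false

open Cfsg Cfsg.FusionSystem

namespace CfsgLib.Fus

variable {Ω : Type*} [Group Ω] {S : Subgroup Ω} {p : ℕ}

/-- The automorphisms of `P` that extend to a strictly larger subgroup. -/
def extSet (F : FusionSystem S) (P : Subgroup Ω) : Set (MulAut P) :=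
  {α : MulAut P | ∃ (Q : Subgroup Ω) (hPQ : P < Q) (φ : Q →* Ω), φ ∈ F.Hom Q ∧
    ∀ x : P, φ (Subgroup.inclusion hPQ.le x) = α x}

variable {F : FusionSystem S}

theorem mem_extSet {P : Subgroup Ω} {α : MulAut P} :
    α ∈ extSet F P ↔ ∃ Q f, P < Q ∧ IsMap F Q f ∧ ∀ x ∈ P, f x = autFun α x := by
  constructor
  · rintro ⟨Q, hPQ, φ, hφ, he⟩
    exact ⟨Q, ev φ, hPQ, IsMap.of_hom hφ, fun x hx =>
      (ev_of_mem φ (hPQ.le hx)).trans ((he ⟨x, hx⟩).trans (autFun_of_mem α hx).symm)⟩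
  · rintro ⟨Q, f, hPQ, ⟨φ, hφ, hf⟩, he⟩
    exact ⟨Q, hPQ, φ, hφ, fun x => (hf _).trans ((he x x.2).trans (autFun_apply α x))⟩

theorem centric_of_fc [Finite S] {U : Subgroup Ω} (hU : F.IsFullyCentralized U)
    (hC : centralizerIn S U ≤ U) : F.IsCentric U := by
  refine ⟨hU.1, fun Q hQ => ?_⟩
  obtain ⟨f, hf, rfl⟩ := isConj_iff.1 hQ
  haveI := finite_of_le (centralizerIn_le (S := S) (img f U))
  rw [← Subgroup.eq_of_le_of_card_ge (hf.img_centralizerIn_le le_rfl hC)
    ((hf.mono hC).card_img.symm ▸ hU.2 _ hQ)]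
  exact img_mono hC

theorem extSet_subset (P : Subgroup Ω) :
    extSet F P ⊆ (F.autGroup P : Set (MulAut P)) := fun α hα => by
  obtain ⟨Q, f, hPQ, hf, he⟩ := mem_extSet.1 hα
  exact (mem_autGroup (hPQ.le.trans hf.le)).2 ((hf.mono hPQ.le).congr he)

variable [Finite S] [Fact p.Prime]

theorem mem_extSet_of_conj {P : Subgroup Ω} (hR : F.IsReceptive P) {α : MulAut P}
    (hα : α ∈ F.autGroup P) {g : Ω} (hg : g ∈ normalizerIn S P) (hgP : g ∉ P) {s : Ω} (hs : s ∈ S)
    (he : ∀ x ∈ P, autFun α (g * x * g⁻¹) = s * autFun α x * s⁻¹) : α ∈ extSet F P := by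
  have hm := (mem_autGroup hR.1).1 hα
  have hev : ∀ x ∈ P, autFun α x = ev (P.subtype.comp α.toMonoidHom) x := fun x _ => rfl
  obtain ⟨f, hf, hfe⟩ := extend hR hm (img_autFun α)
    (N := extender S P (P.subtype.comp α.toMonoidHom)) fun a ha => mem_extender.1 ha
  refine mem_extSet.2 ⟨_, f, lt_of_le_of_ne le_sup_left fun h => hgP (h ▸ le_sup_right (a := P) ?_),
    hf, hfe⟩
  exact mem_extender.2 ⟨hg.1, hg.2, s, hs, he⟩

theorem aut_subset_extSet (hS : IsPGroup p S) {P : Subgroup Ω} (hP : P < S) :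
    (autInducedBy S P : Set (MulAut P)) ⊆ extSet F P := fun α hα => by
  obtain ⟨g, hg, he⟩ := mem_autInducedBy.1 hα
  exact mem_extSet.2 ⟨_, conjF g, lt_normalizerIn hS hP, IsMap.conj F (normalizerIn_le P) hg,
    fun x hx => (he x hx).symm⟩

/-- Alperin's dichotomy: at a fully normalized `P < S` the extendable automorphisms generate the
whole automorphism group unless `P` is essential, and then they give a strongly embedded subgroup. -/
theorem essential_dichotomy (hS : IsPGroup p S) (hF : F.IsSaturated p) {P : Subgroup Ω} (hPS : P < S)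
    (hPn : F.IsFullyNormalized P) :
    (¬ F.IsEssential p P ∧ Subgroup.closure (extSet F P) = F.autGroup P) ∨
      (F.IsEssential p P ∧ ∃ _ : ((Inn P).subgroupOf (F.autGroup P)).Normal,
        IsStronglyPEmbedded p (((Subgroup.closure (extSet F P)).subgroupOf (F.autGroup P)).map
          (QuotientGroup.mk' ((Inn P).subgroupOf (F.autGroup P))))) := by
  have hP := hPn.1
  haveI := finite_mulAut hP
  haveI hNorm : ((Inn P).subgroupOf (F.autGroup P)).Normal := inn_subgroupOf_autGroup_normal P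
  obtain ⟨⟨-, R, hR⟩, hrec⟩ := fullyNormalized_spec hS hF hPn
  have hHA : Subgroup.closure (extSet F P) ≤ F.autGroup P :=
    (Subgroup.closure_le _).2 (extSet_subset P)
  by_cases hc : centralizerIn S P ≤ P
  swap
  · left
    refine ⟨fun h => hc (h.1.2 P (isConj_refl hP)), le_antisymm hHA fun α hα => ?_⟩
    obtain ⟨g, hg, hgP⟩ := SetLike.not_le_iff_exists.1 hc
    refine Subgroup.subset_closure (mem_extSet_of_conj hrec hα
      (centralizerIn_le_normalizerIn P hg) hgP S.one_mem fun x hx => ?_)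
    rw [show g * x * g⁻¹ = x by rw [← hg.2 x hx, mul_inv_cancel_right]]
    simp
  have hcen : F.IsCentric P := centric_of_fc (fullyCentralized_of_receptive hrec) hc
  have hRH : (R : Subgroup ↥(F.autGroup P)) ≤ (Subgroup.closure (extSet F P)).subgroupOf (F.autGroup P) := by
    rw [hR]
    exact fun α hα => Subgroup.subset_closure (aut_subset_extSet hS hPS hα)
  set π := QuotientGroup.mk' ((Inn P).subgroupOf (F.autGroup P)) with hπ
  let Rb : Sylow p (↥(F.autGroup P) ⧸ (Inn P).subgroupOf (F.autGroup P)) :=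
    R.mapSurjective (QuotientGroup.mk'_surjective _)
  have hmemR : ∀ a : ↥(F.autGroup P), π a ∈ Rb.toSubgroup → (a : MulAut P) ∈ autInducedBy S P := by
    intro a ha
    obtain ⟨b, hb, hba⟩ := ha
    rw [hR] at hb
    have h1 := (QuotientGroup.eq.1 hba : b⁻¹ * a ∈ _)
    have h2 := (autInducedBy S P).mul_mem (Subgroup.mem_subgroupOf.1 hb)
      (inn_le_autInducedBy hP (Subgroup.mem_subgroupOf.1 h1))
    simpa using h2
  have hnt : ∀ (a : ↥(F.autGroup P)) (g : Ω), g ∈ S → (∀ x ∈ P, autFun (a : MulAut P) x = g * x * g⁻¹) →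
      g ∉ P → π a ≠ 1 := by
    intro a g hg he hgP h
    have h1 : (a : MulAut P) ∈ Inn P := (QuotientGroup.eq_one_iff a).1 h
    rw [inn_eq_autInducedBy] at h1
    obtain ⟨r, hr, hre⟩ := mem_autInducedBy.1 h1
    have : r⁻¹ * g ∈ centralizerIn S P := by
      refine ⟨S.mul_mem (S.inv_mem (hP hr)) hg, fun x hx => ?_⟩
      have h3 : g * x * g⁻¹ = r * x * r⁻¹ := (he x hx).symm.trans (hre x hx)
      calc x * (r⁻¹ * g) = r⁻¹ * (r * x * r⁻¹) * g := by simp [mul_assoc]
        _ = r⁻¹ * g * x := by rw [← h3]; simp [mul_assoc]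
    exact hgP (by simpa using P.mul_mem hr (hc this))
  have hdvd : p ∣ Nat.card (↥(F.autGroup P) ⧸ (Inn P).subgroupOf (F.autGroup P)) := by
    obtain ⟨g, hgN, hgP⟩ := SetLike.exists_of_lt (lt_normalizerIn hS hPS)
    obtain ⟨α, hα, hαe⟩ := exists_autInducedBy hgN.1 hgN.2
    have hne := hnt ⟨α, autInducedBy_le_autGroup hP hα⟩ g hgN.1 hαe hgP
    have hmem : π ⟨α, autInducedBy_le_autGroup hP hα⟩ ∈ Rb.toSubgroup :=
      ⟨_, hR.ge (Subgroup.mem_subgroupOf.2 hα), rfl⟩
    haveI : Nontrivial ↥Rb.toSubgroup :=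
      (Subgroup.nontrivial_iff_ne_bot _).2 fun h => hne (by rw [h] at hmem; exact Subgroup.mem_bot.1 hmem)
    obtain ⟨n, hn, hcard⟩ := Rb.isPGroup'.nontrivial_iff_card.1 inferInstance
    exact (dvd_trans (hcard ▸ dvd_pow_self p hn.ne') (Subgroup.card_subgroup_dvd_card _))
  by_cases htop : Subgroup.closure (extSet F P) = F.autGroup P
  · left
    refine ⟨fun ⟨_, _, _, E, hE⟩ => ?_, htop⟩
    obtain ⟨E', hRE, hE'ne, hmem⟩ := spe_comap_conj hE Rb
    apply hE'ne
    have key : Subgroup.closure (extSet F P) ≤ (E'.comap π).map (F.autGroup P).subtype := by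
      refine (Subgroup.closure_le _).2 fun α hα => ?_
      obtain ⟨Q, f, hPQ, hf, hfe⟩ := mem_extSet.1 hα
      have hαA : α ∈ F.autGroup P := extSet_subset P hα
      haveI := finite_of_le hf.le
      obtain ⟨g, hgQ, hgP, hgn⟩ := exists_normalizing_of_lt (hS.to_le hf.le) hPQ
      obtain ⟨β, hβ, hβe⟩ := exists_autInducedBy (K := S) (hf.le hgQ) hgn
      refine ⟨⟨α, hαA⟩, ?_, rfl⟩
      set a : ↥(F.autGroup P) := ⟨α, hαA⟩
      set b : ↥(F.autGroup P) := ⟨β, autInducedBy_le_autGroup hP hβ⟩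
      have hb : π b ∈ E' := hRE ⟨b, hR.ge hβ, rfl⟩
      have hab : ((a * b * a⁻¹ : ↥(F.autGroup P)) : MulAut P) ∈ autInducedBy S P := by
        refine mem_autInducedBy.2 ⟨f g, hf.mem hgQ, fun x hx => ?_⟩
        simp only [Subgroup.coe_mul, InvMemClass.coe_inv, a, b]
        rw [autFun_mul _ _ hx, autFun_mul _ _ (autFun_mem _ hx), hβe _ (autFun_mem _ hx),
          ← hfe _ (conj_mem_of_normalizer hgn (autFun_mem _ hx)),
          hf.map_conj hgQ (hPQ.le (autFun_mem _ hx)), hfe _ (autFun_mem _ hx), autFun_inv_apply _ hx]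
      refine hmem (π (a * b * a⁻¹)) (π a) (hRE ⟨_, hR.ge (Subgroup.mem_subgroupOf.2 hab), rfl⟩) ?_ ?_ ?_
      · rw [map_mul, map_mul, map_inv]
        intro h
        exact hnt b g (hf.le hgQ) hβe hgP (conj_eq_one_iff.1 h)
      · exact isPGroup_zpowers_of_mem Rb.isPGroup'
          ⟨_, hR.ge (Subgroup.mem_subgroupOf.2 hab), rfl⟩
      · rw [map_mul, map_mul, map_inv]
        simpa [mul_assoc] using hb
    rw [eq_top_iff]
    intro y _
    obtain ⟨a, rfl⟩ := QuotientGroup.mk'_surjective _ y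
    obtain ⟨b, hb, hba⟩ := key (htop.ge a.2)
    obtain rfl : b = a := Subtype.ext hba
    exact hb
  right
  set H := Subgroup.closure (extSet F P) with hH
  have hY : IsStronglyPEmbedded p ((H.subgroupOf (F.autGroup P)).map π) := by
    refine spe_of Rb (Subgroup.map_mono hRH) hdvd (fun h => htop (le_antisymm hHA fun α hα => ?_))
      fun u x hu hu1 hup hux => ?_
    · obtain ⟨b, hb, hba⟩ := h.ge (Subgroup.mem_top (π ⟨α, hα⟩))
      have h1 := (QuotientGroup.eq.1 hba : b⁻¹ * ⟨α, hα⟩ ∈ _)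
      have h2 : ((b⁻¹ * ⟨α, hα⟩ : ↥(F.autGroup P)) : MulAut P) ∈ H :=
        Subgroup.subset_closure (aut_subset_extSet hS hPS
          (inn_le_autInducedBy hP (Subgroup.mem_subgroupOf.1 h1)))
      simpa using H.mul_mem (Subgroup.mem_subgroupOf.1 hb) h2
    set Y := (H.subgroupOf (F.autGroup P)).map π
    have hRY : Rb.toSubgroup ≤ Y := Subgroup.map_mono hRH
    have hconj : ∀ w ∈ Y, IsPGroup p ↥(Subgroup.zpowers w) → ∃ h ∈ Y, h * w * h⁻¹ ∈ Rb.toSubgroup := by
      intro w hw hwp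
      have hmap : (Subgroup.zpowers (⟨w, hw⟩ : ↥Y)).map Y.subtype = Subgroup.zpowers w :=
        MonoidHom.map_zpowers _ _
      have hwp' : IsPGroup p ↥(Subgroup.zpowers (⟨w, hw⟩ : ↥Y)) :=
        hwp.of_equiv ((MulEquiv.subgroupCongr hmap.symm).trans
          (Subgroup.equivMapOfInjective _ _ Y.subtype_injective).symm)
      obtain ⟨h, hh⟩ := exists_conj_mem_sylow (Rb.subtype hRY) hwp'
      exact ⟨h, h.2, hh⟩
    set v := x⁻¹ * u * x with hv
    have hvp : IsPGroup p ↥(Subgroup.zpowers v) := by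
      have hmap : (Subgroup.zpowers u).map (MulAut.conj x⁻¹).toMonoidHom = Subgroup.zpowers v := by
        rw [MonoidHom.map_zpowers]; simp [hv, mul_assoc]
      exact hmap ▸ hup.map _
    obtain ⟨h1, hh1, hu'⟩ := hconj u hu hup
    obtain ⟨h2, hh2, hv'⟩ := hconj v hux hvp
    suffices hy : h1 * x * h2⁻¹ ∈ Y by
      simpa [mul_assoc] using Y.mul_mem (Y.mul_mem (Y.inv_mem hh1) hy) hh2
    obtain ⟨c, hc'⟩ := QuotientGroup.mk'_surjective _ (h1 * x * h2⁻¹)
    obtain ⟨b, hb, hbv⟩ := hv'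
    rw [hR] at hb
    obtain ⟨g, hg, hge⟩ := mem_autInducedBy.1 (Subgroup.mem_subgroupOf.1 hb)
    have hgn := mem_normalizer_of_aut hge
    have hgP : g ∉ P := fun hgP => hu1 (by
      have : (b : MulAut P) ∈ Inn P := by
        rw [inn_eq_autInducedBy]; exact mem_autInducedBy.2 ⟨g, hgP, hge⟩
      have h0 : π b = 1 := (QuotientGroup.eq_one_iff b).2 this
      have h3 : h2 * v * h2⁻¹ = 1 := hbv.symm.trans h0
      rw [conj_eq_one_iff, hv] at h3
      exact conj_eq_one_iff.1 (show x⁻¹ * u * x⁻¹⁻¹ = 1 by rwa [inv_inv]))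
    have hcb : π (c * b * c⁻¹) = h1 * u * h1⁻¹ := by
      rw [map_mul, map_mul, map_inv, hc', show π b = h2 * v * h2⁻¹ from hbv, hv]
      group
    obtain ⟨s, hs, hse⟩ := mem_autInducedBy.1 (hmemR _ (hcb ▸ hu'))
    refine ⟨c, Subgroup.subset_closure (mem_extSet_of_conj hrec c.2 ⟨hg, hgn⟩ hgP hs fun y hy => ?_), hc'⟩
    have := hse _ (autFun_mem (c : MulAut P) hy)
    simp only [Subgroup.coe_mul, InvMemClass.coe_inv] at this
    rw [autFun_mul _ _ (autFun_mem _ hy), autFun_mul _ _ (autFun_mem _ (autFun_mem _ hy)),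
      ← autFun_mul (c : MulAut P)⁻¹ _ hy, inv_mul_cancel, autFun_one hy, hge y hy] at this
    exact this
  exact ⟨⟨hcen, hPn, hNorm, _, hY⟩, hNorm, hY⟩

omit [Fact p.Prime] in
theorem card_lt_of_lt {P Q : Subgroup Ω} (hQ : Q ≤ S) (h : P < Q) : Nat.card ↥P < Nat.card ↥Q := by
  haveI := finite_of_le hQ
  exact lt_of_not_ge fun hle => h.ne (Subgroup.eq_of_le_of_card_ge h.le hle)

/-- Induction principle behind the fusion theorem: to get every map into `E` it is enough to treat the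
automorphism groups of fully normalized subgroups, all maps from larger subgroups being in `E`. -/
theorem fusion_induction (hS : IsPGroup p S) (hF : F.IsSaturated p) (E : FusionSystem S)
    (hstep : ∀ R : Subgroup Ω, F.IsFullyNormalized R →
      (∀ Q : Subgroup Ω, Q ≤ S → Nat.card ↥R < Nat.card ↥Q → ∀ f, IsMap F Q f → IsMap E Q f) →
      F.autGroup R ≤ E.autGroup R) : F ≤ E := by
  suffices key : ∀ (n : ℕ) (P : Subgroup Ω), Nat.card S - Nat.card ↥P = n → ∀ f, IsMap F P f → IsMap E P f from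
    le_iff.2 fun P f hf => key _ P rfl f hf
  intro n
  induction n using Nat.strong_induction_on with
  | _ n ih =>
  intro P hn f hf
  rcases hf.le.eq_or_lt with rfl | hlt
  · have hi : img f P = P := Subgroup.eq_of_le_of_card_ge hf.img_le hf.card_img.ge
    exact (autGroup_le_iff le_rfl le_rfl).1 (hstep P fullyNormalized_top fun Q hQ hlt g _ =>
      absurd (Subgroup.card_le_of_le hQ) hlt.not_ge) f hf hi
  have big : ∀ Q : Subgroup Ω, Q ≤ S → Nat.card ↥P < Nat.card ↥Q → ∀ g, IsMap F Q g → IsMap E Q g :=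
    fun Q hQ hlt' g hg => ih _ (by have := Subgroup.card_le_of_le hQ; omega) Q rfl g hg
  have hcP : F.IsConj P (img f P) := isConj_iff.2 ⟨f, hf, rfl⟩
  obtain ⟨R, hPR, hR⟩ := exists_fullyNormalized (F := F) hf.le
  obtain ⟨g, hg, hgi, -⟩ := exists_normalizer_map_fn hS hF hR hPR
  obtain ⟨g', hg', hg'i, -⟩ := exists_normalizer_map_fn hS hF hR (isConj_trans (isConj_symm hcP) hPR)
  haveI := finite_of_le hR.1
  have hltQ : img f P < S := lt_of_le_of_ne hf.img_le fun h =>
    hlt.ne (Subgroup.eq_of_le_of_card_ge hlt.le (by rw [← h, hf.card_img]))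
  have hR' : ∀ α ∈ F.autGroup R, α ∈ E.autGroup R :=
    hstep R hR fun Q hQ hlt' => big Q hQ (card_eq_of_isConj hPR ▸ hlt')
  have hgE := (big _ (normalizerIn_le P) (card_lt_of_lt (normalizerIn_le P) (lt_normalizerIn hS hlt)) g hg).mono
    (le_normalizerIn hf.le)
  have hcard : Nat.card ↥(img f P) = Nat.card ↥P := hf.card_img
  have hg'E := (big _ (normalizerIn_le (img f P))
    (hcard ▸ card_lt_of_lt (normalizerIn_le _) (lt_normalizerIn hS hltQ)) g' hg').mono
    (le_normalizerIn hf.img_le)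
  obtain ⟨k, hk, hkl, -, -⟩ := hg'E.inv
  obtain ⟨l, hl, hll, hlr, hli⟩ := (hg.mono (le_normalizerIn hf.le)).inv
  rw [hgi] at hl hli
  have hm : IsMap F R ((g' ∘ f) ∘ l) :=
    hl.comp (hf.comp (hg'.mono (le_normalizerIn hf.img_le)) fun x hx => mem_img_of_mem hx)
      fun x hx => hli.le (mem_img_of_mem hx)
  have hmi : img ((g' ∘ f) ∘ l) R = R := by
    rw [hl.img_comp, hli, hf.img_comp, hg'i]
  have hmE : IsMap E R ((g' ∘ f) ∘ l) := (autGroup_le_iff hR.1 hR.1).1 hR' _ hm hmi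
  rw [hg'i] at hk
  refine ((hgE.comp hmE fun x hx => hgi ▸ mem_img_of_mem hx).comp hk fun x hx => ?_).congr fun x hx => ?_
  · exact hmi.le (mem_img_of_mem (hgi ▸ mem_img_of_mem hx))
  · simp only [Function.comp_apply]
    rw [hll x hx, hkl _ (mem_img_of_mem hx)]

/-- Alperin's fusion theorem: a system containing `Aut_F(S)` and the automorphism groups of the essential
subgroups contains `F`. -/
theorem alperin (hS : IsPGroup p S) (hF : F.IsSaturated p) (E : FusionSystem S)
    (hE : ∀ P : Subgroup Ω, (P = S ∨ F.IsEssential p P) → F.autGroup P ≤ E.autGroup P) : F ≤ E := by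
  refine fusion_induction hS hF E fun R hR big => ?_
  by_cases hRS : R = S
  · exact hE R (Or.inl hRS)
  by_cases hess : F.IsEssential p R
  · exact hE R (Or.inr hess)
  rcases essential_dichotomy hS hF (lt_of_le_of_ne hR.1 hRS) hR with ⟨-, htop⟩ | ⟨h, -⟩
  · rw [← htop]
    refine (Subgroup.closure_le _).2 fun β hβ => ?_
    obtain ⟨T, k, hRT, hk, hke⟩ := mem_extSet.1 hβ
    exact (mem_autGroup hR.1).2 (((big T hk.le (card_lt_of_lt hk.le hRT) k hk).mono hRT.le).congr hke)
  · exact absurd h hess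

end CfsgLib.Fus
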