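import Cfsg.Agent.Fus.TransferControl
import Cfsg.Agent.Inv.CharP

/-!
A functor controls strong fusion in every section when its value at a Sylow subgroup is normal in every constrained section.
-/

set_option autoImplicit false
set_option linter.style.haveILetI false

open Cfsg
open scoped commutatorElement

namespace CfsgLib.Glau

universe u

theorem Fus.of_hom {A B : Type*} [Group A] [Group B] {f : A →* B} (hf : Function.Injective f) {S H K : Subgroup A}
    (h : Fus S H K) : Fus (S.map f) (H.map f) (K.map f) := by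
  rintro X hX _ ⟨a, ha, rfl⟩ hXa
  obtain ⟨x, hx, hxe⟩ := h ((X.comap f) ⊓ S) inf_le_right a ha (by
    rintro _ ⟨y, hy, rfl⟩
    obtain ⟨s, hs, he⟩ := hXa (conj_mem_cj (g := f a) (x := f y) hy.1)
    show a * y * a⁻¹ ∈ S
    have h2 : s = a * y * a⁻¹ := hf (he.trans (by rw [map_mul, map_mul, map_inv]))
    rwa [← h2])
  refine ⟨f x, ⟨x, hx, rfl⟩, fun b hb => ?_⟩
  obtain ⟨s, hs, rfl⟩ := hX hb
  rw [← map_inv, ← map_mul, ← map_mul, hxe s ⟨hb, hs⟩, map_mul, map_mul, map_inv]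

theorem Fus.mono {G : Type*} [Group G] {S H K K' : Subgroup G} (h : Fus S H K) (hK : K ≤ K') : Fus S H K' :=
  fun B hB g hg hgB => by obtain ⟨x, hx, hxe⟩ := h B hB g hg hgB; exact ⟨x, hK hx, hxe⟩

section

variable {G : Type*} [Group G] [Finite G] {p : ℕ} [hp : Fact p.Prime]

theorem syl_sup {Y K : Subgroup G} [K.Normal] (hY : IsPGroup p Y) (hK : ¬ p ∣ Nat.card K) : Syl p Y (Y ⊔ K) := by
  refine ⟨le_sup_left, hY, fun hd => hK (hd.trans (Nat.dvd_of_mul_dvd_mul_left (Nat.card_pos (α := ↥Y)) ?_))⟩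
  have h2 := Subgroup.relIndex_mul_relIndex ⊥ Y (Y ⊔ K) bot_le le_sup_left
  have h3 := Subgroup.relIndex_mul_relIndex ⊥ K (Y ⊔ K) bot_le le_sup_right
  rw [Subgroup.relIndex_bot_left, Subgroup.relIndex_bot_left] at h2 h3
  rw [h2, ← h3, Subgroup.relIndex_sup_right, mul_comm (Nat.card ↥Y)]
  exact Nat.mul_dvd_mul_left _ (Subgroup.relIndex_dvd_card K Y)

theorem inf_eq_bot_of_card {Y K : Subgroup G} (hY : IsPGroup p Y) (hK : ¬ p ∣ Nat.card K) : Y ⊓ K = ⊥ :=
  eq_bot_iff.2 fun x hx => by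
    obtain ⟨k, hk⟩ := pow_eq_one_of_mem hY hx.1
    exact mem_of_pow_coprime hK hk (by
      rw [show x ^ Nat.card K = 1 from congrArg Subtype.val (pow_card_eq_one' (x := (⟨x, hx.2⟩ : ↥K)))]
      exact one_mem _)

/-- A normal subgroup with central Sylow subgroup inside `P` lies in `P` when `O_{p'}` is trivial. -/
theorem le_of_central_sylow {S C P : Subgroup G} [C.Normal] (hK : pPrimeCore p G = ⊥) (hS : Syl p S ⊤)
    (hRc : ∀ r ∈ S ⊓ C, ∀ c ∈ C, r * c = c * r) (hR : S ⊓ C ≤ P) : C ≤ P := by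
  have hRs : Syl p (S ⊓ C) C := by
    have := hS.inf_normal (N := C) (le_of_le_of_eq le_top (Subgroup.normalizer_eq_top_iff.2 inferInstance).symm)
    rwa [top_inf_eq] at this
  let Q := hRs.toSylow
  have hQ : Subgroup.normalizer ((Q : Subgroup ↥C) : Set ↥C) ≤ Subgroup.centralizer ((Q : Subgroup ↥C) : Set ↥C) := by
    intro c _ r hr
    have hr' : (r : G) ∈ S ⊓ C := by
      have : r ∈ (hRs.toSylow : Subgroup ↥C) := hr
      rwa [hRs.coe_toSylow] at this
    exact Subtype.ext (hRc r hr' c c.2)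
  have hcomp := MonoidHom.ker_transferSylow_isComplement' Q hQ
  set K := (MonoidHom.transferSylow Q hQ).ker
  have hKc : (Nat.card K).Coprime p := by
    have h1 := hcomp.index_eq_card
    have h2 := hcomp.card_mul
    rw [Nat.coprime_comm, hp.out.coprime_iff_not_dvd]
    intro hd
    refine hRs.idx ?_
    have h3 : (Q : Subgroup ↥C).index = Nat.card K := hcomp.index_eq_card
    rw [hRs.coe_toSylow] at h3
    exact (hd.trans h3.symm.dvd)
  have hK0 : K = ⊥ := by
    have hle : K.map C.subtype ≤ pPrimeCore p G ⊓ C := by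
      rw [← CfsgLib.Solv.map_pPrimeCore_subtype_eq_inf]
      exact Subgroup.map_mono (CfsgLib.Solv.le_pPrimeCore hKc)
    rw [hK, bot_inf_eq, le_bot_iff, Subgroup.map_eq_bot_iff_of_injective _ C.subtype_injective] at hle
    exact hle
  have hQtop : (Q : Subgroup ↥C) = ⊤ := by
    have := hcomp.sup_eq_top
    rwa [hK0, bot_sup_eq] at this
  rw [hRs.coe_toSylow, Subgroup.subgroupOf_eq_top] at hQtop
  exact hQtop.trans hR

/-- Strong fusion modulo a normal `p'`-subgroup lifts. -/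
theorem fus_of_quotient {S N K : Subgroup G} [K.Normal] (hS : IsPGroup p S) (hK : ¬ p ∣ Nat.card K) (hSN : S ≤ N)
    (h : Fus (S.map (QuotientGroup.mk' K)) ⊤ (N.map (QuotientGroup.mk' K))) : Fus S ⊤ N := by
  intro B hB g _ hgB
  let π := QuotientGroup.mk' K
  obtain ⟨_, ⟨n, hn, rfl⟩, hne⟩ := h (B.map π) (Subgroup.map_mono hB) (π g) trivial (by
    rw [← map_cj]; exact Subgroup.map_mono hgB)
  have he : ∀ b ∈ B, (g * b * g⁻¹)⁻¹ * (n * b * n⁻¹) ∈ K := fun b hb => (QuotientGroup.eq_one_iff _).1 (by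
    show π ((g * b * g⁻¹)⁻¹ * (n * b * n⁻¹)) = 1
    rw [map_mul, map_inv, map_mul, map_mul, map_inv, map_mul, map_mul, map_inv, hne _ ⟨b, hb, rfl⟩, inv_mul_cancel])
  set B' := cj g B with hB'
  have hB'p : IsPGroup p B' := hS.to_le hgB
  set X := (B' ⊔ K) ⊓ N with hX
  have hX' : Syl p B' X := (syl_sup hB'p hK).mono (le_inf le_sup_left (hgB.trans hSN)) inf_le_left
  have hnB : cj n B ≤ X := by
    rintro _ ⟨b, hb, rfl⟩
    refine ⟨?_, N.mul_mem (N.mul_mem hn (hSN (hB hb))) (N.inv_mem hn)⟩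
    show n * b * n⁻¹ ∈ B' ⊔ K
    rw [show n * b * n⁻¹ = g * b * g⁻¹ * ((g * b * g⁻¹)⁻¹ * (n * b * n⁻¹)) by group]
    exact mul_mem (Subgroup.mem_sup_left (conj_mem_cj hb)) (Subgroup.mem_sup_right (he b hb))
  obtain ⟨x, hx, hxle⟩ := hX'.exists_conj_le hnB ((hS.to_le hB).map _)
  obtain ⟨b', hb', k, hk, rfl⟩ := Subgroup.mem_sup_of_normal_right.1 hx.1
  have hkN : k ∈ N := by
    have := N.mul_mem (N.inv_mem (hgB.trans hSN hb')) hx.2
    rwa [inv_mul_cancel_left] at this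
  refine ⟨k * n, N.mul_mem hkN hn, fun b hb => ?_⟩
  have h1 : k * n * b * (k * n)⁻¹ ∈ B' := by
    have h2 := hxle (conj_mem_cj (g := b' * k) (conj_mem_cj (g := n) hb))
    have h3 := B'.mul_mem (B'.mul_mem (B'.inv_mem hb') h2) hb'
    simpa [mul_assoc] using h3
  refine (inv_mul_eq_one.1 ?_).symm
  have hmem : (g * b * g⁻¹)⁻¹ * (k * n * b * (k * n)⁻¹) ∈ B' ⊓ K := by
    refine ⟨B'.mul_mem (B'.inv_mem (conj_mem_cj hb)) h1, ?_⟩
    rw [show (g * b * g⁻¹)⁻¹ * (k * n * b * (k * n)⁻¹) =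
      (g * b * g⁻¹)⁻¹ * (n * b * n⁻¹) * (((n * b * n⁻¹)⁻¹ * k * (n * b * n⁻¹)) * k⁻¹) by group]
    refine K.mul_mem (he b hb) (K.mul_mem ?_ (K.inv_mem hk))
    simpa [mul_assoc] using (inferInstance : K.Normal).conj_mem k hk (n * b * n⁻¹)⁻¹
  rwa [inf_eq_bot_of_card hB'p hK, Subgroup.mem_bot] at hmem

/-- When the elements of order prime to `p` centralize the normal `p`-subgroup `P`, strong fusion modulo `P` lifts. -/
theorem fus_of_pquotient {S M P : Subgroup G} [P.Normal] (hS : Syl p S ⊤) (hPS : P ≤ S) (hSM : S ≤ M)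
    (hcent : ∀ x : G, (orderOf x).Coprime p → x ∈ Subgroup.centralizer (P : Set G))
    (h : Fus (S.map (QuotientGroup.mk' P)) ⊤ (M.map (QuotientGroup.mk' P))) : Fus S ⊤ M := by
  let π := QuotientGroup.mk' P
  -- fusion into an extremal subgroup
  have main : ∀ (B : Subgroup G) (w : G), P ≤ B → B ≤ S → cj w B ≤ S → Ext p ⊤ S (cj w B) →
      ∃ x ∈ M, ∀ b ∈ B, x * b * x⁻¹ = w * b * w⁻¹ := by
    intro B w hPB hBS hwS he
    set A := cj w B with hA
    obtain ⟨_, ⟨x, hx, rfl⟩, hxe⟩ := h (B.map π) (Subgroup.map_mono hBS) (π w) trivial (by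
      rw [← map_cj]; exact Subgroup.map_mono hwS)
    have hPA : P ≤ A := (mem_normalizer_iff_cj.1 (by
      rw [Subgroup.normalizer_eq_top_iff.2 (inferInstance : P.Normal)]; trivial : w ∈ _)).ge.trans (cj_mono w hPB)
    let D : Subgroup G :=
      { carrier := {y | y ∈ Subgroup.normalizer (A : Set G) ∧ ∀ a ∈ A, π (y * a * y⁻¹) = π a}
        one_mem' := ⟨one_mem _, fun a _ => by simp⟩
        mul_mem' := fun {y z} hy hz => ⟨mul_mem hy.1 hz.1, fun a ha => by
          rw [show y * z * a * (y * z)⁻¹ = y * (z * a * z⁻¹) * y⁻¹ by group,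
            hy.2 _ ((Subgroup.mem_normalizer_iff.1 hz.1 a).1 ha), hz.2 a ha]⟩
        inv_mem' := fun {y} hy => ⟨inv_mem hy.1, fun a ha => by
          have h1 := hy.2 _ ((Subgroup.mem_normalizer_iff.1 (inv_mem hy.1) a).1 ha)
          rw [show y * (y⁻¹ * a * y⁻¹⁻¹) * y⁻¹ = a by group] at h1
          exact h1.symm⟩ }
    have hDN : D ≤ ⊤ ⊓ Subgroup.normalizer (A : Set G) := fun y hy => ⟨trivial, hy.1⟩
    have hDn : ⊤ ⊓ Subgroup.normalizer (A : Set G) ≤ Subgroup.normalizer (D : Set G) := by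
      intro m hm
      have key : ∀ m ∈ Subgroup.normalizer (A : Set G), ∀ y ∈ D, m * y * m⁻¹ ∈ D := fun m hm y hy =>
        ⟨mul_mem (mul_mem hm hy.1) (inv_mem hm), fun a ha => by
          have ha' : m⁻¹ * a * m ∈ A := (Subgroup.mem_normalizer_iff''.1 hm a).1 ha
          rw [show m * y * m⁻¹ * a * (m * y * m⁻¹)⁻¹ = m * (y * (m⁻¹ * a * m) * y⁻¹) * m⁻¹ by group, map_mul,
            map_mul, hy.2 _ ha', ← map_mul, ← map_mul, show m * (m⁻¹ * a * m) * m⁻¹ = a by group]⟩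
      exact Subgroup.mem_normalizer_iff.2 fun y => ⟨key m hm.2 y, fun h' => by
        simpa [mul_assoc] using key m⁻¹ (inv_mem hm.2) _ h'⟩
    have hSD : Syl p (S ⊓ Subgroup.normalizer (A : Set G) ⊓ D) D := by
      have h1 := (he.syl hS).inf_normal hDn
      rwa [inf_eq_right.2 hDN] at h1
    let f : ↥D →* MulAut ↥A := (Subgroup.normalizerMonoidHom A).comp (Subgroup.inclusion fun y hy => hy.1)
    have hf : ∀ (y : ↥D) (a : ↥A), ((f y a : ↥A) : G) = y * a * (y : G)⁻¹ := fun y a => rfl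
    have hAp : IsPGroup p A := hS.pg.to_le hwS
    have hrp : IsPGroup p ↥((⊤ : Subgroup ↥D).map f) := by
      rintro ⟨_, y, -, rfl⟩
      refine ⟨(orderOf (y : G)).factorization p, Subtype.ext ?_⟩
      show f y ^ _ = 1
      rw [← map_pow]
      refine MulEquiv.ext fun a => Subtype.ext ?_
      rw [hf, MulAut.one_apply, mul_inv_eq_iff_eq_mul]
      set z := ((y ^ p ^ (orderOf (y : G)).factorization p : ↥D) : G) with hz
      have hzc : (orderOf z).Coprime p := by
        rw [hz, SubmonoidClass.coe_pow, orderOf_pow_of_dvd (pow_ne_zero _ hp.out.ne_zero) (Nat.ordProj_dvd _ _)]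
        exact (Nat.coprime_ordCompl hp.out (orderOf_pos _).ne').symm
      have hzD : z ∈ D := (y ^ p ^ _ : ↥D).2
      refine ((CfsgLib.Inv.kill_of_nilpotent hAp hzc hzD.1 (n := 2) (eq_bot_iff.2 ?_)) (a : G) a.2).symm
      show ⁅⁅A, Subgroup.zpowers z⁆, Subgroup.zpowers z⁆ ≤ ⊥
      refine (Subgroup.commutator_mono (K₁ := P) (Subgroup.commutator_le.2 fun c hc q hq =>
        (QuotientGroup.eq_one_iff _).1 ?_) le_rfl).trans
        (Subgroup.commutator_eq_bot_iff_le_centralizer.2 fun v hv q hq => ?_).le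
      · obtain ⟨j, rfl⟩ := Subgroup.mem_zpowers_iff.1 hq
        show π ⁅c, z ^ j⁆ = 1
        rw [map_commutatorElement, map_zpow]
        refine commutatorElement_eq_one_iff_commute.2 (Commute.zpow_left ?_ j).symm
        exact mul_inv_eq_iff_eq_mul.1 (by rw [← map_inv, ← map_mul, ← map_mul]; exact hzD.2 c hc)
      · obtain ⟨j, rfl⟩ := Subgroup.mem_zpowers_iff.1 hq
        exact ((show Commute z v from (hcent z hzc v hv).symm).zpow_left j).eq
    have htop := ((hSD.subgroupOf).map f).eq_of_le (Subgroup.map_mono le_top) le_rfl hrp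
    have hyD : x * w⁻¹ ∈ D := by
      have key : ∀ a ∈ A, π (x * w⁻¹ * a * (x * w⁻¹)⁻¹) = π a := by
        rintro _ ⟨b, hb, rfl⟩
        show π (x * w⁻¹ * (w * b * w⁻¹) * (x * w⁻¹)⁻¹) = π (w * b * w⁻¹)
        rw [show x * w⁻¹ * (w * b * w⁻¹) * (x * w⁻¹)⁻¹ = x * b * x⁻¹ by group, map_mul, map_mul, map_inv,
          hxe _ ⟨b, hb, rfl⟩, map_mul, map_mul, map_inv]
      refine ⟨mem_normalizer_iff_cj.2 (Subgroup.eq_of_le_of_card_ge ?_ (card_cj _ A).ge), key⟩
      rintro _ ⟨a, ha, rfl⟩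
      show x * w⁻¹ * a * (x * w⁻¹)⁻¹ ∈ A
      have h2 : a⁻¹ * (x * w⁻¹ * a * (x * w⁻¹)⁻¹) ∈ P := QuotientGroup.eq.1 (key a ha).symm
      have h3 := A.mul_mem ha (hPA h2)
      rwa [mul_inv_cancel_left] at h3
    obtain ⟨s, hs, hsf⟩ : f ⟨_, hyD⟩ ∈ ((S ⊓ Subgroup.normalizer (A : Set G) ⊓ D).subgroupOf D).map f :=
      htop.symm ▸ (⟨_, trivial, rfl⟩ : f ⟨_, hyD⟩ ∈ (⊤ : Subgroup ↥D).map f)
    refine ⟨(s : G)⁻¹ * x, M.mul_mem (M.inv_mem (hSM hs.1.1)) hx, fun b hb => ?_⟩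
    have h4 : (s : G) * (w * b * w⁻¹) * (s : G)⁻¹ = x * w⁻¹ * (w * b * w⁻¹) * (x * w⁻¹)⁻¹ :=
      congrArg (fun φ : MulAut ↥A => ((φ ⟨_, conj_mem_cj (g := w) hb⟩ : ↥A) : G)) hsf
    rw [show (s : G)⁻¹ * x * b * ((s : G)⁻¹ * x)⁻¹ =
      (s : G)⁻¹ * (x * w⁻¹ * (w * b * w⁻¹) * (x * w⁻¹)⁻¹) * s by group, ← h4]
    group
  intro B hB g _ hgB
  set C := B ⊔ P with hC
  have hCS : C ≤ S := sup_le hB hPS
  have hPg : cj g P = P := mem_normalizer_iff_cj.1 (by
    rw [Subgroup.normalizer_eq_top_iff.2 (inferInstance : P.Normal)]; trivial)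
  have hgC : cj g C ≤ S := by
    rw [hC, cj, Subgroup.map_sup]; exact sup_le hgB (hPg.le.trans hPS)
  obtain ⟨w, -, hw, hwe, -⟩ := exists_extremal hS hCS
  obtain ⟨x₁, hx₁, he₁⟩ := main C w le_sup_right hCS hw hwe
  obtain ⟨x₂, hx₂, he₂⟩ := main (cj g C) (w * g⁻¹) (hPg.ge.trans (cj_mono g le_sup_right)) hgC
    (by rw [cj_mul, cj_inv_cj]; exact hw) (by rw [cj_mul, cj_inv_cj]; exact hwe)
  refine ⟨x₂⁻¹ * x₁, M.mul_mem (M.inv_mem hx₂) hx₁, fun b hb => ?_⟩
  have hbC : b ∈ C := Subgroup.mem_sup_left hb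
  have h2 := he₂ _ (conj_mem_cj (g := g) hbC)
  rw [show x₂⁻¹ * x₁ * b * (x₂⁻¹ * x₁)⁻¹ = x₂⁻¹ * (x₁ * b * x₁⁻¹) * x₂ by group, he₁ b hbC,
    show w * b * w⁻¹ = w * g⁻¹ * (g * b * g⁻¹) * (w * g⁻¹)⁻¹ by group, ← h2]
  group

end

section

/-- A functor whose value at a Sylow subgroup is normal in every constrained section controls strong fusion in every section. -/
theorem fusion_of_core {G : Type u} [Group G] [Finite G] {p : ℕ} [hp : Fact p.Prime]
    (W : ∀ (Q : Type u) [Group Q], Subgroup Q) (hW : IsCharPFunctor.{u} p W)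
    (hcore : ∀ (Γ : Type u) [Group Γ] [Finite Γ], IsSec G Γ →
      Subgroup.centralizer (pCore p Γ : Set Γ) ≤ pCore p Γ → ∀ S : Sylow p Γ,
        (inducedFunctor W (S : Subgroup Γ)).Normal) :
    ∀ (Γ : Type u) [Group Γ] [Finite Γ], IsSec G Γ → ∀ (H S : Subgroup Γ), Syl p S H →
      Fus S H (H ⊓ Subgroup.normalizer (inducedFunctor W S : Set Γ)) := by
  suffices key : ∀ (n : ℕ) (Γ : Type u) [Group Γ] [Finite Γ], IsSec G Γ → Nat.card Γ = n →
      ∀ S : Subgroup Γ, Syl p S ⊤ → Fus S ⊤ (Subgroup.normalizer (inducedFunctor W S : Set Γ)) by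
    intro Γ _ _ hsec H S hS
    have h := Fus.of_hom H.subtype_injective (key _ ↥H (hsec.subgroup H) rfl _ hS.subgroupOf)
    rw [← top_inf_eq (Subgroup.normalizer _), map_inf_normalizer H.subtype_injective,
      ← ind_map hW H.subtype (Q := S.subgroupOf H) hS.pg.comap_subtype H.subtype_injective.injOn, ← MonoidHom.range_eq_map,
      H.range_subtype, Subgroup.map_subgroupOf_eq_of_le hS.le] at h
    exact h
  intro n
  induction n using Nat.strong_induction_on with
  | _ n ih =>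
  intro Γ _ _ hsec hn S hS
  subst hn
  have hsub : ∀ (H T : Subgroup Γ), H ≠ ⊤ → Syl p T H →
      Fus T H (H ⊓ Subgroup.normalizer (inducedFunctor W T : Set Γ)) := by
    intro H T hne hT
    have hlt : Nat.card H < Nat.card Γ :=
      lt_of_le_of_ne (Nat.card_le_card_of_injective _ H.subtype_injective) fun he =>
        hne (Subgroup.eq_top_of_card_eq _ he)
    have h := Fus.of_hom H.subtype_injective (ih _ hlt ↥H (hsec.subgroup H) rfl _ hT.subgroupOf)
    rw [← top_inf_eq (Subgroup.normalizer _), map_inf_normalizer H.subtype_injective,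
      ← ind_map hW H.subtype (Q := T.subgroupOf H) hT.pg.comap_subtype H.subtype_injective.injOn, ← MonoidHom.range_eq_map,
      H.range_subtype, Subgroup.map_subgroupOf_eq_of_le hT.le] at h
    exact h
  have hWc := KInf.inducedFunctor_conjugacy (G := Γ) hW
  set WS := inducedFunctor W S with hWS
  set N := Subgroup.normalizer (WS : Set Γ) with hN
  have hSN : S ≤ N := Subgroup.le_normalizer.trans (functor_normalizer hWc hS.pg)
  by_cases hK : pPrimeCore p Γ ≠ ⊥
  · haveI := CfsgLib.Solv.pPrimeCore_normal Γ p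
    set K := pPrimeCore p Γ with hKdef
    have hKc : ¬ p ∣ Nat.card K := CfsgLib.Solv.not_dvd_card_pPrimeCore
    let π := QuotientGroup.mk' K
    have hπ : Function.Surjective π := QuotientGroup.mk'_surjective K
    have hlt : Nat.card (Γ ⧸ K) < Nat.card Γ := by
      rw [← K.index_eq_card, ← K.card_mul_index]
      exact lt_mul_left K.index_ne_zero_of_finite.bot_lt ((Subgroup.one_lt_card_iff_ne_bot K).2 hK)
    have hinj : Set.InjOn π (S : Set Γ) := fun x hx y hy he => by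
      have : x⁻¹ * y ∈ S ⊓ K := ⟨S.mul_mem (S.inv_mem hx) hy, QuotientGroup.eq.1 he⟩
      rw [inf_eq_bot_of_card hS.pg hKc, Subgroup.mem_bot, inv_mul_eq_one] at this
      exact this
    have hSb := hS.map π
    rw [Subgroup.map_top_of_surjective π hπ] at hSb
    have hb := ih _ hlt (Γ ⧸ K) (hsec.of_surjective hπ) rfl _ hSb
    rw [ind_map hW π hS.pg hinj, ← hWS] at hb
    refine fus_of_quotient hS.pg hKc hSN (hb.mono ?_)
    rw [← map_top_normalizer hπ, Subgroup.map_le_iff_le_comap, Subgroup.comap_map_eq, QuotientGroup.ker_mk']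
    intro m hm
    set X := WS ⊔ K with hX
    have hX' : (WS.map π).comap π = X := by rw [Subgroup.comap_map_eq, QuotientGroup.ker_mk']
    have hm' : cj m X = X := mem_normalizer_iff_cj.1 (hX' ▸ hm)
    obtain ⟨x, hx, hxle⟩ := (syl_sup (hS.pg.to_le (hWc S hS.pg).1) hKc).exists_conj_le
      ((cj_mono m le_sup_left).trans hm'.le) (isPGroup_cj m (hS.pg.to_le (hWc S hS.pg).1))
    rw [← cj_mul] at hxle
    have h1 : x * m ∈ N := mem_normalizer_iff_cj.2 (Subgroup.eq_of_le_of_card_ge hxle (card_cj (x * m) WS).ge)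
    have h2 : x ∈ N ⊔ K := sup_le_sup_right ((hWc S hS.pg).1.trans hSN) K hx
    have := mul_mem (inv_mem h2) (Subgroup.mem_sup_left h1 (T := K))
    rw [inv_mul_cancel_left] at this
    rwa [Subgroup.comap_map_eq, QuotientGroup.ker_mk']
  rw [not_not] at hK
  haveI := CfsgLib.Solv.pCore_normal Γ p
  set P := pCore p Γ with hPdef
  have hPp : IsPGroup p ↥P := CfsgLib.Solv.pCore_isPGroup Γ p
  by_cases hP : P = ⊥
  · refine (fus_global hWc hS fun T hT0 hT => hsub _ _ (fun htop => hT0 ?_) ((hT.2 0).syl hS)).mono inf_le_right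
    rw [top_inf_eq, Subgroup.normalizer_eq_top_iff] at htop
    exact eq_bot_iff.2 (hP ▸ CfsgLib.Solv.le_pCore (hN := htop) (hS.pg.to_le hT.1))
  have hPN : (⊤ : Subgroup Γ) ≤ Subgroup.normalizer (P : Set Γ) :=
    (Subgroup.normalizer_eq_top_iff.2 inferInstance).ge
  have hPS : P ≤ S := hS.normal_le le_top hPp hPN
  set C := Subgroup.centralizer (P : Set Γ) with hCdef
  haveI : C.Normal := Subgroup.normalizer_eq_top_iff.1 (eq_top_iff.2
    (hPN.trans (normalizer_le_centralizer_normalizer P)))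
  by_cases hCP : C ≤ P
  · have hn : WS.Normal := by
      have h := hcore Γ hsec hCP ⟨S, hS.pg, fun {Q} hQ hle => (hS.eq_of_le hle le_top hQ)⟩
      exact h
    intro B _ g _ _
    refine ⟨g, ?_, fun b _ => rfl⟩
    rw [hN, Subgroup.normalizer_eq_top_iff.2 hn]; trivial
  by_cases hM : C ⊔ S ≠ ⊤
  · set M := C ⊔ S with hMdef
    set R := S ⊓ (P ⊔ C) with hR
    have hRn : Subgroup.normalizer (R : Set Γ) ≠ ⊤ := by
      intro htop
      have hRP : R ≤ P := CfsgLib.Solv.le_pCore (hN := Subgroup.normalizer_eq_top_iff.1 htop)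
        (hS.pg.to_le inf_le_left)
      -- then `C` is contained in `P`
      have hRc : ∀ r ∈ S ⊓ C, ∀ c ∈ C, r * c = c * r := fun r hr c hc =>
        hc r (hRP ⟨hr.1, Subgroup.mem_sup_right hr.2⟩)
      exact hCP (CfsgLib.Glau.le_of_central_sylow hK hS hRc ((inf_le_inf_left S le_sup_right).trans hRP))
    have hSR : S ≤ Subgroup.normalizer (R : Set Γ) := fun s hs => mem_normalizer_iff_cj.2 (by
      rw [hR, cj_inf, cj_eq_of_mem hs, mem_normalizer_iff_cj.1 (by
        rw [Subgroup.normalizer_eq_top_iff.2 inferInstance]; trivial : s ∈ Subgroup.normalizer ((P ⊔ C : Subgroup Γ) : Set Γ))])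
    have hfM := (hsub M S hM (hS.mono le_sup_right le_top)).mono (inf_le_right : _ ≤ N)
    have hfR := (hsub _ S hRn (hS.mono hSR le_top)).mono (inf_le_right : _ ≤ N)
    intro B hB g _ hgB
    -- `g = k c` with `k` normalizing `R` and `c` centralizing `P`
    obtain ⟨n, hn, k, hk, hg⟩ := frattini hS (N := P ⊔ C)
      (Subgroup.normalizer_eq_top_iff.2 inferInstance).ge (Subgroup.mem_top g)
    obtain ⟨v, hv, c, hc, rfl⟩ := Subgroup.mem_sup_of_normal_left.1 hn.2
    have hvR : v ∈ Subgroup.normalizer (R : Set Γ) := hSR (hPS hv)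
    set k' := v * k with hk'
    have hk'R : k' ∈ Subgroup.normalizer (R : Set Γ) := mul_mem hvR hk.2
    set c' := k'⁻¹ * g with hc'
    have hc'C : c' ∈ C := by
      rw [hc', hg, hk', show (v * k)⁻¹ * (v * c * k) = k⁻¹ * c * k⁻¹⁻¹ by group]
      exact (inferInstance : C.Normal).conj_mem c hc k⁻¹
    -- move the image into `S` inside `M ⊓ N(R)`
    have hB1 : cj c' B ≤ M ⊓ Subgroup.normalizer (R : Set Γ) := by
      refine le_inf ((cj_mono c' (hB.trans le_sup_right)).trans (cj_eq_of_mem (Subgroup.mem_sup_left hc'C)).le) ?_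
      rw [hc', cj_mul]
      exact (cj_mono _ (hgB.trans hSR)).trans (cj_eq_of_mem (inv_mem hk'R)).le
    obtain ⟨m, hm, hmle⟩ := (hS.mono (le_inf le_sup_right hSR) le_top).exists_conj_le hB1
      (isPGroup_cj c' (hS.pg.to_le hB))
    rw [← cj_mul] at hmle
    obtain ⟨x₁, hx₁, he₁⟩ := hfM B hB (m * c') (M.mul_mem hm.1 (Subgroup.mem_sup_left hc'C)) hmle
    obtain ⟨x₂, hx₂, he₂⟩ := hfR (cj (m * c') B) hmle (k' * m⁻¹) (mul_mem hk'R (inv_mem hm.2)) (by
      rw [← cj_mul, show k' * m⁻¹ * (m * c') = g by rw [hc']; group]; exact hgB)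
    refine ⟨x₂ * x₁, N.mul_mem hx₂ hx₁, fun b hb => ?_⟩
    rw [show x₂ * x₁ * b * (x₂ * x₁)⁻¹ = x₂ * (x₁ * b * x₁⁻¹) * x₂⁻¹ by group, he₁ b hb, he₂ _ (conj_mem_cj hb),
      hc']
    group
  rw [not_not] at hM
  -- elements of order prime to `p` centralize `P`
  have hcent : ∀ x : Γ, (orderOf x).Coprime p → x ∈ C := by
    intro x hx
    have hq : IsPGroup p (Γ ⧸ C) := by
      have h1 : (S.map (QuotientGroup.mk' C)) = ⊤ := by
        rw [← Subgroup.map_top_of_surjective _ (QuotientGroup.mk'_surjective C), ← hM, Subgroup.map_sup,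
          (Subgroup.map_eq_bot_iff _).2 (QuotientGroup.ker_mk' C).ge, bot_sup_eq]
      exact (h1 ▸ hS.pg.map _ : IsPGroup p (⊤ : Subgroup (Γ ⧸ C))).of_equiv Subgroup.topEquiv
    obtain ⟨k, hk⟩ := hq (x : Γ ⧸ C)
    obtain ⟨j, hj⟩ := exists_pow_eq_self_of_coprime ((hx.symm.pow_left k))
    rw [← hj]
    exact C.pow_mem ((QuotientGroup.eq_one_iff _).1 hk) j
  let π := QuotientGroup.mk' P
  have hπ : Function.Surjective π := QuotientGroup.mk'_surjective P
  have hlt : Nat.card (Γ ⧸ P) < Nat.card Γ := by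
    rw [← P.index_eq_card, ← P.card_mul_index]
    exact lt_mul_left P.index_ne_zero_of_finite.bot_lt ((Subgroup.one_lt_card_iff_ne_bot P).2 hP)
  have hSb := hS.map π
  rw [Subgroup.map_top_of_surjective π hπ] at hSb
  have hb := ih _ hlt (Γ ⧸ P) (hsec.of_surjective hπ) rfl _ hSb
  have hWb := KInf.inducedFunctor_conjugacy (G := Γ ⧸ P) hW
  set Y := inducedFunctor W (S.map π) with hY
  set M := (Subgroup.normalizer (Y : Set (Γ ⧸ P))).comap π with hMdef
  have hSM : S ≤ M := Subgroup.map_le_iff_le_comap.1 (Subgroup.le_normalizer.trans (functor_normalizer hWb hSb.pg))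
  have hMtop : M ≠ ⊤ := by
    intro htop
    have hYn : Y.Normal := Subgroup.normalizer_eq_top_iff.1 (by
      rw [← Subgroup.map_comap_eq_self_of_surjective hπ (Subgroup.normalizer _), ← hMdef, htop,
        Subgroup.map_top_of_surjective π hπ])
    refine (hWb (S.map π) hSb.pg).2.1 ?_ ?_
    · rw [ne_eq, Subgroup.map_eq_bot_iff, QuotientGroup.ker_mk']
      intro hSP
      exact hCP (le_of_central_sylow hK hS (fun r hr c hc => hc r (hSP hr.1)) (inf_le_left.trans hSP))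
    · have hYP : Y.comap π ≤ P := CfsgLib.Solv.le_pCore (hN := hYn.comap π) (hS.pg.to_le (by
        refine (Subgroup.comap_mono (hWb (S.map π) hSb.pg).1).trans ?_
        rw [Subgroup.comap_map_eq, QuotientGroup.ker_mk']
        exact sup_le le_rfl hPS))
      show Y = ⊥
      rw [← Subgroup.map_comap_eq_self_of_surjective hπ Y, Subgroup.map_eq_bot_iff, QuotientGroup.ker_mk']
      exact hYP
  have hfus : Fus S ⊤ M := fus_of_pquotient hS hPS hSM hcent (by
    rw [hMdef, Subgroup.map_comap_eq_self_of_surjective hπ]; exact hb)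
  intro B hB g hg hgB
  obtain ⟨x, hx, hxe⟩ := hfus B hB g hg hgB
  obtain ⟨y, hy, hye⟩ := hsub M S hMtop (hS.mono hSM le_top) B hB x hx (by
    rintro _ ⟨b, hb, rfl⟩
    show x * b * x⁻¹ ∈ S
    rw [hxe b hb]; exact hgB (conj_mem_cj hb))
  exact ⟨y, hy.2, fun b hb => (hye b hb).trans (hxe b hb)⟩

end

end CfsgLib.Glau
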