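import Cfsg.Agent.Fus.Normal

/-!
Essential subgroups are needed to generate a saturated system.
-/

set_option autoImplicit false
set_option linter.style.haveILetI false

open Cfsg Cfsg.FusionSystem

namespace CfsgLib.Fus

variable {Ω : Type*} [Group Ω] {S : Subgroup Ω} {p : ℕ}

/-- The maps satisfying an extra condition, closed under conjugation, composition and inverses. -/
def subSystem (F : FusionSystem S) (C : Subgroup Ω → (Ω → Ω) → Prop)
    (hcongr : ∀ P f g, (∀ x ∈ P, f x = g x) → C P f → C P g)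
    (hconj : ∀ P a, P ≤ S → a ∈ S → C P (conjF a))
    (hcomp : ∀ P R f g, IsMap F P f → IsMap F R g → C P f → C R g → (∀ x ∈ P, f x ∈ R) → C P (g ∘ f))
    (hinv : ∀ P f g, IsMap F P f → C P f → IsMap F (img f P) g → (∀ x ∈ P, g (f x) = x) →
      C (img f P) g) : FusionSystem S where
  Hom P := {φ | φ ∈ F.Hom P ∧ C P (ev φ)}
  le_of_mem h := F.le_of_mem h.1
  injective_of_mem h := F.injective_of_mem h.1
  conj_mem := fun {P a} hP ha => ⟨F.conj_mem hP ha,
    hcongr P _ _ (fun x hx => (ev_of_mem (conjHom P a) hx).symm) (hconj P a hP ha)⟩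
  comp_mem := fun {P R φ ψ} hφ hψ h => ⟨F.comp_mem hφ.1 hψ.1 h,
    hcongr P _ _ (fun x hx => by
      rw [Function.comp_apply, ev_of_mem φ hx, ev_of_mem _ hx, ev_of_mem ψ (h _)]
      rfl)
      (hcomp P R _ _ (IsMap.of_hom hφ.1) (IsMap.of_hom hψ.1) hφ.2 hψ.2
        fun x hx => ev_of_mem φ hx ▸ h _)⟩
  inv_mem := fun {P φ} hφ => by
    obtain ⟨ψ, hψ, hψe⟩ := F.inv_mem hφ.1
    refine ⟨ψ, ⟨hψ, ?_⟩, hψe⟩
    have := hinv P _ (ev ψ) (IsMap.of_hom hφ.1) hφ.2 (by rw [img_ev]; exact IsMap.of_hom hψ) fun x hx => by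
      rw [ev_of_mem φ hx, ev_of_mem ψ ⟨⟨x, hx⟩, rfl⟩]
      exact hψe _
    rwa [img_ev] at this

theorem isMap_subSystem {F : FusionSystem S} {C hcongr hconj hcomp hinv} {P : Subgroup Ω} {f : Ω → Ω} :
    IsMap (subSystem F C hcongr hconj hcomp hinv) P f ↔ IsMap F P f ∧ C P f := by
  constructor
  · rintro ⟨φ, ⟨hφ, hC⟩, he⟩
    exact ⟨⟨φ, hφ, he⟩, hcongr P _ _ (fun x hx => (ev_of_mem φ hx).trans (he ⟨x, hx⟩)) hC⟩
  · rintro ⟨⟨φ, hφ, he⟩, hC⟩
    exact ⟨φ, ⟨hφ, hcongr P _ _ (fun x hx => ((ev_of_mem φ hx).trans (he ⟨x, hx⟩)).symm) hC⟩, he⟩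

variable {F : FusionSystem S}

theorem img_eq_of_isConj_class [Finite S] {Q P R : Subgroup Ω} (hP : F.IsConj Q P) (hR : F.IsConj Q R)
    {f : Ω → Ω} (hf : IsMap F P f) (hfR : ∀ x ∈ P, f x ∈ R) : img f P = R := by
  haveI := finite_of_le (isConj_le hR).2
  exact Subgroup.eq_of_le_of_card_ge (img_le_iff.2 hfR)
    (by rw [hf.card_img, card_eq_of_isConj hR, card_eq_of_isConj hP])

/-- An essential subgroup and its conjugates are needed to generate. -/
theorem essential_needed [Finite S] [Fact p.Prime] (hS : IsPGroup p S) (hF : F.IsSaturated p)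
    {Q : Subgroup Ω} (hQ : F.IsEssential p Q) :
    ∃ E : FusionSystem S, (∀ R : Subgroup Ω, R ≤ S → ¬ F.IsConj Q R → F.autGroup R ≤ E.autGroup R) ∧
      ¬ F ≤ E := by
  classical
  have hQn := hQ.2.1
  have hQlt := essential_lt hS hF hQ
  have hex : ∀ P, F.IsConj Q P → ∃ g, IsMap F (normalizerIn S P) g ∧ img g P = Q :=
    fun P hP => by
      obtain ⟨g, hg, hgi, -⟩ := exists_normalizer_map_fn hS hF hQn (isConj_symm hP)
      exact ⟨g, hg, hgi⟩
  choose! G hG hGi using hex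
  have hG' : ∀ P, F.IsConj Q P → IsMap F P (G P) := fun P hP =>
    (hG P hP).mono (le_normalizerIn (isConj_le hP).2)
  set H := Subgroup.closure (extSet F Q) with hH
  let good : Subgroup Ω → (Ω → Ω) → Prop := fun P f => F.IsConj Q P →
    ∃ α ∈ H, ∀ x ∈ P, G (img f P) (f x) = autFun α (G P x)
  -- maps extending to a larger subgroup are good
  have hext : ∀ (R P : Subgroup Ω) (ψ : Ω → Ω), F.IsConj Q P → P < R → IsMap F R ψ → good P ψ := by
    intro R P ψ hP hPR hψ _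
    obtain hPS := (isConj_le hP).2
    set P3 := img ψ P with hP3
    have hψP := hψ.mono hPR.le
    have hP3' : F.IsConj Q P3 := isConj_trans hP (isConj_iff.2 ⟨ψ, hψP, rfl⟩)
    obtain ⟨k, hk, hkl, hkr, hki⟩ := (hG P hP).inv
    haveI := finite_of_le hψ.le
    obtain ⟨r, hrR, hrP, hrn⟩ := exists_normalizing_of_lt (hS.to_le hψ.le) hPR
    set M := R ⊓ normalizerIn S P with hM
    have hPM : P ≤ M := le_inf hPR.le (le_normalizerIn hPS)
    have hQM : Q ≤ img (G P) M := (hGi P hP) ▸ img_mono hPM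
    have hlt : Q < img (G P) M := by
      refine lt_of_le_of_ne hQM fun he => hrP ?_
      have hrM : r ∈ M := ⟨hrR, hψ.le hrR, hrn⟩
      obtain ⟨x, hx, hxe⟩ := (hG' P hP).mem_img.1 ((hGi P hP).ge (he ▸ mem_img_of_mem (f := G P) hrM))
      exact (hG P hP).inj (le_normalizerIn hPS hx) hrM.2 hxe ▸ hx
    have hk' : IsMap F (img (G P) M) k := hk.mono (img_mono inf_le_right)
    have hkM : ∀ y ∈ img (G P) M, k y ∈ M := fun y hy => by
      obtain ⟨x, hx, rfl⟩ := ((hG P hP).mono inf_le_right).mem_img.1 hy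
      rw [hkl x hx.2]; exact hx
    have h1 : IsMap F (img (G P) M) (ψ ∘ k) := hk'.comp hψ fun y hy => (hkM y hy).1
    have h2 : IsMap F (img (G P) M) (G P3 ∘ ψ ∘ k) := h1.comp (hG P3 hP3') fun y hy =>
      hψ.map_normalizerIn hPR.le (hkM y hy).1 (hkM y hy).2
    have h2i : img (G P3 ∘ ψ ∘ k) Q = Q := by
      rw [(h1.mono hQM).img_comp]
      have : img (ψ ∘ k) Q = P3 := by
        rw [(hk'.mono hQM).img_comp]
        have : img k Q = P := by
          rw [← hGi P hP, ← (hG' P hP).img_comp]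
          exact (img_congr (g := id) fun x hx => hkl x (le_normalizerIn hPS hx)).trans (img_id P)
        rw [this]
      rw [this, hGi P3 hP3']
    obtain ⟨α, hα, hαe⟩ := exists_aut (h2.mono hQM) h2i
    refine ⟨α, Subgroup.subset_closure (mem_extSet.2 ⟨_, _, hlt, h2, fun x hx => (hαe x hx).symm⟩),
      fun x hx => ?_⟩
    rw [hαe _ (hGi P hP ▸ mem_img_of_mem hx), Function.comp_apply, Function.comp_apply,
      hkl x (le_normalizerIn hPS hx)]
  let E := subSystem F good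
    (fun P f g hfg h hP => by
      obtain ⟨α, hα, he⟩ := h hP
      exact ⟨α, hα, fun x hx => by rw [← img_congr hfg, ← hfg x hx]; exact he x hx⟩)
    (fun P a hPS ha hP => by
      have hlt : P < S := lt_of_le_of_ne hPS fun h => by
        haveI := finite_of_le hQn.1
        exact hQlt.ne (Subgroup.eq_of_le_of_card_ge hQlt.le (by rw [← h, card_eq_of_isConj hP]))
      exact hext S P _ hP hlt (IsMap.conj F le_rfl ha) hP)
    (fun P R f g hf hg hfg hgg hfR hP => by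
      have hP' : F.IsConj Q (img f P) := isConj_trans hP (isConj_iff.2 ⟨f, hf, rfl⟩)
      obtain ⟨α, hα, he⟩ := hfg hP
      have hgood : good (img f P) g := by
        by_cases h : img f P = R
        · exact h ▸ hgg
        · exact hext R _ g hP' (lt_of_le_of_ne (img_le_iff.2 hfR) h) hg
      obtain ⟨β, hβ, he'⟩ := hgood hP'
      refine ⟨β * α, H.mul_mem hβ hα, fun x hx => ?_⟩
      rw [hf.img_comp, Function.comp_apply, he' _ (mem_img_of_mem hx), he x hx,
        autFun_mul _ _ (hGi P hP ▸ mem_img_of_mem hx)])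
    (fun P f g hf h hg hgl hP' => by
      have hP : F.IsConj Q P := isConj_trans hP' (isConj_symm (isConj_iff.2 ⟨f, hf, rfl⟩))
      obtain ⟨α, hα, he⟩ := h hP
      refine ⟨α⁻¹, H.inv_mem hα, fun y hy => ?_⟩
      obtain ⟨x, hx, rfl⟩ := hf.mem_img.1 hy
      have hi : img g (img f P) = P := by
        rw [← hf.img_comp]; exact (img_congr (g := id) hgl).trans (img_id P)
      rw [hi, hgl x hx, he x hx, autFun_inv_apply' _ (hGi P hP ▸ mem_img_of_mem hx)])
  refine ⟨E, fun R hR hnc α hα => ?_, fun hle => ?_⟩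
  · exact (mem_autGroup hR).2 (isMap_subSystem.2 ⟨(mem_autGroup hR).1 hα, fun h => absurd h hnc⟩)
  rcases essential_dichotomy hS hF hQlt hQn with ⟨hne, -⟩ | ⟨-, hN, hspe⟩
  · exact hne hQ
  obtain ⟨-, htop, -⟩ := hspe
  apply htop
  have hQ0 : F.IsConj Q Q := isConj_refl hQn.1
  obtain ⟨gα, hgα, hge⟩ := exists_aut (hG' Q hQ0) (hGi Q hQ0)
  have key : ∀ β ∈ F.autGroup Q, gα * β * gα⁻¹ ∈ H := fun β hβ => by
    obtain ⟨-, hgood⟩ := isMap_subSystem.1 (le_iff.1 hle _ _ ((mem_autGroup hQn.1).1 hβ))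
    obtain ⟨a, ha, he⟩ := hgood hQ0
    rw [img_autFun] at he
    have : gα * β * gα⁻¹ = a := by
      refine aut_ext fun y hy => ?_
      have hy' := autFun_mem gα⁻¹ hy
      rw [autFun_conj _ _ hy, hge _ (autFun_mem β hy'), he _ hy', ← hge _ hy', autFun_inv_apply gα hy]
    exact this ▸ ha
  refine eq_top_iff.2 fun y _ => ?_
  obtain ⟨⟨β, hβ⟩, rfl⟩ := QuotientGroup.mk'_surjective _ y
  refine ⟨⟨β, hβ⟩, Subgroup.mem_subgroupOf.2 ?_, rfl⟩
  have := key _ (Subgroup.mul_mem _ (Subgroup.mul_mem _ (Subgroup.inv_mem _ hgα) hβ) hgα)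
  show β ∈ H
  simpa [mul_assoc] using this

/-- If `Aut_F(S)` is not inner, it is needed to generate. -/
theorem top_needed [Finite S] (h : ¬ F.autGroup S ≤ Inn S) :
    ∃ E : FusionSystem S, (∀ R : Subgroup Ω, R ≤ S → R ≠ S → F.autGroup R ≤ E.autGroup R) ∧ ¬ F ≤ E := by
  let E := subSystem F (fun P f => P = S → ∃ a ∈ S, ∀ x ∈ P, f x = a * x * a⁻¹)
    (fun P f g hfg h hP => by
      obtain ⟨a, ha, he⟩ := h hP
      exact ⟨a, ha, fun x hx => (hfg x hx).symm.trans (he x hx)⟩)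
    (fun P a _ ha _ => ⟨a, ha, fun _ _ => rfl⟩)
    (fun P R f g hf hg h1 h2 hfR hP => by
      subst hP
      obtain ⟨a, ha, he⟩ := h1 rfl
      have hR : R = P := le_antisymm hg.le fun y hy => by
        have hmem := hfR _ (P.mul_mem (P.mul_mem (P.inv_mem ha) hy) ha)
        rw [he _ (P.mul_mem (P.mul_mem (P.inv_mem ha) hy) ha)] at hmem
        simpa [mul_assoc] using hmem
      obtain ⟨b, hb, he'⟩ := h2 hR
      refine ⟨b * a, P.mul_mem hb ha, fun x hx => ?_⟩
      rw [Function.comp_apply, he' _ (hfR x hx), he x hx]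
      simp only [mul_inv_rev, mul_assoc])
    (fun P f g hf h hg hgl hP' => by
      have hPS : P = S := Subgroup.eq_of_le_of_card_ge hf.le (by rw [← hf.card_img, hP'])
      subst hPS
      obtain ⟨a, ha, he⟩ := h rfl
      refine ⟨a⁻¹, P.inv_mem ha, fun y hy => ?_⟩
      obtain ⟨x, hx, rfl⟩ := hf.mem_img.1 hy
      rw [hgl x hx, he x hx]
      simp [mul_assoc])
  refine ⟨E, fun R hR hne α hα => (mem_autGroup hR).2
    (isMap_subSystem.2 ⟨(mem_autGroup hR).1 hα, fun h => absurd h hne⟩), fun hle => h fun α hα => ?_⟩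
  obtain ⟨-, hC⟩ := isMap_subSystem.1 (le_iff.1 hle _ _ ((mem_autGroup le_rfl).1 hα))
  rw [inn_eq_autInducedBy]
  exact mem_autInducedBy.2 (hC rfl)

theorem generating_inter [Finite S] [Fact p.Prime] (hS : IsPGroup p S) (hF : F.IsSaturated p)
    (A B : Set (Subgroup Ω)) (hA : ∀ R ∈ A, ∀ R', F.IsConj R R' → R' ∈ A)
    (hB : ∀ R ∈ B, ∀ R', F.IsConj R R' → R' ∈ B)
    (hgA : ∀ E : FusionSystem S, (∀ R ∈ A, F.autGroup R ≤ E.autGroup R) → F ≤ E)
    (hgB : ∀ E : FusionSystem S, (∀ R ∈ B, F.autGroup R ≤ E.autGroup R) → F ≤ E)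
    (E : FusionSystem S) (hE : ∀ R ∈ A ∩ B, F.autGroup R ≤ E.autGroup R) : F ≤ E := by
  have hmem : ∀ 𝒬 : Set (Subgroup Ω), (∀ R ∈ 𝒬, ∀ R', F.IsConj R R' → R' ∈ 𝒬) →
      (∀ E : FusionSystem S, (∀ R ∈ 𝒬, F.autGroup R ≤ E.autGroup R) → F ≤ E) →
      ∀ P, F.IsEssential p P → P ∈ 𝒬 := by
    intro 𝒬 hc hg P hP
    by_contra hne
    obtain ⟨E', hE', hnot⟩ := essential_needed hS hF hP
    refine hnot (hg E' fun R hR => ?_)
    by_cases hRS : R ≤ S
    · exact hE' R hRS fun hconj => hne (hc R hR P (isConj_symm hconj))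
    · rw [autGroup_eq_bot hRS]; exact bot_le
  have hmemS : ∀ 𝒬 : Set (Subgroup Ω),
      (∀ E : FusionSystem S, (∀ R ∈ 𝒬, F.autGroup R ≤ E.autGroup R) → F ≤ E) →
      ¬ F.autGroup S ≤ Inn S → S ∈ 𝒬 := by
    intro 𝒬 hg h
    by_contra hne
    obtain ⟨E', hE', hnot⟩ := top_needed h
    refine hnot (hg E' fun R hR => ?_)
    by_cases hRS : R ≤ S
    · exact hE' R hRS fun he => hne (he ▸ hR)
    · rw [autGroup_eq_bot hRS]; exact bot_le
  refine alperin hS hF E fun P hP => ?_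
  rcases hP with rfl | hP
  · by_cases h : F.autGroup P ≤ Inn P
    · exact h.trans (inn_le_autGroup le_rfl)
    · exact hE P ⟨hmemS A hgA h, hmemS B hgB h⟩
  · exact hE P ⟨hmem A hA hgA P hP, hmem B hB hgB P hP⟩

end CfsgLib.Fus
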