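import Mathlib.GroupTheory.QuotientGroup.Finite
import Cfsg.Agent.Fus.Saturation

/-!
The fusion system of a finite group on a Sylow subgroup: Sylow facts and saturation.
-/

set_option autoImplicit false
set_option linter.style.haveILetI false
set_option linter.unusedSectionVars false

open Cfsg Cfsg.FusionSystem
open scoped Pointwise

namespace CfsgLib.Fus

variable {G : Type*} [Group G] {p : ℕ}

theorem isMap_group_iff {S P : Subgroup G} {f : G → G} :
    IsMap (groupFusionSystem S) P f ↔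
      P ≤ S ∧ ∃ g : G, ∀ x ∈ P, f x = g * x * g⁻¹ ∧ g * x * g⁻¹ ∈ S := by
  constructor
  · rintro ⟨φ, ⟨hP, hS, g, hg⟩, hf⟩
    exact ⟨hP, g, fun x hx => ⟨(hf ⟨x, hx⟩).symm.trans (hg ⟨x, hx⟩), (hg ⟨x, hx⟩) ▸ hS ⟨x, hx⟩⟩⟩
  · rintro ⟨hP, g, hg⟩
    refine ⟨conjHom P g, ⟨hP, fun x => ?_, g, fun _ => rfl⟩, fun x => ?_⟩
    · exact (hg x x.2).2
    · exact (hg x x.2).1.symm

theorem isConj_group_iff {S P Q : Subgroup G} :
    (groupFusionSystem S).IsConj P Q ↔
      P ≤ S ∧ Q ≤ S ∧ ∃ g : G, P.map (MulAut.conj g).toMonoidHom = Q := by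
  constructor
  · intro h
    obtain ⟨f, hf, rfl⟩ := isConj_iff.1 h
    obtain ⟨hP, g, hg⟩ := isMap_group_iff.1 hf
    refine ⟨hP, hf.img_le, g, ?_⟩
    rw [← img_conjF g P]
    exact img_congr fun x hx => ((hg x hx).1).symm
  · rintro ⟨hP, hQ, g, rfl⟩
    exact isConj_iff.2 ⟨conjF g, isMap_group_iff.2 ⟨hP, g, fun x hx => ⟨rfl, hQ ⟨x, hx, rfl⟩⟩⟩,
      img_conjF g P⟩

theorem autInducedBy_le_group {S Q : Subgroup G} :
    (groupFusionSystem S).autGroup Q ≤ autInducedBy ⊤ Q := by
  by_cases hQ : Q ≤ S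
  · intro α hα
    obtain ⟨-, g, hg⟩ := isMap_group_iff.1 ((mem_autGroup hQ).1 hα)
    exact mem_autInducedBy.2 ⟨g, Subgroup.mem_top g, fun x hx => (hg x hx).1⟩
  · rw [autGroup_eq_bot hQ]; exact bot_le

theorem autGroup_group {S Q : Subgroup G} (hQ : Q ≤ S) :
    (groupFusionSystem S).autGroup Q = autInducedBy ⊤ Q := by
  refine le_antisymm autInducedBy_le_group fun α hα => ?_
  obtain ⟨g, -, hg⟩ := mem_autInducedBy.1 hα
  exact (mem_autGroup hQ).2 (isMap_group_iff.2 ⟨hQ, g, fun x hx =>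
    ⟨hg x hx, hg x hx ▸ hQ (autFun_mem α hx)⟩⟩)

/-- `H` is a Sylow subgroup of `X`, both inside `G`. -/
def SylowIn (p : ℕ) (H X : Subgroup G) : Prop :=
  ∃ R : Sylow p ↥X, (R : Subgroup ↥X) = H.subgroupOf X

theorem sylowIn_iff [Finite G] [Fact p.Prime] {H X : Subgroup G} (hH : IsPGroup p H) (hHX : H ≤ X) :
    SylowIn p H X ↔ ¬ p ∣ H.relIndex X := by
  constructor
  · rintro ⟨R, hR⟩
    rw [Subgroup.relIndex, ← hR]
    exact R.not_dvd_index
  · intro h
    exact ⟨(hH.comap_of_injective X.subtype X.subtype_injective).toSylow h, rfl⟩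

theorem sylowIn_card [Finite G] [Fact p.Prime] {H X : Subgroup G} (h : SylowIn p H X) (hHX : H ≤ X) :
    Nat.card H = p ^ (Nat.card X).factorization p := by
  obtain ⟨R, hR⟩ := h
  rw [← R.card_eq_multiplicity, hR]
  exact (Nat.card_congr (Subgroup.subgroupOfEquivOfLe hHX).toEquiv).symm

theorem sylowIn_of_card [Finite G] [Fact p.Prime] {H X : Subgroup G} (hHX : H ≤ X)
    (h : Nat.card H = p ^ (Nat.card X).factorization p) : SylowIn p H X :=
  ⟨Sylow.ofCard (H.subgroupOf X) ((Nat.card_congr (Subgroup.subgroupOfEquivOfLe hHX).toEquiv).trans h),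
    Sylow.coe_ofCard _ _⟩

theorem sylowIn_max [Finite G] [Fact p.Prime] {H X K : Subgroup G} (h : SylowIn p H X) (hHX : H ≤ X)
    (hHK : H ≤ K) (hKX : K ≤ X) (hK : IsPGroup p K) : K = H := by
  obtain ⟨R, hR⟩ := h
  have := R.is_maximal' (hK.comap_of_injective X.subtype X.subtype_injective)
    (hR ▸ Subgroup.comap_mono hHK)
  rw [hR] at this
  have h2 := congrArg (Subgroup.map X.subtype) this
  rwa [← Subgroup.subgroupOf, Subgroup.subgroupOf_map_subtype, inf_eq_left.2 hKX,
    Subgroup.subgroupOf_map_subtype, inf_eq_left.2 hHX] at h2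

/-- A Sylow subgroup meets a normal subgroup in a Sylow subgroup of it. -/
theorem sylowIn_inf [Finite G] [Fact p.Prime] {H X C : Subgroup G} (h : SylowIn p H X) (hHX : H ≤ X)
    (hCX : C ≤ X) (hnorm : X ≤ Subgroup.normalizer (C : Set G)) : SylowIn p (H ⊓ C) C := by
  obtain ⟨R, hR⟩ := h
  have hHp : IsPGroup p ↥(H ⊓ C) := by
    have : IsPGroup p ↥(H.subgroupOf X) := hR ▸ R.isPGroup'
    exact (this.of_equiv (Subgroup.subgroupOfEquivOfLe hHX)).to_le inf_le_left
  obtain ⟨T, hT⟩ := (hHp.comap_of_injective C.subtype C.subtype_injective).exists_le_sylow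
  let T' : Subgroup ↥X := ((T : Subgroup ↥C).map C.subtype).subgroupOf X
  have hTp : IsPGroup p ↥T' :=
    (T.isPGroup'.map C.subtype).comap_of_injective X.subtype X.subtype_injective
  obtain ⟨T'', hT''⟩ := hTp.exists_le_sylow
  obtain ⟨x, hx⟩ := MulAction.exists_smul_eq ↥X T'' R
  have hle : ((T : Subgroup ↥C).map C.subtype).map (MulAut.conj (x : G)).toMonoidHom ≤ H ⊓ C := by
    rintro _ ⟨_, ⟨t, ht, rfl⟩, rfl⟩
    refine ⟨?_, conj_mem_of_normalizer (hnorm x.2) t.2⟩
    have h3 : MulAut.conj x • (⟨(t : G), hCX t.2⟩ : ↥X) ∈ (R : Subgroup ↥X) := by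
      rw [← hx, Sylow.coe_subgroup_smul]
      exact Subgroup.smul_mem_pointwise_smul _ _ _ (hT'' ⟨t, ht, rfl⟩)
    rw [hR] at h3
    exact h3
  refine ⟨T, (Subgroup.eq_of_le_of_card_ge hT ?_).symm⟩
  rw [Nat.card_congr ((T : Subgroup ↥C).equivMapOfInjective _ C.subtype_injective).toEquiv,
    Nat.card_congr (((T : Subgroup ↥C).map C.subtype).equivMapOfInjective (MulAut.conj (x : G)).toMonoidHom
      (MulAut.conj (x : G)).injective).toEquiv,
    ]
  refine (Subgroup.card_le_of_le hle).trans (le_of_eq ?_)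
  exact (Nat.card_congr (Subgroup.subgroupOfEquivOfLe (inf_le_right : H ⊓ C ≤ C)).toEquiv).symm

variable [Finite G] [hp : Fact p.Prime] (S : Sylow p G)

theorem isPGroup_normalizerIn (P : Subgroup G) :
    IsPGroup p ↥(normalizerIn (S : Subgroup G) P) :=
  S.isPGroup'.to_le inf_le_left

/-- Every subgroup of `S` has a conjugate `Q` in `S` with `N_S(Q)` Sylow in `N(Q)`. -/
theorem exists_conj_normalizer_sylow {P : Subgroup G} (hP : P ≤ S) :
    ∃ g : G, P.map (MulAut.conj g).toMonoidHom ≤ S ∧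
      SylowIn p (normalizerIn (S : Subgroup G) (P.map (MulAut.conj g).toMonoidHom))
        (Subgroup.normalizer ((P.map (MulAut.conj g).toMonoidHom : Subgroup G) : Set G)) := by
  set N := Subgroup.normalizer (P : Set G)
  have hPN : P ≤ N := Subgroup.le_normalizer
  obtain ⟨T, hT⟩ := ((S.isPGroup'.to_le hP).comap_of_injective N.subtype N.subtype_injective).exists_le_sylow
  obtain ⟨T', hT'⟩ := (T.isPGroup'.map N.subtype).exists_le_sylow
  obtain ⟨g, hg⟩ := MulAction.exists_smul_eq G T' S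
  have hTS : ∀ t : ↥N, t ∈ (T : Subgroup ↥N) → g * (t : G) * g⁻¹ ∈ (S : Subgroup G) := fun t ht => by
    rw [← hg, Sylow.coe_subgroup_smul]
    exact Subgroup.smul_mem_pointwise_smul (t : G) (MulAut.conj g) _ (hT' ⟨t, ht, rfl⟩)
  set Q := P.map (MulAut.conj g).toMonoidHom
  have hQ : Q ≤ (S : Subgroup G) := by
    rintro _ ⟨x, hx, rfl⟩
    exact hTS ⟨x, hPN hx⟩ (hT hx)
  have hNmap : N.map (MulAut.conj g).toMonoidHom = Subgroup.normalizer (Q : Set G) :=
    Subgroup.map_equiv_normalizer_eq P (MulAut.conj g)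
  refine ⟨g, hQ, sylowIn_of_card inf_le_right (le_antisymm ?_ ?_)⟩
  · obtain ⟨U, hU⟩ := ((isPGroup_normalizerIn S Q).comap_of_injective
      (Subgroup.normalizer (Q : Set G)).subtype (Subgroup.subtype_injective _)).exists_le_sylow
    rw [← U.card_eq_multiplicity,
      ← Nat.card_congr (Subgroup.subgroupOfEquivOfLe (H := normalizerIn (S : Subgroup G) Q) (K := Subgroup.normalizer (Q : Set G)) inf_le_right).toEquiv]
    exact Subgroup.card_le_of_le hU
  · rw [← hNmap, ← Nat.card_congr (N.equivMapOfInjective (MulAut.conj g).toMonoidHom (MulAut.conj g).injective).toEquiv,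
      ← T.card_eq_multiplicity,
      Nat.card_congr ((T : Subgroup ↥N).equivMapOfInjective _ N.subtype_injective).toEquiv,
      Nat.card_congr (((T : Subgroup ↥N).map N.subtype).equivMapOfInjective (MulAut.conj g).toMonoidHom
        (MulAut.conj g).injective).toEquiv]
    refine Subgroup.card_le_of_le ?_
    rintro _ ⟨_, ⟨t, ht, rfl⟩, rfl⟩
    exact ⟨hTS t ht, hNmap.le ⟨t, t.2, rfl⟩⟩

theorem centralizerIn_eq (Q : Subgroup G) :
    centralizerIn (S : Subgroup G) Q =
      normalizerIn (S : Subgroup G) Q ⊓ Subgroup.centralizer (Q : Set G) := by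
  unfold centralizerIn normalizerIn
  rw [inf_assoc, inf_eq_right.2 (Subgroup.centralizer_le_normalizer (Q : Set G))]

theorem centralizer_normalized (Q : Subgroup G) :
    Subgroup.normalizer (Q : Set G) ≤ Subgroup.normalizer (Subgroup.centralizer (Q : Set G) : Set G) := by
  have key : ∀ a ∈ Subgroup.normalizer (Q : Set G), ∀ c ∈ Subgroup.centralizer (Q : Set G),
      a * c * a⁻¹ ∈ Subgroup.centralizer (Q : Set G) := by
    intro a ha c hc x hx
    have h := hc _ (conj_mem_of_normalizer' ha hx)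
    calc x * (a * c * a⁻¹) = a * (a⁻¹ * x * a * c) * a⁻¹ := by group
      _ = a * c * a⁻¹ * x := by rw [h]; group
  intro a ha
  refine mem_normalizer_of_conj (key a ha) fun c hc => ?_
  simpa using key a⁻¹ (Subgroup.inv_mem _ ha) c hc

theorem centralizer_sylow {Q : Subgroup G}
    (h : SylowIn p (normalizerIn (S : Subgroup G) Q) (Subgroup.normalizer (Q : Set G))) :
    SylowIn p (centralizerIn (S : Subgroup G) Q) (Subgroup.centralizer (Q : Set G)) := by
  rw [centralizerIn_eq]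
  exact sylowIn_inf h inf_le_right (Subgroup.centralizer_le_normalizer _) (centralizer_normalized Q)

theorem automizer_sylow {Q : Subgroup G}
    (h : SylowIn p (normalizerIn (S : Subgroup G) Q) (Subgroup.normalizer (Q : Set G))) :
    ∃ R : Sylow p ↥(autInducedBy ⊤ Q),
      (R : Subgroup ↥(autInducedBy ⊤ Q)) = (autInducedBy (S : Subgroup G) Q).subgroupOf (autInducedBy ⊤ Q) := by
  obtain ⟨R, hR⟩ := h
  let ψ : ↥(Subgroup.normalizer (Q : Set G)) →* ↥(autInducedBy (⊤ : Subgroup G) Q) :=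
    Q.normalizerMonoidHom.codRestrict _ fun g =>
      mem_autInducedBy.2 ⟨g, Subgroup.mem_top _, fun _ hx => normalizerMonoidHom_autFun g hx⟩
  have hψ : Function.Surjective ψ := fun ⟨α, hα⟩ => by
    obtain ⟨g, -, hg⟩ := mem_autInducedBy.1 hα
    exact ⟨⟨g, mem_normalizer_of_aut hg⟩, Subtype.ext (aut_ext fun x hx =>
      (normalizerMonoidHom_autFun _ hx).trans (hg x hx).symm)⟩
  refine ⟨R.mapSurjective hψ, ?_⟩
  rw [Sylow.coe_mapSurjective, hR]
  refine le_antisymm ?_ fun α hα => ?_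
  · rintro _ ⟨g, hg, rfl⟩
    exact mem_autInducedBy.2 ⟨g, hg.1, fun x hx => normalizerMonoidHom_autFun g hx⟩
  · obtain ⟨g, hg, hge⟩ := mem_autInducedBy.1 (Subgroup.mem_subgroupOf.1 hα)
    exact ⟨⟨g, mem_normalizer_of_aut hge⟩, ⟨hg, mem_normalizer_of_aut hge⟩, Subtype.ext (aut_ext fun x hx =>
      (normalizerMonoidHom_autFun _ hx).trans (hge x hx).symm)⟩

/-- The extension lemma in a group. -/
theorem exists_centralizer_conj {Q : Subgroup G}
    (h : SylowIn p (centralizerIn (S : Subgroup G) Q) (Subgroup.centralizer (Q : Set G)))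
    {N : Subgroup G} (hNp : IsPGroup p N)
    (hN : N ≤ normalizerIn (S : Subgroup G) Q ⊔ Subgroup.centralizer (Q : Set G)) :
    ∃ c ∈ Subgroup.centralizer (Q : Set G), ∀ x ∈ N, c * x * c⁻¹ ∈ (S : Subgroup G) := by
  set C := Subgroup.centralizer (Q : Set G) with hC
  set A := normalizerIn (S : Subgroup G) Q with hA
  have hAC : A ≤ Subgroup.normalizer (C : Set G) := inf_le_right.trans (centralizer_normalized Q)
  set X := A ⊔ C
  obtain ⟨R, hR⟩ : ∃ R : Sylow p ↥X, (R : Subgroup ↥X) = A.subgroupOf X := by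
    obtain ⟨U, hU⟩ :=
      ((isPGroup_normalizerIn S Q).comap_of_injective X.subtype X.subtype_injective).exists_le_sylow
    refine ⟨U, le_antisymm (fun u hu => ?_) hU⟩
    obtain ⟨a, ha, c, hc, hac⟩ : (u : G) ∈ (A : Set G) * (C : Set G) :=
      (Subgroup.coe_mul_of_left_le_normalizer_right A C hAC) ▸ u.2
    have hK : (U : Subgroup ↥X).map X.subtype ⊓ C = centralizerIn (S : Subgroup G) Q := by
      refine sylowIn_max h inf_le_right (fun z hz => ?_) inf_le_right
        ((U.isPGroup'.map _).to_le inf_le_left)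
      have hzA : z ∈ A := centralizerIn_le_normalizerIn Q hz
      exact ⟨⟨⟨z, le_sup_left (b := C) hzA⟩, hU hzA, rfl⟩, hz.2⟩
    have hc' : c ∈ A := centralizerIn_le_normalizerIn Q (hK.le ⟨⟨⟨a, le_sup_left (b := C) ha⟩⁻¹ * u,
      (U : Subgroup ↥X).mul_mem ((U : Subgroup ↥X).inv_mem (hU ha)) hu, by
        show a⁻¹ * (u : G) = c
        rw [← show a * c = (u : G) from hac, inv_mul_cancel_left]⟩, hc⟩)
    exact Subgroup.mem_subgroupOf.2 ((show a * c = (u : G) from hac) ▸ A.mul_mem ha hc')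
  obtain ⟨T, hT⟩ := (hNp.comap_of_injective X.subtype X.subtype_injective).exists_le_sylow
  obtain ⟨⟨x, hxX⟩, hx⟩ := MulAction.exists_smul_eq ↥X T R
  obtain ⟨a, ha, c, hc, hac⟩ : x ∈ (A : Set G) * (C : Set G) :=
    (Subgroup.coe_mul_of_left_le_normalizer_right A C hAC) ▸ hxX
  refine ⟨c, hc, fun y hy => ?_⟩
  have h3 : MulAut.conj (⟨x, hxX⟩ : ↥X) • (⟨y, hN hy⟩ : ↥X) ∈ (R : Subgroup ↥X) := by
    rw [← hx, Sylow.coe_subgroup_smul]
    exact Subgroup.smul_mem_pointwise_smul _ _ _ (hT hy)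
  rw [hR] at h3
  have h4 : x * y * x⁻¹ ∈ A := h3
  have h5 := A.mul_mem (A.mul_mem (A.inv_mem ha) h4) ha
  have : c * y * c⁻¹ = a⁻¹ * (x * y * x⁻¹) * a := by
    rw [← show a * c = x from hac]; group
  rw [this]
  exact h5.1

theorem group_receptive {Q : Subgroup G} (hQ : Q ≤ S)
    (h : SylowIn p (centralizerIn (S : Subgroup G) Q) (Subgroup.centralizer (Q : Set G))) :
    (groupFusionSystem (S : Subgroup G)).IsReceptive Q := by
  refine isReceptive_of hQ fun P M f hf hfi hPM hM hMf => ?_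
  obtain ⟨hP, g, hg⟩ := isMap_group_iff.1 hf
  have hfQ : ∀ x ∈ P, g * x * g⁻¹ ∈ Q := fun x hx => (hg x hx).1 ▸ hfi ▸ mem_img_of_mem hx
  have hsub : M.map (MulAut.conj g).toMonoidHom ≤
      normalizerIn (S : Subgroup G) Q ⊔ Subgroup.centralizer (Q : Set G) := by
    rintro _ ⟨m, hm, rfl⟩
    obtain ⟨s, hs, he⟩ := hMf m hm
    have hrel : ∀ x ∈ P, s * (g * x * g⁻¹) * s⁻¹ = g * (m * x * m⁻¹) * g⁻¹ := fun x hx => by
      rw [← (hg x hx).1, ← (hg _ (conj_mem_of_normalizer (hM hm).2 hx)).1, he x hx]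
    have hrel' : ∀ y ∈ Q, ∃ x ∈ P, g * x * g⁻¹ = y := fun y hy => by
      obtain ⟨x, hx, hxy⟩ := hf.mem_img.1 (hfi.ge hy)
      exact ⟨x, hx, (hg x hx).1.symm.trans hxy⟩
    have hsN : s ∈ normalizerIn (S : Subgroup G) Q := by
      refine ⟨hs, mem_normalizer_of_conj (fun y hy => ?_) fun y hy => ?_⟩
      · obtain ⟨x, hx, rfl⟩ := hrel' y hy
        rw [hrel x hx]
        exact hfQ _ (conj_mem_of_normalizer (hM hm).2 hx)
      · obtain ⟨x, hx, rfl⟩ := hrel' y hy
        have h2 := hrel _ (conj_mem_of_normalizer' (hM hm).2 hx)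
        have : s⁻¹ * (g * x * g⁻¹) * s = g * (m⁻¹ * x * m) * g⁻¹ := by
          rw [show g * x * g⁻¹ = g * (m * (m⁻¹ * x * m) * m⁻¹) * g⁻¹ by group, ← h2]; group
        rw [this]
        exact hfQ _ (conj_mem_of_normalizer' (hM hm).2 hx)
    have hc : s⁻¹ * (g * m * g⁻¹) ∈ Subgroup.centralizer (Q : Set G) := by
      intro y hy
      obtain ⟨x, hx, rfl⟩ := hrel' y hy
      calc g * x * g⁻¹ * (s⁻¹ * (g * m * g⁻¹))
          = s⁻¹ * (s * (g * x * g⁻¹) * s⁻¹) * (g * m * g⁻¹) := by group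
        _ = s⁻¹ * (g * m * g⁻¹) * (g * x * g⁻¹) := by rw [hrel x hx]; group
    have := Subgroup.mul_mem_sup hsN hc
    rwa [mul_inv_cancel_left] at this
  obtain ⟨c, hc, hcS⟩ := exists_centralizer_conj S h
    ((S.isPGroup'.to_le (hM.trans inf_le_left)).map _) hsub
  refine ⟨conjF (c * g), isMap_group_iff.2 ⟨hM.trans inf_le_left, c * g, fun x hx => ⟨rfl, ?_⟩⟩,
    fun x hx => ?_⟩
  · have := hcS _ ⟨x, hx, rfl⟩
    simpa [mul_assoc] using this
  · rw [(hg x hx).1, conjF_apply]
    have := hc _ (hfQ x hx)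
    calc c * g * x * (c * g)⁻¹ = c * (g * x * g⁻¹) * c⁻¹ := by group
      _ = g * x * g⁻¹ := by rw [← this, mul_inv_cancel_right]

theorem group_fullyAutomized {Q : Subgroup G} (hQ : Q ≤ S)
    (h : SylowIn p (normalizerIn (S : Subgroup G) Q) (Subgroup.normalizer (Q : Set G))) :
    (groupFusionSystem (S : Subgroup G)).IsFullyAutomized p Q := by
  refine ⟨hQ, ?_⟩
  rw [autGroup_group hQ]
  exact automizer_sylow S h

theorem group_saturated : (groupFusionSystem (S : Subgroup G)).IsSaturated p := by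
  intro P hP
  obtain ⟨g, hQ, h⟩ := exists_conj_normalizer_sylow S hP
  exact ⟨_, isConj_group_iff.2 ⟨hP, hQ, g, rfl⟩, group_fullyAutomized S hQ h,
    group_receptive S hQ (centralizer_sylow S h)⟩

theorem card_le_sylowIn {H K X : Subgroup G} (h : SylowIn p H X) (hHX : H ≤ X) (hKX : K ≤ X)
    (hK : IsPGroup p K) : Nat.card K ≤ Nat.card H := by
  obtain ⟨T, hT⟩ := (hK.comap_of_injective X.subtype X.subtype_injective).exists_le_sylow
  rw [sylowIn_card h hHX, ← T.card_eq_multiplicity,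
    ← Nat.card_congr (Subgroup.subgroupOfEquivOfLe hKX).toEquiv]
  exact Subgroup.card_le_of_le hT

theorem group_fullyNormalized_iff {P : Subgroup G} (hP : P ≤ S) :
    (groupFusionSystem (S : Subgroup G)).IsFullyNormalized P ↔
      SylowIn p (normalizerIn (S : Subgroup G) P) (Subgroup.normalizer (P : Set G)) := by
  constructor
  · intro h
    obtain ⟨g, hQ, hsy⟩ := exists_conj_normalizer_sylow S hP
    refine sylowIn_of_card inf_le_right (le_antisymm ?_ ?_)
    · obtain ⟨U, hU⟩ := ((isPGroup_normalizerIn S P).comap_of_injective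
        (Subgroup.normalizer (P : Set G)).subtype (Subgroup.subtype_injective _)).exists_le_sylow
      rw [← U.card_eq_multiplicity,
        ← Nat.card_congr (Subgroup.subgroupOfEquivOfLe (H := normalizerIn (S : Subgroup G) P) (K := Subgroup.normalizer (P : Set G)) inf_le_right).toEquiv]
      exact Subgroup.card_le_of_le hU
    · have := h.2 _ (isConj_group_iff.2 ⟨hP, hQ, g, rfl⟩)
      have hc := sylowIn_card hsy inf_le_right
      have hN : Nat.card ↥(Subgroup.normalizer ((P.map (MulAut.conj g).toMonoidHom : Subgroup G) : Set G)) =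
          Nat.card ↥(Subgroup.normalizer (P : Set G)) := by
        rw [← Subgroup.map_equiv_normalizer_eq P (MulAut.conj g)]
        exact (Nat.card_congr (Subgroup.equivMapOfInjective _ (MulAut.conj g).toMonoidHom (MulAut.conj g).injective).toEquiv).symm
      rw [hN] at hc
      omega
  · intro h
    refine ⟨hP, fun Q hQ => ?_⟩
    obtain ⟨-, -, g, rfl⟩ := isConj_group_iff.1 hQ
    have hN := Subgroup.map_equiv_normalizer_eq P (MulAut.conj g⁻¹)
    rw [← Nat.card_congr (Subgroup.equivMapOfInjective (normalizerIn (S : Subgroup G) (P.map (MulAut.conj g).toMonoidHom)) (MulAut.conj g⁻¹).toMonoidHom (MulAut.conj g⁻¹).injective).symm.toEquiv]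
    refine card_le_sylowIn h inf_le_right ?_ ((isPGroup_normalizerIn S _).map _)
    rintro _ ⟨y, hy, rfl⟩
    obtain ⟨z, hz, rfl⟩ := (Subgroup.map_equiv_normalizer_eq P (MulAut.conj g)).ge hy.2
    simpa [mul_assoc] using hz

theorem group_fullyCentralized_iff {P : Subgroup G} (hP : P ≤ S) :
    (groupFusionSystem (S : Subgroup G)).IsFullyCentralized P ↔
      SylowIn p (centralizerIn (S : Subgroup G) P) (Subgroup.centralizer (P : Set G)) := by
  have hCeq : ∀ g : G, (Subgroup.centralizer (P : Set G)).map (MulAut.conj g).toMonoidHom =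
      Subgroup.centralizer ((P.map (MulAut.conj g).toMonoidHom : Subgroup G) : Set G) := by
    intro g
    ext y
    constructor
    · rintro ⟨c, hc, rfl⟩ _ ⟨x, hx, rfl⟩
      simp only [MulEquiv.coe_toMonoidHom, ← map_mul, hc x hx]
    · intro hy
      refine ⟨g⁻¹ * y * g, fun x hx => ?_, by simp [mul_assoc]⟩
      have : g * x * g⁻¹ * y = y * (g * x * g⁻¹) := hy _ ⟨x, hx, rfl⟩
      calc x * (g⁻¹ * y * g) = g⁻¹ * (g * x * g⁻¹ * y) * g := by group
        _ = g⁻¹ * y * g * x := by rw [this]; group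
  refine ⟨fun h => ?_, fun h => fullyCentralized_of_receptive (group_receptive S hP h)⟩
  obtain ⟨g, hQ, hsy⟩ := exists_conj_normalizer_sylow S hP
  have hsc := centralizer_sylow S hsy
  refine sylowIn_of_card inf_le_right (le_antisymm ?_ ?_)
  · obtain ⟨U, hU⟩ := ((S.isPGroup'.to_le (inf_le_left (b := Subgroup.centralizer (P : Set G)))).comap_of_injective
      (Subgroup.centralizer (P : Set G)).subtype (Subgroup.subtype_injective _)).exists_le_sylow
    rw [← U.card_eq_multiplicity,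
      ← Nat.card_congr (Subgroup.subgroupOfEquivOfLe (H := centralizerIn (S : Subgroup G) P) (K := Subgroup.centralizer (P : Set G)) inf_le_right).toEquiv]
    exact Subgroup.card_le_of_le hU
  · have := h.2 _ (isConj_group_iff.2 ⟨hP, hQ, g, rfl⟩)
    have hc := sylowIn_card hsc inf_le_right
    have hN : Nat.card ↥(Subgroup.centralizer ((P.map (MulAut.conj g).toMonoidHom : Subgroup G) : Set G)) =
        Nat.card ↥(Subgroup.centralizer (P : Set G)) := by
      rw [← hCeq g]
      exact (Nat.card_congr (Subgroup.equivMapOfInjective _ (MulAut.conj g).toMonoidHom (MulAut.conj g).injective).toEquiv).symm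
    rw [hN] at hc
    omega

end CfsgLib.Fus
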