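import Cfsg.Prelude.Def_Local
import Cfsg.Agent.Inv.Component
import Mathlib.GroupTheory.SpecificGroups.Alternating.Simple

/-!
Pointwise stabilizers of four points in alternating groups are standard subgroups.
-/

set_option autoImplicit false
set_option linter.style.haveILetI false

namespace CfsgLib.Fus.AltStandard

open Equiv

variable {α : Type*} [Fintype α] [DecidableEq α]

/-- The subgroup fixing every point outside `s`. -/
def on (s : Finset α) : Subgroup (alternatingGroup α) where
  carrier := {g | ∀ x, x ∉ s → (g : Perm α) x = x}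
  one_mem' := fun _ _ => rfl
  mul_mem' := fun {g h} hg hh x hx => by
    rw [Subgroup.coe_mul, Perm.mul_apply, hh x hx, hg x hx]
  inv_mem' := fun {g} hg x hx => by
    rw [Subgroup.coe_inv, Perm.inv_eq_iff_eq, hg x hx]

theorem mem_on {s : Finset α} {g : alternatingGroup α} : g ∈ on s ↔ ∀ x, x ∉ s → (g : Perm α) x = x := Iff.rfl

theorem range_ofSubtype (s : Finset α) : (alternatingGroup.ofSubtype s).range = on s := by
  ext k
  rw [alternatingGroup.mem_range_ofSubtype_iff, mem_on]
  constructor
  · intro h x hx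
    by_contra hne
    exact hx (h (Perm.mem_support.2 hne))
  · intro h x hx
    by_contra hne
    exact Perm.mem_support.1 hx (h x hne)

theorem conj_mem_on {s : Finset α} {g k : alternatingGroup α} (hk : k ∈ on s) {x : α}
    (hx : ((g : Perm α))⁻¹ x ∉ s) : ((g * k * g⁻¹ : alternatingGroup α) : Perm α) x = x := by
  rw [Subgroup.coe_mul, Subgroup.coe_mul, Subgroup.coe_inv, Perm.mul_apply, Perm.mul_apply, hk _ hx]
  simp

theorem centralizer_on (s : Finset α) (hs : 5 ≤ s.card) : Subgroup.centralizer (on s : Set (alternatingGroup α)) = on sᶜ := by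
  refine le_antisymm (fun z hz x hx => ?_) (fun z hz => Subgroup.mem_centralizer_iff.2 fun g hg => Subtype.ext ?_)
  · rw [Finset.mem_compl, not_not] at hx
    have h1 : ∀ b c : α, b ∈ s → c ∈ s → x ≠ b → x ≠ c → b ≠ c →
        (z : Perm α) x = x ∨ (z : Perm α) x = b ∨ (z : Perm α) x = c := by
      intro b c hb hc hxb hxc hbc
      let σ : alternatingGroup α := ⟨swap x b * swap x c, (Perm.isThreeCycle_swap_mul_swap_same hxb hxc hbc).mem_alternatingGroup⟩
      have hσ : σ ∈ on s := fun y hy => by
        show (swap x b * swap x c) y = y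
        have hyx : y ≠ x := fun e => hy (e ▸ hx)
        rw [Perm.mul_apply, swap_apply_of_ne_of_ne hyx (fun e : y = c => hy (e ▸ hc)),
          swap_apply_of_ne_of_ne hyx (fun e : y = b => hy (e ▸ hb))]
      by_contra h
      push Not at h
      have h2 := congrArg (fun u : alternatingGroup α => (u : Perm α) x) (Subgroup.mem_centralizer_iff.1 hz σ hσ)
      simp only [Subgroup.coe_mul, σ, Perm.mul_apply] at h2
      rw [swap_apply_of_ne_of_ne h.1 h.2.2, swap_apply_of_ne_of_ne h.1 h.2.1, swap_apply_left,
        swap_apply_of_ne_of_ne hxc.symm hbc.symm] at h2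
      exact hxc ((z : Perm α).injective h2)
    have h4 : 4 ≤ (s.erase x).card := by rw [Finset.card_erase_of_mem hx]; omega
    obtain ⟨t, hts, ht⟩ := Finset.exists_subset_card_eq h4
    obtain ⟨b, c, d, e, hbc, hbd, hbe, hcd, hce, hde, rfl⟩ := Finset.card_eq_four.1 ht
    have hm : ∀ u ∈ ({b, c, d, e} : Finset α), u ∈ s ∧ x ≠ u := fun u hu =>
      ⟨Finset.mem_of_mem_erase (hts hu), (Finset.ne_of_mem_erase (hts hu)).symm⟩
    rcases h1 b c (hm b (by simp)).1 (hm c (by simp)).1 (hm b (by simp)).2 (hm c (by simp)).2 hbc with h | h | h <;>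
      rcases h1 d e (hm d (by simp)).1 (hm e (by simp)).1 (hm d (by simp)).2 (hm e (by simp)).2 hde with h' | h' | h' <;>
      first
        | exact h
        | exact h'
        | exact absurd (h.symm.trans h') (by assumption)
  · have hd : Perm.Disjoint (g : Perm α) (z : Perm α) := fun y => by
      by_cases hy : y ∈ s
      · exact Or.inr (hz y (by rw [Finset.mem_compl]; exact not_not.2 hy))
      · exact Or.inl (hg y hy)
    exact hd.commute.eq

theorem isQuasisimple_on (s : Finset α) (hs : 5 ≤ s.card) : Cfsg.IsQuasisimple ↥(on s) := by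
  have h5 : 5 ≤ Nat.card ↥s := by rw [Nat.card_eq_fintype_card, Fintype.card_coe]; exact hs
  haveI := alternatingGroup.isSimpleGroup h5
  have hperf := commutator_alternatingGroup_eq_top (α := ↥s) h5
  have hna : ¬ IsMulCommutative ↥(alternatingGroup ↥s) := fun h => by
    haveI := h
    haveI : Nontrivial ↥(alternatingGroup ↥s) := alternatingGroup.nontrivial_of_three_le_card (by omega)
    have h' : commutator ↥(alternatingGroup ↥s) = ⊥ := by
      rw [commutator_def, Subgroup.commutator_eq_bot_iff_le_centralizer]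
      exact fun x _ => Subgroup.mem_centralizer_iff.2 fun y _ => mul_comm' y x
    exact top_ne_bot (hperf.symm.trans h')
  have hq : Cfsg.IsQuasisimple ↥(alternatingGroup ↥s) := by
    refine ⟨⟨hperf⟩, ?_⟩
    have hc : Subgroup.center ↥(alternatingGroup ↥s) = ⊥ :=
      ((inferInstance : (Subgroup.center ↥(alternatingGroup ↥s)).Normal).eq_bot_or_eq_top).resolve_right fun h =>
        hna ⟨⟨fun x y => (Subgroup.mem_center_iff.1 (h ▸ Subgroup.mem_top y) x)⟩⟩
    haveI : Nontrivial (↥(alternatingGroup ↥s) ⧸ Subgroup.center ↥(alternatingGroup ↥s)) :=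
      QuotientGroup.nontrivial_iff.2 (by rw [hc]; haveI : Nontrivial ↥(alternatingGroup ↥s) := alternatingGroup.nontrivial_of_three_le_card (by omega); exact bot_ne_top)
    exact IsSimpleGroup.isSimpleGroup_of_surjective (QuotientGroup.mk' _) (QuotientGroup.mk'_surjective _)
  refine CfsgLib.Inv.quasisimple_congr ((MonoidHom.ofInjective (f := alternatingGroup.ofSubtype s) ?_).trans
    (MulEquiv.subgroupCongr (range_ofSubtype s))) hq
  intro u v huv
  exact alternatingGroup.ofSubtype_inj.1 huv

theorem isStandard_on (s : Finset α) (hs : 5 ≤ s.card) (hP : sᶜ.card = 4) : Cfsg.IsStandardSubgroup (on s) := by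
  have hC := centralizer_on s hs
  obtain ⟨a, b, c, d, hab, hac, had, hbc, hbd, hcd, hPeq⟩ := Finset.card_eq_four.1 hP
  let D : alternatingGroup α := ⟨swap a b * swap c d, Perm.mul_mem_alternatingGroup_of_isSwap ⟨a, b, hab, rfl⟩ ⟨c, d, hcd, rfl⟩⟩
  have hmoved : ∀ x ∈ sᶜ, (D : Perm α) x ≠ x := by
    intro x hx
    rw [hPeq] at hx
    show (swap a b * swap c d) x ≠ x
    simp only [Finset.mem_insert, Finset.mem_singleton] at hx
    rcases hx with rfl | rfl | rfl | rfl
    · rw [Perm.mul_apply, swap_apply_of_ne_of_ne hac had, swap_apply_left]; exact hab.symm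
    · rw [Perm.mul_apply, swap_apply_of_ne_of_ne hbc hbd, swap_apply_right]; exact hab
    · rw [Perm.mul_apply, swap_apply_left, swap_apply_of_ne_of_ne had.symm hbd.symm]; exact hcd.symm
    · rw [Perm.mul_apply, swap_apply_right, swap_apply_of_ne_of_ne hac.symm hbc.symm]; exact hcd
  have hDC : D ∈ on sᶜ := fun x hx => by
    rw [hPeq] at hx
    simp only [Finset.mem_insert, Finset.mem_singleton, not_or] at hx
    show (swap a b * swap c d) x = x
    rw [Perm.mul_apply, swap_apply_of_ne_of_ne hx.2.2.1 hx.2.2.2, swap_apply_of_ne_of_ne hx.1 hx.2.1]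
  have hD2 : orderOf D = 2 := by
    refine orderOf_eq_prime ?_ fun h => hmoved a (by rw [hPeq]; simp) (by rw [h]; rfl)
    refine Subtype.ext (Equiv.ext fun x => ?_)
    by_cases hx : x ∈ sᶜ
    · rw [hPeq] at hx
      simp only [Finset.mem_insert, Finset.mem_singleton] at hx
      show ((swap a b * swap c d) ^ 2) x = x
      rw [pow_two]
      rcases hx with rfl | rfl | rfl | rfl <;>
        simp [swap_apply_def, hab, hac, had, hbc, hbd, hcd, hab.symm, hac.symm, had.symm, hbc.symm, hbd.symm, hcd.symm]
    · show ((swap a b * swap c d) ^ 2) x = x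
      have := hDC x hx
      rw [pow_two, Perm.mul_apply]
      exact (congrArg _ this).trans this
  -- stabilizing the four points
  have hstab : ∀ g : alternatingGroup α, g ∈ Subgroup.normalizer (on sᶜ : Set (alternatingGroup α)) →
      ∀ x, (x ∈ sᶜ ↔ ((g : Perm α))⁻¹ x ∈ sᶜ) := by
    intro g hg
    have key : ∀ g : alternatingGroup α, g ∈ Subgroup.normalizer (on sᶜ : Set (alternatingGroup α)) →
        ∀ y ∈ sᶜ, (g : Perm α) y ∈ sᶜ := by
      intro g hg y hy
      by_contra h
      have h1 := mem_on.1 ((Subgroup.mem_normalizer_iff.1 hg D).1 hDC) _ h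
      simp only [Subgroup.coe_mul, Subgroup.coe_inv, Perm.mul_apply, Perm.inv_def, Equiv.symm_apply_apply] at h1
      exact hmoved y hy ((g : Perm α).injective h1)
    intro x
    refine ⟨fun hx => ?_, fun hx => ?_⟩
    · have := key g⁻¹ (inv_mem hg) x hx
      rwa [Subgroup.coe_inv] at this
    · have := key g hg _ hx
      simpa using this
  have hnorm : ∀ (t : Finset α) (g : alternatingGroup α), (∀ x, x ∈ t ↔ ((g : Perm α))⁻¹ x ∈ t) →
      g ∈ Subgroup.normalizer (on t : Set (alternatingGroup α)) := by
    intro t g hg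
    refine Subgroup.mem_normalizer_iff.2 fun k => ⟨fun hk x hx => conj_mem_on hk (fun h => hx ((hg x).2 h)), fun hk x hx => ?_⟩
    have h1 := mem_on.1 hk ((g : Perm α) x) (fun h => hx (by simpa using (hg _).1 h))
    simp only [Subgroup.coe_mul, Subgroup.coe_inv, Perm.mul_apply, Perm.inv_def, Equiv.symm_apply_apply] at h1
    exact (g : Perm α).injective h1
  have hle : ∀ g : alternatingGroup α, g ∈ Subgroup.normalizer (on sᶜ : Set (alternatingGroup α)) →
      g ∈ Subgroup.normalizer (on s : Set (alternatingGroup α)) := fun g hg => hnorm s g fun x => by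
    have := hstab g hg x
    rw [Finset.mem_compl, Finset.mem_compl, not_iff_not] at this
    exact this
  have hNN : Subgroup.normalizer (on s : Set (alternatingGroup α)) = Subgroup.normalizer (on sᶜ : Set (alternatingGroup α)) := by
    refine le_antisymm (fun g hg => ?_) hle
    rw [← hC]
    refine Subgroup.mem_normalizer_iff.2 fun k => ⟨fun hk => ?_, fun hk => ?_⟩
    · refine Subgroup.mem_centralizer_iff.2 fun l hl => ?_
      have := Subgroup.mem_centralizer_iff.1 hk _ ((Subgroup.mem_normalizer_iff''.1 hg l).1 hl)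
      have h2 := congrArg (fun u => g * u * g⁻¹) this
      simpa [mul_assoc] using h2
    · refine Subgroup.mem_centralizer_iff.2 fun l hl => ?_
      have := Subgroup.mem_centralizer_iff.1 hk _ ((Subgroup.mem_normalizer_iff.1 hg l).1 hl)
      have h2 := congrArg (fun u => g⁻¹ * u * g) this
      simpa [mul_assoc] using h2
  refine ⟨isQuasisimple_on s hs, ?_, fun g hg => ?_, by rw [hC, hNN]⟩
  · rw [hC]
    refine ⟨even_iff_two_dvd.2 (hD2 ▸ Subgroup.orderOf_dvd_natCard _ hDC), fun g hg => ?_⟩
    rw [← Nat.not_even_iff_odd, even_iff_two_dvd]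
    intro hdvd
    haveI : Fact (Nat.Prime 2) := ⟨Nat.prime_two⟩
    obtain ⟨⟨w, hw⟩, hw2⟩ := exists_prime_orderOf_dvd_card' 2 hdvd
    rw [Subgroup.orderOf_mk] at hw2
    obtain ⟨hwC, k, hk, hkw⟩ : w ∈ on sᶜ ∧ ∃ k ∈ on sᶜ, g * k * g⁻¹ = w := hw
    obtain ⟨x, hx, hx'⟩ : ∃ x ∈ sᶜ, ((g : Perm α))⁻¹ x ∉ sᶜ := by
      by_contra h
      push Not at h
      refine hg (hnorm _ g fun x => ⟨h x, fun hx => ?_⟩)
      have he : sᶜ.image (fun y => ((g : Perm α))⁻¹ y) = sᶜ := Finset.eq_of_subset_of_card_le
        (Finset.image_subset_iff.2 h) (by rw [Finset.card_image_of_injective _ (((g : Perm α))⁻¹).injective])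
      rw [← he, Finset.mem_image] at hx
      obtain ⟨y, hy, hy'⟩ := hx
      exact ((g : Perm α))⁻¹.injective hy' ▸ hy
    have hwx : (w : Perm α) x = x := hkw ▸ conj_mem_on hk hx'
    have hw1 : w ≠ 1 := fun e => by rw [e, orderOf_one] at hw2; norm_num at hw2
    obtain ⟨u, hu⟩ : ∃ u, (w : Perm α) u ≠ u := by
      by_contra h
      push Not at h
      exact hw1 (Subtype.ext (Equiv.ext h))
    have hww : ∀ y, (w : Perm α) ((w : Perm α) y) = y := fun y => by
      have := pow_orderOf_eq_one w
      rw [hw2, pow_two] at this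
      exact congrArg (fun q : alternatingGroup α => (q : Perm α) y) this
    have hmem : ∀ y, (w : Perm α) y ≠ y → y ∈ sᶜ.erase x := fun y hy => by
      refine Finset.mem_erase.2 ⟨fun e => hy (e ▸ hwx), ?_⟩
      by_contra h
      exact hy (hwC y h)
    have hsw : (w : Perm α) = swap u ((w : Perm α) u) := by
      refine Equiv.ext fun y => ?_
      by_cases hyu : y = u
      · rw [hyu, swap_apply_left]
      by_cases hyv : y = (w : Perm α) u
      · rw [hyv, swap_apply_right, hww]
      rw [swap_apply_of_ne_of_ne hyu hyv]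
      by_contra hy
      have hsub : ({u, (w : Perm α) u, y, (w : Perm α) y} : Finset α) ⊆ sᶜ.erase x := by
        intro q hq
        simp only [Finset.mem_insert, Finset.mem_singleton] at hq
        refine hmem q ?_
        rcases hq with rfl | rfl | rfl | rfl
        · exact hu
        · rw [hww]; exact hu.symm
        · exact hy
        · rw [hww]; exact Ne.symm hy
      have h4 := Finset.card_le_card hsub
      rw [Finset.card_erase_of_mem hx, hP] at h4
      have h5 : ({u, (w : Perm α) u, y, (w : Perm α) y} : Finset α).card = 4 := Finset.card_eq_four.2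
        ⟨_, _, _, _, hu.symm, Ne.symm hyu, fun e => hyv (by rw [e, hww]), Ne.symm hyv,
          fun e => hyu ((w : Perm α).injective e).symm, Ne.symm hy, rfl⟩
      omega
    have hsign : Perm.sign (w : Perm α) = 1 := Perm.mem_alternatingGroup.1 w.2
    rw [hsw, Perm.sign_swap hu.symm] at hsign
    exact absurd hsign (by decide)
  · intro h
    rw [Subgroup.commutator_comm, Subgroup.commutator_eq_bot_iff_le_centralizer, hC] at h
    have hsub : s.image (fun y => (g : Perm α) y) ⊆ sᶜ := by
      intro y hy
      rw [Finset.mem_image] at hy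
      obtain ⟨z, hz, rfl⟩ := hy
      by_contra hzc
      have h4 : 4 ≤ (s.erase z).card := by rw [Finset.card_erase_of_mem hz]; omega
      obtain ⟨b', c', hb', hc', hbc'⟩ := Finset.one_lt_card_iff.1 (show 1 < (s.erase z).card by omega)
      have hzb := (Finset.ne_of_mem_erase hb').symm
      have hzc' := (Finset.ne_of_mem_erase hc').symm
      let σ : alternatingGroup α := ⟨swap z b' * swap z c', (Perm.isThreeCycle_swap_mul_swap_same hzb hzc' hbc').mem_alternatingGroup⟩
      have hσ : σ ∈ on s := fun q hq => by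
        show (swap z b' * swap z c') q = q
        have hqz : q ≠ z := fun e => hq (e ▸ hz)
        rw [Perm.mul_apply, swap_apply_of_ne_of_ne hqz (fun e : q = c' => hq (e ▸ Finset.mem_of_mem_erase hc')),
          swap_apply_of_ne_of_ne hqz (fun e : q = b' => hq (e ▸ Finset.mem_of_mem_erase hb'))]
      have h1 := mem_on.1 (h ⟨σ, hσ, rfl⟩) _ hzc
      simp only [MulEquiv.coe_toMonoidHom, MulAut.conj_apply, Subgroup.coe_mul, Subgroup.coe_inv, Perm.mul_apply,
        Perm.inv_def, Equiv.symm_apply_apply] at h1
      have h2 := (g : Perm α).injective h1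
      simp only [σ, Perm.mul_apply, swap_apply_left] at h2
      rw [swap_apply_of_ne_of_ne hzc'.symm hbc'.symm] at h2
      exact hzc' h2.symm
    have := Finset.card_le_card hsub
    rw [Finset.card_image_of_injective _ (g : Perm α).injective, hP] at this
    omega

theorem main (n : ℕ) (h4 : 4 ≤ n) (hn : 9 ≤ n) :
    Cfsg.IsStandardSubgroup (⨅ i : Fin 4, MulAction.stabilizer ↥(alternatingGroup (Fin n)) (Fin.castLE h4 i : Fin n)) := by
  classical
  set P : Finset (Fin n) := Finset.univ.map (Fin.castLEEmb h4) with hP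
  have hcard : P.card = 4 := by rw [hP, Finset.card_map, Finset.card_univ, Fintype.card_fin]
  have e : (⨅ i : Fin 4, MulAction.stabilizer ↥(alternatingGroup (Fin n)) (Fin.castLE h4 i : Fin n)) = on Pᶜ := by
    ext g
    simp only [Subgroup.mem_iInf, MulAction.mem_stabilizer_iff, mem_on, Finset.mem_compl, not_not, hP, Finset.mem_map,
      Finset.mem_univ, true_and, forall_exists_index, forall_apply_eq_imp_iff]
    exact Iff.rfl
  rw [e]
  exact isStandard_on _ (by rw [Finset.card_compl, hcard, Fintype.card_fin]; omega) (by rw [compl_compl, hcard])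

end CfsgLib.Fus.AltStandard
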