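import Mathlib.GroupTheory.Sylow
import Mathlib.GroupTheory.SpecificGroups.Alternating
import Mathlib.Data.Nat.Choose.Factorization
import Mathlib.Data.ZMod.Basic
import Mathlib.Tactic

/-!
Abelian Sylow subgroups of alternating groups.
-/

set_option autoImplicit false
set_option linter.style.haveILetI false

namespace CfsgLib.Fus.AltSylow

open Equiv Equiv.Perm

variable {p : ℕ} [hp : Fact p.Prime] {n : ℕ}

theorem exists_hom_of_sign {W X : Type*} [Group W] [Fintype X] [DecidableEq X]
    (hc : Fintype.card X ≤ n) (ψ : W →* Perm X) (hψ : Function.Injective ψ) (hs : ∀ w, sign (ψ w) = 1) :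
    ∃ φ : W →* alternatingGroup (Fin n), Function.Injective φ := by
  obtain ⟨ι⟩ := Function.Embedding.nonempty_of_card_le (α := X) (β := Fin n) (by simpa using hc)
  refine ⟨((viaEmbeddingHom ι).comp ψ).codRestrict _ fun w => ?_, fun a b h => ?_⟩
  · rw [mem_alternatingGroup, MonoidHom.comp_apply, viaEmbeddingHom_apply]
    unfold viaEmbedding
    rw [sign_extendDomain]
    exact hs w
  · exact hψ (viaEmbeddingHom_injective ι (congrArg Subtype.val h))

theorem sign_of_odd {X : Type*} [Fintype X] [DecidableEq X] {k : ℕ} (hk : Odd k) {g : Perm X}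
    (hg : g ^ k = 1) : sign g = 1 := by
  have h := congrArg sign hg
  rw [map_pow, map_one] at h
  rcases Int.units_eq_one_or (sign g) with h1 | h1
  · exact h1
  · rw [h1, Odd.neg_one_pow hk] at h; exact absurd h (by decide)

/-- A commutative group of Sylow order forces abelian Sylow subgroups. -/
theorem abelian_of_embedding {G W : Type*} [Group G] [Finite G] [Group W] (S : Sylow p G) (φ : W →* G)
    (hφ : Function.Injective φ) (hab : ∀ a b : W, a * b = b * a)
    (hc : Nat.card W = p ^ (Nat.card G).factorization p) : IsMulCommutative S := by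
  let T : Sylow p G := Sylow.ofCard φ.range
    ((Nat.card_congr (φ.ofInjective hφ).toEquiv).symm.trans hc)
  have hT : ∀ x y : T, x * y = y * x := fun x y => by
    obtain ⟨a, ha⟩ := x.2
    obtain ⟨b, hb⟩ := y.2
    exact Subtype.ext (by
      show (x : G) * y = y * x
      rw [← ha, ← hb, ← map_mul, ← map_mul, hab])
  exact ⟨⟨fun x y => (S.equiv T).injective (by rw [map_mul, map_mul, hT])⟩⟩

/-- A non-commutative `p`-subgroup forces non-abelian Sylow subgroups. -/
theorem not_abelian_of_embedding {G W : Type*} [Group G] [Finite G] [Group W] (S : Sylow p G) (φ : W →* G)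
    (hφ : Function.Injective φ) (hW : IsPGroup p W) {a b : W} (hab : a * b ≠ b * a) :
    ¬ IsMulCommutative S := by
  intro h
  have hr : IsPGroup p φ.range := hW.of_surjective φ.rangeRestrict φ.rangeRestrict_surjective
  obtain ⟨T, hT⟩ := hr.exists_le_sylow
  have hT' : ∀ x y : T, x * y = y * x := fun x y =>
    (T.equiv S).injective (by rw [map_mul, map_mul, h.is_comm.comm])
  have h1 : φ a * φ b = φ b * φ a :=
    congrArg Subtype.val (hT' ⟨φ a, hT ⟨a, rfl⟩⟩ ⟨φ b, hT ⟨b, rfl⟩⟩)
  rw [← map_mul, ← map_mul] at h1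
  exact hab (hφ h1)

/-- Translations in the fibres. -/
def fibreHom (p m : ℕ) : (Fin m → Multiplicative (ZMod p)) →* Perm (Fin m × ZMod p) where
  toFun g :=
    { toFun := fun x => (x.1, x.2 + (g x.1).toAdd)
      invFun := fun x => (x.1, x.2 - (g x.1).toAdd)
      left_inv := fun x => Prod.ext rfl (add_sub_cancel_right _ _)
      right_inv := fun x => Prod.ext rfl (sub_add_cancel _ _) }
  map_one' := Equiv.ext fun x => Prod.ext rfl (show x.2 + (Multiplicative.toAdd (1 : Multiplicative (ZMod p))) = x.2 by simp)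
  map_mul' g h := by
    refine Equiv.ext fun x => Prod.ext rfl ?_
    show x.2 + ((g * h) x.1).toAdd = x.2 + (h x.1).toAdd + (g x.1).toAdd
    rw [Pi.mul_apply, toAdd_mul]
    ring

/-- The iterated wreath product as permutations. -/
def wreath (p : ℕ) : Subgroup (Perm (ZMod p × ZMod p)) where
  carrier := {g | ∃ (c : ZMod p) (f : ZMod p → ZMod p), ∀ x, g x = (x.1 + c, x.2 + f x.1)}
  one_mem' := ⟨0, 0, fun x => by simp⟩
  mul_mem' := by
    rintro g h ⟨c, f, hg⟩ ⟨d, e, hh⟩
    refine ⟨d + c, fun i => e i + f (i + d), fun x => ?_⟩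
    rw [Perm.mul_apply, hh, hg]
    simp [add_assoc]
  inv_mem' := by
    rintro g ⟨c, f, hg⟩
    refine ⟨-c, fun i => - f (i - c), fun x => g.injective ?_⟩
    rw [Perm.coe_inv, Equiv.apply_symm_apply, hg]
    simp [sub_eq_add_neg]

theorem wreath_pow (g : Perm (ZMod p × ZMod p)) (hg : g ∈ wreath p) : g ^ p ^ 2 = 1 := by
  obtain ⟨c, f, hg⟩ := hg
  have h1 : ∀ k : ℕ, ∃ F : ZMod p → ZMod p, ∀ x, (g ^ k) x = (x.1 + k * c, x.2 + F x.1) := by
    intro k
    induction k with
    | zero => exact ⟨0, fun x => by simp⟩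
    | succ k ih =>
      obtain ⟨F, hF⟩ := ih
      refine ⟨fun i => F i + f (i + k * c), fun x => ?_⟩
      rw [pow_succ', Perm.mul_apply, hF, hg]
      push_cast
      ext <;> simp <;> ring
  obtain ⟨F, hF⟩ := h1 p
  have h2 : ∀ k : ℕ, ∀ x, ((g ^ p) ^ k) x = (x.1, x.2 + k * F x.1) := by
    intro k
    induction k with
    | zero => intro x; simp
    | succ k ih =>
      intro x
      rw [pow_succ', Perm.mul_apply, ih, hF]
      push_cast
      ext <;> simp
      ring
  refine Equiv.ext fun x => ?_
  rw [pow_two, pow_mul, h2]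
  simp

theorem wreath_noncomm : ∃ a ∈ wreath p, ∃ b ∈ wreath p, a * b ≠ b * a := by
  refine ⟨⟨fun x => (x.1 + 1, x.2), fun x => (x.1 - 1, x.2), fun x => by simp, fun x => by simp⟩,
    ⟨1, 0, fun x => by simp⟩, ⟨fun x => (x.1, x.2 + if x.1 = 0 then 1 else 0),
      fun x => (x.1, x.2 - if x.1 = 0 then 1 else 0), fun x => by simp, fun x => by simp⟩,
    ⟨0, fun i => if i = 0 then 1 else 0, fun x => by simp⟩, fun h => ?_⟩
  have h1 := congrArg Prod.snd (Equiv.congr_fun h (0, 0))
  haveI : Nontrivial (ZMod p) := ⟨0, 1, fun h => hp.out.one_lt.ne' (ZMod.one_eq_zero_iff.1 h.symm)⟩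
  simp [Perm.mul_apply] at h1

theorem sq_fin_two : ∀ h : Perm (Fin 2), h ^ 2 = 1 := by decide

theorem iff_lt (hn : 6 ≤ n) (S : Sylow p (alternatingGroup (Fin n))) :
    IsMulCommutative S ↔ n < p ^ 2 := by
  classical
  haveI : NeZero p := ⟨hp.out.ne_zero⟩
  constructor
  · intro hab
    by_contra hlt
    push Not at hlt
    obtain ⟨a, ha, b, hb, hab'⟩ := wreath_noncomm (p := p)
    have hWp : IsPGroup p (wreath p) := fun g => ⟨2, Subtype.ext (by
      rw [SubmonoidClass.coe_pow]; exact wreath_pow _ g.2)⟩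
    by_cases h2 : p = 2
    · subst h2
      let W : Subgroup (wreath 2 × Perm (Fin 2)) :=
        ((sign.comp (wreath 2).subtype).coprod sign).ker
      let ψ : W →* Perm ((ZMod 2 × ZMod 2) ⊕ Fin 2) :=
        (sumCongrHom _ _).comp (((wreath 2).subtype.prodMap (MonoidHom.id _)).comp W.subtype)
      have hψ : Function.Injective ψ := by
        intro x y h
        have h1 := sumCongrHom_injective h
        refine Subtype.ext (Prod.ext (Subtype.ext ?_) ?_)
        · exact (congrArg Prod.fst h1 :)
        · exact (congrArg Prod.snd h1 :)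
      obtain ⟨φ, hφ⟩ := exists_hom_of_sign (n := n) (by simp; omega) ψ hψ fun w => by
        show sign (Equiv.sumCongr _ _) = 1
        rw [sign_sumCongr]
        exact w.2
      have hp2 : IsPGroup 2 (wreath 2 × Perm (Fin 2)) := fun g => by
        refine ⟨2, Prod.ext (Subtype.ext ?_) ?_⟩
        · rw [Prod.pow_fst, SubmonoidClass.coe_pow]; exact wreath_pow _ g.1.2
        · rw [Prod.pow_snd, Prod.snd_one]
          rw [pow_two, pow_mul, sq_fin_two]
      have hlift : ∀ g : wreath 2, ∃ h : Perm (Fin 2), (g, h) ∈ W := by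
        intro g
        rcases Int.units_eq_one_or (sign (g : Perm (ZMod 2 × ZMod 2))) with h | h
        · exact ⟨1, MonoidHom.mem_ker.2 (by simp [h])⟩
        · exact ⟨swap 0 1, MonoidHom.mem_ker.2 (by simp [h])⟩
      obtain ⟨ha', haW⟩ := hlift ⟨a, ha⟩
      obtain ⟨hb', hbW⟩ := hlift ⟨b, hb⟩
      refine not_abelian_of_embedding S φ hφ (hp2.to_subgroup W) (a := ⟨_, haW⟩) (b := ⟨_, hbW⟩) ?_ hab
      exact fun h => hab' (congrArg (fun w : W => (Prod.fst (Subtype.val w)).val) h)
    · have hodd : Odd (p ^ 2) := (hp.out.odd_of_ne_two h2).pow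
      obtain ⟨φ, hφ⟩ := exists_hom_of_sign (n := n) (by simpa [← sq] using hlt) (wreath p).subtype
        Subtype.val_injective fun w => sign_of_odd hodd (wreath_pow _ w.2)
      exact not_abelian_of_embedding S φ hφ hWp (a := ⟨a, ha⟩) (b := ⟨b, hb⟩)
        (fun h => hab' (congrArg Subtype.val h)) hab
  · intro hlt
    have h2 : p ≠ 2 := fun h => by subst h; omega
    set m := n / p
    obtain ⟨φ, hφ⟩ := exists_hom_of_sign (n := n)
      (by rw [Fintype.card_prod, Fintype.card_fin, ZMod.card]; exact Nat.div_mul_le_self n p)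
      (fibreHom p m) (fun g h he => by
        funext i
        have := congrArg Prod.snd (Equiv.congr_fun he (i, 0))
        simpa [fibreHom] using this)
      (fun w => sign_of_odd (hp.out.odd_of_ne_two h2) (by
        rw [← map_pow, show w ^ p = 1 from funext fun i => by
          rw [Pi.pow_apply, Pi.one_apply, ← toAdd_eq_zero, toAdd_pow, nsmul_eq_mul, ZMod.natCast_self, zero_mul],
          map_one]))
    refine abelian_of_embedding S φ hφ (fun a b => mul_comm a b) ?_
    haveI : Nontrivial (Fin n) := Fin.nontrivial_iff_two_le.2 (by omega)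
    have hA := two_mul_nat_card_alternatingGroup (α := Fin n)
    rw [Nat.card_perm, Nat.card_fin] at hA
    have hfac : (Nat.card (alternatingGroup (Fin n))).factorization p = m := by
      have h3 := congrArg (fun k => k.factorization p) hA
      simp only [Nat.factorization_mul two_ne_zero Nat.card_pos.ne', Finsupp.add_apply,
        Nat.Prime.factorization Nat.prime_two, Finsupp.single_eq_of_ne h2, zero_add] at h3
      rw [h3, Nat.factorization_factorial hp.out (b := 2) (Nat.log_lt_of_lt_pow (by omega) hlt)]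
      simp [m]
    rw [hfac]
    simp [Nat.card_eq_fintype_card, m]

end CfsgLib.Fus.AltSylow
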