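import Cfsg.Agent.Fus.System

/-!
Automorphism groups of subgroups in a fusion system, automorphisms induced by a subgroup, and their orders.
-/

set_option autoImplicit false
set_option linter.style.haveILetI false

open Cfsg Cfsg.FusionSystem

namespace CfsgLib.Fus

variable {Ω : Type*} [Group Ω] {S : Subgroup Ω} {F : FusionSystem S}

/-- An automorphism of `P` as a function on the ambient group. -/
noncomputable def autFun {P : Subgroup Ω} (α : MulAut P) : Ω → Ω := ev (P.subtype.comp α.toMonoidHom)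

theorem autFun_apply {P : Subgroup Ω} (α : MulAut P) (x : P) :
    autFun α (x : Ω) = ((α x : P) : Ω) :=
  ev_apply _ x

theorem autFun_of_mem {P : Subgroup Ω} (α : MulAut P) {x : Ω} (hx : x ∈ P) :
    autFun α x = ((α ⟨x, hx⟩ : P) : Ω) :=
  ev_of_mem _ hx

theorem autFun_mem {P : Subgroup Ω} (α : MulAut P) {x : Ω} (hx : x ∈ P) : autFun α x ∈ P := by
  rw [autFun_of_mem α hx]; exact (α ⟨x, hx⟩).2

theorem autFun_mul {P : Subgroup Ω} (α β : MulAut P) {x : Ω} (hx : x ∈ P) :
    autFun (α * β) x = autFun α (autFun β x) := by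
  rw [autFun_of_mem _ hx, autFun_of_mem β hx, autFun_apply]; rfl

theorem autFun_one {P : Subgroup Ω} {x : Ω} (hx : x ∈ P) : autFun (1 : MulAut P) x = x := by
  rw [autFun_of_mem _ hx]; rfl

theorem autFun_inv_apply {P : Subgroup Ω} (α : MulAut P) {x : Ω} (hx : x ∈ P) :
    autFun α (autFun α⁻¹ x) = x := by
  rw [← autFun_mul _ _ hx, mul_inv_cancel, autFun_one hx]

theorem aut_ext {P : Subgroup Ω} {α β : MulAut P} (h : ∀ x ∈ P, autFun α x = autFun β x) : α = β :=
  MulEquiv.ext fun x => Subtype.ext (by rw [← autFun_apply α, ← autFun_apply β]; exact h x x.2)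

theorem img_autFun {P : Subgroup Ω} (α : MulAut P) : img (autFun α) P = P :=
  le_antisymm (img_le_iff.2 fun x hx => autFun_mem α hx) fun x hx => by
    rw [← autFun_inv_apply α hx]
    exact mem_img_of_mem (autFun_mem _ hx)

theorem mem_autGroup {P : Subgroup Ω} (hP : P ≤ S) {α : MulAut P} :
    α ∈ F.autGroup P ↔ IsMap F P (autFun α) := by
  refine ⟨fun h => ?_, fun h => Subgroup.subset_closure (h.hom_mem fun x => (autFun_apply α x).symm)⟩
  induction h using Subgroup.closure_induction with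
  | mem β hβ => exact IsMap.of_hom hβ
  | one => exact (IsMap.id' F hP).congr fun x hx => (autFun_one hx).symm
  | mul β γ _ _ ihb ihc =>
    exact (ihc.comp ihb fun x hx => autFun_mem γ hx).congr fun x hx => (autFun_mul β γ hx).symm
  | inv β _ ihb =>
    obtain ⟨g, hg, hgl, -, -⟩ := ihb.inv
    rw [img_autFun] at hg
    refine hg.congr fun x hx => ?_
    calc g x = g (autFun β (autFun β⁻¹ x)) := by rw [autFun_inv_apply β hx]
      _ = autFun β⁻¹ x := hgl _ (autFun_mem _ hx)

theorem autGroup_eq_bot {P : Subgroup Ω} (hP : ¬ P ≤ S) : F.autGroup P = ⊥ :=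
  eq_bot_iff.2 ((Subgroup.closure_le _).2 fun _ hα => absurd (F.le_of_mem hα).1 hP)

theorem exists_aut {P : Subgroup Ω} {f : Ω → Ω} (h : IsMap F P f) (hP : img f P = P) :
    ∃ α ∈ F.autGroup P, ∀ x ∈ P, autFun α x = f x := by
  obtain ⟨e, he⟩ := h.equiv hP
  have hef : ∀ x ∈ P, autFun (e : MulAut P) x = f x := fun x hx =>
    (autFun_of_mem _ hx).trans (he ⟨x, hx⟩)
  exact ⟨e, (mem_autGroup h.le).2 (h.congr fun x hx => (hef x hx).symm), hef⟩

theorem autGroup_mono {P : Subgroup Ω} {E : FusionSystem S} (h : ∀ f, IsMap E P f → IsMap F P f) :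
    E.autGroup P ≤ F.autGroup P := by
  by_cases hP : P ≤ S
  · exact fun α hα => (mem_autGroup hP).2 (h _ ((mem_autGroup hP).1 hα))
  · rw [autGroup_eq_bot hP]; exact bot_le

theorem autGroup_le_iff {P : Subgroup Ω} {T : Subgroup Ω} {E : FusionSystem T} (hP : P ≤ S) (hT : P ≤ T) :
    F.autGroup P ≤ E.autGroup P ↔ ∀ f, IsMap F P f → img f P = P → IsMap E P f := by
  constructor
  · intro h f hf hi
    obtain ⟨α, hα, he⟩ := exists_aut hf hi
    exact ((mem_autGroup hT).1 (h hα)).congr he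
  · exact fun h α hα => (mem_autGroup hT).2 (h _ ((mem_autGroup hP).1 hα) (img_autFun α))

/-! ### Automorphisms induced by a subgroup -/

theorem mem_autInducedBy {K P : Subgroup Ω} {α : MulAut P} :
    α ∈ autInducedBy K P ↔ ∃ g ∈ K, ∀ x ∈ P, autFun α x = g * x * g⁻¹ := by
  constructor
  · intro h
    induction h using Subgroup.closure_induction with
    | mem β hβ =>
      obtain ⟨g, hg, hb⟩ := hβ
      exact ⟨g, hg, fun x hx => (autFun_of_mem β hx).trans (hb ⟨x, hx⟩)⟩
    | one => exact ⟨1, K.one_mem, fun x hx => by rw [autFun_one hx]; simp⟩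
    | mul β γ _ _ ihb ihc =>
      obtain ⟨g, hg, hb⟩ := ihb
      obtain ⟨k, hk, hc⟩ := ihc
      refine ⟨g * k, K.mul_mem hg hk, fun x hx => ?_⟩
      rw [autFun_mul _ _ hx, hb _ (autFun_mem γ hx), hc x hx]
      simp only [mul_inv_rev, mul_assoc]
    | inv β _ ihb =>
      obtain ⟨g, hg, hb⟩ := ihb
      refine ⟨g⁻¹, K.inv_mem hg, fun x hx => ?_⟩
      have h1 := (autFun_inv_apply β hx).symm.trans (hb _ (autFun_mem β⁻¹ hx))
      calc autFun β⁻¹ x = g⁻¹ * (g * autFun β⁻¹ x * g⁻¹) * g := by simp [mul_assoc]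
        _ = g⁻¹ * x * g⁻¹⁻¹ := by rw [← h1, inv_inv]
  · rintro ⟨g, hg, hb⟩
    exact Subgroup.subset_closure ⟨g, hg, fun x => (autFun_apply α x).symm.trans (hb x x.2)⟩

theorem mem_normalizer_of_aut {P : Subgroup Ω} {α : MulAut P} {g : Ω}
    (h : ∀ x ∈ P, autFun α x = g * x * g⁻¹) : g ∈ Subgroup.normalizer (P : Set Ω) := by
  refine mem_normalizer_of_conj (fun x hx => h x hx ▸ autFun_mem α hx) fun x hx => ?_
  have h1 := (autFun_inv_apply α hx).symm.trans (h _ (autFun_mem α⁻¹ hx))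
  have h2 : g⁻¹ * x * g = autFun α⁻¹ x := by
    conv_lhs => rw [h1]
    simp [mul_assoc]
  exact h2 ▸ autFun_mem _ hx

theorem normalizerMonoidHom_autFun {P : Subgroup Ω} (g : Subgroup.normalizer (P : Set Ω)) {x : Ω}
    (hx : x ∈ P) : autFun (P.normalizerMonoidHom g) x = (g : Ω) * x * (g : Ω)⁻¹ :=
  autFun_of_mem _ hx

theorem exists_autInducedBy {K P : Subgroup Ω} {g : Ω} (hg : g ∈ K)
    (hn : g ∈ Subgroup.normalizer (P : Set Ω)) :
    ∃ α ∈ autInducedBy K P, ∀ x ∈ P, autFun α x = g * x * g⁻¹ :=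
  ⟨P.normalizerMonoidHom ⟨g, hn⟩,
    mem_autInducedBy.2 ⟨g, hg, fun _ hx => normalizerMonoidHom_autFun _ hx⟩,
    fun _ hx => normalizerMonoidHom_autFun _ hx⟩

/-- The map from `N_K(P)` onto the automorphisms of `P` induced by `K`. -/
def inducedHom (K P : Subgroup Ω) : ↥(normalizerIn K P) →* MulAut P :=
  P.normalizerMonoidHom.comp (Subgroup.inclusion inf_le_right)

theorem inducedHom_apply (K P : Subgroup Ω) (g : normalizerIn K P) {x : Ω} (hx : x ∈ P) :
    autFun (inducedHom K P g) x = (g : Ω) * x * (g : Ω)⁻¹ :=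
  normalizerMonoidHom_autFun _ hx

theorem range_inducedHom (K P : Subgroup Ω) : (inducedHom K P).range = autInducedBy K P := by
  refine le_antisymm ?_ fun α hα => ?_
  · rintro _ ⟨g, rfl⟩
    exact mem_autInducedBy.2 ⟨g, g.2.1, fun _ hx => inducedHom_apply K P g hx⟩
  · obtain ⟨g, hg, hb⟩ := mem_autInducedBy.1 hα
    exact ⟨⟨g, hg, mem_normalizer_of_aut hb⟩, aut_ext fun x hx => by
      rw [inducedHom_apply K P _ hx, hb x hx]⟩

theorem ker_inducedHom (K P : Subgroup Ω) :
    (inducedHom K P).ker = (centralizerIn K P).subgroupOf (normalizerIn K P) := by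
  ext g
  rw [MonoidHom.mem_ker, Subgroup.mem_subgroupOf]
  constructor
  · refine fun h => ⟨g.2.1, fun x hx => ?_⟩
    have := (inducedHom_apply K P g hx).symm.trans (h ▸ autFun_one hx)
    exact (mul_inv_eq_iff_eq_mul.1 this).symm
  · intro h
    refine aut_ext fun x hx => ?_
    rw [inducedHom_apply K P g hx, autFun_one hx, mul_inv_eq_iff_eq_mul, h.2 x hx]

theorem card_autInducedBy_mul (K P : Subgroup Ω) :
    Nat.card ↥(autInducedBy K P) * Nat.card ↥(centralizerIn K P) =
      Nat.card ↥(normalizerIn K P) := by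
  have hle : centralizerIn K P ≤ normalizerIn K P :=
    inf_le_inf le_rfl (Subgroup.centralizer_le_normalizer _)
  rw [← range_inducedHom, ← Nat.card_congr (QuotientGroup.quotientKerEquivRange _).toEquiv,
    ← Nat.card_congr (Subgroup.subgroupOfEquivOfLe hle).toEquiv, ← ker_inducedHom]
  exact (Subgroup.card_eq_card_quotient_mul_card_subgroup _).symm

theorem autInducedBy_mono {K L P : Subgroup Ω} (h : K ≤ L) : autInducedBy K P ≤ autInducedBy L P := by
  intro α hα
  obtain ⟨g, hg, hb⟩ := mem_autInducedBy.1 hα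
  exact mem_autInducedBy.2 ⟨g, h hg, hb⟩

theorem autInducedBy_le_autGroup {P : Subgroup Ω} (hP : P ≤ S) :
    autInducedBy S P ≤ F.autGroup P := by
  intro α hα
  obtain ⟨g, hg, hb⟩ := mem_autInducedBy.1 hα
  exact (mem_autGroup hP).2 ((IsMap.conj F hP hg).congr fun x hx => (hb x hx).symm)

theorem inn_eq_autInducedBy (P : Subgroup Ω) : Inn P = autInducedBy P P := by
  ext α
  rw [mem_autInducedBy]
  constructor
  · rintro ⟨g, rfl⟩
    exact ⟨g, g.2, fun x hx => (autFun_of_mem _ hx).trans rfl⟩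
  · rintro ⟨g, hg, hb⟩
    refine ⟨⟨g, hg⟩, aut_ext fun x hx => ?_⟩
    rw [hb x hx, autFun_of_mem _ hx]
    rfl

theorem inn_le_autInducedBy {P : Subgroup Ω} (hP : P ≤ S) : Inn P ≤ autInducedBy S P :=
  inn_eq_autInducedBy P ▸ autInducedBy_mono hP

theorem inn_le_autGroup {P : Subgroup Ω} (hP : P ≤ S) : Inn P ≤ F.autGroup P :=
  (inn_le_autInducedBy hP).trans (autInducedBy_le_autGroup hP)

theorem inn_normal {G : Type*} [Group G] : (Inn G).Normal := by
  refine ⟨?_⟩
  rintro _ ⟨g, rfl⟩ α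
  exact ⟨α g, MulEquiv.ext fun x => by simp [MulAut.conj_apply, MulAut.inv_def]⟩

theorem inn_subgroupOf_normal (H : Subgroup (MulAut ↥S)) : ((Inn ↥S).subgroupOf H).Normal := by
  haveI := inn_normal (G := ↥S)
  infer_instance

theorem inn_subgroupOf_autGroup_normal (P : Subgroup Ω) :
    ((Inn ↥P).subgroupOf (F.autGroup P)).Normal := by
  haveI := inn_normal (G := ↥P)
  infer_instance

theorem isPGroup_autInducedBy {p : ℕ} {P : Subgroup Ω} (hS : IsPGroup p S) :
    IsPGroup p (autInducedBy S P) := by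
  rw [← range_inducedHom]
  exact (hS.to_le (normalizerIn_le P)).of_surjective _ (inducedHom S P).rangeRestrict_surjective

/-! ### Transport along an isomorphism of the system -/

theorem autFun_congr {P Q : Subgroup Ω} {f : Ω → Ω} {e : P ≃* Q} (he : ∀ x : P, (e x : Ω) = f x)
    (α : MulAut P) {x : Ω} (hx : x ∈ P) : autFun (MulAut.congr e α) (f x) = f (autFun α x) := by
  have h1 : f x = ((e ⟨x, hx⟩ : Q) : Ω) := (he ⟨x, hx⟩).symm
  rw [h1, autFun_apply, autFun_of_mem α hx, ← he]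
  simp [MulAut.congr_apply]

theorem congr_mem_autGroup {P Q : Subgroup Ω} {f : Ω → Ω} {e : P ≃* Q} (hf : IsMap F P f)
    (hQ : img f P = Q) (he : ∀ x : P, (e x : Ω) = f x) {α : MulAut P} (hα : α ∈ F.autGroup P) :
    MulAut.congr e α ∈ F.autGroup Q := by
  subst hQ
  obtain ⟨g, hg, hgl, -, hgi⟩ := hf.inv
  refine (mem_autGroup hf.img_le).2 (((hg.comp ((mem_autGroup hf.le).1 hα) fun y hy => ?_).comp hf
    fun y hy => ?_).congr fun y hy => ?_)
  · exact hgi ▸ mem_img_of_mem hy
  · exact autFun_mem α (hgi ▸ mem_img_of_mem hy)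
  · obtain ⟨x, hx, rfl⟩ := hf.mem_img.1 hy
    simp only [Function.comp_apply, hgl x hx]
    exact (autFun_congr he α hx).symm

theorem map_autGroup {P Q : Subgroup Ω} {f : Ω → Ω} {e : P ≃* Q} (hf : IsMap F P f)
    (hQ : img f P = Q) (he : ∀ x : P, (e x : Ω) = f x) :
    (F.autGroup P).map (MulAut.congr e).toMonoidHom = F.autGroup Q := by
  refine le_antisymm ?_ fun β hβ => ?_
  · rintro _ ⟨α, hα, rfl⟩
    exact congr_mem_autGroup hf hQ he hα
  subst hQ
  obtain ⟨g, hg, hgl, hgr, hgi⟩ := hf.inv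
  refine ⟨MulAut.congr e.symm β, congr_mem_autGroup hg hgi (fun y => ?_) hβ, (MulAut.congr e).apply_symm_apply β⟩
  obtain ⟨x, rfl⟩ := e.surjective y
  rw [e.symm_apply_apply, he, hgl x x.2]

theorem card_autGroup_eq {P Q : Subgroup Ω} (h : F.IsConj P Q) :
    Nat.card ↥(F.autGroup Q) = Nat.card ↥(F.autGroup P) := by
  obtain ⟨f, hf, hQ⟩ := isConj_iff.1 h
  obtain ⟨e, he⟩ := hf.equiv hQ
  rw [← map_autGroup hf hQ he]
  exact (Nat.card_congr ((F.autGroup P).equivMapOfInjective _ (MulAut.congr e).injective).toEquiv).symm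

theorem finite_mulAut [Finite S] {P : Subgroup Ω} (hP : P ≤ S) : Finite (MulAut P) :=
  haveI := finite_of_le hP
  inferInstanceAs (Finite (↥P ≃* ↥P))

end CfsgLib.Fus
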