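import Cfsg.Agent.Solv.PGroups
import Mathlib.GroupTheory.PGroup
import Mathlib.Algebra.BigOperators.Group.Finset.Basic

/-!
The Baer trick: coprime operators fixing all fixed points of a p-operator act trivially (p odd).
-/

set_option autoImplicit false
set_option linter.style.haveILetI false
set_option linter.deprecated false

open scoped commutatorElement

namespace CfsgLib.Fus.BaerFixed

theorem trivial_of_fixed_points_comm {V : Type*} [CommGroup V] [Finite V] {p : ℕ} [Fact p.Prime]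
    (hV : IsPGroup p V) (Q : Subgroup (MulAut V)) (hQ : (Nat.card Q).Coprime p) (b : MulAut V)
    (hb : ∃ k : ℕ, b ^ p ^ k = 1) (hbQ : b ∈ Subgroup.normalizer (Q : Set (MulAut V)))
    (hfix : ∀ v : V, b v = v → ∀ q ∈ Q, q v = v) : ∀ q ∈ Q, ∀ v : V, q v = v := by
  classical
  haveI : Fintype Q := Fintype.ofFinite _
  let π : V →* V :=
    { toFun := fun v => ∏ q : Q, (q : MulAut V) v
      map_one' := by simp
      map_mul' := fun v w => by simp [Finset.prod_mul_distrib] }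
  have hπapp : ∀ v : V, π v = ∏ q : Q, (q : MulAut V) v := fun v => rfl
  have hπq : ∀ q : Q, ∀ v : V, π ((q : MulAut V) v) = π v := by
    intro q v
    rw [hπapp, hπapp]
    exact Fintype.prod_equiv (Equiv.mulRight q) _ _ fun r => rfl
  have hπb : ∀ v : V, b (π v) = π (b v) := by
    intro v
    rw [hπapp, hπapp, map_prod]
    let e : Q ≃ Q :=
      { toFun := fun r => ⟨b * r * b⁻¹, (Subgroup.mem_normalizer_iff.1 hbQ r).1 r.2⟩
        invFun := fun r => ⟨b⁻¹ * r * b, (Subgroup.mem_normalizer_iff'.1 hbQ _).2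
          (by rw [show b * (b⁻¹ * (r : MulAut V)) = r by group]; exact r.2)⟩
        left_inv := fun r => Subtype.ext (show b⁻¹ * (b * (r : MulAut V) * b⁻¹) * b = r by group)
        right_inv := fun r => Subtype.ext (show b * (b⁻¹ * (r : MulAut V) * b) * b⁻¹ = r by group) }
    refine Fintype.prod_equiv e _ _ fun r => ?_
    show b ((r : MulAut V) v) = (b * (r : MulAut V) * b⁻¹) (b v)
    rw [MulAut.mul_apply, MulAut.mul_apply, show b⁻¹ (b v) = v from b.symm_apply_apply v]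
  have hker : π.ker = ⊥ := by
    by_contra hne
    obtain ⟨k, hk⟩ := hb
    have hbK : ∀ v ∈ π.ker, b v ∈ π.ker := fun v hv => by
      show π (b v) = 1
      rw [← hπb, show π v = 1 from hv, map_one]
    let bK : MulAut π.ker :=
      { toFun := fun v => ⟨b v, hbK v v.2⟩
        invFun := fun v => ⟨b.symm v, by
          show π (b.symm (v : V)) = 1
          apply b.injective
          rw [hπb, b.apply_symm_apply, map_one]
          exact v.2⟩
        left_inv := fun v => Subtype.ext (b.symm_apply_apply v)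
        right_inv := fun v => Subtype.ext (b.apply_symm_apply v)
        map_mul' := fun v w => Subtype.ext (map_mul b (v : V) w) }
    have hbKp : bK ^ p ^ k = 1 := by
      have : ∀ n : ℕ, ∀ v : π.ker, (((bK ^ n) v : π.ker) : V) = (b ^ n) (v : V) := by
        intro n
        induction n with
        | zero => intro v; rfl
        | succ n ih => intro v; rw [pow_succ, pow_succ, MulAut.mul_apply, MulAut.mul_apply, ih]; rfl
      ext v
      rw [this, hk]; rfl
    have hP : IsPGroup p (Subgroup.zpowers bK) := by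
      obtain ⟨i, -, hi⟩ := (Nat.dvd_prime_pow Fact.out).1 (orderOf_dvd_of_pow_eq_one hbKp)
      exact IsPGroup.of_card (n := i) (by rw [Nat.card_zpowers, hi])
    haveI : Nontrivial π.ker := (Subgroup.nontrivial_iff_ne_bot _).2 hne
    obtain ⟨m, hm0, hm⟩ := (hV.to_subgroup π.ker).nontrivial_iff_card.1 ‹_›
    have h1 : (1 : π.ker) ∈ MulAction.fixedPoints (Subgroup.zpowers bK) π.ker :=
      fun s => map_one (s : MulAut π.ker)
    obtain ⟨w, hw, hw1⟩ := hP.exists_fixed_point_of_prime_dvd_card_of_fixed_point π.ker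
      (hm ▸ dvd_pow_self p hm0.ne') h1
    have hwb : b (w : V) = w := congrArg Subtype.val (hw ⟨bK, Subgroup.mem_zpowers bK⟩)
    have hπw : π (w : V) = (w : V) ^ Nat.card Q := by
      rw [hπapp, Finset.prod_congr rfl (fun (r : Q) _ => hfix _ hwb (r : MulAut V) r.2), Finset.prod_const,
        Finset.card_univ, Nat.card_eq_fintype_card]
    have hw0 : (w : V) ^ Nat.card Q = 1 := hπw ▸ w.2
    obtain ⟨i, hi⟩ := hV (w : V)
    refine hw1 (Subtype.ext ?_)
    have := pow_gcd_eq_one.2 ⟨hw0, hi⟩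
    rw [(hQ.pow_right i).gcd_eq_one, pow_one] at this
    exact this.symm
  intro q hq v
  have hmem : v⁻¹ * q v ∈ π.ker := by
    show π (v⁻¹ * q v) = 1
    rw [map_mul, map_inv, hπq ⟨q, hq⟩ v, inv_mul_cancel]
  rw [hker, Subgroup.mem_bot, inv_mul_eq_one] at hmem
  exact hmem.symm

/-- Baer's abelian group attached to a class two group of odd exponent. -/
structure Bw (U : Type*) where
  val : U

theorem trivial_of_fixed_points {U : Type*} [Group U] [Finite U] {p : ℕ} [hp : Fact p.Prime]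
    (hp2 : p ≠ 2) (hexp : ∀ u : U, u ^ p = 1) (hcl : ∀ u v w : U, Commute ⁅u, v⁆ w)
    (Q : Subgroup (MulAut U)) (hQ : (Nat.card Q).Coprime p) (b : MulAut U)
    (hb : ∃ k : ℕ, b ^ p ^ k = 1) (hbQ : b ∈ Subgroup.normalizer (Q : Set (MulAut U)))
    (hfix : ∀ u : U, b u = u → ∀ q ∈ Q, q u = u) : ∀ q ∈ Q, ∀ u : U, q u = u := by
  obtain ⟨t, ht⟩ : ∃ t, p = 2 * t + 1 := by
    obtain ⟨t, ht⟩ := hp.out.odd_of_ne_two hp2
    exact ⟨t, ht⟩
  set s := t + 1 with hs
  let f : U → U → U := fun v u => ⁅v, u⁆ ^ s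
  have hfc : ∀ u v w : U, Commute (f u v) w := fun u v w => (hcl u v w).pow_left s
  have hl : ∀ x y z : U, ⁅x * y, z⁆ = ⁅x, z⁆ * ⁅y, z⁆ := by
    intro x y z
    calc ⁅x * y, z⁆ = x * ⁅y, z⁆ * x⁻¹ * ⁅x, z⁆ := by simp [commutatorElement_def, mul_assoc]
      _ = ⁅y, z⁆ * ⁅x, z⁆ := by rw [← (hcl y z x).eq, mul_inv_cancel_right]
      _ = _ := (hcl y z _).eq
  have hr : ∀ x y z : U, ⁅x, y * z⁆ = ⁅x, y⁆ * ⁅x, z⁆ := by
    intro x y z
    rw [← commutatorElement_inv (y * z) x, hl, mul_inv_rev, commutatorElement_inv, commutatorElement_inv]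
    exact (hcl x z _).eq
  have hfl : ∀ x y z : U, f (x * y) z = f x z * f y z := fun x y z => by
    show _ ^ s = _ ^ s * _ ^ s
    rw [hl, (hcl x z _).mul_pow]
  have hfr : ∀ x y z : U, f x (y * z) = f x y * f x z := fun x y z => by
    show _ ^ s = _ ^ s * _ ^ s
    rw [hr, (hcl x y _).mul_pow]
  have hfc1 : ∀ u v w : U, f (f u v) w = 1 := fun u v w => by
    show ⁅f u v, w⁆ ^ s = 1
    rw [commutatorElement_eq_one_iff_commute.2 (hfc u v w), one_pow]
  have hfc2 : ∀ u v w : U, f w (f u v) = 1 := fun u v w => by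
    show ⁅w, f u v⁆ ^ s = 1
    rw [commutatorElement_eq_one_iff_commute.2 (hfc u v w).symm, one_pow]
  have hop_comm : ∀ u v : U, u * v * f v u = v * u * f u v := by
    intro u v
    show u * v * ⁅v, u⁆ ^ s = v * u * ⁅u, v⁆ ^ s
    have h1 : u * v = v * u * ⁅u, v⁆ := by
      rw [← (hcl u v (v * u)).eq]; simp [commutatorElement_def, mul_assoc]
    rw [h1, mul_assoc (v * u), ← commutatorElement_inv u v, inv_pow]
    congr 1
    have h2 : ⁅u, v⁆ ^ (2 * s) = ⁅u, v⁆ := by
      rw [show 2 * s = p + 1 by omega, pow_succ, hexp, one_mul]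
    rw [mul_inv_eq_iff_eq_mul, ← pow_add, ← two_mul, h2]
  let inst : CommGroup (Bw U) :=
    { mul := fun a b => ⟨a.val * b.val * f b.val a.val⟩
      one := ⟨1⟩
      inv := fun a => ⟨a.val⁻¹⟩
      mul_assoc := fun ⟨u⟩ ⟨v⟩ ⟨w⟩ => by
        show Bw.mk (u * v * f v u * w * f w (u * v * f v u)) = Bw.mk (u * (v * w * f w v) * f (v * w * f w v) u)
        congr 1
        rw [hfr w (u * v) (f v u), hfr w u v, hfc2 v u w, mul_one, hfl (v * w) (f w v) u, hfl v w u, hfc1 w v u, mul_one]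
        have A := (hfc v u w).eq
        calc u * v * f v u * w * (f w u * f w v)
            = u * v * (f v u * w) * (f w u * f w v) := by simp [mul_assoc]
          _ = u * v * (w * f v u) * (f w u * f w v) := by rw [A]
          _ = u * v * w * (f v u * f w u * f w v) := by simp [mul_assoc]
          _ = u * v * w * (f w v * (f v u * f w u)) := by rw [(hfc w v (f v u * f w u)).eq]
          _ = _ := by simp [mul_assoc]
      one_mul := fun ⟨u⟩ => by
        show Bw.mk (1 * u * f u 1) = Bw.mk u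
        simp [f]
      mul_one := fun ⟨u⟩ => by
        show Bw.mk (u * 1 * f 1 u) = Bw.mk u
        simp [f]
      inv_mul_cancel := fun ⟨u⟩ => by
        show Bw.mk (u⁻¹ * u * f u u⁻¹) = Bw.mk 1
        have : ⁅u, u⁻¹⁆ = 1 := commutatorElement_eq_one_iff_commute.2 (Commute.refl u).inv_right
        simp [f, this]
      mul_comm := fun ⟨u⟩ ⟨v⟩ => by
        show Bw.mk (u * v * f v u) = Bw.mk (v * u * f u v)
        rw [hop_comm] }
  letI := inst
  have hmul : ∀ a b : Bw U, a * b = ⟨a.val * b.val * f b.val a.val⟩ := fun a b => rfl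
  have hpowB : ∀ (u : U) (n : ℕ), (⟨u⟩ : Bw U) ^ n = ⟨u ^ n⟩ := by
    intro u n
    induction n with
    | zero => simp; rfl
    | succ n ih =>
      rw [pow_succ, ih, hmul]
      have : ⁅u, u ^ n⁆ = 1 := commutatorElement_eq_one_iff_commute.2 ((Commute.refl u).pow_right n)
      simp [f, this, pow_succ]
  haveI : Finite (Bw U) := Finite.of_surjective Bw.mk fun ⟨u⟩ => ⟨u, rfl⟩
  have hVp : IsPGroup p (Bw U) := fun ⟨u⟩ => ⟨1, by rw [pow_one, hpowB, hexp]; rfl⟩
  let ψ : MulAut U →* MulAut (Bw U) :=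
    { toFun := fun a =>
        { toFun := fun v => ⟨a v.val⟩
          invFun := fun v => ⟨a.symm v.val⟩
          left_inv := fun ⟨u⟩ => by simp
          right_inv := fun ⟨u⟩ => by simp
          map_mul' := fun ⟨u⟩ ⟨v⟩ => by
            rw [hmul, hmul]
            simp [f, map_mul, map_pow, map_commutatorElement] }
      map_one' := by ext v; rfl
      map_mul' := fun a c => by ext v; rfl }
  have key := trivial_of_fixed_points_comm hVp (Q.map ψ)
    (hQ.coprime_dvd_left (Subgroup.card_map_dvd ..)) (ψ b)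
    (by obtain ⟨k, hk⟩ := hb; exact ⟨k, by rw [← map_pow, hk, map_one]⟩)
    (Subgroup.le_normalizer_map ψ ⟨b, hbQ, rfl⟩)
    (by
      rintro ⟨u⟩ hu _ ⟨q, hq, rfl⟩
      exact congrArg Bw.mk (hfix u (congrArg Bw.val hu) q hq))
  intro q hq u
  exact congrArg Bw.val (key (ψ q) ⟨q, hq, rfl⟩ ⟨u⟩)

variable {G : Type*} [Group G] [Finite G] {p : ℕ} [hp : Fact p.Prime]

/-- A `p'`-subgroup centralizing all elements of order `p` fixed by a `p`-element centralizes the `p`-group. -/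
theorem le_centralizer_of_fixed_omega (hp2 : p ≠ 2) (Y Q : Subgroup G) (hY : IsPGroup p Y)
    (hQ : (Nat.card Q).Coprime p) (hQY : Q ≤ Subgroup.normalizer (Y : Set G)) (b : G)
    (hb : ∃ k : ℕ, b ^ p ^ k = 1) (hbY : b ∈ Subgroup.normalizer (Y : Set G))
    (hbQ : b ∈ Subgroup.normalizer (Q : Set G))
    (hfix : ∀ u ∈ Y, u ^ p = 1 → b * u = u * b → ∀ q ∈ Q, q * u = u * q) :
    Q ≤ Subgroup.centralizer (Y : Set G) := by
  obtain ⟨H, hHc, h1, h2, h3⟩ := CfsgLib.Solv.exists_critical hY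
  haveI := hHc
  set H' := H.map Y.subtype with hH'
  have hNH : Subgroup.normalizer (Y : Set G) ≤ Subgroup.normalizer (H' : Set G) := by
    intro g hg
    rw [Subgroup.mem_normalizer_iff]
    intro x
    constructor
    · rintro ⟨y, hy, rfl⟩
      exact ⟨Subgroup.normalizerMonoidHom Y ⟨g, hg⟩ y, CfsgLib.Solv.map_mem_of_characteristic _ hy, rfl⟩
    · rintro ⟨y, hy, hy'⟩
      refine ⟨Subgroup.normalizerMonoidHom Y ⟨g⁻¹, inv_mem hg⟩ y,
        CfsgLib.Solv.map_mem_of_characteristic _ hy, ?_⟩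
      show g⁻¹ * (Y.subtype y) * g⁻¹⁻¹ = x
      rw [hy']; group
  have hcom : ∀ x ∈ H, ∀ y ∈ H, ∀ w ∈ H, Commute ⁅x, y⁆ w :=
    fun x hx y hy w hw => CfsgLib.Solv.commute_of_critical h2 hx hy hw
  have hpm : ∀ x ∈ H, ∀ y ∈ H, x ^ p = 1 → y ^ p = 1 → (x * y) ^ p = 1 := by
    intro x hx y hy hxp hyp
    rw [CfsgLib.Solv.mul_pow_prime hp2 (hcom y hy x hx x hx) (hcom y hy x hx y hy) ?_, hxp, hyp, one_mul]
    rw [← CfsgLib.Solv.pow_commutator_right (hcom y hy x hx x hx), hxp, commutatorElement_one_right]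
  let U : Subgroup G :=
    { carrier := {x | x ∈ H' ∧ x ^ p = 1}
      one_mem' := ⟨one_mem _, one_pow _⟩
      mul_mem' := by
        rintro x y ⟨⟨x, hx, rfl⟩, hxp⟩ ⟨⟨y, hy, rfl⟩, hyp⟩
        refine ⟨⟨x * y, mul_mem hx hy, rfl⟩, ?_⟩
        rw [← map_mul, ← map_pow, hpm x hx y hy
          (Y.subtype_injective (by rw [map_pow, map_one]; exact hxp))
          (Y.subtype_injective (by rw [map_pow, map_one]; exact hyp)), map_one]
      inv_mem' := fun {x} hx => ⟨inv_mem hx.1, by rw [inv_pow, hx.2, inv_one]⟩ }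
  have hNU : Subgroup.normalizer (Y : Set G) ≤ Subgroup.normalizer (U : Set G) := by
    intro g hg
    rw [Subgroup.mem_normalizer_iff]
    intro x
    have h := Subgroup.mem_normalizer_iff.1 (hNH hg) x
    show x ∈ H' ∧ x ^ p = 1 ↔ g * x * g⁻¹ ∈ H' ∧ (g * x * g⁻¹) ^ p = 1
    rw [h, conj_pow, conj_eq_one_iff]
  set NU := Subgroup.normalizer (U : Set G) with hNUdef
  set φ := Subgroup.normalizerMonoidHom U with hφ
  have hUcl : ∀ u v w : U, Commute ⁅u, v⁆ w := by
    intro u v w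
    obtain ⟨x, hx, hxe⟩ := u.2.1
    obtain ⟨y, hy, hye⟩ := v.2.1
    obtain ⟨z, hz, hze⟩ := w.2.1
    refine Subtype.ext ?_
    show ((⁅u, v⁆ : U) : G) * (w : G) = (w : G) * ((⁅u, v⁆ : U) : G)
    rw [show ((⁅u, v⁆ : U) : G) = ⁅(u : G), (v : G)⁆ from map_commutatorElement U.subtype u v,
      ← hxe, ← hye, ← hze, ← map_commutatorElement, ← map_mul, ← map_mul, (hcom x hx y hy z hz).eq]
  have hfixU := trivial_of_fixed_points hp2 (fun u : U => Subtype.ext u.2.2) hUcl
    ((Q.subgroupOf NU).map φ)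
    ((hQ.coprime_dvd_left ((Subgroup.card_map_dvd ..).trans
      (Nat.card_congr (Subgroup.subgroupOfEquivOfLe (hQY.trans hNU)).toEquiv).dvd)))
    (φ ⟨b, hNU hbY⟩)
    (by
      obtain ⟨k, hk⟩ := hb
      exact ⟨k, by rw [← map_pow, show (⟨b, hNU hbY⟩ : NU) ^ p ^ k = 1 from Subtype.ext hk, map_one]⟩)
    (Subgroup.le_normalizer_map φ ⟨⟨b, hNU hbY⟩,
      Subgroup.mem_normalizer_iff.2 fun x => Subgroup.mem_normalizer_iff.1 hbQ (x : G), rfl⟩)
    (by
      rintro ⟨u, hu⟩ hbu _ ⟨⟨q, hqN⟩, hq, rfl⟩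
      refine Subtype.ext ?_
      have hbu' : b * u * b⁻¹ = u := congrArg Subtype.val hbu
      show q * u * q⁻¹ = u
      rw [hfix u (Subgroup.map_subtype_le _ hu.1) hu.2 (mul_inv_eq_iff_eq_mul.1 hbu') q hq,
        mul_inv_cancel_right])
  intro q hq
  let a : MulAut Y := Subgroup.normalizerMonoidHom Y ⟨q, hQY hq⟩
  let aH : MulAut H' := Subgroup.normalizerMonoidHom H' ⟨q, hNH (hQY hq)⟩
  have hqo : (orderOf q).Coprime p := hQ.coprime_dvd_left (Q.orderOf_dvd_natCard hq)
  have hao : ∀ (W : Subgroup G) (hW : q ∈ Subgroup.normalizer (W : Set G)),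
      (orderOf (Subgroup.normalizerMonoidHom W ⟨q, hW⟩)).Coprime p := fun W hW =>
    hqo.coprime_dvd_left ((orderOf_map_dvd _ _).trans (by rw [Subgroup.orderOf_mk]))
  have hH'1 : aH = 1 := by
    refine CfsgLib.Solv.aut_eq_one_of_fix_omega hp2 (hY.to_le (Subgroup.map_subtype_le _)) (hao _ _) ?_
    intro x hx
    have hxU : (x : G) ∈ U := ⟨x.2, congrArg Subtype.val hx⟩
    have h := hfixU (φ ⟨q, hNU (hQY hq)⟩) ⟨⟨q, hNU (hQY hq)⟩, hq, rfl⟩ ⟨(x : G), hxU⟩
    exact Subtype.ext (congrArg Subtype.val h :)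
  have ha1 : a = 1 := by
    refine CfsgLib.Solv.aut_eq_one_of_fix hY h3 (hao _ _) fun x hx => ?_
    exact Subtype.ext (congrArg Subtype.val (DFunLike.congr_fun hH'1 ⟨(x : G), ⟨x, hx, rfl⟩⟩) :)
  rw [Subgroup.mem_centralizer_iff]
  intro y hy
  have h0 : a ⟨y, hy⟩ = ⟨y, hy⟩ := DFunLike.congr_fun ha1 ⟨y, hy⟩
  have h : q * y * q⁻¹ = y := congrArg Subtype.val h0
  exact (mul_inv_eq_iff_eq_mul.1 h).symm

end CfsgLib.Fus.BaerFixed
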