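import Mathlib.GroupTheory.GroupAction.Quotient
import Mathlib.GroupTheory.Sylow
import Mathlib.Algebra.Group.Action.Sigma

/-!
Marks of finite actions: an isomorphism criterion, a Burnside congruence, and adding orbits to
prescribe the marks at a conjugacy-closed family of subgroups of one order.
-/

set_option autoImplicit false
set_option linter.style.haveILetI false

open MulAction

namespace CfsgLib.Fus

variable {G : Type*} [Group G]

/-- The number of points of `X` fixed by every element of `K`. -/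
noncomputable def fixCard (K : Subgroup G) (X : Type*) [MulAction G X] : ℕ :=
  Nat.card {x : X // ∀ k ∈ K, k • x = x}

/-- The sum over a list of subgroups of the marks of the coset actions. -/
noncomputable def mark (L : List (Subgroup G)) (K : Subgroup G) : ℕ :=
  (L.map fun Δ => fixCard K (G ⧸ Δ)).sum

theorem mark_append (L L' : List (Subgroup G)) (K : Subgroup G) :
    mark (L ++ L') K = mark L K + mark L' K := by
  simp [mark]

theorem mark_cons (Δ : Subgroup G) (L : List (Subgroup G)) (K : Subgroup G) :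
    mark (Δ :: L) K = fixCard K (G ⧸ Δ) + mark L K := by
  simp [mark]

theorem fixCard_conj {X : Type*} [MulAction G X] (g : G) (K : Subgroup G) :
    fixCard (K.map (MulAut.conj g).toMonoidHom) X = fixCard K X := by
  refine (Nat.card_congr (Equiv.subtypeEquiv (MulAction.toPerm g) fun x => ?_)).symm
  rw [MulAction.toPerm_apply]
  constructor
  · rintro h _ ⟨k, hk, rfl⟩
    simp [mul_smul, h k hk]
  · intro h k hk
    have := h _ ⟨k, hk, rfl⟩
    simpa [mul_smul, smul_left_cancel_iff] using this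

theorem mark_conj (L : List (Subgroup G)) (g : G) (K : Subgroup G) :
    mark L (K.map (MulAut.conj g).toMonoidHom) = mark L K := by
  unfold mark
  exact congrArg List.sum (List.map_congr_left fun Δ _ => fixCard_conj g K)

theorem smul_coset_eq_iff {Δ : Subgroup G} {k a : G} :
    k • (a : G ⧸ Δ) = (a : G ⧸ Δ) ↔ a⁻¹ * k * a ∈ Δ := by
  rw [Quotient.smul_coe, smul_eq_mul, QuotientGroup.eq]
  constructor
  · intro h; simpa [mul_assoc] using Δ.inv_mem h
  · intro h; simpa [mul_assoc] using Δ.inv_mem h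

theorem exists_le_conj_of_fixCard_ne_zero {K Δ : Subgroup G} (h : fixCard K (G ⧸ Δ) ≠ 0) :
    ∃ g, K ≤ Δ.map (MulAut.conj g).toMonoidHom := by
  obtain ⟨⟨x, hx⟩⟩ : Nonempty {x : G ⧸ Δ // ∀ k ∈ K, k • x = x} := (Nat.card_ne_zero.1 h).1
  obtain ⟨a, rfl⟩ := QuotientGroup.mk_surjective x
  exact ⟨a, fun k hk => ⟨a⁻¹ * k * a, smul_coset_eq_iff.1 (hx k hk), by simp [mul_assoc]⟩⟩

theorem fixCard_self [Finite G] (Δ : Subgroup G) :
    fixCard Δ (G ⧸ Δ) = Δ.relIndex (Subgroup.normalizer (Δ : Set G)) := by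
  rw [Subgroup.relIndex, Subgroup.index, Subgroup.subgroupOf]
  refine (Nat.card_congr (Equiv.subtypeEquivRight fun x => ?_)).trans
    (Nat.card_congr (Sylow.fixedPointsMulLeftCosetsEquivQuotient Δ))
  exact ⟨fun h k => h k k.2, fun h k hk => h ⟨k, hk⟩⟩

/-- A coset action has marks only at subgroups that are no larger, and at those of the same order
only at the conjugates. -/
theorem conj_eq_of_fixCard_ne_zero [Finite G] {K Δ : Subgroup G} (hc : Nat.card Δ ≤ Nat.card K)
    (h : fixCard K (G ⧸ Δ) ≠ 0) : ∃ g, K = Δ.map (MulAut.conj g).toMonoidHom := by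
  obtain ⟨g, hg⟩ := exists_le_conj_of_fixCard_ne_zero h
  refine ⟨g, Subgroup.eq_of_le_of_card_ge hg ?_⟩
  rwa [Subgroup.card_map_of_injective (MulAut.conj g).injective]

/-- Burnside congruence for two fixed-point sets linked by a map of normalizers. -/
theorem marks_congr [Finite G] {X : Type*} [MulAction G X] [Finite X] {Δ N : Subgroup G}
    (hΔN : Δ ≤ N) (hN : N ≤ Subgroup.normalizer (Δ : Set G)) (θ : ↥N →* G)
    (hθ : Function.Injective θ)
    (heq : ∀ K : Subgroup G, Δ < K → K ≤ N → fixCard K X = fixCard ((K.subgroupOf N).map θ) X) :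
    fixCard Δ X ≡ fixCard ((Δ.subgroupOf N).map θ) X [MOD Δ.relIndex N] := by
  classical
  set Δ' := (Δ.subgroupOf N).map θ with hΔ'
  haveI : Fintype ↥N := Fintype.ofFinite _
  let ρ₁ : ↥N →* Equiv.Perm X := (MulAction.toPermHom G X).comp N.subtype
  let ρ₂ : ↥N →* Equiv.Perm X := (MulAction.toPermHom G X).comp θ
  let A := {x : X // ∀ k ∈ Δ, k • x = x}
  let B := {x : X // ∀ k ∈ Δ', k • x = x}
  have hA : ∀ (g : ↥N) (x : A), ∀ k ∈ Δ, k • ((g : G) • x.1) = (g : G) • x.1 := fun g x k hk => by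
    have := x.2 _ ((Subgroup.mem_normalizer_iff''.1 (hN g.2) k).1 hk)
    rw [mul_smul, mul_smul, inv_smul_eq_iff] at this
    exact this
  have hB : ∀ (g : ↥N) (x : B), ∀ k ∈ Δ', k • (θ g • x.1) = θ g • x.1 := fun g x k hk => by
    obtain ⟨d, hd, rfl⟩ := hk
    have := x.2 (θ (g⁻¹ * d * g)) ⟨_, (Subgroup.mem_normalizer_iff''.1 (hN g.2) d).1 hd, rfl⟩
    rw [map_mul, map_mul, map_inv, mul_smul, mul_smul, inv_smul_eq_iff] at this
    exact this
  letI actA : MulAction ↥N A :=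
    { smul := fun g x => ⟨(g : G) • x.1, hA g x⟩
      one_smul := fun x => Subtype.ext (one_smul G x.1)
      mul_smul := fun g h x => Subtype.ext (mul_smul (g : G) (h : G) x.1) }
  letI actB : MulAction ↥N B :=
    { smul := fun g x => ⟨θ g • x.1, hB g x⟩
      one_smul := fun x => Subtype.ext (by show θ 1 • x.1 = x.1; rw [map_one, one_smul])
      mul_smul := fun g h x => Subtype.ext (by
        show θ (g * h) • x.1 = θ g • θ h • x.1; rw [map_mul, mul_smul]) }
  haveI : Fintype A := Fintype.ofFinite A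
  haveI : Fintype B := Fintype.ofFinite B
  haveI : ∀ g : ↥N, Fintype (MulAction.fixedBy A g) := fun g => Fintype.ofFinite _
  haveI : ∀ g : ↥N, Fintype (MulAction.fixedBy B g) := fun g => Fintype.ofFinite _
  haveI : Fintype (Quotient (MulAction.orbitRel ↥N A)) := Fintype.ofFinite _
  haveI : Fintype (Quotient (MulAction.orbitRel ↥N B)) := Fintype.ofFinite _
  have h1 := MulAction.sum_card_fixedBy_eq_card_orbits_mul_card_group ↥N A
  have h2 := MulAction.sum_card_fixedBy_eq_card_orbits_mul_card_group ↥N B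
  have hout : ∀ g : ↥N, (g : G) ∉ Δ →
      Fintype.card (MulAction.fixedBy A g) = Fintype.card (MulAction.fixedBy B g) := by
    intro g hg
    let K := Δ ⊔ Subgroup.zpowers (g : G)
    have hKN : K ≤ N := sup_le hΔN (Subgroup.zpowers_le.2 g.2)
    have hK : Δ < K := lt_of_le_of_ne le_sup_left fun h =>
      hg (h.ge (le_sup_right (a := Δ) (Subgroup.mem_zpowers _)))
    have hKθ : (K.subgroupOf N).map θ = Δ' ⊔ Subgroup.zpowers (θ g) := by
      rw [Subgroup.subgroupOf_sup hΔN (Subgroup.zpowers_le.2 g.2), Subgroup.map_sup, hΔ']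
      congr 1
      rw [← MonoidHom.map_zpowers]
      congr 1
      rw [← Subgroup.comap_subtype, show (g : G) = N.subtype g from rfl, ← MonoidHom.map_zpowers,
        Subgroup.comap_map_eq_self_of_injective N.subtype_injective]
    have e : ∀ (D : Subgroup G) (a : G) (x : X),
        (∀ k ∈ D ⊔ Subgroup.zpowers a, k • x = x) ↔ (∀ k ∈ D, k • x = x) ∧ a • x = x := by
      intro D a x
      show D ⊔ Subgroup.zpowers a ≤ MulAction.stabilizer G x ↔ _
      rw [sup_le_iff, Subgroup.zpowers_le]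
      rfl
    rw [← Nat.card_eq_fintype_card, ← Nat.card_eq_fintype_card]
    have hh := heq K hK hKN
    rw [hKθ] at hh
    calc Nat.card (MulAction.fixedBy A g) = fixCard K X :=
          Nat.card_congr ⟨fun x => ⟨x.1.1, (e Δ g x.1.1).2 ⟨x.1.2, congrArg Subtype.val x.2⟩⟩,
            fun x => ⟨⟨x.1, ((e Δ g x.1).1 x.2).1⟩, Subtype.ext ((e Δ g x.1).1 x.2).2⟩,
            fun x => rfl, fun x => rfl⟩
      _ = fixCard (Δ' ⊔ Subgroup.zpowers (θ g)) X := hh
      _ = Nat.card (MulAction.fixedBy B g) :=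
          (Nat.card_congr ⟨fun x => ⟨x.1.1, (e Δ' (θ g) x.1.1).2 ⟨x.1.2, congrArg Subtype.val x.2⟩⟩,
            fun x => ⟨⟨x.1, ((e Δ' (θ g) x.1).1 x.2).1⟩, Subtype.ext ((e Δ' (θ g) x.1).1 x.2).2⟩,
            fun x => rfl, fun x => rfl⟩).symm
  have hin : ∀ g : ↥N, (g : G) ∈ Δ → Fintype.card (MulAction.fixedBy A g) = Fintype.card A ∧
      Fintype.card (MulAction.fixedBy B g) = Fintype.card B := fun g hg =>
    ⟨Fintype.card_congr (Equiv.subtypeUnivEquiv fun x => Subtype.ext (x.2 _ hg)),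
     Fintype.card_congr (Equiv.subtypeUnivEquiv fun x => Subtype.ext (x.2 _ ⟨g, hg, rfl⟩))⟩
  rw [← Finset.sum_filter_add_sum_filter_not Finset.univ (fun g : ↥N => (g : G) ∈ Δ)] at h1 h2
  rw [Finset.sum_congr rfl fun g hg => (hin g (Finset.mem_filter.1 hg).2).1, Finset.sum_const,
    smul_eq_mul] at h1
  rw [Finset.sum_congr rfl fun g hg => (hin g (Finset.mem_filter.1 hg).2).2, Finset.sum_const,
    smul_eq_mul] at h2
  rw [← Finset.sum_congr rfl fun g hg => hout g (Finset.mem_filter.1 hg).2] at h2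
  have hd : (Finset.univ.filter fun g : ↥N => (g : G) ∈ Δ).card = Nat.card Δ := by
    rw [← Fintype.card_subtype, ← Nat.card_eq_fintype_card]
    exact Nat.card_congr (Subgroup.subgroupOfEquivOfLe hΔN).toEquiv
  rw [hd] at h1 h2
  have hmul : Nat.card Δ * Δ.relIndex N = Fintype.card ↥N := by
    rw [← Nat.card_eq_fintype_card, ← Subgroup.relIndex_bot_left Δ, ← Subgroup.relIndex_bot_left N,
      Subgroup.relIndex_mul_relIndex _ _ _ bot_le hΔN]
  have hmod : Nat.card Δ * fixCard Δ X ≡ Nat.card Δ * fixCard Δ' X [MOD Nat.card Δ * Δ.relIndex N] := by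
    rw [hmul, fixCard, fixCard, Nat.card_eq_fintype_card (α := A), Nat.card_eq_fintype_card (α := B)]
    refine Nat.ModEq.add_right_cancel' (∑ g ∈ Finset.univ.filter (fun g : ↥N => (g : G) ∉ Δ),
      Fintype.card (MulAction.fixedBy A g)) ?_
    rw [h1, h2]
    exact (Nat.modEq_zero_iff_dvd.2 (Dvd.intro_left _ rfl)).trans
      (Nat.modEq_zero_iff_dvd.2 (Dvd.intro_left _ rfl)).symm
  exact Nat.ModEq.mul_left_cancel' Nat.card_pos.ne' hmod

/-- Add coset actions so that the marks at a conjugacy-closed family of subgroups of order `n`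
take prescribed values. -/
theorem exists_extension [Finite G] (n : ℕ) (𝒦 : Set (Subgroup G))
    (h𝒦 : ∀ K ∈ 𝒦, Nat.card K = n ∧ ∀ g : G, K.map (MulAut.conj g).toMonoidHom ∈ 𝒦)
    (t : Subgroup G → ℕ) (ht : ∀ K ∈ 𝒦, ∀ g : G, t (K.map (MulAut.conj g).toMonoidHom) = t K) :
    ∀ L : List (Subgroup G), (∀ K ∈ 𝒦, mark L K ≤ t K ∧
      K.relIndex (Subgroup.normalizer (K : Set G)) ∣ t K - mark L K) →
    ∃ E : List (Subgroup G), (∀ Δ ∈ E, Δ ∈ 𝒦) ∧ (∀ K ∈ 𝒦, mark (L ++ E) K = t K) := by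
  classical
  suffices h : ∀ c, ∀ L : List (Subgroup G), {K ∈ 𝒦 | mark L K ≠ t K}.ncard = c →
      (∀ K ∈ 𝒦, mark L K ≤ t K ∧ K.relIndex (Subgroup.normalizer (K : Set G)) ∣ t K - mark L K) →
      ∃ E : List (Subgroup G), (∀ Δ ∈ E, Δ ∈ 𝒦) ∧ (∀ K ∈ 𝒦, mark (L ++ E) K = t K) from
    fun L hL => h _ L rfl hL
  intro c
  induction c using Nat.strong_induction_on with
  | _ c ih =>
  intro L hc hL
  by_cases hex : ∃ K ∈ 𝒦, mark L K ≠ t K
  swap
  · push Not at hex
    exact ⟨[], by simp, fun K hK => by rw [List.append_nil]; exact hex K hK⟩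
  obtain ⟨Δ, hΔ, hΔne⟩ := hex
  set d := Δ.relIndex (Subgroup.normalizer (Δ : Set G)) with hd
  obtain ⟨k, hk⟩ := (hL Δ hΔ).2
  let E0 := List.replicate k Δ
  have hE0 : ∀ K, mark E0 K = k * fixCard K (G ⧸ Δ) := fun K => by
    simp [E0, mark, List.map_replicate, List.sum_replicate]
  have hzero : ∀ K ∈ 𝒦, (¬ ∃ g, K = Δ.map (MulAut.conj g).toMonoidHom) → mark E0 K = 0 := by
    intro K hK hne
    rw [hE0]
    by_contra h
    exact hne (conj_eq_of_fixCard_ne_zero ((h𝒦 Δ hΔ).1.trans (h𝒦 K hK).1.symm).le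
      (fun h0 => h (by rw [h0, mul_zero])))
  have hconj : ∀ g : G, mark (L ++ E0) (Δ.map (MulAut.conj g).toMonoidHom) =
      t (Δ.map (MulAut.conj g).toMonoidHom) := fun g => by
    rw [mark_conj, ht Δ hΔ g, mark_append, hE0, fixCard_self, ← hd, mul_comm, ← hk]
    exact Nat.add_sub_cancel' (hL Δ hΔ).1
  have hsame : ∀ K ∈ 𝒦, mark (L ++ E0) K ≠ t K → mark (L ++ E0) K = mark L K := by
    intro K hK hne
    rw [mark_append, hzero K hK, add_zero]
    rintro ⟨g, rfl⟩
    exact hne (hconj g)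
  have hlt : {K ∈ 𝒦 | mark (L ++ E0) K ≠ t K}.ncard < c := by
    rw [← hc]
    refine Set.ncard_lt_ncard ⟨fun K hK => ⟨hK.1, hsame K hK.1 hK.2 ▸ hK.2⟩, fun h => ?_⟩ (Set.toFinite _)
    have := (h ⟨hΔ, hΔne⟩).2
    have h1 := hconj 1
    rw [show Δ.map (MulAut.conj (1 : G)).toMonoidHom = Δ by
      rw [map_one]; exact Subgroup.map_id Δ] at h1
    exact this h1
  obtain ⟨E, hE, hEt⟩ := ih _ hlt (L ++ E0) rfl fun K hK => by
    by_cases he : mark (L ++ E0) K = t K
    · exact ⟨he.le, by rw [he, Nat.sub_self]; exact dvd_zero _⟩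
    · rw [hsame K hK he]; exact hL K hK
  refine ⟨E0 ++ E, fun D hD => ?_, fun K hK => by rw [← List.append_assoc]; exact hEt K hK⟩
  rcases List.mem_append.1 hD with h | h
  · exact (List.eq_of_mem_replicate h) ▸ hΔ
  · exact hE D h

/-- The disjoint union of the coset actions of a list of subgroups. -/
abbrev Cosets (L : List (Subgroup G)) : Type _ := Σ i : Fin L.length, G ⧸ L[i]

instance cosetsAction (L : List (Subgroup G)) : MulAction G (Cosets L) where
  one_smul x := Sigma.ext rfl (heq_of_eq (one_smul G x.2))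
  mul_smul g h x := Sigma.ext rfl (heq_of_eq (mul_smul g h x.2))

theorem fixCard_cosets [Finite G] (L : List (Subgroup G)) (K : Subgroup G) :
    fixCard K (Cosets L) = mark L K := by
  have e : {x : Cosets L // ∀ k ∈ K, k • x = x} ≃
      Σ i : Fin L.length, {y : G ⧸ L[i] // ∀ k ∈ K, k • y = y} :=
    { toFun := fun x => ⟨x.1.1, x.1.2, fun k hk => eq_of_heq (Sigma.ext_iff.1 (x.2 k hk)).2⟩
      invFun := fun y => ⟨⟨y.1, y.2.1⟩, fun k hk => Sigma.ext rfl (heq_of_eq (y.2.2 k hk))⟩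
      left_inv := fun x => rfl
      right_inv := fun y => rfl }
  rw [fixCard, Nat.card_congr e, Nat.card_sigma]
  conv_rhs => rw [mark, ← List.ofFn_getElem (xs := L), List.map_ofFn, List.sum_ofFn]
  rfl

theorem card_subtype_split {Z : Type*} [Finite Z] (T U : Set Z) (P : Z → Prop) (hUT : U ⊆ T) :
    Nat.card {z : T // P z} = Nat.card {z : ↥(T \ U) // P z} + Nat.card {z : U // P z} := by
  classical
  rw [← Nat.card_sum]
  refine Nat.card_congr ⟨fun z => if hu : (z.1 : Z) ∈ U then Sum.inr ⟨⟨z.1, hu⟩, z.2⟩ else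
    Sum.inl ⟨⟨z.1, z.1.2, hu⟩, z.2⟩,
    Sum.elim (fun z => ⟨⟨z.1, z.1.2.1⟩, z.2⟩) (fun z => ⟨⟨z.1, hUT z.1.2⟩, z.2⟩), ?_, ?_⟩
  · intro z
    by_cases hu : (z.1 : Z) ∈ U
    · simp [hu]
    · simp [hu]
  · rintro (z | z)
    · simp [z.1.2.2]
    · simp

/-- Two finite actions with the same marks are isomorphic. -/
theorem exists_equiv_of_fixCard [Finite G] {X Y : Type*} [MulAction G X] [MulAction G Y] [Finite X]
    [Finite Y] (h : ∀ K : Subgroup G, fixCard K X = fixCard K Y) :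
    ∃ e : X ≃ Y, ∀ (g : G) (x : X), e (g • x) = g • e x := by
  classical
  haveI := Fintype.ofFinite X
  haveI := Fintype.ofFinite Y
  suffices hmain : ∀ (c : ℕ) (A : Set X) (B : Set Y), A.ncard = c →
      (∀ (g : G), ∀ x ∈ A, g • x ∈ A) → (∀ (g : G), ∀ y ∈ B, g • y ∈ B) →
      (∀ K : Subgroup G, Nat.card {x : A // ∀ k ∈ K, k • (x : X) = x} =
        Nat.card {y : B // ∀ k ∈ K, k • (y : Y) = y}) →
      ∃ e : A ≃ B, ∀ (g : G) (x x' : A), g • (x : X) = x' → g • (e x : Y) = e x' by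
    obtain ⟨e, he⟩ := hmain _ Set.univ Set.univ rfl (fun _ _ _ => trivial) (fun _ _ _ => trivial)
      fun K => by
        refine Eq.trans ?_ ((h K).trans ?_)
        · exact Nat.card_congr ((Equiv.Set.univ X).subtypeEquiv fun _ => Iff.rfl)
        · exact (Nat.card_congr ((Equiv.Set.univ Y).subtypeEquiv fun _ => Iff.rfl)).symm
    exact ⟨(Equiv.Set.univ X).symm.trans (e.trans (Equiv.Set.univ Y)), fun g x =>
      (he g ⟨x, trivial⟩ ⟨g • x, trivial⟩ rfl).symm⟩
  intro c
  induction c using Nat.strong_induction_on with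
  | _ c ih =>
  intro A B hc hA hB hAB
  rcases A.eq_empty_or_nonempty with rfl | hne
  · have hbe : B = ∅ := by
      by_contra hb
      obtain ⟨y, hy⟩ := Set.nonempty_iff_ne_empty.2 hb
      have h1 := hAB ⊥
      haveI : IsEmpty {x : (∅ : Set X) // ∀ k ∈ (⊥ : Subgroup G), k • (x : X) = x} := ⟨fun x => x.1.2⟩
      rw [Nat.card_eq_zero.2 (Or.inl inferInstance)] at h1
      exact (Nat.card_ne_zero.2 ⟨⟨⟨y, hy⟩, fun k hk => by rw [Subgroup.mem_bot.1 hk, one_smul]⟩,
        inferInstance⟩) h1.symm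
    subst hbe
    exact ⟨Equiv.equivOfIsEmpty _ _, fun g x => (x.2 : False).elim⟩
  -- a point with stabilizer maximal
  obtain ⟨x0, hx0, hmax⟩ : ∃ x0 ∈ A, ∀ x ∈ A,
      Nat.card (MulAction.stabilizer G x) ≤ Nat.card (MulAction.stabilizer G x0) := by
    obtain ⟨x0, h0, h1⟩ := A.toFinset.exists_max_image (fun x => Nat.card (MulAction.stabilizer G x))
      (Set.toFinset_nonempty.2 hne)
    exact ⟨x0, Set.mem_toFinset.1 h0, fun x hx => h1 x (Set.mem_toFinset.2 hx)⟩
  obtain ⟨⟨⟨y0, hy0⟩, hy0f⟩⟩ : Nonempty {y : B // ∀ k ∈ MulAction.stabilizer G x0, k • (y : Y) = y} := by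
    refine (Nat.card_ne_zero.1 ?_).1
    rw [← hAB]
    exact Nat.card_ne_zero.2 ⟨⟨⟨x0, hx0⟩, fun k hk => hk⟩, inferInstance⟩
  have hstab : MulAction.stabilizer G y0 = MulAction.stabilizer G x0 := by
    refine (Subgroup.eq_of_le_of_card_ge (show MulAction.stabilizer G x0 ≤ MulAction.stabilizer G y0
      from fun k hk => hy0f k hk) ?_).symm
    obtain ⟨⟨⟨x, hx⟩, hxf⟩⟩ : Nonempty {x : A // ∀ k ∈ MulAction.stabilizer G y0, k • (x : X) = x} := by
      refine (Nat.card_ne_zero.1 ?_).1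
      rw [hAB]
      exact Nat.card_ne_zero.2 ⟨⟨⟨y0, hy0⟩, fun k hk => hk⟩, inferInstance⟩
    exact le_trans (Subgroup.card_le_of_le (show MulAction.stabilizer G y0 ≤
      MulAction.stabilizer G x from fun k hk => hxf k hk)) (hmax x hx)
  let O : Set X := MulAction.orbit G x0
  let O' : Set Y := MulAction.orbit G y0
  let eO : O ≃ O' := (MulAction.orbitEquivQuotientStabilizer G x0).trans
    ((Subgroup.quotientEquivOfEq hstab.symm).trans (MulAction.orbitEquivQuotientStabilizer G y0).symm)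
  have heO : ∀ (g : G) (x : O), x.1 = g • x0 → (eO x : Y) = g • y0 := by
    intro g x hx
    have h1 : MulAction.orbitEquivQuotientStabilizer G x0 x = (g : G ⧸ MulAction.stabilizer G x0) := by
      rw [← Equiv.eq_symm_apply]
      exact Subtype.ext (by rw [hx, MulAction.orbitEquivQuotientStabilizer_symm_apply])
    show ((MulAction.orbitEquivQuotientStabilizer G y0).symm
      (Subgroup.quotientEquivOfEq hstab.symm (MulAction.orbitEquivQuotientStabilizer G x0 x)) : Y) = _
    rw [h1, Subgroup.quotientEquivOfEq_mk, MulAction.orbitEquivQuotientStabilizer_symm_apply]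
  have hOA : O ⊆ A := by rintro _ ⟨g, rfl⟩; exact hA g x0 hx0
  have hO'B : O' ⊆ B := by rintro _ ⟨g, rfl⟩; exact hB g y0 hy0
  have hA' : ∀ g : G, ∀ x ∈ A \ O, g • x ∈ A \ O := fun g x hx =>
    ⟨hA g x hx.1, fun ho => hx.2 (by simpa using (MulAction.mem_orbit_of_mem_orbit g⁻¹ ho))⟩
  have hB' : ∀ g : G, ∀ y ∈ B \ O', g • y ∈ B \ O' := fun g x hx =>
    ⟨hB g x hx.1, fun ho => hx.2 (by simpa using (MulAction.mem_orbit_of_mem_orbit g⁻¹ ho))⟩
  obtain ⟨e', he'⟩ := ih _ (by
      rw [← hc]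
      exact Set.ncard_lt_ncard (Set.diff_ssubset_left_iff.2 ⟨x0, hx0, MulAction.mem_orbit_self x0⟩)
        (Set.toFinite _))
    (A \ O) (B \ O') rfl hA' hB' fun K => by
      have h1 := hAB K
      rw [card_subtype_split A O (fun x => ∀ k ∈ K, k • x = x) hOA, card_subtype_split B O' (fun y => ∀ k ∈ K, k • y = y) hO'B] at h1
      have h2 : Nat.card {x : O // ∀ k ∈ K, k • (x : X) = x} = Nat.card {y : O' // ∀ k ∈ K, k • (y : Y) = y} := by
        refine Nat.card_congr (eO.subtypeEquiv fun x => ?_)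
        obtain ⟨g, hg⟩ := x.2
        rw [heO g x hg.symm, ← hg]
        refine forall₂_congr fun k _ => ?_
        have key : ∀ (z : X), k • g • z = g • z ↔ g⁻¹ * k * g ∈ MulAction.stabilizer G z := fun z => by
          rw [MulAction.mem_stabilizer_iff, mul_smul, mul_smul, inv_smul_eq_iff]
        have key' : ∀ (z : Y), k • g • z = g • z ↔ g⁻¹ * k * g ∈ MulAction.stabilizer G z := fun z => by
          rw [MulAction.mem_stabilizer_iff, mul_smul, mul_smul, inv_smul_eq_iff]
        refine (key x0).trans ?_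
        rw [← hstab]
        exact (key' y0).symm
      omega
  let F : A → B := fun x => if hx : (x : X) ∈ O then ⟨eO ⟨x, hx⟩, hO'B (eO ⟨x, hx⟩).2⟩ else
    ⟨e' ⟨x, x.2, hx⟩, (e' ⟨x, x.2, hx⟩).2.1⟩
  have hF : Function.Bijective F := by
    constructor
    · intro a b hab
      have hab' := congrArg Subtype.val hab
      by_cases ha : (a : X) ∈ O <;> by_cases hb : (b : X) ∈ O <;>
        simp only [F, ha, hb, dite_true, dite_false] at hab'
      · exact Subtype.ext (congrArg (fun z : O => (z : X)) (eO.injective (Subtype.ext hab')))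
      · exact absurd (hab' ▸ (eO ⟨a, ha⟩).2) (e' ⟨b, b.2, hb⟩).2.2
      · exact absurd (hab' ▸ (eO ⟨b, hb⟩).2) (e' ⟨a, a.2, ha⟩).2.2
      · exact Subtype.ext (congrArg (fun z : ↥(A \ O) => (z : X)) (e'.injective (Subtype.ext hab')))
    · intro b
      by_cases hb : (b : Y) ∈ O'
      · refine ⟨⟨eO.symm ⟨b, hb⟩, hOA (eO.symm ⟨b, hb⟩).2⟩, ?_⟩
        simp only [F, (eO.symm ⟨b, hb⟩).2, dite_true, Subtype.coe_eta, Equiv.apply_symm_apply]
      · refine ⟨⟨e'.symm ⟨b, b.2, hb⟩, (e'.symm ⟨b, b.2, hb⟩).2.1⟩, ?_⟩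
        simp only [F, (e'.symm ⟨b, b.2, hb⟩).2.2, dite_false]
        apply Subtype.ext
        exact congrArg (fun z : ↥(B \ O') => (z : Y)) (e'.apply_symm_apply ⟨b, b.2, hb⟩)
  refine ⟨Equiv.ofBijective F hF, fun g x x' hxx' => ?_⟩
  by_cases hx : (x : X) ∈ O
  · obtain ⟨a, ha⟩ := hx
    change a • x0 = (x : X) at ha
    have hx' : (x' : X) ∈ O := ⟨g * a, by show (g * a) • x0 = _; rw [mul_smul, ← hxx', ha]⟩
    simp only [Equiv.ofBijective_apply, F, show (x : X) ∈ O from ⟨a, ha⟩, hx', dite_true]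
    rw [heO a ⟨x, ⟨a, ha⟩⟩ ha.symm, heO (g * a) ⟨x', hx'⟩ (by rw [← hxx', mul_smul, ← ha]), mul_smul]
  · have hx' : (x' : X) ∉ O := hxx' ▸ (hA' g x ⟨x.2, hx⟩).2
    simp only [Equiv.ofBijective_apply, F, hx, hx', dite_false]
    exact he' g ⟨x, x.2, hx⟩ ⟨x', x'.2, hx'⟩ hxx'

end CfsgLib.Fus
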