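import Cfsg.Agent.Fus.Quotient
import Cfsg.Agent.Fus.Marks

/-!
A left-stable characteristic set for a saturated fusion system: a list of graphs of maps of the
system whose marks at a graph only depend on the image of the map.
-/

set_option autoImplicit false
set_option linter.style.haveILetI false

open Cfsg Cfsg.FusionSystem

namespace CfsgLib.Fus

variable {Ω : Type*} [Group Ω] {S : Subgroup Ω} {F : FusionSystem S} {p : ℕ}

/-- The projection of a subgroup of `S × S` to the first coordinate. -/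
def fstImg (K : Subgroup (↥S × ↥S)) : Subgroup Ω := K.map (S.subtype.comp (MonoidHom.fst _ _))

/-- The projection of a subgroup of `S × S` to the second coordinate. -/
def sndImg (K : Subgroup (↥S × ↥S)) : Subgroup Ω := K.map (S.subtype.comp (MonoidHom.snd _ _))

/-- `K` is the graph of a map of the system. -/
def IsGraph (F : FusionSystem S) (K : Subgroup (↥S × ↥S)) : Prop :=
  ∃ f, IsMap F (fstImg K) f ∧ ∀ q ∈ K, f (q.1 : Ω) = (q.2 : Ω)

theorem mem_fstImg {K : Subgroup (↥S × ↥S)} {x : Ω} : x ∈ fstImg K ↔ ∃ q ∈ K, (q.1 : Ω) = x := Iff.rfl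

theorem mem_sndImg {K : Subgroup (↥S × ↥S)} {x : Ω} : x ∈ sndImg K ↔ ∃ q ∈ K, (q.2 : Ω) = x := Iff.rfl

theorem fstImg_le (K : Subgroup (↥S × ↥S)) : fstImg K ≤ S := by
  rintro _ ⟨q, -, rfl⟩; exact q.1.2

theorem sndImg_le (K : Subgroup (↥S × ↥S)) : sndImg K ≤ S := by
  rintro _ ⟨q, -, rfl⟩; exact q.2.2

/-- The graph of a map. -/
def graph {P : Subgroup Ω} {f : Ω → Ω} (hf : IsMap F P f) : Subgroup (↥S × ↥S) where
  carrier := {q | (q.1 : Ω) ∈ P ∧ f q.1 = q.2}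
  one_mem' := ⟨P.one_mem, hf.map_one⟩
  mul_mem' := fun {a b} ha hb => ⟨P.mul_mem ha.1 hb.1, by
    show f ((a.1 : Ω) * b.1) = (a.2 : Ω) * b.2
    rw [hf.map_mul ha.1 hb.1, ha.2, hb.2]⟩
  inv_mem' := fun {a} ha => ⟨P.inv_mem ha.1, by
    show f (a.1 : Ω)⁻¹ = (a.2 : Ω)⁻¹
    rw [hf.map_inv ha.1, ha.2]⟩

theorem fstImg_graph {P : Subgroup Ω} {f : Ω → Ω} (hf : IsMap F P f) : fstImg (graph hf) = P :=
  le_antisymm (by rintro _ ⟨q, hq, rfl⟩; exact hq.1) fun x hx =>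
    ⟨(⟨x, hf.le hx⟩, ⟨f x, hf.mem hx⟩), ⟨hx, rfl⟩, rfl⟩

theorem sndImg_graph {P : Subgroup Ω} {f : Ω → Ω} (hf : IsMap F P f) : sndImg (graph hf) = img f P :=
  le_antisymm (by rintro _ ⟨q, hq, rfl⟩; show (q.2 : Ω) ∈ _; rw [← hq.2]; exact mem_img_of_mem hq.1)
    (img_le_iff.2 fun x hx => ⟨(⟨x, hf.le hx⟩, ⟨f x, hf.mem hx⟩), ⟨hx, rfl⟩, rfl⟩)

theorem isGraph_graph {P : Subgroup Ω} {f : Ω → Ω} (hf : IsMap F P f) : IsGraph F (graph hf) :=
  ⟨f, (fstImg_graph hf).symm ▸ hf, fun _ hq => hq.2⟩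

theorem sndImg_eq_img {K : Subgroup (↥S × ↥S)} {f : Ω → Ω} (h : ∀ q ∈ K, f (q.1 : Ω) = (q.2 : Ω)) :
    sndImg K = img f (fstImg K) := by
  refine le_antisymm ?_ (img_le_iff.2 ?_)
  · rintro _ ⟨q, hq, rfl⟩
    show (q.2 : Ω) ∈ _
    rw [← h q hq]; exact mem_img_of_mem ⟨q, hq, rfl⟩
  · rintro _ ⟨q, hq, rfl⟩
    exact ⟨q, hq, (h q hq).symm⟩

theorem IsGraph.card_fstImg {K : Subgroup (↥S × ↥S)} (h : IsGraph F K) :
    Nat.card K = Nat.card (fstImg K) := by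
  obtain ⟨f, hf, he⟩ := h
  refine Nat.card_congr (Equiv.ofBijective (fun q : K => (⟨q.1.1, q, q.2, rfl⟩ : fstImg K)) ⟨?_, ?_⟩)
  · intro a b hab
    have h1 : ((a.1).1 : Ω) = (b.1).1 := congrArg (fun z : fstImg K => (z : Ω)) hab
    refine Subtype.ext (Prod.ext (Subtype.ext h1) (Subtype.ext ?_))
    rw [← he a a.2, ← he b b.2, h1]
  · rintro ⟨x, q, hq, rfl⟩
    exact ⟨⟨q, hq⟩, rfl⟩

theorem IsGraph.card_sndImg [Finite S] {K : Subgroup (↥S × ↥S)} (h : IsGraph F K) :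
    Nat.card K = Nat.card (sndImg K) := by
  obtain ⟨f, hf, he⟩ := id h
  rw [h.card_fstImg, sndImg_eq_img he, hf.card_img]

theorem IsGraph.mono {K K' : Subgroup (↥S × ↥S)} (h : IsGraph F K) (hle : K' ≤ K) : IsGraph F K' := by
  obtain ⟨f, hf, he⟩ := h
  exact ⟨f, hf.mono (Subgroup.map_mono hle), fun q hq => he q (hle hq)⟩

theorem sndImg_conj (K : Subgroup (↥S × ↥S)) (g : ↥S × ↥S) :
    sndImg (K.map (MulAut.conj g).toMonoidHom) = (sndImg K).map (MulAut.conj (g.2 : Ω)).toMonoidHom := by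
  simp only [sndImg, Subgroup.map_map]
  rfl

theorem IsGraph.conj {K : Subgroup (↥S × ↥S)} (h : IsGraph F K) (g : ↥S × ↥S) :
    IsGraph F (K.map (MulAut.conj g).toMonoidHom) := by
  obtain ⟨f, hf, he⟩ := h
  have hsrc : ∀ x ∈ fstImg (K.map (MulAut.conj g).toMonoidHom), conjF (g.1 : Ω)⁻¹ x ∈ fstImg K := by
    rintro _ ⟨_, ⟨q, hq, rfl⟩, rfl⟩
    exact ⟨q, hq, by simp [mul_assoc]⟩
  refine ⟨conjF (g.2 : Ω) ∘ f ∘ conjF (g.1 : Ω)⁻¹, ?_, ?_⟩
  · exact ((IsMap.conj F (fstImg_le _) (S.inv_mem g.1.2)).comp hf hsrc).comp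
      (IsMap.conj F (hf.img_le) g.2.2) fun x hx => mem_img_of_mem (hsrc x hx)
  · rintro _ ⟨q, hq, rfl⟩
    simp [mul_assoc, he q hq]

theorem isGraph_of_mark_ne_zero [Finite S] {L : List (Subgroup (↥S × ↥S))} (hL : ∀ Δ ∈ L, IsGraph F Δ)
    {K : Subgroup (↥S × ↥S)} (h : mark L K ≠ 0) : IsGraph F K := by
  obtain ⟨n, hn, hne⟩ := List.exists_mem_ne_zero_of_sum_ne_zero h
  obtain ⟨Δ, hΔ, rfl⟩ := List.mem_map.1 hn
  obtain ⟨g, hg⟩ := exists_le_conj_of_fixCard_ne_zero hne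
  exact ((hL Δ hΔ).conj g).mono hg

theorem mark_eq_zero_of_card_lt [Finite S] {E : List (Subgroup (↥S × ↥S))} {n : ℕ}
    (hE : ∀ Δ ∈ E, Nat.card Δ ≤ n) {K : Subgroup (↥S × ↥S)} (hK : n < Nat.card K) : mark E K = 0 := by
  refine List.sum_eq_zero fun x hx => ?_
  obtain ⟨Δ, hΔ, rfl⟩ := List.mem_map.1 hx
  by_contra hne
  obtain ⟨g, hg⟩ := exists_le_conj_of_fixCard_ne_zero hne
  have := Subgroup.card_le_of_le hg
  rw [Subgroup.card_map_of_injective (MulAut.conj g).injective] at this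
  exact absurd (this.trans (hE Δ hΔ)) (not_le.2 hK)

theorem exists_mark_bound [Finite S] (L : List (Subgroup (↥S × ↥S))) :
    ∃ C, ∀ K, mark L K ≤ C :=
  ⟨(L.map fun Δ => Nat.card ((↥S × ↥S) ⧸ Δ)).sum, fun K =>
    List.sum_le_sum fun Δ _ => Nat.card_le_card_of_injective Subtype.val Subtype.val_injective⟩

/-- The twist by a map on the first coordinate. -/
theorem twist_spec [Finite S] {N : Subgroup (↥S × ↥S)} {ψ : Ω → Ω} (hψ : IsMap F (fstImg N) ψ) :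
    ∃ θ : ↥N →* ↥S × ↥S, Function.Injective θ ∧
      (∀ q : N, ((θ q).1 : Ω) = ψ ((q : ↥S × ↥S).1 : Ω) ∧ (θ q).2 = (q : ↥S × ↥S).2) ∧
      ∀ K : Subgroup (↥S × ↥S), K ≤ N → sndImg ((K.subgroupOf N).map θ) = sndImg K ∧
        (IsGraph F K ↔ IsGraph F ((K.subgroupOf N).map θ)) := by
  have hm : ∀ q : N, ((q : ↥S × ↥S).1 : Ω) ∈ fstImg N := fun q => ⟨q, q.2, rfl⟩
  let θ : ↥N →* ↥S × ↥S := MonoidHom.mk' (fun q => (⟨ψ ((q : ↥S × ↥S).1 : Ω), hψ.mem (hm q)⟩, (q : ↥S × ↥S).2))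
    fun a b => Prod.ext (Subtype.ext (hψ.map_mul (hm a) (hm b))) rfl
  refine ⟨θ, fun a b h => ?_, fun q => ⟨rfl, rfl⟩, fun K hK => ⟨?_, ?_⟩⟩
  · refine Subtype.ext (Prod.ext (Subtype.ext (hψ.inj (hm a) (hm b) ?_)) ?_)
    · exact congrArg (fun z : ↥S × ↥S => (z.1 : Ω)) h
    · exact (congrArg (fun z : ↥S × ↥S => z.2) h :)
  · refine le_antisymm ?_ ?_
    · rintro _ ⟨_, ⟨q, hq, rfl⟩, rfl⟩
      exact ⟨q, hq, rfl⟩
    · rintro _ ⟨q, hq, rfl⟩
      exact ⟨_, ⟨⟨q, hK hq⟩, hq, rfl⟩, rfl⟩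
  · have hfst : fstImg ((K.subgroupOf N).map θ) = img ψ (fstImg K) := by
      refine le_antisymm ?_ (img_le_iff.2 ?_)
      · rintro _ ⟨_, ⟨q, hq, rfl⟩, rfl⟩
        exact mem_img_of_mem ⟨q, hq, rfl⟩
      · rintro _ ⟨q, hq, rfl⟩
        exact ⟨_, ⟨⟨q, hK hq⟩, hq, rfl⟩, rfl⟩
    have hψK := hψ.mono (Subgroup.map_mono hK : fstImg K ≤ fstImg N)
    constructor
    · rintro ⟨f, hf, he⟩
      obtain ⟨ψ', hψ', hl, -, hi⟩ := hψK.inv
      refine ⟨f ∘ ψ', hfst ▸ hψ'.comp hf fun x hx => hi.le (mem_img_of_mem hx), ?_⟩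
      rintro _ ⟨q, hq, rfl⟩
      show f (ψ' (ψ ((q : ↥S × ↥S).1 : Ω))) = _
      exact (congrArg f (hl _ ⟨q, hq, rfl⟩)).trans (he q hq)
    · rintro ⟨f, hf, he⟩
      refine ⟨f ∘ ψ, hψK.comp hf fun x hx => hfst.ge (mem_img_of_mem hx), fun q hq => ?_⟩
      exact he (θ ⟨q, hK hq⟩) ⟨⟨q, hK hq⟩, hq, rfl⟩

/-- The marks at graphs of order at least `n` only depend on the image. -/
def StableFrom (F : FusionSystem S) (L : List (Subgroup (↥S × ↥S))) (n : ℕ) : Prop :=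
  ∀ (K : Subgroup (↥S × ↥S)), IsGraph F K → n ≤ Nat.card K →
    ∀ (h : sndImg K ≤ S), mark L K = mark L (graph (IsMap.id' F h))

/-- Prescribing the marks at the graphs of order `n`. -/
theorem stable_step [Finite S] [Fact p.Prime] (hS : IsPGroup p S) (hF : F.IsSaturated p) {n : ℕ}
    {L : List (Subgroup (↥S × ↥S))} (hL : ∀ Δ ∈ L, IsGraph F Δ) (hst : StableFrom F L (n + 1)) :
    ∃ E : List (Subgroup (↥S × ↥S)), (∀ Δ ∈ E, IsGraph F Δ ∧ Nat.card Δ = n) ∧ StableFrom F (L ++ E) n := by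
  classical
  let 𝒦 : Set (Subgroup (↥S × ↥S)) := {K | IsGraph F K ∧ Nat.card K = n}
  let Good : Subgroup Ω → ℕ → Prop := fun Q v => ∀ K ∈ 𝒦, sndImg K = Q →
    mark L K ≤ v ∧ K.relIndex (Subgroup.normalizer (K : Set (↥S × ↥S))) ∣ v - mark L K
  let T : Subgroup Ω → ℕ := fun Q => sInf {v | Good Q v}
  have h𝒦 : ∀ K ∈ 𝒦, Nat.card K = n ∧ ∀ g, K.map (MulAut.conj g).toMonoidHom ∈ 𝒦 := fun K hK =>
    ⟨hK.2, fun g => ⟨hK.1.conj g, by rw [Subgroup.card_map_of_injective (MulAut.conj g).injective]; exact hK.2⟩⟩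
  have hinv : ∀ (Q : Subgroup Ω) (g : ↥S × ↥S) (v : ℕ), Good (Q.map (MulAut.conj (g.2 : Ω)).toMonoidHom) v →
      Good Q v := by
    intro Q g v hv K hK hKQ
    have h1 := hv _ ((h𝒦 K hK).2 g) (by rw [sndImg_conj, hKQ])
    rw [mark_conj] at h1
    have hn : (Subgroup.normalizer (K : Set (↥S × ↥S))).map (MulAut.conj g).toMonoidHom =
        Subgroup.normalizer ((K.map (MulAut.conj g).toMonoidHom : Subgroup _) : Set (↥S × ↥S)) :=
      Subgroup.map_normalizer_eq_of_bijective _ (MulAut.conj g).bijective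
    rwa [← hn, Subgroup.relIndex_map_map_of_injective K _ (MulAut.conj g).injective] at h1
  have hTinv : ∀ (Q : Subgroup Ω) (g : ↥S × ↥S), T (Q.map (MulAut.conj (g.2 : Ω)).toMonoidHom) = T Q := by
    intro Q g
    refine congrArg sInf (Set.ext fun v => ⟨hinv Q g v, fun h => hinv _ g⁻¹ v ?_⟩)
    have e : (Q.map (MulAut.conj (g.2 : Ω)).toMonoidHom).map (MulAut.conj ((g⁻¹).2 : Ω)).toMonoidHom = Q := by
      rw [Subgroup.map_map]
      convert Subgroup.map_id Q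
      ext x
      simp [mul_assoc]
    rwa [e]
  have hT : ∀ K ∈ 𝒦, Good (sndImg K) (T (sndImg K)) := by
    intro K hK
    refine Nat.sInf_mem (s := {v | Good (sndImg K) v}) ?_
    set Q := sndImg K with hQdef
    obtain ⟨R0, hc, hR0⟩ := exists_fullyNormalized (F := F) (sndImg_le K : Q ≤ S)
    obtain ⟨hA, hR⟩ := fullyNormalized_spec hS hF hR0
    obtain ⟨g, hg, hgQ, -⟩ := exists_normalizer_map hS hA hR hc
    have hQN : Q ≤ normalizerIn S Q := le_normalizerIn (sndImg_le K)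
    obtain ⟨g', hg', hgl, hgr, hgi⟩ := (hg.mono hQN).inv
    rw [hgQ] at hg' hgr hgi
    let Δ0 := graph hg'
    let n0 := Δ0.relIndex (Subgroup.normalizer (Δ0 : Set (↥S × ↥S)))
    obtain ⟨C, hC⟩ := exists_mark_bound L
    refine ⟨mark L Δ0 + n0 * C, fun K' hK' hQ' => ?_⟩
    have hn0 : 1 ≤ n0 := Nat.one_le_iff_ne_zero.2 Subgroup.index_ne_zero_of_finite
    refine ⟨((hC K').trans (Nat.le_mul_of_pos_left C hn0)).trans (Nat.le_add_left _ _), ?_⟩
    obtain ⟨f, hf, he⟩ := id hK'.1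
    have hfi : img f (fstImg K') = Q := by rw [← sndImg_eq_img he, hQ']
    set N := Subgroup.normalizer (K' : Set (↥S × ↥S)) with hNdef
    have hgf : IsMap F (fstImg K') (g ∘ f) := hf.comp hg fun x hx => hQN (hfi ▸ mem_img_of_mem hx)
    obtain ⟨ψ, hψ, hψe⟩ := extend hR hgf (by rw [hf.img_comp, hfi, hgQ]) (N := fstImg N) (by
      rintro _ ⟨q, hq, rfl⟩
      have hc1 : ∀ r ∈ K', q * r * q⁻¹ ∈ K' ∧ q⁻¹ * r * q ∈ K' := fun r hr =>
        ⟨(Subgroup.mem_normalizer_iff.1 hq r).1 hr, (Subgroup.mem_normalizer_iff''.1 hq r).1 hr⟩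
      have hq1 : (q.1 : Ω) ∈ Subgroup.normalizer (fstImg K' : Set Ω) := mem_normalizer_of_conj
        (fun x hx => by obtain ⟨r, hr, rfl⟩ := hx; exact ⟨_, (hc1 r hr).1, rfl⟩)
        (fun x hx => by obtain ⟨r, hr, rfl⟩ := hx; exact ⟨_, (hc1 r hr).2, rfl⟩)
      have hq2 : (q.2 : Ω) ∈ normalizerIn S Q := ⟨q.2.2, mem_normalizer_of_conj
        (fun x hx => by rw [← hQ'] at hx ⊢; obtain ⟨r, hr, rfl⟩ := hx; exact ⟨_, (hc1 r hr).1, rfl⟩)
        (fun x hx => by rw [← hQ'] at hx ⊢; obtain ⟨r, hr, rfl⟩ := hx; exact ⟨_, (hc1 r hr).2, rfl⟩)⟩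
      refine ⟨q.1.2, hq1, g (q.2 : Ω), hg.mem hq2, fun x hx => ?_⟩
      obtain ⟨r, hr, rfl⟩ := hx
      show g (f ((q.1 : Ω) * r.1 * (q.1 : Ω)⁻¹)) = g (q.2 : Ω) * g (f r.1) * (g (q.2 : Ω))⁻¹
      rw [he r hr, show f ((q.1 : Ω) * r.1 * (q.1 : Ω)⁻¹) = (q.2 : Ω) * r.2 * (q.2 : Ω)⁻¹ from
        he (q * r * q⁻¹) (hc1 r hr).1]
      exact hg.map_conj hq2 (hQN (hQ' ▸ ⟨r, hr, rfl⟩)))
    have hψN : IsMap F (fstImg N) ψ := hψ.mono le_sup_right
    obtain ⟨θ, hθ, hθe, hθK⟩ := twist_spec hψN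
    have hK'N : K' ≤ N := Subgroup.le_normalizer
    have hΔ0 : (K'.subgroupOf N).map θ = Δ0 := by
      refine Subgroup.eq_of_le_of_card_ge ?_ ?_
      · rintro _ ⟨q, hq, rfl⟩
        have hfq : f ((q : ↥S × ↥S).1 : Ω) = ((q : ↥S × ↥S).2 : Ω) := he _ hq
        have hqQ : ((q : ↥S × ↥S).2 : Ω) ∈ Q := hQ' ▸ ⟨_, hq, rfl⟩
        refine ⟨?_, ?_⟩
        · rw [(hθe q).1, hψe ((q : ↥S × ↥S).1 : Ω) ⟨_, hq, rfl⟩, Function.comp_apply, hfq, ← hgQ]
          exact mem_img_of_mem hqQ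
        · rw [(hθe q).1, (hθe q).2, hψe ((q : ↥S × ↥S).1 : Ω) ⟨_, hq, rfl⟩, Function.comp_apply, hfq, hgl _ hqQ]
      · rw [Subgroup.card_map_of_injective hθ, (isGraph_graph hg').card_sndImg, sndImg_graph, hgi,
          Nat.card_congr (Subgroup.subgroupOfEquivOfLe hK'N).toEquiv, hK'.1.card_sndImg, hQ']
    have hdvd : K'.relIndex N ∣ n0 := by
      have h1 : ((K'.subgroupOf N).map θ).relIndex ((⊤ : Subgroup N).map θ) = K'.relIndex N := by
        rw [Subgroup.relIndex_map_map_of_injective _ _ hθ, Subgroup.relIndex_top_right]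
        rfl
      rw [← h1, hΔ0]
      refine Dvd.intro _ (Subgroup.relIndex_mul_relIndex Δ0 _ _ ?_ ?_)
      · rw [← hΔ0]; exact Subgroup.map_mono le_top
      · rw [← hΔ0]
        refine le_trans (Subgroup.map_mono ?_) (Subgroup.le_normalizer_map θ)
        exact (Subgroup.normalizer_eq_top_iff.2 Subgroup.normal_in_normalizer).ge
    have hmod := marks_congr (X := Cosets L) hK'N le_rfl θ hθ fun K'' hlt hle => by
      rw [fixCard_cosets, fixCard_cosets]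
      obtain ⟨hsnd, hiff⟩ := hθK K'' hle
      by_cases hgr'' : IsGraph F K''
      · have hcard : n + 1 ≤ Nat.card K'' := by
          have h2 := hK'.2
          refine Nat.succ_le_of_lt (lt_of_le_of_ne (h2 ▸ Subgroup.card_le_of_le hlt.le) fun h3 => ?_)
          exact hlt.ne (Subgroup.eq_of_le_of_card_ge hlt.le (h3 ▸ h2.ge.trans le_rfl))
        rw [hst K'' hgr'' hcard (sndImg_le _), hst _ (hiff.1 hgr'')
          (by rwa [Subgroup.card_map_of_injective hθ, Nat.card_congr (Subgroup.subgroupOfEquivOfLe hle).toEquiv])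
          (sndImg_le _)]
        simp only [hsnd]
      · rw [not_not.1 fun h => hgr'' (isGraph_of_mark_ne_zero hL h),
          not_not.1 fun h => hgr'' (hiff.2 (isGraph_of_mark_ne_zero hL h))]
    rw [fixCard_cosets, fixCard_cosets, hΔ0] at hmod
    rw [← Nat.modEq_iff_dvd' (((hC K').trans (Nat.le_mul_of_pos_left C hn0)).trans (Nat.le_add_left _ _))]
    calc mark L K' ≡ mark L Δ0 + 0 [MOD K'.relIndex N] := by rw [add_zero]; exact hmod
      _ ≡ mark L Δ0 + n0 * C [MOD K'.relIndex N] :=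
        Nat.ModEq.add_left _ (Nat.modEq_zero_iff_dvd.2 (dvd_mul_of_dvd_left hdvd C)).symm
  obtain ⟨E, hE, hEt⟩ := exists_extension n 𝒦 h𝒦 (fun K => T (sndImg K))
    (fun K _ g => by simp only [sndImg_conj]; exact hTinv _ g) L fun K hK => hT K hK K hK rfl
  refine ⟨E, hE, fun K hK hn hQS => ?_⟩
  have hd := isGraph_graph (IsMap.id' F hQS)
  have hs : sndImg (graph (IsMap.id' F hQS)) = sndImg K := by rw [sndImg_graph, img_id]
  have hcd : Nat.card ↥(graph (IsMap.id' F hQS)) = Nat.card K := by rw [hd.card_sndImg, hs, hK.card_sndImg]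
  rcases eq_or_lt_of_le hn with heq | hlt
  · rw [hEt K ⟨hK, heq.symm⟩, hEt _ ⟨hd, hcd.trans heq.symm⟩, hs]
  · have hz : ∀ K' : Subgroup (↥S × ↥S), n < Nat.card K' → mark E K' = 0 := fun K' =>
      mark_eq_zero_of_card_lt fun D hD => (hE D hD).2.le
    rw [mark_append, mark_append, hz K hlt, hz _ (hcd ▸ hlt), add_zero, add_zero]
    exact hst K hK hlt hQS

/-- The number of right orbits in the coset action of a list of graphs. -/
noncomputable def orbitCount (L : List (Subgroup (↥S × ↥S))) : ℕ :=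
  (L.map fun Δ : Subgroup (↥S × ↥S) => Nat.card S / Nat.card Δ).sum

/-- A stable list of graphs whose number of right orbits is prime to `p`. -/
theorem exists_stable [Finite S] [Fact p.Prime] (hS : IsPGroup p S) (hF : F.IsSaturated p) :
    ∃ L : List (Subgroup (↥S × ↥S)), (∀ Δ ∈ L, IsGraph F Δ) ∧ StableFrom F L 0 ∧
      ¬ p ∣ orbitCount L := by
  classical
  haveI := finite_mulAut (le_refl S)
  set A := F.autGroup S with hA
  let I : Subgroup ↥A := (Inn S).subgroupOf A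
  haveI : Fintype (↥A ⧸ I) := Fintype.ofFinite _
  have hm : ∀ a : ↥A, IsMap F S (autFun (a : MulAut S)) := fun a => (mem_autGroup le_rfl).1 a.2
  let Γ : ↥A → Subgroup (↥S × ↥S) := fun a => graph (hm a)
  let L0 := (Finset.univ (α := ↥A ⧸ I)).toList.map fun c => Γ c.out
  have hΓcard : ∀ a, Nat.card (Γ a) = Nat.card S := fun a => by
    rw [(isGraph_graph (hm a)).card_fstImg, fstImg_graph]
  have hfix : ∀ a : ↥A, ∀ g, (Γ a).map (MulAut.conj g).toMonoidHom = Γ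
      (⟨MulAut.conj g.2, inn_le_autGroup le_rfl ⟨g.2, rfl⟩⟩ * a *
        ⟨MulAut.conj g.1, inn_le_autGroup le_rfl ⟨g.1, rfl⟩⟩⁻¹) := by
    intro a g
    refine Subgroup.eq_of_le_of_card_ge ?_ ?_
    · rintro _ ⟨q, hq, rfl⟩
      refine ⟨(((MulAut.conj g).toMonoidHom q).1).2, ?_⟩
      have h2 : ((a : MulAut S) q.1) = q.2 := Subtype.ext ((autFun_apply _ _).symm.trans hq.2)
      refine (autFun_apply _ _).trans (congrArg Subtype.val ?_)
      show MulAut.conj g.2 ((a : MulAut S) ((MulAut.conj g.1)⁻¹ (MulAut.conj g.1 q.1))) = MulAut.conj g.2 q.2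
      rw [MulAut.inv_def, MulEquiv.symm_apply_apply, h2]
    · rw [hΓcard, Subgroup.card_map_of_injective (MulAut.conj g).injective, hΓcard]
  have htop : ∀ K : Subgroup (↥S × ↥S), IsGraph F K → Nat.card K = Nat.card S → ∃ a, K = Γ a := by
    intro K hK hc
    obtain ⟨f, hf, he⟩ := id hK
    have hfst : fstImg K = S := Subgroup.eq_of_le_of_card_ge (fstImg_le K) (by rw [← hK.card_fstImg, hc])
    rw [hfst] at hf
    obtain ⟨α, hα, hαe⟩ := exists_aut hf (Subgroup.eq_of_le_of_card_ge hf.img_le hf.card_img.ge)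
    refine ⟨⟨α, hα⟩, Subgroup.eq_of_le_of_card_ge (fun q hq => ⟨q.1.2, ?_⟩) (by rw [hΓcard, hc])⟩
    rw [hαe _ q.1.2, he q hq]
  have hn1 : ∀ a : ↥A, (Γ a).relIndex (Subgroup.normalizer (Γ a : Set (↥S × ↥S))) =
      (Γ 1).relIndex (Subgroup.normalizer (Γ 1 : Set (↥S × ↥S))) := by
    intro a
    let e : ↥S × ↥S ≃* ↥S × ↥S := MulEquiv.prodCongr (MulEquiv.refl _) (a : MulAut S)
    have h1 : (Γ 1).map e.toMonoidHom = Γ a := by
      refine Subgroup.eq_of_le_of_card_ge ?_ ?_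
      · rintro _ ⟨q, hq, rfl⟩
        refine ⟨q.1.2, ?_⟩
        have h2 : q.1 = q.2 := Subtype.ext (by
          have := hq.2; rw [Subgroup.coe_one, autFun_one q.1.2] at this; exact this)
        refine (autFun_apply _ _).trans ?_
        show (((a : MulAut S) q.1 : ↥S) : Ω) = (((a : MulAut S) q.2 : ↥S) : Ω)
        rw [h2]
      · rw [hΓcard, Subgroup.card_map_of_injective e.injective, hΓcard]
    rw [← h1, ← Subgroup.map_normalizer_eq_of_bijective _ e.bijective,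
      Subgroup.relIndex_map_map_of_injective _ _ e.injective]
  have hmark : ∀ a : ↥A, mark L0 (Γ a) = (Γ 1).relIndex (Subgroup.normalizer (Γ 1 : Set (↥S × ↥S))) := by
    intro a
    rw [mark, List.map_map]
    refine (Finset.sum_map_toList _ _).trans ?_
    rw [Finset.sum_eq_single (QuotientGroup.mk a : ↥A ⧸ I)]
    · obtain ⟨i, hi⟩ := QuotientGroup.mk_out_eq_mul I a
      obtain ⟨s, hs⟩ : ((i : ↥A) : MulAut S) ∈ (MulAut.conj : ↥S →* MulAut S).range := i.2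
      have h1 : Γ a = (Γ (QuotientGroup.mk a : ↥A ⧸ I).out).map (MulAut.conj ((s, 1) : ↥S × ↥S)).toMonoidHom := by
        rw [hfix, hi]
        congr 1
        refine Subtype.ext ?_
        simp only [Subgroup.coe_mul, Subgroup.coe_inv, map_one, one_mul, hs, mul_inv_cancel_right]
      show fixCard (Γ a) _ = _
      conv_lhs => rw [h1]
      rw [fixCard_conj, fixCard_self, hn1]
    · intro c _ hc
      show fixCard (Γ a) _ = 0
      by_contra hne
      obtain ⟨g, hg⟩ := conj_eq_of_fixCard_ne_zero (by rw [hΓcard, hΓcard]) hne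
      rw [hfix] at hg
      set b : ↥A := ⟨MulAut.conj g.2, inn_le_autGroup le_rfl ⟨g.2, rfl⟩⟩ * c.out *
        ⟨MulAut.conj g.1, inn_le_autGroup le_rfl ⟨g.1, rfl⟩⟩⁻¹ with hb
      have hab : a = b := Subtype.ext (aut_ext fun x hx => by
        have hmem : ((⟨x, hx⟩ : ↥S), (⟨autFun (a : MulAut S) x, autFun_mem _ hx⟩ : ↥S)) ∈ Γ a := ⟨hx, rfl⟩
        rw [hg] at hmem
        exact hmem.2.symm)
      refine hc ?_
      rw [← QuotientGroup.out_eq' c, hab, hb]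
      haveI : I.Normal := inn_subgroupOf_autGroup_normal S
      rw [QuotientGroup.mk_mul, QuotientGroup.mk_mul,
        (QuotientGroup.eq_one_iff (N := I) ⟨MulAut.conj g.2, inn_le_autGroup le_rfl ⟨g.2, rfl⟩⟩).2
          (Subgroup.mem_subgroupOf.2 ⟨g.2, rfl⟩), QuotientGroup.mk_inv,
        (QuotientGroup.eq_one_iff (N := I) ⟨MulAut.conj g.1, inn_le_autGroup le_rfl ⟨g.1, rfl⟩⟩).2
          (Subgroup.mem_subgroupOf.2 ⟨g.1, rfl⟩), inv_one, one_mul, mul_one]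
    · exact fun h => absurd (Finset.mem_univ _) h
  have hL0 : ∀ Δ ∈ L0, IsGraph F Δ ∧ Nat.card Δ = Nat.card S := fun Δ hΔ => by
    obtain ⟨c, -, rfl⟩ := List.mem_map.1 hΔ
    exact ⟨isGraph_graph _, hΓcard _⟩
  have hst0 : StableFrom F L0 (Nat.card S) := fun K hK hn hQS => by
    have hc : Nat.card K = Nat.card S :=
      le_antisymm (hK.card_fstImg ▸ Subgroup.card_le_of_le (fstImg_le K)) hn
    obtain ⟨a, rfl⟩ := htop K hK hc
    obtain ⟨b, hb⟩ := htop _ (isGraph_graph (IsMap.id' F hQS))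
      (by rw [(isGraph_graph _).card_sndImg, sndImg_graph, img_id, ← hK.card_sndImg, hc])
    rw [hb, hmark, hmark]
  have hsize0 : ¬ p ∣ orbitCount L0 := by
    unfold orbitCount
    rw [List.map_congr_left (g := fun _ => 1) fun Δ hΔ => by
      rw [(hL0 Δ hΔ).2, Nat.div_self Nat.card_pos]]
    simp only [List.map_const', List.sum_replicate, smul_eq_mul, mul_one, L0, List.length_map,
      Finset.length_toList, Finset.card_univ]
    rw [← Nat.card_eq_fintype_card]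
    obtain ⟨hfa, -⟩ := fullyNormalized_spec hS hF (P := S)
      ⟨le_rfl, fun Q _ => (show normalizerIn S S = S from inf_eq_left.2 Subgroup.le_normalizer).symm ▸
        Subgroup.card_le_of_le (normalizerIn_le Q)⟩
    have h2 := ((fa_iff hS).1 hfa).2
    rwa [← inn_eq_autInducedBy] at h2
  suffices hsuff : ∀ d n, n + d = Nat.card S → ∃ L : List (Subgroup (↥S × ↥S)), (∀ Δ ∈ L, IsGraph F Δ) ∧
      StableFrom F L n ∧ ¬ p ∣ orbitCount L from
    hsuff _ 0 (zero_add _)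
  intro d
  induction d with
  | zero =>
    intro n hn
    rw [add_zero] at hn
    exact ⟨L0, fun Δ hΔ => (hL0 Δ hΔ).1, hn ▸ hst0, hsize0⟩
  | succ d ih =>
    intro n hn
    obtain ⟨L, hL, hst, hsize⟩ := ih (n + 1) (by omega)
    obtain ⟨E, hE, hEst⟩ := stable_step hS hF hL hst
    refine ⟨L ++ E, fun Δ hΔ => (List.mem_append.1 hΔ).elim (hL Δ) (fun h => (hE Δ h).1), hEst, ?_⟩
    rw [orbitCount, List.map_append, List.sum_append, ← orbitCount, ← orbitCount]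
    refine fun h => hsize ((Nat.dvd_add_left ?_).1 h)
    refine List.dvd_sum (l := E.map fun Δ : Subgroup (↥S × ↥S) => Nat.card S / Nat.card Δ) fun x hx => ?_
    obtain ⟨Δ, hΔ, rfl⟩ := List.mem_map.1 hx
    obtain ⟨k, hk⟩ := IsPGroup.iff_card.1 hS
    obtain ⟨hg, hc⟩ := hE Δ hΔ
    haveI := finite_of_le (fstImg_le Δ)
    obtain ⟨j, hj⟩ := IsPGroup.iff_card.1 (hS.to_le (fstImg_le Δ))
    rw [hg.card_fstImg, hk, hj]
    have hjk : j < k := by
      rw [hg.card_fstImg, hj] at hc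
      rw [hk] at hn
      have : p ^ j < p ^ k := by omega
      exact (Nat.pow_lt_pow_iff_right (Fact.out : p.Prime).one_lt).1 this
    rw [Nat.pow_div hjk.le (Fact.out : p.Prime).pos]
    exact dvd_pow_self p (by omega)

end CfsgLib.Fus
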