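import Cfsg.Agent.Fus.Automizer

/-!
Automorphisms stabilizing a series of subgroups.
-/

set_option autoImplicit false
set_option linter.style.haveILetI false

open Cfsg Cfsg.FusionSystem

namespace CfsgLib.Fus

variable {Ω : Type*} [Group Ω]

/-- If an automorphism of a finite `p`-group `P` acts trivially on each factor of a series of subsets above
`D 0`, and some `p`-power of it fixes `D 0` pointwise, then some `p`-power of it is the identity. -/
theorem ppow_eq_one_of_series {p : ℕ} [Fact p.Prime] {P : Subgroup Ω} [Finite P] (hP : IsPGroup p P)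
    (γ : MulAut P) (m : ℕ) (D : ℕ → Set Ω) (htop : ∀ x ∈ P, x ∈ D m)
    (hbase : ∃ k : ℕ, ∀ x ∈ P, x ∈ D 0 → autFun (γ ^ p ^ k) x = x)
    (hstep : ∀ i < m, ∀ x ∈ P, x ∈ D (i + 1) → x⁻¹ * autFun γ x ∈ D i) :
    ∃ k : ℕ, γ ^ p ^ k = 1 := by
  obtain ⟨c, hc⟩ := IsPGroup.iff_card.1 hP
  have hexp : ∀ w ∈ P, w ^ p ^ c = 1 := fun w hw => by
    have := congrArg Subtype.val (pow_card_eq_one' (x := (⟨w, hw⟩ : P)))
    rw [hc] at this
    simpa using this
  suffices key : ∀ i ≤ m, ∃ k : ℕ, ∀ x ∈ P, x ∈ D i → autFun (γ ^ p ^ k) x = x by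
    obtain ⟨k, hk⟩ := key m le_rfl
    exact ⟨k, aut_ext fun x hx => by rw [hk x hx (htop x hx), autFun_one hx]⟩
  intro i hi
  induction i with
  | zero => exact hbase
  | succ i ih =>
    obtain ⟨k, hk⟩ := ih (Nat.le_of_succ_le hi)
    refine ⟨k + c, fun x hx hxD => ?_⟩
    set δ := γ ^ p ^ k with hδ
    have hw : x⁻¹ * autFun δ x ∈ P := P.mul_mem (P.inv_mem hx) (autFun_mem δ hx)
    -- `δ` fixes `z = x⁻¹ γ(x)`, hence commutes past it
    have hz := hk _ (P.mul_mem (P.inv_mem hx) (autFun_mem γ hx)) (hstep i hi x hx hxD)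
    have hm : ∀ (β : MulAut P) (a b : Ω), a ∈ P → b ∈ P →
        autFun β (a * b) = autFun β a * autFun β b := fun β a b ha hb => by
      rw [autFun_of_mem β (P.mul_mem ha hb), autFun_of_mem β ha, autFun_of_mem β hb]
      exact congrArg Subtype.val (_root_.map_mul β ⟨a, ha⟩ ⟨b, hb⟩)
    set z := x⁻¹ * autFun γ x with hzdef
    have hzP : z ∈ P := P.mul_mem (P.inv_mem hx) (autFun_mem γ hx)
    -- `x⁻¹ δ(x)` is fixed by `δ`
    have hfixw : autFun δ (x⁻¹ * autFun δ x) = x⁻¹ * autFun δ x := by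
      suffices h : ∀ n : ℕ, autFun δ (x⁻¹ * autFun (γ ^ n) x) = x⁻¹ * autFun (γ ^ n) x from h _
      intro n
      induction n with
      | zero => rw [pow_zero, autFun_one hx, inv_mul_cancel, autFun_of_mem δ P.one_mem]; exact congrArg Subtype.val (_root_.map_one δ)
      | succ n ihn =>
        have h1 : x⁻¹ * autFun (γ ^ (n + 1)) x = (x⁻¹ * autFun (γ ^ n) x) * autFun (γ ^ n) z := by
          have hxz : autFun γ x = x * z := by rw [hzdef, mul_inv_cancel_left]
          rw [pow_succ, autFun_mul _ _ hx, hxz, hm _ _ _ hx hzP, mul_assoc]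
        rw [h1, hm _ _ _ (P.mul_mem (P.inv_mem hx) (autFun_mem _ hx)) (autFun_mem _ hzP), ihn,
          ← autFun_mul δ (γ ^ n) hzP, hδ, ← pow_add, add_comm, pow_add, autFun_mul _ _ hzP, hz]
    have hiter : ∀ n : ℕ, autFun (δ ^ n) x = x * (x⁻¹ * autFun δ x) ^ n := by
      intro n
      induction n with
      | zero => simp [autFun_one hx]
      | succ n ihn =>
        have hpow : autFun δ ((x⁻¹ * autFun δ x) ^ n) = (x⁻¹ * autFun δ x) ^ n := by
          clear ihn
          induction n with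
          | zero => rw [pow_zero, autFun_of_mem δ P.one_mem]; exact congrArg Subtype.val (_root_.map_one δ)
          | succ n ihn => rw [pow_succ, hm _ _ _ (P.pow_mem hw n) hw, ihn, hfixw]
        rw [pow_succ', autFun_mul _ _ hx, ihn, hm _ _ _ hx (P.pow_mem hw n), hpow, pow_succ',
          ← mul_assoc, mul_inv_cancel_left]
    rw [pow_add, pow_mul, ← hδ, hiter, hexp _ hw, mul_one]

/-- A subgroup of automorphisms of a finite `p`-group all of whose members stabilize a series is a `p`-group. -/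
theorem isPGroup_of_ppow {G : Type*} [Group G] {p : ℕ} (K : Subgroup G)
    (h : ∀ γ ∈ K, ∃ k : ℕ, γ ^ p ^ k = 1) : IsPGroup p K := fun ⟨γ, hγ⟩ => by
  obtain ⟨k, hk⟩ := h γ hγ
  exact ⟨k, Subtype.ext hk⟩

end CfsgLib.Fus
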