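import Mathlib.GroupTheory.Nilpotent
import Cfsg.Agent.Fus.Alperin
import Cfsg.Agent.Fus.Stabilizer
import Cfsg.Agent.Fus.NormalizerSystem

/-!
Subgroups normal in a saturated system: centric radical subgroups, invariance criteria, series criteria.
-/

set_option autoImplicit false
set_option linter.style.haveILetI false

open Cfsg Cfsg.FusionSystem
open scoped commutatorElement Pointwise

namespace CfsgLib.Fus

variable {Ω : Type*} [Group Ω] {S : Subgroup Ω} {F : FusionSystem S} {p : ℕ}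

theorem autFun_map_mul {P : Subgroup Ω} (α : MulAut P) {a b : Ω} (ha : a ∈ P) (hb : b ∈ P) :
    autFun α (a * b) = autFun α a * autFun α b := by
  rw [autFun_of_mem α (P.mul_mem ha hb), autFun_of_mem α ha, autFun_of_mem α hb]
  exact congrArg Subtype.val (_root_.map_mul α ⟨a, ha⟩ ⟨b, hb⟩)

theorem autFun_map_inv {P : Subgroup Ω} (α : MulAut P) {a : Ω} (ha : a ∈ P) :
    autFun α a⁻¹ = (autFun α a)⁻¹ := by
  rw [autFun_of_mem α (P.inv_mem ha), autFun_of_mem α ha]
  exact congrArg Subtype.val (_root_.map_inv α ⟨a, ha⟩)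

theorem autFun_inv_apply' {P : Subgroup Ω} (α : MulAut P) {x : Ω} (hx : x ∈ P) :
    autFun α⁻¹ (autFun α x) = x := by
  rw [← autFun_mul _ _ hx, inv_mul_cancel, autFun_one hx]

theorem autFun_conj {P : Subgroup Ω} (β α : MulAut P) {x : Ω} (hx : x ∈ P) :
    autFun (β * α * β⁻¹) x = autFun β (autFun α (autFun β⁻¹ x)) := by
  rw [autFun_mul _ _ hx, autFun_mul _ _ (autFun_mem _ hx)]

theorem le_normalizer_of_forall {A K : Subgroup Ω} (h : ∀ a ∈ A, ∀ k ∈ K, a * k * a⁻¹ ∈ K) :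
    A ≤ Subgroup.normalizer (K : Set Ω) := fun a ha =>
  mem_normalizer_of_conj (h a ha) fun k hk => by simpa using h a⁻¹ (A.inv_mem ha) k hk

/-! ### Closed subgroups -/

theorem stronglyClosed_weaklyClosed [Finite S] {Q : Subgroup Ω} (h : F.StronglyClosed Q) :
    F.WeaklyClosed Q := by
  rw [stronglyClosed_iff] at h
  refine weaklyClosed_iff.2 ⟨h.1, fun f hf => ?_⟩
  haveI := finite_of_le h.1
  exact Subgroup.eq_of_le_of_card_ge (img_le_iff.2 fun x hx => h.2 Q f hf x hx hx) hf.card_img.ge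

theorem weaklyClosed_normal {Q : Subgroup Ω} (h : F.WeaklyClosed Q) :
    S ≤ Subgroup.normalizer (Q : Set Ω) := by
  rw [weaklyClosed_iff] at h
  exact le_normalizer_of_forall fun s hs x hx =>
    (h.2 _ (IsMap.conj F h.1 hs)).le (mem_img_of_mem (f := conjF s) hx)

theorem stronglyClosed_normal {Q : Subgroup Ω} (h : F.StronglyClosed Q) :
    S ≤ Subgroup.normalizer (Q : Set Ω) := by
  rw [stronglyClosed_iff] at h
  exact le_normalizer_of_forall fun s hs x hx => h.2 Q (conjF s) (IsMap.conj F h.1 hs) x hx hx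

theorem autFun_mem_of_weaklyClosed {Q P : Subgroup Ω} (h : F.WeaklyClosed Q) (hQP : Q ≤ P) (hP : P ≤ S)
    {α : MulAut P} (hα : α ∈ F.autGroup P) {x : Ω} (hx : x ∈ Q) : autFun α x ∈ Q :=
  ((weaklyClosed_iff.1 h).2 _ (((mem_autGroup hP).1 hα).mono hQP)).le (mem_img_of_mem hx)

theorem autFun_mem_of_stronglyClosed {Q P : Subgroup Ω} (h : F.StronglyClosed Q) (hP : P ≤ S)
    {α : MulAut P} (hα : α ∈ F.autGroup P) {x : Ω} (hxP : x ∈ P) (hx : x ∈ Q) : autFun α x ∈ Q :=
  (stronglyClosed_iff.1 h).2 P _ ((mem_autGroup hP).1 hα) x hxP hx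

theorem isNormal_stronglyClosed {Q : Subgroup Ω} (h : F.IsNormal Q) : F.StronglyClosed Q := by
  rw [isNormal_iff] at h
  refine stronglyClosed_iff.2 ⟨h.1, fun P f hf x hxP hx => ?_⟩
  obtain ⟨g, -, hge, hgQ⟩ := h.2 P f hf
  exact hge x hxP ▸ hgQ.le (mem_img_of_mem hx)

/-- A subgroup normalized by `S` all of whose elements normalizing `P` lie in `P` is contained in `P`. -/
theorem le_of_normalizer_le [Finite S] [Fact p.Prime] (hS : IsPGroup p S) {P Q : Subgroup Ω} (hP : P ≤ S)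
    (hQ : Q ≤ S) (hQn : S ≤ Subgroup.normalizer (Q : Set Ω))
    (h : ∀ x ∈ Q, x ∈ Subgroup.normalizer (P : Set Ω) → x ∈ P) : Q ≤ P := by
  by_contra hne
  have hlt : P < P ⊔ Q := lt_of_le_of_ne le_sup_left fun he => hne (he ▸ le_sup_right)
  haveI := finite_of_le (sup_le hP hQ)
  obtain ⟨y, hy, hyP, hyn⟩ := exists_normalizing_of_lt (hS.to_le (sup_le hP hQ)) hlt
  obtain ⟨a, ha, q, hq, rfl⟩ : y ∈ (P : Set Ω) * (Q : Set Ω) :=
    (Subgroup.coe_mul_of_left_le_normalizer_right P Q (hP.trans hQn)) ▸ hy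
  have hqn : q ∈ Subgroup.normalizer (P : Set Ω) := by
    have := Subgroup.mul_mem _ (Subgroup.inv_mem _ (Subgroup.le_normalizer ha)) hyn
    simpa using this
  exact hyP (P.mul_mem ha (h q hq hqn))

/-! ### Centric radical and essential subgroups -/

theorem mem_of_centric_radical [Finite S] [Fact p.Prime] {P : Subgroup Ω} (hc : F.IsCentric P)
    (hr : F.IsRadical p P) (K : Subgroup (MulAut P)) (hKA : K ≤ F.autGroup P) (hKp : IsPGroup p K)
    (hKn : ∀ α ∈ F.autGroup P, ∀ κ ∈ K, α * κ * α⁻¹ ∈ K) {x : Ω} (hx : x ∈ S) {κ : MulAut P}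
    (hκ : κ ∈ K) (he : ∀ y ∈ P, autFun κ y = x * y * x⁻¹) : x ∈ P := by
  haveI : (K.subgroupOf (F.autGroup P)).Normal := ⟨fun a ha b => hKn b b.2 a ha⟩
  have hle : K.subgroupOf (F.autGroup P) ≤ pCore p ↥(F.autGroup P) :=
    le_sSup ⟨inferInstance, hKp.comap_of_injective _ (Subgroup.subtype_injective _)⟩
  have hinn : κ ∈ Inn P := hr.2 ▸ ⟨⟨κ, hKA hκ⟩, hle (Subgroup.mem_subgroupOf.2 hκ), rfl⟩
  rw [inn_eq_autInducedBy] at hinn
  obtain ⟨r, hr', hre⟩ := mem_autInducedBy.1 hinn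
  have : r⁻¹ * x ∈ centralizerIn S P := by
    refine ⟨S.mul_mem (S.inv_mem (hc.1 hr')) hx, fun y hy => ?_⟩
    have h3 : x * y * x⁻¹ = r * y * r⁻¹ := (he y hy).symm.trans (hre y hy)
    calc y * (r⁻¹ * x) = r⁻¹ * (r * y * r⁻¹) * x := by simp [mul_assoc]
      _ = r⁻¹ * x * y := by rw [← h3]; simp [mul_assoc]
  simpa using P.mul_mem hr' (hc.2 P (isConj_refl hc.1) this)

theorem inn_isPGroup [Finite S] (hS : IsPGroup p S) {P : Subgroup Ω} (hP : P ≤ S) :
    IsPGroup p (Inn P) := by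
  rw [inn_eq_autInducedBy]
  exact isPGroup_autInducedBy (hS.to_le hP)

/-- The image in the outer automorphism group of a normal `p`-subgroup of `Aut_F(P)` is trivial for an
essential `P`. -/
theorem essential_le_inn [Finite S] [Fact p.Prime] {P : Subgroup Ω} (hP : F.IsEssential p P)
    {K : Subgroup ↥(F.autGroup P)} [K.Normal] (hK : IsPGroup p K) :
    K ≤ (Inn P).subgroupOf (F.autGroup P) := by
  obtain ⟨-, hn, hN, E, hE⟩ := hP
  haveI := hN
  haveI := finite_mulAut hn.1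
  set π := QuotientGroup.mk' ((Inn P).subgroupOf (F.autGroup P))
  intro a ha
  by_contra hne
  obtain ⟨Rb⟩ := (Sylow.nonempty : Nonempty (Sylow p (↥(F.autGroup P) ⧸ (Inn P).subgroupOf (F.autGroup P))))
  obtain ⟨E', hRE, hE'ne, hmem⟩ := spe_comap_conj hE Rb
  haveI hKn : (K.map π).Normal := Subgroup.Normal.map inferInstance π (QuotientGroup.mk'_surjective _)
  have hKE : K.map π ≤ E' := ((hK.map π).le_sylow_of_normal Rb).trans hRE
  have hu1 : π a ≠ 1 := fun h => hne ((QuotientGroup.eq_one_iff a).1 h)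
  apply hE'ne
  rw [eq_top_iff]
  intro x _
  have hmemK : π a ∈ K.map π := ⟨a, ha, rfl⟩
  refine hmem (π a) x (hKE hmemK) hu1 (isPGroup_zpowers_of_mem (hK.map π) hmemK) (hKE ?_)
  simpa using hKn.conj_mem _ hmemK x⁻¹

theorem essential_isRadical [Finite S] [Fact p.Prime] (hS : IsPGroup p S) {P : Subgroup Ω}
    (hP : F.IsEssential p P) : F.IsRadical p P := by
  have hP' := hP.2.1.1
  refine ⟨hP', le_antisymm ?_ fun α hα => ?_⟩
  · haveI := finite_mulAut hP'
    have h2 : pCore p ↥(F.autGroup P) ≤ (Inn P).subgroupOf (F.autGroup P) :=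
      sSup_le fun N ⟨hN, hNp⟩ => haveI := hN; essential_le_inn hP hNp
    exact Subgroup.map_le_iff_le_comap.2 h2
  · haveI := inn_subgroupOf_autGroup_normal (F := F) P
    have hle : (Inn P).subgroupOf (F.autGroup P) ≤ pCore p ↥(F.autGroup P) :=
      le_sSup ⟨inferInstance, (inn_isPGroup hS hP').comap_of_injective _ (Subgroup.subtype_injective _)⟩
    exact ⟨⟨α, inn_le_autGroup hP' hα⟩, hle (Subgroup.mem_subgroupOf.2 hα), rfl⟩

theorem essential_lt [Finite S] [Fact p.Prime] (hS : IsPGroup p S) (hF : F.IsSaturated p) {P : Subgroup Ω}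
    (hP : F.IsEssential p P) : P < S := by
  refine lt_of_le_of_ne hP.2.1.1 fun h => ?_
  subst h
  obtain ⟨-, hn, hN, E, hE⟩ := id hP
  haveI := hN
  haveI := finite_mulAut (le_refl P)
  obtain ⟨⟨-, R, hR⟩, -⟩ := fullyNormalized_spec hS hF hn
  rw [← inn_eq_autInducedBy] at hR
  have := R.not_dvd_index
  rw [hR] at this
  obtain ⟨hdvd, -⟩ := hE
  exact this hdvd

theorem centric_self [Finite S] : F.IsCentric S :=
  ⟨le_rfl, fun Q hQ => by rw [eq_of_isConj_self hQ]; exact inf_le_left⟩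

theorem radical_self [Finite S] [Fact p.Prime] (hS : IsPGroup p S) (hF : F.IsSaturated p) :
    F.IsRadical p S := by
  haveI := finite_mulAut (le_refl S)
  obtain ⟨⟨-, R, hR⟩, -⟩ := fullyNormalized_spec (F := F) hS hF fullyNormalized_top
  rw [← inn_eq_autInducedBy] at hR
  haveI hN := inn_subgroupOf_autGroup_normal (F := F) S
  have heq : pCore p ↥(F.autGroup S) = (Inn S).subgroupOf (F.autGroup S) :=
    le_antisymm (sSup_le fun N ⟨hn, hp'⟩ => haveI := hn; hR ▸ hp'.le_sylow_of_normal R)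
      (le_sSup ⟨hN, hR ▸ R.isPGroup'⟩)
  exact ⟨le_rfl, by rw [heq, Subgroup.subgroupOf_map_subtype, inf_eq_left.2 (inn_le_autGroup le_rfl)]⟩

theorem crit_cases [Finite S] [Fact p.Prime] (hS : IsPGroup p S) (hF : F.IsSaturated p) {P : Subgroup Ω}
    (h : P = S ∨ F.IsEssential p P) : F.IsCentric P ∧ F.IsRadical p P := by
  rcases h with rfl | h
  · exact ⟨centric_self, radical_self hS hF⟩
  · exact ⟨h.1, essential_isRadical hS h⟩

/-! ### Normal subgroups -/

/-- A normal subgroup of a saturated system lies in every centric radical subgroup. -/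
theorem normal_le_centric_radical [Finite S] [Fact p.Prime] (hS : IsPGroup p S) {Q P : Subgroup Ω}
    (hQ : F.IsNormal Q) (hc : F.IsCentric P) (hr : F.IsRadical p P) : Q ≤ P := by
  have hQn := stronglyClosed_normal (isNormal_stronglyClosed hQ)
  rw [isNormal_iff] at hQ
  refine le_of_normalizer_le hS hc.1 hQ.1 hQn fun x hxQ hxn => ?_
  obtain ⟨κ, hκ, hκe⟩ := exists_autInducedBy (K := Q ⊓ Subgroup.normalizer (P : Set Ω)) ⟨hxQ, hxn⟩ hxn
  refine mem_of_centric_radical hc hr (autInducedBy (Q ⊓ Subgroup.normalizer (P : Set Ω)) P)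
    ((autInducedBy_mono (inf_le_left.trans hQ.1)).trans (autInducedBy_le_autGroup hc.1))
    (isPGroup_autInducedBy ((hS.to_le (inf_le_left.trans hQ.1)))) (fun α hα β hβ => ?_) (hQ.1 hxQ) hκ hκe
  obtain ⟨a, ⟨haQ, han⟩, hae⟩ := mem_autInducedBy.1 hβ
  have hαm := (mem_autGroup hc.1).1 hα
  obtain ⟨g, hg, hge, hgQ⟩ := hQ.2 P _ hαm
  have haQ' : a ∈ P ⊔ Q := le_sup_right (a := P) haQ
  have hP' : img g P = P := (img_congr hge).trans (img_autFun α)
  refine mem_autInducedBy.2 ⟨g a, ⟨hgQ.le (mem_img_of_mem haQ), ?_⟩, fun y hy => ?_⟩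
  · have := hg.map_normalizer le_sup_left haQ' han
    rwa [hP'] at this
  · have hy' := autFun_mem α⁻¹ hy
    rw [autFun_conj _ _ hy, hae _ hy', ← hge _ (conj_mem_of_normalizer han hy'),
      hg.map_conj haQ' (le_sup_left (b := Q) hy'), hge _ hy', autFun_inv_apply α hy]

/-- Invariance under `Aut_F(S)` and the essential automizers gives normality. -/
theorem normal_criterion [Finite S] [Fact p.Prime] (hS : IsPGroup p S) (hF : F.IsSaturated p)
    {Q : Subgroup Ω} (h : ∀ P : Subgroup Ω, (P = S ∨ F.IsEssential p P) →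
      Q ≤ P ∧ ∀ α ∈ F.autGroup P, ∀ x ∈ Q, autFun α x ∈ Q) : F.IsNormal Q := by
  have hQS : Q ≤ S := (h S (Or.inl rfl)).1
  haveI := finite_of_le hQS
  have hQn : S ≤ Subgroup.normalizer (Q : Set Ω) := le_normalizer_of_forall fun s hs x hx => by
    obtain ⟨α, hα, he⟩ := exists_autInducedBy (K := S) (P := S) hs (Subgroup.le_normalizer hs)
    rw [← he x (hQS hx)]
    exact (h S (Or.inl rfl)).2 α (autInducedBy_le_autGroup le_rfl hα) x hx
  have hC : ExtCond F Q S (fun f => img f Q = Q) :=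
    { conj := fun a ha => le_antisymm
        (img_le_iff.2 fun x hx => conj_mem_of_normalizer (hQn ha) hx)
        (fun x hx => by
          have : conjF a (a⁻¹ * x * a) = x := by simp [mul_assoc]
          rw [← this]
          exact mem_img_of_mem (conj_mem_of_normalizer' (hQn ha) hx))
      congr := fun h hf => (img_congr fun x hx => (h x hx).symm).trans hf
      img_eq := id
      comp := fun {f g} hm hf hg => by rw [hm.img_comp, hf, hg]
      inv := fun {f g} hm hf h => by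
        calc img g Q = img g (img f Q) := by rw [hf]
          _ = img (g ∘ f) Q := (hm.img_comp g).symm
          _ = Q := (img_congr (g := id) h).trans (img_id Q) }
  have hle : F ≤ extSystem F Q S hQS le_rfl _ hC := alperin hS hF _ fun P hP => by
    obtain ⟨hQP, hinv⟩ := h P hP
    have hPS : P ≤ S := hP.elim (fun e => e.le) fun e => e.2.1.1
    intro α hα
    have hαm := (mem_autGroup hPS).1 hα
    obtain ⟨ψ, hψ, hψe⟩ := hαm.mono (sup_le le_rfl hQP : P ⊔ Q ≤ P)
    refine Subgroup.subset_closure ⟨hαm.hom_mem fun x => (autFun_apply α x).symm, hPS,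
      fun x => hPS (α x).2, ψ, hψ, fun x => (hψe _).trans (autFun_apply α x), ?_⟩
    refine Subgroup.eq_of_le_of_card_ge (img_le_iff.2 fun x hx => ?_) ((hαm.mono hQP).card_img.symm.trans
      (congrArg (fun H : Subgroup Ω => Nat.card ↥H) (img_congr fun x hx =>
        ((ev_of_mem ψ (le_sup_right (a := P) hx)).trans (hψe _)).symm))).le
    rw [ev_of_mem ψ (le_sup_right (a := P) hx), hψe]
    exact hinv α hα x hx
  refine isNormal_iff.2 ⟨hQS, fun P f ⟨φ, hφ, hφf⟩ => ?_⟩
  obtain ⟨-, -, -, ψ, hψ, hψe, hψQ⟩ := hle P hφ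
  refine ⟨ev ψ, IsMap.of_hom hψ, fun x hx => ?_, hψQ⟩
  rw [ev_of_mem ψ (le_sup_left (b := Q) hx)]
  exact (hψe ⟨x, hx⟩).trans (hφf ⟨x, hx⟩)

theorem normal_of_closed [Finite S] [Fact p.Prime] (hS : IsPGroup p S) (hF : F.IsSaturated p)
    {Q : Subgroup Ω} (hQ : F.StronglyClosed Q)
    (h : ∀ P : Subgroup Ω, F.IsCentric P → F.IsRadical p P → Q ≤ P) : F.IsNormal Q :=
  normal_criterion hS hF fun P hP => by
    obtain ⟨hc, hr⟩ := crit_cases hS hF hP
    exact ⟨h P hc hr, fun α hα x hx => autFun_mem_of_stronglyClosed hQ hc.1 hα (h P hc hr hx) hx⟩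

theorem isNormal_of_char {Q U : Subgroup Ω} (hQ : F.IsNormal Q) (hUQ : U ≤ Q)
    (hU : (U.subgroupOf Q).Characteristic) : F.IsNormal U := by
  rw [isNormal_iff] at hQ ⊢
  refine ⟨hUQ.trans hQ.1, fun P f hf => ?_⟩
  obtain ⟨g, hg, hge, hgQ⟩ := hQ.2 P f hf
  refine ⟨g, hg.mono (sup_le_sup_left hUQ P), hge, ?_⟩
  obtain ⟨α, -, hα⟩ := exists_aut (hg.mono le_sup_right) hgQ
  have hfix : (U.subgroupOf Q).map (α : Q ≃* Q).toMonoidHom = U.subgroupOf Q :=
    Subgroup.characteristic_iff_map_eq.1 hU _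
  refine le_antisymm (img_le_iff.2 fun x hx => ?_) fun x hx => ?_
  · rw [← hα x (hUQ hx), autFun_of_mem α (hUQ hx)]
    exact Subgroup.mem_subgroupOf.1 (hfix.le ⟨⟨x, hUQ hx⟩, hx, rfl⟩)
  · obtain ⟨y, hy, hyx⟩ := hfix.ge (show (⟨x, hUQ hx⟩ : Q) ∈ U.subgroupOf Q from hx)
    have hyx' : g y = x := by
      rw [← hα y y.2, autFun_apply α y]
      exact congrArg Subtype.val hyx
    exact hyx' ▸ mem_img_of_mem hy

/-- An element of `N_S(P)` that stabilizes an invariant series of a centric radical `P` lies in `P`. -/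
theorem mem_of_stabilized [Finite S] [Fact p.Prime] (hS : IsPGroup p S) {P : Subgroup Ω}
    (hc : F.IsCentric P) (hr : F.IsRadical p P) (m : ℕ) (D : ℕ → Subgroup Ω) (htop : D m = P)
    (hDP : ∀ j ≤ m, D j ≤ P)
    (hinv : ∀ α ∈ F.autGroup P, ∀ j ≤ m, ∀ y ∈ D j, autFun α y ∈ D j)
    (hbase : ∀ α ∈ F.autGroup P, ∃ k : ℕ, ∀ y ∈ D 0, autFun (α ^ p ^ k) y = y)
    {x : Ω} (hx : x ∈ S) (hxn : x ∈ Subgroup.normalizer (P : Set Ω))
    (hstep : ∀ j < m, ∀ y ∈ D (j + 1), y⁻¹ * (x * y * x⁻¹) ∈ D j) : x ∈ P := by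
  haveI := finite_of_le hc.1
  let K : Subgroup (MulAut P) :=
    { carrier := {κ | κ ∈ F.autGroup P ∧ ∀ j < m, ∀ y ∈ D (j + 1), y⁻¹ * autFun κ y ∈ D j}
      one_mem' := ⟨Subgroup.one_mem _, fun j hj y hy => by
        rw [autFun_one (hDP _ hj hy), inv_mul_cancel]
        exact Subgroup.one_mem _⟩
      mul_mem' := by
        rintro κ μ ⟨hκA, hκ⟩ ⟨hμA, hμ⟩
        refine ⟨Subgroup.mul_mem _ hκA hμA, fun j hj y hy => ?_⟩
        have hyP := hDP _ hj hy
        have h1 := (D j).mul_mem (hκ j hj y hy) (hinv κ hκA j hj.le _ (hμ j hj y hy))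
        rw [autFun_map_mul κ (P.inv_mem hyP) (autFun_mem μ hyP), autFun_map_inv κ hyP] at h1
        rw [autFun_mul _ _ hyP]
        simpa [mul_assoc] using h1
      inv_mem' := by
        rintro κ ⟨hκA, hκ⟩
        refine ⟨Subgroup.inv_mem _ hκA, fun j hj y hy => ?_⟩
        have hyP := hDP _ hj hy
        have h1 := hinv κ⁻¹ (Subgroup.inv_mem _ hκA) j hj.le _ ((D j).inv_mem (hκ j hj y hy))
        rw [mul_inv_rev, inv_inv, autFun_map_mul _ (P.inv_mem (autFun_mem κ hyP)) hyP,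
          autFun_map_inv _ (autFun_mem κ hyP), autFun_inv_apply' κ hyP] at h1
        exact h1 }
  have hKn : ∀ α ∈ F.autGroup P, ∀ κ ∈ K, α * κ * α⁻¹ ∈ K := by
    rintro α hα κ ⟨hκA, hκ⟩
    refine ⟨Subgroup.mul_mem _ (Subgroup.mul_mem _ hα hκA) (Subgroup.inv_mem _ hα), fun j hj y hy => ?_⟩
    have hyP := hDP _ hj hy
    have hy' := autFun_mem α⁻¹ hyP
    have h1 := hinv α hα j hj.le _ (hκ j hj _ (hinv α⁻¹ (Subgroup.inv_mem _ hα) (j + 1) hj y hy))
    rw [autFun_map_mul α (P.inv_mem hy') (autFun_mem κ hy'), autFun_map_inv α hy',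
      autFun_inv_apply α hyP] at h1
    rw [autFun_conj _ _ hyP]
    exact h1
  have hKp : IsPGroup p K := isPGroup_of_ppow _ fun γ hγ =>
    ppow_eq_one_of_series (hS.to_le hc.1) γ m (fun j => (D j : Set Ω))
      (fun y hy => htop.ge hy) (by
        obtain ⟨k, hk⟩ := hbase γ hγ.1
        exact ⟨k, fun y _ hy => hk y hy⟩) fun j hj y _ hy => hγ.2 j hj y hy
  obtain ⟨κ, hκ, hκe⟩ := exists_autInducedBy (K := S) hx hxn
  exact mem_of_centric_radical hc hr K (fun γ hγ => hγ.1) hKp hKn hx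
    (show κ ∈ K from ⟨autInducedBy_le_autGroup hc.1 hκ, fun j hj y hy => by
      rw [hκe y (hDP _ hj hy)]; exact hstep j hj y hy⟩) hκe

/-- The series criterion. -/
theorem normal_of_series [Finite S] [Fact p.Prime] (hS : IsPGroup p S) (hF : F.IsSaturated p)
    {Q : Subgroup Ω} (hQ : F.StronglyClosed Q) (n : ℕ) (C : ℕ → Subgroup Ω) (h0 : C 0 = ⊥)
    (hn : C n = Q) (hle : ∀ i ≤ n, C i ≤ Q) (hcomm : ∀ i < n, ⁅C (i + 1), Q⁆ ≤ C i)
    (hw : ∀ i < n, F.WeaklyClosed (C i)) : F.IsNormal Q := by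
  refine normal_of_closed hS hF hQ fun P hc hr => ?_
  have hwi : ∀ i ≤ n, F.WeaklyClosed (C i) := fun i hi => by
    rcases hi.eq_or_lt with rfl | hlt
    · rw [hn]; exact stronglyClosed_weaklyClosed hQ
    · exact hw i hlt
  have hQS := hQ.1
  have hQn := stronglyClosed_normal hQ
  suffices key : ∀ i ≤ n, ∀ j ≤ i, C j ≤ P by rw [← hn]; exact key n le_rfl n le_rfl
  intro i hi
  induction i with
  | zero => intro j hj; rw [Nat.le_zero.1 hj, h0]; exact bot_le
  | succ i ih =>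
    have hi' := Nat.le_of_succ_le hi
    have ih := ih hi'
    intro j hj
    rcases hj.eq_or_lt with rfl | hlt
    swap
    · exact ih j (Nat.lt_succ_iff.1 hlt)
    refine le_of_normalizer_le hS hc.1 ((hle _ hi).trans hQS) (weaklyClosed_normal (hwi _ hi))
      fun x hx hxn => ?_
    let D : ℕ → Subgroup Ω := fun j => if j ≤ i then C j else if j = i + 1 then P ⊓ Q else P
    have hD1 : ∀ j ≤ i, D j = C j := fun j hj => if_pos hj
    have hD2 : D (i + 1) = P ⊓ Q := by simp [D]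
    have hD3 : D (i + 2) = P := by simp [D]
    have cases3 : ∀ j ≤ i + 2, j ≤ i ∨ j = i + 1 ∨ j = i + 2 := fun j hj => by omega
    refine mem_of_stabilized hS hc hr (i + 2) D hD3 (fun j hj => ?_) (fun α hα j hj y hy => ?_)
      (fun α _ => ⟨0, fun y hy => ?_⟩) (hQS (hle _ hi hx)) hxn fun j hj y hy => ?_
    · rcases cases3 j hj with h | rfl | rfl
      exacts [hD1 j h ▸ ih j h, hD2 ▸ inf_le_left, hD3.le]
    · rcases cases3 j hj with h | rfl | rfl
      · rw [hD1 j h] at hy ⊢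
        exact autFun_mem_of_weaklyClosed (hwi j (h.trans hi')) (ih j h) hc.1 hα hy
      · rw [hD2] at hy ⊢
        exact ⟨autFun_mem α hy.1, autFun_mem_of_stronglyClosed hQ hc.1 hα hy.1 hy.2⟩
      · rw [hD3] at hy ⊢
        exact autFun_mem α hy
    · rw [hD1 0 (Nat.zero_le _), h0, Subgroup.mem_bot] at hy
      subst hy
      rw [autFun_of_mem _ P.one_mem]
      exact congrArg Subtype.val (_root_.map_one _)
    · have hcom : ∀ k < n, x ∈ Q → y ∈ C (k + 1) → y⁻¹ * (x * y * x⁻¹) ∈ C k := fun k hk hxQ hyk => by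
        have h2 := hcomm k hk (Subgroup.commutator_mem_commutator (Subgroup.inv_mem _ hyk) hxQ)
        simpa [commutatorElement_def, mul_assoc] using h2
      rcases cases3 (j + 1) hj with h | h | h
      · rw [hD1 _ h] at hy
        rw [hD1 j (Nat.le_of_succ_le h)]
        exact hcom j (by omega) (hle _ hi hx) hy
      · obtain rfl : j = i := by omega
        rw [hD2] at hy
        rw [hD1 j le_rfl]
        have h2 := hcomm j hi (Subgroup.commutator_comm_le Q (C (j + 1))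
          (Subgroup.commutator_mem_commutator (Subgroup.inv_mem _ hy.2) hx))
        simpa [commutatorElement_def, mul_assoc] using h2
      · obtain rfl : j = i + 1 := by omega
        rw [hD3] at hy
        rw [hD2]
        refine ⟨P.mul_mem (P.inv_mem hy) (conj_mem_of_normalizer hxn hy), ?_⟩
        have hxQ := hle _ hi hx
        have h1 := Q.mul_mem (conj_mem_of_normalizer' (hQn (hc.1 hy)) hxQ) (Q.inv_mem hxQ)
        simpa [mul_assoc] using h1

/-- A normal subgroup has a series of normal subgroups centralized factor by factor. -/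
theorem exists_normal_series [Finite S] [Fact p.Prime] (hS : IsPGroup p S) {Q : Subgroup Ω}
    (hQ : F.IsNormal Q) : ∃ (n : ℕ) (C : ℕ → Subgroup Ω), C 0 = ⊥ ∧ C n = Q ∧
      (∀ i j, i ≤ j → C i ≤ C j) ∧ (∀ i, F.IsNormal (C i)) ∧ ∀ i < n, ⁅C (i + 1), Q⁆ ≤ C i := by
  haveI := finite_of_le hQ.1
  haveI := (hS.to_le hQ.1).isNilpotent
  refine ⟨Group.nilpotencyClass ↥Q, fun i => Q.lowerCentralSeries (Group.nilpotencyClass ↥Q - i),
    ?_, ?_, fun i j hij => ?_, fun i => ?_, fun i hi => ?_⟩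
  · exact Subgroup.lowerCentralSeries_eq_bot_of_nilpotencyClass_le (by simp)
  · simp
  · exact Q.lowerCentralSeries_antitone (by omega)
  · refine isNormal_of_char hQ (Q.lowerCentralSeries_le_self _) ?_
    rw [show (Q.lowerCentralSeries (Group.nilpotencyClass ↥Q - i)).subgroupOf Q =
        (⊤ : Subgroup ↥Q).lowerCentralSeries (Group.nilpotencyClass ↥Q - i) by
      rw [← Subgroup.top_subtype_lowerCentralSeries]
      exact Subgroup.comap_map_eq_self_of_injective Q.subtype_injective _]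
    infer_instance
  · show _ ≤ Q.lowerCentralSeries (Group.nilpotencyClass ↥Q - i)
    rw [show Group.nilpotencyClass ↥Q - i = (Group.nilpotencyClass ↥Q - (i + 1)) + 1 by omega,
      Subgroup.lowerCentralSeries_succ]

end CfsgLib.Fus
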