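import Cfsg.Agent.Fus.StabInduction

/-!
Control of weak closure of central elements: the system of maps fixing a central element, comparison of the centre of a
normalizer system with the centre of the whole system, and characteristic subgroup functors through the model.
-/

set_option autoImplicit false
set_option linter.style.haveILetI false

open Cfsg Cfsg.FusionSystem

namespace CfsgLib.Fus

variable {Ω : Type*} [Group Ω] {S : Subgroup Ω} {F : FusionSystem S} {p : ℕ}

/-- The maps fixing the central element `z` when defined on it, and moving nothing onto it otherwise. -/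
def fixSys (F : FusionSystem S) (z : Ω) (hz : z ∈ Zc S) : FusionSystem S :=
  subSystem F (fun P f => (z ∈ P → f z = z) ∧ (z ∈ img f P → z ∈ P))
    (fun P f g hfg hf => ⟨fun h => (hfg z h).symm.trans (hf.1 h),
      fun h => hf.2 (by rwa [img_congr hfg])⟩)
    (fun P a hP ha => by
      have hc : a * z * a⁻¹ = z := by rw [Zc_comm hz ha, mul_inv_cancel_right]
      refine ⟨fun _ => hc, fun h => ?_⟩
      obtain ⟨x, hx, he⟩ := (IsMap.conj F hP ha).mem_img.1 h
      have : x = z := by
        have h1 : a * x * a⁻¹ = a * z * a⁻¹ := he.trans hc.symm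
        simpa using h1
      exact this ▸ hx)
    (fun P R f g hf hg h1 h2 hPR => by
      refine ⟨fun h => ?_, fun h => ?_⟩
      · rw [Function.comp_apply, h1.1 h]
        exact h2.1 (h1.1 h ▸ hPR z h)
      · obtain ⟨x, hx, he⟩ := (hf.comp hg hPR).mem_img.1 h
        rw [Function.comp_apply] at he
        have hzR : z ∈ R := h2.2 (he ▸ mem_img_of_mem (hPR x hx))
        refine h1.2 ?_
        have : f x = z := hg.inj (hPR x hx) hzR (he.trans (h2.1 hzR).symm)
        exact this ▸ mem_img_of_mem hx)
    (fun P f g hf h1 hg hgf => by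
      refine ⟨fun h => ?_, fun h => ?_⟩
      · have hzP := h1.2 h
        have := hgf z hzP
        rwa [h1.1 hzP] at this
      · obtain ⟨y, hy, he⟩ := hg.mem_img.1 h
        obtain ⟨x, hx, rfl⟩ := hf.mem_img.1 hy
        rw [hgf x hx] at he
        subst he
        exact h1.1 hx ▸ mem_img_of_mem hx)

theorem isMap_fixSys {z : Ω} {hz : z ∈ Zc S} {P : Subgroup Ω} {f : Ω → Ω} :
    IsMap (fixSys F z hz) P f ↔ IsMap F P f ∧ (z ∈ P → f z = z) ∧ (z ∈ img f P → z ∈ P) :=
  isMap_subSystem

theorem isMap_fixSys_of_mem {z : Ω} {hz : z ∈ Zc S} {P : Subgroup Ω} {f : Ω → Ω} (hf : IsMap F P f)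
    (hzP : z ∈ P) (h : f z = z) : IsMap (fixSys F z hz) P f :=
  isMap_fixSys.2 ⟨hf, fun _ => h, fun _ => hzP⟩

/-- The centre of the system is in the centre of a normalizer system. -/
theorem central_normalizerSystem {W Q : Subgroup Ω} (hW : normalizerIn S W = S)
    {N : FusionSystem (normalizerIn S W)} (hN : F.IsNormalizerSystem W N) (hQ : F.IsCentral Q) : N.IsCentral Q := by
  rw [isCentral_iff] at hQ ⊢
  refine ⟨by rw [hW]; exact hQ.1, fun P f hf => ?_⟩
  obtain ⟨-, hP, g, hg, hge, hgW⟩ := isMap_of_normalizerSystem hN hf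
  obtain ⟨χ, hχ, hχe, hχQ⟩ := hQ.2 _ g hg
  have hχW : img χ W = W := (img_congr fun x hx => hχe x (le_sup_right (a := P) hx)).trans hgW
  have hle : P ⊔ W ⊔ Q ≤ normalizerIn S W := by rw [hW]; exact hχ.le
  exact ⟨χ, (isMap_normalizerSystem hN hχ (le_sup_right.trans le_sup_left) hχW hle).mono
      (sup_le_sup_right le_sup_left Q),
    fun x hx => by rw [hχe x (le_sup_left (b := W) hx), hge x hx], hχQ⟩

/-- Elements of a central subgroup of a normalizer system of a normal subgroup are central in `S` and are fixed by the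
maps stabilizing that subgroup. -/
theorem normalizer_central_fixed {W Q : Subgroup Ω} (hWS : W ≤ S) (hW : normalizerIn S W = S)
    {N : FusionSystem (normalizerIn S W)} (hN : F.IsNormalizerSystem W N) (hQ : N.IsCentral Q) {x : Ω}
    (hx : x ∈ Q) :
    x ∈ Zc S ∧ ∀ (P : Subgroup Ω) f, IsMap F P f → W ≤ P → img f W = W → x ∈ P → f x = x := by
  rw [isCentral_iff] at hQ
  have fix : ∀ (P : Subgroup Ω) f, IsMap N P f → x ∈ P → f x = x := fun P f hf hxP => by
    obtain ⟨g, -, hge, hgQ⟩ := hQ.2 P f hf
    rw [← hge x hxP, hgQ x hx]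
  have hxS : x ∈ S := (hQ.1.trans (normalizerIn_le W)) hx
  refine ⟨mem_Zc hxS fun s hs => ?_, fun P f hf hWP hfW hxP => fix P f
    (isMap_normalizerSystem hN hf hWP hfW (by rw [hW]; exact hf.le)) hxP⟩
  have h := fix S (conjF s) (isMap_normalizerSystem hN (IsMap.conj F le_rfl hs) hWS
    (le_antisymm (img_le_iff.2 fun y hy => conj_mem_of_normalizer (hW.ge hs).2 hy) fun y hy => by
      have : conjF s (s⁻¹ * y * s) = y := by simp [mul_assoc]
      rw [← this]
      exact mem_img_of_mem (conj_mem_of_normalizer' (hW.ge hs).2 hy)) hW.ge) hxS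
  exact mul_inv_eq_iff_eq_mul.1 h

/-- The elements of the centre of a normalizer system of a normal subgroup are central in `S` and are fixed by the maps
stabilizing that subgroup. -/
theorem normalizer_center_fixed [Finite S] {W : Subgroup Ω} (hWS : W ≤ S) (hW : normalizerIn S W = S)
    {N : FusionSystem (normalizerIn S W)} (hN : F.IsNormalizerSystem W N) {x : Ω} (hx : x ∈ N.center) :
    x ∈ Zc S ∧ ∀ (P : Subgroup Ω) f, IsMap F P f → W ≤ P → img f W = W → x ∈ P → f x = x :=
  haveI := finite_of_le (normalizerIn_le (S := S) W)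
  normalizer_central_fixed hWS hW hN isCentral_center hx

/-- A subgroup fixed by all maps is central. -/
theorem le_center_of_fixed [Finite S] [Fact p.Prime] (hS : IsPGroup p S) (hF : F.IsSaturated p) {Q : Subgroup Ω}
    (hQ : Q ≤ S) (h : ∀ x ∈ Q, ∀ (P : Subgroup Ω) f, IsMap F P f → x ∈ P → f x = x) : Q ≤ F.center :=
  le_sSup ((central_iff hS hF _).2 ⟨hQ, fun x hx y hxy => by
    obtain ⟨f, hf, rfl⟩ := isConjElt_iff.1 hxy
    exact h x hx _ f hf (Subgroup.mem_zpowers x)⟩)

/-- The centre of the normalizer system of a normal subgroup is the centre of the system when the central elements fixed by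
the stabilizing maps are fixed by all maps. -/
theorem normalizer_center_eq [Finite S] [Fact p.Prime] (hS : IsPGroup p S) (hF : F.IsSaturated p) {W : Subgroup Ω}
    (hWS : W ≤ S) (hW : normalizerIn S W = S) {N : FusionSystem (normalizerIn S W)}
    (hN : F.IsNormalizerSystem W N)
    (main : ∀ z ∈ Zc S, (∀ (P : Subgroup Ω) f, IsMap F P f → W ≤ P → img f W = W → z ∈ P → f z = z) →
      ∀ (P : Subgroup Ω) f, IsMap F P f → z ∈ P → f z = z) : N.center = F.center := by
  refine le_antisymm (le_center_of_fixed hS hF (fun x hx => Zc_le (normalizer_center_fixed hWS hW hN hx).1)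
    fun x hx => ?_) (sSup_le fun Q hQ => le_sSup (central_normalizerSystem hW hN hQ))
  obtain ⟨h1, h2⟩ := normalizer_center_fixed hWS hW hN hx
  exact main x h1 h2

end CfsgLib.Fus
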