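import Cfsg.Agent.Fus.NormalizerSystem
import Cfsg.Agent.Fus.WeakClosureCenter
import Cfsg.Agent.Fus.Normal

/-!
If the centre of `S` lies in the core, the centre of the system is a direct factor of it (transfer).
-/

set_option autoImplicit false
set_option linter.style.haveILetI false

open Cfsg Cfsg.FusionSystem
open scoped IsMulCommutative

namespace CfsgLib.Fus

variable {Ω : Type*} [Group Ω] {S : Subgroup Ω} {F : FusionSystem S} {p : ℕ}

theorem center_complement [Finite S] [hp : Fact p.Prime] (hS : IsPGroup p S) (hF : F.IsSaturated p)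
    (hZ : S ⊓ Subgroup.centralizer (S : Set Ω) ≤ F.core) :
    ∃ K : Subgroup Ω, K ≤ S ⊓ Subgroup.centralizer (S : Set Ω) ∧ F.center ⊓ K = ⊥ ∧
      F.center ⊔ K = S ⊓ Subgroup.centralizer (S : Set Ω) := by
  classical
  set W := S ⊓ Subgroup.centralizer (S : Set Ω) with hW
  set Q := F.core with hQdef
  have hQn : F.IsNormal Q := isNormal_core
  have hQS : Q ≤ S := hQn.1
  haveI := finite_of_le hQS
  haveI := finite_mulAut hQS
  have hQext := (isNormal_iff.1 hQn).2
  -- maps fix the centre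
  have hCfix : ∀ (P : Subgroup Ω) (f : Ω → Ω), IsMap F P f → ∀ x ∈ P, x ∈ F.center → f x = x := by
    intro P f hf x hxP hxC
    obtain ⟨g, -, hge, hgC⟩ := (isCentral_iff.1 (isCentral_center (F := F))).2 P f hf
    rw [← hge x hxP]; exact hgC x hxC
  have hCW : F.center ≤ W := fun x hx => by
    have hxS : x ∈ S := (isCentral_center (F := F)).1 hx
    refine Subgroup.mem_inf.2 ⟨hxS, Subgroup.mem_centralizer_iff.2 fun s hs => ?_⟩
    have h := hCfix S (conjF s) (IsMap.conj F le_rfl hs) x hxS hx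
    rw [conjF_apply] at h
    exact mul_inv_eq_iff_eq_mul.1 h
  have hfn : F.IsFullyNormalized Q := ⟨hQS, fun R hR => by
    obtain ⟨f, hf, hfi⟩ := isConj_iff.1 hR
    obtain ⟨g, -, hge, hgQ⟩ := hQext Q f hf
    rw [show R = Q by rw [← hfi]; exact (img_congr fun x hx => (hge x hx).symm).trans hgQ]⟩
  set A := F.autGroup Q with hA
  set T := (autInducedBy S Q).subgroupOf A with hT
  obtain ⟨U, hU⟩ : ∃ U : Sylow p ↥A, (U : Subgroup ↥A) = T := (fullyNormalized_spec hS hF hfn).1.2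
  have hTidx : ¬ p ∣ T.index := hU ▸ U.not_dvd_index
  set V := Subgroup.center ↥Q with hV
  -- automorphisms act on the centre of `Q`
  have hVA : ∀ (a : A) (v : V), ((a : MulAut Q) (v : ↥Q)) ∈ V := fun a v => Subgroup.mem_center_iff.2 fun g => by
    obtain ⟨g, rfl⟩ := (a : MulAut Q).surjective g
    rw [← map_mul, ← map_mul, Subgroup.mem_center_iff.1 v.2 g]
  let act : A → V → V := fun a v => ⟨(a : MulAut Q) (v : ↥Q), hVA a v⟩
  have hactmul : ∀ (a b : A) (v : V), act (a * b) v = act a (act b v) := fun a b v => rfl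
  haveI : Fintype (↥A ⧸ T) := Fintype.ofFinite _
  let tr : V →* V :=
    { toFun := fun v => ∏ q : ↥A ⧸ T, act q.out v
      map_one' := Finset.prod_eq_one fun q _ => Subtype.ext (map_one _)
      map_mul' := fun v w => by
        rw [← Finset.prod_mul_distrib]
        exact Finset.prod_congr rfl fun q _ => Subtype.ext (map_mul _ _ _) }
  have hWQ : W ≤ Q := hZ
  have hWV : ∀ (x : Ω) (hx : x ∈ W), (⟨x, hWQ hx⟩ : ↥Q) ∈ V := fun x hx => Subgroup.mem_center_iff.2 fun g =>
    Subtype.ext (Subgroup.mem_centralizer_iff.1 (Subgroup.mem_inf.1 hx).2 _ (hQS g.2))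
  let ι : ↥W →* V :=
    { toFun := fun x => ⟨⟨x, hWQ x.2⟩, hWV x x.2⟩
      map_one' := rfl
      map_mul' := fun _ _ => rfl }
  have hTfix : ∀ t ∈ T, ∀ x : W, act t (ι x) = ι x := by
    intro t ht x
    obtain ⟨s, hs, hse⟩ := mem_autInducedBy.1 (Subgroup.mem_subgroupOf.1 ht)
    refine Subtype.ext (Subtype.ext ?_)
    show (((t : MulAut Q) ⟨x, hWQ x.2⟩ : ↥Q) : Ω) = x
    rw [← autFun_of_mem _ (hWQ x.2), hse _ (hWQ x.2),
      Subgroup.mem_centralizer_iff.1 (Subgroup.mem_inf.1 x.2).2 s hs, mul_inv_cancel_right]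
  -- the transfer of a point of `W` is fixed
  have htrfix : ∀ (b : A) (x : W), act b (tr (ι x)) = tr (ι x) := by
    intro b x
    let φ : V →* V :=
      { toFun := act b, map_one' := Subtype.ext (map_one _), map_mul' := fun v w => Subtype.ext (map_mul _ _ _) }
    show φ (∏ q : ↥A ⧸ T, act q.out (ι x)) = ∏ q : ↥A ⧸ T, act q.out (ι x)
    rw [map_prod]
    refine Fintype.prod_equiv (MulAction.toPerm b) _ _ fun q => ?_
    show act b (act q.out (ι x)) = act (b • q).out (ι x)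
    obtain ⟨t, ht⟩ := QuotientGroup.mk_out_eq_mul T (b * q.out)
    have hq : b • q = ((b * q.out : ↥A) : ↥A ⧸ T) := by
      conv_lhs => rw [← QuotientGroup.out_eq' q]
      rfl
    rw [hq, ht, ← hactmul, hactmul (b * q.out) (t : ↥A), hTfix _ t.2]
  -- fixed points are central
  have hfixcen : ∀ v : V, (∀ b : A, act b v = v) → ((v : ↥Q) : Ω) ∈ F.center := by
    intro v hv
    refine le_center_of_fixed hS hF (Q := Subgroup.zpowers ((v : ↥Q) : Ω)) (Subgroup.zpowers_le.2 (hQS (v : ↥Q).2)) ?_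
      (Subgroup.mem_zpowers _)
    intro y hy P f hf hyP
    obtain ⟨g, hg, hge, hgQ⟩ := hQext P f hf
    rw [← hge y hyP]
    have hgm := hg.mono (le_sup_right : Q ≤ P ⊔ Q)
    obtain ⟨α, hα, hαe⟩ := exists_aut hgm hgQ
    obtain ⟨i, rfl⟩ := hy
    have hvi : ((v : ↥Q) : Ω) ^ i ∈ Q := Q.zpow_mem (v : ↥Q).2 i
    rw [← hαe _ hvi, autFun_of_mem α hvi]
    have h1 := congrArg (fun w : V => (((w ^ i : V) : ↥Q) : Ω)) (hv ⟨α, hα⟩)
    simp only [act] at h1
    rw [show (⟨((v : ↥Q) : Ω) ^ i, hvi⟩ : ↥Q) = (v : ↥Q) ^ i from rfl, map_zpow]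
    exact h1
  have hcenfix : ∀ (x : W), (x : Ω) ∈ F.center → ∀ b : A, act b (ι x) = ι x := fun x hx b => by
    refine Subtype.ext (Subtype.ext ?_)
    show (((b : MulAut Q) ⟨x, hWQ x.2⟩ : ↥Q) : Ω) = x
    rw [← autFun_of_mem _ (hWQ x.2)]
    exact hCfix Q _ ((mem_autGroup hQS).1 b.2) x (hWQ x.2) hx
  set m := T.index with hm
  have hpow : ∀ x : W, (x : Ω) ∈ F.center → tr (ι x) = ι (x ^ m) := fun x hx => by
    show ∏ q : ↥A ⧸ T, act q.out (ι x) = _
    rw [Finset.prod_congr rfl fun q _ => hcenfix x hx _, Finset.prod_const, Finset.card_univ,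
      ← Nat.card_eq_fintype_card, map_pow]
    rfl
  have hcop : ∀ y : W, m.Coprime (orderOf y) := fun y => by
    obtain ⟨k, hk⟩ := (hS.to_le inf_le_left : IsPGroup p W) y
    obtain ⟨j, -, hj⟩ := (Nat.dvd_prime_pow hp.out).1 (orderOf_dvd_of_pow_eq_one hk)
    rw [hj]
    exact (Nat.coprime_comm.1 (hp.out.coprime_iff_not_dvd.2 hTidx)).pow_right j
  refine ⟨((tr.comp ι).ker).map W.subtype, Subgroup.map_subtype_le _, ?_, le_antisymm (sup_le hCW (Subgroup.map_subtype_le _)) ?_⟩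
  · rw [eq_bot_iff]
    intro z hz
    obtain ⟨hzC, x, hx, rfl⟩ := Subgroup.mem_inf.1 hz
    have h2 : ι (x ^ m) = 1 := (hpow x hzC).symm.trans hx
    obtain ⟨j, hj⟩ := exists_pow_eq_self_of_coprime (hcop x)
    have h3 : x ^ m = 1 := Subtype.ext (congrArg (fun w : V => ((w : ↥Q) : Ω)) h2)
    rw [h3, one_pow] at hj
    rw [Subgroup.mem_bot, ← hj]; rfl
  · intro z hz
    set x : W := ⟨z, hz⟩
    set c := tr (ι x) with hc
    have hcC : ((c : ↥Q) : Ω) ∈ F.center := hfixcen c fun b => htrfix b x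
    set w : W := ⟨((c : ↥Q) : Ω), hCW hcC⟩ with hw
    obtain ⟨j, hj⟩ := exists_pow_eq_self_of_coprime (hcop w)
    have hwj : ((w ^ j : W) : Ω) ∈ F.center := pow_mem hcC j
    have h4 : tr (ι (w ^ j)) = c := by
      rw [hpow _ hwj, ← pow_mul, mul_comm, pow_mul, hj]
      exact Subtype.ext (Subtype.ext rfl)
    have h5 : (w ^ j)⁻¹ * x ∈ (tr.comp ι).ker := by
      rw [MonoidHom.mem_ker, MonoidHom.comp_apply, map_mul, map_inv, map_mul, map_inv, h4, ← hc, inv_mul_cancel]
    have h6 : z = ((w ^ j : W) : Ω) * (((w ^ j)⁻¹ * x : W) : Ω) := by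
      rw [← Subgroup.coe_mul, mul_inv_cancel_left]
    rw [h6]
    exact mul_mem (Subgroup.mem_sup_left hwj) (Subgroup.mem_sup_right ⟨_, h5, rfl⟩)

end CfsgLib.Fus
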