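import Cfsg.Agent.Fus.FusionChain
import Cfsg.Agent.Fus.FunctorCore
import Cfsg.Agent.Fus.Saturation
import Cfsg.Agent.Fus.Alperin

/-!
Control of fusion and transfer by a conjugacy functor together with a central functor.
-/

set_option autoImplicit false
set_option linter.style.haveILetI false

open Cfsg
open scoped commutatorElement

namespace CfsgLib.Glau.CPair

variable {G : Type*} [Group G] [Finite G] {p : ℕ} [hp : Fact p.Prime] {S : Subgroup G}
  {W V : Subgroup G → Subgroup G}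

/-- Every conjugate inside `S` contains its centralizer in `S`. -/
def Cen (S T : Subgroup G) : Prop :=
  T ≤ S ∧ ∀ x : G, cj x T ≤ S → S ⊓ Subgroup.centralizer (cj x T : Set G) ≤ cj x T

omit [Finite G] in
theorem Cen.mono {A U : Subgroup G} (h : Cen S A) (hAU : A ≤ U) (hU : U ≤ S) : Cen S U :=
  ⟨hU, fun x hx z hz => cj_mono x hAU (h.2 x ((cj_mono x hAU).trans hx)
    ⟨hz.1, fun y hy => hz.2 y (cj_mono x hAU hy)⟩)⟩

omit [Finite G] in
theorem Cen.conj {A : Subgroup G} (h : Cen S A) {z : G} (hz : cj z A ≤ S) : Cen S (cj z A) :=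
  ⟨hz, fun x hx => by rw [← cj_mul] at hx ⊢; exact h.2 _ hx⟩

omit [Finite G] in
theorem Cen.center_le {A : Subgroup G} (h : Cen S A) : S ⊓ Subgroup.centralizer (S : Set G) ≤ A := by
  have h1 := h.2 1 (by rw [cj_one]; exact h.1)
  rw [cj_one] at h1
  exact fun z hz => h1 ⟨hz.1, fun y hy => hz.2 y (h.1 hy)⟩

theorem card_lt_norm (hS : IsPGroup p S) {Q B : Subgroup G} (hQS : Q ≤ S) (hne : Q ≠ S) (hB : B ≤ S)
    (hc : Nat.card Q ≤ Nat.card B) : Nat.card Q < Nat.card ↥(S ⊓ Subgroup.normalizer (B : Set G)) := by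
  rcases hB.eq_or_lt with rfl | hlt
  · rw [inf_eq_left.2 Subgroup.le_normalizer]
    exact lt_of_not_ge fun hge => hne (Subgroup.eq_of_le_of_card_ge hQS hge)
  · exact hc.trans_lt (CfsgLib.Fus.card_lt_of_lt inf_le_left (CfsgLib.Fus.lt_normalizerIn hS hlt))

/-- Extremal subgroups as a family. -/
def extFam (p : ℕ) (S : Subgroup G) : Set (Subgroup G) := {T | T ≤ S ∧ Ext p ⊤ S T}

theorem chains (hS : Syl p S ⊤) :
    ∀ A g, g ∈ (⊤ : Subgroup G) → A ≤ S → cj g A ≤ S → Chain ⊤ (extFam p S) A g :=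
  chain_of_family hS (fun U hU => hU.1) fun T hT => by
    obtain ⟨x, hx, hxT, hxe, -⟩ := exists_extremal hS hT
    exact ⟨_, ⟨hxT, hxe⟩, ⟨x, hx, rfl⟩, hxe⟩

/-- An element normalizing an extremal subgroup differs by a centralizing element from one normalizing a centric
subgroup above it. -/
theorem split (hS : Syl p S ⊤) {T : Subgroup G} (hT : T ≤ S) (he : Ext p ⊤ S T) {x : G}
    (hx : x ∈ Subgroup.normalizer (T : Set G)) :
    ∃ T' y, T ≤ T' ∧ Cen S T' ∧ cj y T' = T' ∧ ∀ a ∈ T, y * a * y⁻¹ = x * a * x⁻¹ := by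
  set C := Subgroup.centralizer (T : Set G) with hC
  set R := S ⊓ C with hR
  have hCN : C ≤ Subgroup.normalizer (T : Set G) := Subgroup.centralizer_le_normalizer _
  have hconjC : ∀ z : G, cj z C = Subgroup.centralizer (cj z T : Set G) := fun z => cj_centralizer z T
  have hnorm : Subgroup.normalizer (T : Set G) ≤ Subgroup.normalizer (C : Set G) := fun z hz => by
    rw [mem_normalizer_iff_cj, hconjC, mem_normalizer_iff_cj.1 hz]
  have hRs : Syl p R C := by
    have h0 := he.syl hS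
    rw [top_inf_eq] at h0
    have h1 := h0.inf_normal (N := C) hnorm
    rwa [inf_eq_right.2 hCN, inf_assoc, inf_eq_right.2 hCN] at h1
  have hcen : Cen S (T ⊔ R) := by
    refine ⟨sup_le hT inf_le_left, fun z hz => ?_⟩
    have hz1 : cj z T ≤ S := (cj_mono z le_sup_left).trans hz
    have hle : cj z R ≤ S ⊓ Subgroup.centralizer (cj z T : Set G) :=
      le_inf ((cj_mono z le_sup_right).trans hz) ((cj_mono z inf_le_right).trans (hconjC z).le)
    have heq : cj z R = S ⊓ Subgroup.centralizer (cj z T : Set G) :=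
      Subgroup.eq_of_le_of_card_ge hle ((card_cj z R).symm ▸
        ((hRs.conj z).card_le (le_of_le_of_eq inf_le_right (hconjC z).symm) (hS.pg.to_le inf_le_left)).trans
          (card_cj z R).le)
    intro w hw
    exact cj_mono z (le_sup_right : R ≤ T ⊔ R) (heq.ge ⟨hw.1, fun a ha => hw.2 a (cj_mono z le_sup_left ha)⟩)
  obtain ⟨c, hc, hcle⟩ := hRs.exists_conj_le (Q := cj x R)
    ((cj_mono x inf_le_right).trans (mem_normalizer_iff_cj.1 (hnorm hx)).le) (isPGroup_cj x hRs.pg)
  refine ⟨T ⊔ R, c * x, le_sup_left, hcen, ?_, fun a ha => ?_⟩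
  · rw [cj, Subgroup.map_sup]
    show cj (c * x) T ⊔ cj (c * x) R = T ⊔ R
    rw [cj_mul, mem_normalizer_iff_cj.1 hx, mem_normalizer_iff_cj.1 (hCN hc)]
    congr 1
    refine Subgroup.eq_of_le_of_card_ge ?_ (by rw [card_cj])
    rw [cj_mul]; exact hcle
  · have h1 : x * a * x⁻¹ ∈ T := (Subgroup.mem_normalizer_iff.1 hx a).1 ha
    have h2 := hc _ h1
    calc c * x * a * (c * x)⁻¹ = c * (x * a * x⁻¹) * c⁻¹ := by group
      _ = x * a * x⁻¹ := by rw [← h2]; group

/-- The hypotheses on the two functors. -/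
structure Funs (p : ℕ) (W V : Subgroup G → Subgroup G) : Prop where
  confW : IsConjugacyFunctor p W
  confV : IsConjugacyFunctor p V
  wz : ∀ H : Subgroup G, IsPGroup p ↥H → H ⊓ Subgroup.centralizer (H : Set G) ≤ W H
  vz : ∀ H : Subgroup G, IsPGroup p ↥H → V H ≤ H ⊓ Subgroup.centralizer (H : Set G)
  vmono : ∀ H K : Subgroup G, IsPGroup p ↥H → IsPGroup p ↥K → H ≠ ⊥ → K ≠ ⊥ →
    H ⊓ Subgroup.centralizer (H : Set G) ≤ K ⊓ Subgroup.centralizer (K : Set G) → V H ≤ V K

theorem cent_le (hF : Funs p W V) (hS : Syl p S ⊤) {Q : Subgroup G} (hQ : Q ≤ S) (hQ0 : Q ≠ ⊥)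
    (hZ : S ⊓ Subgroup.centralizer (S : Set G) ≤ Q) :
    Subgroup.centralizer (V Q : Set G) ≤ Subgroup.centralizer (V S : Set G) :=
  Subgroup.centralizer_le (hF.vmono S Q hS.pg (hS.pg.to_le hQ) (fun h => hQ0 (le_bot_iff.1 (h ▸ hQ))) hQ0
    (le_inf hZ fun _ hz y hy => hz.2 y (hQ hy)))

/-- Every centre of `S` lies in the conjugate of the functor value at a centric subgroup. -/
theorem center_le_functor (hF : Funs p W V) (hS : Syl p S ⊤) {Q : Subgroup G} {g : G} (hQ : Cen S Q)
    (hg : cj g Q ≤ S) : S ⊓ Subgroup.centralizer (S : Set G) ≤ cj g (W Q) := by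
  intro z hz
  have hzQ : z ∈ cj g Q := (hQ.conj hg).center_le hz
  rw [mem_cj] at hzQ ⊢
  refine hF.wz Q (hS.pg.to_le hQ.1) ⟨hzQ, fun q hq => ?_⟩
  have h1 := hz.2 (g * q * g⁻¹) (hg (conj_mem_cj hq))
  calc q * (g⁻¹ * z * g) = g⁻¹ * (g * q * g⁻¹ * z) * g := by group
    _ = g⁻¹ * z * g * q := by rw [h1]; group

/-- The two controlling subgroups. -/
def pairN (W V : Subgroup G → Subgroup G) (S : Subgroup G) : Set (Subgroup G) :=
  {Subgroup.normalizer (W S : Set G), Subgroup.centralizer (V S : Set G)}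

/-- The two controlling subgroups inside `M`. -/
def locN (W V : Subgroup G → Subgroup G) (Q M : Subgroup G) : Set (Subgroup G) :=
  {M ⊓ Subgroup.normalizer (W Q : Set G), M ⊓ Subgroup.centralizer (V Q : Set G)}

/-- Local control of fusion at subgroups over the centre gives global control. -/
theorem fusion_global (hS : Syl p S ⊤) (hF : Funs p W V)
    (hloc : ∀ T ≤ S, S ⊓ Subgroup.centralizer (S : Set G) ≤ T → Ext p ⊤ S T →
      ∀ B ≤ S ⊓ Subgroup.normalizer (T : Set G), ∀ x ∈ Subgroup.normalizer (T : Set G),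
        cj x B ≤ S ⊓ Subgroup.normalizer (T : Set G) →
        Reach (S ⊓ Subgroup.normalizer (T : Set G))
          (locN W V (S ⊓ Subgroup.normalizer (T : Set G)) (Subgroup.normalizer (T : Set G))) B x)
    {B : Subgroup G} (hB : B ≤ S) {g : G} (hgB : cj g B ≤ S) : Reach S (pairN W V S) B g := by
  let Z := S ⊓ Subgroup.centralizer (S : Set G)
  suffices key : ∀ (n : ℕ) (T : Subgroup G), Nat.card S - Nat.card ↥(S ⊓ Subgroup.normalizer (T : Set G)) = n →
      T ∈ extFam p S → Z ≤ T → Cen S (S ⊓ Subgroup.normalizer (T : Set G)) →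
      ∀ B ≤ S ⊓ Subgroup.normalizer (T : Set G), ∀ x ∈ Subgroup.normalizer (T : Set G),
        cj x B ≤ S ⊓ Subgroup.normalizer (T : Set G) → Reach S (pairN W V S) B x by
    have h2 : ∀ A w, Chain ⊤ (extFam p S) A w → Cen S A → Reach S (pairN W V S) A w := by
      intro A w hc
      induction hc with
      | one A => intro hA; exact Reach.refl hA.1 fun a _ => by group
      | @step A U z w hU hz hAU _ ih2 =>
        intro hA
        have hz' := mem_normalizer_iff_cj.1 hz.2
        have hA' : cj z A ≤ S := (cj_mono z hAU).trans (hz'.le.trans hU.1)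
        have hCU := hA.mono hAU hU.1
        refine Reach.trans ?_ (ih2 (hA.conj hA'))
        exact key _ U rfl hU hCU.center_le (hCU.mono (le_inf hU.1 Subgroup.le_normalizer) inf_le_left) A
          (le_inf hA.1 (hAU.trans Subgroup.le_normalizer)) z hz.2
          (le_inf hA' ((cj_mono z hAU).trans (hz'.le.trans Subgroup.le_normalizer)))
    have hc := chains hS B g trivial hB hgB
    clear hgB
    induction hc with
    | one A => exact Reach.refl hB fun a _ => by group
    | @step A T x g hT hx hA hc ih =>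
      have hxA : cj x A ≤ S := (cj_mono x hA).trans ((mem_normalizer_iff_cj.1 hx.2).le.trans hT.1)
      refine Reach.trans ?_ (ih hxA)
      obtain ⟨T', y, hTT', hcen, hy, hagree⟩ := split hS hT.1 hT.2 hx.2
      exact ((h2 T' y (chains hS T' y trivial hcen.1 (hy.le.trans hcen.1)) hcen).mono (hA.trans hTT')).congr
        fun a ha => hagree a (hA ha)
  intro n
  induction n using Nat.strong_induction_on with
  | _ n ih =>
  intro T hn hT hZT hcenQ B₀ hB₀ x₀ hx₀ hx₀B
  set Q := S ⊓ Subgroup.normalizer (T : Set G) with hQ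
  have hQp : IsPGroup p Q := hS.pg.to_le inf_le_left
  by_cases hQ0 : Q = ⊥
  · refine Reach.refl (hB₀.trans inf_le_left) fun a ha => ?_
    rw [show a = 1 from Subgroup.mem_bot.1 (hQ0 ▸ hB₀ ha)]; simp
  refine (hloc T hT.1 hZT hT.2 B₀ hB₀ x₀ hx₀ hx₀B).refine inf_le_left ?_
  rintro N (rfl | rfl) B hB y hy hyB
  swap
  · exact Reach.single (Set.mem_insert_of_mem _ rfl)
      (cent_le hF hS inf_le_left hQ0 hcenQ.center_le hy.2) (hB.trans inf_le_left) (hyB.trans inf_le_left)
  by_cases hQS : Q = S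
  · exact Reach.single (Set.mem_insert _ _) (hQS ▸ hy.2) (hB.trans inf_le_left) (hyB.trans inf_le_left)
  obtain ⟨g, -, hgT, hge, hgN⟩ := exists_extremal hS ((hF.confW Q hQp).1.trans inf_le_left : W Q ≤ S)
  have hQW : Q ≤ S ⊓ Subgroup.normalizer (W Q : Set G) :=
    le_inf inf_le_left (Subgroup.le_normalizer.trans (functor_normalizer hF.confW hQp))
  have hgQ : cj g Q ≤ S := (cj_mono g hQW).trans (hgN.trans inf_le_left)
  have hcgQ := hcenQ.conj hgQ
  have h2 : ∀ A w, Chain ⊤ (extFam p S) A w → Nat.card Q ≤ Nat.card A → Cen S A → Reach S (pairN W V S) A w := by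
    intro A w hc
    induction hc with
    | one A => intro _ hA; exact Reach.refl hA.1 fun a _ => by group
    | @step A U z w hU hz hAU _ ih2 =>
      intro hcA hA
      have hz' := mem_normalizer_iff_cj.1 hz.2
      have hA' : cj z A ≤ S := (cj_mono z hAU).trans (hz'.le.trans hU.1)
      have hCU := hA.mono hAU hU.1
      refine Reach.trans ?_ (ih2 ((card_cj z A).symm ▸ hcA) (hA.conj hA'))
      refine ih _ ?_ U rfl hU hCU.center_le (hCU.mono (le_inf hU.1 Subgroup.le_normalizer) inf_le_left) A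
        (le_inf hA.1 (hAU.trans Subgroup.le_normalizer)) z hz.2
        (le_inf hA' ((cj_mono z hAU).trans (hz'.le.trans Subgroup.le_normalizer)))
      have a1 := card_lt_norm hS.pg inf_le_left hQS hU.1 (hcA.trans (Subgroup.card_le_of_le hAU))
      have a3 := Subgroup.card_le_of_le (inf_le_left : S ⊓ Subgroup.normalizer (U : Set G) ≤ S)
      have a0 : Nat.card ↥(S ⊓ Subgroup.normalizer (T : Set G)) = Nat.card Q := rfl
      omega
  have r1 : Reach S (pairN W V S) Q g := h2 Q g (chains hS Q g trivial inf_le_left hgQ) le_rfl hcenQ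
  have r3 : Reach S (pairN W V S) (cj g Q) g⁻¹ :=
    h2 _ _ (chains hS _ _ trivial hgQ (by rw [cj_inv_cj]; exact inf_le_left)) (card_cj g Q).ge hcgQ
  set U := cj g (W Q) with hU
  have hgy : g * y * g⁻¹ ∈ Subgroup.normalizer (U : Set G) := by
    rw [mem_normalizer_iff_cj, hU, cj_mul, cj_mul, cj_inv_cj, mem_normalizer_iff_cj.1 hy.2]
  have hQU : cj g Q ≤ S ⊓ Subgroup.normalizer (U : Set G) := (cj_mono g hQW).trans hgN
  have him : cj (g * y * g⁻¹) (cj g B) = cj g (cj y B) := by rw [← cj_mul, ← cj_mul]; congr 1; group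
  have r2 : Reach S (pairN W V S) (cj g B) (g * y * g⁻¹) := by
    refine ih _ ?_ U rfl ⟨hgT, hge⟩ (center_le_functor hF hS hcenQ hgQ) (hcgQ.mono hQU inf_le_left) (cj g B)
      ((cj_mono g hB).trans hQU) _ hgy (him.le.trans ((cj_mono g hyB).trans hQU))
    have a1 := card_lt_norm hS.pg inf_le_left hQS inf_le_left (le_refl (Nat.card Q))
    have a2 : Nat.card ↥(S ⊓ Subgroup.normalizer (Q : Set G)) ≤
        Nat.card ↥(S ⊓ Subgroup.normalizer (U : Set G)) := by
      rw [← card_cj g (S ⊓ Subgroup.normalizer (Q : Set G))]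
      exact Subgroup.card_le_of_le ((cj_mono g (inf_le_inf_left _
        (functor_normalizer hF.confW hQp))).trans hgN)
    have a3 := Subgroup.card_le_of_le (inf_le_left : S ⊓ Subgroup.normalizer (U : Set G) ≤ S)
    have a0 : Nat.card ↥(S ⊓ Subgroup.normalizer (T : Set G)) = Nat.card Q := rfl
    have a00 : Nat.card ↥(S ⊓ Subgroup.normalizer ((S ⊓ Subgroup.normalizer (T : Set G) : Subgroup G) : Set G)) = Nat.card ↥(S ⊓ Subgroup.normalizer (Q : Set G)) := rfl
    omega
  have r12 := (r1.mono hB).trans r2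
  have r := r12.trans ((r3.mono (B := cj (g * y * g⁻¹ * g) B) (by
    rw [show g * y * g⁻¹ * g = g * y by group, cj_mul]; exact cj_mono g hyB)))
  rwa [show g⁻¹ * (g * y * g⁻¹ * g) = y by group] at r

/-- The transfer subgroup at `S`. -/
def pairR (W V : Subgroup G → Subgroup G) (S : Subgroup G) : Subgroup G :=
  S ⊓ ⁅Subgroup.normalizer (W S : Set G), Subgroup.normalizer (W S : Set G)⁆ ⊔
    S ⊓ ⁅Subgroup.centralizer (V S : Set G), Subgroup.centralizer (V S : Set G)⁆

/-- Local control of transfer at subgroups over the centre gives global control. -/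
theorem transfer_global (hS : Syl p S ⊤) (hF : Funs p W V)
    (hloc : ∀ T ≤ S, S ⊓ Subgroup.centralizer (S : Set G) ≤ T → Ext p ⊤ S T →
      ∀ Q, Q = S ⊓ Subgroup.normalizer (T : Set G) → ∀ M, M = Subgroup.normalizer (T : Set G) →
        Q ⊓ ⁅M, M⁆ ≤ Q ⊓ ⁅M ⊓ Subgroup.normalizer (W Q : Set G), M ⊓ Subgroup.normalizer (W Q : Set G)⁆ ⊔
          Q ⊓ ⁅M ⊓ Subgroup.centralizer (V Q : Set G), M ⊓ Subgroup.centralizer (V Q : Set G)⁆) :
    S ⊓ commutator G ≤ pairR W V S := by
  let Z := S ⊓ Subgroup.centralizer (S : Set G)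
  set R := pairR W V S with hR
  suffices key : ∀ (n : ℕ) (T : Subgroup G), Nat.card S - Nat.card ↥(S ⊓ Subgroup.normalizer (T : Set G)) = n →
      T ∈ extFam p S → Z ≤ T → Cen S (S ⊓ Subgroup.normalizer (T : Set G)) →
      (S ⊓ Subgroup.normalizer (T : Set G)) ⊓
        ⁅Subgroup.normalizer (T : Set G), Subgroup.normalizer (T : Set G)⁆ ≤ R by
    have h2 : ∀ A w, Chain ⊤ (extFam p S) A w → Cen S A → ∀ x ∈ A, x⁻¹ * (w * x * w⁻¹) ∈ R := by
      intro A w hc
      induction hc with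
      | one A => intro _ x _; simp
      | @step A U y w hU hy hAU _ ih2 =>
        intro hA x hx
        have hy' := mem_normalizer_iff_cj.1 hy.2
        have hA' : cj y A ≤ S := (cj_mono y hAU).trans (hy'.le.trans hU.1)
        have hCU := hA.mono hAU hU.1
        have s1 := ih2 (hA.conj hA') _ (conj_mem_cj hx)
        have hyx : y * x * y⁻¹ ∈ U := (Subgroup.mem_normalizer_iff.1 hy.2 x).1 (hAU hx)
        have hxU : x⁻¹ * (y * x * y⁻¹) ∈ U := U.mul_mem (U.inv_mem (hAU hx)) hyx
        have s2 : x⁻¹ * (y * x * y⁻¹) ∈ R := by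
          refine key _ U rfl hU hCU.center_le (hCU.mono (le_inf hU.1 Subgroup.le_normalizer) inf_le_left)
            ⟨⟨hU.1 hxU, Subgroup.le_normalizer hxU⟩, ?_⟩
          rw [show x⁻¹ * (y * x * y⁻¹) = ⁅x⁻¹, y⁆ by rw [commutatorElement_def]; group]
          exact Subgroup.commutator_mem_commutator (inv_mem (Subgroup.le_normalizer (hAU hx))) hy.2
        have := R.mul_mem s2 s1
        simpa [mul_assoc] using this
    rw [commutator_def]
    refine focal_of_chain hS (chains hS) fun T hT y hy x hx => ?_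
    obtain ⟨T', y', hTT', hcen, hy', hagree⟩ := split hS hT.1 hT.2 hy.2
    rw [← hagree x hx]
    exact h2 T' y' (chains hS T' y' trivial hcen.1 (hy'.le.trans hcen.1)) hcen x (hTT' hx)
  intro n
  induction n using Nat.strong_induction_on with
  | _ n ih =>
  intro T hn hT hZT hcenQ
  refine (hloc T hT.1 hZT hT.2 _ rfl _ rfl).trans (sup_le ?_ ?_)
  swap
  · by_cases hQ0 : S ⊓ Subgroup.normalizer (T : Set G) = ⊥
    · exact inf_le_left.trans (hQ0.le.trans bot_le)
    have hle := cent_le hF hS inf_le_left hQ0 hcenQ.center_le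
    exact le_trans (inf_le_inf inf_le_left (Subgroup.commutator_mono (inf_le_right.trans hle)
      (inf_le_right.trans hle))) le_sup_right
  set Q := S ⊓ Subgroup.normalizer (T : Set G) with hQ
  have hQp : IsPGroup p Q := hS.pg.to_le inf_le_left
  by_cases hQS : Q = S
  · rw [hQS]
    exact le_trans (inf_le_inf le_rfl (Subgroup.commutator_mono inf_le_right inf_le_right)) le_sup_left
  obtain ⟨g, -, hgT, hge, hgN⟩ := exists_extremal hS ((hF.confW Q hQp).1.trans inf_le_left : W Q ≤ S)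
  have hQW : Q ≤ S ⊓ Subgroup.normalizer (W Q : Set G) :=
    le_inf inf_le_left (Subgroup.le_normalizer.trans (functor_normalizer hF.confW hQp))
  have hgQ : cj g Q ≤ S := (cj_mono g hQW).trans (hgN.trans inf_le_left)
  intro z hz
  have h1 : g * z * g⁻¹ ∈ R := by
    refine ih _ ?_ (cj g (W Q)) rfl ⟨hgT, hge⟩ (center_le_functor hF hS hcenQ hgQ)
      ((hcenQ.conj hgQ).mono ((cj_mono g hQW).trans hgN) inf_le_left) ⟨hgN (conj_mem_cj (hQW hz.1)), ?_⟩
    · have a1 := card_lt_norm hS.pg inf_le_left hQS inf_le_left (le_refl (Nat.card Q))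
      have a2 : Nat.card ↥(S ⊓ Subgroup.normalizer (Q : Set G)) ≤
          Nat.card ↥(S ⊓ Subgroup.normalizer (cj g (W Q) : Set G)) := by
        rw [← card_cj g (S ⊓ Subgroup.normalizer (Q : Set G))]
        exact Subgroup.card_le_of_le ((cj_mono g (inf_le_inf_left _
          (functor_normalizer hF.confW hQp))).trans hgN)
      have a3 := Subgroup.card_le_of_le
        (inf_le_left : S ⊓ Subgroup.normalizer (cj g (W Q) : Set G) ≤ S)
      have a0 : Nat.card ↥(S ⊓ Subgroup.normalizer (T : Set G)) = Nat.card Q := rfl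
      have a00 : Nat.card ↥(S ⊓ Subgroup.normalizer ((S ⊓ Subgroup.normalizer (T : Set G) : Subgroup G) : Set G)) = Nat.card ↥(S ⊓ Subgroup.normalizer (Q : Set G)) := rfl
      omega
    · have := conj_mem_cj (g := g) (Subgroup.commutator_mono inf_le_right inf_le_right hz.2)
      rwa [cj_commutator, cj_normalizer] at this
  have h2 : ∀ A w, Chain ⊤ (extFam p S) A w → Nat.card Q ≤ Nat.card A → Cen S A → ∀ x ∈ A,
      x⁻¹ * (w * x * w⁻¹) ∈ R := by
    intro A w hc
    induction hc with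
    | one A => intro _ _ x _; simp
    | @step A U y w hU hy hAU _ ih2 =>
      intro hcA hA x hx
      have hy' := mem_normalizer_iff_cj.1 hy.2
      have hA' : cj y A ≤ S := (cj_mono y hAU).trans (hy'.le.trans hU.1)
      have hCU := hA.mono hAU hU.1
      have s1 := ih2 ((card_cj y A).symm ▸ hcA) (hA.conj hA') _ (conj_mem_cj hx)
      have hyx : y * x * y⁻¹ ∈ U := (Subgroup.mem_normalizer_iff.1 hy.2 x).1 (hAU hx)
      have hxU : x⁻¹ * (y * x * y⁻¹) ∈ U := U.mul_mem (U.inv_mem (hAU hx)) hyx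
      have s2 : x⁻¹ * (y * x * y⁻¹) ∈ R := by
        refine ih _ ?_ U rfl hU hCU.center_le (hCU.mono (le_inf hU.1 Subgroup.le_normalizer) inf_le_left)
          ⟨⟨hU.1 hxU, Subgroup.le_normalizer hxU⟩, ?_⟩
        · have a1 := card_lt_norm hS.pg inf_le_left hQS hU.1 (hcA.trans (Subgroup.card_le_of_le hAU))
          have a3 := Subgroup.card_le_of_le (inf_le_left : S ⊓ Subgroup.normalizer (U : Set G) ≤ S)
          have a0 : Nat.card ↥(S ⊓ Subgroup.normalizer (T : Set G)) = Nat.card Q := rfl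
          omega
        · rw [show x⁻¹ * (y * x * y⁻¹) = ⁅x⁻¹, y⁆ by rw [commutatorElement_def]; group]
          exact Subgroup.commutator_mem_commutator (inv_mem (Subgroup.le_normalizer (hAU hx))) hy.2
      have := R.mul_mem s2 s1
      simpa [mul_assoc] using this
  have h3 := h2 Q g (chains hS Q g trivial inf_le_left hgQ) le_rfl hcenQ z hz.1
  have := R.mul_mem h1 (R.inv_mem h3)
  simpa [mul_assoc] using this

/-- The transfer subgroup is the product of its two parts. -/
theorem mem_pairR (hS : Syl p S ⊤) (hF : Funs p W V) {x : G} (hx : x ∈ pairR W V S) :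
    ∃ a ∈ S ⊓ ⁅Subgroup.normalizer (W S : Set G), Subgroup.normalizer (W S : Set G)⁆,
      ∃ b ∈ S ⊓ ⁅Subgroup.centralizer (V S : Set G), Subgroup.centralizer (V S : Set G)⁆, x = a * b := by
  have hsub : S ⊓ ⁅Subgroup.normalizer (W S : Set G), Subgroup.normalizer (W S : Set G)⁆ ≤
      Subgroup.normalizer ((S ⊓ ⁅Subgroup.centralizer (V S : Set G), Subgroup.centralizer (V S : Set G)⁆ :
        Subgroup G) : Set G) := by
    intro s hs
    rw [mem_normalizer_iff_cj, cj_inf, cj_eq_of_mem hs.1, cj_commutator, cj_centralizer,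
      mem_normalizer_iff_cj.1 (functor_normalizer hF.confV hS.pg (Subgroup.le_normalizer hs.1))]
  have h := Subgroup.coe_mul_of_left_le_normalizer_right _ _ hsub
  have hx' : x ∈ ((pairR W V S : Subgroup G) : Set G) := hx
  rw [pairR, h, Set.mem_mul] at hx'
  obtain ⟨a, ha, b, hb, rfl⟩ := hx'
  exact ⟨a, ha, b, hb, rfl⟩

/-- Move local control of fusion to the given Sylow subgroup of the local subgroup. -/
theorem loc_conj (hF : Funs p W V) {M Q Q' : Subgroup G} (hQ : Syl p Q M) (hQ' : Syl p Q' M)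
    (h : ∀ B ≤ Q, ∀ x ∈ M, cj x B ≤ Q → Reach Q (locN W V Q M) B x) :
    ∀ B ≤ Q', ∀ x ∈ M, cj x B ≤ Q' → Reach Q' (locN W V Q' M) B x := by
  obtain ⟨y, hy, hyS⟩ := hQ.exists_conj_le hQ'.le hQ'.pg
  have hyT : cj y Q' = Q := Subgroup.eq_of_le_of_card_ge hyS (by rw [card_cj, hQ'.card, hQ.card])
  have hST : cj y⁻¹ Q = Q' := by rw [← hyT, cj_inv_cj]
  intro B hB g hg hgB
  have h1 := h (cj y B) (hyT ▸ cj_mono y hB) (y * g * y⁻¹) (M.mul_mem (M.mul_mem hy hg) (M.inv_mem hy)) (by
    rw [← cj_mul, show y * g * y⁻¹ * y = y * g by group, cj_mul, ← hyT]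
    exact cj_mono y hgB)
  have h2 := h1.map (MulAut.conj y⁻¹).toMonoidHom
  have e1 : Q.map (MulAut.conj y⁻¹).toMonoidHom = Q' := hST
  have e2 : (cj y B).map (MulAut.conj y⁻¹).toMonoidHom = B := cj_inv_cj y B
  have e3 : (MulAut.conj y⁻¹).toMonoidHom (y * g * y⁻¹) = g := by simp [mul_assoc]
  rw [e1, e2, e3] at h2
  refine h2.mono_family ?_
  rintro _ ⟨N, (rfl | rfl), rfl⟩
  · refine ⟨_, Set.mem_insert _ _, le_of_eq ?_⟩
    show cj y⁻¹ (M ⊓ Subgroup.normalizer (W Q : Set G)) = M ⊓ Subgroup.normalizer (W Q' : Set G)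
    rw [cj_inf, cj_eq_of_mem (M.inv_mem hy), cj_normalizer,
      show cj y⁻¹ (W Q) = W Q' from hST ▸ ((hF.confW Q hQ.pg).2.2 y⁻¹).symm]
  · refine ⟨_, Set.mem_insert_of_mem _ rfl, le_of_eq ?_⟩
    show cj y⁻¹ (M ⊓ Subgroup.centralizer (V Q : Set G)) = M ⊓ Subgroup.centralizer (V Q' : Set G)
    rw [cj_inf, cj_eq_of_mem (M.inv_mem hy), cj_centralizer,
      show cj y⁻¹ (V Q) = V Q' from hST ▸ ((hF.confV Q hQ.pg).2.2 y⁻¹).symm]

/-- A list of steps as in the statement gives a chain. -/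
theorem reach_of_list {Q : Subgroup G} {𝒩 : Set (Subgroup G)} {B : Subgroup G} (hB : B ≤ Q) {a c : G}
    (hc : c ∈ Subgroup.centralizer (B : Set G)) {n : ℕ} {b : Fin n → G}
    (hb : ∀ i, ∃ N ∈ 𝒩, b i ∈ N) (ha : a = c * (List.ofFn b).prod)
    (hin : ∀ k, k ≤ n → cj (((List.ofFn b).take k).prod)⁻¹ B ≤ Q) : Reach Q 𝒩 B a⁻¹ := by
  have key : ∀ k, k ≤ n → Reach Q 𝒩 B (((List.ofFn b).take k).prod)⁻¹ := by
    intro k
    induction k with
    | zero => intro _; exact Reach.refl hB fun y _ => by simp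
    | succ k ih =>
      intro hk
      have h1 := ih (by omega)
      obtain ⟨N, hN, hbN⟩ := hb ⟨k, by omega⟩
      have hp1 : ((List.ofFn b).take (k + 1)).prod = ((List.ofFn b).take k).prod * b ⟨k, by omega⟩ := by
        rw [List.prod_take_succ _ _ (by simpa using hk), List.getElem_ofFn]
      rw [hp1, mul_inv_rev]
      refine h1.trans (Reach.single hN (N.inv_mem hbN) (hin k (by omega)) ?_)
      rw [← cj_mul, ← mul_inv_rev, ← hp1]
      exact hin (k + 1) hk
  refine (key n le_rfl).congr fun y hy => ?_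
  have h2 : c⁻¹ * y * c = y := by rw [mul_assoc, hc y hy]; group
  rw [List.take_of_length_le (by simp), ha]
  calc (List.ofFn b).prod⁻¹ * y * (List.ofFn b).prod⁻¹⁻¹ = (List.ofFn b).prod⁻¹ * (c⁻¹ * y * c) * (List.ofFn b).prod := by
        rw [h2, inv_inv]
    _ = _ := by group

/-- A chain as a list of steps. -/
theorem list_of_chain {Q : Subgroup G} {𝒩 : Set (Subgroup G)} {B : Subgroup G} {k : G} (h : FChain Q 𝒩 B k) :
    ∃ (n : ℕ) (b : Fin n → G), (∀ i, ∃ N ∈ 𝒩, b i ∈ N) ∧ (List.ofFn b).prod = k⁻¹ ∧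
      ∀ j, j ≤ n → cj (((List.ofFn b).take j).prod)⁻¹ B ≤ Q := by
  induction h with
  | one hA =>
    refine ⟨0, Fin.elim0, fun i => i.elim0, by simp, fun j _ => ?_⟩
    rw [List.ofFn_zero, List.take_nil, List.prod_nil, inv_one, cj_one]; exact hA
  | @step A N x g hN hx hA _ ih =>
    obtain ⟨n, b, hb, hprod, hin⟩ := ih
    refine ⟨n + 1, Fin.cons x⁻¹ b, fun i => ?_, by simp [hprod], fun j hj => ?_⟩
    · refine Fin.cases ?_ (fun i => ?_) i
      · exact ⟨N, hN, by simpa using N.inv_mem hx⟩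
      · simpa using hb i
    · cases j with
      | zero => simpa [cj_one] using hA
      | succ j =>
        rw [List.ofFn_succ, List.take_succ_cons, List.prod_cons]
        simp only [Fin.cons_zero, Fin.cons_succ, mul_inv_rev, inv_inv]
        rw [cj_mul]
        exact hin j (by omega)

end CfsgLib.Glau.CPair
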