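import Cfsg.Agent.Fus.SystemMaps
import Cfsg.Agent.Fus.Saturation
import Cfsg.Agent.Fus.NormalizerSystem
import Cfsg.Agent.Fus.Normal

/-!
A saturated system is determined by the centralizer systems of its subgroups of prime order.
-/

set_option autoImplicit false
set_option linter.style.haveILetI false

open Cfsg Cfsg.FusionSystem

namespace CfsgLib.Fus.CentControl

variable {Ω : Type*} [Group Ω] {S : Subgroup Ω} {F F' : FusionSystem S} {p : ℕ}

/-- A map onto a receptive subgroup extends to the centralizer. -/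
theorem extend_centralizer {Z : Subgroup Ω} (hZ : F.IsReceptive Z) {W : Subgroup Ω} {f : Ω → Ω}
    (hf : IsMap F W f) (hi : img f W = Z) :
    ∃ g, IsMap F (W ⊔ centralizerIn S W) g ∧ (∀ x ∈ W, g x = f x) ∧
      ∀ x ∈ centralizerIn S W, g x ∈ centralizerIn S Z := by
  obtain ⟨g, hg, he⟩ := extend hZ hf hi (N := centralizerIn S W) fun x hx =>
    ⟨hx.1, Subgroup.centralizer_le_normalizer _ hx.2, 1, S.one_mem, fun y hy => by
      rw [one_mul, inv_one, mul_one, ← hx.2 y hy, mul_inv_cancel_right]⟩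
  refine ⟨g, hg, he, fun x hx => ?_⟩
  rw [← hi, ← img_congr he]
  exact hg.map_centralizerIn le_sup_left (le_sup_right (a := W) hx) hx.2

theorem eq_of_centralizers [Finite S] [hp : Fact p.Prime] (hS : IsPGroup p S) (hF' : F'.IsSaturated p)
    (hle : F' ≤ F) (hZ : ∀ Z : Subgroup Ω, Z ≤ S → Nat.card Z = p → F'.IsFullyCentralized Z →
      F.Hom Z = F'.Hom Z ∧ ∀ (C C' : FusionSystem (centralizerIn S Z)), F.IsCentralizerSystem Z C →
        F'.IsCentralizerSystem Z C' → ∀ P : Subgroup Ω, C.Hom P = C'.Hom P) :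
    ∀ P f, IsMap F P f → IsMap F' P f := by
  intro P f hf
  have hPS := hf.le
  rcases eq_or_ne P ⊥ with rfl | hne
  · exact (IsMap.id' F' bot_le).congr fun x hx => by
      rw [Subgroup.mem_bot] at hx
      subst hx
      exact hf.map_one.symm
  haveI := finite_of_le hPS
  have hPp : IsPGroup p P := hS.to_le hPS
  haveI : Nontrivial P := (Subgroup.nontrivial_iff_ne_bot P).2 hne
  haveI := hPp.center_nontrivial
  obtain ⟨z, hz, hzp⟩ : ∃ z : P, z ∈ Subgroup.center P ∧ orderOf z = p := by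
    obtain ⟨k, hk, hk'⟩ := (hPp.to_subgroup (Subgroup.center P)).nontrivial_iff_card.1 inferInstance
    obtain ⟨z, hz⟩ := exists_prime_orderOf_dvd_card' (G := Subgroup.center P) p
      (by rw [hk']; exact dvd_pow_self p hk.ne')
    exact ⟨z, z.2, by rw [Subgroup.orderOf_coe]; exact hz⟩
  set Z := Subgroup.zpowers (z : Ω) with hZdef
  have hZP : Z ≤ P := Subgroup.zpowers_le.2 z.2
  have hZc : ∀ x ∈ Z, ∀ y ∈ P, x * y = y * x := by
    rintro x ⟨k, rfl⟩ y hy
    exact (Commute.zpow_left (congrArg Subtype.val ((Subgroup.mem_center_iff.1 hz) ⟨y, hy⟩).symm :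
      (z : Ω) * y = y * z) k)
  have hPC : P ≤ centralizerIn S Z := fun y hy => ⟨hPS hy, fun x hx => hZc x hx y hy⟩
  have hZcard : Nat.card Z = p := by rw [hZdef, Nat.card_zpowers, Subgroup.orderOf_coe, hzp]
  obtain ⟨Z0, hc0, hZ0⟩ := exists_fullyCentralized (F := F') (hZP.trans hPS)
  obtain ⟨u, hu, hui⟩ := isConj_iff.1 hc0
  obtain ⟨g, hg, hge, hgC⟩ := extend_centralizer (receptive_of_fullyCentralized hS hF' hZ0) hu hui
  have hgP : IsMap F' P g := hg.mono (hPC.trans le_sup_right)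
  obtain ⟨g', hg', hg'g, hgg', hg'i⟩ := hgP.inv
  have hgZ : img g Z = Z0 := (img_congr hge).trans hui
  have hZ0P : Z0 ≤ img g P := hgZ ▸ img_mono hZP
  have hP1C : img g P ≤ centralizerIn S Z0 := img_le_iff.2 fun x hx => hgC x (hPC hx)
  have hZ0card : Nat.card Z0 = p := (card_eq_of_isConj hc0).trans hZcard
  obtain ⟨hhom, hsys⟩ := hZ Z0 hZ0.1 hZ0card hZ0
  have hf1 : IsMap F (img g P) (f ∘ g') :=
    (isSubsystemOf_iff.1 hle _ _ hg').comp hf fun x hx => hg'.mem_of_img_eq hg'i hx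
  obtain ⟨φ, hφ, hφe⟩ := hf1.mono hZ0P
  rw [hhom] at hφ
  have hh : IsMap F' Z0 (f ∘ g') := ⟨φ, hφ, hφe⟩
  obtain ⟨h', hh', hh'l, -, hh'i⟩ := hh.inv
  obtain ⟨k, hk, hke, hkC⟩ := extend_centralizer (receptive_of_fullyCentralized hS hF' hZ0) hh' hh'i
  have hf1C : ∀ x ∈ img g P, (f ∘ g') x ∈ centralizerIn S (img (f ∘ g') Z0) := fun x hx =>
    hf1.map_centralizerIn hZ0P hx fun y hy => ((hP1C hx).2 y hy)
  have hcomp : IsMap F (img g P) (k ∘ (f ∘ g')) :=
    hf1.comp (isSubsystemOf_iff.1 hle _ _ (hk.mono le_sup_right)) hf1C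
  obtain ⟨C, hC⟩ := exists_centralizerSystem F hZ0.1
  obtain ⟨C', hC'⟩ := exists_centralizerSystem F' hZ0.1
  have hCm : IsMap C (img g P) (k ∘ (f ∘ g')) := isMap_centralizerSystem hC hcomp hZ0P
    (fun x hx => by
      rw [Function.comp_apply, hke _ (mem_img_of_mem hx)]
      exact hh'l x hx) hP1C
  obtain ⟨ψ, hψ, hψe⟩ := hCm
  rw [hsys C C' hC hC', hC'] at hψ
  have hcomp' : IsMap F' (img g P) (k ∘ (f ∘ g')) := ⟨ψ, hψ.1, hψe⟩
  obtain ⟨k', hk', hk'k, -, -⟩ := (hk.mono (le_sup_right (a := img (f ∘ g') Z0))).inv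
  have hf1' : IsMap F' (img g P) (f ∘ g') :=
    (hcomp'.comp hk' fun x hx => mem_img_of_mem (hf1C x hx)).congr fun x hx => by
      rw [Function.comp_apply, Function.comp_apply, hk'k _ (hf1C x hx)]
  exact (hgP.comp hf1' fun x hx => mem_img_of_mem hx).congr fun x hx => by
    rw [Function.comp_apply, Function.comp_apply, hg'g x hx]

end CfsgLib.Fus.CentControl
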