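import Mathlib.GroupTheory.Nilpotent
import Mathlib.GroupTheory.QuotientGroup.Defs

/-!
Exponent of a nilpotent group from the exponent of its centre.
-/

set_option autoImplicit false

open scoped commutatorElement

namespace CfsgLib.Fus

/-- If `z ^ e = 1` on the centre then `x ^ e` drops one step in the upper central series. -/
theorem pow_mem_upperCentralSeries {G : Type*} [Group G] {e : ℕ}
    (hz : ∀ z ∈ Subgroup.center G, z ^ e = 1) :
    ∀ i, ∀ x ∈ Subgroup.upperCentralSeries G (i + 1), x ^ e ∈ Subgroup.upperCentralSeries G i := by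
  intro i
  induction i with
  | zero =>
    intro x hx
    rw [Subgroup.upperCentralSeries_zero, Subgroup.mem_bot]
    exact hz x (by rwa [zero_add, Subgroup.upperCentralSeries_one] at hx)
  | succ i ih =>
    intro x hx
    rw [Subgroup.mem_upperCentralSeries_succ_iff]
    intro y
    set N := Subgroup.upperCentralSeries G i
    set c := ⁅x, y⁆ with hcdef
    have hc : c ∈ Subgroup.upperCentralSeries G (i + 1) :=
      (Subgroup.mem_upperCentralSeries_succ_iff.1 hx) y
    let π : G →* G ⧸ N := QuotientGroup.mk' N
    have hcomm : ∀ t, π c * π t = π t * π c := fun t => by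
      have h : π ⁅c, t⁆ = 1 :=
        (QuotientGroup.eq_one_iff _).2 ((Subgroup.mem_upperCentralSeries_succ_iff.1 hc) t)
      rw [commutatorElement_def, map_mul, map_mul, map_mul, map_inv, map_inv, mul_inv_eq_one,
        mul_inv_eq_iff_eq_mul] at h
      exact h
    have hconj : π x * π y * (π x)⁻¹ = π c * π y := by
      rw [hcdef, commutatorElement_def]
      simp only [map_mul, map_inv]
      rw [inv_mul_cancel_right]
    have hk : ∀ k : ℕ, π x ^ k * π y * (π x ^ k)⁻¹ = π c ^ k * π y := by
      intro k
      induction k with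
      | zero => simp
      | succ k ihk =>
        have hx' : π c ^ k * π x = π x * π c ^ k :=
          (Commute.pow_left (show Commute (π c) (π x) from hcomm x) k).eq
        calc π x ^ (k + 1) * π y * (π x ^ (k + 1))⁻¹ = π x * (π x ^ k * π y * (π x ^ k)⁻¹) * (π x)⁻¹ := by
              rw [pow_succ', mul_inv_rev]; simp only [mul_assoc]
          _ = π x * π c ^ k * (π y * (π x)⁻¹) := by rw [ihk]; simp only [mul_assoc]
          _ = π c ^ k * (π x * π y * (π x)⁻¹) := by rw [← hx']; simp only [mul_assoc]
          _ = π c ^ (k + 1) * π y := by rw [hconj, pow_succ, mul_assoc]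
    refine (QuotientGroup.eq_one_iff _).1 ?_
    show π ⁅x ^ e, y⁆ = 1
    have hce : π (c ^ e) = 1 := (QuotientGroup.eq_one_iff _).2 (ih c hc)
    rw [commutatorElement_def, map_mul, map_mul, map_mul, map_inv, map_inv, map_pow, hk e, ← map_pow,
      hce, one_mul, mul_inv_cancel]

/-- A group of class at most `m` whose centre has exponent dividing `e` has exponent dividing
`e ^ m`. -/
theorem pow_eq_one_of_center_exponent {G : Type*} [Group G] {e m : ℕ}
    (hz : ∀ z ∈ Subgroup.center G, z ^ e = 1) (hm : Subgroup.upperCentralSeries G m = ⊤) (x : G) :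
    x ^ e ^ m = 1 := by
  have h : ∀ k, ∀ x ∈ Subgroup.upperCentralSeries G k, x ^ e ^ k = 1 := by
    intro k
    induction k with
    | zero => intro x hx; rw [pow_zero, pow_one]; exact Subgroup.mem_bot.1 hx
    | succ k ih =>
      intro x hx
      rw [pow_succ', pow_mul]
      exact ih _ (pow_mem_upperCentralSeries hz k x hx)
  exact h m x (hm.symm ▸ Subgroup.mem_top x)

end CfsgLib.Fus
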