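import Cfsg.Agent.Fus.ThompsonCentre

/-!
For an odd prime the centre of a saturated system consists of the central elements of `S` fixed by the automizer of
`J(S)`, and it is therefore a direct factor of the centre of `S`.
-/

set_option autoImplicit false
set_option linter.style.haveILetI false

open Cfsg Cfsg.FusionSystem

namespace CfsgLib.Fus

universe u

variable {Ω : Type u} [Group Ω] {S : Subgroup Ω} {F : FusionSystem S} {p : ℕ}

theorem autFun_zpow_mem {P : Subgroup Ω} (α : MulAut P) {x : Ω} (hx : x ∈ P) (n : ℤ) :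
    autFun α (x ^ n) = autFun α x ^ n := by
  have h : x ^ n = (((⟨x, hx⟩ : P) ^ n : P) : Ω) := rfl
  rw [autFun_of_mem α hx, h, autFun_apply, map_zpow, SubgroupClass.coe_zpow]

/-- A central element of `S` fixed by the automorphisms of `J(S)` is fixed by every map. -/
theorem fixed_of_autGroup_thompson [Finite S] [Fact p.Prime] (hS : IsPGroup p S) (hF : F.IsSaturated p)
    (hp : p ≠ 2 ∨ F.IsSectionFree p (Equiv.Perm (Fin 4))) :
    ∀ z ∈ Zc S, (∀ α ∈ F.autGroup (thompsonSubgroupAOf S), autFun α z = z) →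
      ∀ (P : Subgroup Ω) f, IsMap F P f → z ∈ P → f z = z := by
  set J := thompsonSubgroupAOf S with hJ
  have hJS : J ≤ S := thompsonAOf_le S
  haveI := finite_of_le hJS
  have hZJ : Zc S ≤ J := fun z hz =>
    ⟨⟨z, hz.1⟩, center_le_thompsonA (Subgroup.mem_center_iff.2 fun x => Subtype.ext (Zc_comm hz x.2)), rfl⟩
  suffices h : ∀ (k : ℕ), ∀ z ∈ Zc S, z ^ p ^ k = 1 → (∀ α ∈ F.autGroup J, autFun α z = z) →
      ∀ (P : Subgroup Ω) f, IsMap F P f → z ∈ P → f z = z by
    intro z hz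
    obtain ⟨k, hk⟩ := hS ⟨z, hz.1⟩
    exact h k z hz (congrArg Subtype.val hk)
  intro k
  induction k with
  | zero =>
    intro z _ hz _ P f hf _
    rw [pow_zero, pow_one] at hz
    rw [hz]
    exact hf.map_one
  | succ k ih =>
    intro z hz hzk hα
    refine thompsonCentre_fixed hS hF hp hz (fun P f hf hzP => ?_) fun P f hf hJP hfJ hzP => ?_
    · refine ih (z ^ p) (Subgroup.pow_mem _ hz p) (by rw [← pow_mul, ← pow_succ']; exact hzk) (fun α ha => ?_)
        P f hf (P.pow_mem hzP p)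
      rw [← zpow_natCast, autFun_zpow_mem α (hZJ hz), hα α ha]
    · obtain ⟨α, hαA, hαe⟩ := exists_aut (hf.mono hJP) hfJ
      exact (hαe z (hZJ hz)).symm.trans (hα α hαA)

/-- For an odd prime the centre is a direct factor of the centre of `S`. -/
theorem center_direct_factor [Finite S] [Fact p.Prime] (hS : IsPGroup p S) (hF : F.IsSaturated p)
    (hp : p ≠ 2 ∨ F.IsSectionFree p (Equiv.Perm (Fin 4))) :
    ∃ K : Subgroup Ω, K ≤ Zc S ∧ F.center ⊓ K = ⊥ ∧ F.center ⊔ K = Zc S := by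
  classical
  set J := thompsonSubgroupAOf S with hJ
  have hJS : J ≤ S := thompsonAOf_le S
  haveI := finite_of_le hJS
  haveI := finite_mulAut (S := S) hJS
  have hNJ : normalizerIn S J = S := normalizerIn_thompsonA_self
  have hJn : F.IsFullyNormalized J :=
    ⟨hJS, fun R _ => hNJ.symm ▸ Subgroup.card_le_of_le (normalizerIn_le R)⟩
  have hZJ : Zc S ≤ J := fun z hz =>
    ⟨⟨z, hz.1⟩, center_le_thompsonA (Subgroup.mem_center_iff.2 fun x => Subtype.ext (Zc_comm hz x.2)), rfl⟩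
  set H := F.autGroup J with hH
  set P0 := (autInducedBy S J).subgroupOf H with hP0
  have hidx : ¬ p ∣ P0.index := ((fa_iff hS).1 (fullyNormalized_spec hS hF hJn).1).2
  have hZV : Zc S ≤ Zc J := fun z hz => mem_Zc (hZJ hz) fun y hy => Zc_comm hz (hJS hy)
  have hP0fix : ∀ z ∈ Zc S, ∀ α ∈ autInducedBy S J, autFun α z = z := by
    intro z hz α hα
    obtain ⟨s, hs, hse⟩ := mem_autInducedBy.1 hα
    rw [hse z (hZJ hz), Zc_comm hz hs, mul_inv_cancel_right]
  have hHV : ∀ α : ↥H, ∀ v ∈ Zc J, autFun (α : MulAut J) v ∈ Zc J := fun α v hv =>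
    mem_Zc (autFun_mem _ hv.1) fun y hy => by
      rw [← autFun_inv_apply (α : MulAut J) hy, ← autFun_map_mul _ (autFun_mem _ hy) hv.1,
        ← autFun_map_mul _ hv.1 (autFun_mem _ hy)]
      exact congrArg (autFun (α : MulAut J)) (Zc_comm hv (autFun_mem _ hy))
  letI : CommGroup ↥(Zc J) :=
    { (inferInstance : Group ↥(Zc J)) with mul_comm := fun a b => Subtype.ext (Zc_comm b.2 a.2.1) }
  letI : Fintype (↥H ⧸ P0) := Fintype.ofFinite _
  let tr : ↥(Zc S) →* ↥(Zc J) := MonoidHom.mk'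
    (fun z => ∏ q : ↥H ⧸ P0, (⟨autFun ((Quotient.out q : ↥H) : MulAut J) z, hHV _ _ (hZV z.2)⟩ : ↥(Zc J)))
    fun a b => by
      rw [← Finset.prod_mul_distrib]
      exact Finset.prod_congr rfl fun q _ => Subtype.ext (autFun_map_mul _ (hZJ a.2) (hZJ b.2))
  -- the trace is fixed by the automizer
  have htr : ∀ (z : ↥(Zc S)) (α : ↥H), autFun (α : MulAut J) (tr z : Ω) = tr z := by
    intro z α
    let e : ↥(Zc J) →* ↥(Zc J) := MonoidHom.mk' (fun v => ⟨autFun (α : MulAut J) v, hHV α v v.2⟩)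
      fun a b => Subtype.ext (autFun_map_mul _ a.2.1 b.2.1)
    have h : e (tr z) = tr z := by
      show e (∏ q : ↥H ⧸ P0, _) = ∏ q : ↥H ⧸ P0, _
      rw [map_prod]
      refine Fintype.prod_equiv (MulAction.toPerm α) _ _ fun q => Subtype.ext ?_
      show autFun (α : MulAut J) (autFun ((Quotient.out q : ↥H) : MulAut J) (z : Ω)) =
        autFun ((Quotient.out (α • q) : ↥H) : MulAut J) (z : Ω)
      have hmem : (α * Quotient.out q)⁻¹ * Quotient.out (α • q) ∈ P0 := by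
        rw [← QuotientGroup.eq, ← smul_eq_mul, ← MulAction.Quotient.smul_coe, QuotientGroup.out_eq', QuotientGroup.out_eq']
      have hfx : autFun (((α * Quotient.out q)⁻¹ * Quotient.out (α • q) : ↥H) : MulAut J) (z : Ω) = z :=
        hP0fix z z.2 _ hmem
      conv_lhs => rw [← hfx]
      rw [← autFun_mul _ _ (autFun_mem _ (hZJ z.2)), ← autFun_mul _ _ (hZJ z.2)]
      congr 1
      simp [mul_assoc]
    exact congrArg Subtype.val h
  have htrS : ∀ z : ↥(Zc S), (tr z : Ω) ∈ Zc S := by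
    intro z
    refine mem_Zc (hJS (tr z).2.1) fun s hs => ?_
    obtain ⟨γ, hγT, hγ⟩ := exists_autInducedBy (K := S) hs (hNJ.ge hs).2
    have h := htr z ⟨γ, autInducedBy_le_autGroup hJS hγT⟩
    rw [hγ _ (tr z).2.1] at h
    exact mul_inv_eq_iff_eq_mul.1 h
  -- the centre of the system
  have hcen : ∀ x : Ω, x ∈ F.center ↔ x ∈ Zc S ∧ ∀ α ∈ F.autGroup J, autFun α x = x := by
    intro x
    constructor
    · intro hx
      obtain ⟨hcS, hext⟩ := isCentral_iff.1 (isCentral_center (F := F))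
      have fix : ∀ (P : Subgroup Ω) f, IsMap F P f → x ∈ P → f x = x := fun P f hf hxP => by
        obtain ⟨g, -, hge, hgQ⟩ := hext P f hf
        rw [← hge x hxP, hgQ x hx]
      have hxZ : x ∈ Zc S := mem_Zc (hcS hx) fun s hs =>
        mul_inv_eq_iff_eq_mul.1 (fix S (conjF s) (IsMap.conj F le_rfl hs) (hcS hx))
      exact ⟨hxZ, fun α hα => fix J _ ((mem_autGroup hJS).1 hα) (hZJ hxZ)⟩
    · rintro ⟨hx, hfix⟩
      refine le_center_of_fixed hS hF (Q := Subgroup.zpowers x) (Subgroup.zpowers_le.2 hx.1) (fun y hy => ?_)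
        (Subgroup.mem_zpowers x)
      intro P f hf hyP
      refine fixed_of_autGroup_thompson hS hF hp y (Subgroup.zpowers_le.2 hx hy) (fun α hα => ?_) P f hf hyP
      obtain ⟨n, rfl⟩ := hy
      show autFun α (x ^ n) = x ^ n
      rw [autFun_zpow_mem α (hZJ hx), hfix α hα]
  have hcenS : F.center ≤ Zc S := fun x hx => ((hcen x).1 hx).1
  have htrc : ∀ x, ∀ hx : x ∈ F.center, (tr ⟨x, hcenS hx⟩ : Ω) = x ^ P0.index := by
    intro x hx
    have h : tr ⟨x, hcenS hx⟩ = (⟨x, hZV (hcenS hx)⟩ : ↥(Zc J)) ^ P0.index := by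
      show (∏ q : ↥H ⧸ P0, _) = _
      rw [Subgroup.index_eq_card, Nat.card_eq_fintype_card, ← Finset.card_univ, ← Finset.prod_const]
      exact Finset.prod_congr rfl fun q _ => Subtype.ext (((hcen x).1 hx).2 _ (Quotient.out q : ↥H).2)
    rw [h, SubgroupClass.coe_pow]
  have hco : (Nat.card ↥S).Coprime P0.index := by
    obtain ⟨n, hn⟩ := IsPGroup.iff_card.1 hS
    rw [hn]
    exact ((Fact.out : p.Prime).coprime_iff_not_dvd.2 hidx).pow_left n
  refine ⟨tr.ker.map (Zc S).subtype, Subgroup.map_subtype_le _, ?_, ?_⟩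
  · rw [eq_bot_iff]
    rintro x ⟨hx, y, hy, rfl⟩
    have h1 := htrc _ hx
    rw [Subgroup.mem_bot]
    have h2 : tr y = 1 := hy
    rw [show (⟨(Zc S).subtype y, hcenS hx⟩ : ↥(Zc S)) = y from rfl, h2, OneMemClass.coe_one] at h1
    have h3 : (⟨(y : Ω), y.2.1⟩ : ↥S) ^ P0.index = 1 := Subtype.ext h1.symm
    have h4 : (⟨(y : Ω), y.2.1⟩ : ↥S) = 1 := orderOf_eq_one_iff.1 (Nat.eq_one_of_dvd_coprimes hco
      (orderOf_dvd_natCard _) (orderOf_dvd_of_pow_eq_one h3))
    exact congrArg Subtype.val h4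
  · refine le_antisymm (sup_le hcenS (Subgroup.map_subtype_le _)) fun z hz => ?_
    obtain ⟨a, ha⟩ : ∃ a : ℤ, ((tr ⟨z, hz⟩ : Ω) ^ a) ^ P0.index = (tr ⟨z, hz⟩ : Ω) := by
      refine ⟨Nat.gcdB (Nat.card ↥S) P0.index, ?_⟩
      have h := Nat.gcd_eq_gcd_ab (Nat.card ↥S) P0.index
      rw [hco, Nat.cast_one] at h
      have h1 : (tr ⟨z, hz⟩ : Ω) ^ Nat.card ↥S = 1 :=
        congrArg Subtype.val (pow_card_eq_one' (x := (⟨_, (htrS ⟨z, hz⟩).1⟩ : ↥S)))
      rw [← zpow_natCast ((tr ⟨z, hz⟩ : Ω) ^ _), ← zpow_mul]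
      conv_rhs => rw [← zpow_one (tr ⟨z, hz⟩ : Ω), h, zpow_add, zpow_mul, zpow_natCast, h1, one_zpow, one_mul,
        mul_comm]
    set c := (tr ⟨z, hz⟩ : Ω) ^ a with hc
    have hcc : c ∈ F.center := by
      refine (hcen c).2 ⟨Subgroup.zpow_mem _ (htrS _) a, fun α hα => ?_⟩
      rw [hc, autFun_zpow_mem α (hZJ (htrS _)), htr _ ⟨α, hα⟩]
    have hk : (⟨z, hz⟩ : ↥(Zc S)) * ⟨c, hcenS hcc⟩⁻¹ ∈ tr.ker := by
      rw [MonoidHom.mem_ker, map_mul, map_inv, mul_inv_eq_one]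
      exact Subtype.ext (by rw [htrc c hcc]; exact ha.symm)
    have : z = z * c⁻¹ * c := (inv_mul_cancel_right z c).symm
    rw [this]
    exact Subgroup.mul_mem _ (Subgroup.mem_sup_right ⟨_, hk, rfl⟩) (Subgroup.mem_sup_left hcc)

end CfsgLib.Fus
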