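import Cfsg.Agent.Fus.HitTransfer
import Cfsg.Agent.Solv.PGroups

/-!
Commutator chain bounds below a normal p-group from bounds below a self-centralizing class two subgroup, and the quartic element
given by the K-infinity subgroups.
-/

set_option autoImplicit false
set_option linter.style.haveILetI false

open Cfsg
open scoped commutatorElement

namespace CfsgLib.Glau

section

variable {Γ : Type*} [Group Γ] [Finite Γ] {p : ℕ} [hp : Fact p.Prime]

/-- A normal `p`-subgroup centralizes every chief factor that is a `p`-group. -/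
theorem chief_centralized {U W P : Subgroup Γ} [P.Normal] (hc : IsChiefFactor U W) (hU : IsPGroup p ↥U)
    (hP : IsPGroup p ↥P) : ⁅U, P⁆ ≤ W := by
  obtain ⟨hWU, hUn, hWn, hmin⟩ := hc
  let π := QuotientGroup.mk' W
  have hπ : Function.Surjective π := QuotientGroup.mk'_surjective W
  haveI : (U.map π).Normal := hUn.map π hπ
  haveI hPn : (P.map π).Normal := (inferInstance : P.Normal).map π hπ
  set K := U.map π ⊔ P.map π with hK
  have hKp : IsPGroup p ↥K := (hU.map π).to_sup_of_normal_right (hP.map π)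
  haveI : (Subgroup.centralizer (P.map π : Set (Γ ⧸ W))).Normal := Subgroup.normalizer_eq_top_iff.1 (eq_top_iff.2
    ((Subgroup.normalizer_eq_top_iff.2 hPn).ge.trans (normalizer_le_centralizer_normalizer _)))
  set N := U.map π ⊓ Subgroup.centralizer (P.map π : Set (Γ ⧸ W)) with hN
  have hN0 : N ≠ ⊥ := by
    intro h0
    haveI : ((U.map π).subgroupOf K).Normal := Subgroup.normal_subgroupOf
    refine CfsgLib.Perm.inf_center_ne_bot hKp ((U.map π).subgroupOf K) ?_ (eq_bot_iff.2 fun x hx => ?_)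
    · rw [ne_eq, Subgroup.subgroupOf_eq_bot, disjoint_iff, inf_eq_left.2 le_sup_left, Subgroup.map_eq_bot_iff,
        QuotientGroup.ker_mk']
      exact hWU.not_ge
    · refine Subgroup.mem_bot.2 (Subtype.ext (Subgroup.mem_bot.1 (h0 ▸ (⟨hx.1, fun y hy => ?_⟩ :
        (x : Γ ⧸ W) ∈ N))))
      exact congrArg Subtype.val (Subgroup.mem_center_iff.1 hx.2 ⟨y, Subgroup.mem_sup_right hy⟩)
  haveI hNn : N.Normal := Subgroup.normal_inf_normal _ _
  rcases hmin (N.comap π) (hNn.comap π) (fun w hw => by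
      show π w ∈ N
      rw [show π w = 1 from (QuotientGroup.eq_one_iff w).2 hw]
      exact one_mem _)
    ((Subgroup.comap_mono inf_le_left).trans (by
      rw [Subgroup.comap_map_eq, QuotientGroup.ker_mk']; exact sup_le le_rfl hWU.le)) with he | he
  · refine absurd ?_ hN0
    rw [← Subgroup.map_comap_eq_self_of_surjective hπ N, he, Subgroup.map_eq_bot_iff, QuotientGroup.ker_mk']
  · refine Subgroup.commutator_le.2 fun u hu x hx => (QuotientGroup.eq_one_iff _).1 ?_
    have h1 : π u ∈ N := he.ge hu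
    exact (map_commutatorElement π u x).trans
      (commutatorElement_eq_one_iff_commute.2 (h1.2 (π x) ⟨x, hx, rfl⟩).symm)

omit [Finite Γ] hp in
theorem iterate_mem_normal (U : Subgroup Γ) [U.Normal] (g : Γ) :
    ∀ (n : ℕ) {u : Γ}, u ∈ U → (fun a => ⁅g, a⁆)^[n] u ∈ U
  | 0, _, h => h
  | n + 1, u, h => by
    rw [Function.iterate_succ_apply']
    have h1 := iterate_mem_normal U g n h
    show ⁅g, _⁆ ∈ U
    rw [commutatorElement_def]
    exact U.mul_mem ((inferInstance : U.Normal).conj_mem _ h1 g) (U.inv_mem h1)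

omit [Finite Γ] hp in
theorem conj_iterate (g h : Γ) (hc : Commute h g) :
    ∀ (n : ℕ) (u : Γ), h * (fun a => ⁅g, a⁆)^[n] u * h⁻¹ = (fun a => ⁅g, a⁆)^[n] (h * u * h⁻¹)
  | 0, _ => rfl
  | n + 1, u => by
    rw [Function.iterate_succ_apply', Function.iterate_succ_apply', ← conj_iterate g h hc n u]
    show h * ⁅g, _⁆ * h⁻¹ = ⁅g, h * _ * h⁻¹⁆
    rw [commutatorElement_def, commutatorElement_def]
    have hg : h * g * h⁻¹ = g := by rw [hc.eq, mul_inv_cancel_right]
    set w := (fun a => ⁅g, a⁆)^[n] u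
    calc h * (g * w * g⁻¹ * w⁻¹) * h⁻¹ = h * g * h⁻¹ * (h * w * h⁻¹) * (h * g * h⁻¹)⁻¹ * (h * w * h⁻¹)⁻¹ := by group
      _ = g * (h * w * h⁻¹) * g⁻¹ * (h * w * h⁻¹)⁻¹ := by rw [hg]

/-- Vanishing of iterated commutators with an element, read off the elements. -/
theorem iter_le_of_iterate {U V : Subgroup Γ} [U.Normal] [V.Normal]
    (hab : ∀ a ∈ U, ∀ b ∈ U, ⁅a, b⁆ ∈ V) {g : Γ} {n : ℕ}
    (h : ∀ u ∈ U, (fun a => ⁅g, a⁆)^[n] u ∈ V) : iterCommutator U (Subgroup.zpowers g) n ≤ V := by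
  let π := QuotientGroup.mk' V
  have hπ1 : ∀ {x : Γ}, x ∈ V ↔ π x = 1 := fun {x} => (QuotientGroup.eq_one_iff x).symm
  have hmul : ∀ (j : ℕ) (a b : Γ), a ∈ U → b ∈ U →
      π ((fun a => ⁅g, a⁆)^[j] (a * b)) = π ((fun a => ⁅g, a⁆)^[j] a) * π ((fun a => ⁅g, a⁆)^[j] b) := by
    intro j
    induction j with
    | zero => intro a b _ _; exact map_mul π a b
    | succ j ih =>
      intro a b ha hb
      rw [Function.iterate_succ_apply', Function.iterate_succ_apply', Function.iterate_succ_apply']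
      have ha' := iterate_mem_normal U g j ha
      have hb' := iterate_mem_normal U g j hb
      simp only [map_commutatorElement, ih a b ha hb]
      rw [commutatorElement_mul_right_eq_mul_conj]
      have hc : Commute (π ((fun a => ⁅g, a⁆)^[j] a)) ⁅π g, π ((fun a => ⁅g, a⁆)^[j] b)⁆ := by
        rw [← map_commutatorElement]
        refine commutatorElement_eq_one_iff_commute.1 ?_
        rw [← map_commutatorElement]
        exact hπ1.1 (hab _ ha' _ (by
          rw [commutatorElement_def]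
          exact U.mul_mem ((inferInstance : U.Normal).conj_mem _ hb' g) (U.inv_mem hb')))
      rw [mul_assoc, mul_assoc, ← mul_assoc (π ((fun a => ⁅g, a⁆)^[j] a)), hc.eq, mul_inv_cancel_right]
  let K : ℕ → Subgroup Γ := fun j =>
    { carrier := {u | u ∈ U ∧ (fun a => ⁅g, a⁆)^[j] u ∈ V}
      one_mem' := ⟨U.one_mem, by
        have h1 := hmul j 1 1 U.one_mem U.one_mem
        rw [mul_one, left_eq_mul] at h1
        exact hπ1.2 h1⟩
      mul_mem' := fun {a b} ha hb => ⟨U.mul_mem ha.1 hb.1, hπ1.2 (by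
        rw [hmul j a b ha.1 hb.1, hπ1.1 ha.2, hπ1.1 hb.2, mul_one])⟩
      inv_mem' := fun {a} ha => ⟨U.inv_mem ha.1, hπ1.2 (by
        have h1 := hmul j a a⁻¹ ha.1 (U.inv_mem ha.1)
        rw [mul_inv_cancel, hπ1.1 ha.2, one_mul] at h1
        have h2 := hmul j 1 1 U.one_mem U.one_mem
        rw [mul_one, left_eq_mul] at h2
        rw [← h1, h2])⟩ }
  suffices key : ∀ k, k ≤ n → iterCommutator U (Subgroup.zpowers g) k ≤ K (n - k) by
    intro x hx
    have h1 := (key n le_rfl hx).2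
    rwa [Nat.sub_self] at h1
  intro k
  induction k with
  | zero => exact fun _ x hx => ⟨hx, h x hx⟩
  | succ k ih =>
    intro hk
    refine Subgroup.commutator_le.2 fun x hx y hy => ?_
    have hx' := ih (by omega) hx
    obtain ⟨m, rfl⟩ := (IsOfFinOrder.mem_powers_iff_mem_zpowers (isOfFinOrder_of_finite g)).2 hy
    suffices hm : ∀ m : ℕ, ⁅g ^ m, x⁆ ∈ K (n - (k + 1)) by
      rw [← commutatorElement_inv]; exact inv_mem (hm m)
    intro m
    induction m with
    | zero => simp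
    | succ m ihm =>
      rw [pow_succ', commutatorElement_mul_left_eq_conj_mul]
      refine mul_mem ⟨(inferInstance : U.Normal).conj_mem _ ihm.1 g, ?_⟩ ⟨?_, ?_⟩
      · rw [← conj_iterate g g (Commute.refl g)]
        exact (inferInstance : V.Normal).conj_mem _ ihm.2 g
      · rw [commutatorElement_def]
        exact U.mul_mem ((inferInstance : U.Normal).conj_mem _ hx'.1 g) (U.inv_mem hx'.1)
      · have h1 := hx'.2
        rw [show n - k = n - (k + 1) + 1 by omega, Function.iterate_succ_apply] at h1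
        exact h1

/-- The commutator chain bound below `P` from the bounds below `Q` and `Z(Q)`. -/
theorem hit_below {P Q : Subgroup Γ} [P.Normal] [Q.Normal] (hP : IsPGroup p ↥P) (hQP : Q ≤ P)
    (hPQ : ⁅P, Q⁆ ≤ Q ⊓ Subgroup.centralizer (Q : Set Γ))
    (hC : P ⊓ Subgroup.centralizer (Q : Set Γ) ≤ Q) {g : Γ} {i j : ℕ} (hi : 1 ≤ i) (hj : 1 ≤ j)
    (hQi : ∀ U V : Subgroup Γ, IsChiefFactor U V → U ≤ Q → iterCommutator U (Subgroup.zpowers g) i ≤ V)
    (hZj : ∀ U V : Subgroup Γ, IsChiefFactor U V → U ≤ Q ⊓ Subgroup.centralizer (Q : Set Γ) →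
      iterCommutator U (Subgroup.zpowers g) j ≤ V) :
    ∀ U V : Subgroup Γ, IsChiefFactor U V → U ≤ P → iterCommutator U (Subgroup.zpowers g) (i + j - 1) ≤ V := by
  classical
  intro U V hUV hUP
  obtain ⟨hVU, hUn, hVn, hmin⟩ := hUV
  have hUV : IsChiefFactor U V := ⟨hVU, hUn, hVn, hmin⟩
  set ZQ := Q ⊓ Subgroup.centralizer (Q : Set Γ) with hZQ
  haveI : (Subgroup.centralizer (Q : Set Γ)).Normal := Subgroup.normalizer_eq_top_iff.1 (eq_top_iff.2
    ((Subgroup.normalizer_eq_top_iff.2 (inferInstance : Q.Normal)).ge.trans (normalizer_le_centralizer_normalizer _)))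
  haveI hZn : ZQ.Normal := Subgroup.normal_inf_normal _ _
  have hUp : IsPGroup p ↥U := hP.to_le hUP
  obtain ⟨-, hUab⟩ := chief_elementary (p := p) hUV hUp
  refine iter_le_of_iterate hUab fun u hu => ?_
  set d : Γ → Γ := fun a => ⁅g, a⁆ with hd
  have hcover : ∀ N : Subgroup Γ, N.Normal → N ≤ U → ¬ N ≤ V → N ⊔ V = U := fun N hN hNU hNV => by
    haveI := hN
    rcases hmin (N ⊔ V) inferInstance le_sup_right (sup_le hNU hVU.le) with he | he
    · exact absurd (le_sup_left.trans he.le) hNV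
    · exact he
  -- reduce to a normal subgroup covering the factor
  have red : ∀ N : Subgroup Γ, N.Normal → N ⊔ V = U → (∀ x ∈ N, d^[i + j - 1] x ∈ V) → d^[i + j - 1] u ∈ V := by
    intro N hN hNV hx
    let π := QuotientGroup.mk' V
    rw [← hNV] at hu
    haveI := hN
    obtain ⟨a, ha, v, hv, rfl⟩ := Subgroup.mem_sup_of_normal_left.1 hu
    have hcong : ∀ (n : ℕ) (x y : Γ), π x = π y → π (d^[n] x) = π (d^[n] y) := by
      intro n
      induction n with
      | zero => exact fun x y h => h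
      | succ n ih =>
        intro x y h
        rw [Function.iterate_succ_apply', Function.iterate_succ_apply']
        show π ⁅g, _⁆ = π ⁅g, _⁆
        rw [map_commutatorElement, map_commutatorElement, ih x y h]
    refine (QuotientGroup.eq_one_iff _).1 ?_
    show π _ = 1
    rw [hcong _ _ a (by rw [map_mul, show π v = 1 from (QuotientGroup.eq_one_iff v).2 hv, mul_one])]
    exact (QuotientGroup.eq_one_iff _).2 (hx a ha)
  let 𝒵 : Set (Subgroup Γ) := {Z | Z.Normal ∧ Z ≤ ZQ ∧ ∃ N : Subgroup Γ, N.Normal ∧ N ⊔ V = U ∧ ⁅Q, N⁆ ≤ Z}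
  obtain ⟨Z', hZ', hZmin⟩ := Set.Finite.exists_minimal (Set.toFinite 𝒵) ⟨ZQ, hZn, le_rfl, U, hUn,
    sup_eq_left.2 hVU.le, (Subgroup.commutator_comm Q U).trans_le ((Subgroup.commutator_mono hUP le_rfl).trans hPQ)⟩
  obtain ⟨hZ'n, hZ'le, N, hNn, hNV, hQN⟩ := hZ'
  haveI := hNn
  have hNU : N ≤ U := le_sup_left.trans hNV.le
  by_cases hZ'0 : Z' = ⊥
  · -- inside `Z(Q)`
    refine red N hNn hNV fun x hx => ?_
    have hNZ : N ≤ ZQ := by
      intro y hy
      have hyC : y ∈ Subgroup.centralizer (Q : Set Γ) := fun q hq =>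
        commutatorElement_eq_one_iff_commute.1 (Subgroup.mem_bot.1 (hZ'0 ▸ hQN
          (Subgroup.commutator_mem_commutator hq hy)))
      exact ⟨hC ⟨hUP (hNU hy), hyC⟩, hyC⟩
    have hchief : IsChiefFactor N (N ⊓ V) := by
      refine ⟨lt_of_le_of_ne inf_le_left fun he => ?_, hNn, inferInstance, fun M hM hle hMN => ?_⟩
      · rw [← hNV, sup_eq_right.2 (inf_eq_left.1 he)] at hVU
        exact lt_irrefl _ hVU
      · haveI := hM
        rcases hmin (M ⊔ V) inferInstance le_sup_right (sup_le (hMN.trans hNU) hVU.le) with he | he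
        · exact Or.inl (le_antisymm (le_inf hMN (le_sup_left.trans he.le)) hle)
        · refine Or.inr (le_antisymm hMN fun y hy => ?_)
          have hy' : y ∈ M ⊔ V := he ▸ hNU hy
          obtain ⟨m, hm, v, hv, rfl⟩ := Subgroup.mem_sup_of_normal_left.1 hy'
          have hvN : v ∈ N := by
            have := N.mul_mem (N.inv_mem (hMN hm)) hy
            rwa [inv_mul_cancel_left] at this
          exact M.mul_mem hm (hle ⟨hvN, hv⟩)
    have hj' : ∀ n, j ≤ n → iterCommutator N (Subgroup.zpowers g) n ≤ V := by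
      intro n hn
      induction hn with
      | refl => exact (hZj _ _ hchief hNZ).trans inf_le_right
      | step _ ih =>
        show ⁅_, Subgroup.zpowers g⁆ ≤ V
        exact (Subgroup.commutator_mono ih le_rfl).trans (Subgroup.commutator_le_left V _)
    exact hj' _ (by omega) (iterate_mem N hx _)
  -- `Z' / Z`
  obtain ⟨Z, hZ, hZmax⟩ := Set.Finite.exists_maximal (Set.toFinite {Z : Subgroup Γ | Z.Normal ∧ Z < Z'})
    ⟨⊥, inferInstance, bot_lt_iff_ne_bot.2 hZ'0⟩
  obtain ⟨hZn', hZlt⟩ := hZ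
  have hZchief : IsChiefFactor Z' Z := ⟨hZlt, hZ'n, hZn', fun M hM hle hM' =>
    (eq_or_lt_of_le hM').elim Or.inr fun hlt => Or.inl (le_antisymm (hZmax ⟨hM, hlt⟩ hle) hle)⟩
  have hZp : IsPGroup p ↥Z' := hP.to_le (hZ'le.trans (inf_le_left.trans hQP))
  have hcentP := chief_centralized (P := P) hZchief hZp hP
  let π := QuotientGroup.mk' Z
  have hπ1 : ∀ {x : Γ}, x ∈ Z ↔ π x = 1 := fun {x} => (QuotientGroup.eq_one_iff x).symm
  have hcomQ : ∀ q ∈ Q, ∀ z ∈ ZQ, q * z = z * q := fun q hq z hz => hz.2 q hq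
  -- the annihilator of a normal subgroup of `Q` in `N`
  have hadd : ∀ q ∈ Q, ∀ x ∈ N, ∀ y ∈ N, π ⁅q, x * y⁆ = π ⁅q, x⁆ * π ⁅q, y⁆ := by
    intro q hq x hx y hy
    have h1 : ⁅⁅q, y⁆, x⁆ ∈ Z := hcentP (Subgroup.commutator_mem_commutator
      (hQN (Subgroup.commutator_mem_commutator hq hy)) (hUP (hNU hx)))
    have h2 : Commute (π ⁅q, y⁆) (π x) :=
      commutatorElement_eq_one_iff_commute.1 ((map_commutatorElement π _ _).symm.trans (hπ1.1 h1))
    rw [commutatorElement_mul_right_eq_mul_conj, map_mul, map_mul, map_mul, map_inv, mul_assoc, mul_assoc,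
      ← mul_assoc (π x), ← h2.eq, mul_inv_cancel_right]
  let Ann : Subgroup Γ → Subgroup Γ := fun A =>
    { carrier := {x | x ∈ N ∧ ∀ q ∈ Q ⊓ A, π ⁅q, x⁆ = 1}
      one_mem' := ⟨one_mem _, fun q _ => by rw [commutatorElement_one_right, map_one]⟩
      mul_mem' := fun {a b} ha hb => ⟨mul_mem ha.1 hb.1, fun q hq => by
        rw [hadd q hq.1 a ha.1 b hb.1, ha.2 q hq, hb.2 q hq, mul_one]⟩
      inv_mem' := fun {a} ha => ⟨inv_mem ha.1, fun q hq => by
        have := hadd q hq.1 a ha.1 a⁻¹ (inv_mem ha.1)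
        rwa [mul_inv_cancel, commutatorElement_one_right, map_one, ha.2 q hq, one_mul, eq_comm] at this⟩ }
  have hAnn : ∀ A : Subgroup Γ, A.Normal → (Ann A).Normal := fun A hA => ⟨fun x hx h =>
    ⟨hNn.conj_mem x hx.1 h, fun q hq => by
      have hq' : h⁻¹ * q * h ∈ Q ⊓ A := by
        refine ⟨?_, ?_⟩
        · simpa using (inferInstance : Q.Normal).conj_mem q hq.1 h⁻¹
        · simpa using hA.conj_mem q hq.2 h⁻¹
      have h1 := hπ1.2 (hx.2 _ hq')
      have h2 := hπ1.1 (hZn'.conj_mem _ h1 h)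
      rwa [show h * ⁅h⁻¹ * q * h, x⁆ * h⁻¹ = ⁅q, h * x * h⁻¹⁆ by
        rw [commutatorElement_def, commutatorElement_def]; group] at h2⟩⟩
  have hAnnN : ∀ A, Ann A ≤ N := fun A x hx => hx.1
  have hAQ : Ann Q ≤ V := by
    by_contra hno
    refine hZlt.not_ge (hZmin ⟨hZn', hZlt.le.trans hZ'le, Ann Q, hAnn Q inferInstance,
      hcover _ (hAnn Q inferInstance) ((hAnnN Q).trans hNU) hno, ?_⟩ hZlt.le)
    exact Subgroup.commutator_le.2 fun q hq x hx => hπ1.2 (hx.2 q ⟨hq, hq⟩)
  obtain ⟨A', hA', hAmin⟩ := Set.Finite.exists_minimal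
    (Set.toFinite {A : Subgroup Γ | A.Normal ∧ A ≤ Q ∧ Ann A ≤ V}) ⟨Q, inferInstance, le_rfl, hAQ⟩
  obtain ⟨hA'n, hA'Q, hA'V⟩ := hA'
  have hA'0 : A' ≠ ⊥ := by
    intro h0
    have hN' : N ≤ V := fun x hx => hA'V ⟨hx, fun q hq => by
      rw [show q = 1 from Subgroup.mem_bot.1 (h0 ▸ hq.2), commutatorElement_one_left, map_one]⟩
    rw [← hNV, sup_eq_right.2 hN'] at hVU
    exact lt_irrefl _ hVU
  obtain ⟨A, hA, hAmax⟩ := Set.Finite.exists_maximal (Set.toFinite {A : Subgroup Γ | A.Normal ∧ A < A'})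
    ⟨⊥, inferInstance, bot_lt_iff_ne_bot.2 hA'0⟩
  obtain ⟨hAn, hAlt⟩ := hA
  have hAchief : IsChiefFactor A' A := ⟨hAlt, hA'n, hAn, fun M hM hle hM' =>
    (eq_or_lt_of_le hM').elim Or.inr fun hlt => Or.inl (le_antisymm (hAmax ⟨hM, hlt⟩ hle) hle)⟩
  have hN2 : Ann A ⊔ V = U := hcover _ (hAnn A hAn) ((hAnnN A).trans hNU) fun hle =>
    hAlt.not_ge (hAmin ⟨hAn, hAlt.le.trans hA'Q, hle⟩ hAlt.le)
  haveI := hAnn A hAn
  refine red (Ann A) inferInstance hN2 fun x hx => hA'V ⟨hAnnN A (iterate_mem_normal _ g _ hx), fun q hq => ?_⟩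
  -- the bilinear computation
  suffices key : ∀ (n r s : ℕ), i + j - 1 ≤ n + r + s → ∀ q ∈ A', ∀ x ∈ Ann A,
      π (d^[r] ⁅(fun a => ⁅g⁻¹, a⁆)^[s] q, d^[n] x⁆) = 1 from key _ 0 0 le_rfl q hq.2 x hx
  intro n
  induction n with
  | zero =>
    intro r s hrs q hq x hx
    rcases le_or_gt i s with hs | hs
    · have h1 : (fun a => ⁅g⁻¹, a⁆)^[s] q ∈ A := by
        have h2 := iterate_mem A' (t := g⁻¹) hq s
        rw [Subgroup.zpowers_inv] at h2
        have h3 : ∀ n, i ≤ n → iterCommutator A' (Subgroup.zpowers g) n ≤ A := by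
          intro n hn
          induction hn with
          | refl => exact hQi _ _ hAchief hA'Q
          | step _ ih => exact (Subgroup.commutator_mono ih le_rfl).trans (Subgroup.commutator_le_left A _)
        exact h3 s hs h2
      have hc : ∀ (r : ℕ) {z : Γ}, π z = 1 → π (d^[r] z) = 1 := fun r z hz =>
        hπ1.1 (iterate_mem_normal Z g r (hπ1.2 hz))
      exact hc r (hx.2 _ ⟨hA'Q (hAlt.le h1), h1⟩)
    · have h3 : ∀ n, j ≤ n → iterCommutator Z' (Subgroup.zpowers g) n ≤ Z := by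
        intro n hn
        induction hn with
        | refl => exact hZj _ _ hZchief hZ'le
        | step _ ih => exact (Subgroup.commutator_mono ih le_rfl).trans (Subgroup.commutator_le_left Z _)
      refine hπ1.1 (h3 r (by omega) (iterate_mem Z' ?_ r))
      exact hQN (Subgroup.commutator_mem_commutator (hA'Q (iterate_mem_normal A' g⁻¹ s hq)) hx.1)
  | succ n ih =>
    intro r s hrs q hq x hx
    set a := (fun a => ⁅g⁻¹, a⁆)^[s] q with ha
    set y := d^[n] x with hy
    have haQ : a ∈ Q := hA'Q (iterate_mem_normal A' g⁻¹ s hq)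
    have hyN : y ∈ N := hAnnN A (iterate_mem_normal _ g n hx)
    set a' := g⁻¹ * a * g with ha'
    have ha'Q : a' ∈ Q := by simpa [ha'] using (inferInstance : Q.Normal).conj_mem a haQ g⁻¹
    set z := ⁅a', y⁆ with hz
    have hzZ : z ∈ Z' := hQN (Subgroup.commutator_mem_commutator ha'Q hyN)
    have hwZ : ⁅⁅g⁻¹, a⁆, y⁆ ∈ Z' := hQN (Subgroup.commutator_mem_commutator (by
      rw [commutatorElement_def]
      exact Q.mul_mem ((inferInstance : Q.Normal).conj_mem a haQ g⁻¹) (Q.inv_mem haQ)) hyN)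
    have e1 : π ⁅a, ⁅g, y⁆⁆ = π ⁅g, z⁆ * π ⁅⁅g⁻¹, a⁆, y⁆ := by
      have hgy : g * y * g⁻¹ ∈ N := hNn.conj_mem y hyN g
      have h1 := hadd a haQ (g * y * g⁻¹) hgy y⁻¹ (N.inv_mem hyN)
      have h2 := hadd a haQ y hyN y⁻¹ (N.inv_mem hyN)
      rw [mul_inv_cancel, commutatorElement_one_right, map_one] at h2
      have hgz : ⁅a, g * y * g⁻¹⁆ = ⁅g, z⁆ * z := by
        rw [hz, ha', commutatorElement_def, commutatorElement_def, commutatorElement_def]; group
      have hsplit : z = ⁅⁅g⁻¹, a⁆, y⁆ * ⁅a, y⁆ := by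
        have h3 : a' = ⁅g⁻¹, a⁆ * a := by rw [ha', commutatorElement_def]; group
        have hEQ : ⁅g⁻¹, a⁆ ∈ Q := by
          rw [commutatorElement_def]
          exact Q.mul_mem ((inferInstance : Q.Normal).conj_mem a haQ g⁻¹) (Q.inv_mem haQ)
        have hay : ⁅a, y⁆ ∈ ZQ := hZ'le (hQN (Subgroup.commutator_mem_commutator haQ hyN))
        rw [hz, h3, commutatorElement_mul_left_eq_conj_mul,
          hcomQ _ hEQ _ hay, mul_inv_cancel_right, ← hcomQ _ (hay.1) _ (hZ'le hwZ)]
      rw [show ⁅g, y⁆ = g * y * g⁻¹ * y⁻¹ from commutatorElement_def g y, h1, hgz, map_mul, mul_assoc]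
      congr 1
      rw [hsplit, map_mul, mul_assoc, ← h2, mul_one]
    have hhom : ∀ (r : ℕ) (b c : Γ), b ∈ Z' → c ∈ Z' → π b = 1 ∨ True →
        π (d^[r] (b * c)) = π (d^[r] b) * π (d^[r] c) := by
      intro r
      induction r with
      | zero => intro b c _ _ _; exact map_mul π b c
      | succ r ihr =>
        intro b c hb hc ht
        rw [Function.iterate_succ_apply', Function.iterate_succ_apply', Function.iterate_succ_apply']
        have hb' := iterate_mem_normal Z' g r hb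
        have hc' := iterate_mem_normal Z' g r hc
        show π ⁅g, _⁆ = π ⁅g, _⁆ * π ⁅g, _⁆
        rw [map_commutatorElement, ihr b c hb hc ht, commutatorElement_mul_right_eq_mul_conj,
          ← map_commutatorElement, ← map_commutatorElement]
        have hcm : Commute (π (d^[r] b)) (π ⁅g, d^[r] c⁆) := by
          have hcZ : ⁅g, d^[r] c⁆ ∈ ZQ := hZ'le (by
            rw [commutatorElement_def]
            exact Z'.mul_mem (hZ'n.conj_mem _ hc' g) (Z'.inv_mem hc'))
          exact (show Commute (d^[r] b) ⁅g, d^[r] c⁆ from hcomQ _ (hZ'le hb').1 _ hcZ).map π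
        rw [mul_assoc, mul_assoc, ← mul_assoc (π (d^[r] b)), hcm.eq, mul_inv_cancel_right]
    have hgzZ : ⁅g, z⁆ ∈ Z' := by
      rw [commutatorElement_def]; exact Z'.mul_mem (hZ'n.conj_mem z hzZ g) (Z'.inv_mem hzZ)
    have hcong : ∀ (r : ℕ) (b c : Γ), π b = π c → π (d^[r] b) = π (d^[r] c) := by
      intro r
      induction r with
      | zero => exact fun b c h => h
      | succ r ihr =>
        intro b c h
        rw [Function.iterate_succ_apply', Function.iterate_succ_apply']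
        show π ⁅g, _⁆ = π ⁅g, _⁆
        rw [map_commutatorElement, map_commutatorElement, ihr b c h]
    rw [Function.iterate_succ_apply', hcong r _ (⁅g, z⁆ * ⁅⁅g⁻¹, a⁆, y⁆) (by rw [map_mul]; exact e1),
      hhom r _ _ hgzZ hwZ (Or.inr trivial)]
    have hA2 : g⁻¹ * q * g ∈ A' := by simpa using hA'n.conj_mem q hq g⁻¹
    have e2 := ih (r + 1) s (by omega) (g⁻¹ * q * g) hA2 x hx
    have e3 := ih r (s + 1) (by omega) q hq x hx
    have hca := conj_iterate g⁻¹ g⁻¹ (Commute.refl _) s q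
    rw [inv_inv] at hca
    rw [← hca, Function.iterate_succ_apply] at e2
    rw [Function.iterate_succ_apply' _ s] at e3
    exact (congrArg₂ (· * ·) e2 e3).trans (one_mul 1)

end

universe u

/-- For the K-infinity subgroups: a quartic element outside `O_p` in a constrained group. -/
theorem kInf_quartic {Γ : Type u} [Group Γ] [Finite Γ] {p : ℕ} [hp : Fact p.Prime] (S : Sylow p Γ)
    (hK : ¬ (inducedFunctor kInfLower (S : Subgroup Γ)).Normal ∨
      ¬ (inducedFunctor kInfUpper (S : Subgroup Γ)).Normal) :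
    ∃ g ∈ (S : Subgroup Γ), g ∉ pCore p Γ ∧ ∀ U V : Subgroup Γ, IsChiefFactor U V → U ≤ pCore p Γ →
      iterCommutator U (Subgroup.zpowers g) 4 ≤ V := by
  haveI hPn := CfsgLib.Solv.pCore_normal Γ p
  set P := pCore p Γ with hP
  have hPp : IsPGroup p ↥P := CfsgLib.Solv.pCore_isPGroup Γ p
  obtain ⟨A₀, hA₀c, -, hA₀P, hA₀C⟩ := CfsgLib.Solv.exists_critical hPp
  haveI := hA₀c
  set A := A₀.map P.subtype with hA
  haveI hAn : A.Normal := CfsgLib.Solv.normal_map_subtype_of_characteristic A₀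
  have hAP : A ≤ P := Subgroup.map_subtype_le _
  have hzc : KInf.zc A = (KInf.zc A₀).map P.subtype := KInf.zc_map P.subtype_injective A₀
  have hPA : ⁅A, P⁆ ≤ KInf.zc A := by
    have h1 := Subgroup.map_mono (f := P.subtype) hA₀P
    rwa [Subgroup.map_commutator, ← MonoidHom.range_eq_map, P.range_subtype, ← hA, ← hzc] at h1
  have hcl : A ∈ classTwoSubgroups Γ := ((Subgroup.commutator_mono le_rfl hAP).trans hPA).trans inf_le_right
  have htop : pCoreOf p (⊤ : Subgroup Γ) = P := by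
    rw [pCoreOf, hP, ← CfsgLib.Solv.map_pCore_equiv (Subgroup.topEquiv (G := Γ))]
    rfl
  obtain ⟨B, hBS, hBP, hB3, hB2⟩ := KInf.exists_offender (syl_top S) (A := A) (htop.symm ▸ hAP)
    (by rw [Subgroup.normalizer_eq_top_iff.2 hAn]) hcl (htop.symm ▸ hPA)
    (hK.imp (fun h h' => h (Subgroup.normalizer_eq_top_iff.1 (top_le_iff.1 h')))
      (fun h h' => h (Subgroup.normalizer_eq_top_iff.1 (top_le_iff.1 h'))))
  rw [htop] at hBP
  obtain ⟨g, hgB, hgP⟩ := Set.not_subset.1 hBP
  refine ⟨g, hBS hgB, hgP, fun U V hUV hUP => ?_⟩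
  have hgz : Subgroup.zpowers g ≤ B := Subgroup.zpowers_le.2 hgB
  refine hit_below (i := 3) (j := 2) hPp hAP ((Subgroup.commutator_comm P A).trans_le hPA) ?_ (by omega) (by omega)
    ?_ ?_ U V hUV hUP
  · rintro x ⟨hxP, hxC⟩
    exact ⟨⟨x, hxP⟩, hA₀C fun a ha => Subtype.ext (hxC (a : Γ) ⟨a, ha, rfl⟩), rfl⟩
  · exact fun U V _ hU => ((iterCommutator_mono hU hgz 3).trans hB3.le).trans bot_le
  · exact fun U V _ hU => ((iterCommutator_mono hU hgz 2).trans hB2.le).trans bot_le

end CfsgLib.Glau
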