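import Cfsg.Agent.Fus.ChainBound
import Cfsg.Agent.Fus.Isotropic
import Cfsg.Agent.Inv.CharP
import Cfsg.Agent.Inv.Spe
import Cfsg.Prelude.Def_LocalEven

/-!
Stabilizers of the chief factors below a normal p-subgroup, and failure of normalizer p-stability from a quadratic element on a
chief factor.
-/

set_option autoImplicit false
set_option linter.style.haveILetI false

open Cfsg
open scoped commutatorElement

namespace CfsgLib.Glau

variable {Γ : Type*} [Group Γ]

/-- The elements acting trivially on every chief factor below `N`. -/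
def stab (N : Subgroup Γ) : Subgroup Γ where
  carrier := {x | ∀ U V : Subgroup Γ, IsChiefFactor U V → U ≤ N → ∀ u ∈ U, ⁅x, u⁆ ∈ V}
  one_mem' := fun U V _ _ u _ => by rw [commutatorElement_one_left]; exact V.one_mem
  mul_mem' := fun {x y} hx hy U V h hU u hu => by
    rw [commutatorElement_mul_left_eq_conj_mul]
    exact V.mul_mem (h.2.2.1.conj_mem _ (hy U V h hU u hu) x) (hx U V h hU u hu)
  inv_mem' := fun {x} hx U V h hU u hu => by
    rw [show ⁅x⁻¹, u⁆ = x⁻¹ * (⁅x, u⁆)⁻¹ * x⁻¹⁻¹ by rw [commutatorElement_def, commutatorElement_def]; group]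
    exact h.2.2.1.conj_mem _ (V.inv_mem (hx U V h hU u hu)) _

theorem stab_normal (N : Subgroup Γ) : (stab N).Normal := ⟨fun x hx h U V hUV hU u hu => by
  rw [show ⁅h * x * h⁻¹, u⁆ = h * ⁅x, h⁻¹ * u * h⁆ * h⁻¹ by rw [commutatorElement_def, commutatorElement_def]; group]
  exact hUV.2.2.1.conj_mem _ (hx U V hUV hU _ (by simpa using hUV.2.1.conj_mem u hu h⁻¹)) h⟩

theorem stab_anti {M N : Subgroup Γ} (h : M ≤ N) : stab N ≤ stab M :=
  fun _ hx U V hUV hU => hx U V hUV (hU.trans h)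

theorem zpowers_comm_le {U V : Subgroup Γ} [V.Normal] {g : Γ} (h : ∀ u ∈ U, ⁅g, u⁆ ∈ V) :
    ⁅U, Subgroup.zpowers g⁆ ≤ V := by
  refine Subgroup.commutator_le.2 fun u hu y hy => (QuotientGroup.eq_one_iff _).1 ?_
  obtain ⟨k, rfl⟩ := Subgroup.mem_zpowers_iff.1 hy
  let π := QuotientGroup.mk' V
  have h1 : Commute (π g) (π u) :=
    commutatorElement_eq_one_iff_commute.1 ((map_commutatorElement π g u).symm.trans
      ((QuotientGroup.eq_one_iff _).2 (h u hu)))
  show π ⁅u, g ^ k⁆ = 1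
  rw [map_commutatorElement, map_zpow]
  exact commutatorElement_eq_one_iff_commute.2 (h1.zpow_left k).symm

theorem comm_mem_of_le {U V : Subgroup Γ} {g u : Γ} (h : ⁅U, Subgroup.zpowers g⁆ ≤ V) (hu : u ∈ U) :
    ⁅g, u⁆ ∈ V := by
  rw [← commutatorElement_inv]
  exact V.inv_mem (h (Subgroup.commutator_mem_commutator hu (Subgroup.mem_zpowers g)))

theorem quad_mem_of_le {U V : Subgroup Γ} {g u : Γ}
    (h : ⁅⁅U, Subgroup.zpowers g⁆, Subgroup.zpowers g⁆ ≤ V) (hu : u ∈ U) : ⁅g, ⁅g, u⁆⁆ ∈ V :=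
  comm_mem_of_le h (comm_mem_of_le le_rfl hu)

/-- The trace of a chief factor on a normal subgroup not inside its bottom. -/
theorem chief_inf {U W N : Subgroup Γ} (h : IsChiefFactor U W) (hN : N.Normal) (hNU : N ≤ U) (hNW : ¬ N ≤ W) :
    IsChiefFactor N (N ⊓ W) ∧ N ⊔ W = U := by
  obtain ⟨hWU, hUn, hWn, hmin⟩ := h
  haveI := hN
  haveI := hWn
  have hsup : N ⊔ W = U := by
    rcases hmin (N ⊔ W) inferInstance le_sup_right (sup_le hNU hWU.le) with he | he
    · exact absurd (le_sup_left.trans he.le) hNW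
    · exact he
  refine ⟨⟨lt_of_le_of_ne inf_le_left fun he => hNW (inf_eq_left.1 he), hN, Subgroup.normal_inf_normal N W,
    fun M hM hle hMN => ?_⟩, hsup⟩
  haveI := hM
  rcases hmin (M ⊔ W) inferInstance le_sup_right (sup_le (hMN.trans hNU) hWU.le) with he | he
  · exact Or.inl (le_antisymm (le_inf hMN (le_sup_left.trans he.le)) hle)
  · refine Or.inr (le_antisymm hMN fun y hy => ?_)
    have hy' : y ∈ M ⊔ W := he ▸ hNU hy
    obtain ⟨m, hm, v, hv, rfl⟩ := Subgroup.mem_sup_of_normal_left.1 hy'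
    have hvN : v ∈ N := by
      have := N.mul_mem (N.inv_mem (hMN hm)) hy
      rwa [inv_mul_cancel_left] at this
    exact M.mul_mem hm (hle ⟨hvN, hv⟩)

theorem comm_mul_mem {V : Subgroup Γ} [V.Normal] {x a b : Γ} (ha : ⁅x, a⁆ ∈ V) (hb : ⁅x, b⁆ ∈ V) :
    ⁅x, a * b⁆ ∈ V := by
  rw [show ⁅x, a * b⁆ = ⁅x, a⁆ * (a * ⁅x, b⁆ * a⁻¹) by
    rw [commutatorElement_def, commutatorElement_def, commutatorElement_def]; group]
  exact V.mul_mem ha ((inferInstance : V.Normal).conj_mem _ hb a)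

/-- An element trivial on the factors below `V` and on `U / V` is trivial on the factors below `U`. -/
theorem stab_extend {U V : Subgroup Γ} [U.Normal] [V.Normal] {x : Γ} (hx : x ∈ stab V)
    (hxU : ∀ u ∈ U, ⁅x, u⁆ ∈ V) : x ∈ stab U := by
  intro U₁ V₁ h₁ hU₁ u hu
  haveI := h₁.2.1
  haveI := h₁.2.2.1
  haveI : (U₁ ⊓ V).Normal := Subgroup.normal_inf_normal _ _
  have hmem : ⁅x, u⁆ ∈ U₁ ⊓ V := ⟨by
    rw [commutatorElement_def]; exact U₁.mul_mem (h₁.2.1.conj_mem u hu x) (U₁.inv_mem hu), hxU u (hU₁ hu)⟩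
  by_cases hle : U₁ ⊓ V ≤ V₁
  · exact hle hmem
  obtain ⟨hc, hs⟩ := chief_inf h₁ inferInstance inf_le_left hle
  rw [← hs] at hu
  obtain ⟨a, ha, c, hc', rfl⟩ := Subgroup.mem_sup_of_normal_left.1 hu
  refine comm_mul_mem (hx _ _ hc inf_le_right a ha).2 ?_
  rw [commutatorElement_def]
  exact V₁.mul_mem (h₁.2.2.1.conj_mem c hc' x) (V₁.inv_mem hc')

section

variable [Finite Γ] {p : ℕ} [hp : Fact p.Prime]

theorem le_stab {T N : Subgroup Γ} [T.Normal] (hT : IsPGroup p T) (hN : IsPGroup p N) : T ≤ stab N :=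
  fun x hx U V h hU u hu => by
    rw [← commutatorElement_inv]
    exact V.inv_mem (chief_centralized h (hN.to_le hU) hT (Subgroup.commutator_mem_commutator hu hx))

/-- An element of order prime to `p` trivial on every chief factor below a normal `p`-subgroup centralizes it. -/
theorem stab_coprime {x : Γ} (hx : (orderOf x).Coprime p) :
    ∀ {N : Subgroup Γ}, N.Normal → IsPGroup p N → x ∈ stab N → x ∈ Subgroup.centralizer (N : Set Γ) := by
  intro N
  induction hn : Nat.card N using Nat.strong_induction_on generalizing N with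
  | _ n ih =>
    intro hNn hN hxN
    by_cases hN0 : N = ⊥
    · subst hN0
      intro y hy
      rw [Subgroup.mem_bot.1 hy, one_mul, mul_one]
    obtain ⟨M, ⟨hMn, hMlt⟩, hMmax⟩ := Set.Finite.exists_maximal (Set.toFinite {M : Subgroup Γ | M.Normal ∧ M < N})
      ⟨⊥, inferInstance, bot_lt_iff_ne_bot.2 hN0⟩
    have hc : IsChiefFactor N M := ⟨hMlt, hNn, hMn, fun X hX hle hXN =>
      (eq_or_lt_of_le hXN).elim Or.inr fun hlt => Or.inl (le_antisymm (hMmax ⟨hX, hlt⟩ hle) hle)⟩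
    haveI := hMn
    have hM := ih (Nat.card M) (hn ▸ (Nat.lt_of_le_of_ne (Subgroup.card_le_of_le hMlt.le) fun he =>
      hMlt.ne (Subgroup.eq_of_le_of_card_ge hMlt.le he.ge))) rfl hMn (hN.to_le hMlt.le) (stab_anti hMlt.le hxN)
    refine CfsgLib.Inv.kill_of_nilpotent hN hx (by rw [Subgroup.normalizer_eq_top_iff.2 hNn]; trivial) (n := 2)
      (eq_bot_iff.2 ?_)
    exact (Subgroup.commutator_mono (zpowers_comm_le fun u hu => hxN N M hc le_rfl u hu) le_rfl).trans
      (Subgroup.commutator_eq_bot_iff_le_centralizer.2 fun m hm y hy => by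
        obtain ⟨k, rfl⟩ := Subgroup.mem_zpowers_iff.1 hy
        exact ((show Commute x m from (hM m hm).symm).zpow_left k).eq).le

/-- A normal subgroup inducing a `p`-group on a chief `p`-factor centralizes it. -/
theorem trivial_of_pgroup_on_chief {U V K : Subgroup Γ} [K.Normal] (h : IsChiefFactor U V) (hU : IsPGroup p U)
    (hK : ∀ k ∈ K, ∃ n : ℕ, ∀ u ∈ U, ⁅k ^ p ^ n, u⁆ ∈ V) : ∀ k ∈ K, ∀ u ∈ U, ⁅k, u⁆ ∈ V := by
  have hh := h
  obtain ⟨hVU, hUn, hVn, hmin⟩ := h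
  let π := QuotientGroup.mk' V
  have hπ1 : ∀ {x : Γ}, x ∈ V ↔ π x = 1 := fun {x} => (QuotientGroup.eq_one_iff x).symm
  haveI hWn : (U.map π).Normal := hUn.map π (QuotientGroup.mk'_surjective V)
  let a : ↥K →* Equiv.Perm ↥(U.map π) :=
    (MulDistribMulAction.toMulAut (MulAut ↥(U.map π)) ↥(U.map π)).comp
      ((MulAut.conjNormal (H := U.map π)).comp (π.comp K.subtype)) |> fun φ =>
      { toFun := fun k => (φ k).toEquiv
        map_one' := by rw [map_one]; rfl
        map_mul' := fun x y => by rw [map_mul]; rfl }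
  have ha : ∀ (k : ↥K) (w : ↥(U.map π)), ((a k w : ↥(U.map π)) : Γ ⧸ V) = π k * w * (π k)⁻¹ := fun k w => rfl
  have hd : p ∣ Nat.card ↥(U.map π) := by
    haveI : Nontrivial ↥(U.map π) := (Subgroup.nontrivial_iff_ne_bot _).2 (by
      rw [ne_eq, Subgroup.map_eq_bot_iff, QuotientGroup.ker_mk']; exact hVU.not_ge)
    obtain ⟨k, hk, hk'⟩ := (hU.map π).nontrivial_iff_card.1 inferInstance
    rw [hk']; exact dvd_pow_self p hk.ne'
  obtain ⟨w, hw1, hw⟩ := CfsgLib.Iso.fixed_of_pgroup (p := p) a (fun k => by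
    obtain ⟨n, hn⟩ := hK k.1 k.2
    refine ⟨n, Equiv.ext fun w => Subtype.ext ?_⟩
    obtain ⟨_, u, hu, rfl⟩ := w
    rw [ha]
    show π ((k : Γ) ^ p ^ n) * π u * (π ((k : Γ) ^ p ^ n))⁻¹ = π u
    rw [mul_inv_eq_iff_eq_mul]
    exact (commutatorElement_eq_one_iff_commute.1 ((map_commutatorElement π _ _).symm.trans (hπ1.1 (hn u hu)))).eq)
    hd (x0 := 1) (fun k => Subtype.ext (by rw [ha]; simp))
  let N : Subgroup Γ :=
    { carrier := {u | u ∈ U ∧ ∀ k ∈ K, ⁅k, u⁆ ∈ V}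
      one_mem' := ⟨U.one_mem, fun k _ => by rw [commutatorElement_one_right]; exact V.one_mem⟩
      mul_mem' := fun {x y} hx hy => ⟨U.mul_mem hx.1 hy.1, fun k hk => comm_mul_mem (hx.2 k hk) (hy.2 k hk)⟩
      inv_mem' := fun {x} hx => ⟨U.inv_mem hx.1, fun k hk => by
        rw [show ⁅k, x⁻¹⁆ = x⁻¹ * (⁅k, x⁆)⁻¹ * x⁻¹⁻¹ by rw [commutatorElement_def, commutatorElement_def]; group]
        exact hVn.conj_mem _ (V.inv_mem (hx.2 k hk)) _⟩ }
  have hNn : N.Normal := ⟨fun u hu g => ⟨hUn.conj_mem u hu.1 g, fun k hk => by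
    rw [show ⁅k, g * u * g⁻¹⁆ = g * ⁅g⁻¹ * k * g, u⁆ * g⁻¹ by
      rw [commutatorElement_def, commutatorElement_def]; group]
    exact hVn.conj_mem _ (hu.2 _ (by simpa using (inferInstance : K.Normal).conj_mem k hk g⁻¹)) g⟩⟩
  rcases hmin N hNn (fun v hv => ⟨hVU.le hv, fun k _ => by
      rw [commutatorElement_def]; exact V.mul_mem (hVn.conj_mem v hv k) (V.inv_mem hv)⟩) (fun u hu => hu.1)
    with he | he
  · exfalso
    obtain ⟨_, u, hu, rfl⟩ := w
    refine hw1 (Subtype.ext (hπ1.1 (he.le (⟨hu, fun k hk => hπ1.2 ?_⟩ : u ∈ N))))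
    rw [map_commutatorElement, commutatorElement_eq_one_iff_commute]
    exact mul_inv_eq_iff_eq_mul.1 (congrArg Subtype.val (hw ⟨k, hk⟩))
  · exact fun k hk u hu => (he.ge hu).2 k hk

/-- A quadratic, nontrivial action on a chief factor destroys normalizer `p`-stability of any image with kernel its bottom. -/
theorem not_pstable_of_hom {U V : Subgroup Γ} (h : IsChiefFactor U V) (hU : IsPGroup p U) {g : Γ}
    (hq : ⁅⁅U, Subgroup.zpowers g⁆, Subgroup.zpowers g⁆ ≤ V) (hn : ¬ ⁅U, Subgroup.zpowers g⁆ ≤ V)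
    {Q : Type*} [Group Q] (π : Γ →* Q) (hπ : Function.Surjective π) (hπV : π.ker = V) :
    ¬ IsNormalizerPStable p Q := by
  intro hst
  haveI := h.2.2.1
  haveI : Finite Q := Finite.of_surjective π hπ
  haveI hWn : (U.map π).Normal := h.2.1.map π hπ
  have hN : Subgroup.normalizer (U.map π : Set Q) = ⊤ := Subgroup.normalizer_eq_top_iff.2 hWn
  have h1 := hst (U.map π) (hU.map π) (π g) (by rw [hN]; trivial) (eq_bot_iff.2 (by
    rw [← MonoidHom.map_zpowers, ← Subgroup.map_commutator, ← Subgroup.map_commutator]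
    exact (Subgroup.map_mono hq).trans_eq ((Subgroup.map_eq_bot_iff _).2 hπV.ge)))
  set Nz := Subgroup.normalizer (U.map π : Set Q)
  set Cz := (Subgroup.centralizer (U.map π : Set Q)).subgroupOf Nz
  let f : Γ →* ↥Nz := π.codRestrict Nz fun x => by rw [show Nz = ⊤ from hN]; trivial
  let φ : Γ →* ↥Nz ⧸ Cz := (QuotientGroup.mk' Cz).comp f
  set M := (pCore p (↥Nz ⧸ Cz)).comap φ
  haveI : M.Normal := (CfsgLib.Solv.pCore_normal (↥Nz ⧸ Cz) p).comap φ
  have hker : ∀ x, φ x = 1 → ∀ u ∈ U, ⁅x, u⁆ ∈ V := fun x hx u hu => by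
    have h2 : π x ∈ Subgroup.centralizer (U.map π : Set Q) := (QuotientGroup.eq_one_iff (f x)).1 hx
    rw [← hπV, MonoidHom.mem_ker, map_commutatorElement]
    exact commutatorElement_eq_one_iff_commute.2 (h2 (π u) ⟨u, hu, rfl⟩).symm
  refine hn (zpowers_comm_le (trivial_of_pgroup_on_chief (K := M) h hU (fun k hk => ?_) g h1))
  obtain ⟨n, hn'⟩ := CfsgLib.Solv.pCore_isPGroup (↥Nz ⧸ Cz) p ⟨φ k, hk⟩
  exact ⟨n, hker _ (by rw [map_pow]; exact congrArg Subtype.val hn')⟩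

/-- The quotient by the bottom of such a chief factor is not normalizer `p`-stable. -/
theorem not_pstable_of_chief {U V : Subgroup Γ} [V.Normal] (h : IsChiefFactor U V) (hU : IsPGroup p U) {g : Γ}
    (hq : ⁅⁅U, Subgroup.zpowers g⁆, Subgroup.zpowers g⁆ ≤ V) (hn : ¬ ⁅U, Subgroup.zpowers g⁆ ≤ V) :
    ¬ IsNormalizerPStable p (Γ ⧸ V) :=
  not_pstable_of_hom h hU hq hn (QuotientGroup.mk' V) (QuotientGroup.mk'_surjective V) (QuotientGroup.ker_mk' V)

end

end CfsgLib.Glau
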