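import Cfsg.Agent.Fus.AbelianHit
import Cfsg.Agent.Fus.ComplementInduction
import Cfsg.Agent.Fus.Stability

/-!
In a minimal counterexample no element outside the p-core has degree below p on a chief factor it moves.
-/

set_option autoImplicit false
set_option linter.style.haveILetI false
set_option linter.deprecated false

open Cfsg
open scoped commutatorElement

namespace CfsgLib.Glau

open CfsgLib.Solv

theorem false_of_short_hit {Γ : Type*} [Group Γ] [Finite Γ] {p : ℕ} [hp : Fact p.Prime] [(pCore p Γ).Normal]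
    (S : Sylow p Γ) (hQ : HasNormalPComplement p (Γ ⧸ pCore p Γ))
    (hab : ∀ x ∈ pResidual p (Γ ⧸ pCore p Γ), ∀ y ∈ pResidual p (Γ ⧸ pCore p Γ), x * y = y * x)
    (hinv : ∀ M : Subgroup (Γ ⧸ pCore p Γ), M ≤ pResidual p (Γ ⧸ pCore p Γ) →
      (S : Subgroup Γ).map (QuotientGroup.mk' (pCore p Γ)) ≤ Subgroup.normalizer (M : Set (Γ ⧸ pCore p Γ)) →
      M = ⊥ ∨ M = pResidual p (Γ ⧸ pCore p Γ))
    {g : Γ} (hgS : g ∈ (S : Subgroup Γ)) (hgU : g ∉ pCore p Γ) {X Y : Subgroup Γ} (hc : IsChiefFactor X Y)
    (hX : X ≤ pCore p Γ) (hit : iterCommutator X (Subgroup.zpowers g) (p - 1) ≤ Y)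
    (hmove : ¬ ⁅X, Subgroup.zpowers g⁆ ≤ Y) : False := by
  classical
  set U := pCore p Γ with hU
  have hUp : IsPGroup p U := CfsgLib.Solv.pCore_isPGroup Γ p
  have hXp : IsPGroup p X := hUp.to_le hX
  obtain ⟨hel, hcom⟩ := chief_elementary (p := p) hc hXp
  haveI := hc.2.1
  haveI := hc.2.2.1
  let π := QuotientGroup.mk' Y
  have hπ : ∀ a : Γ, π a = 1 ↔ a ∈ Y := fun a => QuotientGroup.eq_one_iff a
  haveI hAn : (X.map π).Normal := (inferInstance : X.Normal).map π (QuotientGroup.mk'_surjective Y)
  letI : CommGroup ↥(X.map π) := { (inferInstance : Group ↥(X.map π)) with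
    mul_comm := by
      rintro ⟨_, a, ha, rfl⟩ ⟨_, b, hb, rfl⟩
      exact Subtype.ext (commutatorElement_eq_one_iff_commute.1 ((map_commutatorElement π a b).symm.trans
        ((hπ _).2 (hcom a ha b hb)))).eq }
  let A := Additive ↥(X.map π)
  let act : Γ →* AddMonoid.End A :=
    { toFun := fun k => ((MulAut.conjNormal (π k) : MulAut ↥(X.map π)).toMonoidHom.toAdditive :
        Additive ↥(X.map π) →+ Additive ↥(X.map π))
      map_one' := by
        refine AddMonoidHom.ext fun a => ?_
        show Additive.ofMul (MulAut.conjNormal (π 1) (Additive.toMul a)) = a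
        rw [map_one, map_one]; rfl
      map_mul' := fun k l => by
        refine AddMonoidHom.ext fun a => ?_
        show Additive.ofMul (MulAut.conjNormal (π (k * l)) (Additive.toMul a)) =
          Additive.ofMul (MulAut.conjNormal (π k) (MulAut.conjNormal (π l) (Additive.toMul a)))
        rw [map_mul, map_mul]; rfl }
  let val : A → Γ ⧸ Y := fun a => ((Additive.toMul a : ↥(X.map π)) : Γ ⧸ Y)
  have hval : Function.Injective val := fun a b h => Additive.toMul.injective (Subtype.ext h)
  have vact : ∀ k a, val (act k a) = π k * val a * (π k)⁻¹ := fun k a => MulAut.conjNormal_apply _ _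
  have htriv : ∀ k, act k = 1 ↔ ∀ x ∈ X, ⁅k, x⁆ ∈ Y := by
    intro k
    constructor
    · intro h x hx
      refine (hπ _).1 ?_
      rw [map_commutatorElement, commutatorElement_def, mul_inv_eq_one]
      have h' := congrArg (fun F : AddMonoid.End A => val (F (Additive.ofMul ⟨π x, x, hx, rfl⟩))) h
      rwa [vact] at h'
    · intro h
      refine AddMonoidHom.ext fun a => hval ?_
      obtain ⟨x, hx, hxa⟩ := (Additive.toMul a : ↥(X.map π)).2
      refine (vact k a).trans ?_
      show π k * val a * (π k)⁻¹ = val a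
      rw [show val a = π x from hxa.symm, ← mul_inv_eq_one, ← commutatorElement_def, ← map_commutatorElement]
      exact (hπ _).2 (h x hx)
  let ρ : Γ ⧸ U →* (AddMonoid.End A)ˣ := QuotientGroup.lift U act.toHomUnits fun k hk => by
    refine Units.ext ((htriv k).2 fun x hx => ?_)
    exact le_stab hUp hUp hk X Y hc hX x hx
  have hρ : ∀ k : Γ, ((ρ (QuotientGroup.mk' U k) : (AddMonoid.End A)ˣ) : AddMonoid.End A) = act k := fun _ => rfl
  set f := QuotientGroup.mk' U with hf
  set R := pResidual p (Γ ⧸ U) with hR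
  haveI hRchar := pResidual_char p (Γ ⧸ U)
  haveI : R.Normal := Subgroup.normal_of_characteristic R
  have hRp : ¬ p ∣ Nat.card R := hnpc_iff.1 hQ
  haveI : Finite (AddMonoid.End A) := Finite.of_injective (fun F => (F : A → A)) DFunLike.coe_injective
  have hiter : ∀ n, ∀ a : A, ∃ u ∈ iterCommutator X (Subgroup.zpowers g) n, val (((act g - 1) ^ n) a) = π u := by
    intro n
    induction n with
    | zero =>
      intro a
      obtain ⟨x, hx, hxa⟩ := (Additive.toMul a : ↥(X.map π)).2
      exact ⟨x, hx, by rw [pow_zero]; exact hxa.symm⟩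
    | succ n ih =>
      intro a
      obtain ⟨u, hu, hue⟩ := ih a
      refine ⟨⁅g, u⁆, ?_, ?_⟩
      · rw [← commutatorElement_inv]
        exact Subgroup.inv_mem _ (Subgroup.commutator_mem_commutator hu (Subgroup.mem_zpowers g))
      · rw [pow_succ']
        show val (act g (((act g - 1) ^ n) a) - ((act g - 1) ^ n) a) = _
        rw [map_commutatorElement, commutatorElement_def, ← hue, ← vact, ← div_eq_mul_inv]
        rfl
  have hshort : (((ρ (f g) : (AddMonoid.End A)ˣ) : AddMonoid.End A) - 1) ^ (p - 1) = 0 := by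
    rw [hρ]
    refine AddMonoidHom.ext fun a => hval ?_
    obtain ⟨u, hu, hue⟩ := hiter (p - 1) a
    exact hue.trans ((hπ _).2 (hit hu))
  have hpA : (p : AddMonoid.End A) = 0 := by
    refine AddMonoidHom.ext fun a => hval ?_
    obtain ⟨x, hx, hxa⟩ := (Additive.toMul a : ↥(X.map π)).2
    show val (((p : AddMonoid.End A)) a) = 1
    have h1 : ((p : AddMonoid.End A)) a = p • a := rfl
    rw [h1]
    show val a ^ p = 1
    rw [show val a = π x from hxa.symm, ← map_pow]
    exact (hπ _).2 (hel x hx)
  have hcomR := short_action_centralizes hpA (ρ (f g)) (R.map ρ)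
    (by rintro _ ⟨a, ha, rfl⟩ _ ⟨b, hb, rfl⟩; rw [← map_mul, ← map_mul, hab a ha b hb])
    (fun hd => hRp (hd.trans (Subgroup.card_map_dvd _ ρ)))
    (by
      rintro _ ⟨r, hr, rfl⟩
      exact ⟨f g * r * (f g)⁻¹, (inferInstance : R.Normal).conj_mem r hr _, by simp⟩) hshort
  haveI : (ρ.ker ⊓ R).Normal := Subgroup.normal_inf_normal _ _
  rcases hinv (ρ.ker ⊓ R) inf_le_right (by rw [Subgroup.normalizer_eq_top_iff.2 inferInstance]; exact le_top)
    with hM | hM
  · -- `g` centralizes the complement
    apply hgU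
    set P' : Sylow p (Γ ⧸ U) := S.mapSurjective (QuotientGroup.mk'_surjective U) with hP'
    have hP'map : (P' : Subgroup (Γ ⧸ U)) = (S : Subgroup Γ).map f := Sylow.coe_mapSurjective _ S
    set D := Subgroup.centralizer (R : Set (Γ ⧸ U)) ⊓ (P' : Subgroup (Γ ⧸ U)) with hD
    haveI : D.Normal := Subgroup.normalizer_eq_top_iff.1 (top_unique ((sylow_sup_pResidual P').symm.le.trans (sup_le
      (le_normalizer_inf_of_le
        (Subgroup.normalizer_eq_top (Subgroup.centralizer (R : Set (Γ ⧸ U))) ▸ le_top) Subgroup.le_normalizer)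
      (fun k hk => Subgroup.mem_normalizer_iff.2 fun d => by
        constructor
        · intro hd
          rwa [Subgroup.mem_centralizer_iff.1 hd.1 k hk, mul_inv_cancel_right]
        · intro hd
          have e := Subgroup.mem_centralizer_iff.1 hd.1 k hk
          have e' : k * d * k⁻¹ = d :=
            mul_left_cancel (a := k) (by rw [e]; group)
          rwa [e'] at hd))))
    have hW : IsPGroup p (D.comap f) :=
      (P'.isPGroup'.to_le inf_le_right).comap_of_ker_isPGroup f (by rw [hf, QuotientGroup.ker_mk']; exact hUp)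
    refine CfsgLib.Solv.le_pCore hW (Subgroup.mem_comap.2 ⟨?_, ?_⟩)
    · refine Subgroup.mem_centralizer_iff.2 fun r hr => ?_
      have hmem : ⁅f g, r⁆ ∈ ρ.ker ⊓ R := by
        refine ⟨?_, ?_⟩
        · show ρ ⁅f g, r⁆ = 1
          rw [map_commutatorElement, commutatorElement_def, mul_inv_eq_one]
          exact hcomR _ ⟨r, hr, rfl⟩
        · rw [commutatorElement_def]
          exact R.mul_mem ((inferInstance : R.Normal).conj_mem r hr _) (R.inv_mem hr)
      rw [hM, Subgroup.mem_bot, commutatorElement_eq_one_iff_commute] at hmem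
      exact hmem.eq.symm
    · rw [hP'map]; exact ⟨g, hgS, rfl⟩
  · -- the whole group induces a `p`-group on the factor
    apply hmove
    refine zpowers_comm_le fun x hx => ?_
    refine trivial_of_pgroup_on_chief (p := p) (K := ⊤) hc hXp (fun k _ => ?_) g (Subgroup.mem_top g) x hx
    have hp' : IsPGroup p ↥ρ.range := by
      have he : ρ.range = ((S : Subgroup Γ).map f).map ρ := by
        have h := sylow_sup_pResidual (S.mapSurjective (QuotientGroup.mk'_surjective U))
        rw [Sylow.coe_mapSurjective] at h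
        have hb : R.map ρ = ⊥ := (Subgroup.map_eq_bot_iff _).2 (inf_eq_right.1 hM)
        rw [MonoidHom.range_eq_map, ← h, Subgroup.map_sup, hb, sup_bot_eq]
      rw [he]
      exact (S.isPGroup'.map f).map ρ
    obtain ⟨n, hn⟩ := hp' ⟨ρ (f k), f k, rfl⟩
    refine ⟨n, fun y hy => (htriv _).1 ?_ y hy⟩
    rw [map_pow, ← hρ, ← Units.val_pow_eq_pow_val,
      show ρ (f k) ^ p ^ n = 1 from congrArg Subtype.val hn, Units.val_one]

end CfsgLib.Glau
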