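import Cfsg.Agent.Fus.ConstrainedGroup
import Cfsg.Agent.Fus.Normal

/-!
Constrained group systems modulo a central subgroup.
-/

set_option autoImplicit false
set_option linter.style.haveILetI false
set_option linter.unusedSectionVars false

open Cfsg Cfsg.FusionSystem
open scoped commutatorElement

namespace CfsgLib.Fus.ConstrainedCentral

variable {G : Type*} [Group G] [Finite G] {p : ℕ} [hp : Fact p.Prime]

theorem central_pPart_mem (S : Sylow p G) {z : G} (hz : z ∈ Subgroup.center G) {i : ℕ} (hi : z ^ p ^ i = 1) :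
    z ∈ (S : Subgroup G) := by
  haveI : (Subgroup.zpowers z).Normal := ⟨fun x hx g => by
    rw [Subgroup.mem_center_iff.1 ((Subgroup.zpowers_le.2 hz) hx) g, mul_inv_cancel_right]; exact hx⟩
  obtain ⟨j, -, hj⟩ := (Nat.dvd_prime_pow hp.out).1 (orderOf_dvd_of_pow_eq_one hi)
  exact (CfsgLib.Solv.le_pCore (IsPGroup.of_card (n := j) (by rw [Nat.card_zpowers, hj]))).trans
    (CfsgLib.Solv.pCore_le_sylow S) (Subgroup.mem_zpowers z)

theorem constrained_quotient (S : Sylow p G) (hF : (groupFusionSystem (S : Subgroup G)).IsConstrained p)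
    (Z : Subgroup G) [Z.Normal] (hZ : Z ≤ Subgroup.center G) :
    (groupFusionSystem ((S : Subgroup G).map (QuotientGroup.mk' Z))).IsConstrained p := by
  obtain ⟨hsat, Q, hQn, hQc⟩ := hF
  set π := QuotientGroup.mk' Z
  set T := (S : Subgroup G) with hT
  have hπ : Function.Surjective π := QuotientGroup.mk'_surjective Z
  set D := T ⊓ (Subgroup.centralizer ((Q.map π : Subgroup _) : Set (G ⧸ Z))).comap π with hD
  have hQT : Q ≤ T := hQn.1
  have hQself : T ⊓ Subgroup.centralizer (Q : Set G) ≤ Q :=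
    hQc.2 Q ⟨conjHom Q 1, ⟨hQT, fun x => by
        show (1 : G) * (x : G) * 1⁻¹ ∈ T
        rw [one_mul, inv_one, mul_one]; exact hQT x.2, 1, fun _ => rfl⟩, by
      ext z
      constructor
      · rintro ⟨x, rfl⟩
        show (1 : G) * (x : G) * 1⁻¹ ∈ Q
        rw [one_mul, inv_one, mul_one]; exact x.2
      · intro hz
        exact ⟨⟨z, hz⟩, show (1 : G) * z * 1⁻¹ = z by group⟩⟩
  have hDT : D ≤ T := inf_le_left
  have hDQ : ∀ d ∈ D, ∀ q ∈ Q, ⁅d, q⁆ ∈ Z := fun d hd q hq => by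
    refine (QuotientGroup.eq_one_iff _).1 ?_
    show π ⁅d, q⁆ = 1
    rw [map_commutatorElement, commutatorElement_eq_one_iff_mul_comm]
    exact (Subgroup.mem_centralizer_iff.1 hd.2 _ ⟨q, hq, rfl⟩).symm
  have hclosed : (groupFusionSystem T).StronglyClosed D := by
    refine ⟨hDT, fun R hR φ hφ x => ?_⟩
    obtain ⟨ψ, ⟨-, hψT, g', hg'⟩, hψe, hψQ⟩ := hQn.2 R φ hφ
    refine Subgroup.mem_inf.2 ⟨hφ.2.1 x, ?_⟩
    rw [← hψe x, hg']
    show π (g' * (x : G) * g'⁻¹) ∈ Subgroup.centralizer _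
    rw [Subgroup.mem_centralizer_iff]
    rintro _ ⟨q, hq, rfl⟩
    obtain ⟨⟨w, hwS⟩, hw, hwq⟩ : q ∈ (Q.subgroupOf (R ⊔ Q)).map ψ := by rw [hψQ]; exact hq
    rw [hg'] at hwq
    rw [← hwq]
    have h1 := Subgroup.mem_centralizer_iff.1 (hR x.2).2 _ ⟨w, hw, rfl⟩
    simp only [map_mul, map_inv]
    calc π g' * π w * (π g')⁻¹ * (π g' * π (x : G) * (π g')⁻¹)
        = π g' * (π w * π (x : G)) * (π g')⁻¹ := by group
      _ = π g' * (π (x : G) * π w) * (π g')⁻¹ := by rw [h1]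
      _ = _ := by group
  have hZT : ∀ z ∈ Z ⊓ T, z ∈ Q := fun z hz => hQself ⟨hz.2, Subgroup.mem_centralizer_iff.2 fun q _ =>
    Subgroup.mem_center_iff.1 (hZ hz.1) q⟩
  have hDnorm : (groupFusionSystem T).IsNormal D := by
    have h3 : ⁅⁅D, D⁆, Q⁆ = ⊥ := by
      have h1 : ⁅⁅D, Q⁆, D⁆ = ⊥ := by
        refine le_bot_iff.1 ((Subgroup.commutator_mono (H₂ := D) (K₁ := Z) (K₂ := D)
          (Subgroup.commutator_le.2 fun d hd q hq => hDQ d hd q hq) le_rfl).trans ?_)
        rw [le_bot_iff, Subgroup.commutator_eq_bot_iff_le_centralizer]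
        exact hZ.trans (Subgroup.center_le_centralizer _)
      refine Subgroup.commutator_commutator_eq_bot_of_rotate ?_ ?_
      · exact h1
      · rw [Subgroup.commutator_comm Q D]; exact h1
    let C : ℕ → Subgroup G := fun i =>
      if i = 0 then ⊥ else if i = 1 then (Z ⊓ T) else if i = 2 then (Q ⊓ D) else D
    have hZD : Z ⊓ T ≤ D := fun z hz => Subgroup.mem_inf.2 ⟨hz.2, by
      show π z ∈ Subgroup.centralizer _
      rw [show π z = 1 from (QuotientGroup.eq_one_iff z).2 hz.1]; exact one_mem _⟩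
    have hweak : ∀ U : Subgroup G, (groupFusionSystem T).StronglyClosed U → (groupFusionSystem T).WeaklyClosed U :=
      fun U hU => CfsgLib.Fus.stronglyClosed_weaklyClosed hU
    refine CfsgLib.Fus.normal_of_series S.isPGroup' hsat hclosed 3 C rfl rfl ?_ ?_ ?_
    · intro i hi
      rcases (show i = 0 ∨ i = 1 ∨ i = 2 ∨ i = 3 by omega) with rfl | rfl | rfl | rfl
      · exact bot_le
      · exact hZD
      · exact inf_le_right
      · exact le_rfl
    · intro i hi
      rcases (show i = 0 ∨ i = 1 ∨ i = 2 by omega) with rfl | rfl | rfl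
      · show ⁅Z ⊓ T, D⁆ ≤ ⊥
        rw [le_bot_iff, Subgroup.commutator_eq_bot_iff_le_centralizer]
        exact inf_le_left.trans (hZ.trans (Subgroup.center_le_centralizer _))
      · show ⁅Q ⊓ D, D⁆ ≤ Z ⊓ T
        rw [Subgroup.commutator_comm, Subgroup.commutator_le]
        intro d hd q hq
        refine Subgroup.mem_inf.2 ⟨hDQ d hd q hq.1, ?_⟩
        rw [commutatorElement_def]
        exact T.mul_mem (T.mul_mem (T.mul_mem (hDT hd) (hDT hq.2)) (T.inv_mem (hDT hd))) (T.inv_mem (hDT hq.2))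
      · show ⁅D, D⁆ ≤ Q ⊓ D
        refine le_inf ?_ (Subgroup.commutator_le.2 fun a ha b hb => by
          rw [commutatorElement_def]; exact D.mul_mem (D.mul_mem (D.mul_mem ha hb) (D.inv_mem ha)) (D.inv_mem hb))
        intro z hz
        refine hQself ⟨(Subgroup.commutator_le.2 fun a ha b hb => by
          rw [commutatorElement_def]; exact T.mul_mem (T.mul_mem (T.mul_mem (hDT ha) (hDT hb)) (T.inv_mem (hDT ha))) (T.inv_mem (hDT hb))) hz, ?_⟩
        exact Subgroup.commutator_eq_bot_iff_le_centralizer.1 h3 hz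
    · intro i hi
      rcases (show i = 0 ∨ i = 1 ∨ i = 2 by omega) with rfl | rfl | rfl
      · exact hweak ⊥ ⟨bot_le, fun R hR φ _ x => by
          have : x = 1 := Subtype.ext (Subgroup.mem_bot.1 (hR x.2))
          rw [this, map_one]; exact one_mem _⟩
      · exact hweak (Z ⊓ T) ⟨inf_le_right, fun R hR φ hφ x => by
          obtain ⟨g, hg⟩ := hφ.2.2
          refine Subgroup.mem_inf.2 ⟨?_, hφ.2.1 x⟩
          rw [hg]; exact Subgroup.Normal.conj_mem inferInstance _ (hR x.2).1 g⟩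
      · exact hweak (Q ⊓ D) ⟨inf_le_right.trans hDT, fun R hR φ hφ x => Subgroup.mem_inf.2
          ⟨(CfsgLib.Fus.isNormal_stronglyClosed hQn).2 R (hR.trans inf_le_left) φ hφ x,
            hclosed.2 R (hR.trans inf_le_right) φ hφ x⟩⟩
  let Sb := S.mapSurjective hπ
  have hpart : ∀ x ∈ T, ∀ g : G, π (g * x * g⁻¹) ∈ T.map π → g * x * g⁻¹ ∈ T := by
    intro x hx g hg
    obtain ⟨t, ht, hte⟩ := hg
    set z := t⁻¹ * (g * x * g⁻¹) with hzdef
    have hzZ : z ∈ Z := QuotientGroup.eq.1 hte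
    obtain ⟨i, hi⟩ := S.isPGroup' ⟨x, hx⟩
    obtain ⟨j, hj⟩ := S.isPGroup' ⟨t, ht⟩
    have hxi : x ^ p ^ i = 1 := congrArg Subtype.val hi
    have htj : t ^ p ^ j = 1 := congrArg Subtype.val hj
    have hcom : Commute t z := Subgroup.mem_center_iff.1 (hZ hzZ) t
    have he : g * x * g⁻¹ = t * z := by rw [hzdef]; group
    have h1 : (t * z) ^ p ^ (i + j) = 1 := by
      rw [← he, conj_pow, pow_add, pow_mul, hxi, one_pow, mul_one, mul_inv_cancel]
    rw [hcom.mul_pow, pow_add, mul_comm (p ^ i), pow_mul t, htj, one_pow, one_mul, mul_comm, ← pow_add] at h1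
    rw [he]
    exact mul_mem ht (central_pPart_mem S (hZ hzZ) h1)
  have hD'T : (D ⊔ Q).map π ≤ T.map π := Subgroup.map_mono (sup_le hDT hQT)
  have hnorm : (groupFusionSystem (T.map π)).IsNormal ((D ⊔ Q).map π) := by
    refine ⟨hD'T, ?_⟩
    rintro P φ ⟨hP, hφ, gb, hg⟩
    obtain ⟨g, rfl⟩ := hπ gb
    set R := P.comap π ⊓ T with hR
    have hRim : ∀ x ∈ R, g * x * g⁻¹ ∈ T := fun x hx => hpart x hx.2 g (by
      have h := hφ ⟨π x, hx.1⟩
      rw [hg] at h
      rw [map_mul, map_mul, map_inv]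
      exact h)
    obtain ⟨ψ1, hψ1m, hψ1e, hψ1D⟩ := hDnorm.2 R (conjHom R g) ⟨inf_le_right, fun x => hRim x x.2, g, fun _ => rfl⟩
    obtain ⟨ψ2, hψ2m, hψ2e, hψ2Q⟩ := hQn.2 (R ⊔ D) ψ1 hψ1m
    obtain ⟨-, hψ2T, g', hg'⟩ := hψ2m
    obtain ⟨-, -, g1, hg1⟩ := hψ1m
    have hagR : ∀ x ∈ R, g' * x * g'⁻¹ = g * x * g⁻¹ := fun x hx => by
      have h1 := hψ2e ⟨x, Subgroup.mem_sup_left hx⟩
      rw [hg'] at h1
      exact h1.trans (hψ1e ⟨x, hx⟩)
    have hD'mem : ∀ z ∈ D ⊔ Q, g' * z * g'⁻¹ ∈ D ⊔ Q := by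
      intro z hz
      have hD1 : D ≤ (D ⊔ Q).comap (MulAut.conj g').toMonoidHom := fun d hd => by
        have h1 := hψ2e ⟨d, Subgroup.mem_sup_right hd⟩
        rw [hg'] at h1
        show g' * d * g'⁻¹ ∈ D ⊔ Q
        rw [show g' * d * g'⁻¹ = ψ1 ⟨d, Subgroup.mem_sup_right hd⟩ from h1]
        refine Subgroup.mem_sup_left ?_
        exact hψ1D.le ⟨⟨d, Subgroup.mem_sup_right hd⟩, hd, rfl⟩
      have hQ1 : Q ≤ (D ⊔ Q).comap (MulAut.conj g').toMonoidHom := fun q hq => by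
        show g' * q * g'⁻¹ ∈ D ⊔ Q
        refine Subgroup.mem_sup_right ?_
        exact hψ2Q.le ⟨⟨q, Subgroup.mem_sup_right hq⟩, hq, hg' _⟩
      exact sup_le hD1 hQ1 hz
    have hPim : ∀ y ∈ P, ∃ x ∈ R, π x = y := by
      intro y hy
      obtain ⟨x, hx, rfl⟩ := hP hy
      exact ⟨x, ⟨hy, hx⟩, rfl⟩
    refine ⟨conjHom _ (π g'), ⟨sup_le hP hD'T, ?_, π g', fun _ => rfl⟩, ?_, ?_⟩
    · intro y
      show π g' * (y : G ⧸ Z) * (π g')⁻¹ ∈ T.map π
      have hle : P ⊔ (D ⊔ Q).map π ≤ (T.map π).comap (MulAut.conj (π g')).toMonoidHom := by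
        refine sup_le (fun y hy => ?_) ?_
        · obtain ⟨x, hx, rfl⟩ := hPim y hy
          show π g' * π x * (π g')⁻¹ ∈ T.map π
          rw [← map_inv, ← map_mul, ← map_mul, hagR x hx]
          exact ⟨_, hRim x hx, rfl⟩
        · rintro _ ⟨z, hz, rfl⟩
          show π g' * π z * (π g')⁻¹ ∈ T.map π
          rw [← map_inv, ← map_mul, ← map_mul]
          exact hD'T ⟨_, hD'mem z hz, rfl⟩
      exact hle y.2
    · intro y
      obtain ⟨x, hx, hxy⟩ := hPim y y.2
      rw [hg y]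
      show π g' * (y : G ⧸ Z) * (π g')⁻¹ = _
      rw [← hxy, ← map_inv, ← map_inv, ← map_mul, ← map_mul, ← map_mul, ← map_mul, hagR x hx]
    · refine Subgroup.eq_of_le_of_card_ge ?_ ?_
      · rintro _ ⟨w, ⟨z, hz, hzw⟩, rfl⟩
        show π g' * (w : G ⧸ Z) * (π g')⁻¹ ∈ _
        rw [show (w : G ⧸ Z) = π z from hzw.symm, ← map_inv, ← map_mul, ← map_mul]
        exact ⟨_, hD'mem z hz, rfl⟩
      · rw [Subgroup.card_map_of_injective (fun a b hab => Subtype.ext (mul_left_cancel (mul_right_cancel hab))),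
          Nat.card_congr (Subgroup.subgroupOfEquivOfLe le_sup_right).toEquiv]
  refine ⟨group_saturated Sb, (D ⊔ Q).map π, hnorm, hD'T, ?_⟩
  rintro Q' ⟨φ, hφ, rfl⟩
  have hsc := CfsgLib.Fus.isNormal_stronglyClosed hnorm
  have hrange : φ.range = (D ⊔ Q).map π := by
    refine Subgroup.eq_of_le_of_card_ge ?_ ?_
    · rintro _ ⟨x, rfl⟩
      exact hsc.2 _ le_rfl φ hφ x
    · rw [← Nat.card_congr (MonoidHom.ofInjective ((groupFusionSystem (T.map π)).injective_of_mem hφ)).toEquiv]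
  rw [hrange]
  rintro y ⟨⟨t, ht, rfl⟩, hy⟩
  refine ⟨t, Subgroup.mem_sup_left ⟨ht, ?_⟩, rfl⟩
  show π t ∈ Subgroup.centralizer _
  rw [Subgroup.mem_centralizer_iff]
  intro w hw
  exact Subgroup.mem_centralizer_iff.1 hy w (Subgroup.map_mono le_sup_right hw)

theorem main (S : Sylow p G) (hF : (groupFusionSystem (S : Subgroup G)).IsConstrained p) (L : Subgroup G)
    (hL : Cfsg.IsComponent L) :
    (groupFusionSystem (((S : Subgroup G).subgroupOf L).map (QuotientGroup.mk' (Subgroup.center L)))).IsConstrained p := by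
  have hc := CfsgLib.Fus.ConstrainedGroup.main S hF L hL.1
  obtain ⟨P, hP⟩ := CfsgLib.Inv.sylow_subnormal S hL.1
  have hPe : (P : Subgroup L) = (S : Subgroup G).subgroupOf L := by
    rw [← Subgroup.inf_subgroupOf_right, ← hP, Subgroup.subgroupOf,
      Subgroup.comap_map_eq_self_of_injective L.subtype_injective]
  rw [← hPe] at hc ⊢
  exact constrained_quotient P hc (Subgroup.center L) le_rfl

end CfsgLib.Fus.ConstrainedCentral
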