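import Cfsg.Agent.Fus.RealizedSystem
import Cfsg.Agent.Solv.CoprimeAction

/-!
The fusion system of a normal subgroup is a normal subsystem.
-/

set_option autoImplicit false
set_option linter.style.haveILetI false
set_option linter.unusedSectionVars false

open Cfsg Cfsg.FusionSystem
open scoped commutatorElement

namespace CfsgLib.Fus

variable {G : Type*} [Group G] [Finite G] {p : ℕ} [hp : Fact p.Prime]

/-- The system of a subgroup on one of its Sylow subgroups is saturated. -/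
theorem subgroupSystem_saturated {H T : Subgroup G} (hTH : T ≤ H)
    (hT : ∃ R : Sylow p H, (R : Subgroup H) = T.subgroupOf H) :
    (Cfsg.fusionSystemOfSubgroup H T hTH).IsSaturated p := by
  obtain ⟨R, hR⟩ := hT
  have e : Cfsg.fusionSystemOfSubgroup H T hTH =
      realized (Subgroup.inclusion hTH) (Subgroup.inclusion_injective hTH) := by
    refine system_ext fun P => Set.ext fun φ => ?_
    constructor
    · rintro ⟨hP, hφ, g, hgH, hg⟩
      exact ⟨hP, hφ, ⟨g, hgH⟩, fun x => Subtype.ext (hg x)⟩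
    · rintro ⟨hP, hφ, g, hg⟩
      exact ⟨hP, hφ, g, g.2, fun x => congrArg Subtype.val (hg x)⟩
  rw [e]
  exact realized_saturated _ _ R (hR.trans (Subgroup.inclusion_range hTH).symm)

/-- The intersection of a Sylow subgroup with a normal subgroup is Sylow in it. -/
theorem sylow_inf_normal_system (S : Sylow p G) (H : Subgroup G) [H.Normal] :
    ∃ R : Sylow p H, (R : Subgroup H) = ((S : Subgroup G) ⊓ H).subgroupOf H := by
  have hp0 : IsPGroup p (((S : Subgroup G) ⊓ H).subgroupOf H) :=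
    (S.isPGroup'.to_le inf_le_left).comap_of_injective _ H.subtype_injective
  refine ⟨hp0.toSylow ?_, rfl⟩
  intro hd
  have hd' : p ∣ (S : Subgroup G).relIndex H := by
    rw [← Subgroup.inf_relIndex_right]; exact hd
  have h1 := CfsgLib.Solv.card_sup_mul_card_inf (S : Subgroup G) H
  have h2 : Nat.card ↥((S : Subgroup G) ⊓ H) * (S : Subgroup G).relIndex H = Nat.card H := by
    rw [← Subgroup.inf_relIndex_right (S : Subgroup G) H, ← Subgroup.relIndex_bot_left, ← Subgroup.relIndex_bot_left,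
      Subgroup.relIndex_mul_relIndex _ _ _ bot_le inf_le_right]
  rw [← h2, show Nat.card ↥(S : Subgroup G) * (Nat.card ↥((S : Subgroup G) ⊓ H) * (S : Subgroup G).relIndex H) =
    (Nat.card ↥(S : Subgroup G) * (S : Subgroup G).relIndex H) * Nat.card ↥((S : Subgroup G) ⊓ H) by ring,
    Nat.mul_left_inj Nat.card_pos.ne'] at h1
  refine S.not_dvd_index (hd'.trans ?_)
  have h3 : Nat.card ↥((S : Subgroup G) ⊔ H) ∣ Nat.card G := Subgroup.card_subgroup_dvd_card _
  rw [h1, ← Subgroup.card_mul_index (S : Subgroup G)] at h3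
  exact Nat.dvd_of_mul_dvd_mul_left Nat.card_pos h3

theorem normalSubgroup_system (S : Sylow p G) (H : Subgroup G) [hH : H.Normal] :
    (Cfsg.fusionSystemOfSubgroup H ((S : Subgroup G) ⊓ H) inf_le_right).IsNormalIn
      (Cfsg.groupFusionSystem (S : Subgroup G)) p := by
  classical
  obtain ⟨R, hR⟩ := sylow_inf_normal_system S H
  set T := (S : Subgroup G) ⊓ H with hT
  have hTS : T ≤ (S : Subgroup G) := inf_le_left
  have hautF : ∀ α : MulAut T, α ∈ (Cfsg.groupFusionSystem (S : Subgroup G)).autGroup T →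
      ∃ a : G, ∀ x ∈ T, autFun α x = a * x * a⁻¹ := fun α hα => by
    rw [autGroup_group hTS] at hα
    obtain ⟨a, -, ha⟩ := mem_autInducedBy.1 hα
    exact ⟨a, ha⟩
  refine ⟨⟨subgroupSystem_saturated _ ⟨R, hR⟩, group_saturated S, ?_, ⟨hTS, ?_⟩, ?_, ?_⟩, ?_⟩
  · rintro P φ ⟨hP, hφ, g, -, hg⟩
    exact ⟨hP.trans hTS, fun x => hTS (hφ x), g, hg⟩
  · rintro P hP φ ⟨-, hφ, g, hg⟩ x
    refine Subgroup.mem_inf.2 ⟨hφ x, ?_⟩
    rw [hg x]
    exact hH.conj_mem _ (Subgroup.mem_inf.1 (hP x.2)).2 g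
  · rintro P hPT φ ⟨-, hφ, h, hhH, hφh⟩ α hα
    obtain ⟨a, ha⟩ := hautF α hα
    set P' := (P.subgroupOf T).map (T.subtype.comp α.toMonoidHom) with hP'
    have hmem : ∀ x' : P', (a * h * a⁻¹) * (x' : G) * (a * h * a⁻¹)⁻¹ ∈ T := by
      rintro ⟨_, x, hx, rfl⟩
      show (a * h * a⁻¹) * ((α x : T) : G) * (a * h * a⁻¹)⁻¹ ∈ T
      rw [← autFun_of_mem α x.2, ha x x.2,
        show (a * h * a⁻¹) * (a * (x : G) * a⁻¹) * (a * h * a⁻¹)⁻¹ = a * (h * x * h⁻¹) * a⁻¹ by group]
      have h1 := hφ ⟨x, hx⟩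
      rw [hφh] at h1
      rw [← ha _ h1]
      exact autFun_mem α h1
    refine ⟨conjHom P' (a * h * a⁻¹), ⟨?_, hmem, a * h * a⁻¹, hH.conj_mem h hhH a, fun _ => rfl⟩, fun x hφx hαx => ?_⟩
    · rintro _ ⟨x, -, rfl⟩
      exact (α x).2
    · show (a * h * a⁻¹) * ((α ⟨x, hPT x.2⟩ : T) : G) * (a * h * a⁻¹)⁻¹ = _
      rw [← autFun_of_mem α (hPT x.2), ← autFun_of_mem α hφx, ha _ (hPT x.2), ha _ hφx, hφh]
      group
  · rintro P hPT φ ⟨hPS, hφ, g, hg⟩
    have hN : Subgroup.normalizer (T : Set G) ⊔ H = ⊤ := by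
      have h := Sylow.normalizer_sup_eq_top (N := H) R
      rwa [hR, Subgroup.map_subgroupOf_eq_of_le inf_le_right] at h
    obtain ⟨m, hm, n, hn, hgm⟩ := CfsgLib.Solv.exists_mul_of_mem_sup (M := H)
      (le_top.trans (Subgroup.normalizer_eq_top_iff.2 hH).ge) (show g⁻¹ ∈ Subgroup.normalizer (T : Set G) ⊔ H by
        rw [hN]; exact Subgroup.mem_top _)
    have hgeq : g = n⁻¹ * m⁻¹ := by rw [← mul_inv_rev, ← hgm, inv_inv]
    let α : MulAut T := T.normalizerMonoidHom ⟨n⁻¹, inv_mem hn⟩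
    have hα : ∀ x ∈ T, autFun α x = n⁻¹ * x * n⁻¹⁻¹ := fun x hx => normalizerMonoidHom_autFun _ hx
    have hφT : ∀ x : P, φ x ∈ T := fun x => Subgroup.mem_inf.2 ⟨hφ x, by
      rw [hg x]; exact hH.conj_mem _ (Subgroup.mem_inf.1 (hPT x.2)).2 g⟩
    refine ⟨α, ?_, conjHom P m⁻¹, ⟨hPT, fun x => ?_, m⁻¹, inv_mem hm, fun _ => rfl⟩, fun x hx => ?_⟩
    · rw [autGroup_group hTS]
      exact mem_autInducedBy.2 ⟨n⁻¹, Subgroup.mem_top _, hα⟩
    · show m⁻¹ * (x : G) * m⁻¹⁻¹ ∈ T
      have h2 := conj_mem_of_normalizer hn (hφT x)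
      rw [hg x, hgeq] at h2
      simpa [mul_assoc] using h2
    · rw [← autFun_of_mem α hx, hα _ hx, hg x, hgeq]
      show _ = n⁻¹ * (m⁻¹ * (x : G) * m⁻¹⁻¹) * n⁻¹⁻¹
      group
  · intro α hα
    obtain ⟨hTT, -, h, hhH, hh⟩ := (mem_autGroup le_rfl).1 hα |>.hom_mem (φ := T.subtype.comp α.toMonoidHom)
      (fun x => (autFun_apply α x).symm)
    have hhconj : ∀ x : T, ((α x : T) : G) = h * (x : G) * h⁻¹ := hh
    have hhN : h ∈ Subgroup.normalizer (T : Set G) := Subgroup.mem_normalizer_fintype fun x hx => by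
      rw [← hhconj ⟨x, hx⟩]; exact (α ⟨x, hx⟩).2
    set C := centralizerIn (S : Subgroup G) T with hC
    set CH := H ⊓ Subgroup.centralizer (T : Set G) with hCH
    have hCN : Subgroup.normalizer (T : Set G) ≤ Subgroup.normalizer (CH : Set G) := fun n hn =>
      Subgroup.mem_normalizer_fintype fun c hc => Subgroup.mem_inf.2 ⟨hH.conj_mem c (Subgroup.mem_inf.1 hc).1 n,
        conj_mem_of_normalizer (centralizer_normalized T hn) (Subgroup.mem_inf.1 hc).2⟩
    have hCle : C ≤ Subgroup.normalizer (CH : Set G) :=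
      (inf_le_right.trans (Subgroup.centralizer_le_normalizer _)).trans hCN
    set X := C ⊔ CH with hX
    have hXc : X ≤ Subgroup.centralizer (T : Set G) := sup_le inf_le_right inf_le_right
    set M := Subgroup.normalizer (CH : Set G) with hM
    have hXM : X ≤ M := sup_le hCle Subgroup.le_normalizer
    -- `C` is a Sylow subgroup of `X`
    have hCHT : CH ⊓ C = T ⊓ CH := by
      ext y
      simp only [hT, hC, hCH, centralizerIn, Subgroup.mem_inf]
      tauto
    have hidxT : ¬ p ∣ (T ⊓ CH).relIndex CH := by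
      intro hd
      rw [Subgroup.inf_relIndex_right] at hd
      haveI : (T.subgroupOf (Subgroup.normalizer (T : Set G))).Normal := Subgroup.normal_subgroupOf_of_le_normalizer le_rfl
      have hCHN : CH ≤ Subgroup.normalizer (T : Set G) := inf_le_right.trans (Subgroup.centralizer_le_normalizer _)
      have h1 := Subgroup.relIndex_sup_right (H := CH.subgroupOf (Subgroup.normalizer (T : Set G)))
        (K := T.subgroupOf (Subgroup.normalizer (T : Set G)))
      rw [← Subgroup.subgroupOf_sup hCHN Subgroup.le_normalizer, Subgroup.relIndex_subgroupOf (sup_le hCHN Subgroup.le_normalizer),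
        Subgroup.relIndex_subgroupOf hCHN] at h1
      have h2 : T.relIndex (CH ⊔ T) ∣ T.relIndex H :=
        Dvd.intro _ (Subgroup.relIndex_mul_relIndex T (CH ⊔ T) H le_sup_right (sup_le inf_le_left inf_le_right))
      refine R.not_dvd_index ?_
      rw [hR]
      exact (h1 ▸ hd).trans h2
    have hidxX : ¬ p ∣ (C.subgroupOf X).index := by
      intro hd
      haveI : (CH.subgroupOf M).Normal := Subgroup.normal_subgroupOf_of_le_normalizer le_rfl
      have h1 := CfsgLib.Solv.card_sup_mul_card_inf (C.subgroupOf M) (CH.subgroupOf M)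
      rw [← Subgroup.subgroupOf_sup hCle Subgroup.le_normalizer] at h1
      have hsub : ∀ {A : Subgroup G}, A ≤ M → Nat.card ↥(A.subgroupOf M) = Nat.card A := fun hA =>
        Nat.card_congr (Subgroup.subgroupOfEquivOfLe hA).toEquiv
      have e3 : (C.subgroupOf M) ⊓ (CH.subgroupOf M) = (C ⊓ CH).subgroupOf M := rfl
      rw [e3] at h1
      rw [hsub hXM, hsub hCle, hsub Subgroup.le_normalizer,
        hsub (inf_le_left.trans hCle)] at h1
      have h2 : Nat.card X = Nat.card C * C.relIndex X := by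
        rw [← Subgroup.relIndex_bot_left, ← Subgroup.relIndex_bot_left,
          Subgroup.relIndex_mul_relIndex _ _ _ bot_le le_sup_left]
      have h3 : Nat.card CH = Nat.card ↥(C ⊓ CH) * (C ⊓ CH).relIndex CH := by
        rw [← Subgroup.relIndex_bot_left, ← Subgroup.relIndex_bot_left,
          Subgroup.relIndex_mul_relIndex _ _ _ bot_le inf_le_right]
      rw [h2, h3, show Nat.card ↥C * C.relIndex X * Nat.card ↥(C ⊓ CH) = Nat.card ↥C * Nat.card ↥(C ⊓ CH) * C.relIndex X by ring,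
        ← mul_assoc, Nat.mul_right_inj (Nat.mul_ne_zero Nat.card_pos.ne' Nat.card_pos.ne'), inf_comm, hCHT] at h1
      exact hidxT (h1 ▸ hd)
    have hCp : IsPGroup p (C.subgroupOf X) := (S.isPGroup'.to_le inf_le_left).comap_of_injective _ X.subtype_injective
    -- the conjugate of `C`
    have hhX : h ∈ Subgroup.normalizer (CH : Set G) := hCN hhN
    have hC'le : C.map (MulAut.conj h).toMonoidHom ≤ X := by
      rintro _ ⟨c, hc, rfl⟩
      show h * c * h⁻¹ ∈ X
      rw [show h * c * h⁻¹ = ⁅h, c⁆ * c by rw [commutatorElement_def]; group]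
      refine mul_mem (Subgroup.mem_sup_right (Subgroup.mem_inf.2 ⟨?_, ?_⟩)) (Subgroup.mem_sup_left hc)
      · rw [commutatorElement_def, mul_assoc h, mul_assoc h]
        exact mul_mem hhH (hH.conj_mem _ (inv_mem hhH) c)
      · rw [commutatorElement_def]
        exact mul_mem (conj_mem_of_normalizer (centralizer_normalized T hhN) (Subgroup.mem_inf.1 hc).2)
          (inv_mem (Subgroup.mem_inf.1 hc).2)
    obtain ⟨U, hU⟩ := ((((S.isPGroup'.to_le inf_le_left : IsPGroup p C)).map (MulAut.conj h).toMonoidHom).comap_of_injective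
      _ X.subtype_injective).exists_le_sylow
    obtain ⟨y, hy⟩ := MulAction.exists_smul_eq ↥X U (hCp.toSylow hidxX)
    obtain ⟨o, ho, c0, hc0, hyc⟩ := CfsgLib.Solv.exists_mul_of_mem_sup hCle y.2
    -- `o ∈ C_H(T)` conjugated back
    set o' := c0⁻¹ * o * c0 with ho'
    have ho'CH : o' ∈ CH := by
      have := conj_mem_of_normalizer (inv_mem (hCle hc0)) ho
      simpa [ho', mul_assoc] using this
    set h' := o' * h with hh'
    have hh'H : h' ∈ H := mul_mem (Subgroup.mem_inf.1 ho'CH).1 hhH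
    have hh'C : ∀ c ∈ C, h' * c * h'⁻¹ ∈ C := by
      intro c hc
      have h1 : (⟨h * c * h⁻¹, hC'le ⟨c, hc, rfl⟩⟩ : X) ∈ (U : Subgroup X) := hU ⟨c, hc, rfl⟩
      have h2 : y * (⟨h * c * h⁻¹, hC'le ⟨c, hc, rfl⟩⟩ : X) * y⁻¹ ∈ (hCp.toSylow hidxX : Subgroup X) := by
        rw [← hy]; exact ⟨_, h1, rfl⟩
      have h3 : (y : G) * (h * c * h⁻¹) * (y : G)⁻¹ ∈ C := h2
      have h4 := mul_mem (mul_mem (inv_mem hc0) h3) hc0
      rw [hyc] at h4
      simpa [hh', ho', mul_assoc] using h4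
    have hh'T : ∀ x ∈ T, h' * x * h'⁻¹ = h * x * h⁻¹ := by
      intro x hx
      have h1 := Subgroup.mem_centralizer_iff.1 (Subgroup.mem_inf.1 ho'CH).2 _ (conj_mem_of_normalizer hhN hx)
      rw [hh', show o' * h * x * (o' * h)⁻¹ = o' * (h * x * h⁻¹) * o'⁻¹ by group, ← h1, mul_inv_cancel_right]
    have hh'N : h' ∈ Subgroup.normalizer ((T ⊔ C : Subgroup G) : Set G) := Subgroup.mem_normalizer_fintype fun x hx => by
      have hle : T ⊔ C ≤ (T ⊔ C).comap (MulAut.conj h').toMonoidHom := sup_le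
        (fun z hz => Subgroup.mem_sup_left (show h' * z * h'⁻¹ ∈ T from (hh'T z hz).symm ▸ conj_mem_of_normalizer hhN hz))
        (fun z hz => Subgroup.mem_sup_right (hh'C z hz))
      exact hle hx
    refine ⟨(T ⊔ C).normalizerMonoidHom ⟨h', hh'N⟩, ?_, fun x => ?_, fun c hc => ?_⟩
    · rw [autGroup_group (sup_le hTS (inf_le_left : C ≤ (S : Subgroup G)) : T ⊔ C ≤ (S : Subgroup G))]
      exact mem_autInducedBy.2 ⟨h', Subgroup.mem_top _, fun z hz => normalizerMonoidHom_autFun _ hz⟩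
    · show h' * (x : G) * h'⁻¹ = _
      rw [hh'T x x.2, hhconj]
    · show (c : G)⁻¹ * (h' * (c : G) * h'⁻¹) ∈ T ⊓ Subgroup.centralizer (T : Set G)
      have h5 := mul_mem (inv_mem hc) (hh'C c hc)
      refine Subgroup.mem_inf.2 ⟨Subgroup.mem_inf.2 ⟨(Subgroup.mem_inf.1 h5).1, ?_⟩, (Subgroup.mem_inf.1 h5).2⟩
      rw [← mul_assoc, ← mul_assoc, show (c : G)⁻¹ * h' * c = (c : G)⁻¹ * h' * (c : G)⁻¹⁻¹ by group]
      exact mul_mem (hH.conj_mem _ hh'H _) (inv_mem hh'H)

end CfsgLib.Fus
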