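import Cfsg.Agent.Fus.ConstrainedSubnormal
import Cfsg.Agent.Fus.NormalSubgroupSystem
import Cfsg.Agent.Inv.CharPLocal

/-!
Constrained group systems pass to subnormal subgroups.
-/

set_option autoImplicit false
set_option linter.style.haveILetI false
set_option linter.unusedSectionVars false

open Cfsg Cfsg.FusionSystem

namespace CfsgLib.Fus.ConstrainedGroup

variable {G : Type*} [Group G] [Finite G] {p : ℕ} [hp : Fact p.Prime]

theorem constrained_inf (S : Sylow p G) (hF : (Cfsg.groupFusionSystem (S : Subgroup G)).IsConstrained p) :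
    ∀ H : Subgroup G, H.IsSubnormal →
      (Cfsg.fusionSystemOfSubgroup H ((S : Subgroup G) ⊓ H) inf_le_right).IsConstrained p := by
  intro H hH
  have hsat : ∀ L : Subgroup G, L.IsSubnormal →
      (Cfsg.fusionSystemOfSubgroup L ((S : Subgroup G) ⊓ L) inf_le_right).IsSaturated p := by
    intro L hL
    obtain ⟨P, hP⟩ := CfsgLib.Inv.sylow_subnormal S hL
    refine subgroupSystem_saturated _ ⟨P, ?_⟩
    rw [← hP, Subgroup.subgroupOf, Subgroup.comap_map_eq_self_of_injective L.subtype_injective]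
  induction hH with
  | top =>
    refine constrained_sub S.isPGroup' hF (hsat ⊤ .top) ?_ ⟨inf_le_left, ?_⟩
    · rintro P φ ⟨hP, hφ, g, -, hg⟩
      exact ⟨hP.trans inf_le_left, fun x => (Subgroup.mem_inf.1 (hφ x)).1, g, hg⟩
    · rintro R hR φ ⟨-, hφ, -⟩ x
      exact Subgroup.mem_inf.2 ⟨hφ x, Subgroup.mem_top _⟩
  | step L K hLK hK hN ih =>
    refine constrained_sub (S.isPGroup'.to_le inf_le_left) ih (hsat L (.step L K hLK hK hN)) ?_
      ⟨inf_le_inf_left _ hLK, ?_⟩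
    · rintro P φ ⟨hP, hφ, g, hgL, hg⟩
      exact ⟨hP.trans (inf_le_inf_left _ hLK), fun x => inf_le_inf_left _ hLK (hφ x), g, hLK hgL, hg⟩
    · rintro R hR φ ⟨-, hφ, g, hgK, hg⟩ x
      refine Subgroup.mem_inf.2 ⟨(Subgroup.mem_inf.1 (hφ x)).1, ?_⟩
      rw [hg x]
      exact hN.conj_mem ⟨(x : G), hLK (Subgroup.mem_inf.1 (hR x.2)).2⟩
        (Subgroup.mem_inf.1 (hR x.2)).2 ⟨g, hgK⟩

/-- The system of a subgroup read inside that subgroup. -/
theorem constrained_subgroupOf (H T : Subgroup G) (hTH : T ≤ H)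
    (hT : ∃ R : Sylow p H, (R : Subgroup H) = T.subgroupOf H)
    (hF : (Cfsg.fusionSystemOfSubgroup H T hTH).IsConstrained p) :
    (Cfsg.groupFusionSystem (T.subgroupOf H)).IsConstrained p := by
  obtain ⟨R, hR⟩ := hT
  obtain ⟨-, Q, ⟨hQT, hQn⟩, -, hQc⟩ := hF
  have hQH : Q ≤ H := hQT.trans hTH
  refine ⟨by rw [← hR]; exact group_saturated R, Q.subgroupOf H, ⟨fun x hx => hQT hx, ?_⟩,
    fun x hx => hQT hx, ?_⟩
  · rintro P φ ⟨hP, hφ, g, hg⟩
    have hP' : P.map H.subtype ≤ T := by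
      rintro _ ⟨x, hx, rfl⟩
      exact hP hx
    obtain ⟨ψ, ⟨hψT, hψm, g', hg'H, hψg⟩, hψe, hψQ⟩ := hQn (P.map H.subtype) (conjHom (P.map H.subtype) (g : G))
      ⟨hP', (by
        rintro ⟨_, x, hx, rfl⟩
        show (g : G) * (x : G) * (g : G)⁻¹ ∈ T
        have h := hφ ⟨x, hx⟩
        rw [hg] at h
        exact h), g, g.2, fun _ => rfl⟩
    have hag : ∀ x ∈ P, g' * ((x : H) : G) * g'⁻¹ = (g : G) * (x : G) * (g : G)⁻¹ := by
      intro x hx
      have h := hψe ⟨(x : G), ⟨x, hx, rfl⟩⟩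
      rw [hψg] at h
      exact h
    have hQim : ∀ z ∈ Q, g' * z * g'⁻¹ ∈ Q := by
      intro z hz
      rw [← hψQ]
      exact ⟨⟨z, Subgroup.mem_sup_right hz⟩, hz, hψg _⟩
    have hmemT : ∀ x : ↥(P ⊔ Q.subgroupOf H), g' * ((x : H) : G) * g'⁻¹ ∈ T := by
      intro x
      have hx : ((x : H) : G) ∈ P.map H.subtype ⊔ Q := by
        have h1 := Subgroup.mem_map_of_mem H.subtype x.2
        rw [Subgroup.map_sup, Subgroup.map_subgroupOf_eq_of_le hQH] at h1
        exact h1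
      have := hψm ⟨_, hx⟩
      rwa [hψg] at this
    refine ⟨conjHom _ ⟨g', hg'H⟩, ⟨sup_le hP fun x hx => hQT hx, hmemT, ⟨g', hg'H⟩, fun _ => rfl⟩, ?_, ?_⟩
    · intro x
      rw [hg x]
      exact Subtype.ext (hag x x.2)
    · ext z
      constructor
      · rintro ⟨w, hw, rfl⟩
        exact hQim _ hw
      · intro hz
        rw [Subgroup.mem_subgroupOf] at hz
        have hz' : (z : G) ∈ (Q.subgroupOf (P.map H.subtype ⊔ Q)).map ψ := by rw [hψQ]; exact hz
        obtain ⟨⟨w, hwPQ⟩, hw, hwz⟩ := hz'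
        refine ⟨⟨⟨w, hQH hw⟩, Subgroup.mem_sup_right hw⟩, hw, Subtype.ext ?_⟩
        rw [hψg] at hwz
        exact hwz
  · rintro Q' ⟨φ, ⟨-, hφ, g, hg⟩, rfl⟩ y hy
    obtain ⟨hyT, hyC⟩ := Subgroup.mem_inf.1 hy
    have hQH' : ∀ x : Q, (g : G) * (x : G) * (g : G)⁻¹ ∈ T := fun x => by
      have h := hφ ⟨⟨x, hQH x.2⟩, x.2⟩
      rw [hg] at h
      exact h
    have h := hQc (conjHom Q (g : G)).range ⟨conjHom Q (g : G), ⟨hQT, hQH', g, g.2, fun _ => rfl⟩, rfl⟩
      (x := (y : G)) (Subgroup.mem_inf.2 ⟨hyT, Subgroup.mem_centralizer_iff.2 (by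
        rintro _ ⟨x, rfl⟩
        have h1 := Subgroup.mem_centralizer_iff.1 hyC (φ ⟨⟨x, hQH x.2⟩, x.2⟩) ⟨_, rfl⟩
        rw [hg] at h1
        exact congrArg Subtype.val h1)⟩)
    obtain ⟨x, hx⟩ := h
    refine ⟨⟨⟨x, hQH x.2⟩, x.2⟩, ?_⟩
    rw [hg]
    exact Subtype.ext hx

theorem main (S : Sylow p G) (hF : (Cfsg.groupFusionSystem (S : Subgroup G)).IsConstrained p) (H : Subgroup G)
    (hH : H.IsSubnormal) : (Cfsg.groupFusionSystem ((S : Subgroup G).subgroupOf H)).IsConstrained p := by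
  rw [← Subgroup.inf_subgroupOf_right]
  refine constrained_subgroupOf H _ inf_le_right ?_ (constrained_inf S hF H hH)
  obtain ⟨P, hP⟩ := CfsgLib.Inv.sylow_subnormal S hH
  exact ⟨P, by rw [← hP, Subgroup.subgroupOf, Subgroup.comap_map_eq_self_of_injective H.subtype_injective]⟩

end CfsgLib.Fus.ConstrainedGroup
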