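import Cfsg.Agent.Fus.Normal
import Cfsg.Agent.Fus.Group

/-!
Passing to the quotient by a strongly closed subgroup in a saturated system.
-/

set_option autoImplicit false
set_option linter.style.haveILetI false

open Cfsg Cfsg.FusionSystem
open scoped Pointwise

namespace CfsgLib.Fus

variable {Ω : Type*} [Group Ω] {S : Subgroup Ω} {p : ℕ}

/-- A Frattini factorisation inside the automorphism group of a fully automized subgroup. -/
theorem frattini_aut [Finite S] [Fact p.Prime] {F : FusionSystem S} {R : Subgroup Ω}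
    (hA : F.IsFullyAutomized p R) (K : Subgroup (MulAut R))
    (hKn : ∀ α ∈ F.autGroup R, ∀ κ ∈ K, α * κ * α⁻¹ ∈ K) {α : MulAut R} (hα : α ∈ F.autGroup R) :
    ∃ β ∈ F.autGroup R, ∃ κ ∈ K, α = β * κ ∧
      ∀ γ ∈ autInducedBy S R, γ ∈ K → β * γ * β⁻¹ ∈ autInducedBy S R := by
  haveI := finite_mulAut hA.1
  obtain ⟨Rs, hRs⟩ := hA.2
  haveI : (K.subgroupOf (F.autGroup R)).Normal := ⟨fun a ha b => hKn b b.2 a ha⟩
  set KA := K.subgroupOf (F.autGroup R)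
  have hRsTop : SylowIn p (Rs : Subgroup ↥(F.autGroup R)) ⊤ :=
    (sylowIn_iff Rs.isPGroup' le_top).2 (by rw [Subgroup.relIndex_top_right]; exact Rs.not_dvd_index)
  obtain ⟨U, hU⟩ := sylowIn_inf hRsTop le_top (le_top (a := KA))
    ((Subgroup.normalizer_eq_top_iff.2 (inferInstance : KA.Normal)).symm ▸ le_top)
  have hUmap : (U : Subgroup ↥KA).map KA.subtype = (Rs : Subgroup ↥(F.autGroup R)) ⊓ KA := by
    rw [hU, Subgroup.subgroupOf_map_subtype, inf_assoc, inf_idem]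
  have hmem : (⟨α, hα⟩ : ↥(F.autGroup R)) ∈
      Subgroup.normalizer (((U : Subgroup ↥KA).map KA.subtype : Subgroup _) : Set ↥(F.autGroup R)) ⊔ KA :=
    (U.normalizer_sup_eq_top).symm ▸ Subgroup.mem_top _
  obtain ⟨b, hb, k, hk, hbk⟩ := Subgroup.mem_sup_of_normal_right.1 hmem
  refine ⟨b, b.2, k, hk, (congrArg Subtype.val hbk).symm, fun γ hγ hγK => ?_⟩
  have hγ' : (⟨γ, autInducedBy_le_autGroup hA.1 hγ⟩ : ↥(F.autGroup R)) ∈
      (U : Subgroup ↥KA).map KA.subtype := by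
    rw [hUmap, hRs]; exact ⟨hγ, hγK⟩
  have h1 := (Subgroup.mem_normalizer_iff.1 hb _).1 hγ'
  rw [hUmap, hRs] at h1
  exact h1.1

/-- An automorphism normalizing the relevant part of `Aut_S(R)` extends. -/
theorem extend_aut {F : FusionSystem S} {R N : Subgroup Ω} (hR : F.IsReceptive R) {β : MulAut R}
    (hβ : β ∈ F.autGroup R) (hN : N ≤ normalizerIn S R)
    (h : ∀ g ∈ N, ∀ γ : MulAut R, (∀ x ∈ R, autFun γ x = g * x * g⁻¹) → β * γ * β⁻¹ ∈ autInducedBy S R) :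
    ∃ f, IsMap F (R ⊔ N) f ∧ ∀ x ∈ R, f x = autFun β x := by
  refine extend hR ((mem_autGroup hR.1).1 hβ) (img_autFun β) fun g hg => ?_
  obtain ⟨γ, -, hγe⟩ := exists_autInducedBy (K := S) (hN hg).1 (hN hg).2
  obtain ⟨s, hs, hse⟩ := mem_autInducedBy.1 (h g hg γ hγe)
  refine ⟨(hN hg).1, (hN hg).2, s, hs, fun x hx => ?_⟩
  have h1 := hse _ (autFun_mem β hx)
  rw [autFun_conj _ _ (autFun_mem β hx), autFun_inv_apply' β hx, hγe x hx] at h1
  exact h1

/-- The maps that lift to maps on the product with `T` agreeing modulo `T`. -/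
def quotSystem [Finite S] (F : FusionSystem S) {T : Subgroup Ω} (hT : F.StronglyClosed T) : FusionSystem S where
  Hom P := {φ | φ ∈ F.Hom P ∧ ∃ g, IsMap F (P ⊔ T) g ∧ ∀ x : P, (φ x)⁻¹ * g x ∈ T}
  le_of_mem h := F.le_of_mem h.1
  injective_of_mem h := F.injective_of_mem h.1
  conj_mem := by
    intro P a hP ha
    refine ⟨F.conj_mem hP ha, conjF a, IsMap.conj F (sup_le hP hT.1) ha, fun x => ?_⟩
    show (a * (x : Ω) * a⁻¹)⁻¹ * (a * x * a⁻¹) ∈ T
    rw [inv_mul_cancel]; exact T.one_mem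
  comp_mem := by
    rintro P Q φ ψ ⟨hφ, g, hg, hge⟩ ⟨hψ, k, hk, hke⟩ h
    refine ⟨F.comp_mem hφ hψ h, k ∘ g, ?_, fun x => ?_⟩
    · refine hg.comp hk fun x hx => ?_
      refine img_le_iff.1 ?_ x hx
      rw [hg.img_sup le_sup_left le_sup_right]
      refine sup_le (img_le_iff.2 fun y hy => ?_) (img_le_iff.2 fun t ht => le_sup_right (a := Q)
        ((stronglyClosed_iff.1 hT).2 _ g hg t (le_sup_right (a := P) ht) ht))
      have h1 := Subgroup.mul_mem_sup (h ⟨y, hy⟩) (hge ⟨y, hy⟩)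
      rwa [mul_inv_cancel_left] at h1
    · have hφQ : φ x ∈ Q ⊔ T := le_sup_left (b := T) (h x)
      have ht : (φ x)⁻¹ * g x ∈ Q ⊔ T := le_sup_right (a := Q) (hge x)
      show (ψ ⟨φ x, h x⟩)⁻¹ * k (g x) ∈ T
      rw [show g (x : Ω) = φ x * ((φ x)⁻¹ * g x) by rw [mul_inv_cancel_left], hk.map_mul hφQ ht,
        ← mul_assoc]
      exact T.mul_mem (hke ⟨φ x, h x⟩) ((stronglyClosed_iff.1 hT).2 _ k hk _ ht (hge x))
  inv_mem := by
    rintro P φ ⟨hφ, g, hg, hge⟩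
    obtain ⟨ψ, hψ, hψe⟩ := F.inv_mem hφ
    obtain ⟨g', hg', hgl, -, -⟩ := hg.inv
    have hTc := (stronglyClosed_iff.1 hT).2
    haveI := finite_of_le hT.1
    have hgT : img g T = T :=
      Subgroup.eq_of_le_of_card_ge (img_le_iff.2 fun t ht => hTc _ g hg t (le_sup_right (a := P) ht) ht)
        (hg.mono le_sup_right).card_img.ge
    have himg : img g (P ⊔ T) = φ.range ⊔ T := by
      rw [hg.img_sup le_sup_left le_sup_right, hgT]
      refine le_antisymm (sup_le (img_le_iff.2 fun x hx => ?_) le_sup_right) (sup_le ?_ le_sup_right)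
      · have h0 : φ ⟨x, hx⟩ ∈ φ.range := ⟨⟨x, hx⟩, rfl⟩
        have h1 := Subgroup.mul_mem_sup h0 (hge ⟨x, hx⟩)
        rwa [mul_inv_cancel_left] at h1
      · rintro _ ⟨x, rfl⟩
        have h1 := Subgroup.mul_mem_sup (mem_img_of_mem (f := g) x.2) (T.inv_mem (hge x))
        rwa [mul_inv_rev, inv_inv, mul_inv_cancel_left] at h1
    rw [himg] at hg'
    refine ⟨ψ, ⟨hψ, g', hg', ?_⟩, hψe⟩
    rintro ⟨_, x, rfl⟩
    rw [hψe x]
    show (x : Ω)⁻¹ * g' (φ x) ∈ T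
    have ht : ((φ x)⁻¹ * g x) ∈ φ.range ⊔ T := le_sup_right (a := φ.range) (hge x)
    have h1 : g' (φ x) * g' ((φ x)⁻¹ * g x) = x := by
      rw [← hg'.map_mul (le_sup_left (b := T) ⟨x, rfl⟩) ht, mul_inv_cancel_left, hgl _ (le_sup_left (b := T) x.2)]
    have h2 : (x : Ω)⁻¹ * g' (φ x) = (g' ((φ x)⁻¹ * g x))⁻¹ := by
      rw [eq_inv_iff_mul_eq_one, mul_assoc, h1, inv_mul_cancel]
    rw [h2]
    exact T.inv_mem (hTc _ g' hg' _ ht (hge x))

/-- Every map lifts to the product with a strongly closed subgroup, up to that subgroup. -/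
theorem exists_quot_map [Finite S] [Fact p.Prime] {F : FusionSystem S} (hS : IsPGroup p S)
    (hF : F.IsSaturated p) {T : Subgroup Ω} (hT : F.StronglyClosed T) {P : Subgroup Ω} {f : Ω → Ω}
    (hf : IsMap F P f) : ∃ g, IsMap F (P ⊔ T) g ∧ ∀ x ∈ P, (f x)⁻¹ * g x ∈ T := by
  suffices hle : F ≤ quotSystem F hT by
    obtain ⟨φ, ⟨-, g, hg, hge⟩, hφf⟩ := le_iff.1 hle P f hf
    exact ⟨g, hg, fun x hx => hφf ⟨x, hx⟩ ▸ hge ⟨x, hx⟩⟩
  refine fusion_induction hS hF _ fun R hR big α hα => (mem_autGroup hR.1).2 ?_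
  have hαm := (mem_autGroup hR.1).1 hα
  obtain ⟨φ, hφ, hφe⟩ := id hαm
  suffices hex : ∃ g, IsMap F (R ⊔ T) g ∧ ∀ x ∈ R, (autFun α x)⁻¹ * g x ∈ T by
    obtain ⟨g, hg, hge⟩ := hex
    exact ⟨φ, ⟨hφ, g, hg, fun x => (hφe x).symm ▸ hge x x.2⟩, hφe⟩
  by_cases hTR : T ≤ R
  · exact ⟨autFun α, hαm.mono (sup_le le_rfl hTR), fun x _ => by rw [inv_mul_cancel]; exact T.one_mem⟩
  have hTc := (stronglyClosed_iff.1 hT).2
  have hTn := stronglyClosed_normal hT
  have hinv : ∀ β ∈ F.autGroup R, ∀ y ∈ R, y ∈ T → autFun β y ∈ T := fun β hβ y hyR hyT =>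
    autFun_mem_of_stronglyClosed hT hR.1 hβ hyR hyT
  let K : Subgroup (MulAut R) :=
    { carrier := {κ | κ ∈ F.autGroup R ∧ ∀ y ∈ R, y⁻¹ * autFun κ y ∈ T}
      one_mem' := ⟨Subgroup.one_mem _, fun y hy => by
        rw [autFun_one hy, inv_mul_cancel]; exact T.one_mem⟩
      mul_mem' := by
        rintro κ μ ⟨hκA, hκ⟩ ⟨hμA, hμ⟩
        refine ⟨Subgroup.mul_mem _ hκA hμA, fun y hy => ?_⟩
        have h1 := T.mul_mem (hκ y hy) (hinv κ hκA _ (R.mul_mem (R.inv_mem hy) (autFun_mem μ hy)) (hμ y hy))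
        rw [autFun_map_mul κ (R.inv_mem hy) (autFun_mem μ hy), autFun_map_inv κ hy] at h1
        rw [autFun_mul _ _ hy]
        simpa [mul_assoc] using h1
      inv_mem' := by
        rintro κ ⟨hκA, hκ⟩
        refine ⟨Subgroup.inv_mem _ hκA, fun y hy => ?_⟩
        have h1 := hinv κ⁻¹ (Subgroup.inv_mem _ hκA) _
          (R.inv_mem (R.mul_mem (R.inv_mem hy) (autFun_mem κ hy))) (T.inv_mem (hκ y hy))
        rw [mul_inv_rev, inv_inv, autFun_map_mul _ (R.inv_mem (autFun_mem κ hy)) hy,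
          autFun_map_inv _ (autFun_mem κ hy), autFun_inv_apply' κ hy] at h1
        exact h1 }
  have hKn : ∀ β ∈ F.autGroup R, ∀ κ ∈ K, β * κ * β⁻¹ ∈ K := by
    rintro β hβ κ ⟨hκA, hκ⟩
    refine ⟨Subgroup.mul_mem _ (Subgroup.mul_mem _ hβ hκA) (Subgroup.inv_mem _ hβ), fun y hy => ?_⟩
    have hy' := autFun_mem β⁻¹ hy
    have h1 := hinv β hβ _ (R.mul_mem (R.inv_mem hy') (autFun_mem κ hy')) (hκ _ hy')
    rw [autFun_map_mul β (R.inv_mem hy') (autFun_mem κ hy'), autFun_map_inv β hy',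
      autFun_inv_apply β hy] at h1
    rw [autFun_conj _ _ hy]
    exact h1
  obtain ⟨hA, hrec⟩ := fullyNormalized_spec hS hF hR
  obtain ⟨β, hβ, κ, hκ, hακ, hβN⟩ := frattini_aut hA K hKn hα
  obtain ⟨f', hf', hfe⟩ := extend_aut hrec hβ (N := T ⊓ normalizerIn S R) inf_le_right fun g hg γ hγ => by
    have hγA : γ ∈ autInducedBy S R := mem_autInducedBy.2 ⟨g, hg.2.1, hγ⟩
    refine hβN γ hγA ⟨autInducedBy_le_autGroup hR.1 hγA, fun y hy => ?_⟩
    rw [hγ y hy]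
    have h1 := T.mul_mem (conj_mem_of_normalizer' (hTn (hR.1 hy)) hg.1) (T.inv_mem hg.1)
    simpa [mul_assoc] using h1
  have hlt : R < R ⊔ T ⊓ normalizerIn S R := lt_of_le_of_ne le_sup_left fun h =>
    hTR (le_of_normalizer_le hS hR.1 hT.1 hTn fun x hx hxn =>
      h.ge (le_sup_right (a := R) ⟨hx, hT.1 hx, hxn⟩))
  have hle' : R ⊔ T ⊓ normalizerIn S R ≤ S :=
    sup_le hR.1 (inf_le_left.trans hT.1)
  obtain ⟨φ', ⟨-, g, hg, hge⟩, hφ'⟩ := big _ hle' (card_lt_of_lt hle' hlt) f' hf'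
  refine ⟨g, hg.mono (sup_le (le_sup_left.trans le_sup_left) le_sup_right), fun x hx => ?_⟩
  have h1 : (autFun β x)⁻¹ * g x ∈ T := by
    have := hge ⟨x, le_sup_left (b := T ⊓ normalizerIn S R) hx⟩
    rw [hφ', hfe x hx] at this
    exact this
  have ht : x⁻¹ * autFun κ x ∈ T := hκ.2 x hx
  have h2 := hinv β hβ _ (R.mul_mem (R.inv_mem hx) (autFun_mem κ hx)) ht
  rw [autFun_map_mul β (R.inv_mem hx) (autFun_mem κ hx), autFun_map_inv β hx, ← autFun_mul β κ hx,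
    ← hακ] at h2
  have h3 := T.mul_mem (T.inv_mem h2) h1
  simpa [mul_assoc] using h3

theorem stronglyClosed_sup [Finite S] [Fact p.Prime] {F : FusionSystem S} (hS : IsPGroup p S)
    (hF : F.IsSaturated p) {T U : Subgroup Ω} (hT : F.StronglyClosed T) (hU : U ≤ S)
    (hUc : ∀ (P : Subgroup Ω) (g : Ω → Ω), IsMap F (P ⊔ T) g → ∀ y ∈ P ⊔ T, y ∈ U → g y ∈ T ⊔ U) :
    F.StronglyClosed (T ⊔ U) := by
  refine stronglyClosed_iff.2 ⟨sup_le hT.1 hU, fun P f hf x hxP hx => ?_⟩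
  obtain ⟨g, hg, hge⟩ := exists_quot_map hS hF hT hf
  obtain ⟨u, hu, t, ht, hut⟩ : x ∈ (U : Set Ω) * (T : Set Ω) := by
    rw [← Subgroup.coe_mul_of_left_le_normalizer_right U T (hU.trans (stronglyClosed_normal hT)), sup_comm]
    exact hx
  have htP : t ∈ P ⊔ T := le_sup_right (a := P) ht
  have hxPT : x ∈ P ⊔ T := le_sup_left (b := T) hxP
  have huP : u ∈ P ⊔ T := by
    have := (P ⊔ T).mul_mem hxPT ((P ⊔ T).inv_mem htP)
    rwa [← show u * t = x from hut, mul_inv_cancel_right] at this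
  have h1 : g x ∈ T ⊔ U := by
    rw [← show u * t = x from hut, hg.map_mul huP htP]
    exact Subgroup.mul_mem _ (hUc P g hg u huP hu)
      (le_sup_left (b := U) ((stronglyClosed_iff.1 hT).2 _ g hg t htP ht))
  have h2 := Subgroup.mul_mem _ h1 (Subgroup.inv_mem _ (le_sup_left (b := U) (hge x hxP)))
  rwa [mul_inv_rev, inv_inv, mul_inv_cancel_left] at h2

end CfsgLib.Fus
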