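import Cfsg.Agent.Fus.Centric
import Cfsg.Agent.Fus.Normal
import Cfsg.Agent.Fus.NormalizerSystem
import Cfsg.Agent.Fus.Quotient
import Cfsg.Agent.Fus.WeakClosureCenter
import Cfsg.Prelude.Def_FusionComponents

/-!
Saturated subsystems over strongly closed subgroups of a constrained system are constrained.
-/

set_option autoImplicit false
set_option linter.style.haveILetI false

open Cfsg Cfsg.FusionSystem
open scoped commutatorElement

namespace CfsgLib.Fus

variable {Ω : Type*} [Group Ω] {S T : Subgroup Ω} {F : FusionSystem S} {E : FusionSystem T} {p : ℕ}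

theorem constrained_sub [Finite S] [hp : Fact p.Prime] (hS : IsPGroup p S) (hF : F.IsConstrained p)
    (hEs : E.IsSaturated p) (hsub : E.IsSubsystemOf F) (hT : F.StronglyClosed T) : E.IsConstrained p := by
  classical
  obtain ⟨hsat, Q, hQn, hQc⟩ := hF
  haveI := finite_of_le hT.1
  haveI := finite_of_le hQn.1
  haveI := finite_mulAut hQn.1
  have hTp := hS.to_le hT.1
  have hQcl := isNormal_stronglyClosed hQn
  have hQext := (isNormal_iff.1 hQn).2
  have hQS := stronglyClosed_normal hQcl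
  have hup : ∀ {P : Subgroup Ω} {f : Ω → Ω}, IsMap E P f → IsMap F P f := fun {P f} ⟨φ, hφ, he⟩ => ⟨φ, hsub P hφ, he⟩
  have hTS := stronglyClosed_normal hT
  -- the stabilizer of `Q ⊇ T ⊓ Q ⊇ 1` inside `S`
  set Y := T ⊓ Q with hY
  let K : Subgroup (MulAut Q) :=
    { carrier := {κ | κ ∈ F.autGroup Q ∧ (∀ y ∈ Q, y⁻¹ * autFun κ y ∈ Y) ∧ ∀ y ∈ Y, autFun κ y = y}
      one_mem' := ⟨Subgroup.one_mem _, fun y hy => by rw [autFun_one hy, inv_mul_cancel]; exact Y.one_mem,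
        fun y hy => autFun_one hy.2⟩
      mul_mem' := by
        rintro κ μ ⟨hκA, hκ, hκ'⟩ ⟨hμA, hμ, hμ'⟩
        refine ⟨Subgroup.mul_mem _ hκA hμA, fun y hy => ?_, fun y hy => ?_⟩
        · rw [autFun_mul _ _ hy]
          have h := Y.mul_mem (hμ y hy) (hκ _ (autFun_mem μ hy))
          rwa [mul_assoc, mul_inv_cancel_left] at h
        · rw [autFun_mul _ _ hy.2, hμ' y hy, hκ' y hy]
      inv_mem' := by
        rintro κ ⟨hκA, hκ, hκ'⟩
        refine ⟨Subgroup.inv_mem _ hκA, fun y hy => ?_, fun y hy => ?_⟩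
        · have h := Y.inv_mem (hκ _ (autFun_mem κ⁻¹ hy))
          rwa [autFun_inv_apply κ hy, mul_inv_rev, inv_inv] at h
        · conv_lhs => rw [← hκ' y hy]
          exact autFun_inv_apply' κ hy.2 }
  have hYinv : ∀ α ∈ F.autGroup Q, ∀ y ∈ Y, autFun α y ∈ Y := fun α hα y hy =>
    Subgroup.mem_inf.2 ⟨autFun_mem_of_stronglyClosed hT hQn.1 hα hy.2 hy.1, autFun_mem α hy.2⟩
  have hKn : ∀ α ∈ F.autGroup Q, ∀ κ ∈ K, α * κ * α⁻¹ ∈ K := by
    rintro α hα κ ⟨hκA, hκ, hκ'⟩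
    refine ⟨Subgroup.mul_mem _ (Subgroup.mul_mem _ hα hκA) (Subgroup.inv_mem _ hα), fun y hy => ?_, fun y hy => ?_⟩
    · have hy' := autFun_mem α⁻¹ hy
      have h1 := hYinv α hα _ (hκ _ hy')
      rw [autFun_map_mul α (Q.inv_mem hy') (autFun_mem κ hy'), autFun_map_inv α hy', autFun_inv_apply α hy] at h1
      rwa [autFun_conj _ _ hy]
    · rw [autFun_conj _ _ hy.2, hκ' _ (hYinv α⁻¹ (Subgroup.inv_mem _ hα) y hy), autFun_inv_apply α hy.2]
  have hKp : IsPGroup p K := isPGroup_of_ppow _ fun γ hγ =>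
    ppow_eq_one_of_series (hS.to_le hQn.1) γ 1 (fun j => if j = 0 then (Y : Set Ω) else (Q : Set Ω))
      (fun y hy => by simpa using hy) ⟨0, fun y hy hy0 => by
        rw [pow_zero, pow_one]; exact hγ.2.2 y (by simpa using hy0)⟩
      fun j hj y hy _ => by
        interval_cases j
        simpa using hγ.2.1 y hy
  have hfn : F.IsFullyNormalized Q := ⟨hQn.1, fun R hR => by
    obtain ⟨f, hf, hfi⟩ := isConj_iff.1 hR
    obtain ⟨g, -, hge, hgQ⟩ := hQext Q f hf
    rw [show R = Q by rw [← hfi]; exact (img_congr fun x hx => (hge x hx).symm).trans hgQ]⟩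
  have hKS : ∀ κ ∈ K, ∃ s ∈ S, ∀ y ∈ Q, autFun κ y = s * y * s⁻¹ := by
    intro κ hκ
    obtain ⟨U, hU⟩ := (fullyNormalized_spec hS hsat hfn).1.2
    haveI : (K.comap (F.autGroup Q).subtype).Normal := ⟨fun a ha b => hKn b b.2 a ha⟩
    have h1 := (hKp.comap_of_injective (F.autGroup Q).subtype (Subgroup.subtype_injective _)).le_sylow_of_normal U
    have h2 : (⟨κ, hκ.1⟩ : ↥(F.autGroup Q)) ∈ (U : Subgroup _) := h1 (show (⟨κ, hκ.1⟩ : ↥(F.autGroup Q)) ∈ K.subgroupOf _ from hκ)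
    rw [hU] at h2
    exact mem_autInducedBy.1 (Subgroup.mem_subgroupOf.1 h2)
  let D : Subgroup Ω :=
    { carrier := {x | x ∈ S ∧ (∀ y ∈ Q, y⁻¹ * (x * y * x⁻¹) ∈ Y) ∧ ∀ y ∈ Y, x * y * x⁻¹ = y}
      one_mem' := ⟨S.one_mem, fun y hy => by simp, fun y _ => by simp⟩
      mul_mem' := by
        rintro a b ⟨ha, ha1, ha2⟩ ⟨hb, hb1, hb2⟩
        refine ⟨S.mul_mem ha hb, fun y hy => ?_, fun y hy => ?_⟩
        · have hby : b * y * b⁻¹ ∈ Q := conj_mem_of_normalizer (hQS hb) hy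
          have h := Y.mul_mem (hb1 y hy) (ha1 _ hby)
          simpa [mul_assoc] using h
        · rw [show a * b * y * (a * b)⁻¹ = a * (b * y * b⁻¹) * a⁻¹ by group, hb2 y hy, ha2 y hy]
      inv_mem' := by
        rintro a ⟨ha, ha1, ha2⟩
        refine ⟨S.inv_mem ha, fun y hy => ?_, fun y hy => ?_⟩
        · have h := Y.inv_mem (ha1 _ (conj_mem_of_normalizer (hQS (S.inv_mem ha)) hy))
          simpa [mul_assoc] using h
        · conv_lhs => rw [← ha2 y hy]
          group }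
  have hDmem : ∀ x, x ∈ D ↔ x ∈ S ∧ (∀ y ∈ Q, y⁻¹ * (x * y * x⁻¹) ∈ Y) ∧ ∀ y ∈ Y, x * y * x⁻¹ = y := fun x => Iff.rfl
  have hDS : D ≤ S := fun x hx => hx.1
  -- conjugation by `D` is transported by maps defined around `Q`
  have htrans : ∀ {P : Subgroup Ω} {g : Ω → Ω}, IsMap F P g → Q ≤ P → img g Q = Q → ∀ x ∈ P, x ∈ D → g x ∈ D := by
    intro P g hg hQP hgQ x hxP hx
    have hgm := hg.mono hQP
    obtain ⟨β, hβ, hβe⟩ := exists_aut hgm hgQ
    refine ⟨hg.mem hxP, fun y hy => ?_, fun y hy => ?_⟩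
    · obtain ⟨u, hu, rfl⟩ := hgm.mem_img.1 (hgQ.ge hy)
      have hc := hx.2.1 u hu
      rw [← hg.map_conj hxP (hQP hu), ← hg.map_inv (hQP hu),
        ← hg.map_mul (Subgroup.inv_mem _ (hQP hu)) (hQP (conj_mem_of_normalizer (hQS hx.1) hu)), ← hβe _ hc.2]
      exact hYinv β hβ _ hc
    · have hy' := hYinv β⁻¹ (Subgroup.inv_mem _ hβ) y hy
      have e : y = g (autFun β⁻¹ y) := by rw [← hβe _ hy'.2, autFun_inv_apply β hy.2]
      rw [e, ← hg.map_conj hxP (hQP hy'.2), hx.2.2 _ hy']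
  have hDc : F.StronglyClosed D := stronglyClosed_iff.2 ⟨hDS, fun P f hf x hxP hx => by
    obtain ⟨g, hg, hge, hgQ⟩ := hQext P f hf
    rw [← hge x hxP]
    exact htrans hg le_sup_right hgQ x (Subgroup.mem_sup_left hxP) hx⟩
  have hcentral : ∀ z ∈ Q, (∀ y ∈ Q, y * z = z * y) → z ∈ D := fun z hz hzc =>
    ⟨hQn.1 hz, fun y hy => by rw [← hzc y hy, mul_inv_cancel_right, inv_mul_cancel]; exact Y.one_mem,
      fun y hy => by rw [← hzc y hy.2, mul_inv_cancel_right]⟩
  have hDn : F.IsNormal D := by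
    refine normal_of_closed hS hsat hDc fun P hc hr => ?_
    have hQP := normal_le_centric_radical hS hQn hc hr
    refine le_of_normalizer_le hS hc.1 hDS (stronglyClosed_normal hDc) fun x hx hxn => ?_
    obtain ⟨κ, hκ, hκe⟩ := exists_autInducedBy (K := D ⊓ Subgroup.normalizer (P : Set Ω)) ⟨hx, hxn⟩ hxn
    haveI := finite_of_le hc.1
    refine mem_of_centric_radical hc hr (autInducedBy (D ⊓ Subgroup.normalizer (P : Set Ω)) P)
      ((autInducedBy_mono (inf_le_left.trans hDS)).trans (autInducedBy_le_autGroup hc.1))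
      (isPGroup_autInducedBy (hS.to_le (inf_le_left.trans hDS))) (fun α hα γ hγ => ?_) hx.1 hκ hκe
    obtain ⟨a, ⟨haD, han⟩, hae⟩ := mem_autInducedBy.1 hγ
    set δ := α * γ * α⁻¹ with hδ
    have hγA : γ ∈ F.autGroup P :=
      ((autInducedBy_mono (inf_le_left.trans hDS)).trans (autInducedBy_le_autGroup hc.1)) hγ
    have hδA : δ ∈ F.autGroup P := Subgroup.mul_mem _ (Subgroup.mul_mem _ hα hγA) (Subgroup.inv_mem _ hα)
    have hδm := (mem_autGroup hc.1).1 hδA
    have hQi : ∀ β ∈ F.autGroup P, ∀ y ∈ Q, autFun β y ∈ Q := fun β hβ y hy =>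
      autFun_mem_of_stronglyClosed hQcl hc.1 hβ (hQP hy) hy
    have himg : img (autFun δ) Q = Q := Subgroup.eq_of_le_of_card_ge
      (img_le_iff.2 fun y hy => hQi δ hδA y hy) (hδm.mono hQP).card_img.ge
    obtain ⟨θ, hθ, hθe⟩ := exists_aut (hδm.mono hQP) himg
    have hαY : ∀ y ∈ Y, autFun α y ∈ Y := fun y hy => Subgroup.mem_inf.2
      ⟨autFun_mem_of_stronglyClosed hT hc.1 hα (hQP hy.2) hy.1, hQi α hα y hy.2⟩
    have hθK : θ ∈ K := by
      refine ⟨hθ, fun y hy => ?_, fun y hy => ?_⟩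
      · have hy' := hQi α⁻¹ (Subgroup.inv_mem _ hα) y hy
        have hyP := hQP hy'
        have h1 := hαY _ (haD.2.1 _ hy')
        rw [autFun_map_mul α (P.inv_mem hyP) (conj_mem_of_normalizer han hyP), autFun_map_inv α hyP,
          autFun_inv_apply α (hQP hy)] at h1
        rwa [hθe y hy, hδ, autFun_conj _ _ (hQP hy), hae _ hyP]
      · have hy' : autFun α⁻¹ y ∈ Y := Subgroup.mem_inf.2
          ⟨autFun_mem_of_stronglyClosed hT hc.1 (Subgroup.inv_mem _ hα) (hQP hy.2) hy.1,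
            hQi α⁻¹ (Subgroup.inv_mem _ hα) y hy.2⟩
        rw [hθe y hy.2, hδ, autFun_conj _ _ (hQP hy.2), hae _ (hQP hy'.2), haD.2.2 _ hy',
          autFun_inv_apply α (hQP hy.2)]
    obtain ⟨s, hs, hse⟩ := hKS θ hθK
    have hsD : s ∈ D := ⟨hs, fun y hy => by rw [← hse y hy]; exact hθK.2.1 y hy,
      fun y hy => by rw [← hse y hy.2]; exact hθK.2.2 y hy⟩
    obtain ⟨z, hz, hzc, hze⟩ := centric_agree hS hsat hQP hQc (IsMap.conj F hc.1 hs) hδm
      fun y hy => by rw [conjF_apply, ← hse y hy, hθe y hy]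
    have hmem : s * z ∈ D := D.mul_mem hsD (hcentral z hz hzc)
    refine mem_autInducedBy.2 ⟨s * z, ⟨hmem, ?_⟩, fun y hy => ?_⟩
    · refine Subgroup.mem_normalizer_fintype fun y hy => ?_
      have h := hze y hy
      rw [conjF_apply] at h
      show s * z * y * (s * z)⁻¹ ∈ P
      rw [show s * z * y * (s * z)⁻¹ = s * (z * y * z⁻¹) * s⁻¹ by group, ← h]
      exact autFun_mem δ hy
    · have h := hze y hy
      rw [conjF_apply] at h
      rw [h]; group
  -- `D` lies in the core, hence centralizing elements of `T` lie in the core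
  set W := F.core with hW
  have hWn := isNormal_core (F := F)
  have hDW : D ≤ W := le_core hDn
  have hQW : Q ≤ W := le_core hQn
  have hWcl := isNormal_stronglyClosed hWn
  haveI : Finite ↥(T ⊓ W) := finite_of_le (inf_le_left.trans hT.1)
  refine ⟨hEs, T ⊓ W, ?_, inf_le_left, fun R hR => ?_⟩
  · refine normal_of_closed hTp hEs (stronglyClosed_iff.2 ⟨inf_le_left, fun P f hf x hxP hx => Subgroup.mem_inf.2
      ⟨hf.mem hxP, (stronglyClosed_iff.1 hWcl).2 P f (hup hf) x hxP hx.2⟩⟩) fun P hc hr => ?_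
    refine le_of_normalizer_le hTp hc.1 inf_le_left
      (fun t ht => Subgroup.mem_normalizer_fintype fun y hy => Subgroup.mem_inf.2
        ⟨T.mul_mem (T.mul_mem ht hy.1) (T.inv_mem ht), conj_mem_of_normalizer (stronglyClosed_normal hWcl (hT.1 ht)) hy.2⟩)
      fun x hxQ hxn => ?_
    haveI := finite_of_le hc.1
    obtain ⟨κ, hκ, hκe⟩ := exists_autInducedBy (K := T ⊓ W ⊓ Subgroup.normalizer (P : Set Ω)) ⟨hxQ, hxn⟩ hxn
    refine mem_of_centric_radical hc hr (autInducedBy (T ⊓ W ⊓ Subgroup.normalizer (P : Set Ω)) P)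
      ((autInducedBy_mono (inf_le_left.trans inf_le_left)).trans (autInducedBy_le_autGroup hc.1))
      (isPGroup_autInducedBy (hTp.to_le (inf_le_left.trans inf_le_left))) (fun α hα β hβ => ?_) hxQ.1 hκ hκe
    obtain ⟨a, ⟨haQ, han⟩, hae⟩ := mem_autInducedBy.1 hβ
    have hαm := hup ((mem_autGroup hc.1).1 hα)
    obtain ⟨g, hg, hge, hgQ⟩ := (isNormal_iff.1 hWn).2 P _ hαm
    have haQ' : a ∈ P ⊔ W := Subgroup.mem_sup_right haQ.2
    have hP' : img g P = P := (img_congr hge).trans (img_autFun α)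
    refine mem_autInducedBy.2 ⟨g a, ⟨⟨(stronglyClosed_iff.1 hT).2 _ g hg a haQ' haQ.1,
      hgQ.le (mem_img_of_mem haQ.2)⟩, ?_⟩, fun y hy => ?_⟩
    · have := hg.map_normalizer le_sup_left haQ' han
      rwa [hP'] at this
    · have hy' := autFun_mem α⁻¹ hy
      rw [autFun_conj _ _ hy, hae _ hy', ← hge _ (conj_mem_of_normalizer han hy'),
        hg.map_conj haQ' (le_sup_left (b := W) hy'), hge _ hy', autFun_inv_apply α hy]
  · obtain ⟨f, hf, hfi⟩ := isConj_iff.1 hR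
    have hRe : R = T ⊓ W := by
      rw [← hfi]
      refine Subgroup.eq_of_le_of_card_ge (img_le_iff.2 fun y hy => Subgroup.mem_inf.2
        ⟨hf.mem hy, (stronglyClosed_iff.1 hWcl).2 _ f (hup hf) y hy hy.2⟩) ?_
      exact hf.card_img.ge
    rw [hRe]
    intro x hx
    refine Subgroup.mem_inf.2 ⟨hx.1, hDW ⟨hT.1 hx.1, fun y hy => ?_, fun y hy => ?_⟩⟩
    · refine Subgroup.mem_inf.2 ⟨?_, Q.mul_mem (Q.inv_mem hy) (conj_mem_of_normalizer (hQS (hT.1 hx.1)) hy)⟩
      have h := T.mul_mem (conj_mem_of_normalizer (hTS (S.inv_mem (hQn.1 hy))) hx.1) (T.inv_mem hx.1)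
      simpa [mul_assoc] using h
    · rw [← Subgroup.mem_centralizer_iff.1 (Subgroup.mem_inf.1 hx).2 y (Subgroup.mem_inf.2 ⟨hy.1, hQW hy.2⟩),
        mul_inv_cancel_right]

theorem constrained_of_subnormal_aux (hE : E.IsSubnormalIn F p) :
    Fact p.Prime → Finite S → IsPGroup p S → F.IsConstrained p → E.IsConstrained p := by
  induction hE with
  | refl => exact fun _ _ _ h => h
  | @step U S E D F p hED hDF ih =>
    intro hp hfin hS hF
    obtain ⟨⟨hDs, -, hinv⟩, -⟩ := hDF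
    exact ih hp (finite_of_le hinv.2.1.1) (hS.to_le hinv.2.1.1) (constrained_sub hS hF hDs hinv.1 hinv.2.1)

theorem constrained_of_subnormal [hfin : Finite S] [hp : Fact p.Prime] (hS : IsPGroup p S) (hF : F.IsConstrained p)
    (hE : E.IsSubnormalIn F p) : E.IsConstrained p :=
  constrained_of_subnormal_aux hE hp hfin hS hF

end CfsgLib.Fus
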