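import Cfsg.Agent.Fus.SystemSaturation
import Cfsg.Agent.Fus.InnerCriteria
import Cfsg.Agent.S1988

/-!
For odd primes a saturated system that is not inner has a constrained subsystem that is not inner.
-/

set_option autoImplicit false
set_option linter.style.haveILetI false

open Cfsg Cfsg.FusionSystem

namespace CfsgLib.Fus

universe u

variable {Ω : Type u} [Group Ω] {S : Subgroup Ω} {F : FusionSystem S} {p : ℕ}

/-- Membership in a system cut out by a class of maps. -/
theorem isMap_extSystem_iff {Q T : Subgroup Ω} {hQ : Q ≤ S} {hT : T ≤ S} {C : (Ω → Ω) → Prop}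
    {hC : ExtCond F Q T C} (P : Subgroup Ω) (f : Ω → Ω) :
    IsMap (extSystem F Q T hQ hT C hC) P f ↔ IsMap F P f ∧ P ≤ T ∧ (∀ x ∈ P, f x ∈ T) ∧
      ∃ g, IsMap F (P ⊔ Q) g ∧ (∀ x ∈ P, g x = f x) ∧ C g := by
  constructor
  · rintro ⟨φ, ⟨hφ, hP, hφT, ψ, hψ, hψe, hψC⟩, hφf⟩
    refine ⟨⟨φ, hφ, hφf⟩, hP, fun x hx => ?_, ev ψ, IsMap.of_hom hψ, fun x hx => ?_, hψC⟩
    · rw [← hφf ⟨x, hx⟩]; exact hφT _
    · rw [← hφf ⟨x, hx⟩, ← hψe ⟨x, hx⟩]
      exact ev_of_mem ψ (le_sup_left (b := Q) hx)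
  · rintro ⟨⟨φ, hφ, hφf⟩, hP, hfT, g, hg, hge, hgC⟩
    obtain ⟨ψ, hψ, hψg⟩ := hg
    refine ⟨φ, ⟨hφ, hP, fun x => by rw [hφf]; exact hfT x x.2, ψ, hψ,
      fun x => (hψg _).trans ((hge x x.2).trans (hφf x).symm),
      hC.congr (fun x hx => ?_) hgC⟩, hφf⟩
    exact ((ev_of_mem ψ (le_sup_right (a := P) hx)).trans (hψg _)).symm

/-- Reading back the K-infinity subgroup of the image of an injection. -/
theorem comap_kInf {R : Subgroup Ω} [Finite R] {L : Type u} [Group L] [Finite L] (ι : ↥R →* L)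
    (hinj : Function.Injective ι) :
    ((inducedFunctor kInfLower ι.range).comap ι).map R.subtype = inducedFunctor kInfLower R := by
  have h := (CfsgLib.KInf.kInf_map_equiv (MonoidHom.ofInjective hinj)).1
  show _ = (kInfLower ↥R).map R.subtype
  congr 1
  ext x
  constructor
  · rintro ⟨y, hy, hyx⟩
    obtain ⟨x', hx', rfl⟩ := h.ge hy
    have : x' = x := hinj hyx
    exact this ▸ hx'
  · intro hx
    exact ⟨_, h.le ⟨x, hx, rfl⟩, rfl⟩

/-- The K-infinity subgroup is characteristic. -/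
theorem charIn_kInf [Finite S] : AutComp.CharIn S (inducedFunctor kInfLower S) := by
  refine ⟨Subgroup.map_subtype_le _, fun e x hx => ?_⟩
  obtain ⟨y, hy, hyx⟩ := hx
  obtain rfl : y = x := Subtype.ext hyx
  exact ⟨e y, (CfsgLib.KInf.kInf_map_equiv e).1.le ⟨y, hy, rfl⟩, rfl⟩

/-- The K-infinity subgroup contains its centralizer. -/
theorem centralizer_kInf_le [Finite S] (hS : IsPGroup p S) [Fact p.Prime] :
    centralizerIn S (inducedFunctor kInfLower S) ≤ inducedFunctor kInfLower S := by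
  haveI := hS.isNilpotent
  rintro x ⟨hxS, hxW⟩
  exact ⟨⟨x, hxS⟩, (CfsgLib.KInf.centralizer_kInf (P := ↥S)).1 (fun w hw =>
    Subtype.ext (hxW w.1 ⟨w, hw, rfl⟩)), rfl⟩

/-- For odd `p` the system is inner once the automizer of the K-infinity subgroup is a `p`-group. -/
theorem eq_inner_of_kInf [Finite S] [Fact p.Prime] (hS : IsPGroup p S) (hF : F.IsSaturated p) (hp : p ≠ 2)
    (hK : IsPGroup p (F.autGroup (inducedFunctor kInfLower S))) : F = innerFusionSystem S := by
  refine eq_inner_of_models hS hF (Or.inl hp) ?_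
  intro X hXn hXc hRS L _ _ ι θ N T hN hι hconj hθι hker hT _
  haveI : Finite ↥(normalizerIn S X) := finite_of_le (normalizerIn_le X)
  set Q := inducedFunctor kInfLower (T : Subgroup L) with hQdef
  have hQT : Q ≤ ι.range := hT ▸ Subgroup.map_subtype_le _
  have hY : (Q.comap ι).map (normalizerIn S X).subtype = inducedFunctor kInfLower S := by
    rw [hQdef, hT, comap_kInf ι hι.1, hRS]
  refine Cfsg.Agent.S1988.result hp T (Or.inr fun l hl hco => ?_)
  have hYR : (Q.comap ι).map (normalizerIn S X).subtype ≤ normalizerIn S X := Subgroup.map_subtype_le _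
  have hlY : ∀ y : ↥(normalizerIn S X), (y : Ω) ∈ (Q.comap ι).map (normalizerIn S X).subtype →
      ∃ y' : ↥(normalizerIn S X), (y' : Ω) ∈ (Q.comap ι).map (normalizerIn S X).subtype ∧ l * ι y * l⁻¹ = ι y' := by
    rintro y ⟨y₀, hy₀, he⟩
    obtain rfl : y₀ = y := Subtype.ext he
    obtain ⟨y', hy'⟩ := hQT ((Subgroup.mem_normalizer_iff.1 hl _).1 hy₀)
    exact ⟨y', ⟨y', (show ι y' ∈ Q from hy'.symm ▸ (Subgroup.mem_normalizer_iff.1 hl _).1 hy₀), rfl⟩, hy'.symm⟩
  obtain ⟨f, hf, hfY, -, hfe⟩ := exists_char_map hN hι θ hconj hXn.1 hYR hlY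
  refine Subgroup.mem_centralizer_iff.2 fun q hq => ?_
  obtain ⟨y, rfl⟩ := hQT hq
  exact (centralize_of_autP hYR (hY ▸ hK) hf le_sup_right hfY hco hfe hlY y ⟨y, hq, rfl⟩).symm

/-- The constrained subsystem. -/
theorem exists_constrained_subsystem [Finite S] [Fact p.Prime] (hS : IsPGroup p S) (hF : F.IsSaturated p)
    (hp : p ≠ 2) (hne : ∃ P : Subgroup Ω, F.Hom P ≠ (innerFusionSystem S).Hom P) :
    ∃ E : FusionSystem S, E ≤ F ∧ E.IsConstrained p ∧ ∃ P : Subgroup Ω, E.Hom P ≠ (innerFusionSystem S).Hom P := by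
  set K := inducedFunctor kInfLower S with hKdef
  have hKS : K ≤ S := charIn_kInf.1
  haveI := finite_of_le hKS
  haveI := finite_mulAut (S := S) hKS
  have hN : normalizerIn S K = S := normalizerIn_charIn_self charIn_kInf
  have hnorm : ∀ a ∈ S, a ∈ Subgroup.normalizer (K : Set Ω) := fun a ha => (hN.ge ha).2
  have hKn : F.IsFullyNormalized K := ⟨hKS, fun R _ => hN.symm ▸ Subgroup.card_le_of_le (normalizerIn_le R)⟩
  have hC : ExtCond F K S (fun f => img f K = K) :=
    { conj := fun a ha => le_antisymm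
        (img_le_iff.2 fun x hx => conj_mem_of_normalizer (hnorm a ha) hx)
        (fun x hx => by
          have : conjF a (a⁻¹ * x * a) = x := by simp [mul_assoc]
          rw [← this]
          exact mem_img_of_mem (conj_mem_of_normalizer' (hnorm a ha) hx))
      congr := fun h hf => (img_congr fun x hx => (h x hx).symm).trans hf
      img_eq := id
      comp := fun {f g} hm hf hg => by rw [hm.img_comp, hf, hg]
      inv := fun {f g} hm hf h => by
        calc img g K = img g (img f K) := by rw [hf]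
          _ = img (g ∘ f) K := (hm.img_comp g).symm
          _ = K := (img_congr (g := id) h).trans (img_id K) }
  have hiff := fun P f => isMap_extSystem_iff (F := F) (hQ := hKS) (hT := le_rfl) (hC := hC) P f
  set E := extSystem F K S hKS le_rfl _ hC
  have hsat : E.IsSaturated p := by
    refine saturated_of_full hS hF hKS le_rfl hC hnorm (fun s hs _ _ => hs) (fun u hu => ?_) hiff
    obtain ⟨χ, hχ, hχi, hχN⟩ :=
      exists_normalizer_map_fn hS hF hKn (isConj_symm (isConj_iff.2 ⟨u, hu, rfl⟩))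
    exact ⟨_, χ, hχ, le_normalizerIn hu.img_le, show img (χ ∘ u) K = K by rw [hu.img_comp, hχi],
      fun s hs hn _ => ⟨⟨hs, hn⟩, normalizerIn_le K (hχN (mem_img_of_mem ⟨hs, hn⟩))⟩⟩
  have hnormal : E.IsNormal K := by
    refine isNormal_iff.2 ⟨hKS, fun P f hf => ?_⟩
    obtain ⟨-, hP, -, g, hg, hge, hgK⟩ := (hiff P f).1 hf
    exact ⟨g, (hiff _ g).2 ⟨hg, sup_le hP hKS, fun x hx => hg.mem hx, g,
      hg.mono (sup_le le_rfl le_sup_right), fun _ _ => rfl, hgK⟩, hge, hgK⟩
  have hcentric : E.IsCentric K := by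
    refine ⟨hKS, fun R hR => ?_⟩
    obtain ⟨f, hf, rfl⟩ := isConj_iff.1 hR
    obtain ⟨-, -, -, g, -, hge, hgK⟩ := (hiff K f).1 hf
    rw [← img_congr hge, hgK]
    exact centralizer_kInf_le hS
  refine ⟨E, le_iff.2 fun P f hf => ((hiff P f).1 hf).1, ⟨hsat, K, hnormal, hcentric⟩, ?_⟩
  by_contra hall
  push Not at hall
  obtain ⟨P, hP⟩ := hne
  refine hP ?_
  rw [eq_inner_of_kInf hS hF hp]
  have hle : F.autGroup K ≤ autInducedBy S K := by
    intro α hα
    have hm := (mem_autGroup hKS).1 hα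
    have hmE : IsMap E K (autFun α) := (hiff K _).2 ⟨hm, hKS, fun x hx => hm.mem hx, autFun α,
      hm.mono (sup_le le_rfl le_rfl), fun _ _ => rfl, img_autFun α⟩
    obtain ⟨φ, hφ, hφf⟩ := hmE
    rw [hall] at hφ
    obtain ⟨-, s, hs, h⟩ := isMap_inner_iff.1 (⟨φ, hφ, hφf⟩ : IsMap (innerFusionSystem S) K (autFun α))
    exact mem_autInducedBy.2 ⟨s, hs, h⟩
  have hp' : IsPGroup p ↥(autInducedBy S K) := by
    rw [← range_inducedHom]
    exact (hS.to_le (normalizerIn_le K)).of_surjective _ (inducedHom S K).rangeRestrict_surjective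
  exact hp'.to_le hle

end CfsgLib.Fus
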