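import Cfsg.Agent.Fus.Normal
import Cfsg.Prelude.Def_FusionComponents

/-!
Factor systems modulo strongly closed subgroups and direct products.
-/

set_option autoImplicit false
set_option linter.style.haveILetI false

open Cfsg Cfsg.FusionSystem

namespace CfsgLib.Fus

variable {Ω : Type*} [Group Ω] {S : Subgroup Ω}

theorem mem_preimageAlong {Ω' : Type*} [Group Ω'] {θ : S →* Ω'} {P' : Subgroup Ω'} {x : Ω} :
    x ∈ preimageAlong θ P' ↔ ∃ h : x ∈ S, θ ⟨x, h⟩ ∈ P' := by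
  constructor
  · rintro ⟨s, hs, rfl⟩; exact ⟨s.2, hs⟩
  · rintro ⟨h, hx⟩; exact ⟨⟨x, h⟩, hx, rfl⟩

theorem preimageAlong_le {Ω' : Type*} [Group Ω'] {θ : S →* Ω'} {P' : Subgroup Ω'} :
    preimageAlong θ P' ≤ S := fun _ hx => (mem_preimageAlong.1 hx).1

theorem exists_factorSystem [Finite S] (F : FusionSystem S) {S₀ : Subgroup Ω} (h₀ : F.StronglyClosed S₀)
    [(S₀.subgroupOf S).Normal] :
    ∃ E : FusionSystem (⊤ : Subgroup (S ⧸ S₀.subgroupOf S)),
      F.IsFactorSystem S₀ (QuotientGroup.mk' (S₀.subgroupOf S)) E := by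
  set θ := QuotientGroup.mk' (S₀.subgroupOf S) with hθ
  have hker : ∀ s : S, θ s = 1 ↔ (s : Ω) ∈ S₀ := fun s => QuotientGroup.eq_one_iff s
  have hsurj : Function.Surjective θ := QuotientGroup.mk'_surjective _
  have hS0 : ∀ P' : Subgroup (S ⧸ S₀.subgroupOf S), S₀ ≤ preimageAlong θ P' := fun P' x hx =>
    mem_preimageAlong.2 ⟨h₀.1 hx, by rw [(hker _).2 hx]; exact P'.one_mem⟩
  have hfix : ∀ (P : Subgroup Ω) (f : Ω → Ω), IsMap F P f → S₀ ≤ P → img f S₀ = S₀ := fun P f hf hle =>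
    (weaklyClosed_iff.1 (stronglyClosed_weaklyClosed h₀)).2 f (hf.mono hle)
  -- data of a map: a map of `F` on the full preimage, inducing `φ'`
  let C : (P' : Subgroup (S ⧸ S₀.subgroupOf S)) → (P' →* S ⧸ S₀.subgroupOf S) → Prop := fun P' φ' =>
    ∃ φ ∈ F.Hom (preimageAlong θ P'), InducedAlong θ φ φ'
  have hlift : ∀ (P' : Subgroup (S ⧸ S₀.subgroupOf S)) (φ' : P' →* S ⧸ S₀.subgroupOf S), C P' φ' →
      ∃ f, IsMap F (preimageAlong θ P') f ∧ ∀ (x : S) (hx : θ x ∈ P'),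
        ∃ h : f x ∈ S, φ' ⟨θ x, hx⟩ = θ ⟨f x, h⟩ := by
    rintro P' φ' ⟨φ, hφ, hP, hφS, hP', he⟩
    refine ⟨ev φ, IsMap.of_hom hφ, fun x hx => ?_⟩
    have hxP : (x : Ω) ∈ preimageAlong θ P' := mem_preimageAlong.2 ⟨x.2, hx⟩
    refine ⟨(IsMap.of_hom hφ).mem hxP, (he ⟨x, hxP⟩).trans (congrArg θ (Subtype.ext ?_))⟩
    exact (ev_of_mem φ hxP).symm
  have hmk : ∀ (P' : Subgroup (S ⧸ S₀.subgroupOf S)) (φ' : P' →* S ⧸ S₀.subgroupOf S) (f : Ω → Ω),
      IsMap F (preimageAlong θ P') f →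
      (∀ (x : S) (hx : θ x ∈ P'), ∃ h : f x ∈ S, φ' ⟨θ x, hx⟩ = θ ⟨f x, h⟩) → C P' φ' := by
    rintro P' φ' f ⟨φ, hφ, hφf⟩ he
    refine ⟨φ, hφ, preimageAlong_le, fun x => (F.le_of_mem hφ).2 x,
      fun x => (mem_preimageAlong.1 x.2).2, fun x => ?_⟩
    obtain ⟨h, hv⟩ := he ⟨x, preimageAlong_le x.2⟩ (mem_preimageAlong.1 x.2).2
    exact hv.trans (congrArg θ (Subtype.ext (hφf x).symm))
  let E : FusionSystem (⊤ : Subgroup (S ⧸ S₀.subgroupOf S)) :=
    { Hom := fun P' => {φ' | C P' φ'}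
      le_of_mem := fun _ => ⟨le_top, fun _ => Subgroup.mem_top _⟩
      injective_of_mem := by
        intro P' φ' h
        obtain ⟨f, hf, he⟩ := hlift P' φ' h
        refine (injective_iff_map_eq_one _).2 fun y hy => ?_
        obtain ⟨x, hx⟩ := hsurj (y : S ⧸ S₀.subgroupOf S)
        have hxP : θ x ∈ P' := hx ▸ y.2
        obtain ⟨h1, h2⟩ := he x hxP
        rw [show (⟨θ x, hxP⟩ : P') = y from Subtype.ext hx, hy] at h2
        have hx0 : f x ∈ S₀ := (hker _).1 h2.symm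
        obtain ⟨s, hs, hse⟩ := (hf.mono (hS0 P')).mem_img.1 ((hfix _ f hf (hS0 P')).ge hx0)
        have : s = (x : Ω) := hf.inj (hS0 P' hs) (mem_preimageAlong.2 ⟨x.2, hxP⟩) hse
        exact Subtype.ext (hx.symm.trans ((hker x).2 (this ▸ hs)))
      conj_mem := by
        intro P' g _ _
        obtain ⟨a, rfl⟩ := hsurj g
        exact hmk P' _ (conjF (a : Ω)) (IsMap.conj F preimageAlong_le a.2) fun x hx =>
          ⟨S.mul_mem (S.mul_mem a.2 x.2) (S.inv_mem a.2), rfl⟩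
      comp_mem := by
        intro P' Q' φ' ψ' h h' hQ
        obtain ⟨f, hf, he⟩ := hlift P' φ' h
        obtain ⟨g, hg, he'⟩ := hlift Q' ψ' h'
        have hfQ : ∀ y ∈ preimageAlong θ P', f y ∈ preimageAlong θ Q' := fun y hy => by
          obtain ⟨hyS, hyP⟩ := mem_preimageAlong.1 hy
          obtain ⟨h1, h2⟩ := he ⟨y, hyS⟩ hyP
          exact mem_preimageAlong.2 ⟨h1, h2 ▸ hQ _⟩
        refine hmk P' _ (g ∘ f) (hf.comp hg hfQ) fun x hx => ?_
        obtain ⟨h1, h2⟩ := he x hx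
        obtain ⟨h3, h4⟩ := he' ⟨f x, h1⟩ (h2 ▸ hQ _)
        exact ⟨h3, (congrArg ψ' (Subtype.ext h2)).trans h4⟩
      inv_mem := by
        intro P' φ' h
        obtain ⟨f, hf, he⟩ := hlift P' φ' h
        obtain ⟨k, hk, hkl, -, hki⟩ := hf.inv
        have himg : preimageAlong θ φ'.range = img f (preimageAlong θ P') := by
          refine le_antisymm (fun y hy => ?_) (img_le_iff.2 fun y hy => ?_)
          · obtain ⟨hyS, ⟨u, hu⟩, huy⟩ := mem_preimageAlong.1 hy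
            obtain ⟨x, rfl⟩ := hsurj u
            obtain ⟨h1, h2⟩ := he x hu
            have h3 : (f x)⁻¹ * y ∈ S₀ := (hker (⟨f x, h1⟩⁻¹ * ⟨y, hyS⟩)).1 (by
              rw [_root_.map_mul, _root_.map_inv, ← h2, huy, inv_mul_cancel])
            obtain ⟨s, hs, hse⟩ := (hf.mono (hS0 P')).mem_img.1 ((hfix _ f hf (hS0 P')).ge h3)
            have hxP : (x : Ω) ∈ preimageAlong θ P' := mem_preimageAlong.2 ⟨x.2, hu⟩
            have : f (x * s) = y := by rw [hf.map_mul hxP (hS0 P' hs), hse, mul_inv_cancel_left]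
            exact this ▸ mem_img_of_mem (Subgroup.mul_mem _ hxP (hS0 P' hs))
          · obtain ⟨hyS, hyP⟩ := mem_preimageAlong.1 hy
            obtain ⟨h1, h2⟩ := he ⟨y, hyS⟩ hyP
            exact mem_preimageAlong.2 ⟨h1, h2 ▸ ⟨_, rfl⟩⟩
        have hinj : Function.Injective φ' := by
          refine (injective_iff_map_eq_one _).2 fun y hy => ?_
          obtain ⟨x, hx⟩ := hsurj (y : S ⧸ S₀.subgroupOf S)
          have hxP : θ x ∈ P' := hx ▸ y.2
          obtain ⟨h1, h2⟩ := he x hxP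
          rw [show (⟨θ x, hxP⟩ : P') = y from Subtype.ext hx, hy] at h2
          have hx0 : f x ∈ S₀ := (hker _).1 h2.symm
          obtain ⟨s, hs, hse⟩ := (hf.mono (hS0 P')).mem_img.1 ((hfix _ f hf (hS0 P')).ge hx0)
          have : s = (x : Ω) := hf.inj (hS0 P' hs) (mem_preimageAlong.2 ⟨x.2, hxP⟩) hse
          exact Subtype.ext (hx.symm.trans ((hker x).2 (this ▸ hs)))
        refine ⟨P'.subtype.comp (MonoidHom.ofInjective hinj).symm.toMonoidHom,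
          hmk _ _ k (himg.symm ▸ hk) fun y hy => ?_, fun x => ?_⟩
        · have hyI : (y : Ω) ∈ img f (preimageAlong θ P') := himg.le (mem_preimageAlong.2 ⟨y.2, hy⟩)
          obtain ⟨x, hx, hxy⟩ := hf.mem_img.1 hyI
          obtain ⟨hxS, hxP⟩ := mem_preimageAlong.1 hx
          obtain ⟨h1, h2⟩ := he ⟨x, hxS⟩ hxP
          have hkx : k (y : Ω) = x := hxy ▸ hkl x hx
          refine ⟨hkx ▸ hxS, ?_⟩
          have h3 : (⟨θ y, hy⟩ : φ'.range) = MonoidHom.ofInjective hinj ⟨θ ⟨x, hxS⟩, hxP⟩ :=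
            Subtype.ext ((congrArg θ (Subtype.ext hxy.symm : y = ⟨f x, h1⟩)).trans h2.symm)
          rw [h3]
          simp only [MonoidHom.coe_comp, Subgroup.coe_subtype, MulEquiv.coe_toMonoidHom,
            Function.comp_apply, MulEquiv.symm_apply_apply]
          exact congrArg θ (Subtype.ext hkx.symm)
        · simp only [MonoidHom.coe_comp, Subgroup.coe_subtype, MulEquiv.coe_toMonoidHom,
            Function.comp_apply]
          rw [show (⟨φ' x, ⟨x, rfl⟩⟩ : φ'.range) = MonoidHom.ofInjective hinj x from Subtype.ext rfl,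
            MulEquiv.symm_apply_apply] }
  exact ⟨E, h₀.1, hker, QuotientGroup.range_mk' _, fun P' φ' => ⟨fun h => ⟨le_top, h⟩, fun h => h.2⟩⟩

section Product

variable {Ω₂ : Type*} [Group Ω₂] {S₂ : Subgroup Ω₂}

/-- A pair of maps on the projections of `P`. -/
def IsPairMap (F₁ : FusionSystem S) (F₂ : FusionSystem S₂) (P : Subgroup (Ω × Ω₂)) (φ : P →* Ω × Ω₂) : Prop :=
  P ≤ S.prod S₂ ∧ ∃ f₁, IsMap F₁ (P.map (MonoidHom.fst Ω Ω₂)) f₁ ∧
    ∃ f₂, IsMap F₂ (P.map (MonoidHom.snd Ω Ω₂)) f₂ ∧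
      ∀ x : P, φ x = (f₁ (x : Ω × Ω₂).1, f₂ (x : Ω × Ω₂).2)

theorem exists_productSystem (F₁ : FusionSystem S) (F₂ : FusionSystem S₂) :
    ∃ E : FusionSystem (S.prod S₂), IsProductSystem F₁ F₂ E := by
  have fstm : ∀ {P : Subgroup (Ω × Ω₂)} {x : Ω × Ω₂}, x ∈ P → x.1 ∈ P.map (MonoidHom.fst Ω Ω₂) :=
    fun {P x} hx => ⟨x, hx, rfl⟩
  have sndm : ∀ {P : Subgroup (Ω × Ω₂)} {x : Ω × Ω₂}, x ∈ P → x.2 ∈ P.map (MonoidHom.snd Ω Ω₂) :=
    fun {P x} hx => ⟨x, hx, rfl⟩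
  let E : FusionSystem (S.prod S₂) :=
    { Hom := fun P => {φ | IsPairMap F₁ F₂ P φ}
      le_of_mem := fun {P φ} h => by
        obtain ⟨hP, f₁, h₁, f₂, h₂, he⟩ := h
        exact ⟨hP, fun x => he x ▸ ⟨h₁.mem (fstm x.2), h₂.mem (sndm x.2)⟩⟩
      injective_of_mem := fun {P φ} h => by
        obtain ⟨hP, f₁, h₁, f₂, h₂, he⟩ := h
        intro x y hxy
        rw [he x, he y, Prod.mk.injEq] at hxy
        exact Subtype.ext (Prod.ext (h₁.inj (fstm x.2) (fstm y.2) hxy.1) (h₂.inj (sndm x.2) (sndm y.2) hxy.2))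
      conj_mem := fun {P g} hP hg => by
        refine ⟨hP, conjF g.1, IsMap.conj F₁ ?_ hg.1, conjF g.2, IsMap.conj F₂ ?_ hg.2, fun x => rfl⟩
        · rintro _ ⟨x, hx, rfl⟩; exact (hP hx).1
        · rintro _ ⟨x, hx, rfl⟩; exact (hP hx).2
      comp_mem := fun {P Q φ ψ} h h' hQ => by
        obtain ⟨hP, f₁, h₁, f₂, h₂, he⟩ := h
        obtain ⟨-, g₁, k₁, g₂, k₂, he'⟩ := h'
        refine ⟨hP, g₁ ∘ f₁, h₁.comp k₁ ?_, g₂ ∘ f₂, h₂.comp k₂ ?_, fun x => ?_⟩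
        · rintro _ ⟨x, hx, rfl⟩
          have h1 := fstm (he ⟨x, hx⟩ ▸ hQ ⟨x, hx⟩)
          exact h1
        · rintro _ ⟨x, hx, rfl⟩
          have h1 := sndm (he ⟨x, hx⟩ ▸ hQ ⟨x, hx⟩)
          exact h1
        · show ψ ⟨φ x, hQ x⟩ = _
          rw [he']
          show (g₁ (φ x).1, g₂ (φ x).2) = _
          rw [he x]
          rfl
      inv_mem := fun {P φ} h => by
        obtain ⟨hP, f₁, h₁, f₂, h₂, he⟩ := h
        obtain ⟨k₁, hk₁, hl₁, -, -⟩ := h₁.inv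
        obtain ⟨k₂, hk₂, hl₂, -, -⟩ := h₂.inv
        have hr1 : φ.range.map (MonoidHom.fst Ω Ω₂) = img f₁ (P.map (MonoidHom.fst Ω Ω₂)) := by
          refine le_antisymm ?_ (img_le_iff.2 ?_)
          · rintro _ ⟨_, ⟨x, rfl⟩, rfl⟩
            rw [he x]
            exact mem_img_of_mem (fstm x.2)
          · rintro _ ⟨x, hx, rfl⟩
            exact ⟨φ ⟨x, hx⟩, ⟨_, rfl⟩, by rw [he]; rfl⟩
        have hr2 : φ.range.map (MonoidHom.snd Ω Ω₂) = img f₂ (P.map (MonoidHom.snd Ω Ω₂)) := by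
          refine le_antisymm ?_ (img_le_iff.2 ?_)
          · rintro _ ⟨_, ⟨x, rfl⟩, rfl⟩
            rw [he x]
            exact mem_img_of_mem (sndm x.2)
          · rintro _ ⟨x, hx, rfl⟩
            exact ⟨φ ⟨x, hx⟩, ⟨_, rfl⟩, by rw [he]; rfl⟩
        have hinj : Function.Injective φ := by
          intro x y hxy
          rw [he x, he y, Prod.mk.injEq] at hxy
          exact Subtype.ext (Prod.ext (h₁.inj (fstm x.2) (fstm y.2) hxy.1)
            (h₂.inj (sndm x.2) (sndm y.2) hxy.2))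
        have hval : ∀ x : P, (x : Ω × Ω₂) = (k₁ (φ x).1, k₂ (φ x).2) := fun x => by
          rw [he x, hl₁ _ (fstm x.2), hl₂ _ (sndm x.2)]
        refine ⟨P.subtype.comp (MonoidHom.ofInjective hinj).symm.toMonoidHom,
          ⟨?_, k₁, hr1.symm ▸ hk₁, k₂, hr2.symm ▸ hk₂, fun y => ?_⟩, fun x => ?_⟩
        · rintro _ ⟨x, rfl⟩
          rw [he x]
          exact ⟨h₁.mem (fstm x.2), h₂.mem (sndm x.2)⟩
        · obtain ⟨x, rfl⟩ := (MonoidHom.ofInjective hinj).surjective y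
          simp only [MonoidHom.coe_comp, Subgroup.coe_subtype, MulEquiv.coe_toMonoidHom,
            Function.comp_apply, MulEquiv.symm_apply_apply]
          exact hval x
        · simp only [MonoidHom.coe_comp, Subgroup.coe_subtype, MulEquiv.coe_toMonoidHom,
            Function.comp_apply]
          rw [show (⟨φ x, ⟨x, rfl⟩⟩ : φ.range) = MonoidHom.ofInjective hinj x from Subtype.ext rfl,
            MulEquiv.symm_apply_apply] }
  refine ⟨E, fun P φ => ⟨?_, ?_⟩⟩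
  · rintro ⟨hP, f₁, ⟨φ₁, h₁, e₁⟩, f₂, ⟨φ₂, h₂, e₂⟩, he⟩
    refine ⟨hP, φ₁, h₁, φ₂, h₂, fun x ha hb => ?_⟩
    rw [he x, e₁, e₂]
  · rintro ⟨hP, φ₁, h₁, φ₂, h₂, he⟩
    refine ⟨hP, ev φ₁, IsMap.of_hom h₁, ev φ₂, IsMap.of_hom h₂, fun x => ?_⟩
    rw [he x (fstm x.2) (sndm x.2), ev_of_mem φ₁ (fstm x.2), ev_of_mem φ₂ (sndm x.2)]

end Product

end CfsgLib.Fus
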