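import Cfsg.Agent.Solv.PGroups
import Cfsg.Agent.Solv.ClassTwo
import Cfsg.Prelude.Def_KGroupFacts

/-!
A subgroup of critical type inside `[P, O^p(G)]` for a group `G` of automorphisms of a `p`-group `P`.
-/

set_option autoImplicit false
set_option linter.style.haveILetI false
set_option linter.unusedSectionVars false

open scoped commutatorElement

namespace CfsgLib.Fus.CriticalResidual

open CfsgLib.Solv

variable {P : Type*} [Group P] [Finite P] {p : ℕ} [hp : Fact p.Prime]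

/-- `p` for odd `p` and `4` for `p = 2`. -/
def ex (p : ℕ) : ℕ := if p = 2 then 4 else p

theorem fix_of_conj {C : Subgroup P} [C.Normal] {α : MulAut P} (h : ∀ c ∈ C, α c = c) (r c : P) (hc : c ∈ C) :
    (r⁻¹ * α r) * c = c * (r⁻¹ * α r) := by
  have h1 : α (r * c * r⁻¹) = r * c * r⁻¹ := h _ (Subgroup.Normal.conj_mem inferInstance c hc r)
  rw [map_mul, map_mul, map_inv, h c hc] at h1
  calc (r⁻¹ * α r) * c = r⁻¹ * (α r * c * (α r)⁻¹) * α r := by group
    _ = c * (r⁻¹ * α r) := by rw [h1]; group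

theorem pow_ex {x y : P} (hd : Commute ⁅y, x⁆ x) (hd' : Commute ⁅y, x⁆ y) (hp1 : ⁅y, x⁆ ^ p = 1) :
    (x * y) ^ ex p = x ^ ex p * y ^ ex p := by
  unfold ex
  split_ifs with h2
  · subst h2
    rw [pow_mul_of_commutator hd hd' 4, show Nat.choose 4 2 = 2 * 3 from rfl, pow_mul, hp1, one_pow, one_mul]
  · exact mul_pow_prime h2 hd hd' hp1

set_option maxHeartbeats 1000000 in
theorem main (hP : IsPGroup p P) (G : Subgroup (MulAut P)) (hG : Cfsg.Inn P ≤ G) :
    ∃ D : Subgroup P,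
      (∀ α ∈ G, D.map α.toMonoidHom = D) ∧
      D ≤ Subgroup.closure {y : P | ∃ α ∈ Cfsg.pResidual p ↥G, ∃ x : P, y = x⁻¹ * (α : MulAut P) x} ∧
      (∀ d ∈ D, d ^ p = 1 ∨ (p = 2 ∧ d ^ 4 = 1)) ∧
      ⁅D, (⊤ : Subgroup P)⁆ ≤ D ⊓ Subgroup.centralizer (D : Set P) ∧
      (∀ α ∈ G, (orderOf α).Coprime p → (∀ d ∈ D, α d = d) → α = 1) ∧
      ∀ A : Subgroup P, A ≤ D → IsMulCommutative ↥A →
        (∀ B : Subgroup P, A ≤ B → B ≤ D → IsMulCommutative ↥B → B = A) →
        A.Normal ∧ ∀ α ∈ G, (∀ a ∈ A, α a = a) → ∃ k : ℕ, orderOf α = p ^ k := by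
  classical
  set gens := {y : P | ∃ α ∈ Cfsg.pResidual p ↥G, ∃ x : P, y = x⁻¹ * (α : MulAut P) x} with hgens
  set R := Subgroup.closure gens with hR
  have hresn : (Cfsg.pResidual p ↥G).Normal := by
    refine ⟨fun n hn g => ?_⟩
    have : (Cfsg.pResidual p ↥G).map (MulAut.conj g).toMonoidHom ≤ Cfsg.pResidual p ↥G := by
      rw [Cfsg.pResidual, MonoidHom.map_closure]
      refine Subgroup.closure_mono ?_
      rintro _ ⟨x, hx, rfl⟩
      show (orderOf ((MulAut.conj g) x)).Coprime p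
      rwa [MulEquiv.orderOf_eq]
    exact this ⟨n, hn, rfl⟩
  -- `G`-invariant subgroups
  let Inv : Subgroup P → Prop := fun H => ∀ α ∈ G, ∀ x ∈ H, α x ∈ H
  have hInn : ∀ g : P, MulAut.conj g ∈ G := fun g => hG ⟨g, rfl⟩
  have hInvn : ∀ H, Inv H → H.Normal := fun H hH => ⟨fun n hn g => hH _ (hInn g) n hn⟩
  have hInvC : ∀ H, Inv H → Inv (Subgroup.centralizer (H : Set P)) := by
    intro H hH α hα x hx
    refine Subgroup.mem_centralizer_iff.2 fun h hh => ?_
    have h1 : α⁻¹ h ∈ H := hH _ (inv_mem hα) h hh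
    have h2 := congrArg α (Subgroup.mem_centralizer_iff.1 hx _ h1)
    rw [map_mul, map_mul] at h2
    simpa using h2
  have hInvR : Inv R := by
    intro β hβ x hx
    have hle : R ≤ R.comap β.toMonoidHom := by
      rw [hR, Subgroup.closure_le]
      rintro _ ⟨α, hα, y, rfl⟩
      have e1 : β (y⁻¹ * (α : MulAut P) y) = (β y)⁻¹ * (β * (α : MulAut P) * β⁻¹) (β y) := by
        rw [MulAut.mul_apply, MulAut.mul_apply, MulAut.inv_def, MulEquiv.symm_apply_apply, map_mul, map_inv]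
      have h5 := hresn.conj_mem α hα ⟨β, hβ⟩
      exact Subgroup.subset_closure ⟨_, h5, β y, e1⟩
    exact hle hx
  haveI := hInvn R hInvR
  obtain ⟨A, -, hA⟩ := Finite.exists_le_maximal
    (p := fun A : Subgroup P => A ≤ R ∧ Inv A ∧ IsMulCommutative ↥A) (a := (⊥ : Subgroup P))
    ⟨bot_le, fun α _ x hx => by rw [Subgroup.mem_bot] at hx ⊢; rw [hx, map_one],
      ⟨⟨fun a b => Subsingleton.elim _ _⟩⟩⟩
  obtain ⟨hAR, hAI, hAc⟩ := hA.1
  haveI hAn := hInvn A hAI
  have hAcomm : ∀ a ∈ A, ∀ b ∈ A, a * b = b * a := fun a ha b hb =>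
    congrArg Subtype.val (hAc.is_comm.comm ⟨a, ha⟩ ⟨b, hb⟩)
  have hinf : ∀ {x : P}, (∀ g, ⁅x, g⁆ ∈ A) → ∀ g, ⁅g, x⁆ ∈ A := fun h g => by
    rw [← commutatorElement_inv]; exact inv_mem (h g)
  let C : Subgroup P :=
    { carrier := {c | c ∈ R ∧ c ∈ Subgroup.centralizer (A : Set P) ∧ c ^ p ∈ A ∧ ∀ g, ⁅c, g⁆ ∈ A}
      mul_mem' := by
        rintro c d ⟨hc1, hc2, hc3, hc4⟩ ⟨hd1, hd2, hd3, hd4⟩
        refine ⟨mul_mem hc1 hd1, mul_mem hc2 hd2, ?_, fun g => ?_⟩
        · rw [pow_mul_of_commutator (show Commute ⁅d, c⁆ c from Subgroup.mem_centralizer_iff.1 hc2 _ (hd4 c))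
            (show Commute ⁅d, c⁆ d from Subgroup.mem_centralizer_iff.1 hd2 _ (hd4 c))]
          exact mul_mem (pow_mem (hd4 c) _) (mul_mem hc3 hd3)
        · rw [show ⁅c * d, g⁆ = c * ⁅d, g⁆ * c⁻¹ * ⁅c, g⁆ by simp only [commutatorElement_def]; group]
          exact mul_mem (hAn.conj_mem _ (hd4 g) c) (hc4 g)
      one_mem' := ⟨one_mem _, one_mem _, by rw [one_pow]; exact one_mem _, fun g => by simp⟩
      inv_mem' := by
        rintro c ⟨hc1, hc2, hc3, hc4⟩
        refine ⟨inv_mem hc1, inv_mem hc2, by rw [inv_pow]; exact inv_mem hc3, fun g => ?_⟩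
        rw [show ⁅c⁻¹, g⁆ = c⁻¹ * ⁅c, g⁆⁻¹ * c⁻¹⁻¹ by simp only [commutatorElement_def]; group]
        exact hAn.conj_mem _ (inv_mem (hc4 g)) c⁻¹ }
  have hCI : Inv C := by
    rintro α hα c ⟨hc1, hc2, hc3, hc4⟩
    refine ⟨hInvR α hα c hc1, hInvC A hAI α hα c hc2, by rw [← map_pow]; exact hAI α hα _ hc3, fun g => ?_⟩
    obtain ⟨g, rfl⟩ := α.surjective g
    rw [← map_commutatorElement]
    exact hAI α hα _ (hc4 g)
  haveI hCn := hInvn C hCI
  have hAC : A ≤ C := fun a ha => ⟨hAR ha, Subgroup.mem_centralizer_iff.2 fun b hb => hAcomm b hb a ha,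
    pow_mem ha _, fun g => by
      rw [commutatorElement_def, mul_assoc a, mul_assoc a]
      exact mul_mem ha (hAn.conj_mem _ (inv_mem ha) g)⟩
  have hCA : ∀ c ∈ C, ∀ a ∈ A, a * c = c * a := fun c hc => Subgroup.mem_centralizer_iff.1 hc.2.1
  have hCC : R ⊓ Subgroup.centralizer (C : Set P) ≤ C := by
    intro x hx
    by_contra hxC
    set N := R ⊓ Subgroup.centralizer (C : Set P)
    haveI : N.Normal := hInvn N fun α hα y hy => Subgroup.mem_inf.2
      ⟨hInvR α hα y (Subgroup.mem_inf.1 hy).1, hInvC C hCI α hα y (Subgroup.mem_inf.1 hy).2⟩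
    obtain ⟨y, hyN, hyA, hyp, hyc⟩ := exists_central_mod hP (A := A) (N := N) (fun h => hxC (hAC (h hx)))
    have hle : N ⊔ A ≤ R ⊓ Subgroup.centralizer (C : Set P) :=
      sup_le le_rfl (le_inf hAR fun a ha => Subgroup.mem_centralizer_iff.2 fun c hc => (hCA c hc a ha).symm)
    have hy2 := hle hyN
    have hyC : y ∈ C := ⟨(Subgroup.mem_inf.1 hy2).1,
      Subgroup.centralizer_le (fun a ha => hAC ha) (Subgroup.mem_inf.1 hy2).2, hyp, hyc⟩
    have hB : C ⊓ Subgroup.centralizer (C : Set P) ≤ A := hA.2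
      (y := C ⊓ Subgroup.centralizer (C : Set P))
      ⟨fun c hc => (Subgroup.mem_inf.1 hc).1.1, fun α hα c hc => Subgroup.mem_inf.2
          ⟨hCI α hα c (Subgroup.mem_inf.1 hc).1, hInvC C hCI α hα c (Subgroup.mem_inf.1 hc).2⟩,
        ⟨⟨fun a b => Subtype.ext (Subgroup.mem_centralizer_iff.1 (Subgroup.mem_inf.1 b.2).2 a
          (Subgroup.mem_inf.1 a.2).1)⟩⟩⟩
      (fun a ha => Subgroup.mem_inf.2 ⟨hAC ha, (Subgroup.mem_inf.1 (hle (Subgroup.mem_sup_right ha))).2⟩)
    exact hyA (hB (Subgroup.mem_inf.2 ⟨hyC, (Subgroup.mem_inf.1 hy2).2⟩))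
  -- class two facts inside `C`
  have hd : ∀ x ∈ C, ∀ y ∈ C, Commute ⁅y, x⁆ x ∧ Commute ⁅y, x⁆ y ∧ ⁅y, x⁆ ^ p = ⁅y ^ p, x⁆ := fun x hx y hy =>
    ⟨hCA x hx _ (hy.2.2.2 x), hCA y hy _ (hy.2.2.2 x),
      (pow_commutator_left (show Commute ⁅y, x⁆ y from hCA y hy _ (hy.2.2.2 x)) p).symm⟩
  have hd1 : ∀ x ∈ C, ∀ y ∈ C, ⁅y, x⁆ ^ p = 1 := fun x hx y hy => by
    rw [(hd x hx y hy).2.2, commutatorElement_eq_one_iff_mul_comm]
    exact hCA x hx _ hy.2.2.1
  have hexp : ∀ x ∈ C, ∀ y ∈ C, (x * y) ^ ex p = x ^ ex p * y ^ ex p := fun x hx y hy =>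
    pow_ex (hd x hx y hy).1 (hd x hx y hy).2.1 (hd1 x hx y hy)
  let D : Subgroup P :=
    { carrier := {c | c ∈ C ∧ c ^ ex p = 1}
      mul_mem' := fun {c d} hc hd => ⟨mul_mem hc.1 hd.1, by rw [hexp c hc.1 d hd.1, hc.2, hd.2, one_mul]⟩
      one_mem' := ⟨one_mem _, one_pow _⟩
      inv_mem' := fun {c} hc => ⟨inv_mem hc.1, by rw [inv_pow, hc.2, inv_one]⟩ }
  have hDI : Inv D := fun α hα c hc => ⟨hCI α hα c hc.1, by rw [← map_pow, hc.2, map_one]⟩
  haveI hDn := hInvn D hDI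
  have hDP : ⁅D, (⊤ : Subgroup P)⁆ ≤ D ⊓ Subgroup.centralizer (D : Set P) := by
    rw [Subgroup.commutator_le]
    intro d hd' g _
    refine Subgroup.mem_inf.2 ⟨?_, Subgroup.mem_centralizer_iff.2 fun e he => (hCA e he.1 _ (hd'.1.2.2.2 g)).symm⟩
    rw [commutatorElement_def, mul_assoc d, mul_assoc d]
    exact mul_mem hd' (hDn.conj_mem _ (inv_mem hd') g)
  -- coprime automorphisms fixing `D`
  have hfixD : ∀ α ∈ G, (orderOf α).Coprime p → (∀ d ∈ D, α d = d) → α = 1 := by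
    intro α hα hcop hfix
    have hfixC : ∀ c ∈ C, α c = c := by
      suffices h : ∀ k : ℕ, ∀ c ∈ C, c ^ p ^ k = 1 → α c = c by
        intro c hc
        obtain ⟨k, hk⟩ := hP c
        exact h k c hc hk
      intro k
      induction k with
      | zero => intro c _ h; rw [pow_zero, pow_one] at h; rw [h, map_one]
      | succ k ih =>
        intro c hc h
        have h1 : α (c ^ p) = c ^ p := ih _ (pow_mem hc p) (by rwa [← pow_mul, ← pow_succ'])
        set z := c⁻¹ * α c with hz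
        have hzC : z ∈ C := mul_mem (inv_mem hc) (hCI α hα c hc)
        have hzD : z ∈ D := by
          refine ⟨hzC, ?_⟩
          rw [hz, hexp _ (inv_mem hc) _ (hCI α hα c hc), inv_pow, ← map_pow, inv_mul_eq_one]
          unfold ex
          split_ifs with h2
          · subst h2
            rw [show (4 : ℕ) = 2 * 2 from rfl, pow_mul, map_pow, h1]
          · exact h1.symm
        rw [show α c = c * z by rw [hz]; group,
          eq_one_of_fixed_shift hP hcop (x := c) (z := z) (by rw [hz]; group) (hfix z hzD), mul_one]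
    have hfixR : ∀ r ∈ R, α r = r := by
      intro r hr
      have hzC : r⁻¹ * α r ∈ C := hCC (Subgroup.mem_inf.2 ⟨mul_mem (inv_mem hr) (hInvR α hα r hr),
        Subgroup.mem_centralizer_iff.2 fun c hc => (fix_of_conj hfixC r c hc).symm⟩)
      have h := eq_one_of_fixed_shift hP hcop (x := r) (z := r⁻¹ * α r) (by group) (hfixC _ hzC)
      rw [inv_mul_eq_one] at h
      exact h.symm
    ext x
    have hzR : x⁻¹ * α x ∈ R := Subgroup.subset_closure ⟨⟨α, hα⟩, Subgroup.subset_closure (by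
      show (orderOf (⟨α, hα⟩ : ↥G)).Coprime p
      rwa [Subgroup.orderOf_mk]), x, rfl⟩
    have h := eq_one_of_fixed_shift hP hcop (x := x) (z := x⁻¹ * α x) (by group) (hfixR _ hzR)
    rw [inv_mul_eq_one] at h
    exact h.symm
  refine ⟨D, fun α hα => ?_, fun d hd' => hd'.1.1, fun d hd' => ?_, hDP, hfixD, fun B hBD hBc hBmax => ?_⟩
  · refine Subgroup.eq_of_le_of_card_ge ?_ (Subgroup.card_map_of_injective α.injective).ge
    rintro _ ⟨d, hd', rfl⟩
    exact hDI α hα d hd'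
  · have h := hd'.2
    unfold ex at h
    split_ifs at h with h2
    · exact Or.inr ⟨h2, h⟩
    · exact Or.inl h
  · have hBcomm : ∀ a ∈ B, ∀ b ∈ B, a * b = b * a := fun a ha b hb =>
      congrArg Subtype.val (hBc.is_comm.comm ⟨a, ha⟩ ⟨b, hb⟩)
    have hmem : ∀ z ∈ D, (∀ b ∈ B, b * z = z * b) → z ∈ B := by
      intro z hzD hzB
      have hZc : IsMulCommutative ↥(B ⊔ Subgroup.zpowers z) := by
        rw [show B ⊔ Subgroup.zpowers z = Subgroup.closure ((B : Set P) ∪ {z}) by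
          rw [Subgroup.closure_union, Subgroup.closure_eq, Subgroup.zpowers_eq_closure]]
        refine Subgroup.isMulCommutative_closure ?_
        rintro a (ha | rfl) b (hb | rfl)
        · exact hBcomm a ha b hb
        · exact hzB a ha
        · exact (hzB b hb).symm
        · rfl
      rw [← hBmax _ le_sup_left (sup_le hBD (Subgroup.zpowers_le.2 hzD)) hZc]
      exact Subgroup.mem_sup_right (Subgroup.mem_zpowers z)
    have hBn : B.Normal := by
      refine ⟨fun b hb g => ?_⟩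
      have h1 := Subgroup.mem_inf.1 (hDP (Subgroup.commutator_mem_commutator (hBD hb) (Subgroup.mem_top g)))
      have h2 : ⁅g, b⁆ ∈ B := by
        rw [← commutatorElement_inv]
        exact inv_mem (hmem _ h1.1 fun e he => Subgroup.mem_centralizer_iff.1 h1.2 e (hBD he))
      rw [show g * b * g⁻¹ = ⁅g, b⁆ * b by rw [commutatorElement_def]; group]
      exact mul_mem h2 hb
    refine ⟨hBn, fun α hα hfix => ?_⟩
    set n := orderOf α
    have hn0 : n ≠ 0 := (orderOf_pos _).ne'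
    set β := α ^ p ^ n.factorization p with hβ
    have hβG : β ∈ G := pow_mem hα _
    have hβcop : (orderOf β).Coprime p := by
      rw [hβ, orderOf_pow_of_dvd (pow_ne_zero _ hp.out.ne_zero) (Nat.ordProj_dvd n p)]
      exact (Nat.coprime_ordCompl hp.out hn0).symm
    have hβfix : ∀ b ∈ B, β b = b := by
      intro b hb
      rw [hβ]
      induction (p ^ n.factorization p) with
      | zero => rfl
      | succ k ih => rw [pow_succ', MulAut.mul_apply, ih, hfix b hb]
    have hβ1 : β = 1 := by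
      refine hfixD β hβG hβcop fun d hd' => ?_
      haveI := hBn
      have hzB : d⁻¹ * β d ∈ B := hmem _ (mul_mem (inv_mem hd') (hDI β hβG d hd'))
        fun b hb => (fix_of_conj hβfix d b hb).symm
      have h := eq_one_of_fixed_shift hP hβcop (x := d) (z := d⁻¹ * β d) (by group) (hβfix _ hzB)
      rw [inv_mul_eq_one] at h
      exact h.symm
    obtain ⟨k, -, hk⟩ := (Nat.dvd_prime_pow hp.out).1 (orderOf_dvd_of_pow_eq_one hβ1)
    exact ⟨k, hk⟩

end CfsgLib.Fus.CriticalResidual
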