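import Mathlib

/-!
The lower bound `q^(n-1) - 1` for cross characteristic representations of `SL_n(q)`.
-/

set_option autoImplicit false
set_option linter.style.haveILetI false
set_option linter.unusedSectionVars false

namespace CfsgLib.Fus.CrossCharSL

open scoped Classical
open Module

/-- A common eigenvector for a commuting family in an invariant subspace. -/
theorem exists_common {L V ι : Type*} [Field L] [IsAlgClosed L] [AddCommGroup V] [Module L V] [FiniteDimensional L V]
    (a : ι → Module.End L V) (hc : ∀ i j, Commute (a i) (a j)) (s : Finset ι) :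
    ∀ R : Submodule L V, R ≠ ⊥ → (∀ i, ∀ v ∈ R, a i v ∈ R) →
      ∃ v ∈ R, v ≠ 0 ∧ ∀ i ∈ s, ∃ μ : L, a i v = μ • v := by
  induction s using Finset.induction with
  | empty =>
    intro R hR _
    obtain ⟨v, hv, hv0⟩ := Submodule.exists_mem_ne_zero_of_ne_bot hR
    exact ⟨v, hv, hv0, by simp⟩
  | insert k s hk ih =>
    intro R hR hinv
    haveI : Nontrivial R := Submodule.nontrivial_iff_ne_bot.2 hR
    obtain ⟨μ, hμ⟩ := Module.End.exists_eigenvalue ((a k).restrict (hinv k))
    obtain ⟨w, hw⟩ := hμ.exists_hasEigenvector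
    have hw1 : a k (w : V) = μ • (w : V) := congrArg Subtype.val hw.apply_eq_smul
    have hR' : R ⊓ Module.End.eigenspace (a k) μ ≠ ⊥ := by
      intro h
      have h' : (w : V) ∈ R ⊓ Module.End.eigenspace (a k) μ := ⟨w.2, Module.End.mem_eigenspace_iff.2 hw1⟩
      rw [h, Submodule.mem_bot] at h'
      exact hw.2 (Subtype.ext h')
    have hinv' : ∀ i, ∀ v ∈ R ⊓ Module.End.eigenspace (a k) μ, a i v ∈ R ⊓ Module.End.eigenspace (a k) μ := by
      intro i v hv
      refine ⟨hinv i v hv.1, Module.End.mem_eigenspace_iff.2 ?_⟩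
      have h' : a k (a i v) = a i (a k v) := LinearMap.congr_fun (hc k i) v
      rw [h', Module.End.mem_eigenspace_iff.1 hv.2, map_smul]
    obtain ⟨v, hv, hv0, hvs⟩ := ih _ hR' hinv'
    refine ⟨v, hv.1, hv0, fun i hi => ?_⟩
    rcases Finset.mem_insert.1 hi with rfl | hi
    · exact ⟨μ, Module.End.mem_eigenspace_iff.1 hv.2⟩
    · exact hvs i hi

variable {F : Type*} [Field F] [Fintype F] {n : ℕ}

/-- The coordinates other than the first. -/
abbrev J (n : ℕ) [NeZero n] : Type := {j : Fin n // j ≠ 0}

/-- The row matrix. -/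
noncomputable def rowM [NeZero n] (c : J n → F) : Matrix (Fin n) (Fin n) F :=
  fun i k => if h : k ≠ 0 then (if i = 0 then c ⟨k, h⟩ else 0) else 0

theorem rowM_mul [NeZero n] (c : J n → F) (M : Matrix (Fin n) (Fin n) F) (hM : ∀ k, k ≠ 0 → ∀ j, M k j = 0) :
    rowM c * M = 0 := by
  ext i j
  rw [Matrix.mul_apply]
  refine Finset.sum_eq_zero fun k _ => ?_
  by_cases hk : k ≠ 0
  · rw [hM k hk, mul_zero]
  · simp [rowM, hk]

theorem det_row [NeZero n] (c : J n → F) : (1 + rowM c).det = 1 := by
  rw [Matrix.det_of_upperTriangular]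
  · refine Finset.prod_eq_one fun i _ => ?_
    by_cases h : i = 0 <;> simp [rowM, h]
  · intro i j hij
    have hne : i ≠ j := ne_of_gt hij
    have hi : i ≠ 0 := fun h => by subst h; exact absurd hij (not_lt.2 (Fin.zero_le _))
    simp [rowM, hne, hi]

/-- The unipotent subgroup of the first row. -/
noncomputable def u [NeZero n] : Multiplicative (J n → F) →* Matrix.SpecialLinearGroup (Fin n) F :=
  MonoidHom.mk' (fun c => ⟨1 + rowM c.toAdd, det_row _⟩) (fun c c' => Subtype.ext (by
    show 1 + rowM (c.toAdd + c'.toAdd) = (1 + rowM c.toAdd) * (1 + rowM c'.toAdd)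
    rw [add_mul, mul_add, mul_add, Matrix.one_mul, Matrix.mul_one, Matrix.one_mul,
      rowM_mul c.toAdd (rowM c'.toAdd) (fun k hk j => by simp [rowM, hk]), add_zero]
    ext i k
    by_cases hk : k ≠ 0 <;> by_cases hi : i = 0 <;> simp [rowM, hk, hi] <;> ring))

theorem main {q : ℕ} (hq : Fintype.card F = q) (n : ℕ) (hn : 3 ≤ n)
    {K : Type*} [Field K] (hK : ringChar K ≠ ringChar F) {d : ℕ}
    (ρ : Matrix.SpecialLinearGroup (Fin n) F →* GL (Fin d) K)
    (hker : ρ.ker ≤ Subgroup.center (Matrix.SpecialLinearGroup (Fin n) F)) :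
    q ^ (n - 1) - 1 ≤ d := by
  haveI : NeZero n := ⟨by omega⟩
  set p := ringChar F with hp
  haveI : CharP F p := ringChar.charP F
  haveI hpp : Fact p.Prime := ⟨CharP.char_is_prime F p⟩
  let L := AlgebraicClosure K
  let V := Fin d → L
  have hpL : (p : L) ≠ 0 := by
    intro h
    have h' : (p : K) = 0 := (algebraMap K L).injective (by rw [map_natCast, map_zero]; exact h)
    have hdvd := (CharP.cast_eq_zero_iff K (ringChar K) p).1 h'
    rcases (Nat.dvd_prime hpp.out).1 hdvd with h1 | h1
    · exact CharP.char_ne_one K (ringChar K) h1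
    · exact hK h1
  let a : Matrix.SpecialLinearGroup (Fin n) F →* Module.End L V :=
    { toFun := fun g => Matrix.toLin' (((ρ g : GL (Fin d) K) : Matrix (Fin d) (Fin d) K).map (algebraMap K L))
      map_one' := by simp; rfl
      map_mul' := fun g h => by
        rw [map_mul, Units.val_mul, Matrix.map_mul, Matrix.toLin'_mul]; rfl }
  have hainj : ∀ g, a g = 1 → g ∈ Subgroup.center (Matrix.SpecialLinearGroup (Fin n) F) := by
    intro g hg
    refine hker (MonoidHom.mem_ker.2 (Units.ext ?_))
    have h1 : (((ρ g : GL (Fin d) K) : Matrix (Fin d) (Fin d) K).map (algebraMap K L)) = 1 :=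
      Matrix.toLin'.injective (hg.trans Matrix.toLin'_one.symm)
    refine Matrix.map_injective (algebraMap K L).injective ?_
    dsimp only
    rw [h1, Units.val_one, Matrix.map_one _ (map_zero _) (map_one _)]
  let A : Multiplicative (J n → F) →* Module.End L V := a.comp u
  have hpc : ∀ c : Multiplicative (J n → F), c ^ p = 1 := fun c => by
    apply Multiplicative.toAdd.injective
    funext j
    show p • c.toAdd j = 0
    rw [nsmul_eq_mul, CharP.cast_eq_zero, zero_mul]
  -- a non-trivial element
  obtain ⟨c₁, hc₁⟩ : ∃ c : Multiplicative (J n → F), A c ≠ 1 := by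
    let j₁ : J n := ⟨⟨1, by omega⟩, fun h => by simpa using congrArg Fin.val h⟩
    refine ⟨Multiplicative.ofAdd (Pi.single j₁ 1), fun h => ?_⟩
    obtain ⟨r, -, hr⟩ := Matrix.SpecialLinearGroup.mem_center_iff.1 (hainj _ h)
    have := congrFun (congrFun hr 0) j₁.1
    have e : ((u (Multiplicative.ofAdd (Pi.single j₁ (1 : F) : (J n → F))) : Matrix.SpecialLinearGroup (Fin n) F) :
        Matrix (Fin n) (Fin n) F) 0 j₁.1 = 1 := by
      show (1 + rowM (Pi.single j₁ (1 : F) : (J n → F))) 0 j₁.1 = 1
      rw [Matrix.add_apply, Matrix.one_apply_ne (Ne.symm j₁.2), zero_add, rowM, dif_pos j₁.2, if_pos rfl, Pi.single_eq_same]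
    rw [e, Matrix.scalar_apply, Matrix.diagonal_apply_ne _ (Ne.symm j₁.2)] at this
    exact zero_ne_one this
  let R := LinearMap.range (A c₁ - 1)
  have hcomm : ∀ c c', Commute (A c) (A c') := fun c c' => (Commute.all c c').map A
  have hR0 : R ≠ ⊥ := fun h => hc₁ (sub_eq_zero.1 (LinearMap.range_eq_bot.1 h))
  have hRinv : ∀ c, ∀ v ∈ R, A c v ∈ R := by
    rintro c _ ⟨w, rfl⟩
    refine ⟨A c w, ?_⟩
    have h := LinearMap.congr_fun (hcomm c₁ c) w
    simp only [Module.End.mul_apply] at h
    simp [h]
  obtain ⟨v, hvR, hv0, hv⟩ := exists_common (fun c => A c) hcomm Finset.univ R hR0 hRinv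
  choose lam₀ hlam₀ using fun c => hv c (Finset.mem_univ c)
  let lam : Multiplicative (J n → F) →* L :=
    { toFun := lam₀
      map_one' := smul_left_injective L hv0 (by show lam₀ 1 • v = (1 : L) • v; rw [← hlam₀, map_one, one_smul]; rfl)
      map_mul' := fun c c' => smul_left_injective L hv0 (by
        show lam₀ (c * c') • v = (lam₀ c * lam₀ c') • v
        rw [← hlam₀, map_mul, Module.End.mul_apply, hlam₀ c', map_smul, hlam₀ c, smul_smul, mul_comm]) }
  have hlam1 : lam c₁ ≠ 1 := by
    intro h
    obtain ⟨w, hw⟩ := hvR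
    have hfix : A c₁ v = v := by rw [hlam₀]; exact (congrArg (· • v) h).trans (one_smul _ v)
    have hpow : ∀ k : ℕ, (A c₁ ^ k) w = w + (k : L) • v := by
      intro k
      induction k with
      | zero => simp
      | succ k ih =>
        rw [pow_succ', Module.End.mul_apply, ih, map_add, map_smul, hfix, Nat.cast_succ, add_smul, one_smul]
        have hw' : A c₁ w = w + v := by rw [← hw]; simp
        rw [hw']; abel
    have h1 := hpow p
    rw [← map_pow, hpc, map_one, Module.End.one_apply, eq_comm, add_eq_left] at h1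
    exact hv0 ((smul_eq_zero.1 h1).resolve_left hpL)
  -- a non-trivial character of the field
  obtain ⟨j₀, x₀, hx₀⟩ : ∃ j : J n, ∃ x : F, lam (Multiplicative.ofAdd (Pi.single j x)) ≠ 1 := by
    by_contra hcon
    push Not at hcon
    apply hlam1
    have : c₁ = ∏ j : J n, Multiplicative.ofAdd (Pi.single j (c₁.toAdd j)) := by
      apply Multiplicative.toAdd.injective
      rw [toAdd_prod]
      exact (Finset.univ_sum_single c₁.toAdd).symm
    rw [this, map_prod]
    exact Finset.prod_eq_one fun j _ => hcon j _
  let μ : (J n → F) → (Multiplicative (J n → F) →* L) := fun w =>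
    { toFun := fun c => lam (Multiplicative.ofAdd (Pi.single j₀ (∑ j, w j * c.toAdd j)))
      map_one' := by simp
      map_mul' := fun c c' => by
        rw [← map_mul, ← ofAdd_add, ← Pi.single_add]
        congr 3
        simp [mul_add, Finset.sum_add_distrib] }
  have hμinj : Function.Injective μ := by
    intro w w' h
    funext k
    by_contra hne
    apply hx₀
    have h' : ∀ x : F, lam (Multiplicative.ofAdd (Pi.single j₀ (w k * x))) = lam (Multiplicative.ofAdd (Pi.single j₀ (w' k * x))) := by
      intro x
      have := DFunLike.congr_fun h (Multiplicative.ofAdd (Pi.single k x))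
      simpa [μ, Pi.single_apply] using this
    set y := x₀ / (w k - w' k)
    have hy := h' y
    have hsplit : Multiplicative.ofAdd (Pi.single j₀ (w k * y) : (J n → F)) =
        Multiplicative.ofAdd (Pi.single j₀ x₀ : (J n → F)) * Multiplicative.ofAdd (Pi.single j₀ (w' k * y) : (J n → F)) := by
      rw [← ofAdd_add, ← Pi.single_add]
      congr 2
      rw [show x₀ = (w k - w' k) * y from (mul_div_cancel₀ x₀ (sub_ne_zero.2 hne)).symm]; ring
    rw [hsplit, map_mul] at hy
    have hne0 : lam (Multiplicative.ofAdd (Pi.single j₀ (w' k * y) : (J n → F))) ≠ 0 := by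
      intro h0
      have := map_mul lam (Multiplicative.ofAdd (Pi.single j₀ (w' k * y) : (J n → F)))⁻¹ (Multiplicative.ofAdd (Pi.single j₀ (w' k * y) : (J n → F)))
      rw [inv_mul_cancel, map_one, h0, mul_zero] at this
      exact one_ne_zero this
    exact mul_right_cancel₀ hne0 (hy.trans (one_mul _).symm)
  obtain ⟨w₀, hw₀⟩ : ∃ w, μ w = lam := by
    by_contra hcon
    push Not at hcon
    let f : Option (J n → F) → (Multiplicative (J n → F) →* L) := fun o => o.elim lam μ
    have hf : Function.Injective f := by
      rintro (_ | w) (_ | w') h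
      · rfl
      · exact absurd h.symm (hcon w')
      · exact absurd h (hcon w)
      · exact congrArg some (hμinj h)
    have h := ((linearIndependent_monoidHom (Multiplicative (J n → F)) L).comp f hf).fintype_card_le_finrank
    rw [Module.finrank_fintype_fun_eq_card, Fintype.card_option, Fintype.card_multiplicative] at h
    omega
  let S : (J n → F) → Prop := fun w => ∃ x : V, x ≠ 0 ∧ ∀ c, A c x = μ w c • x
  have hS₀ : S w₀ := ⟨v, hv0, fun c => by rw [hw₀]; exact hlam₀ c⟩
  have hw₀ne : w₀ ≠ 0 := by
    rintro rfl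
    apply hlam1
    rw [← hw₀]
    simp [μ]
  -- moves by transvections
  have hmove : ∀ w, S w → ∀ k l : J n, k ≠ l → ∀ t : F, S (w + Pi.single l (t * w k)) := by
    rintro w ⟨x, hx0, hx⟩ k l hkl t
    let T : Matrix.SpecialLinearGroup (Fin n) F :=
      ⟨Matrix.transvection l.1 k.1 t, Matrix.det_transvection_of_ne _ _ (fun h => hkl (Subtype.ext h.symm)) t⟩
    refine ⟨a T x, fun h => hx0 ?_, fun c => ?_⟩
    · have h' := congrArg (fun y => a T⁻¹ y) h
      simp only [map_zero] at h'
      rwa [← Module.End.mul_apply, ← map_mul, inv_mul_cancel, map_one, Module.End.one_apply] at h'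
    · have hkey : u c * T = T * u (Multiplicative.ofAdd (c.toAdd + Pi.single k (t * c.toAdd l))) := by
        apply Subtype.ext
        show (1 + rowM c.toAdd) * Matrix.transvection l.1 k.1 t =
          Matrix.transvection l.1 k.1 t * (1 + rowM (c.toAdd + Pi.single k (t * c.toAdd l)))
        ext i j
        by_cases hj : j = k.1
        · subst hj
          rw [Matrix.mul_transvection_apply_same]
          by_cases hi : i = l.1
          · subst hi
            rw [Matrix.transvection_mul_apply_same]
            simp [rowM, k.2, l.2, Ne.symm k.2]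
          · rw [Matrix.transvection_mul_apply_of_ne (ha := hi)]
            by_cases hi0 : i = 0
            · subst hi0; simp [rowM, k.2, l.2, Matrix.one_apply, Ne.symm k.2, Ne.symm l.2]
            · simp [rowM, hi0, Matrix.one_apply, hi]
        · rw [Matrix.mul_transvection_apply_of_ne (hb := hj)]
          by_cases hi : i = l.1
          · subst hi
            rw [Matrix.transvection_mul_apply_same]
            simp [rowM, k.2, l.2, Matrix.one_apply, Ne.symm hj]
          · rw [Matrix.transvection_mul_apply_of_ne (ha := hi)]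
            by_cases hj0 : j = 0
            · simp [rowM, hj0]
            · by_cases hi0 : i = 0
              · simp [rowM, hi0, hj0, Pi.single_apply, Subtype.ext_iff, hj]
              · simp [rowM, hi0]
      show a (u c) (a T x) = _
      rw [← Module.End.mul_apply, ← map_mul, hkey, map_mul, Module.End.mul_apply]
      show a T (A _ x) = _
      rw [hx, map_smul]
      congr 1
      show lam _ = lam _
      congr 3
      simp only [toAdd_ofAdd, Pi.add_apply, mul_add, add_mul, Finset.sum_add_distrib]
      simp [Pi.single_apply, mul_ite, ite_mul]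
      ring
  -- all non-zero weights occur
  have hset : ∀ w, S w → ∀ k : J n, w k ≠ 0 → ∀ z : (J n → F), z k = w k → S z := by
    intro w hw k hk z hz
    suffices h : ∀ s : Finset (J n), k ∉ s → S (fun j => if j ∈ s then z j else w j) by
      have h' := h (Finset.univ.erase k) (Finset.notMem_erase k _)
      have heq : (fun j => if j ∈ Finset.univ.erase k then z j else w j) = z := by
        funext j
        by_cases hj : j = k
        · subst hj; simp [hz]
        · simp [hj]
      rwa [heq] at h'
    intro s
    induction s using Finset.induction with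
    | empty => intro _; simpa using hw
    | insert l s hl ih =>
      intro hks
      rw [Finset.mem_insert, not_or] at hks
      have := hmove _ (ih hks.2) k l hks.1 ((z l - w l) / w k)
      convert this using 1
      funext j
      by_cases hj : j = l
      · subst hj; simp [hl, hks.2, div_mul_cancel₀ _ hk]
      · simp [hj]
  have hall : ∀ z : (J n → F), z ≠ 0 → S z := by
    intro z hz
    obtain ⟨k, hk⟩ := Function.ne_iff.1 hz
    obtain ⟨m, hm⟩ := Function.ne_iff.1 hw₀ne
    obtain ⟨l, hlk⟩ : ∃ l : J n, l ≠ k := by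
      by_cases h1 : k.1 = ⟨1, by omega⟩
      · exact ⟨⟨⟨2, by omega⟩, fun h => by simpa using congrArg Fin.val h⟩, fun h => by
          have := congrArg (fun j : J n => (j.1 : ℕ)) h; simp [h1] at this⟩
      · exact ⟨⟨⟨1, by omega⟩, fun h => by simpa using congrArg Fin.val h⟩, fun h => h1 (by rw [← h])⟩
    -- step 1: make the k coordinate non-zero
    obtain ⟨w1, hw1, hw1k⟩ : ∃ w1, S w1 ∧ w1 k ≠ 0 := by
      by_cases hk0 : w₀ k = 0
      · refine ⟨Function.update w₀ k 1, hset w₀ hS₀ m hm _ ?_, by simp⟩
        rw [Function.update_of_ne]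
        intro h
        exact hm (by rw [h, hk0]; rfl)
      · exact ⟨w₀, hS₀, hk0⟩
    have hw2 : S (Function.update w1 l 1) := hset w1 hw1 k hw1k _ (Function.update_of_ne hlk.symm _ _)
    have hw3 : S (Function.update (Function.update w1 l 1) k (z k)) :=
      hset _ hw2 l (by simp) _ (Function.update_of_ne hlk _ _)
    exact hset _ hw3 k (by simpa using hk) z (by simp)
  -- independence
  let ι := {z : (J n → F) // z ≠ 0}
  choose X hX0 hX using fun z : ι => hall z.1 z.2
  have hind : LinearIndependent L X := by
    rw [linearIndependent_iff']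
    intro s g hg i hi
    have happ := congrArg (fun y => ∑ c : Multiplicative (J n → F), μ i.1 c⁻¹ • A c y) hg
    simp only [map_sum, map_smul, hX, Finset.smul_sum, map_zero, smul_zero, Finset.sum_const_zero, smul_smul] at happ
    rw [Finset.sum_comm, Finset.sum_eq_single i] at happ
    · have hsum : ∑ c : Multiplicative (J n → F), μ i.1 c⁻¹ * (g i * μ i.1 c) = (Fintype.card (J n → F) : L) * g i := by
        rw [Finset.sum_congr rfl fun c _ => show μ i.1 c⁻¹ * (g i * μ i.1 c) = g i by
          rw [mul_left_comm, ← map_mul, inv_mul_cancel, map_one, mul_one]]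
        simp
      rw [← Finset.sum_smul, hsum, smul_eq_zero, or_iff_left (hX0 i), mul_eq_zero] at happ
      refine happ.resolve_left ?_
      rw [Fintype.card_fun, Nat.cast_pow]
      obtain ⟨e, -, he⟩ := FiniteField.card F p
      rw [he, Nat.cast_pow]
      exact pow_ne_zero _ (pow_ne_zero _ hpL)
    · intro j _ hji
      obtain ⟨c', hc'⟩ : ∃ c', μ i.1 c'⁻¹ * μ j.1 c' ≠ 1 := by
        by_contra hcon
        push Not at hcon
        refine hji (Subtype.ext (hμinj (MonoidHom.ext fun c => ?_)))
        calc μ j.1 c = (μ i.1 c * μ i.1 c⁻¹) * μ j.1 c := by rw [← map_mul, mul_inv_cancel, map_one, one_mul]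
          _ = μ i.1 c := by rw [mul_assoc, hcon c, mul_one]
      rw [← Finset.sum_smul]
      refine smul_eq_zero.2 (Or.inl ?_)
      set T := ∑ c : Multiplicative (J n → F), μ i.1 c⁻¹ * (g j * μ j.1 c)
      have hT : μ i.1 c'⁻¹ * μ j.1 c' * T = T := by
        rw [Finset.mul_sum]
        refine Fintype.sum_equiv (Equiv.mulLeft c') _ _ fun c => ?_
        simp only [Equiv.coe_mulLeft, mul_inv_rev, map_mul]
        ring
      by_contra hT0
      exact hc' (mul_right_cancel₀ hT0 (hT.trans (one_mul T).symm))
    · intro h; exact absurd hi h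
  have hle := hind.fintype_card_le_finrank
  rw [Module.finrank_fintype_fun_eq_card, Fintype.card_fin] at hle
  have hcard : Fintype.card ι = q ^ (n - 1) - 1 := by
    rw [Fintype.card_subtype_compl, Fintype.card_subtype_eq, Fintype.card_fun, hq, Fintype.card_subtype_compl,
      Fintype.card_fin, Fintype.card_subtype_eq]
  omega

end CfsgLib.Fus.CrossCharSL
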