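import Cfsg.Agent.Lie.Sp
import Cfsg.Agent.Fus.CrossCharSL

/-!
The lower bound `q^(n-1)(q-1)/2` for cross characteristic representations of `Sp_{2n}(q)`, `q` odd.
-/

set_option autoImplicit false
set_option linter.style.haveILetI false
set_option linter.unusedSectionVars false

namespace CfsgLib.Fus.CrossCharSp

open scoped Classical
open CfsgLib.Lie

/-- The part of a relation belonging to one weight vanishes. -/
theorem proj {L V A ι : Type*} [Field L] [AddCommGroup V] [Module L V] [AddCommGroup A] [Fintype A]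
    (hA : (Fintype.card A : L) ≠ 0) (op : A → Module.End L V) (χ : ι → AddChar A L) (y : ι → V)
    (hy : ∀ i c, op c (y i) = χ i c • y i) (s : Finset ι) (g : ι → L) (h : ∑ i ∈ s, g i • y i = 0)
    (i₀ : ι) : ∑ i ∈ s.filter (fun i => χ i = χ i₀), g i • y i = 0 := by
  have h2 : ∑ i ∈ s, (∑ c, ((χ i₀)⁻¹ * χ i) c) • g i • y i = 0 := by
    calc ∑ i ∈ s, (∑ c, ((χ i₀)⁻¹ * χ i) c) • g i • y i
        = ∑ c, (χ i₀)⁻¹ c • op c (∑ i ∈ s, g i • y i) := by
          simp only [map_sum, map_smul, hy, Finset.smul_sum, Finset.sum_smul]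
          rw [Finset.sum_comm]
          refine Finset.sum_congr rfl fun c _ => Finset.sum_congr rfl fun i _ => ?_
          simp only [smul_smul, AddChar.mul_apply]
          congr 1
          ring
      _ = 0 := by simp [h]
  have h3 : ∀ i, (∑ c, ((χ i₀)⁻¹ * χ i) c) = if χ i = χ i₀ then (Fintype.card A : L) else 0 := by
    intro i
    split_ifs with hi
    · rw [hi, inv_mul_cancel]; simp
    · exact AddChar.sum_eq_zero_of_ne_one fun h1 => hi (inv_mul_eq_one.1 h1).symm
  simp only [h3, ite_smul, zero_smul, ← Finset.sum_filter, ← Finset.smul_sum] at h2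
  exact (smul_eq_zero.1 h2).resolve_left hA

variable {F : Type*} [Field F] {n : ℕ}

/-- The root elements. -/
noncomputable def X (e₀ v : Sp.V n F) : Sp.G n F :=
  Sp.tv (e₀ + v) 1 * Sp.tv e₀ (-1) * Sp.tv v (-1)

theorem act_X {e₀ v : Sp.V n F} (h : Sp.bf n F e₀ v = 0) (y : Sp.V n F) :
    Sp.act (X e₀ v) y = y + Sp.bf n F y e₀ • v + Sp.bf n F y v • e₀ := by
  have h' : Sp.bf n F v e₀ = 0 := by rw [Sp.bf_swap, h, neg_zero]
  rw [X, Sp.act_mul, Sp.act_mul, Sp.act_tv, Sp.act_tv, Sp.act_tv]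
  simp only [map_add, map_smul, LinearMap.add_apply, LinearMap.smul_apply, smul_eq_mul, Sp.bf_self, h, h']
  module

theorem X_mul {e₀ v w : Sp.V n F} (hv : Sp.bf n F e₀ v = 0) (hw : Sp.bf n F e₀ w = 0) :
    X e₀ v * X e₀ w = X e₀ (v + w) * Sp.tv e₀ (Sp.bf n F w v) := by
  have hw' : Sp.bf n F w e₀ = 0 := by rw [Sp.bf_swap, hw, neg_zero]
  refine Sp.act_ext fun y => ?_
  rw [Sp.act_mul, Sp.act_mul, act_X hv, act_X hw, act_X (by simp [hv, hw]), Sp.act_tv]
  simp only [map_add, map_smul, LinearMap.add_apply, LinearMap.smul_apply, smul_eq_mul, Sp.bf_self, hv, hw, hw']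
  module

theorem X_comm_tv {e₀ v : Sp.V n F} (hv : Sp.bf n F e₀ v = 0) (c : F) :
    Commute (X e₀ v) (Sp.tv e₀ c) := by
  have hv' : Sp.bf n F v e₀ = 0 := by rw [Sp.bf_swap, hv, neg_zero]
  refine Sp.act_ext fun y => ?_
  rw [Sp.act_mul, Sp.act_mul, act_X hv, act_X hv, Sp.act_tv, Sp.act_tv]
  simp only [map_add, map_smul, LinearMap.add_apply, LinearMap.smul_apply, smul_eq_mul, Sp.bf_self, hv, hv']
  module

theorem X_swap {e₀ v w : Sp.V n F} (hv : Sp.bf n F e₀ v = 0) (hw : Sp.bf n F e₀ w = 0) :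
    X e₀ v * X e₀ w = X e₀ w * X e₀ v * Sp.tv e₀ (2 * Sp.bf n F w v) := by
  rw [X_mul hw hv, X_mul hv hw, mul_assoc, Sp.tv_add, add_comm w v, Sp.bf_swap w v]
  congr 2
  ring

theorem X_zero (e₀ : Sp.V n F) : X e₀ 0 = 1 :=
  Sp.act_ext fun y => by rw [act_X (map_zero _), Sp.act_one]; simp

/-- The indices other than the first. -/
abbrev J (n : ℕ) (i₀ : Fin n) : Type := {i : Fin n // i ≠ i₀}

/-- Vectors in the span of the `e i`. -/
noncomputable def vA (i₀ : Fin n) (a : J n i₀ → F) : Sp.V n F := ∑ i, a i • Sp.e i.1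

/-- Vectors in the span of the `f i`. -/
noncomputable def wB (i₀ : Fin n) (a : J n i₀ → F) : Sp.V n F := ∑ i, a i • Sp.f i.1

theorem vA_add (i₀ : Fin n) (a b : J n i₀ → F) : vA i₀ (a + b) = vA i₀ a + vA i₀ b := by
  simp [vA, add_smul, Finset.sum_add_distrib]

theorem bf_e_vA (i : Fin n) (i₀ : Fin n) (a : J n i₀ → F) : Sp.bf n F (Sp.e i) (vA i₀ a) = 0 := by
  simp only [vA, map_sum, map_smul, Sp.bf_e_left]
  exact Finset.sum_eq_zero fun j _ => by simp [Sp.e]

theorem bf_vA_vA (i₀ : Fin n) (a b : J n i₀ → F) : Sp.bf n F (vA i₀ a) (vA i₀ b) = 0 := by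
  rw [show vA i₀ a = ∑ i, a i • Sp.e i.1 from rfl, map_sum, LinearMap.sum_apply]
  exact Finset.sum_eq_zero fun i _ => by rw [map_smul, LinearMap.smul_apply, bf_e_vA, smul_zero]

theorem bf_e0_wB (i₀ : Fin n) (a : J n i₀ → F) : Sp.bf n F (Sp.e i₀) (wB i₀ a) = 0 := by
  simp only [wB, map_sum, map_smul, Sp.bf_e_left]
  exact Finset.sum_eq_zero fun i _ => by simp [Sp.f, Ne.symm i.2]

theorem bf_f_vA (i₀ : Fin n) (j : J n i₀) (a : J n i₀ → F) :
    Sp.bf n F (Sp.f j.1) (vA i₀ a) = a j := by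
  simp only [vA, map_sum, map_smul, Sp.bf_f_left]
  rw [Finset.sum_eq_single j]
  · simp [Sp.e]
  · intro i _ hi
    have : j.1 ≠ i.1 := fun h => hi (Subtype.ext h.symm)
    simp [Sp.e, this]
  · simp

theorem bf_wB_vA (i₀ : Fin n) (b a : J n i₀ → F) :
    Sp.bf n F (wB i₀ b) (vA i₀ a) = ∑ i, b i * a i := by
  simp only [wB, map_sum, map_smul, LinearMap.sum_apply, LinearMap.smul_apply, smul_eq_mul, bf_f_vA]

theorem main [Fintype F] {q : ℕ} (hq : Fintype.card F = q) (hodd : Odd q) (n : ℕ) (hn : 2 ≤ n)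
    {K : Type*} [Field K] (hK : ringChar K ≠ ringChar F) {d : ℕ}
    (ρ : Sp.G n F →* GL (Fin d) K) (hker : ρ.ker ≤ Subgroup.center (Sp.G n F)) :
    q ^ (n - 1) * (q - 1) / 2 ≤ d := by
  set p := ringChar F with hp
  haveI : CharP F p := ringChar.charP F
  haveI hpp : Fact p.Prime := ⟨CharP.char_is_prime F p⟩
  obtain ⟨k, -, hk⟩ := FiniteField.card F p
  have hp2 : p ≠ 2 := by
    intro h
    rw [← hq, hk, h] at hodd
    exact (Nat.not_odd_iff_even.2 (Even.pow_of_ne_zero even_two k.pos.ne')) hodd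
  have h2 : (2 : F) ≠ 0 := by
    intro h
    have h' : ((2 : ℕ) : F) = 0 := by exact_mod_cast h
    exact hp2 ((Nat.prime_dvd_prime_iff_eq hpp.out Nat.prime_two).1 ((CharP.cast_eq_zero_iff F p 2).1 h'))
  let L := AlgebraicClosure K
  let V := Fin d → L
  have hpL : (p : L) ≠ 0 := by
    intro h
    have h' : (p : K) = 0 := (algebraMap K L).injective (by rw [map_natCast, map_zero]; exact h)
    have hdvd := (CharP.cast_eq_zero_iff K (ringChar K) p).1 h'
    rcases (Nat.dvd_prime hpp.out).1 hdvd with h1 | h1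
    · exact CharP.char_ne_one K (ringChar K) h1
    · exact hK h1
  have hcardF : (Fintype.card F : L) ≠ 0 := by rw [hk, Nat.cast_pow]; exact pow_ne_zero _ hpL
  let a : Sp.G n F →* Module.End L V :=
    { toFun := fun g => Matrix.toLin' (((ρ g : GL (Fin d) K) : Matrix (Fin d) (Fin d) K).map (algebraMap K L))
      map_one' := by simp; rfl
      map_mul' := fun g h => by
        rw [map_mul, Units.val_mul, Matrix.map_mul, Matrix.toLin'_mul]; rfl }
  have hainj : ∀ g, a g = 1 → g ∈ Subgroup.center (Sp.G n F) := by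
    intro g hg
    refine hker (MonoidHom.mem_ker.2 (Units.ext ?_))
    have h1 : (((ρ g : GL (Fin d) K) : Matrix (Fin d) (Fin d) K).map (algebraMap K L)) = 1 :=
      Matrix.toLin'.injective (hg.trans Matrix.toLin'_one.symm)
    refine Matrix.map_injective (algebraMap K L).injective ?_
    dsimp only
    rw [h1, Units.val_one, Matrix.map_one _ (map_zero _) (map_one _)]
  have hamul : ∀ g h v, a (g * h) v = a g (a h v) := fun g h v => by rw [map_mul]; rfl
  have hainv : ∀ g v, a g⁻¹ (a g v) = v := fun g v => by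
    rw [← hamul, inv_mul_cancel, map_one]; rfl
  let i₀ : Fin n := ⟨0, by omega⟩
  set e₀ : Sp.V n F := Sp.e i₀ with he₀
  let A : (J n i₀ → F) → Sp.G n F := fun c => X e₀ (vA i₀ c)
  let B : (J n i₀ → F) → Sp.G n F := fun c => X e₀ (wB i₀ c)
  have hA0 : ∀ c, Sp.bf n F e₀ (vA i₀ c) = 0 := fun c => bf_e_vA i₀ i₀ c
  have hAadd : ∀ c c', A (c + c') = A c * A c' := fun c c' => by
    show X e₀ _ = X e₀ _ * X e₀ _
    rw [X_mul (hA0 c) (hA0 c'), bf_vA_vA, Sp.tv_zero, mul_one, vA_add]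
  have hT1 : a (Sp.tv e₀ 1) ≠ 1 := by
    intro h
    have hf : (Sp.f i₀ : Sp.V n F) ≠ 0 := fun h => by
      have := congrFun h (.inr i₀); simp [Sp.f] at this
    have he : e₀ ≠ 0 := fun h => by
      have := congrFun h (.inl i₀); simp [he₀, Sp.e] at this
    obtain ⟨g, hg⟩ := Sp.transitive he hf
    have h1 : g * Sp.tv e₀ 1 * g⁻¹ = Sp.tv e₀ 1 := by
      rw [← Subgroup.mem_center_iff.1 (hainj _ h) g |>.symm]; group
    rw [Sp.conj_tv, hg] at h1
    have h3 := congrArg (fun T => Sp.act T e₀) h1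
    simp only [Sp.act_tv, Sp.bf_self, mul_zero, zero_smul, add_zero, he₀, Sp.bf_e_left] at h3
    simp [Sp.f] at h3
  -- the common eigenvector
  let op : F ⊕ (J n i₀ → F) → Module.End L V := Sum.elim (fun c => a (Sp.tv e₀ c)) (fun c => a (A c))
  have hop : ∀ i j, Commute (op i) (op j) := by
    rintro (c | c) (c' | c')
    · exact Commute.map (by rw [Commute, SemiconjBy, Sp.tv_add, Sp.tv_add, add_comm]) a
    · exact Commute.map (X_comm_tv (hA0 c') c).symm a
    · exact Commute.map (X_comm_tv (hA0 c) c') a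
    · exact Commute.map (show Commute (A c) (A c') by rw [Commute, SemiconjBy, ← hAadd, ← hAadd, add_comm]) a
  let R := LinearMap.range (op (Sum.inl 1) - 1)
  have hR0 : R ≠ ⊥ := fun h => hT1 (sub_eq_zero.1 (LinearMap.range_eq_bot.1 h))
  have hRinv : ∀ c, ∀ v ∈ R, op c v ∈ R := by
    rintro c _ ⟨w, rfl⟩
    refine ⟨op c w, ?_⟩
    have h := LinearMap.congr_fun (hop (Sum.inl 1) c) w
    simp only [Module.End.mul_apply] at h
    simp [h]
  obtain ⟨v, hvR, hv0, hv⟩ := CrossCharSL.exists_common op hop Finset.univ R hR0 hRinv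
  choose l₀ hl₀ using fun i => hv i (Finset.mem_univ i)
  let ψ : AddChar F L :=
    { toFun := fun c => l₀ (Sum.inl c)
      map_zero_eq_one' := smul_left_injective L hv0 (by
        show l₀ (Sum.inl 0) • v = (1 : L) • v
        rw [← hl₀, one_smul]
        show a (Sp.tv e₀ 0) v = v
        rw [Sp.tv_zero, map_one]; rfl)
      map_add_eq_mul' := fun c c' => smul_left_injective L hv0 (by
        show l₀ (Sum.inl (c + c')) • v = (l₀ (Sum.inl c) * l₀ (Sum.inl c')) • v
        rw [← hl₀]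
        show a (Sp.tv e₀ (c + c')) v = _
        rw [← Sp.tv_add, hamul]
        show op (Sum.inl c) (op (Sum.inl c') v) = _
        rw [hl₀ (Sum.inl c'), map_smul, hl₀ (Sum.inl c), smul_smul, mul_comm]) }
  let lam : AddChar (J n i₀ → F) L :=
    { toFun := fun c => l₀ (Sum.inr c)
      map_zero_eq_one' := smul_left_injective L hv0 (by
        show l₀ (Sum.inr 0) • v = (1 : L) • v
        rw [← hl₀, one_smul]
        show a (A 0) v = v
        rw [show A 0 = 1 by simp only [A, vA, Pi.zero_apply, zero_smul, Finset.sum_const_zero, X_zero], map_one]; rfl)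
      map_add_eq_mul' := fun c c' => smul_left_injective L hv0 (by
        show l₀ (Sum.inr (c + c')) • v = (l₀ (Sum.inr c) * l₀ (Sum.inr c')) • v
        rw [← hl₀]
        show a (A (c + c')) v = _
        rw [hAadd, hamul]
        show op (Sum.inr c) (op (Sum.inr c') v) = _
        rw [hl₀ (Sum.inr c'), map_smul, hl₀ (Sum.inr c), smul_smul, mul_comm]) }
  have hvψ : ∀ c, a (Sp.tv e₀ c) v = ψ c • v := fun c => hl₀ (Sum.inl c)
  have hvlam : ∀ c, a (A c) v = lam c • v := fun c => hl₀ (Sum.inr c)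
  have hψ1 : ψ 1 ≠ 1 := by
    intro h
    obtain ⟨w, hw⟩ := hvR
    have hfix : a (Sp.tv e₀ 1) v = v := by rw [hvψ, h, one_smul]
    have hpow : ∀ m : ℕ, a (Sp.tv e₀ (m : F)) w = w + (m : L) • v := by
      intro m
      induction m with
      | zero => simp [Sp.tv_zero]
      | succ m ih =>
        rw [Nat.cast_succ, add_comm (m : F) 1, ← Sp.tv_add, hamul, ih, map_add, map_smul, hfix,
          Nat.cast_succ, add_smul, one_smul]
        have hw' : a (Sp.tv e₀ 1) w = w + v := by rw [← hw]; simp [op]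
        rw [hw']; abel
    have h1 := hpow p
    rw [CharP.cast_eq_zero, Sp.tv_zero, map_one, Module.End.one_apply, eq_comm, add_eq_left] at h1
    exact hv0 ((smul_eq_zero.1 h1).resolve_left hpL)
  have hψinj : ∀ r r' : F, (∀ c, ψ (r * c) = ψ (r' * c)) → r = r' := by
    intro r r' h
    by_contra hne
    apply hψ1
    have hr := h (r - r')⁻¹
    have : ψ ((r - r') * (r - r')⁻¹) * ψ (r' * (r - r')⁻¹) = 1 * ψ (r' * (r - r')⁻¹) := by
      rw [← AddChar.map_add_eq_mul, ← add_mul, sub_add_cancel, hr, one_mul]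
    rw [mul_inv_cancel₀ (sub_ne_zero.2 hne)] at this
    refine mul_right_cancel₀ ?_ this
    intro h0
    have h1 := ψ.map_zero_eq_one
    rw [← sub_self (r' * (r - r')⁻¹), sub_eq_add_neg, AddChar.map_add_eq_mul, h0, zero_mul] at h1
    exact zero_ne_one h1
  -- weights of the abelian subgroup
  let dot : (J n i₀ → F) → ((J n i₀ → F) →+ F) := fun b =>
    AddMonoidHom.mk' (fun c => ∑ i, 2 * b i * c i) (fun c c' => by simp [mul_add, Finset.sum_add_distrib])
  let μ : (J n i₀ → F) → AddChar (J n i₀ → F) L := fun b => lam * ψ.compAddMonoidHom (dot b)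
  have hμinj : Function.Injective μ := by
    intro b b' h
    have h' : ψ.compAddMonoidHom (dot b) = ψ.compAddMonoidHom (dot b') := mul_left_cancel h
    funext i
    refine mul_left_cancel₀ h2 (hψinj _ _ fun c => ?_)
    have := DFunLike.congr_fun h' (Pi.single i c)
    simpa [dot, Pi.single_apply] using this
  let x : (J n i₀ → F) → V := fun b => a (B b) v
  have hx0 : ∀ b, x b ≠ 0 := fun b h => hv0 (by
    have := congrArg (a (B b)⁻¹) h
    rwa [hainv, map_zero] at this)
  have hxψ : ∀ b c, a (Sp.tv e₀ c) (x b) = ψ c • x b := by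
    intro b c
    show a (Sp.tv e₀ c) (a (B b) v) = ψ c • a (B b) v
    rw [← hamul, ← (X_comm_tv (bf_e0_wB i₀ b) c).eq, hamul, hvψ, map_smul]
  have hxμ : ∀ b c, a (A c) (x b) = μ b c • x b := by
    intro b c
    show a (A c) (a (B b) v) = _ • a (B b) v
    rw [← hamul, show A c * B b = B b * A c * Sp.tv e₀ (2 * Sp.bf n F (wB i₀ b) (vA i₀ c)) from
      X_swap (hA0 c) (bf_e0_wB i₀ b), hamul, hamul, hvψ, map_smul, map_smul, hvlam, map_smul, smul_smul]
    congr 1
    show _ = lam c * ψ (dot b c)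
    rw [mul_comm, bf_wB_vA, Finset.mul_sum]
    simp [dot, mul_assoc]
  -- squares
  let Q : Finset F := (Finset.univ.erase (0 : F)).image fun y => y * y
  have hQ : q - 1 ≤ 2 * Q.card := by
    have h := Finset.card_le_mul_card_image (f := fun y : F => y * y) (Finset.univ.erase (0 : F)) 2 (by
      intro r hr
      obtain ⟨y, -, rfl⟩ := Finset.mem_image.1 hr
      refine (Finset.card_le_card (t := {y, -y}) fun z hz => ?_).trans Finset.card_le_two
      rcases mul_self_eq_mul_self_iff.1 (Finset.mem_filter.1 hz).2 with rfl | rfl <;> simp)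
    rwa [Finset.card_erase_of_mem (Finset.mem_univ _), Finset.card_univ, hq] at h
  have hg : ∀ r : Q, ∃ g : Sp.G n F, ∀ c, Sp.tv e₀ c * g = g * Sp.tv e₀ ((r : F)⁻¹ * c) := by
    rintro ⟨r, hr⟩
    obtain ⟨y, hy, rfl⟩ := Finset.mem_image.1 hr
    have hy0 : y ≠ 0 := (Finset.mem_erase.1 hy).1
    have he : e₀ ≠ 0 := fun h => by
      have := congrFun h (.inl i₀); simp [he₀, Sp.e] at this
    obtain ⟨g, hg⟩ := Sp.transitive he (smul_ne_zero hy0 he)
    refine ⟨g, fun c => ?_⟩
    have h := Sp.conj_tv g e₀ ((y * y)⁻¹ * c)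
    rw [hg, Sp.tv_smul, ← mul_assoc, mul_inv_cancel₀ (mul_ne_zero hy0 hy0), one_mul] at h
    rw [← h, inv_mul_cancel_right]
  choose g hg using hg
  let χ : Q × (J n i₀ → F) → AddChar F L := fun j => ψ.mulShift (j.1 : F)⁻¹
  let Y : Q × (J n i₀ → F) → V := fun j => a (g j.1) (x j.2)
  have hY : ∀ j c, a (Sp.tv e₀ c) (Y j) = χ j c • Y j := by
    intro j c
    show a (Sp.tv e₀ c) (a (g j.1) (x j.2)) = _ • a (g j.1) (x j.2)
    rw [← hamul, hg, hamul, hxψ, map_smul]
    rfl
  have hind : LinearIndependent L Y := by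
    rw [linearIndependent_iff']
    intro s c hc j hj
    have h1 := proj hcardF (fun t => a (Sp.tv e₀ t)) χ Y hY s c hc j
    have hfil : ∀ i ∈ s.filter (fun i => χ i = χ j), i.1 = j.1 := by
      intro i hi
      refine Subtype.ext (inv_injective (hψinj _ _ fun t => ?_))
      exact DFunLike.congr_fun (Finset.mem_filter.1 hi).2 t
    have h2 : ∑ i ∈ s.filter (fun i => χ i = χ j), c i • x i.2 = 0 := by
      have h := congrArg (a (g j.1)⁻¹) h1
      rw [map_zero, map_sum] at h
      rw [← h]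
      refine Finset.sum_congr rfl fun i hi => ?_
      rw [map_smul, ← hfil i hi, hainv]
    have hcardA : (Fintype.card (J n i₀ → F) : L) ≠ 0 := by
      rw [Fintype.card_fun, Nat.cast_pow]; exact pow_ne_zero _ hcardF
    have h3 := proj hcardA (fun t => a (A t)) (fun i : Q × (J n i₀ → F) => μ i.2) (fun i => x i.2)
      (fun i t => hxμ i.2 t) _ c h2 j
    rw [Finset.sum_eq_single j] at h3
    · exact (smul_eq_zero.1 h3).resolve_right (hx0 _)
    · intro i hi hij
      obtain ⟨hi1, hi2⟩ := Finset.mem_filter.1 hi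
      exact absurd (Prod.ext (hfil i hi1) (hμinj hi2)) hij
    · intro h
      exact absurd (by simp [hj]) h
  have hle := hind.fintype_card_le_finrank
  rw [Module.finrank_fintype_fun_eq_card, Fintype.card_fin, Fintype.card_prod, Fintype.card_coe,
    Fintype.card_fun, hq, Fintype.card_subtype_compl, Fintype.card_fin, Fintype.card_subtype_eq] at hle
  have h' : q ^ (n - 1) * (q - 1) ≤ d * 2 := by
    calc q ^ (n - 1) * (q - 1) ≤ q ^ (n - 1) * (2 * Q.card) := Nat.mul_le_mul_left _ hQ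
      _ = Q.card * q ^ (n - 1) * 2 := by ring
      _ ≤ d * 2 := Nat.mul_le_mul_right _ hle
  exact Nat.div_le_of_le_mul (by rwa [mul_comm 2 d])

end CfsgLib.Fus.CrossCharSp
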