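import Cfsg.Agent.OddLocal.PStable
import Mathlib.GroupTheory.Frattini

/-!
Odd order groups whose Sylow subgroup has cyclic derived subgroup.
-/

set_option autoImplicit false
set_option linter.style.haveILetI false
set_option linter.deprecated false

open CfsgLib.Solv
open scoped commutatorElement

namespace CfsgLib.Fus.CyclicDerived

variable {p : ℕ} [hp : Fact p.Prime]

theorem le_pCore_of_odd {X : Type*} [Group X] [Finite X] [Group.IsSolvable X] (hodd : Odd (Nat.card X)) (hp2 : p ≠ 2)
    (hO : Cfsg.pPrimeCore p X = ⊥) (S : Subgroup X) (hS : IsPGroup p S) (hRS : Cfsg.pCore p X ≤ S)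
    (hcyc : IsCyclic ↥(⁅S, S⁆ : Subgroup X)) : S ≤ Cfsg.pCore p X := by
  haveI := pCore_normal X p
  set R := Cfsg.pCore p X with hR
  have hRp : IsPGroup p R := pCore_isPGroup X p
  set Φ := (frattini R).map R.subtype with hΦ
  haveI hΦn : Φ.Normal := by rw [hΦ]; infer_instance
  set π := QuotientGroup.mk' Φ
  haveI : (R.map π).Normal := Subgroup.Normal.map inferInstance π (QuotientGroup.mk'_surjective Φ)
  have hRel : ∀ r ∈ R.map π, r ^ p = 1 := by
    rintro _ ⟨r, hr, rfl⟩
    rw [← map_pow]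
    exact (QuotientGroup.eq_one_iff _).2 ⟨(⟨r, hr⟩ : R) ^ p, CfsgLib.Solv.pow_mem_frattini hRp _, rfl⟩
  have hCp : IsPGroup p (Subgroup.centralizer ((R.map π : Subgroup _) : Set (X ⧸ Φ))) := by
    set C := Subgroup.centralizer ((R.map π : Subgroup _) : Set (X ⧸ Φ))
    have hcomap : IsPGroup p (C.comap π) := by
      refine IsPGroup.of_card (n := (Nat.card (C.comap π)).primeFactorsList.length)
        (Nat.eq_prime_pow_of_unique_prime_dvd Nat.card_pos.ne' fun {l} hl hld => ?_)
      by_contra hne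
      haveI := Fact.mk hl
      obtain ⟨y, hy⟩ := exists_prime_orderOf_dvd_card' l hld
      have hyo : orderOf (y : X) = l := by rw [Subgroup.orderOf_coe, hy]
      obtain ⟨n, hn⟩ := IsPGroup.iff_card.1 hRp
      have hcop : (Nat.card (Subgroup.zpowers (y : X))).Coprime (Nat.card R) := by
        rw [Nat.card_zpowers, hyo, hn]
        exact ((Nat.coprime_primes hl Fact.out).2 hne).pow_right n
      have hyR : (y : X) ∈ R := by
        refine centralizer_pCore_le hO (le_centralizer_of_trivial_on_frattini_quotient (K := R) (A := Subgroup.zpowers (y : X))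
          (hcop.coprime_dvd_right (frattini R).card_subgroup_dvd_card) (fun a ha k hk => ?_) (Subgroup.mem_zpowers _))
        refine (QuotientGroup.eq_one_iff (N := Φ) ⁅a, k⁆).1 ?_
        show π ⁅a, k⁆ = 1
        rw [map_commutatorElement, commutatorElement_eq_one_iff_mul_comm]
        have ha' : π a ∈ C := (Subgroup.zpowers_le.2 y.2) ha
        exact (Subgroup.mem_centralizer_iff.1 ha' _ ⟨k, hk, rfl⟩).symm
      refine hl.ne_one ?_
      rw [← hyo]
      exact Nat.eq_one_of_dvd_coprimes hcop (Nat.card_zpowers _).symm.dvd (Subgroup.orderOf_dvd_natCard R hyR)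
    have := hcomap.map π
    rwa [Subgroup.map_comap_eq_self_of_surjective (QuotientGroup.mk'_surjective Φ)] at this
  intro x hx
  have hoddY : Odd (Nat.card (X ⧸ Φ)) := hodd.of_dvd_nat (Subgroup.card_quotient_dvd_card Φ)
  have hquad : ⁅⁅R.map π, Subgroup.zpowers (π x)⁆, Subgroup.zpowers (π x)⁆ = ⊥ := by
    set D := ⁅R.map π, Subgroup.zpowers (π x)⁆ with hD
    have hxmap : Subgroup.zpowers (π x) ≤ S.map π := Subgroup.zpowers_le.2 (Subgroup.mem_map_of_mem π hx)
    have hDle : D ≤ (⁅S, S⁆).map π := by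
      rw [Subgroup.map_commutator]; exact Subgroup.commutator_mono (Subgroup.map_mono hRS) hxmap
    have hDR : D ≤ R.map π := Subgroup.commutator_le_left _ _
    haveI : IsCyclic ↥((⁅S, S⁆).map π) := isCyclic_of_surjective (π.subgroupMap _) (π.subgroupMap_surjective _)
    haveI hDc : IsCyclic D := isCyclic_of_injective (Subgroup.inclusion hDle) (Subgroup.inclusion_injective hDle)
    obtain ⟨g, hg⟩ := IsCyclic.exists_generator (α := D)
    have hgp : orderOf g ∣ p := orderOf_dvd_of_pow_eq_one (Subtype.ext (hRel g (hDR g.2)))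
    rw [orderOf_eq_card_of_forall_mem_zpowers hg] at hgp
    have hxN : Subgroup.zpowers (π x) ≤ Subgroup.normalizer (D : Set (X ⧸ Φ)) :=
      right_le_normalizer_commutator _ _
    rw [Subgroup.commutator_eq_bot_iff_le_centralizer]
    intro d hd
    rw [Subgroup.mem_centralizer_iff]
    intro w hw
    let a : MulAut D := Subgroup.normalizerMonoidHom D ⟨w, hxN hw⟩
    rcases (Nat.dvd_prime hp.out).1 hgp with h1 | h1
    · haveI : Subsingleton D := (Nat.card_eq_one_iff_unique.1 h1).1
      have : d = 1 := congrArg Subtype.val (Subsingleton.elim (⟨d, hd⟩ : D) 1)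
      rw [this, mul_one, one_mul]
    · have hQ : IsPGroup p (Subgroup.zpowers a) := by
        obtain ⟨j, hj⟩ := (hS.map π).to_le hxmap ⟨w, hw⟩
        obtain ⟨i, -, hi⟩ := (Nat.dvd_prime_pow hp.out).1 ((orderOf_map_dvd (Subgroup.normalizerMonoidHom D) ⟨w, hxN hw⟩).trans
          (orderOf_dvd_of_pow_eq_one (show (⟨w, hxN hw⟩ : ↥(Subgroup.normalizer (D : Set (X ⧸ Φ)))) ^ p ^ j = 1 from
            Subtype.ext (congrArg Subtype.val hj : w ^ p ^ j = 1))))
        exact IsPGroup.of_card (n := i) (by rw [Nat.card_zpowers]; exact hi)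
      have hfix : (1 : D) ∈ MulAction.fixedPoints (Subgroup.zpowers a) D := fun s => map_one (s : MulAut D)
      obtain ⟨b, hb, hb1⟩ := hQ.exists_fixed_point_of_prime_dvd_card_of_fixed_point D (by rw [h1]) hfix
      have hab : a b = b := hb ⟨a, Subgroup.mem_zpowers a⟩
      have hbgen : orderOf b = p := orderOf_eq_prime (Subtype.ext (hRel b (hDR b.2))) (fun e => hb1 e.symm)
      have htop : (Subgroup.zpowers b : Subgroup D) = ⊤ :=
        Subgroup.eq_top_of_card_eq _ (by rw [Nat.card_zpowers, hbgen, h1])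
      obtain ⟨i, hi⟩ := Subgroup.mem_zpowers_iff.1 (htop ▸ Subgroup.mem_top (⟨d, hd⟩ : D))
      have hd' : a ⟨d, hd⟩ = ⟨d, hd⟩ := by rw [← hi, map_zpow, hab]
      have h3 : w * d * w⁻¹ = d := congrArg Subtype.val hd'
      exact mul_inv_eq_iff_eq_mul.1 h3
  have hq := CfsgLib.OddLocal.PStable.map_quad_le hoddY hp2 (R.map π) (Subgroup.zpowers (π x)) (hRp.map π) hquad
  have h2 : π x ∈ Cfsg.pCore p (X ⧸ Φ) :=
    CfsgLib.OddLocal.PStable.comap_pCore_le _ hCp (Subgroup.map_le_iff_le_comap.1 hq (Subgroup.mem_zpowers _))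
  exact CfsgLib.OddLocal.PStable.comap_pCore_le Φ (hRp.to_le (Subgroup.map_subtype_le _)) h2

theorem main {X : Type*} [Group X] [Finite X] [Group.IsSolvable X] (hodd : Odd (Nat.card X))
    (S : Sylow p X) (hS : IsCyclic (commutator (S : Subgroup X))) :
    (Cfsg.pPrimeCore p X ⊔ (S : Subgroup X)).Normal := by
  set K := Cfsg.pPrimeCore p X with hK
  haveI : K.Normal := pPrimeCore_normal X p
  by_cases hS1 : (S : Subgroup X) = ⊥
  · rw [hS1, sup_bot_eq]; infer_instance
  have hp2 : p ≠ 2 := by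
    rintro rfl
    obtain ⟨a, ha, ha1⟩ := (S : Subgroup X).bot_or_exists_ne_one.resolve_left hS1
    obtain ⟨k, hk⟩ := IsPGroup.iff_orderOf.1 S.isPGroup' ⟨a, ha⟩
    rw [Subgroup.orderOf_mk] at hk
    rcases Nat.eq_zero_or_pos k with h0 | h0
    · rw [h0, pow_zero, orderOf_eq_one_iff] at hk; exact ha1 hk
    exact Nat.not_even_iff_odd.2 hodd (even_iff_two_dvd.2
      (((dvd_pow_self 2 h0.ne').trans hk.symm.dvd).trans (orderOf_dvd_natCard a)))
  set π := QuotientGroup.mk' K
  have hle : Cfsg.pCore p (X ⧸ K) ≤ (S : Subgroup X).map π :=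
    pCore_le_sylow (S.mapSurjective (QuotientGroup.mk'_surjective K))
  haveI hc : IsCyclic ↥(⁅(S : Subgroup X).map π, (S : Subgroup X).map π⁆ : Subgroup (X ⧸ K)) := by
    haveI := hS
    have hS' : IsCyclic ↥((commutator (S : Subgroup X)).map (S : Subgroup X).subtype) :=
      isCyclic_of_surjective ((S : Subgroup X).subtype.subgroupMap _) (MonoidHom.subgroupMap_surjective _ _)
    have he : (commutator (S : Subgroup X)).map (S : Subgroup X).subtype = ⁅(S : Subgroup X), (S : Subgroup X)⁆ := by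
      rw [map_commutator_eq, Subgroup.range_subtype]
    haveI := hS'
    rw [← Subgroup.map_commutator, ← he]
    exact isCyclic_of_surjective (π.subgroupMap _) (π.subgroupMap_surjective _)
  have heq : (S : Subgroup X).map π = Cfsg.pCore p (X ⧸ K) := le_antisymm
    (le_pCore_of_odd (hodd.of_dvd_nat (Subgroup.card_quotient_dvd_card K)) hp2 pPrimeCore_quotient_self _
      (S.isPGroup'.map π) hle hc) hle
  have h : ((S : Subgroup X).map π).comap π = K ⊔ (S : Subgroup X) := by
    rw [Subgroup.comap_map_eq, QuotientGroup.ker_mk', sup_comm]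
  rw [← h, heq]
  exact (pCore_normal (X ⧸ K) p).comap π

end CfsgLib.Fus.CyclicDerived
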