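import Cfsg.Agent.Fus.MetacyclicTwoGroup
import Cfsg.Agent.Solv.RankTwoNormal
import Cfsg.Agent.Solv.ThompsonBasic
import Cfsg.Agent.Inv.Replacement
import Cfsg.Agent.OddLocal.GoodSub

/-!
p-groups with a cyclic normal self-centralizing subgroup.
-/

set_option autoImplicit false
set_option linter.style.haveILetI false

namespace CfsgLib.Fus.CyclicSelfCentralizing

variable {G : Type*} [Group G] [Finite G]

theorem main {p : ℕ} [hp : Fact p.Prime] (hG : IsPGroup p G) (hna : ¬ IsMulCommutative G)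
    (U : Subgroup G) [hUn' : U.Normal] (hU : IsCyclic U) (n : ℕ) (hUn : Nat.card U = p ^ n)
    (hC : Subgroup.centralizer (U : Set G) = U) :
    (p = 2 ∧ Nat.card G = 2 ^ (n + 1) ∧ ((∃ m : ℕ, Nonempty (G ≃* DihedralGroup m)) ∨
      (∃ m : ℕ, Nonempty (G ≃* QuaternionGroup m)) ∨ Cfsg.IsQuasiDihedral G)) ∨
    (U.relIndex (Subgroup.centralizer (Cfsg.powerClosure p 1 U : Set G)) = p ∧
      Cfsg.IsElementaryAbelian p (Cfsg.omegaOne p (Subgroup.centralizer (Cfsg.powerClosure p 1 U : Set G))) ∧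
      Nat.card ↥(Cfsg.omegaOne p (Subgroup.centralizer (Cfsg.powerClosure p 1 U : Set G))) = p ^ 2 ∧
      (Cfsg.omegaOne p (Subgroup.centralizer (Cfsg.powerClosure p 1 U : Set G))).Characteristic) := by
  classical
  obtain ⟨a, ha⟩ := (Subgroup.isCyclic_iff_exists_zpowers_eq_top U).1 hU
  subst ha
  rw [Nat.card_zpowers] at hUn
  -- the subgroup is not central
  obtain ⟨k, rfl⟩ : ∃ k, n = k + 2 := by
    refine ⟨n - 2, ?_⟩
    by_contra hn
    have hap : a ^ p = 1 := orderOf_dvd_iff_pow_eq_one.1 (hUn ▸ (pow_dvd_pow p (show n ≤ 1 by omega)).trans (pow_one p).dvd)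
    have hcen := CfsgLib.OddLocal.GoodSub.le_center_of_cyclic hG (F := Subgroup.zpowers a)
      (by rintro _ ⟨i, rfl⟩; show (a ^ i) ^ p = 1; rw [← zpow_natCast, ← zpow_mul, mul_comm, zpow_mul, zpow_natCast, hap, one_zpow])
      hU
    have htop : Subgroup.zpowers a = ⊤ := by
      rw [← hC, Subgroup.centralizer_eq_top_iff_subset]
      exact hcen
    exact hna ⟨⟨fun x y => (Subgroup.mem_center_iff.1 (hcen (htop ▸ Subgroup.mem_top y)) x)⟩⟩
  have hP : (0 : ℤ) < (p : ℤ) := by exact_mod_cast hp.out.pos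
  have hP0 : (p : ℤ) ≠ 0 := hP.ne'
  have heq : ∀ i j : ℤ, a ^ i = a ^ j ↔ (p : ℤ) ^ (k + 2) ∣ i - j := fun i j => by
    rw [← mul_inv_eq_one, ← zpow_sub, ← orderOf_dvd_iff_zpow_eq_one, hUn]; push_cast; rfl
  have hexp : ∀ g : G, ∃ s : ℤ, g * a * g⁻¹ = a ^ s := fun g => by
    obtain ⟨s, hs⟩ := Subgroup.mem_zpowers_iff.1 (hUn'.conj_mem a (Subgroup.mem_zpowers a) g)
    exact ⟨s, hs.symm⟩
  have hpowc : ∀ (g : G) (s : ℤ), g * a * g⁻¹ = a ^ s → ∀ i : ℤ, g * a ^ i * g⁻¹ = a ^ (s * i) := fun g s h i => by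
    rw [← conj_zpow, h, zpow_mul]
  have hmul : ∀ (g g' : G) (s t : ℤ), g * a * g⁻¹ = a ^ s → g' * a * g'⁻¹ = a ^ t →
      g * g' * a * (g * g')⁻¹ = a ^ (s * t) := fun g g' s t h h' => by
    rw [show g * g' * a * (g * g')⁻¹ = g * (g' * a * g'⁻¹) * g⁻¹ by group, h', hpowc g s h]
  have hpow : ∀ (g : G) (s : ℤ), g * a * g⁻¹ = a ^ s → ∀ j : ℕ, g ^ j * a * (g ^ j)⁻¹ = a ^ (s ^ j) := by
    intro g s h j
    induction j with
    | zero => simp
    | succ j ih => rw [pow_succ, pow_succ]; exact hmul _ _ _ _ ih h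
  have hUfix : ∀ g : G, g ∈ Subgroup.zpowers a ↔ g * a * g⁻¹ = a := fun g => by
    conv_lhs => rw [← hC, Subgroup.zpowers_eq_closure, Subgroup.centralizer_closure,
      Subgroup.mem_centralizer_singleton_iff]
    exact mul_inv_eq_iff_eq_mul.symm
  -- the subgroup `M`
  set M := Subgroup.centralizer (Cfsg.powerClosure p 1 (Subgroup.zpowers a) : Set G) with hMdef
  have hpc : Cfsg.powerClosure p 1 (Subgroup.zpowers a) = Subgroup.zpowers (a ^ (p : ℤ)) := by
    refine le_antisymm ((Subgroup.closure_le _).2 ?_) (Subgroup.zpowers_le.2 (Subgroup.subset_closure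
      ⟨a, Subgroup.mem_zpowers a, by rw [pow_one, zpow_natCast]⟩))
    rintro _ ⟨_, ⟨i, rfl⟩, rfl⟩
    exact ⟨i, by rw [pow_one]; show (a ^ (p : ℤ)) ^ i = (a ^ i) ^ p; rw [← zpow_natCast (a ^ i), ← zpow_mul, ← zpow_mul, mul_comm]⟩
  have hMmem : ∀ (g : G) (s : ℤ), g * a * g⁻¹ = a ^ s → (g ∈ M ↔ (p : ℤ) ^ (k + 1) ∣ s - 1) := fun g s h => by
    rw [hMdef, hpc, Subgroup.zpowers_eq_closure, Subgroup.centralizer_closure, Subgroup.mem_centralizer_singleton_iff,
      ← mul_inv_eq_iff_eq_mul, hpowc g s h, heq, show s * (p : ℤ) - p = p * (s - 1) by ring,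
      show (p : ℤ) ^ (k + 2) = p * p ^ (k + 1) by ring, mul_dvd_mul_iff_left hP0]
  have hUM : Subgroup.zpowers a ≤ M := fun g hg =>
    (hMmem g 1 (by rw [zpow_one]; exact (hUfix g).1 hg)).2 (by simp)
  haveI hpn : (Cfsg.powerClosure p 1 (Subgroup.zpowers a)).Normal := by
    rw [hpc]
    refine ⟨?_⟩
    rintro _ ⟨i, rfl⟩ g
    obtain ⟨s, hs⟩ := hexp g
    refine ⟨s * i, ?_⟩
    show (a ^ (p : ℤ)) ^ (s * i) = g * (a ^ (p : ℤ)) ^ i * g⁻¹
    rw [← zpow_mul, ← zpow_mul, hpowc g s hs]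
    congr 1
    ring
  haveI hMn : M.Normal := by rw [hMdef]; infer_instance
  have hdvd : (Subgroup.zpowers a).relIndex M ∣ p := by
    let f : ↥M →* G :=
      { toFun := fun g => (g : G) * a * (g : G)⁻¹ * a⁻¹
        map_one' := by simp
        map_mul' := fun g h => by
          obtain ⟨s, hs⟩ := hexp g
          obtain ⟨t, ht⟩ := hexp h
          have hs' := (hMmem _ _ hs).1 g.2
          obtain ⟨w, hw⟩ := (hMmem _ _ ht).1 h.2
          obtain ⟨v, hv⟩ := hs'
          rw [Subgroup.coe_mul, hmul _ _ _ _ hs ht, hs, ht, ← zpow_neg_one a, ← zpow_add, ← zpow_add, ← zpow_add,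
            ← zpow_add, heq]
          refine ⟨v * w * (p : ℤ) ^ k, ?_⟩
          rw [show s = 1 + (p : ℤ) ^ (k + 1) * v by linarith, show t = 1 + (p : ℤ) ^ (k + 1) * w by linarith]
          ring }
    have hker : f.ker = (Subgroup.zpowers a).subgroupOf M := by
      ext g
      rw [MonoidHom.mem_ker, Subgroup.mem_subgroupOf, hUfix, ← mul_inv_eq_one (b := a)]
      rfl
    have hrange : f.range ≤ Subgroup.zpowers (a ^ ((p : ℤ) ^ (k + 1))) := by
      rintro _ ⟨g, rfl⟩
      obtain ⟨s, hs⟩ := hexp g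
      obtain ⟨v, hv⟩ := (hMmem _ _ hs).1 g.2
      refine ⟨v, ?_⟩
      show (a ^ ((p : ℤ) ^ (k + 1))) ^ v = (g : G) * a * (g : G)⁻¹ * a⁻¹
      rw [hs, ← zpow_neg_one a, ← zpow_add, ← zpow_mul, heq, ← hv]
      exact ⟨0, by ring⟩
    have hc : Nat.card ↥(Subgroup.zpowers (a ^ ((p : ℤ) ^ (k + 1)))) ∣ p := by
      rw [Nat.card_zpowers]
      refine orderOf_dvd_of_pow_eq_one ?_
      rw [← zpow_natCast, ← zpow_mul, ← zpow_zero a, heq]
      exact ⟨1, by ring⟩
    rw [Subgroup.relIndex, ← hker, Subgroup.index_ker]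
    exact (Subgroup.card_dvd_of_le hrange).trans hc
  have hne : Subgroup.zpowers a ≠ ⊤ := fun h => hna ⟨⟨fun x y => by
    obtain ⟨i, rfl⟩ : x ∈ Subgroup.zpowers a := h ▸ Subgroup.mem_top x
    obtain ⟨j, rfl⟩ : y ∈ Subgroup.zpowers a := h ▸ Subgroup.mem_top y
    exact ((Commute.refl a).zpow_zpow i j).eq⟩⟩
  -- elements whose `p`-th power lies in the cyclic subgroup
  have hord : ∀ (g : G) (s : ℤ), g * a * g⁻¹ = a ^ s → g ^ p ∈ Subgroup.zpowers a →
      g ∈ M ∨ (p = 2 ∧ (2 : ℤ) ^ (k + 1) ∣ s + 1) := by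
    intro g s hs hg
    have h1 : (p : ℤ) ^ (k + 2) ∣ s ^ p - 1 := by
      rw [← heq, zpow_one, ← hpow g s hs]
      exact (hUfix _).1 hg
    by_cases hp2 : p = 2
    · subst hp2
      rw [hMmem g s hs]
      push_cast at *
      obtain ⟨t, rfl | rfl⟩ := Int.even_or_odd' s
      · exfalso
        obtain ⟨c, hc⟩ := h1
        have : (2 : ℤ) ∣ 1 := ⟨2 * t ^ 2 - 2 ^ (k + 1) * c, by linear_combination -hc⟩
        norm_num at this
      · have h2 : (2 : ℤ) ^ k ∣ t * (t + 1) := by
          rw [show (2 : ℤ) ^ (k + 2) = 4 * 2 ^ k by ring, show (2 * t + 1) ^ 2 - 1 = 4 * (t * (t + 1)) by ring,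
            mul_dvd_mul_iff_left (by norm_num)] at h1
          exact h1
        rcases Int.even_or_odd t with ⟨t', ht'⟩ | ⟨t', ht'⟩
        · left
          have hcop : IsCoprime ((2 : ℤ) ^ k) (t + 1) := IsCoprime.pow_left ⟨-t', 1, by rw [ht']; ring⟩
          obtain ⟨c, hc⟩ := hcop.dvd_of_dvd_mul_right h2
          exact ⟨c, by rw [hc]; ring⟩
        · right
          have hcop : IsCoprime ((2 : ℤ) ^ k) t := IsCoprime.pow_left ⟨-t', 1, by rw [ht']; ring⟩
          obtain ⟨c, hc⟩ := hcop.dvd_of_dvd_mul_left h2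
          exact ⟨trivial, c, by linear_combination 2 * hc⟩
    · left
      rw [hMmem g s hs]
      have hs1 : (p : ℤ) ∣ s - 1 := by
        have h2 : ((s ^ p - 1 : ℤ) : ZMod p) = 0 := by
          rw [ZMod.intCast_zmod_eq_zero_iff_dvd]
          exact (dvd_pow_self _ (by omega)).trans h1
        push_cast at h2
        rw [ZMod.pow_card] at h2
        rw [← ZMod.intCast_zmod_eq_zero_iff_dvd]
        push_cast
        exact h2
      obtain ⟨u, hu⟩ := hs1
      obtain ⟨t, ht⟩ := odd_sq_dvd_geom_sum₂_sub (R := ℤ) (a := 1) (b := u) (hp.out.odd_of_ne_two hp2)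
      have hgs := geom_sum₂_mul s 1 p
      rw [one_pow] at hgs
      rw [show (1 : ℤ) + p * u = s by linarith] at ht
      simp only [one_pow, mul_one] at ht hgs
      rw [show (∑ i ∈ Finset.range p, s ^ i) = (p : ℤ) * (1 + p * t) by linear_combination ht] at hgs
      rw [← hgs, show (p : ℤ) ^ (k + 2) = p * p ^ (k + 1) by ring, mul_assoc, mul_dvd_mul_iff_left hP0] at h1
      exact (IsCoprime.pow_left (⟨-t, 1, by ring⟩ : IsCoprime (p : ℤ) (1 + p * t))).dvd_of_dvd_mul_left h1
  by_cases hcase : (p = 2 ∧ k = 0) ∨ M = Subgroup.zpowers a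
  · -- dihedral, quaternion, semidihedral
    left
    set π := QuotientGroup.mk' (Subgroup.zpowers a)
    have hπ : ∀ x : G, π x = 1 ↔ x ∈ Subgroup.zpowers a := fun x => QuotientGroup.eq_one_iff x
    have hidx : p = 2 ∧ (Subgroup.zpowers a).index = 2 ∧
        ∀ g : G, g ∉ Subgroup.zpowers a → ∀ s : ℤ, g * a * g⁻¹ = a ^ s → (2 : ℤ) ^ (k + 1) ∣ s + 1 ∧ (4 : ℤ) ∣ s + 1 := by
      rcases hcase with ⟨rfl, rfl⟩ | hMU
      · have hs4 : ∀ g : G, ∀ s : ℤ, g * a * g⁻¹ = a ^ s → ¬ (2 : ℤ) ∣ s := by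
          rintro g s hs ⟨t, rfl⟩
          have h1 : (g * a * g⁻¹) ^ 2 = 1 := by
            rw [hs, ← zpow_natCast, ← zpow_mul, ← zpow_zero a, heq]
            exact ⟨t, by push_cast; ring⟩
          have h2 := orderOf_dvd_of_pow_eq_one h1
          rw [show g * a * g⁻¹ = MulAut.conj g a from rfl, MulEquiv.orderOf_eq, hUn] at h2
          norm_num at h2
        have hMtop : M = ⊤ := top_le_iff.1 fun g _ => by
          obtain ⟨s, hs⟩ := hexp g
          rw [hMmem g s hs]
          have := hs4 g s hs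
          push_cast
          omega
        refine ⟨rfl, ?_, fun g hg s hs => ?_⟩
        · rw [← Subgroup.relIndex_top_right, ← hMtop]
          refine ((Nat.dvd_prime Nat.prime_two).1 hdvd).resolve_left fun h => hne ?_
          rw [hMtop, Subgroup.relIndex_top_right, Subgroup.index_eq_one] at h
          exact h
        · have h1 := hs4 g s hs
          have h2 : ¬ (4 : ℤ) ∣ s - 1 := fun h => hg ((hUfix g).2 (by
            rw [hs, ← zpow_one a, ← zpow_mul, one_mul, heq]
            simpa using h))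
          refine ⟨?_, by omega⟩
          simp only [zero_add, pow_one]
          omega
      · have hgU : ∀ g : G, g ∉ Subgroup.zpowers a → ∀ s : ℤ, g * a * g⁻¹ = a ^ s → g ^ p ∈ Subgroup.zpowers a →
            p = 2 ∧ (2 : ℤ) ^ (k + 1) ∣ s + 1 := fun g hg s hs hgp =>
          (hord g s hs hgp).resolve_left (fun h => hg (hMU ▸ h))
        have hex : ∃ g : G, g ∉ Subgroup.zpowers a ∧ g ^ p ∈ Subgroup.zpowers a := by
          obtain ⟨j, hj⟩ := IsPGroup.iff_card.1 (hG.to_quotient (Subgroup.zpowers a))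
          have hj0 : j ≠ 0 := fun h => hne (Subgroup.index_eq_one.1 (by
            show Nat.card (G ⧸ Subgroup.zpowers a) = 1
            rw [hj, h, pow_zero]))
          obtain ⟨q, hq⟩ := exists_prime_orderOf_dvd_card' (G := G ⧸ Subgroup.zpowers a) p (by rw [hj]; exact dvd_pow_self p hj0)
          obtain ⟨g, rfl⟩ := QuotientGroup.mk'_surjective (Subgroup.zpowers a) q
          refine ⟨g, fun h => hp.out.ne_one ?_, ?_⟩
          · rw [← hq]; exact orderOf_eq_one_iff.2 ((hπ g).2 h)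
          · rw [← hπ, map_pow, ← hq]; exact pow_orderOf_eq_one _
        obtain ⟨g₀, hg₀, hg₀p⟩ := hex
        obtain ⟨s₀, hs₀⟩ := hexp g₀
        obtain ⟨rfl, hs₀'⟩ := hgU g₀ hg₀ s₀ hs₀ hg₀p
        have hk1 : 1 ≤ k := by
          by_contra hk
          obtain rfl : k = 0 := by omega
          refine hg₀ (hMU ▸ (hMmem g₀ s₀ hs₀).2 ?_)
          push_cast at hs₀' ⊢
          omega
        have h4 : (4 : ℤ) ∣ 2 ^ (k + 1) := by
          rw [show (4 : ℤ) = 2 ^ 2 by norm_num]; exact pow_dvd_pow 2 (by omega)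
        have hsq : ∀ g : G, g ^ 2 ∈ Subgroup.zpowers a := by
          intro g
          by_contra hg
          obtain ⟨e, he⟩ := hG.to_quotient (Subgroup.zpowers a) (π g)
          obtain ⟨e, -, he⟩ := (Nat.dvd_prime_pow Nat.prime_two).1 (orderOf_dvd_of_pow_eq_one he)
          have he2 : 2 ≤ e := by
            by_contra h
            refine hg ((hπ _).1 ?_)
            rw [map_pow, ← orderOf_dvd_iff_pow_eq_one, he]
            exact (pow_dvd_pow 2 (show e ≤ 1 by omega)).trans (pow_one 2).dvd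
          set w := g ^ 2 ^ (e - 2) with hw
          obtain ⟨s, hs⟩ := hexp w
          have hw1 : w ^ 2 ∉ Subgroup.zpowers a := fun h => by
            rw [← hπ, hw, ← pow_mul, ← pow_succ, map_pow, ← orderOf_dvd_iff_pow_eq_one, he,
              Nat.pow_dvd_pow_iff_le_right (by norm_num)] at h
            omega
          have hw2 : (w ^ 2) ^ 2 ∈ Subgroup.zpowers a := by
            rw [← hπ, hw, ← pow_mul, ← pow_mul, map_pow, ← orderOf_dvd_iff_pow_eq_one, he]
            rw [show 2 ^ (e - 2) * (2 * 2) = 2 ^ (e - 2 + 2) by ring, Nat.pow_dvd_pow_iff_le_right (by norm_num)]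
            omega
          have h5 := h4.trans (hgU (w ^ 2) hw1 _ (hpow w s hs 2) hw2).2
          rcases Int.even_or_odd' s with ⟨t, rfl | rfl⟩
          · rw [show (2 * t) ^ 2 + 1 = 4 * t ^ 2 + 1 by ring] at h5; omega
          · rw [show (2 * t + 1) ^ 2 + 1 = 4 * (t ^ 2 + t) + 2 by ring] at h5; omega
        have hall : ∀ g : G, g ∉ Subgroup.zpowers a → ∀ s : ℤ, g * a * g⁻¹ = a ^ s → (2 : ℤ) ^ (k + 1) ∣ s + 1 :=
          fun g hg s hs => (hgU g hg s hs (hsq g)).2
        refine ⟨rfl, ?_, fun g hg s hs => ⟨hall g hg s hs, h4.trans (hall g hg s hs)⟩⟩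
        rw [Subgroup.index_eq_two_iff]
        refine ⟨g₀, fun b => ?_⟩
        by_cases hb : b ∈ Subgroup.zpowers a
        · exact Or.inr ⟨hb, fun h => hg₀ ((Subgroup.mul_mem_cancel_left _ hb).1 h)⟩
        · refine Or.inl ⟨?_, hb⟩
          obtain ⟨s, hs⟩ := hexp b
          obtain ⟨c, hc⟩ := hall b hb s hs
          obtain ⟨c₀, hc₀⟩ := hs₀'
          refine hMU ▸ (hMmem _ _ (hmul b g₀ s s₀ hs hs₀)).2 ⟨2 ^ (k + 1) * c * c₀ - c - c₀, ?_⟩
          push_cast
          rw [show s = (2 : ℤ) ^ (k + 1) * c - 1 by linarith, show s₀ = (2 : ℤ) ^ (k + 1) * c₀ - 1 by linarith]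
          ring
    obtain ⟨rfl, hidx, hs⟩ := hidx
    have hcardG : Nat.card G = 2 ^ (k + 2 + 1) := by
      rw [← (Subgroup.zpowers a).card_mul_index, hidx, Nat.card_zpowers, hUn, pow_succ 2 (k + 2)]
    refine ⟨rfl, hcardG, ?_⟩
    obtain ⟨v, hv⟩ : ∃ v, v ∉ Subgroup.zpowers a := by
      by_contra h
      push Not at h
      exact hne ((Subgroup.eq_top_iff' _).2 h)
    obtain ⟨s, hva⟩ := hexp v
    obtain ⟨c, hc⟩ := (hs v hv s hva).2
    haveI : Fact (Nat.Prime 2) := ⟨Nat.prime_two⟩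
    refine CfsgLib.Fus.MetaTwo.shape_of_pattern hG hUn' (isCyclic_of_prime_card (p := 2) hidx)
      ?_ hva (t := 1 - 2 * c) (by exact ⟨-c, by ring⟩) (by linarith) ?_
    · rw [hUn]; exact ⟨2 ^ k, by ring⟩
    · rw [← pow_two, ← hidx]
      exact Subgroup.pow_index_mem (Subgroup.zpowers a) v
  · right
    push Not at hcase
    obtain ⟨hpk, hMU⟩ := hcase
    have hrel : (Subgroup.zpowers a).relIndex M = p :=
      ((Nat.dvd_prime hp.out).1 hdvd).resolve_left fun h => hMU (le_antisymm (Subgroup.relIndex_eq_one.1 h) hUM)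
    have hMnc : ¬ IsCyclic M := fun hc => hMU (le_antisymm (fun g hg => (hUfix g).2 (by
      have h1 : (⟨g, hg⟩ : M) * ⟨a, hUM (Subgroup.mem_zpowers a)⟩ = ⟨a, hUM (Subgroup.mem_zpowers a)⟩ * ⟨g, hg⟩ :=
        hc.isMulCommutative.is_comm.comm _ _
      exact mul_inv_eq_iff_eq_mul.2 (congrArg Subtype.val h1))) hUM)
    have hΩ : Cfsg.IsElementaryAbelian p (Cfsg.omegaOne p M) ∧ Nat.card (Cfsg.omegaOne p M) = p ^ 2 := by
      by_cases hp2 : p = 2
      swap
      · have hm : Cfsg.IsMetacyclic M := by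
          haveI : ((Subgroup.zpowers a).subgroupOf M).Normal := Subgroup.normal_subgroupOf
          refine ⟨(Subgroup.zpowers a).subgroupOf M, inferInstance, ?_, isCyclic_of_prime_card (p := p) hrel⟩
          exact (Subgroup.subgroupOfEquivOfLe hUM).isCyclic.2 hU
        obtain ⟨h1, h2⟩ := CfsgLib.Solv.omegaOne_metacyclic hp2 (hG.to_subgroup M) hm hMnc
        have hmap : (Cfsg.omegaOne p (⊤ : Subgroup M)).map M.subtype = Cfsg.omegaOne p M := by
          rw [CfsgLib.Solv.omegaOne_map_of_injOn _ _ M.subtype_injective.injOn, ← MonoidHom.range_eq_map,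
            Subgroup.range_subtype]
        rw [← hmap]
        refine ⟨⟨⟨⟨?_⟩⟩, ?_⟩, ?_⟩
        · rintro ⟨_, x, hx, rfl⟩ ⟨_, y, hy, rfl⟩
          exact Subtype.ext (congrArg (fun z : Cfsg.omegaOne p (⊤ : Subgroup M) => ((z : M) : G))
            (h1.1.is_comm.comm ⟨x, hx⟩ ⟨y, hy⟩))
        · rintro _ ⟨x, hx, rfl⟩
          rw [← map_pow, h1.2 x hx, map_one]
        · rw [Subgroup.card_map_of_injective M.subtype_injective, h2]
      subst hp2
      obtain ⟨j, rfl⟩ : ∃ j, k = j + 1 := ⟨k - 1, by have := hpk rfl; omega⟩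
      obtain ⟨x, hxM, hxU⟩ : ∃ x ∈ M, x ∉ Subgroup.zpowers a := by
        by_contra h
        push Not at h
        exact hMU (le_antisymm h hUM)
      set h : ℤ := (2 : ℤ) ^ (j + 2) with hh
      have hxa : x * a * x⁻¹ = a ^ (1 + h) := by
        obtain ⟨s, hs⟩ := hexp x
        obtain ⟨c, hc⟩ := (hMmem x s hs).1 hxM
        rcases Int.even_or_odd' c with ⟨d, rfl | rfl⟩
        · exfalso
          refine hxU ((hUfix x).2 ?_)
          rw [hs, ← zpow_one a, ← zpow_mul, one_mul, heq]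
          exact ⟨d, by push_cast at hc ⊢; linear_combination hc⟩
        · rw [hs, heq]
          exact ⟨d, by push_cast at hc ⊢; linear_combination hc⟩
      have hN : (2 : ℤ) ^ (j + 1 + 2) = 2 * h := by rw [hh]; ring
      have heq' : ∀ i l : ℤ, a ^ i = a ^ l ↔ 2 * h ∣ i - l := fun i l => by
        rw [heq]; push_cast; rw [hN]
      have hh0 : h ≠ 0 := by positivity
      obtain ⟨d, hd⟩ : (2 : ℤ) ∣ h := ⟨2 ^ (j + 1), by rw [hh]; ring⟩
      obtain ⟨d', hd'⟩ : (2 : ℤ) ∣ d := ⟨2 ^ j, by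
        have : (2 : ℤ) * d = 2 * (2 * 2 ^ j) := by rw [← hd, hh]; ring
        linarith⟩
      have hidx2 : ∀ g ∈ M, g ∈ Subgroup.zpowers a ∨ g * x⁻¹ ∈ Subgroup.zpowers a := fun g hg => by
        rw [or_iff_not_imp_left]
        intro hgU
        have := (Subgroup.mul_mem_iff_of_index_two (H := (Subgroup.zpowers a).subgroupOf M) hrel
          (a := ⟨g, hg⟩) (b := ⟨x⁻¹, inv_mem hxM⟩))
        simp only [Subgroup.mem_subgroupOf, Subgroup.coe_mul] at this
        exact this.2 (iff_of_false hgU fun h' => hxU (by simpa using inv_mem h'))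
      obtain ⟨i, hi⟩ : x * x ∈ Subgroup.zpowers a := by
        have := (Subgroup.mul_mem_iff_of_index_two (H := (Subgroup.zpowers a).subgroupOf M) hrel
          (a := ⟨x, hxM⟩) (b := ⟨x, hxM⟩))
        simp only [Subgroup.mem_subgroupOf, Subgroup.coe_mul] at this
        exact this.2 trivial
      have hi' : a ^ i = x * x := hi
      obtain ⟨i', rfl⟩ : Even i := by
        have h1 : a ^ ((1 + h) * i) = a ^ i := by rw [← hpowc x _ hxa, hi']; group
        rw [heq', show (1 + h) * i - i = h * i by ring, mul_comm 2 h, mul_dvd_mul_iff_left hh0] at h1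
        exact even_iff_two_dvd.2 h1
      have hcop : IsCoprime (1 + d) h := by
        rw [hh]
        exact IsCoprime.pow_right ⟨1, -d', by rw [hd']; ring⟩
      obtain ⟨u, v, huv⟩ := id hcop
      set y := a ^ (-i' * u) * x with hy
      have hsq : ∀ l : ℤ, (a ^ l * x) * (a ^ l * x) = a ^ (l + (1 + h) * l + (i' + i')) := fun l => by
        rw [zpow_add, zpow_add, ← hpowc x _ hxa, hi']; group
      have hyy : y * y = 1 := by
        rw [hy, hsq, ← zpow_zero a, heq']
        exact ⟨i' * v, by linear_combination (-2 * i') * huv + (-i' * u) * hd⟩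
      have hyM : y ∈ M := mul_mem (hUM (zpow_mem (Subgroup.mem_zpowers a) _)) hxM
      have hyU : y ∉ Subgroup.zpowers a := fun h' => hxU
        ((Subgroup.mul_mem_cancel_left _ (zpow_mem (Subgroup.mem_zpowers a) _)).1 h')
      have hya : y * a * y⁻¹ = a ^ (1 + h) := by
        rw [hy, show a ^ (-i' * u) * x * a * (a ^ (-i' * u) * x)⁻¹ = a ^ (-i' * u) * (x * a * x⁻¹) * (a ^ (-i' * u))⁻¹ by group,
          hxa, ← zpow_add, ← zpow_neg, ← zpow_add]
        congr 1; ring
      set z := a ^ h with hz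
      have hzz : z * z = 1 := by rw [hz, ← zpow_add, ← zpow_zero a, heq']; exact ⟨1, by ring⟩
      have hz1 : z ≠ 1 := fun e' => by
        rw [hz, ← zpow_zero a, heq', sub_zero] at e'
        obtain ⟨c, hc⟩ := e'
        have h3 : h * (2 * c) = h * 1 := by linarith
        have := mul_left_cancel₀ hh0 h3
        omega
      have hzy : Commute z y := by
        rw [Commute, SemiconjBy]
        refine (mul_inv_eq_iff_eq_mul.1 ?_).symm
        rw [hz, hpowc y _ hya, heq']
        exact ⟨d, by linear_combination h * hd⟩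
      have hcomm : ∀ b ∈ Subgroup.zpowers z, ∀ c ∈ Subgroup.zpowers y, b * c = c * b := by
        rintro _ ⟨b, rfl⟩ _ ⟨c, rfl⟩
        exact (hzy.zpow_zpow b c).eq
      have hzU : Subgroup.zpowers z ≤ Subgroup.zpowers a := Subgroup.zpowers_le.2 (zpow_mem (Subgroup.mem_zpowers a) h)
      have hset : Cfsg.omegaOne 2 M = Subgroup.zpowers z ⊔ Subgroup.zpowers y := by
        refine le_antisymm ((Subgroup.closure_le _).2 ?_) (sup_le
          (Subgroup.zpowers_le.2 (Subgroup.subset_closure ⟨hUM (hzU (Subgroup.mem_zpowers z)), by rw [pow_two, hzz]⟩))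
          (Subgroup.zpowers_le.2 (Subgroup.subset_closure ⟨hyM, by rw [pow_two, hyy]⟩)))
        rintro m ⟨hmM, hm2⟩
        have hzl : ∀ l : ℤ, h ∣ l → a ^ l ∈ Subgroup.zpowers z := by
          rintro l ⟨c, rfl⟩; exact ⟨c, by show z ^ c = _; rw [hz, zpow_mul]⟩
        rcases hidx2 m hmM with hmU | hmU
        · obtain ⟨l, rfl⟩ := hmU
          refine Subgroup.mem_sup_left (hzl l ?_)
          have h3 : a ^ (l + l) = a ^ (0 : ℤ) := by rw [zpow_add, zpow_zero, ← pow_two]; exact hm2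
          rw [heq', sub_zero, ← two_mul, mul_dvd_mul_iff_left (by norm_num)] at h3
          exact h3
        · have hmy : m * y⁻¹ ∈ Subgroup.zpowers a := by
            rw [hy, mul_inv_rev, ← mul_assoc]
            exact mul_mem hmU (inv_mem (zpow_mem (Subgroup.mem_zpowers a) _))
          obtain ⟨l, hl⟩ := hmy
          have hme : m = a ^ l * y := by rw [show a ^ l = m * y⁻¹ from hl, inv_mul_cancel_right]
          rw [hme]
          refine Subgroup.mul_mem_sup (hzl l ?_) (Subgroup.mem_zpowers y)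
          have h3 : a ^ (l + (1 + h) * l) = a ^ (0 : ℤ) := by
            rw [zpow_zero, ← hm2, hme, zpow_add, ← hpowc y _ hya, pow_two]
            calc a ^ l * (y * a ^ l * y⁻¹) = a ^ l * (y * a ^ l * y⁻¹) * (y * y) := by rw [hyy, mul_one]
              _ = a ^ l * y * (a ^ l * y) := by group
          rw [heq', sub_zero, show l + (1 + h) * l = 2 * (l * (1 + d)) by rw [hd]; ring,
            mul_dvd_mul_iff_left (by norm_num)] at h3
          exact hcop.symm.dvd_of_dvd_mul_right h3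
      rw [hset]
      have hcz : Nat.card (Subgroup.zpowers z) = 2 := by
        rw [Nat.card_zpowers]; exact orderOf_eq_prime (by rw [pow_two, hzz]) hz1
      have hy1 : y ≠ 1 := fun e' => hyU (e' ▸ one_mem _)
      have hcy : Nat.card (Subgroup.zpowers y) = 2 := by
        rw [Nat.card_zpowers]; exact orderOf_eq_prime (by rw [pow_two, hyy]) hy1
      have hinf : Subgroup.zpowers z ⊓ Subgroup.zpowers y = ⊥ := by
        rw [eq_bot_iff]
        intro m hm
        obtain ⟨hmz, hmy⟩ := Subgroup.mem_inf.1 hm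
        rw [Subgroup.mem_bot]
        by_contra hm1
        haveI : Fact (Nat.Prime 2) := ⟨Nat.prime_two⟩
        have h' : Subgroup.zpowers m = Subgroup.zpowers y := Subgroup.eq_of_le_of_card_ge (Subgroup.zpowers_le.2 hmy) (by
          rw [hcy, Nat.card_zpowers]
          have := orderOf_pos m
          have : orderOf m ≠ 1 := fun e' => hm1 (orderOf_eq_one_iff.1 e')
          omega)
        exact hyU (Subgroup.zpowers_le.2 (hzU hmz) (h'.ge (Subgroup.mem_zpowers y)))
      refine ⟨⟨?_, ?_⟩, ?_⟩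
      · rw [Subgroup.zpowers_eq_closure z, Subgroup.zpowers_eq_closure y, ← Subgroup.closure_union]
        refine Subgroup.isMulCommutative_closure ?_
        rintro b (rfl | rfl) c (rfl | rfl)
        exacts [rfl, hzy, hzy.symm, rfl]
      · intro m hm
        rw [← SetLike.mem_coe, Subgroup.coe_mul_of_left_le_normalizer_right _ _ (by
          refine le_trans ?_ (Subgroup.centralizer_le_normalizer (Subgroup.zpowers y : Set G))
          exact fun b hb => Subgroup.mem_centralizer_iff.2 fun c hc => (hcomm b hb c hc).symm)] at hm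
        obtain ⟨b, hb, c, hc, rfl⟩ := hm
        have hb2 : b ^ 2 = 1 := orderOf_dvd_iff_pow_eq_one.1 (by
          rw [← hcz, Nat.card_zpowers]; exact orderOf_dvd_of_mem_zpowers hb)
        have hc2 : c ^ 2 = 1 := orderOf_dvd_iff_pow_eq_one.1 (by
          rw [← hcy, Nat.card_zpowers]; exact orderOf_dvd_of_mem_zpowers hc)
        show (b * c) ^ 2 = 1
        rw [(show Commute b c from hcomm b hb c hc).mul_pow, hb2, hc2, one_mul]
      · have := CfsgLib.Inv.ZJ.card_sup_of_commute hcomm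
        rw [hinf, Subgroup.card_bot, mul_one, hcz, hcy] at this
        rw [this]; norm_num
    refine ⟨hrel, hΩ.1, hΩ.2, Subgroup.characteristic_iff_map_eq.2 fun φ => ?_⟩
    set Ω := Cfsg.omegaOne p M
    haveI hΩn : Ω.Normal := by
      refine ⟨fun m hm g => ?_⟩
      have hle : Ω ≤ Ω.comap (MulAut.conj g).toMonoidHom := (Subgroup.closure_le _).2 fun b hb =>
        Subgroup.subset_closure ⟨hMn.conj_mem b hb.1 g, by
          show (g * b * g⁻¹) ^ p = 1
          rw [conj_pow, hb.2, mul_one, mul_inv_cancel]⟩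
      exact hle hm
    refine Subgroup.eq_of_le_of_card_ge ?_ (Subgroup.card_map_of_injective φ.injective).ge
    haveI hφn : (Ω.map φ.toMonoidHom).Normal := hΩn.map _ φ.surjective
    rintro m ⟨b, hb, rfl⟩
    have hmp : (φ b) ^ p = 1 := by rw [← map_pow, hΩ.1.2 b hb, map_one]
    refine Subgroup.subset_closure ⟨?_, hmp⟩
    obtain ⟨s, hs⟩ := hexp (φ b)
    show φ b ∈ M
    rw [hMmem _ _ hs]
    have hc : a ^ (s - 1) ∈ Ω.map φ.toMonoidHom := by
      have he : a ^ (s - 1) = φ b * (a * (φ b)⁻¹ * a⁻¹) := by rw [zpow_sub_one, ← hs]; group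
      rw [he]
      exact mul_mem (Subgroup.mem_map_of_mem φ.toMonoidHom hb)
        (hφn.conj_mem _ (inv_mem (Subgroup.mem_map_of_mem φ.toMonoidHom hb)) a)
    obtain ⟨b', hb', he'⟩ := hc
    have h1 : (a ^ (s - 1)) ^ p = 1 := by
      rw [← he', ← map_pow, hΩ.1.2 b' hb', map_one]
    rw [← zpow_natCast, ← zpow_mul, ← zpow_zero a, heq, sub_zero, show (p : ℤ) ^ (k + 2) = p ^ (k + 1) * p by ring,
      mul_dvd_mul_iff_right hP0] at h1
    exact h1

end CfsgLib.Fus.CyclicSelfCentralizing
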