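import Cfsg.Agent.Inv.Transfer
import Mathlib.GroupTheory.Perm.Cycle.Type
import Mathlib.GroupTheory.SpecificGroups.Dihedral

/-!
Thompson transfer for a cyclic complement: a two-element whose involution has no fixed coset.
-/

set_option autoImplicit false
set_option linter.style.haveILetI false
set_option linter.deprecated false

namespace CfsgLib.Fus.CyclicTransfer

open Equiv Equiv.Perm

theorem sign_eq_neg_one_of_free {X : Type*} [Fintype X] [DecidableEq X] {g : Perm X} {k m : ℕ}
    (hg : g ^ 2 ^ (k + 1) = 1) (hfree : ∀ x : X, (g ^ 2 ^ k) x ≠ x)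
    (hcard : Fintype.card X = 2 ^ (k + 1) * m) (hm : Odd m) : sign g = -1 := by
  have hall : ∀ n ∈ g.cycleType, n = 2 ^ (k + 1) := by
    intro n hn
    have hdvd : n ∣ 2 ^ (k + 1) := (dvd_of_mem_cycleType hn).trans (orderOf_dvd_of_pow_eq_one hg)
    obtain ⟨i, hi, rfl⟩ := (Nat.dvd_prime_pow Nat.prime_two).1 hdvd
    by_contra hne
    have hik : i ≤ k := by
      rcases hi.lt_or_eq with h | h
      · omega
      · exact absurd (h ▸ rfl) hne
    rw [cycleType_def, Multiset.mem_map] at hn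
    obtain ⟨σ, hσ, hcσ⟩ := hn
    rw [Finset.mem_val] at hσ
    obtain ⟨hcyc, hagree⟩ := mem_cycleFactorsFinset_iff.1 hσ
    obtain ⟨x, hx⟩ : σ.support.Nonempty := by
      rw [Finset.nonempty_iff_ne_empty, Ne, support_eq_empty_iff]
      exact hcyc.ne_one
    have h1 : g.cycleOf x = σ := by
      rw [cycle_is_cycleOf hx hσ]
    have h2 : σ ^ 2 ^ i = 1 := by
      have := pow_orderOf_eq_one σ
      rwa [hcyc.orderOf, show σ.support.card = 2 ^ i from hcσ] at this
    have h3 : σ ^ 2 ^ k = 1 := by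
      obtain ⟨d, hd⟩ := pow_dvd_pow 2 hik
      rw [hd, pow_mul, h2, one_pow]
    refine hfree x ?_
    rw [← cycleOf_pow_apply_self, h1, h3, one_apply]
  have hsupp : g.support = Finset.univ := by
    ext x
    simp only [mem_support, Finset.mem_univ, iff_true]
    exact fun h => hfree x (pow_apply_eq_self_of_apply_eq_self h _)
  have hrep : g.cycleType = Multiset.replicate (Multiset.card g.cycleType) (2 ^ (k + 1)) :=
    Multiset.eq_replicate.2 ⟨rfl, hall⟩
  have hsum : g.cycleType.sum = 2 ^ (k + 1) * m := by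
    rw [sum_cycleType, hsupp, Finset.card_univ, hcard]
  have hj : Multiset.card g.cycleType = m := by
    have h := hsum
    rw [hrep, Multiset.sum_replicate, smul_eq_mul, mul_comm] at h
    exact Nat.eq_of_mul_eq_mul_left (by positivity) h
  rw [sign_of_cycleType, hsum, hj]
  have he : Odd (2 ^ (k + 1) * m + m) := by
    refine Even.add_odd ?_ hm
    exact ((Nat.even_pow' (by omega)).2 even_two).mul_right m
  rw [he.neg_one_pow]

/-- A homomorphism to the units of the integers sending the element to minus one. -/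
theorem exists_sign_hom {W : Type*} [Group W] [Finite W] (U : Subgroup W) (c : W) {k m : ℕ}
    (hc : c ^ 2 ^ (k + 1) = 1) (hidx : U.index = 2 ^ (k + 1) * m) (hm : Odd m)
    (hfree : ∀ g : W, g * c ^ 2 ^ k * g⁻¹ ∉ U) : ∃ χ : W →* ℤˣ, χ c = -1 := by
  classical
  haveI : Fintype (W ⧸ U) := Fintype.ofFinite _
  refine ⟨Perm.sign.comp (MulAction.toPermHom W (W ⧸ U)), ?_⟩
  rw [MonoidHom.comp_apply]
  refine sign_eq_neg_one_of_free (k := k) (m := m) ?_ (fun q h => ?_) ?_ hm
  · rw [← map_pow, hc, map_one]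
  · obtain ⟨g, rfl⟩ := QuotientGroup.mk_surjective q
    rw [← map_pow] at h
    replace h : (QuotientGroup.mk (c ^ 2 ^ k * g) : W ⧸ U) = QuotientGroup.mk g := h
    have h' := QuotientGroup.eq.1 h.symm
    refine hfree g⁻¹ ?_
    rwa [inv_inv, mul_assoc]
  · rw [← Nat.card_eq_fintype_card, ← hidx]
    rfl

theorem hom_eq_one_of_pResidual {W : Type*} [Group W] (h : Cfsg.pResidual 2 W = ⊤) (χ : W →* ℤˣ) (w : W) :
    χ w = 1 := by
  have hle : Cfsg.pResidual 2 W ≤ χ.ker := by
    rw [Cfsg.pResidual, Subgroup.closure_le]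
    intro x hx
    show χ x = 1
    have h1 : χ x ^ orderOf x = 1 := by rw [← map_pow, pow_orderOf_eq_one, map_one]
    rcases Int.units_eq_one_or (χ x) with h2 | h2
    · exact h2
    · rw [h2, Odd.neg_one_pow (Nat.coprime_two_right.1 hx)] at h1
      exact absurd h1 (by decide)
  exact hle (h ▸ Subgroup.mem_top w)

theorem dihedral_outside_order_two {n : ℕ} (hn : 2 ≤ n) {W : Type*} [Group W] (e : W ≃* DihedralGroup n)
    (C : Subgroup W) (hC : IsCyclic C) (hCi : C.index = 2) {x : W} (hx : x ∉ C) : orderOf x = 2 := by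
  haveI : NeZero n := ⟨by omega⟩
  obtain ⟨⟨c, hcC⟩, hgen⟩ := IsCyclic.exists_generator (α := C)
  have hcard : Nat.card C * 2 = 2 * n := by
    have h := C.card_mul_index
    rwa [hCi, Nat.card_congr e.toEquiv, DihedralGroup.nat_card] at h
  have hord : orderOf c = n := by
    have h := orderOf_eq_card_of_forall_mem_zpowers hgen
    rw [Subgroup.orderOf_mk] at h
    omega
  rcases heq : e x with i | i
  · rcases hec : e c with j | j
    · exfalso
      have hr : orderOf (DihedralGroup.r j : DihedralGroup n) = n := by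
        rw [← hec, MulEquiv.orderOf_eq, hord]
      have hmem : (DihedralGroup.r i : DihedralGroup n) ∈ Subgroup.zpowers (DihedralGroup.r j) := by
        have hle : Subgroup.zpowers (DihedralGroup.r j : DihedralGroup n) ≤
            Subgroup.zpowers (DihedralGroup.r (1 : ZMod n)) := by
          rw [Subgroup.zpowers_le]
          exact ⟨(j.val : ℤ), by simp⟩
        have heq' := Subgroup.eq_of_le_of_card_ge hle (by
          rw [Nat.card_zpowers, Nat.card_zpowers, hr, DihedralGroup.orderOf_r_one])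
        rw [heq']
        exact ⟨(i.val : ℤ), by simp⟩
      obtain ⟨t, ht⟩ := Subgroup.mem_zpowers_iff.1 hmem
      refine hx ?_
      have : x = c ^ t := e.injective (by rw [map_zpow, hec, ht, heq])
      rw [this]
      exact zpow_mem hcC t
    · have h2 : n = 2 := by
        rw [← hord, ← MulEquiv.orderOf_eq e, hec, DihedralGroup.orderOf_sr]
      subst h2
      have hx1 : x ≠ 1 := fun h => hx (h ▸ one_mem C)
      refine orderOf_eq_prime ?_ hx1
      apply e.injective
      rw [map_pow, heq, map_one, pow_two, DihedralGroup.r_mul_r]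
      rw [DihedralGroup.one_def]
      congr 1
      generalize i = a
      revert a
      decide
  · rw [← MulEquiv.orderOf_eq e, heq, DihedralGroup.orderOf_sr]

variable {G : Type*} [Group G] [Finite G]

omit [Finite G] in
theorem card_mul_relIndex' {H K : Subgroup G} (h : H ≤ K) : Nat.card H * H.relIndex K = Nat.card K := by
  rw [← Nat.card_congr (Subgroup.subgroupOfEquivOfLe h).toEquiv]
  exact Subgroup.card_mul_index (H.subgroupOf K)

theorem le_odd_index (L T : Subgroup G) (hL : Cfsg.pResidual 2 L = ⊤) (hTL : T ≤ L) :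
    ∀ (k : ℕ) (M : Subgroup G) (c : G), L ≤ M → c ∈ M → orderOf c = 2 ^ k →
      (∃ m, Odd m ∧ T.relIndex M = 2 ^ k * m) → Cfsg.pResidual 2 G ≤ M →
      (∀ j, j + 1 = k → ∀ g : G, g * c ^ 2 ^ j * g⁻¹ ∉ T) → ¬ 2 ∣ T.relIndex (Cfsg.pResidual 2 G) := by
  intro k
  induction k with
  | zero =>
    rintro M c hLM - - ⟨m, hm, hidx⟩ hRM - hdvd
    rw [pow_zero, one_mul] at hidx
    have h1 : T.relIndex (Cfsg.pResidual 2 G) ∣ T.relIndex M := by
      by_cases hT : T ≤ Cfsg.pResidual 2 G
      · exact ⟨_, (Subgroup.relIndex_mul_relIndex _ _ _ hT hRM).symm⟩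
      · refine absurd (fun t ht => ?_) hT
        have h := CfsgLib.Inv.pResidual_map_le 2 L.subtype
        rw [hL, ← MonoidHom.range_eq_map, Subgroup.range_subtype] at h
        exact h (hTL ht)
    rw [hidx] at h1
    exact Nat.not_even_iff_odd.2 hm (even_iff_two_dvd.2 (hdvd.trans h1))
  | succ k ih =>
    rintro M c hLM hcM hc ⟨m, hm, hidx⟩ hRM hfree
    obtain ⟨χ, hχ⟩ := exists_sign_hom (W := M) (T.subgroupOf M) ⟨c, hcM⟩ (k := k) (m := m)
      (Subtype.ext (by rw [SubmonoidClass.coe_pow]; exact hc ▸ pow_orderOf_eq_one c))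
      hidx hm (fun g hg => hfree k rfl (g : G) (by simpa [Subgroup.mem_subgroupOf] using hg))
    refine ih ((χ.ker).map M.subtype) (c ^ 2) (fun l hl => ?_) ?_ ?_ ⟨m, hm, ?_⟩ ?_ ?_
    · exact ⟨⟨l, hLM hl⟩, hom_eq_one_of_pResidual hL (χ.comp (Subgroup.inclusion hLM)) ⟨l, hl⟩, rfl⟩
    · exact ⟨⟨c, hcM⟩ ^ 2, by show χ (_ ^ 2) = 1; rw [map_pow, hχ]; rfl, rfl⟩
    · rw [orderOf_pow' c two_ne_zero, hc, Nat.gcd_eq_right (dvd_pow_self 2 k.succ_ne_zero), pow_succ,
        Nat.mul_div_cancel _ two_pos]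
    · have hker : χ.ker.index = 2 := by
        rw [Subgroup.index_ker]
        have : χ.range = ⊤ := by
          rw [eq_top_iff]
          intro u _
          rcases Int.units_eq_one_or u with rfl | rfl
          · exact one_mem _
          · exact ⟨_, hχ⟩
        rw [this, Subgroup.card_top, Nat.card_eq_fintype_card]
        rfl
      have hTle : T ≤ χ.ker.map M.subtype := fun t ht =>
        ⟨⟨t, hLM (hTL ht)⟩, hom_eq_one_of_pResidual hL (χ.comp (Subgroup.inclusion hLM)) ⟨t, hTL ht⟩, rfl⟩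
      have hMle : χ.ker.map M.subtype ≤ M := Subgroup.map_subtype_le _
      have h := Subgroup.relIndex_mul_relIndex _ _ _ hTle hMle
      have h2 : (χ.ker.map M.subtype).relIndex M = 2 := by
        rw [Subgroup.relIndex, Subgroup.subgroupOf, Subgroup.comap_map_eq_self_of_injective M.subtype_injective]
        exact hker
      rw [h2, hidx, pow_succ] at h
      nlinarith [h]
    · rw [Cfsg.pResidual, Subgroup.closure_le]
      intro x hx
      refine ⟨⟨x, hRM (CfsgLib.Inv.mem_pResidual hx)⟩, ?_, rfl⟩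
      show χ _ = 1
      rcases Int.units_eq_one_or (χ ⟨x, hRM (CfsgLib.Inv.mem_pResidual hx)⟩) with h | h
      · exact h
      · have h1 := congrArg χ (show (⟨x, hRM (CfsgLib.Inv.mem_pResidual hx)⟩ : M) ^ orderOf x = 1 from
          Subtype.ext (pow_orderOf_eq_one x))
        rw [map_pow, map_one, h, Odd.neg_one_pow (Nat.coprime_two_right.1 hx)] at h1
        exact absurd h1 (by decide)
    · rintro j rfl g hg
      refine hfree (j + 1) rfl g ?_
      rwa [← pow_mul, ← pow_succ'] at hg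

/-- Thompson transfer with a dihedral supplement. -/
theorem main (L T S D C : Subgroup G) (hL : Cfsg.pResidual 2 ↥L = ⊤)
    (hTL : T ≤ L) (hTsyl : ¬ 2 ∣ T.relIndex L)
    (hS2 : IsPGroup 2 S) (hSsyl : ¬ 2 ∣ S.index) (hTS : T ≤ S)
    (hDS : D ≤ S) (hDih : ∃ n : ℕ, 2 ≤ n ∧ Nonempty (↥D ≃* DihedralGroup n)) (hDT : D ⊓ T = ⊥)
    (hTD : T ⊔ D = S) (hTDc : Nat.card T * Nat.card D = Nat.card S)
    (hCD : C ≤ D) (hC : IsCyclic ↥C) (hCi : C.relIndex D = 2)
    (h1 : ∀ x ∈ D, x ∉ C → orderOf x = 2 → ∀ g : G, g * x * g⁻¹ ∈ T ⊔ C → False)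
    (h2 : ∀ c ∈ C, orderOf c = 2 → ∀ g : G, g * c * g⁻¹ ∈ T → False) :
    ∃ K : Subgroup G, K.Normal ∧ K ⊔ D = ⊤ ∧
      ∀ T' : Subgroup G, T' ≤ L → IsPGroup 2 T' → ¬ 2 ∣ T'.relIndex L → T' ≤ K ∧ ¬ 2 ∣ T'.relIndex K := by
  obtain ⟨n, hn, ⟨e⟩⟩ := hDih
  have hinv : ∀ x ∈ D, x ∉ C → orderOf x = 2 := fun x hx hxC => by
    rw [← Subgroup.orderOf_mk (H := D) x hx]
    exact dihedral_outside_order_two hn e (C.subgroupOf D)
      (isCyclic_of_surjective (Subgroup.subgroupOfEquivOfLe hCD).symm.toMonoidHom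
        (Subgroup.subgroupOfEquivOfLe hCD).symm.surjective) hCi hxC
  obtain ⟨x, hxD, hxC⟩ : ∃ x ∈ D, x ∉ C := by
    by_contra hno
    have : D ≤ C := fun y hy => by_contra fun h => hno ⟨y, hy, h⟩
    rw [Subgroup.relIndex_eq_one.2 this] at hCi
    exact absurd hCi (by decide)
  have hxS1 : ∀ y ∈ D, y ∉ C → ∀ g : G, g * y * g⁻¹ ∉ T ⊔ C := fun y hy hyC g hg =>
    h1 y hy hyC (hinv y hy hyC) g hg
  obtain ⟨a, ha⟩ := hS2.exists_card_eq
  have hS1S : T ⊔ C ≤ S := sup_le hTS (hCD.trans hDS)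
  have hCc : Nat.card C * 2 = Nat.card D := by
    rw [← hCi]
    exact card_mul_relIndex' hCD
  have hrel : (T ⊔ C).relIndex S = 2 := by
    have hlow : Nat.card T * Nat.card C ≤ Nat.card ↥(T ⊔ C) := by
      rw [← Nat.card_prod]
      refine Nat.card_le_card_of_injective
        (fun z : T × C => (⟨(z.1 : G) * z.2, Subgroup.mul_mem_sup z.1.2 z.2.2⟩ : ↥(T ⊔ C))) fun z w h => ?_
      have hd : Disjoint T C := by
        rw [disjoint_iff, eq_bot_iff, ← hDT]
        exact fun y hy => ⟨hCD hy.2, hy.1⟩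
      exact Prod.ext_iff.2 (Prod.mk.injEq .. ▸ Subgroup.mul_injective_of_disjoint hd (congrArg Subtype.val h))
    have hmul := card_mul_relIndex' hS1S
    have hne : (T ⊔ C).relIndex S ≠ 1 := fun h => by
      have := (Subgroup.relIndex_eq_one.1 h) (hDS hxD)
      exact hxS1 x hxD hxC 1 (by rwa [one_mul, inv_one, mul_one])
    have hpos : 0 < Nat.card T * Nat.card C := Nat.mul_pos Nat.card_pos Nat.card_pos
    have hle : (T ⊔ C).relIndex S ≤ 2 := by nlinarith [hmul, hTDc, hlow, hCc, hpos]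
    have h0 : (T ⊔ C).relIndex S ≠ 0 := fun h => by
      rw [h, mul_zero] at hmul
      exact Nat.card_pos.ne hmul
    omega
  have hodd : Odd S.index := Nat.not_even_iff_odd.1 fun h => hSsyl (even_iff_two_dvd.1 h)
  have hidx1 : (T ⊔ C).index = 2 ^ (0 + 1) * S.index := by
    rw [← Subgroup.relIndex_mul_index hS1S, hrel]; rfl
  classical
  haveI : Fintype (G ⧸ (T ⊔ C)) := Fintype.ofFinite _
  set χ : G →* ℤˣ := Perm.sign.comp (MulAction.toPermHom G (G ⧸ (T ⊔ C))) with hχdef
  have hχ : ∀ y ∈ D, y ∉ C → χ y = -1 := by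
    intro y hy hyC
    rw [hχdef, MonoidHom.comp_apply]
    refine sign_eq_neg_one_of_free (k := 0) (m := S.index) ?_ (fun q h => ?_) ?_ hodd
    · rw [← map_pow]
      have := pow_orderOf_eq_one y
      rw [hinv y hy hyC] at this
      rw [show (2 : ℕ) ^ (0 + 1) = 2 from rfl, this, map_one]
    · obtain ⟨g, rfl⟩ := QuotientGroup.mk_surjective q
      rw [pow_zero, pow_one] at h
      replace h : (QuotientGroup.mk (y * g) : G ⧸ (T ⊔ C)) = QuotientGroup.mk g := h
      have h' := QuotientGroup.eq.1 h.symm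
      refine hxS1 y hy hyC g⁻¹ ?_
      rwa [inv_inv, mul_assoc]
    · rw [← Nat.card_eq_fintype_card, ← hidx1]; rfl

  set R := Cfsg.pResidual 2 G with hR
  haveI : R.Normal := CfsgLib.Inv.pResidual_normal 2 G
  have hLR : L ≤ R := by
    intro l hl
    have h := CfsgLib.Inv.pResidual_map_le 2 L.subtype
    rw [hL, ← MonoidHom.range_eq_map, Subgroup.range_subtype] at h
    exact h hl
  have hLχ : L ≤ χ.ker := fun l hl => hom_eq_one_of_pResidual hL (χ.comp L.subtype) ⟨l, hl⟩
  have hCχ : C ≤ χ.ker := by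
    intro c hc
    have hxc : x * c ∉ C := fun h => hxC (by
      have := mul_mem h (inv_mem hc)
      rwa [mul_inv_cancel_right] at this)
    have h := hχ (x * c) (mul_mem hxD (hCD hc)) hxc
    rw [map_mul, hχ x hxD hxC] at h
    show χ c = 1
    exact mul_left_cancel (h.trans (mul_one _).symm)
  have hker : χ.ker.index = 2 := by
    rw [Subgroup.index_ker]
    have : χ.range = ⊤ := by
      rw [eq_top_iff]
      intro u _
      rcases Int.units_eq_one_or u with rfl | rfl
      · exact one_mem _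
      · exact ⟨_, hχ x hxD hxC⟩
    rw [this, Subgroup.card_top, Nat.card_eq_fintype_card]
    rfl
  have hRχ : R ≤ χ.ker := by
    intro r hr
    have h := CfsgLib.Inv.pResidual_map_le 2 χ (Subgroup.mem_map_of_mem χ hr)
    rw [Cfsg.pResidual] at h
    have hbot : Subgroup.closure {u : ℤˣ | Nat.Coprime (orderOf u) 2} ≤ ⊥ := by
      rw [Subgroup.closure_le]
      intro u hu
      rcases Int.units_eq_one_or u with rfl | rfl
      · exact one_mem _
      · rw [Set.mem_setOf_eq, show orderOf (-1 : ℤˣ) = 2 from orderOf_eq_prime (by decide) (by decide)] at hu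
        exact absurd hu (by decide)
    exact Subgroup.mem_bot.1 (hbot h)
  obtain ⟨⟨c, hcC⟩, hgen⟩ := IsCyclic.exists_generator (α := C)
  obtain ⟨k, hk⟩ := (IsPGroup.iff_card.1 (hS2.to_le (hCD.trans hDS)) : _)
  have hordc : orderOf c = 2 ^ k := by
    rw [← hk, ← orderOf_eq_card_of_forall_mem_zpowers hgen, Subgroup.orderOf_mk]
  have hTχ : T ≤ χ.ker := hTL.trans hLχ
  have hidx : ∃ m, Odd m ∧ T.relIndex χ.ker = 2 ^ k * m := by
    refine ⟨S.index, hodd, ?_⟩
    have h := Subgroup.relIndex_mul_index hTχ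
    have h' := Subgroup.relIndex_mul_index hTS
    have h'' := card_mul_relIndex' hTS
    rw [hker] at h
    have hD : T.relIndex S = Nat.card D :=
      Nat.eq_of_mul_eq_mul_left Nat.card_pos (h''.trans hTDc.symm)
    rw [hD, ← hCc, hk] at h'
    linarith
  have hodd' : ¬ 2 ∣ T.relIndex R := le_odd_index L T hL hTL k χ.ker c hLχ (hCχ hcC) hordc hidx hRχ
    (fun j hj g hg => h2 (c ^ 2 ^ j) (pow_mem hcC _) (by
      rw [orderOf_pow' c (by positivity), hordc, ← hj, Nat.gcd_eq_right (pow_dvd_pow 2 (by omega)),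
        Nat.pow_div (by omega) two_pos, show j + 1 - j = 1 by omega, pow_one]) g hg)
  refine ⟨R, inferInstance, ?_, fun T' hT'L hT'2 hT'o => ⟨hT'L.trans hLR, fun hdvd => ?_⟩⟩
  · haveI := Fact.mk Nat.prime_two
    have hq := CfsgLib.Inv.isPGroup_quot_pResidual (G := G) (p := 2)
    have htop : R ⊔ S = ⊤ := by
      rw [← Subgroup.index_eq_one]
      by_contra hne
      obtain ⟨j, hj⟩ := IsPGroup.iff_card.1 hq
      rw [← Subgroup.index_eq_card] at hj
      have hd1 : (R ⊔ S).index ∣ 2 ^ j := hj ▸ Subgroup.index_dvd_of_le le_sup_left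
      have hd2 : (R ⊔ S).index ∣ S.index := Subgroup.index_dvd_of_le le_sup_right
      obtain ⟨i, -, hi⟩ := (Nat.dvd_prime_pow Nat.prime_two).1 hd1
      rcases Nat.eq_zero_or_pos i with rfl | hi0
      · exact hne (by rw [hi, pow_zero])
      · exact hSsyl (((dvd_pow_self 2 hi0.ne').trans hi.symm.dvd).trans hd2)
    rw [← top_le_iff, ← htop, ← hTD]
    exact sup_le le_sup_left (sup_le (((hTL.trans hLR).trans le_sup_left)) le_sup_right)
  · rw [← Subgroup.relIndex_mul_relIndex _ _ _ hT'L hLR] at hdvd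
    rw [← Subgroup.relIndex_mul_relIndex _ _ _ hTL hLR] at hodd'
    rcases Nat.prime_two.dvd_mul.1 hdvd with h | h
    · exact hT'o h
    · exact hodd' (h.trans (dvd_mul_left _ _))

end CfsgLib.Fus.CyclicTransfer
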