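import Cfsg.Agent.Inv.DStar
import Cfsg.Agent.Fus.FunctorCore

/-!
`D*` of a Sylow subgroup is normal in a p-stable group of characteristic p.
-/

set_option autoImplicit false
set_option linter.style.haveILetI false

open Cfsg
open scoped commutatorElement

namespace CfsgLib.Glau

variable {G : Type*} [Group G]

/-- A group generated by elements whose commutators commute with the generators has class at most two. -/
theorem classTwo_closure {s : Set G} (h : ∀ a ∈ s, ∀ b ∈ s, ∀ c ∈ s, Commute ⁅a, b⁆ c) :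
    ⁅⁅Subgroup.closure s, Subgroup.closure s⁆, Subgroup.closure s⁆ = ⊥ := by
  set Z := Subgroup.centralizer (Subgroup.closure s : Set G) with hZ
  have conj_eq : ∀ y ∈ Subgroup.closure s, ∀ z ∈ Z, y * z * y⁻¹ = z := by
    intro y hy z hz
    rw [hz y hy, mul_inv_cancel_right]
  have h0 : ∀ a ∈ s, ∀ b ∈ s, ⁅a, b⁆ ∈ Z := by
    intro a ha b hb y hy
    have hle : Subgroup.closure s ≤ Subgroup.centralizer ({⁅a, b⁆} : Set G) :=
      (Subgroup.closure_le _).2 fun c hc =>
        Subgroup.mem_centralizer_singleton_iff.2 ((h a ha b hb c hc).symm.eq)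
    exact Subgroup.mem_centralizer_singleton_iff.1 (hle hy)
  have h1 : ∀ y ∈ Subgroup.closure s, ∀ b ∈ s, ⁅y, b⁆ ∈ Z := by
    intro y hy
    induction hy using Subgroup.closure_induction with
    | mem a ha => exact h0 a ha
    | one => intro b _; rw [commutatorElement_one_left]; exact one_mem _
    | mul x y hx _ ihx ihy =>
      intro b hb
      rw [show ⁅x * y, b⁆ = x * ⁅y, b⁆ * x⁻¹ * ⁅x, b⁆ by simp only [commutatorElement_def]; group,
        conj_eq x hx _ (ihy b hb)]
      exact mul_mem (ihy b hb) (ihx b hb)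
    | inv x hx ihx =>
      intro b hb
      rw [show ⁅x⁻¹, b⁆ = x⁻¹ * ⁅x, b⁆⁻¹ * x⁻¹⁻¹ by simp only [commutatorElement_def]; group,
        conj_eq _ (inv_mem hx) _ (inv_mem (ihx b hb))]
      exact inv_mem (ihx b hb)
  have h2 : ∀ z ∈ Subgroup.closure s, ∀ y ∈ Subgroup.closure s, ⁅y, z⁆ ∈ Z := by
    intro z hz
    induction hz using Subgroup.closure_induction with
    | mem b hb => exact fun y hy => h1 y hy b hb
    | one => intro y _; rw [commutatorElement_one_right]; exact one_mem _
    | mul a b ha _ iha ihb =>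
      intro y hy
      rw [show ⁅y, a * b⁆ = ⁅y, a⁆ * (a * ⁅y, b⁆ * a⁻¹) by simp only [commutatorElement_def]; group,
        conj_eq a ha _ (ihb y hy)]
      exact mul_mem (iha y hy) (ihb y hy)
    | inv a ha iha =>
      intro y hy
      rw [show ⁅y, a⁻¹⁆ = a⁻¹ * ⁅y, a⁆⁻¹ * a⁻¹⁻¹ by simp only [commutatorElement_def]; group,
        conj_eq _ (inv_mem ha) _ (inv_mem (iha y hy))]
      exact inv_mem (iha y hy)
  exact Subgroup.commutator_eq_bot_iff_le_centralizer.2 (Subgroup.commutator_le.2 fun y hy z hz => h2 z hz y hy)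

section

variable [Finite G] {p : ℕ} [hp : Fact p.Prime]

theorem dStarOf_le (S : Subgroup G) : dStarOf S ≤ S := Subgroup.map_subtype_le _

omit [Finite G] in
theorem dStarOf_centralizer {S : Subgroup G} {x a : G} (hx : x ∈ S)
    (h : ⁅⁅dStarOf S ⊔ Subgroup.zpowers x, dStarOf S ⊔ Subgroup.zpowers x⁆,
      dStarOf S ⊔ Subgroup.zpowers x⁆ = ⊥) (ha : a ∈ dStarOf S) : Commute a x := by
  obtain ⟨b, hb, rfl⟩ := ha
  have e : (dStar S ⊔ Subgroup.zpowers (⟨x, hx⟩ : S)).map S.subtype = dStarOf S ⊔ Subgroup.zpowers x := by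
    rw [Subgroup.map_sup, MonoidHom.map_zpowers]
    rfl
  rw [← e, ← Subgroup.map_commutator, ← Subgroup.map_commutator,
    Subgroup.map_eq_bot_iff_of_injective _ S.subtype_injective] at h
  exact congrArg Subtype.val (CfsgLib.Inv.dStar_centralizer h hb)

theorem dStar_normal_of_stable (hc : Subgroup.centralizer (pCore p G : Set G) ≤ pCore p G)
    (hst : ∀ (P : Subgroup G) [P.Normal], IsPGroup p P → IsPStableOn p P) (S : Sylow p G) :
    (dStarOf (S : Subgroup G)).Normal := by
  haveI hOn : (pCore p G).Normal := CfsgLib.Solv.pCore_normal G p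
  set O := pCore p G
  set D := dStarOf (S : Subgroup G) with hD
  have hDS : D ≤ S := dStarOf_le _
  have hOS : O ≤ S := CfsgLib.Solv.pCore_le_sylow S
  have hOp : IsPGroup p O := CfsgLib.Solv.pCore_isPGroup G p
  have hDcomm : ∀ a ∈ D, ∀ b ∈ D, Commute a b := by
    rintro _ ⟨a, ha, rfl⟩ _ ⟨b, hb, rfl⟩
    exact congrArg Subtype.val
      (congrArg Subtype.val ((CfsgLib.Inv.dStar_commutative S.2).is_comm.comm ⟨a, ha⟩ ⟨b, hb⟩))
  have hSD : ∀ s ∈ (S : Subgroup G), ∀ d ∈ D, s * d * s⁻¹ ∈ D := by
    rintro s hs _ ⟨d, hd, rfl⟩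
    exact ⟨⟨s, hs⟩ * d * ⟨s, hs⟩⁻¹, CfsgLib.Inv.dStar_normal.conj_mem d hd _, rfl⟩
  -- `D ≤ O`
  have hDO : D ≤ O := by
    intro d hd
    haveI : (Subgroup.centralizer (O : Set G)).Normal := inferInstance
    have hq : ⁅⁅O, Subgroup.zpowers d⁆, Subgroup.zpowers d⁆ = ⊥ := by
      have h1 : ⁅O, Subgroup.zpowers d⁆ ≤ D := Subgroup.commutator_le.2 fun o ho z hz => by
        have hz' : z ∈ D := Subgroup.zpowers_le.2 hd hz
        rw [commutatorElement_def]
        exact mul_mem (hSD o (hOS ho) z hz') (inv_mem hz')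
      refine eq_bot_iff.2 ((Subgroup.commutator_mono h1 (Subgroup.zpowers_le.2 hd)).trans (le_of_eq ?_))
      exact Subgroup.commutator_eq_bot_iff_le_centralizer.2 fun a ha b hb => (hDcomm b hb a ha).eq
    set π := QuotientGroup.mk' (Subgroup.centralizer (O : Set G))
    haveI := CfsgLib.Solv.pCore_normal (G ⧸ Subgroup.centralizer (O : Set G)) p
    have hK : IsPGroup p ((pCore p (G ⧸ Subgroup.centralizer (O : Set G))).comap π) :=
      (CfsgLib.Solv.pCore_isPGroup (G ⧸ Subgroup.centralizer (O : Set G)) p).comap_of_ker_isPGroup _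
        (by rw [QuotientGroup.ker_mk']; exact hOp.to_le hc)
    exact CfsgLib.Solv.le_pCore hK (show d ∈ (pCore p (G ⧸ Subgroup.centralizer (O : Set G))).comap π from
      hst O hOp d hq)
  -- `D` commutes with its conjugates
  have hconj : ∀ g : G, ∀ a ∈ D, ∀ d ∈ D, Commute a (g * d * g⁻¹) := by
    intro g a ha d hd
    have hgO : ∀ b ∈ D, g * b * g⁻¹ ∈ O := fun b hb => hOn.conj_mem b (hDO hb) g
    have hx : g * d * g⁻¹ ∈ (S : Subgroup G) := hOS (hgO d hd)
    refine dStarOf_centralizer hx ?_ ha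
    set x := g * d * g⁻¹ with hxdef
    have key : ∀ b ∈ D, ∀ c ∈ (D : Set G) ∪ {x}, Commute ⁅b, x⁆ c := by
      intro b hb c hc
      have h1 : ⁅b, x⁆ ∈ D := by
        rw [show ⁅b, x⁆ = b * (x * b⁻¹ * x⁻¹) by simp only [commutatorElement_def]; group]
        exact mul_mem hb (hSD x hx b⁻¹ (inv_mem hb))
      rcases hc with hc | hc
      · exact hDcomm _ h1 c hc
      · rw [Set.mem_singleton_iff] at hc
        subst hc
        have h2 : g⁻¹ * ⁅b, x⁆ * g ∈ D := by
          rw [show g⁻¹ * ⁅b, x⁆ * g = (g⁻¹ * b * g) * d * (g⁻¹ * b * g)⁻¹ * d⁻¹ by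
            simp only [commutatorElement_def, hxdef]; group]
          refine mul_mem (hSD _ (hOS ?_) d hd) (inv_mem hd)
          simpa using hOn.conj_mem b (hDO hb) g⁻¹
        have h3 := (hDcomm _ h2 d hd).map (MulAut.conj g).toMonoidHom
        simpa [MulAut.conj_apply, hxdef, mul_assoc] using h3
    have hgen : Subgroup.closure ((D : Set G) ∪ {x}) = D ⊔ Subgroup.zpowers x := by
      rw [Subgroup.closure_union, Subgroup.closure_eq, Subgroup.zpowers_eq_closure]
    rw [← hgen]
    refine classTwo_closure ?_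
    intro b hb c hc e he
    rcases hb with hb | hb <;> rcases hc with hc | hc
    · rw [commutatorElement_eq_one_iff_commute.2 (hDcomm b hb c hc)]
      exact Commute.one_left e
    · rw [Set.mem_singleton_iff.1 hc]
      exact key b hb e he
    · rw [Set.mem_singleton_iff.1 hb, ← commutatorElement_inv]
      exact (key c hc e he).inv_left
    · rw [Set.mem_singleton_iff.1 hb, Set.mem_singleton_iff.1 hc, commutatorElement_self]
      exact Commute.one_left e
  -- the normal closure is an abelian member of the family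
  set W := Subgroup.normalClosure (D : Set G) with hW
  haveI hWn : W.Normal := Subgroup.normalClosure_normal
  have hWO : W ≤ O := Subgroup.normalClosure_le_normal hDO
  have hmemW : ∀ z ∈ Group.conjugatesOfSet (D : Set G), ∃ g, ∃ d ∈ D, g * d * g⁻¹ = z := by
    intro z hz
    obtain ⟨d, hd, hzd⟩ := Group.mem_conjugatesOfSet_iff.1 hz
    obtain ⟨g, hg⟩ := isConj_iff.1 hzd
    exact ⟨g, d, hd, hg⟩
  have hWW : W ≤ Subgroup.centralizer (W : Set G) := by
    have hgens : ∀ y ∈ Group.conjugatesOfSet (D : Set G), ∀ z ∈ Group.conjugatesOfSet (D : Set G),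
        Commute y z := by
      intro y hy z hz
      obtain ⟨g, a, ha, rfl⟩ := hmemW y hy
      obtain ⟨k, b, hb, rfl⟩ := hmemW z hz
      have := (hconj (g⁻¹ * k) a ha b hb).map (MulAut.conj g).toMonoidHom
      simpa [MulAut.conj_apply, mul_assoc] using this
    refine (Subgroup.closure_le _).2 fun y hy => ?_
    intro w hw
    have hle : W ≤ Subgroup.centralizer ({y} : Set G) := (Subgroup.closure_le _).2 fun z hz =>
      Subgroup.mem_centralizer_singleton_iff.2 (hgens z hz y hy).eq
    exact Subgroup.mem_centralizer_singleton_iff.1 (hle hw)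
  set C := Subgroup.centralizer (W : Set G) with hC
  haveI hCn : C.Normal := inferInstance
  set π := QuotientGroup.mk' C
  haveI := CfsgLib.Solv.pCore_normal (G ⧸ C) p
  set L := (pCore p (G ⧸ C)).comap π with hL
  haveI hLn : L.Normal := Subgroup.Normal.comap inferInstance _
  have hLfac : ∀ y ∈ L, ∃ t ∈ (S : Subgroup G) ⊓ L, ∃ c ∈ C, y = t * c := by
    intro y hy
    obtain ⟨t, ht, hte⟩ : π y ∈ (S : Subgroup G).map π := by
      rw [← Sylow.coe_mapSurjective (QuotientGroup.mk'_surjective C)]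
      exact CfsgLib.Solv.pCore_le_sylow _ hy
    refine ⟨t, ⟨ht, ?_⟩, t⁻¹ * y, QuotientGroup.eq.1 hte, by group⟩
    show π t ∈ pCore p (G ⧸ C)
    rw [hte]
    exact hy
  have hWD : W ≤ D := by
    have hWS : W ≤ S := hWO.trans hOS
    have hmem : W.subgroupOf S ∈ dStarFamily ↥(S : Subgroup G) := by
      refine ⟨⟨⟨fun a b => Subtype.ext (Subtype.ext (hWW b.2 _ a.2))⟩⟩, fun x hx w hw => Subtype.ext ?_⟩
      set H := W ⊔ Subgroup.zpowers (x : G) with hH
      have hH2 : ⁅⁅H, H⁆, H⁆ = ⊥ := by
        have e : (W.subgroupOf S ⊔ Subgroup.zpowers x).map (S : Subgroup G).subtype = H := by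
          rw [Subgroup.map_sup, MonoidHom.map_zpowers, Subgroup.subgroupOf_map_subtype,
            inf_eq_left.2 hWS]
          rfl
        rw [← e, ← Subgroup.map_commutator, ← Subgroup.map_commutator, hx, Subgroup.map_bot]
      have hxL : (x : G) ∈ (S : Subgroup G) ⊓ L := by
        refine ⟨x.2, hst W (hOp.to_le hWO) x ?_⟩
        have hx' : Subgroup.zpowers (x : G) ≤ H := le_sup_right
        exact eq_bot_iff.2 ((Subgroup.commutator_mono (Subgroup.commutator_mono le_sup_left hx') hx').trans hH2.le)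
      have hWx : W ≤ Subgroup.centralizer ({(x : G)} : Set G) := by
        refine (Subgroup.closure_le _).2 fun z hz => Subgroup.mem_centralizer_singleton_iff.2 ?_
        obtain ⟨g, d, hd, rfl⟩ := hmemW z hz
        obtain ⟨l, hl, k, hk, hg⟩ := frattini (syl_top S) (N := L)
          (by rw [Subgroup.normalizer_eq_top_iff.2 hLn]) (Subgroup.mem_top g⁻¹)
        obtain ⟨t, ht, c, hc', hl'⟩ := hLfac l⁻¹ (inv_mem hl.2)
        set n := k⁻¹ * t with hn
        have hgn : g = n * c := by
          rw [← inv_inv g, hg, mul_inv_rev, hl', hn]; group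
        have hnN : n ∈ Subgroup.normalizer (((S : Subgroup G) ⊓ L : Subgroup G) : Set G) :=
          mul_mem (inv_mem hk.2) (Subgroup.le_normalizer ht)
        have hdW : d ∈ W := Subgroup.subset_normalClosure hd
        have hgd : g * d * g⁻¹ = n * d * n⁻¹ := by
          have hcd : c * d = d * c := (hc' d hdW).symm
          rw [hgn, show n * c * d * (n * c)⁻¹ = n * (c * d * c⁻¹) * n⁻¹ by group, hcd, mul_inv_cancel_right]
        have hy : n⁻¹ * x * n ∈ (S : Subgroup G) ⊓ L :=
          (Subgroup.mem_normalizer_iff''.1 hnN x).1 hxL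
        have hcomm : Commute d (n⁻¹ * x * n) := by
          refine dStarOf_centralizer hy.1 (eq_bot_iff.2 ?_) hd
          have hle : D ⊔ Subgroup.zpowers (n⁻¹ * x * n) ≤ H.map (MulAut.conj n⁻¹).toMonoidHom := by
            refine sup_le (fun b hb => ?_) (Subgroup.zpowers_le.2 ⟨x, Subgroup.mem_sup_right
              (Subgroup.mem_zpowers _), by simp [MulAut.conj_apply]⟩)
            exact ⟨n * b * n⁻¹, Subgroup.mem_sup_left (hWn.conj_mem b (Subgroup.subset_normalClosure hb) n),
              by simp [MulAut.conj_apply, mul_assoc]⟩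
          refine (Subgroup.commutator_mono (Subgroup.commutator_mono hle hle) hle).trans (le_of_eq ?_)
          rw [← Subgroup.map_commutator, ← Subgroup.map_commutator, hH2, Subgroup.map_bot]
        have := (hcomm.map (MulAut.conj n).toMonoidHom).eq
        simpa [hgd, MulAut.conj_apply, mul_assoc] using this
      exact Subgroup.mem_centralizer_singleton_iff.1 (hWx hw)
    intro w hw
    exact ⟨⟨w, hWS hw⟩, le_sSup (a := W.subgroupOf S) hmem hw, rfl⟩
  rw [show D = W from le_antisymm Subgroup.subset_normalClosure hWD]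
  exact hWn

end

end CfsgLib.Glau
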