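import Mathlib.LinearAlgebra.Matrix.SpecialLinearGroup
import Mathlib.LinearAlgebra.Matrix.Charpoly.Coeff
import Mathlib.LinearAlgebra.Matrix.CharP
import Mathlib.RingTheory.Nilpotent.Defs
import Mathlib.GroupTheory.Sylow
import Mathlib.GroupTheory.PGroup
import Mathlib.Data.Fintype.Pi
import Mathlib.Algebra.CharP.Basic

/-!
Elements of SL₂: centralizers of non-scalar elements are abelian, the conjugates of a semisimple element inside its centralizer are
itself and its inverse, and the elements of order p are the non-scalar elements of trace 2.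
-/

set_option autoImplicit false
set_option linter.style.haveILetI false

namespace CfsgLib.Dickson

open Matrix

variable {F : Type*} [Field F]

/-- The element with the given entries. -/
def mk (a b c d : F) (h : a * d - b * c = 1) : SpecialLinearGroup (Fin 2) F :=
  ⟨!![a, b; c, d], by rw [Matrix.det_fin_two_of]; exact h⟩

@[simp] theorem mk00 (a b c d : F) (h : a * d - b * c = 1) : (mk a b c d h).1 0 0 = a := rfl
@[simp] theorem mk01 (a b c d : F) (h : a * d - b * c = 1) : (mk a b c d h).1 0 1 = b := rfl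
@[simp] theorem mk10 (a b c d : F) (h : a * d - b * c = 1) : (mk a b c d h).1 1 0 = c := rfl
@[simp] theorem mk11 (a b c d : F) (h : a * d - b * c = 1) : (mk a b c d h).1 1 1 = d := rfl

variable (g x : SpecialLinearGroup (Fin 2) F)

theorem det_eq : g.1 0 0 * g.1 1 1 - g.1 0 1 * g.1 1 0 = 1 := by
  rw [← Matrix.det_fin_two, g.2]

variable {g x}

theorem ext4 (h00 : g.1 0 0 = x.1 0 0) (h01 : g.1 0 1 = x.1 0 1) (h10 : g.1 1 0 = x.1 1 0)
    (h11 : g.1 1 1 = x.1 1 1) : g = x :=
  Subtype.ext (Matrix.ext fun i j => by fin_cases i <;> fin_cases j <;> assumption)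

variable (g x)

theorem mul00 : (g * x).1 0 0 = g.1 0 0 * x.1 0 0 + g.1 0 1 * x.1 1 0 := by simp [Matrix.mul_apply, Fin.sum_univ_two]
theorem mul01 : (g * x).1 0 1 = g.1 0 0 * x.1 0 1 + g.1 0 1 * x.1 1 1 := by simp [Matrix.mul_apply, Fin.sum_univ_two]
theorem mul10 : (g * x).1 1 0 = g.1 1 0 * x.1 0 0 + g.1 1 1 * x.1 1 0 := by simp [Matrix.mul_apply, Fin.sum_univ_two]
theorem mul11 : (g * x).1 1 1 = g.1 1 0 * x.1 0 1 + g.1 1 1 * x.1 1 1 := by simp [Matrix.mul_apply, Fin.sum_univ_two]

theorem inv00 : (g⁻¹).1 0 0 = g.1 1 1 := by simp [SpecialLinearGroup.coe_inv, Matrix.adjugate_fin_two]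
theorem inv01 : (g⁻¹).1 0 1 = -g.1 0 1 := by simp [SpecialLinearGroup.coe_inv, Matrix.adjugate_fin_two]
theorem inv10 : (g⁻¹).1 1 0 = -g.1 1 0 := by simp [SpecialLinearGroup.coe_inv, Matrix.adjugate_fin_two]
theorem inv11 : (g⁻¹).1 1 1 = g.1 0 0 := by simp [SpecialLinearGroup.coe_inv, Matrix.adjugate_fin_two]

/-- The trace. -/
def tr : F := g.1 0 0 + g.1 1 1

theorem tr_conj : tr (x * g * x⁻¹) = tr g := by
  simp only [tr, mul00, mul01, mul10, mul11, inv00, inv01, inv10, inv11]
  linear_combination (g.1 0 0 + g.1 1 1) * det_eq x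

theorem tr_inv : tr g⁻¹ = tr g := by simp only [tr, inv00, inv11]; ring

/-- Scalar elements. -/
def Scal : Prop := g.1 0 1 = 0 ∧ g.1 1 0 = 0 ∧ g.1 0 0 = g.1 1 1

variable (F) in
/-- The scalar `-1`. -/
def m1 : SpecialLinearGroup (Fin 2) F := mk (-1) 0 0 (-1) (by ring)

variable {g x}

theorem scal_iff : Scal g ↔ g = 1 ∨ g = m1 F := by
  constructor
  · rintro ⟨h1, h2, h3⟩
    have hd := det_eq g
    rw [h1, h2, h3, mul_zero, sub_zero] at hd
    rcases mul_self_eq_one_iff.1 hd with h | h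
    · left; apply ext4 <;> simp [h1, h2, h3, h]
    · right; apply ext4 <;> simp [m1, h1, h2, h3, h]
  · rintro (rfl | rfl) <;> simp [Scal, m1]

theorem m1_mul (g : SpecialLinearGroup (Fin 2) F) : m1 F * g = g * m1 F := by
  apply ext4 <;> simp only [mul00, mul01, mul10, mul11] <;> simp [m1]

theorem m1_sq : m1 F * m1 F = 1 := by
  apply ext4 <;> simp only [mul00, mul01, mul10, mul11] <;> simp [m1]

theorem tr_m1_mul : tr (m1 F * g) = -tr g := by
  simp only [tr, mul00, mul11]; simp [m1]; ring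

theorem m1_mem_centralizer (s : Set (SpecialLinearGroup (Fin 2) F)) : m1 F ∈ Subgroup.centralizer s :=
  fun y _ => (m1_mul y).symm

theorem scal_comm (h : Scal g) : Commute g x := by
  rcases scal_iff.1 h with rfl | rfl
  · exact Commute.one_left x
  · exact m1_mul x

theorem m1_ne_one (h2 : (2 : F) ≠ 0) : m1 F ≠ 1 := fun h => h2 (by
  have := congrArg (fun g : SpecialLinearGroup (Fin 2) F => g.1 0 0) h
  simp [m1] at this
  linear_combination -this)

theorem m1_inv : (m1 F)⁻¹ = m1 F := inv_eq_of_mul_eq_one_right m1_sq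

theorem scal_conj (k : SpecialLinearGroup (Fin 2) F) : Scal (k * g * k⁻¹) ↔ Scal g := by
  constructor
  · intro h
    have h2 : k * g * k⁻¹ = g := by
      have h1 := (scal_comm (x := k⁻¹) h).eq
      rw [show k⁻¹ * (k * g * k⁻¹) = g * k⁻¹ by group] at h1
      exact mul_right_cancel h1
    rwa [h2] at h
  · intro h
    rwa [show k * g * k⁻¹ = g from mul_inv_eq_iff_eq_mul.2 (scal_comm h).eq.symm]

theorem scal_m1_mul : Scal (m1 F * g) ↔ Scal g := by
  simp only [Scal, mul00, mul01, mul10, mul11]; simp [m1]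

/-- What commutes with a non-scalar element is a combination of it and a scalar. -/
theorem exists_coeff (hg : ¬ Scal g) (h : Commute x g) :
    ∃ k : F, x.1 0 1 = k * g.1 0 1 ∧ x.1 1 0 = k * g.1 1 0 ∧ x.1 0 0 - x.1 1 1 = k * (g.1 0 0 - g.1 1 1) := by
  have e00 := congrArg (fun g : SpecialLinearGroup (Fin 2) F => g.1 0 0) h.eq
  have e01 := congrArg (fun g : SpecialLinearGroup (Fin 2) F => g.1 0 1) h.eq
  have e10 := congrArg (fun g : SpecialLinearGroup (Fin 2) F => g.1 1 0) h.eq
  simp only [mul00, mul01, mul10] at e00 e01 e10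
  by_cases hb : g.1 0 1 ≠ 0
  · refine ⟨x.1 0 1 / g.1 0 1, (div_mul_cancel₀ _ hb).symm, ?_, ?_⟩ <;> field_simp
    · linear_combination -e00
    · linear_combination e01
  rw [not_not] at hb
  by_cases hc : g.1 1 0 ≠ 0
  · refine ⟨x.1 1 0 / g.1 1 0, ?_, (div_mul_cancel₀ _ hc).symm, ?_⟩ <;> field_simp
    · linear_combination e00
    · linear_combination -e10
  rw [not_not] at hc
  have hd : g.1 0 0 - g.1 1 1 ≠ 0 := fun h' => hg ⟨hb, hc, sub_eq_zero.1 h'⟩
  refine ⟨(x.1 0 0 - x.1 1 1) / (g.1 0 0 - g.1 1 1), ?_, ?_, (div_mul_cancel₀ _ hd).symm⟩ <;>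
    simp only [hb, hc, mul_zero] at e01 e10 ⊢
  · exact (mul_eq_zero.1 (show x.1 0 1 * (g.1 0 0 - g.1 1 1) = 0 by linear_combination -e01)).resolve_right hd
  · exact (mul_eq_zero.1 (show x.1 1 0 * (g.1 0 0 - g.1 1 1) = 0 by linear_combination e10)).resolve_right hd

/-- Centralizers of non-scalar elements are abelian. -/
theorem comm_of_comm {y : SpecialLinearGroup (Fin 2) F} (hg : ¬ Scal g) (hx : Commute x g) (hy : Commute y g) :
    Commute x y := by
  obtain ⟨k, k1, k2, k3⟩ := exists_coeff hg hx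
  obtain ⟨l, l1, l2, l3⟩ := exists_coeff hg hy
  apply ext4 <;> simp only [mul00, mul01, mul10, mul11, k1, k2, l1, l2]
  · ring
  · linear_combination l * g.1 0 1 * k3 - k * g.1 0 1 * l3
  · linear_combination k * g.1 1 0 * l3 - l * g.1 1 0 * k3
  · ring

theorem tr_sq_of_comm (hg : ¬ Scal g) (ht : tr g ^ 2 = 4) (hx : Commute x g) : tr x ^ 2 = 4 := by
  obtain ⟨k, k1, k2, k3⟩ := exists_coeff hg hx
  simp only [tr] at ht ⊢
  linear_combination 4 * det_eq x + k ^ 2 * ht - 4 * k ^ 2 * det_eq g +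
    (x.1 0 0 - x.1 1 1 + k * (g.1 0 0 - g.1 1 1)) * k3 + 4 * x.1 1 0 * k1 + 4 * k * g.1 0 1 * k2

/-- A conjugate of a semisimple element commuting with it is itself or its inverse. -/
theorem eq_or_eq_inv (h2 : (2 : F) ≠ 0) (hg : ¬ Scal g) (ht : tr g ^ 2 ≠ 4) (hx : Commute x g) (he : tr x = tr g) :
    x = g ∨ x = g⁻¹ := by
  obtain ⟨k, k1, k2, k3⟩ := exists_coeff hg hx
  simp only [tr] at ht he
  have hk : (k ^ 2 - 1) * ((g.1 0 0 + g.1 1 1) ^ 2 - 4) = 0 := by
    linear_combination
      (x.1 0 0 + x.1 1 1 + g.1 0 0 + g.1 1 1) * he - 4 * det_eq x -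
      (x.1 0 0 - x.1 1 1 + k * (g.1 0 0 - g.1 1 1)) * k3 - 4 * x.1 1 0 * k1 - 4 * k * g.1 0 1 * k2 +
      4 * k ^ 2 * det_eq g - 4 * det_eq g + 4 * det_eq g
  rcases mul_eq_zero.1 hk with hk | hk
  · rcases mul_self_eq_one_iff.1 (show k * k = 1 by linear_combination hk) with rfl | rfl
    · left
      apply ext4
      · exact mul_left_cancel₀ h2 (by linear_combination he + k3)
      · linear_combination k1
      · linear_combination k2
      · exact mul_left_cancel₀ h2 (by linear_combination he - k3)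
    · right
      apply ext4 <;> simp only [inv00, inv01, inv10, inv11]
      · exact mul_left_cancel₀ h2 (by linear_combination he + k3)
      · linear_combination k1
      · linear_combination k2
      · exact mul_left_cancel₀ h2 (by linear_combination he - k3)
  · exact absurd (sub_eq_zero.1 hk) ht

section

variable (p : ℕ) [hp : Fact p.Prime] [CharP F p]

theorem tr_eq_two_of_pow (h : g ^ p = 1) : tr g = 2 := by
  haveI : CharP (Matrix (Fin 2) (Fin 2) F) p := inferInstance
  have hn : IsNilpotent (g.1 - 1) := ⟨p, by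
    rw [sub_pow_char_of_commute _ (Commute.one_right _), one_pow, ← SpecialLinearGroup.coe_pow, h]; simp⟩
  have ht := (Matrix.isNilpotent_trace_of_isNilpotent hn).eq_zero
  rw [Matrix.trace_fin_two] at ht
  simp at ht
  simp only [tr]
  linear_combination ht

theorem pow_eq_one_of_tr (h : tr g = 2) : g ^ p = 1 := by
  haveI : CharP (Matrix (Fin 2) (Fin 2) F) p := inferInstance
  simp only [tr] at h
  have hd := det_eq g
  have hN : (g.1 - 1) ^ 2 = 0 := by
    rw [pow_two]
    apply Matrix.ext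
    intro i j
    fin_cases i <;> fin_cases j <;> simp [Matrix.mul_apply, Fin.sum_univ_two]
    · linear_combination g.1 0 0 * h - hd
    · linear_combination g.1 0 1 * h
    · linear_combination g.1 1 0 * h
    · linear_combination g.1 1 1 * h - hd
  have hp2 : (g.1 - 1) ^ p = 0 := by
    rw [← Nat.sub_add_cancel hp.out.two_le, pow_add, hN, mul_zero]
  rw [sub_pow_char_of_commute _ (Commute.one_right _), one_pow, sub_eq_zero] at hp2
  exact Subtype.ext (by rw [SpecialLinearGroup.coe_pow, hp2]; rfl)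

end

end CfsgLib.Dickson
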