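import Cfsg.Agent.Fus.DicksonBasic
import Mathlib.GroupTheory.Index
import Mathlib.GroupTheory.GroupAction.Quotient
import Mathlib.Data.Set.Card

/-!
The partition of a subgroup of SL₂ in odd characteristic by the centralizers of its non-scalar elements, and the resulting count
of the unipotent classes: the number of Sylow p-subgroups is q + 1, or the icosahedral configuration occurs.
-/

set_option autoImplicit false
set_option linter.style.haveILetI false

namespace CfsgLib.Dickson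

open Matrix

variable {F : Type*} [Field F]

/-- The upper triangular elements. -/
def bor : Subgroup (SpecialLinearGroup (Fin 2) F) where
  carrier := {g | g.1 1 0 = 0}
  one_mem' := by simp
  mul_mem' := fun {a b} ha hb => by
    simp only [Set.mem_ofPred_eq, mul10] at *; rw [ha, hb]; ring
  inv_mem' := fun {a} ha => by simp only [Set.mem_ofPred_eq, inv10] at *; rw [ha, neg_zero]

/-- The upper unitriangular elements. -/
def uni : Subgroup (SpecialLinearGroup (Fin 2) F) where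
  carrier := {g | g.1 1 0 = 0 ∧ g.1 0 0 = 1}
  one_mem' := by simp
  mul_mem' := fun {a b} ha hb => by
    simp only [Set.mem_ofPred_eq, mul10, mul00] at *; exact ⟨by rw [ha.1, hb.1]; ring, by rw [ha.2, hb.2, hb.1]; ring⟩
  inv_mem' := fun {a} ha => by
    simp only [Set.mem_ofPred_eq, inv10, inv00] at *
    refine ⟨by rw [ha.1, neg_zero], ?_⟩
    have := det_eq a
    rw [ha.1, ha.2] at this
    linear_combination this

theorem mem_bor {g : SpecialLinearGroup (Fin 2) F} : g ∈ bor ↔ g.1 1 0 = 0 := Iff.rfl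

theorem mem_uni {g : SpecialLinearGroup (Fin 2) F} : g ∈ uni ↔ g.1 1 0 = 0 ∧ g.1 0 0 = 1 := Iff.rfl

theorem diag_eq_one {g : SpecialLinearGroup (Fin 2) F} (h : g ∈ bor) : g.1 0 0 * g.1 1 1 = 1 := by
  have := det_eq g
  rw [mem_bor.1 h] at this
  linear_combination this

/-- The top left entry of an upper triangular element. -/
def ent : ↥(bor : Subgroup (SpecialLinearGroup (Fin 2) F)) →* Fˣ where
  toFun g := ⟨g.1.1 0 0, g.1.1 1 1, diag_eq_one g.2, (mul_comm _ _).trans (diag_eq_one g.2)⟩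
  map_one' := Units.ext (by simp)
  map_mul' a b := Units.ext (by
    show (a.1 * b.1).1 0 0 = a.1.1 0 0 * b.1.1 0 0
    rw [mul00, mem_bor.1 b.2]; ring)

/-- A group acting freely on a finite set has order dividing its cardinality. -/
theorem dvd_of_free {P X : Type*} [Group P] [Finite P] [Finite X] [MulAction P X]
    (h : ∀ (g : P) (x : X), g • x = x → g = 1) : Nat.card P ∣ Nat.card X := by
  haveI := Fintype.ofFinite (Quotient (MulAction.orbitRel P X))
  rw [Nat.card_congr (MulAction.selfEquivSigmaOrbitsQuotientStabilizer P X), Nat.card_sigma]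
  refine Finset.dvd_sum fun o _ => ?_
  have hb : MulAction.stabilizer P o.out = ⊥ := eq_bot_iff.2 fun g hg => Subgroup.mem_bot.2 (h g _ hg)
  rw [hb, ← Subgroup.index_eq_card, Subgroup.index_bot]

variable (H : Subgroup (SpecialLinearGroup (Fin 2) F))

/-- The centralizer in `H`. -/
def cH (g : SpecialLinearGroup (Fin 2) F) : Subgroup (SpecialLinearGroup (Fin 2) F) :=
  H ⊓ Subgroup.centralizer {g}

/-- The normalizer in `H` of the centralizer. -/
def nH (g : SpecialLinearGroup (Fin 2) F) : Subgroup (SpecialLinearGroup (Fin 2) F) :=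
  H ⊓ Subgroup.normalizer (cH H g : Set (SpecialLinearGroup (Fin 2) F))

/-- The non-scalar elements of `H` conjugate in `H` into the centralizer of `g`. -/
def cls (g : SpecialLinearGroup (Fin 2) F) : Set (SpecialLinearGroup (Fin 2) F) :=
  {x | x ∈ H ∧ ¬ Scal x ∧ ∃ k ∈ H, k * x * k⁻¹ ∈ cH H g}

variable {H} {g x : SpecialLinearGroup (Fin 2) F}

theorem mem_cH : x ∈ cH H g ↔ x ∈ H ∧ Commute x g := by
  rw [cH, Subgroup.mem_inf, Subgroup.mem_centralizer_singleton_iff]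
  exact Iff.rfl

theorem self_mem_cH (hg : g ∈ H) : g ∈ cH H g := mem_cH.2 ⟨hg, Commute.refl g⟩

theorem cH_eq (hg : ¬ Scal g) (hgH : g ∈ H) (hx : x ∈ cH H g) (hxs : ¬ Scal x) : cH H x = cH H g := by
  obtain ⟨hxH, hxg⟩ := mem_cH.1 hx
  ext y
  rw [mem_cH, mem_cH]
  exact ⟨fun h => ⟨h.1, comm_of_comm hxs h.2 hxg.symm⟩, fun h => ⟨h.1, comm_of_comm hg h.2 hxg⟩⟩

theorem conj_cH {k y : SpecialLinearGroup (Fin 2) F} (hk : k ∈ H) :
    k * y * k⁻¹ ∈ cH H (k * g * k⁻¹) ↔ y ∈ cH H g := by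
  rw [mem_cH, mem_cH]
  constructor
  · rintro ⟨h1, h2⟩
    refine ⟨by simpa [mul_assoc] using H.mul_mem (H.mul_mem (H.inv_mem hk) h1) hk, ?_⟩
    have := h2.eq
    rw [show k * y * k⁻¹ * (k * g * k⁻¹) = k * (y * g) * k⁻¹ by group,
      show k * g * k⁻¹ * (k * y * k⁻¹) = k * (g * y) * k⁻¹ by group] at this
    exact mul_left_cancel (mul_right_cancel this)
  · rintro ⟨h1, h2⟩
    refine ⟨H.mul_mem (H.mul_mem hk h1) (H.inv_mem hk), ?_⟩
    show k * y * k⁻¹ * (k * g * k⁻¹) = k * g * k⁻¹ * (k * y * k⁻¹)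
    rw [show k * y * k⁻¹ * (k * g * k⁻¹) = k * (y * g) * k⁻¹ by group, h2.eq]
    group

/-- An element moving a non-scalar member of the centralizer into it normalizes it. -/
theorem mem_nH (hg : ¬ Scal g) (hgH : g ∈ H) {k : SpecialLinearGroup (Fin 2) F} (hk : k ∈ H) (hx : x ∈ cH H g)
    (hxs : ¬ Scal x) (hkx : k * x * k⁻¹ ∈ cH H g) : k ∈ nH H g := by
  refine ⟨hk, Subgroup.mem_normalizer_iff.2 fun y => ?_⟩
  have h := (conj_cH (g := x) (y := y) hk).symm
  rwa [cH_eq hg hgH hx hxs, cH_eq hg hgH hkx (mt (scal_conj k).1 hxs)] at h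

theorem mem_cls (hg : ¬ Scal g) (hgH : g ∈ H) : g ∈ cls H g :=
  ⟨hgH, hg, 1, H.one_mem, by simpa using self_mem_cH hgH⟩

theorem cls_eq (hg : ¬ Scal g) (hgH : g ∈ H) (hx : x ∈ cls H g) : cls H x = cls H g := by
  obtain ⟨hxH, hxs, k, hk, hkx⟩ := hx
  have he := cH_eq hg hgH hkx (mt (scal_conj k).1 hxs)
  ext y
  constructor
  · rintro ⟨hy, hys, l, hl, hly⟩
    refine ⟨hy, hys, k * l, H.mul_mem hk hl, ?_⟩
    rw [← he, show k * l * y * (k * l)⁻¹ = k * (l * y * l⁻¹) * k⁻¹ by group]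
    exact (conj_cH hk).2 hly
  · rintro ⟨hy, hys, l, hl, hly⟩
    refine ⟨hy, hys, k⁻¹ * l, H.mul_mem (H.inv_mem hk) hl, ?_⟩
    rw [← he] at hly
    refine (conj_cH hk).1 ?_
    rwa [show k * (k⁻¹ * l * y * (k⁻¹ * l)⁻¹) * k⁻¹ = l * y * l⁻¹ by group]

theorem cls_eq_of_mem {g' : SpecialLinearGroup (Fin 2) F} (hg : ¬ Scal g) (hgH : g ∈ H) (hg' : ¬ Scal g')
    (hgH' : g' ∈ H) (hx : x ∈ cls H g) (hx' : x ∈ cls H g') : cls H g = cls H g' :=
  (cls_eq hg hgH hx).symm.trans (cls_eq hg' hgH' hx')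

theorem cls_subset : cls H g ⊆ {x | x ∈ H ∧ ¬ Scal x} := fun _ h => ⟨h.1, h.2.1⟩

section

variable [Fintype F] (h2 : (2 : F) ≠ 0) (hz : m1 F ∈ H)

include h2 hz

theorem m1_mem_cH : m1 F ∈ cH H g := mem_cH.2 ⟨hz, m1_mul g⟩

theorem ncard_nonscal {C : Subgroup (SpecialLinearGroup (Fin 2) F)} (hC : m1 F ∈ C) :
    Set.ncard {x | x ∈ C ∧ ¬ Scal x} + 2 = Nat.card C := by
  have h1 : {x | x ∈ C ∧ ¬ Scal x} = (C : Set (SpecialLinearGroup (Fin 2) F)) \ {1, m1 F} := by
    ext y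
    simp [scal_iff]
  have h3 : ({1, m1 F} : Set (SpecialLinearGroup (Fin 2) F)) ⊆ C := by
    rintro y (rfl | rfl)
    exacts [C.one_mem, hC]
  have h4 : Set.ncard ({1, m1 F} : Set (SpecialLinearGroup (Fin 2) F)) = 2 := Set.ncard_pair (m1_ne_one h2).symm
  have h5 := Set.ncard_diff_add_ncard_of_subset h3 (Set.toFinite _)
  rw [h4, ← h1] at h5
  rw [h5, ← Nat.card_coe_set_eq]
  rfl

theorem ncard_cls (hg : ¬ Scal g) (hgH : g ∈ H) :
    Set.ncard (cls H g) * Nat.card (nH H g) + 2 * Nat.card H = Nat.card H * Nat.card (cH H g) := by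
  let X := {x | x ∈ cH H g ∧ ¬ Scal x}
  choose k hkH hk using fun y : ↥(cls H g) => y.2.2.2
  let e : ↥H × ↥X ≃ ↥(cls H g) × ↥(nH H g) :=
    { toFun := fun a =>
        let y : ↥(cls H g) := ⟨(a.1 : SpecialLinearGroup (Fin 2) F)⁻¹ * a.2.1 * a.1,
          H.mul_mem (H.mul_mem (H.inv_mem a.1.2) (mem_cH.1 a.2.2.1).1) a.1.2,
          fun hs => a.2.2.2 (by simpa [mul_assoc] using (scal_conj (a.1 : SpecialLinearGroup (Fin 2) F)).2 hs),
          a.1, a.1.2, by simpa [mul_assoc] using a.2.2.1⟩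
        (y, ⟨a.1 * (k y)⁻¹, mem_nH hg hgH (H.mul_mem a.1.2 (H.inv_mem (hkH y))) (hk y)
          (mt (scal_conj _).1 y.2.2.1) (by
            rw [show (a.1 : SpecialLinearGroup (Fin 2) F) * (k y)⁻¹ * (k y * y * (k y)⁻¹) * (a.1 * (k y)⁻¹)⁻¹ =
              a.1 * y * (a.1 : SpecialLinearGroup (Fin 2) F)⁻¹ by group]
            simpa [y, mul_assoc] using a.2.2.1)⟩)
      invFun := fun b =>
        (⟨b.2 * k b.1, H.mul_mem b.2.2.1 (hkH b.1)⟩,
          ⟨b.2 * k b.1 * b.1 * (b.2 * k b.1 : SpecialLinearGroup (Fin 2) F)⁻¹, by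
            rw [show (b.2 : SpecialLinearGroup (Fin 2) F) * k b.1 * b.1 * (b.2 * k b.1 : SpecialLinearGroup (Fin 2) F)⁻¹
              = b.2 * (k b.1 * b.1 * (k b.1)⁻¹) * (b.2 : SpecialLinearGroup (Fin 2) F)⁻¹ by group]
            exact (Subgroup.mem_normalizer_iff.1 b.2.2.2 _).1 (hk b.1), mt (scal_conj _).1 b.1.2.2.1⟩)
      left_inv := fun a => by
        refine Prod.ext (Subtype.ext ?_) (Subtype.ext ?_)
        · simp
        · simp [mul_assoc]
      right_inv := fun b => by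
        have he : (⟨(b.2 * k b.1 : SpecialLinearGroup (Fin 2) F)⁻¹ *
            (b.2 * k b.1 * b.1 * (b.2 * k b.1 : SpecialLinearGroup (Fin 2) F)⁻¹) * (b.2 * k b.1), by
              simp [mul_assoc]⟩ : ↥(cls H g)) = b.1 := Subtype.ext (by simp [mul_assoc])
        refine Prod.ext he (Subtype.ext ?_)
        show (b.2 : SpecialLinearGroup (Fin 2) F) * k b.1 * (k _)⁻¹ = b.2
        rw [he, mul_inv_cancel_right] }
  have h := Nat.card_congr e
  rw [Nat.card_prod, Nat.card_prod, Nat.card_coe_set_eq, Nat.card_coe_set_eq] at h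
  rw [← h, ← ncard_nonscal h2 hz (C := cH H g) (m1_mem_cH h2 hz)]
  ring

omit h2 hz in
theorem cH_le_nH : cH H g ≤ nH H g := le_inf inf_le_left Subgroup.le_normalizer

omit hz in
theorem nH_le_two (hg : ¬ Scal g) (hgH : g ∈ H) (ht : tr g ^ 2 ≠ 4) :
    Nat.card (nH H g) ≤ 2 * Nat.card (cH H g) := by
  classical
  rw [← Subgroup.card_mul_index ((cH H g).subgroupOf (nH H g)),
    Nat.card_congr (Subgroup.subgroupOfEquivOfLe (cH_le_nH (H := H) (g := g))).toEquiv, mul_comm]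
  refine Nat.mul_le_mul_right _ ?_
  rw [Subgroup.index_eq_card]
  have hval : ∀ n : ↥(nH H g), (n : SpecialLinearGroup (Fin 2) F)⁻¹ * g * n = g ∨
      (n : SpecialLinearGroup (Fin 2) F)⁻¹ * g * n = g⁻¹ := fun n => by
    refine eq_or_eq_inv h2 hg ht ?_ ?_
    · exact (mem_cH.1 ((Subgroup.mem_normalizer_iff''.1 n.2.2 g).1 (self_mem_cH hgH))).2
    · simpa using tr_conj g (n : SpecialLinearGroup (Fin 2) F)⁻¹
  let f : ↥(nH H g) ⧸ (cH H g).subgroupOf (nH H g) → Bool := fun q =>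
    decide ((q.out : SpecialLinearGroup (Fin 2) F) * g * (q.out : SpecialLinearGroup (Fin 2) F)⁻¹ = g)
  refine (Nat.card_le_card_of_injective f fun a b hab => ?_).trans (le_of_eq (by simp))
  rw [← a.out_eq', ← b.out_eq', QuotientGroup.eq]
  show ((a.out⁻¹ * b.out : ↥(nH H g)) : SpecialLinearGroup (Fin 2) F) ∈ cH H g
  refine mem_cH.2 ⟨(a.out⁻¹ * b.out).2.1, ?_⟩
  have hc : ∀ n : ↥(nH H g), (n : SpecialLinearGroup (Fin 2) F) * g * (n : SpecialLinearGroup (Fin 2) F)⁻¹ = g ∨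
      (n : SpecialLinearGroup (Fin 2) F) * g * (n : SpecialLinearGroup (Fin 2) F)⁻¹ = g⁻¹ := fun n => by
    simpa using hval n⁻¹
  have heq : (a.out : SpecialLinearGroup (Fin 2) F) * g * (a.out : SpecialLinearGroup (Fin 2) F)⁻¹ =
      b.out * g * (b.out : SpecialLinearGroup (Fin 2) F)⁻¹ := by
    by_cases h : (a.out : SpecialLinearGroup (Fin 2) F) * g * (a.out : SpecialLinearGroup (Fin 2) F)⁻¹ = g
    · have hb : f b = true := hab.symm.trans (decide_eq_true h)
      rw [h, of_decide_eq_true hb]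
    · have hb : f b = false := hab.symm.trans (decide_eq_false h)
      rw [(hc a.out).resolve_left h, (hc b.out).resolve_left (of_decide_eq_false hb)]
  refine SemiconjBy.eq ?_
  show (a.out : SpecialLinearGroup (Fin 2) F)⁻¹ * b.out * g = g * ((a.out : SpecialLinearGroup (Fin 2) F)⁻¹ * b.out)
  calc (a.out : SpecialLinearGroup (Fin 2) F)⁻¹ * b.out * g
      = (a.out : SpecialLinearGroup (Fin 2) F)⁻¹ * (b.out * g * (b.out : SpecialLinearGroup (Fin 2) F)⁻¹) * b.out := by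
        group
    _ = _ := by rw [← heq]; group

theorem two_dvd_cH : 2 ∣ Nat.card (cH H g) := by
  have h : orderOf (m1 F) = 2 := orderOf_eq_prime (by rw [pow_two, m1_sq]) (m1_ne_one h2)
  exact h.symm.dvd.trans (Subgroup.orderOf_dvd_natCard _ (m1_mem_cH h2 hz))

/-- The data of a semisimple class. -/
theorem ss_data (p : ℕ) [hp : Fact p.Prime] [CharP F p] (hg : ¬ Scal g) (hgH : g ∈ H) (ht : tr g ^ 2 ≠ 4) :
    ∃ m c e : ℕ, Nat.card (cH H g) = 2 * c ∧ 2 ≤ c ∧ ¬ p ∣ c ∧ (e = 1 ∨ e = 2) ∧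
      Nat.card (nH H g) = 2 * (e * c) ∧ Nat.card H = 2 * (m * e * c) ∧ Set.ncard (cls H g) + 2 * m = 2 * (m * c) := by
  obtain ⟨c, hc⟩ := two_dvd_cH (g := g) h2 hz
  have hc2 : 2 ≤ c := by
    by_contra hlt
    have h1 := ncard_nonscal h2 hz (C := cH H g) (m1_mem_cH h2 hz)
    have : 0 < Set.ncard {x | x ∈ cH H g ∧ ¬ Scal x} :=
      (Set.ncard_pos (Set.toFinite _)).2 ⟨g, self_mem_cH hgH, hg⟩
    omega
  obtain ⟨e, he⟩ := Subgroup.card_dvd_of_le (cH_le_nH (H := H) (g := g))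
  have he2 : e ≤ 2 := by
    have h := nH_le_two h2 hg hgH ht
    rw [he, mul_comm 2] at h
    exact Nat.le_of_mul_le_mul_left h Nat.card_pos
  have he0 : e ≠ 0 := by rintro rfl; rw [mul_zero] at he; exact Nat.card_pos.ne' he
  have hnle : nH H g ≤ H := inf_le_left
  obtain ⟨m, hm⟩ := Subgroup.card_dvd_of_le hnle
  have hH : Nat.card H = 2 * (m * e * c) := by rw [hm, he, hc]; ring
  refine ⟨m, c, e, hc, hc2, fun hd => ?_, by omega, by rw [he, hc]; ring, hH, ?_⟩
  · obtain ⟨y, hy⟩ := exists_prime_orderOf_dvd_card' (G := ↥(cH H g)) p (hc ▸ dvd_mul_of_dvd_right hd 2)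
    have hyp : (y : SpecialLinearGroup (Fin 2) F) ^ p = 1 := by
      rw [← SubmonoidClass.coe_pow, ← hy, pow_orderOf_eq_one]; rfl
    have hys : ¬ Scal (y : SpecialLinearGroup (Fin 2) F) := by
      intro hs
      have h1 := tr_eq_two_of_pow p hyp
      rcases scal_iff.1 hs with h | h
      · rw [show y = 1 from Subtype.ext h, orderOf_one] at hy
        exact hp.out.ne_one hy.symm
      · rw [h, tr, m1, mk00, mk11] at h1
        exact h2 (mul_left_cancel₀ h2 (by linear_combination -h1))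
    refine ht (tr_sq_of_comm hys ?_ (mem_cH.1 y.2).2.symm)
    rw [tr_eq_two_of_pow p hyp]; ring
  · have h := ncard_cls h2 hz hg hgH
    rw [hH, hc, he, hc] at h
    refine Nat.eq_of_mul_eq_mul_left (show 0 < 2 * (e * c) by positivity) ?_
    linear_combination h

end

section

variable [Fintype F] (p : ℕ) [hp : Fact p.Prime] [CharP F p] (h2 : (2 : F) ≠ 0) (hz : m1 F ∈ H)
  {u : SpecialLinearGroup (Fin 2) F} (huH : u ∈ H) (huU : u ∈ uni) (hu1 : u ≠ 1)

include huH huU hu1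

omit [Fintype F] huH in
theorem uni_not_scal : ¬ Scal u := fun hs => hu1 (by
  obtain ⟨h1, h3⟩ := mem_uni.1 huU
  apply ext4 <;> simp [hs.1, h1, h3, ← hs.2.2])

omit [Fintype F] huH in
theorem uni_entry : u.1 0 1 ≠ 0 := fun h => by
  refine uni_not_scal huU hu1 ⟨h, (mem_uni.1 huU).1, ?_⟩
  have := diag_eq_one (g := u) (mem_uni.1 huU).1
  rw [(mem_uni.1 huU).2, one_mul] at this
  rw [(mem_uni.1 huU).2, this]

omit [Fintype F] in
theorem cH_uni {x : SpecialLinearGroup (Fin 2) F} :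
    x ∈ cH H u ↔ x ∈ H ∧ x.1 1 0 = 0 ∧ x.1 0 0 = x.1 1 1 := by
  obtain ⟨h1, h3⟩ := mem_uni.1 huU
  have h4 : u.1 1 1 = 1 := by
    have := diag_eq_one (g := u) h1
    rwa [h3, one_mul] at this
  rw [mem_cH]
  constructor
  · rintro ⟨hx, hc⟩
    obtain ⟨k, -, k2, k3⟩ := exists_coeff (uni_not_scal huU hu1) hc
    rw [h1, mul_zero] at k2
    rw [h3, h4, sub_self, mul_zero, sub_eq_zero] at k3
    exact ⟨hx, k2, k3⟩
  · rintro ⟨hx, hx1, hx2⟩
    refine ⟨hx, ?_⟩
    apply ext4 <;> simp only [mul00, mul01, mul10, mul11, h1, h3, h4, hx1, hx2] <;> ring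

omit [Fintype F] in
theorem nH_uni : nH H u = H ⊓ bor := by
  obtain ⟨h1, h3⟩ := mem_uni.1 huU
  have key : ∀ k ∈ H ⊓ bor, ∀ y ∈ cH H u, k * y * k⁻¹ ∈ cH H u := by
    intro k hk y hy
    rw [cH_uni huH huU hu1] at hy ⊢
    have hk1 : k.1 1 0 = 0 := hk.2
    refine ⟨H.mul_mem (H.mul_mem hk.1 hy.1) (H.inv_mem hk.1), ?_, ?_⟩ <;>
      simp only [mul00, mul01, mul10, mul11, inv00, inv01, inv10, inv11, hk1, hy.2.1, hy.2.2] <;> ring
  apply le_antisymm
  · rintro k ⟨hk, hkn⟩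
    refine ⟨hk, ?_⟩
    have h := ((cH_uni huH huU hu1).1 ((Subgroup.mem_normalizer_iff.1 hkn u).1 (self_mem_cH huH))).2.1
    have h4 : u.1 1 1 = 1 := by
      have := diag_eq_one (g := u) h1
      rwa [h3, one_mul] at this
    simp only [mul10, mul00, mul11, inv00, inv10, h1, h3, h4, mul_zero, mul_one, add_zero] at h
    refine (mul_self_eq_zero.1 ((mul_eq_zero.1 ?_).resolve_right (uni_entry huU hu1)))
    linear_combination -h
  · exact fun k hk => ⟨hk.1, Subgroup.mem_normalizer_iff.2 fun y => ⟨key k hk y, fun h => by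
      simpa [mul_assoc] using key k⁻¹ ((H ⊓ bor).inv_mem hk) _ h⟩⟩

include h2 hz

theorem card_cH_uni : Nat.card (cH H u) = 2 * Nat.card ↥(H ⊓ uni) := by
  let f : ↥(cH H u) →* Fˣ := ent.comp (Subgroup.inclusion fun y hy => ((cH_uni huH huU hu1).1 hy).2.1)
  have hf : ∀ y : ↥(cH H u), ((f y : Fˣ) : F) = y.1.1 0 0 := fun y => rfl
  have hker : f.ker = (H ⊓ uni).subgroupOf (cH H u) := by
    ext y
    have hy := (cH_uni huH huU hu1).1 y.2
    rw [MonoidHom.mem_ker, Subgroup.mem_subgroupOf, Subgroup.mem_inf, mem_uni, Units.ext_iff, hf, Units.val_one]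
    exact ⟨fun h => ⟨hy.1, hy.2.1, h⟩, fun h => h.2.2⟩
  have hr : (f.range : Set Fˣ) = {1, -1} := by
    ext a
    constructor
    · rintro ⟨y, rfl⟩
      have hy := (cH_uni huH huU hu1).1 y.2
      have h1 := diag_eq_one (g := y.1) hy.2.1
      rw [← hy.2.2] at h1
      rcases mul_self_eq_one_iff.1 h1 with h | h
      · exact Or.inl (Units.ext h)
      · exact Or.inr (Units.ext (by rw [Units.val_neg, Units.val_one]; exact h))
    · rintro (rfl | rfl)
      · exact ⟨1, map_one f⟩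
      · exact ⟨⟨m1 F, m1_mem_cH h2 hz⟩, Units.ext (by rw [hf, Units.val_neg, Units.val_one]; rfl)⟩
  have hne : (1 : Fˣ) ≠ -1 := fun h => h2 (by
    have := congrArg Units.val h
    rw [Units.val_one, Units.val_neg, Units.val_one] at this
    linear_combination this)
  have hle : H ⊓ uni ≤ cH H u := fun y hy => (cH_uni huH huU hu1).2 ⟨hy.1, hy.2.1, by
    have := diag_eq_one (g := y) hy.2.1
    rw [hy.2.2, one_mul] at this
    rw [hy.2.2, this]⟩
  rw [← Subgroup.card_mul_index f.ker, Subgroup.index_ker, hker,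
    Nat.card_congr (Subgroup.subgroupOfEquivOfLe hle).toEquiv, mul_comm,
    show Nat.card ↥f.range = Set.ncard ((f.range : Subgroup Fˣ) : Set Fˣ) from (Nat.card_coe_set_eq _), hr,
    Set.ncard_pair hne]

/-- The order of the Borel part, and the divisibility given by its action on the unipotent part. -/
theorem card_nH_uni : ∃ d : ℕ, Nat.card (nH H u) = 2 * (Nat.card ↥(H ⊓ uni) * d) ∧
    d ∣ Nat.card ↥(H ⊓ uni) - 1 ∧
    ∀ g ∈ nH H u, d = 1 → g.1 0 0 = g.1 1 1 := by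
  rw [nH_uni huH huU hu1]
  let f : ↥(H ⊓ bor) →* Fˣ := ent.comp (Subgroup.inclusion inf_le_right)
  let s : ↥f.range →* Fˣ := (powMonoidHom 2).comp f.range.subtype
  refine ⟨Nat.card ↥s.range, ?_, ?_, ?_⟩
  · have hker : f.ker = (H ⊓ uni).subgroupOf (H ⊓ bor) := by
      ext y
      rw [MonoidHom.mem_ker, Subgroup.mem_subgroupOf, Subgroup.mem_inf, mem_uni, Units.ext_iff]
      exact ⟨fun h => ⟨y.2.1, y.2.2, h⟩, fun h => h.2.2⟩
    have hk2 : Nat.card ↥s.ker = 2 := by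
      have hneg : (-1 : Fˣ) ∈ f.range := ⟨⟨m1 F, hz, by simp [mem_bor, m1]⟩, Units.ext (by
        rw [Units.val_neg, Units.val_one]; rfl)⟩
      have hs : (s.ker : Set ↥f.range) = {1, ⟨-1, hneg⟩} := by
        ext ⟨a, ha⟩
        show a ^ 2 = 1 ↔ _
        simp only [Set.mem_insert_iff, Set.mem_singleton_iff, Subtype.ext_iff]
        constructor
        · intro h
          rcases mul_self_eq_one_iff.1 (show (a : F) * a = 1 by rw [← pow_two, ← Units.val_pow_eq_pow_val, h]; rfl) with h | h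
          · exact Or.inl (Units.ext h)
          · exact Or.inr (Units.ext (by rw [Units.val_neg, Units.val_one]; exact h))
        · rintro (rfl | rfl)
          · exact one_pow 2
          · exact neg_one_sq
      have hne : (1 : ↥f.range) ≠ ⟨-1, hneg⟩ := fun h => h2 (by
        have := congrArg (fun a : ↥f.range => ((a : Fˣ) : F)) h
        simp at this
        linear_combination this)
      rw [show Nat.card ↥s.ker = Set.ncard ((s.ker : Subgroup ↥f.range) : Set ↥f.range) from Nat.card_coe_set_eq _,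
        hs, Set.ncard_pair hne]
    have hs' := Subgroup.card_mul_index s.ker
    rw [Subgroup.index_ker, hk2] at hs'
    rw [← Subgroup.card_mul_index f.ker, Subgroup.index_ker, hker,
      Nat.card_congr (Subgroup.subgroupOfEquivOfLe (show H ⊓ uni ≤ H ⊓ bor from
        inf_le_inf_left H fun y hy => hy.1)).toEquiv, ← hs']
    ring
  · let X : Set F := {b | b ≠ 0 ∧ ∃ y ∈ H ⊓ uni, y.1 0 1 = b}
    have hX : Nat.card X + 1 = Nat.card ↥(H ⊓ uni) := by
      have hinj : Function.Injective fun y : ↥(H ⊓ uni) => y.1.1 0 1 := fun y y' h => by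
        have e1 := diag_eq_one (g := y.1) y.2.2.1
        have e2 := diag_eq_one (g := y'.1) y'.2.2.1
        rw [y.2.2.2, one_mul] at e1
        rw [y'.2.2.2, one_mul] at e2
        exact Subtype.ext (ext4 (y.2.2.2.trans y'.2.2.2.symm) h (y.2.2.1.trans y'.2.2.1.symm) (e1.trans e2.symm))
      have h0 : X = (Set.range fun y : ↥(H ⊓ uni) => y.1.1 0 1) \ {0} := by
        apply Set.ext
        intro b
        constructor
        · rintro ⟨h1, y, hy, h⟩; exact ⟨Set.mem_range.2 ⟨⟨y, hy⟩, h⟩, h1⟩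
        · rintro ⟨⟨y, hy⟩, h1⟩; exact ⟨h1, y, y.2, hy⟩
      rw [Nat.card_coe_set_eq, h0, Set.ncard_diff_singleton_add_one (Set.mem_range.2 ⟨1, by simp⟩) (Set.toFinite _),
        ← Nat.card_coe_set_eq, Nat.card_range_of_injective hinj]
    rw [← hX, Nat.add_sub_cancel]
    have hmove : ∀ (a : ↥s.range) (b : F), b ∈ X → ((a : Fˣ) : F) * b ∈ X := by
      rintro ⟨_, ⟨_, k, rfl⟩, rfl⟩ b ⟨hb, y, hy, rfl⟩
      refine ⟨mul_ne_zero (Units.ne_zero _) hb, k.1 * y * k.1⁻¹, ⟨?_, ?_⟩, ?_⟩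
      · exact H.mul_mem (H.mul_mem k.2.1 hy.1) (H.inv_mem k.2.1)
      · have h1 := diag_eq_one (g := k.1) k.2.2
        refine mem_uni.2 ?_
        simp only [mul00, mul01, mul10, mul11, inv00, inv10, mem_bor.1 k.2.2, hy.2.1, hy.2.2]
        exact ⟨by ring, by linear_combination h1⟩
      · have h1 := diag_eq_one (g := y) hy.2.1
        rw [hy.2.2, one_mul] at h1
        show (k.1 * y * k.1⁻¹).1 0 1 = (k.1.1 0 0) ^ 2 * y.1 0 1
        simp only [mul00, mul01, inv01, inv11, mem_bor.1 k.2.2, hy.2.1, hy.2.2, h1]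
        ring
    letI : MulAction ↥s.range ↥X :=
      { smul := fun a b => ⟨_, hmove a b b.2⟩
        one_smul := fun b => Subtype.ext (one_mul (b : F))
        mul_smul := fun a a' b => Subtype.ext (mul_assoc _ _ _) }
    refine dvd_of_free fun a b h => Subtype.ext (Units.ext ?_)
    exact (mul_eq_right₀ b.2.1).1 (congrArg Subtype.val h)
  · intro k hk hd
    have h1 : s ⟨f ⟨k, hk⟩, ⟨_, rfl⟩⟩ = 1 :=
      congrArg Subtype.val (show (⟨_, ⟨_, rfl⟩⟩ : ↥s.range) = 1 from (Nat.card_eq_one_iff_unique.1 hd).1.elim _ _)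
    have h3 : k.1 0 0 ^ 2 = 1 := congrArg Units.val h1
    have h4 := diag_eq_one (g := k) hk.2
    linear_combination k.1 1 1 * h3 - k.1 0 0 * h4

omit h2 in
/-- The number of conjugates of the unipotent part is congruent to 1. -/
theorem index_mod : ∃ n m : ℕ, Nat.card H = n * Nat.card (nH H u) ∧ n = 1 + m * Nat.card ↥(H ⊓ uni) := by
  classical
  rw [nH_uni huH huU hu1]
  set N := H ⊓ bor (F := F)
  set P := H ⊓ uni (F := F)
  let X := {q : ↥H ⧸ N.subgroupOf H // q ≠ ((1 : ↥H) : ↥H ⧸ N.subgroupOf H)}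
  have hPN : P ≤ N := fun y hy => ⟨hy.1, hy.2.1⟩
  let i : ↥P →* ↥H := Subgroup.inclusion inf_le_left
  letI act : MulAction ↥P X :=
    { smul := fun a q => ⟨i a • q.1, fun h => q.2 (by
        have h' := congrArg ((i a)⁻¹ • ·) h
        simp only [inv_smul_smul] at h'
        rw [h', MulAction.Quotient.smul_mk, QuotientGroup.eq]
        show ((((i a)⁻¹ * 1)⁻¹ * 1 : ↥H) : SpecialLinearGroup (Fin 2) F) ∈ N
        simpa [i] using hPN a.2)⟩
      one_smul := fun q => Subtype.ext (by show i 1 • q.1 = q.1; rw [map_one, one_smul])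
      mul_smul := fun a b q => Subtype.ext (by show i (a * b) • q.1 = i a • i b • q.1; rw [map_mul, mul_smul]) }
  obtain ⟨m, hm⟩ := dvd_of_free (P := ↥P) (X := X) (by
    rintro a ⟨q, hq⟩ h
    induction q using QuotientGroup.induction_on with
    | _ k =>
      have h' : i a • ((k : ↥H) : ↥H ⧸ N.subgroupOf H) = (k : ↥H ⧸ N.subgroupOf H) := congrArg Subtype.val h
      rw [MulAction.Quotient.smul_mk, QuotientGroup.eq] at h'
      have h'' : ((i a * k)⁻¹ * k : ↥H).1 ∈ N := h'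
      have hkb : k.1.1 1 0 ≠ 0 := fun h0 => hq (by
        rw [QuotientGroup.eq]
        show ((k⁻¹ * 1 : ↥H) : SpecialLinearGroup (Fin 2) F) ∈ N
        rw [mul_one]
        exact N.inv_mem ⟨k.2, h0⟩)
      by_contra ha1
      have ha : a.1 ≠ 1 := fun h0 => ha1 (Subtype.ext h0)
      have h3 : ((k.1)⁻¹ * (a.1)⁻¹ * k.1).1 1 0 = 0 := by
        have := h''.2
        simpa [i, mem_bor, _root_.mul_inv_rev] using this
      have e := diag_eq_one (g := a.1) a.2.2.1
      rw [a.2.2.2, one_mul] at e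
      simp only [mul10, mul00, mul11, inv00, inv01, inv10, inv11, a.2.2.1, a.2.2.2, e] at h3
      refine mul_ne_zero (mul_ne_zero hkb hkb) (uni_entry a.2.2 ha) ?_
      linear_combination h3)
  refine ⟨(N.subgroupOf H).index, m, ?_, ?_⟩
  · rw [← Subgroup.card_mul_index (N.subgroupOf H),
      Nat.card_congr (Subgroup.subgroupOfEquivOfLe (inf_le_left : N ≤ H)).toEquiv, mul_comm]
  · rw [Subgroup.index_eq_card, mul_comm m, ← hm]
    have := Nat.card_congr (Equiv.optionSubtypeNe ((1 : ↥H) : ↥H ⧸ N.subgroupOf H))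
    rw [Finite.card_option] at this
    show _ = 1 + Nat.card {q : ↥H ⧸ N.subgroupOf H // q ≠ ((1 : ↥H) : ↥H ⧸ N.subgroupOf H)}
    omega

/-- The torus class. -/
theorem torus_data {d : ℕ} (hd : Nat.card (nH H u) = 2 * (Nat.card ↥(H ⊓ uni) * d)) {g : SpecialLinearGroup (Fin 2) F}
    (hg : g ∈ nH H u) (hgd : g.1 0 0 ≠ g.1 1 1) :
    ¬ Scal g ∧ tr g ^ 2 ≠ 4 ∧ Nat.card (cH H g) = 2 * d := by
  rw [nH_uni huH huU hu1] at hg hd
  have hg10 : g.1 1 0 = 0 := hg.2
  have hgs : ¬ Scal g := fun h => hgd h.2.2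
  have ht : tr g ^ 2 ≠ 4 := by
    intro h
    simp only [tr] at h
    refine hgd (sub_eq_zero.1 (sq_eq_zero_iff.1 ?_))
    linear_combination h - 4 * diag_eq_one (g := g) hg10
  have hle : cH H g ≤ H ⊓ bor := fun y hy => by
    obtain ⟨k, -, k2, -⟩ := exists_coeff hgs (mem_cH.1 hy).2
    exact ⟨hy.1, mem_bor.2 (by rw [k2, hg10, mul_zero])⟩
  refine ⟨hgs, ht, le_antisymm ?_ ?_⟩
  · -- injects into the diagonal
    have hk : (cH H g ⊓ (H ⊓ uni)) = ⊥ := eq_bot_iff.2 fun y hy => Subgroup.mem_bot.2 (by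
      by_contra hy1
      refine ht (tr_sq_of_comm (uni_not_scal hy.2.2 hy1) ?_ (mem_cH.1 hy.1).2.symm)
      have e := diag_eq_one (g := y) hy.2.2.1
      rw [hy.2.2.2, one_mul] at e
      rw [tr, hy.2.2.2, e]; ring)
    have h1 : Nat.card (cH H g) * Nat.card ↥(H ⊓ uni) ≤ Nat.card ↥(H ⊓ bor) := by
      rw [← Nat.card_prod]
      refine Nat.card_le_card_of_injective (fun a => (⟨a.1.1 * a.2.1, (H ⊓ bor).mul_mem (hle a.1.2)
        ⟨a.2.2.1, a.2.2.2.1⟩⟩ : ↥(H ⊓ bor))) fun a b h => ?_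
      have h' : a.1.1 * a.2.1 = b.1.1 * b.2.1 := congrArg Subtype.val h
      have hm : b.1.1⁻¹ * a.1.1 ∈ cH H g ⊓ (H ⊓ uni) := ⟨(cH H g).mul_mem ((cH H g).inv_mem b.1.2) a.1.2, by
        rw [show b.1.1⁻¹ * a.1.1 = b.2.1 * a.2.1⁻¹ by
          rw [inv_mul_eq_iff_eq_mul, ← mul_assoc, eq_mul_inv_iff_mul_eq, h']]
        exact (H ⊓ uni).mul_mem b.2.2 ((H ⊓ uni).inv_mem a.2.2)⟩
      rw [hk, Subgroup.mem_bot, inv_mul_eq_one] at hm
      refine Prod.ext (Subtype.ext hm.symm) (Subtype.ext ?_)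
      rw [hm] at h'
      exact mul_left_cancel h'
    rw [hd, show 2 * (Nat.card ↥(H ⊓ uni) * d) = 2 * d * Nat.card ↥(H ⊓ uni) by ring] at h1
    exact Nat.le_of_mul_le_mul_right h1 Nat.card_pos
  · -- the conjugates lie in one coset of the unipotent part
    have h1 : Nat.card ↥(H ⊓ bor) ≤ Nat.card (cH H g) * Nat.card ↥(H ⊓ uni) := by
      rw [← Subgroup.card_mul_index ((cH H g).subgroupOf (H ⊓ bor)),
        Nat.card_congr (Subgroup.subgroupOfEquivOfLe hle).toEquiv, Subgroup.index_eq_card]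
      refine Nat.mul_le_mul_left _ (Nat.card_le_card_of_injective
        (fun q => (⟨g⁻¹ * (q.out.1 * g * q.out.1⁻¹), ?_, ?_⟩ : ↥(H ⊓ uni))) fun a b h => ?_)
      · exact H.mul_mem (H.inv_mem hg.1) (H.mul_mem (H.mul_mem q.out.2.1 hg.1) (H.inv_mem q.out.2.1))
      · have hq := mem_bor.1 q.out.2.2
        have e1 := diag_eq_one (g := q.out.1) q.out.2.2
        have e2 := diag_eq_one (g := g) hg10
        refine mem_uni.2 ?_
        simp only [mul00, mul01, mul10, mul11, inv00, inv01, inv10, inv11, hq, hg10]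
        exact ⟨by ring, by linear_combination g.1 1 1 * g.1 0 0 * e1 + e2⟩
      · have h' := mul_left_cancel (congrArg Subtype.val h)
        rw [← a.out_eq', ← b.out_eq', QuotientGroup.eq]
        show ((a.out⁻¹ * b.out : ↥(H ⊓ bor)) : SpecialLinearGroup (Fin 2) F) ∈ cH H g
        refine mem_cH.2 ⟨(a.out⁻¹ * b.out).2.1, ?_⟩
        show (a.out.1⁻¹ * b.out.1) * g = g * (a.out.1⁻¹ * b.out.1)
        calc a.out.1⁻¹ * b.out.1 * g = a.out.1⁻¹ * (b.out.1 * g * b.out.1⁻¹) * b.out.1 := by group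
          _ = a.out.1⁻¹ * (a.out.1 * g * a.out.1⁻¹) * b.out.1 := by rw [h']
          _ = _ := by group
    rw [hd, show 2 * (Nat.card ↥(H ⊓ uni) * d) = 2 * d * Nat.card ↥(H ⊓ uni) by ring] at h1
    exact Nat.le_of_mul_le_mul_right h1 Nat.card_pos

end

end CfsgLib.Dickson
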