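import Cfsg.Agent.Fus.MetacyclicTwoAut
import Cfsg.Agent.Fus.Normal
import Mathlib.GroupTheory.SpecificGroups.Quaternion
import Mathlib.GroupTheory.SpecificGroups.Dihedral

/-!
Dihedral and quaternion `2`-groups of order at least 16 have only inner automorphisms in a saturated system.
-/

set_option autoImplicit false
set_option linter.style.haveILetI false

open Cfsg Cfsg.FusionSystem

namespace CfsgLib.Fus.DQAut

theorem metacyclic_dihedral (m : ℕ) [NeZero m] : IsMetacyclic (DihedralGroup m) := by
  let N := Subgroup.zpowers (DihedralGroup.r 1 : DihedralGroup m)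
  have hN : N.index = 2 := by
    have h1 := N.card_mul_index
    rw [Nat.card_zpowers, DihedralGroup.orderOf_r_one, DihedralGroup.nat_card, mul_comm m] at h1
    exact Nat.eq_of_mul_eq_mul_right (NeZero.pos m) h1
  haveI := Subgroup.normal_of_index_eq_two hN
  exact ⟨N, inferInstance, inferInstance,
    isCyclic_of_prime_card (p := 2) (by rw [← Subgroup.index_eq_card, hN])⟩

theorem metacyclic_quaternion (m : ℕ) [NeZero m] : IsMetacyclic (QuaternionGroup m) := by
  let N := Subgroup.zpowers (QuaternionGroup.a 1 : QuaternionGroup m)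
  have hN : N.index = 2 := by
    have h1 := N.card_mul_index
    rw [Nat.card_zpowers, QuaternionGroup.orderOf_a_one, Nat.card_eq_fintype_card, QuaternionGroup.card] at h1
    exact Nat.eq_of_mul_eq_mul_right (show 0 < 2 * m by have := NeZero.pos m; omega)
      (by rw [mul_comm N.index, h1]; ring)
  haveI := Subgroup.normal_of_index_eq_two hN
  exact ⟨N, inferInstance, inferInstance,
    isCyclic_of_prime_card (p := 2) (by rw [← Subgroup.index_eq_card, hN])⟩

theorem metacyclic_congr {G H : Type*} [Group G] [Group H] (e : G ≃* H) (h : IsMetacyclic H) :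
    IsMetacyclic G := by
  obtain ⟨N, hN, hc, hq⟩ := h
  refine ⟨N.comap e.toMonoidHom, hN.comap _, ?_, ?_⟩
  · exact isCyclic_of_injective (e.toMonoidHom.subgroupComap N) fun a b h => Subtype.ext (e.injective (congrArg Subtype.val h))
  · exact isCyclic_of_surjective
      (QuotientGroup.congr N (N.comap e.toMonoidHom) e.symm
        (Subgroup.map_equiv_eq_comap_symm e.symm N)).toMonoidHom (MulEquiv.surjective _)

/-- Dihedral and quaternion groups of order at least 16 have no automorphisms of odd order. -/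
theorem odd_aut_eq_one {G : Type*} [Group G] [Finite G] (hG : IsPGroup 2 G) {n : ℕ} (hn : 4 ≤ n)
    (h : Nonempty (G ≃* DihedralGroup (2 ^ (n - 1))) ∨ Nonempty (G ≃* QuaternionGroup (2 ^ (n - 2))))
    (α : MulAut G) (hodd : Odd (orderOf α)) : α = 1 := by
  have hpow : ∀ k, NeZero (2 ^ k) := fun k => ⟨pow_ne_zero _ two_ne_zero⟩
  haveI := hpow (n - 1); haveI := hpow (n - 2)
  have hfour : 4 ≤ 2 ^ (n - 2) := le_trans (by norm_num) (Nat.pow_le_pow_right two_pos (by omega : 2 ≤ n - 2))
  have hd : 2 ^ (n - 1) = 2 * 2 ^ (n - 2) := by rw [← pow_succ', show n - 2 + 1 = n - 1 by omega]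
  obtain ⟨hm, hcard, hnab⟩ : IsMetacyclic G ∧ 16 ≤ Nat.card G ∧ ∃ a b : G, a * b ≠ b * a := by
    rcases h with ⟨⟨e⟩⟩ | ⟨⟨e⟩⟩
    · refine ⟨metacyclic_congr e (metacyclic_dihedral _), ?_, e.symm (.r 1), e.symm (.sr 0), fun hc => ?_⟩
      · rw [Nat.card_congr e.toEquiv, DihedralGroup.nat_card]; omega
      · have h1 := congrArg e hc
        simp only [map_mul, MulEquiv.apply_symm_apply, DihedralGroup.r_mul_sr, DihedralGroup.sr_mul_r,
          DihedralGroup.sr.injEq] at h1
        have h2 : ((2 : ℕ) : ZMod (2 ^ (n - 1))) = 0 := by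
          push_cast
          linear_combination -h1
        have := Nat.le_of_dvd two_pos ((ZMod.natCast_eq_zero_iff _ _).1 h2)
        omega
    · refine ⟨metacyclic_congr e (metacyclic_quaternion _), ?_, e.symm (.a 1), e.symm (.xa 0), fun hc => ?_⟩
      · rw [Nat.card_congr e.toEquiv, Nat.card_eq_fintype_card, QuaternionGroup.card]; omega
      · have h1 := congrArg e hc
        simp only [map_mul, MulEquiv.apply_symm_apply, QuaternionGroup.a_mul_xa, QuaternionGroup.xa_mul_a,
          QuaternionGroup.xa.injEq] at h1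
        have h2 : ((2 : ℕ) : ZMod (2 * 2 ^ (n - 2))) = 0 := by
          push_cast
          linear_combination -h1
        have := Nat.le_of_dvd two_pos ((ZMod.natCast_eq_zero_iff _ _).1 h2)
        omega
  by_contra hne
  rcases MetaTwo.shape_of_odd_aut hG hm α hodd hne with ⟨k, ⟨e⟩⟩ | ⟨⟨e⟩⟩
  · obtain ⟨a, b, hab⟩ := hnab
    exact hab (e.injective (by rw [map_mul, map_mul, mul_comm]))
  · rw [Nat.card_congr e.toEquiv, Nat.card_eq_fintype_card, QuaternionGroup.card] at hcard
    omega

universe u

variable {Ω : Type u} [Group Ω] {S : Subgroup Ω} [Finite S] {F : FusionSystem S}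

theorem autGroup_eq_inn (hS : IsPGroup 2 S) (hF : F.IsSaturated 2)
    (h : ∀ α : MulAut S, Odd (orderOf α) → α = 1) : F.autGroup S = Inn S := by
  haveI : Fact (Nat.Prime 2) := ⟨Nat.prime_two⟩
  haveI := finite_mulAut (le_refl S)
  have hp : IsPGroup 2 ↥(F.autGroup S) := by
    intro x
    refine ⟨(orderOf (x : MulAut S)).factorization 2, Subtype.ext (h _ ?_)⟩
    rw [SubmonoidClass.coe_pow, orderOf_pow' _ (pow_ne_zero _ two_ne_zero),
      Nat.gcd_eq_right (Nat.ordProj_dvd _ 2)]
    exact Nat.not_even_iff_odd.1 fun he => (Nat.Prime.coprime_iff_not_dvd Nat.prime_two).1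
      (Nat.coprime_ordCompl Nat.prime_two (orderOf_pos (x : MulAut S)).ne') (even_iff_two_dvd.1 he)
  obtain ⟨-, R, hR⟩ := (fullyNormalized_spec hS hF fullyNormalized_top).1
  have htop : (R : Subgroup ↥(F.autGroup S)) = ⊤ :=
    (R.3 (Q := ⊤) (hp.to_subgroup ⊤) le_top).symm
  refine le_antisymm (fun α hα => ?_) (inn_le_autGroup le_rfl)
  have := (hR ▸ htop : (autInducedBy S S).subgroupOf (F.autGroup S) = ⊤)
  rw [inn_eq_autInducedBy]
  exact Subgroup.subgroupOf_eq_top.1 this hα

end CfsgLib.Fus.DQAut
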