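import Mathlib.Data.Nat.ChineseRemainder
import Cfsg.Agent.Fus.Saturation

/-!
Equivalent forms of saturation.
-/

set_option autoImplicit false
set_option linter.style.haveILetI false

open Cfsg Cfsg.FusionSystem

namespace CfsgLib.Fus

theorem exists_pow_ppart {G : Type*} [Group G] [Finite G] (p : ℕ) [hp : Fact p.Prime] (β : G) (c : ℕ) :
    ∃ m : ℕ, (∃ a : ℕ, (β ^ m) ^ (p ^ a) = 1) ∧ m ≡ 1 [MOD p ^ c] := by
  obtain ⟨a, b, hb, hn⟩ := Nat.exists_eq_pow_mul_and_not_dvd (orderOf_pos β).ne' p hp.out.ne_one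
  obtain ⟨m, hm1, hm2⟩ := Nat.chineseRemainder
    (Nat.Coprime.pow_right c (hp.out.coprime_iff_not_dvd.2 hb).symm) 0 1
  obtain ⟨k, rfl⟩ := Nat.modEq_zero_iff_dvd.1 hm1
  refine ⟨b * k, ⟨a, ?_⟩, hm2⟩
  rw [← pow_mul, show b * k * p ^ a = p ^ a * b * k by ring, ← hn, pow_mul, pow_orderOf_eq_one, one_pow]

theorem exists_normalizing_of_lt {G : Type*} [Group G] {p : ℕ} [Fact p.Prime] {A T : Subgroup G}
    [Finite T] (hT : IsPGroup p T) (h : A < T) :
    ∃ x ∈ T, x ∉ A ∧ x ∈ Subgroup.normalizer (A : Set G) := by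
  haveI := hT.isNilpotent
  have hlt : A.subgroupOf T < ⊤ :=
    lt_top_iff_ne_top.2 fun ht => h.not_ge (Subgroup.subgroupOf_eq_top.1 ht)
  obtain ⟨x, hx, hxA⟩ :=
    SetLike.exists_of_lt (normalizerCondition_of_isNilpotent (A.subgroupOf T) hlt)
  refine ⟨x, x.2, fun hA => hxA (Subgroup.mem_subgroupOf.2 hA),
    mem_normalizer_of_conj (fun y hy => ?_) fun y hy => ?_⟩
  · exact (Subgroup.mem_normalizer_iff.1 hx ⟨y, h.le hy⟩).1 hy
  · exact (Subgroup.mem_normalizer_iff''.1 hx ⟨y, h.le hy⟩).1 hy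

variable {Ω : Type*} [Group Ω] {S : Subgroup Ω} {F : FusionSystem S} {p : ℕ}

theorem autFun_pow_agree {P R : Subgroup Ω} (hPR : P ≤ R) {α : MulAut P} {β : MulAut R}
    (h : ∀ x ∈ P, autFun β x = autFun α x) (n : ℕ) :
    ∀ x ∈ P, autFun (β ^ n) x = autFun (α ^ n) x := by
  induction n with
  | zero => intro x hx; rw [pow_zero, pow_zero, autFun_one hx, autFun_one (hPR hx)]
  | succ n ih =>
    intro x hx
    rw [pow_succ, pow_succ, autFun_mul _ _ hx, autFun_mul _ _ (hPR hx), h x hx,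
      ih _ (autFun_mem α hx)]

/-- If `S` is fully automized and fully normalized subgroups are receptive, then fully normalized
subgroups are fully automized. -/
theorem fullyAutomized_of_weak [Finite S] [Fact p.Prime] (hS : IsPGroup p S)
    (hA : F.IsFullyAutomized p S) (hR : ∀ P, F.IsFullyNormalized P → F.IsReceptive P) :
    ∀ P, F.IsFullyNormalized P → F.IsFullyAutomized p P := by
  suffices ∀ (n : ℕ) (P : Subgroup Ω), Nat.card S - Nat.card ↥P = n → F.IsFullyNormalized P → F.IsFullyAutomized p P from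
    fun P => this _ P rfl
  intro n
  induction n using Nat.strong_induction_on with
  | _ n ih =>
  intro P hn hP
  rcases hP.1.eq_or_lt with rfl | hlt
  · exact hA
  haveI := finite_mulAut hP.1
  have hA' : IsPGroup p ↥((autInducedBy S P).subgroupOf (F.autGroup P)) :=
    (isPGroup_autInducedBy hS).comap_of_injective _ (Subgroup.subtype_injective _)
  obtain ⟨T, hT⟩ := hA'.exists_le_sylow
  rcases hT.eq_or_lt with he | hlt'
  · exact ⟨hP.1, T, he.symm⟩
  exfalso
  obtain ⟨α, hαT, hαA, hαN⟩ := exists_normalizing_of_lt T.isPGroup' hlt'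
  have hR0 := hR P hP
  have hαm := (mem_autGroup hP.1).1 α.2
  obtain ⟨g, hg, hge⟩ := extend hR0 hαm (img_autFun _) (N := normalizerIn S P) fun a ha => by
    obtain ⟨ca, hca, hcae⟩ := exists_autInducedBy ha.1 ha.2
    have hm : (⟨ca, autInducedBy_le_autGroup hP.1 hca⟩ : ↥(F.autGroup P)) ∈
        (autInducedBy S P).subgroupOf (F.autGroup P) := hca
    obtain ⟨s, hs, hse⟩ := mem_autInducedBy.1 (Subgroup.mem_subgroupOf.1 (conj_mem_of_normalizer hαN hm))
    refine ⟨ha.1, ha.2, s, hs, fun x hx => ?_⟩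
    have := hse _ (autFun_mem (α : MulAut P) hx)
    simp only [Subgroup.coe_mul, InvMemClass.coe_inv] at this
    rw [autFun_mul _ _ (autFun_mem _ hx), autFun_mul _ _ (autFun_mem _ (autFun_mem _ hx)),
      ← autFun_mul (α : MulAut P)⁻¹ _ hx, inv_mul_cancel, autFun_one hx, hcae x hx] at this
    exact this
  have hPR := le_normalizerIn (S := S) hP.1
  rw [sup_eq_right.2 hPR] at hg
  haveI := finite_of_le (normalizerIn_le (S := S) P)
  have hgP : img g P = P := (img_congr hge).trans (img_autFun _)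
  have hgR : img g (normalizerIn S P) = normalizerIn S P :=
    Subgroup.eq_of_le_of_card_ge (le_of_le_of_eq (hg.img_normalizerIn_le hPR le_rfl) (by rw [hgP]))
      hg.card_img.ge
  obtain ⟨β, hβ, hβg⟩ := exists_aut hg hgR
  have hβα : ∀ x ∈ P, autFun β x = autFun (α : MulAut P) x := fun x hx =>
    (hβg x (hPR hx)).trans (hge x hx)
  haveI := finite_mulAut (normalizerIn_le (S := S) P)
  obtain ⟨c, hc⟩ := T.isPGroup' ⟨α, hαT⟩
  have hαc : (α : MulAut P) ^ (p ^ c) = 1 := by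
    simpa using congrArg Subtype.val (congrArg Subtype.val hc)
  obtain ⟨m, ⟨a, ha⟩, hm⟩ := exists_pow_ppart p β c
  have hαm' : (α : MulAut P) ^ m = α := by
    rw [pow_eq_pow_mod m hαc, hm, ← pow_eq_pow_mod 1 hαc, pow_one]
  have hβ'α : ∀ x ∈ P, autFun (β ^ m) x = autFun (α : MulAut P) x := fun x hx => by
    rw [autFun_pow_agree hPR hβα m x hx, hαm']
  obtain ⟨R', hRR', hR'⟩ := exists_fullyNormalized (F := F) (normalizerIn_le (S := S) P)
  have hcard' := card_eq_of_isConj hRR'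
  haveI := finite_of_le hR'.1
  have hlt2 : Nat.card ↥P < Nat.card ↥R' := by
    rw [hcard']
    have hlt3 : P < normalizerIn S P := lt_normalizerIn hS hlt
    exact lt_of_not_ge fun hle => hlt3.ne (Subgroup.eq_of_le_of_card_ge hlt3.le hle)
  have hleS : Nat.card ↥R' ≤ Nat.card S := Subgroup.card_le_of_le hR'.1
  obtain ⟨hR'S, Rs, hRs⟩ := ih _ (by omega) R' rfl hR'
  haveI := finite_mulAut hR'S
  obtain ⟨f, hf, hfi⟩ := isConj_iff.1 hRR'
  obtain ⟨e, he⟩ := hf.equiv hfi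
  let γ : ↥(F.autGroup R') :=
    ⟨MulAut.congr e (β ^ m), congr_mem_autGroup hf hfi he (Subgroup.pow_mem _ hβ m)⟩
  have hγp : IsPGroup p ↥(Subgroup.zpowers γ) := by
    rintro ⟨v, i, rfl⟩
    refine ⟨a, Subtype.ext ?_⟩
    have hγ1 : γ ^ (p ^ a) = 1 := Subtype.ext (by show (MulAut.congr e (β ^ m)) ^ (p ^ a) = 1; rw [← map_pow, ha, map_one])
    show (γ ^ i) ^ (p ^ a) = 1
    rw [← zpow_natCast, zpow_comm, zpow_natCast, hγ1, one_zpow]
  obtain ⟨T', hT'⟩ := hγp.exists_le_sylow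
  obtain ⟨⟨d, hd⟩, hdT⟩ := MulAction.exists_smul_eq ↥(F.autGroup R') T' Rs
  have hconj : d * MulAut.congr e (β ^ m) * d⁻¹ ∈ autInducedBy S R' := by
    have h3 : (⟨d, hd⟩ * γ * ⟨d, hd⟩⁻¹ : ↥(F.autGroup R')) ∈ (Rs : Subgroup _) := by
      rw [← hdT, Sylow.coe_subgroup_smul]
      exact Subgroup.smul_mem_pointwise_smul _ _ _ (hT' (Subgroup.mem_zpowers γ))
    rw [hRs] at h3
    exact h3
  obtain ⟨s, hs, hse⟩ := mem_autInducedBy.1 hconj
  have hfR : ∀ x ∈ normalizerIn S P, f x ∈ R' := fun x hx => hfi ▸ mem_img_of_mem hx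
  have hh : IsMap F (normalizerIn S P) (autFun d ∘ f) :=
    hf.comp ((mem_autGroup hR'S).1 hd) hfR
  have hhi : img (autFun d ∘ f) (normalizerIn S P) = R' := by
    rw [hf.img_comp, hfi, img_autFun]
  have hrel : ∀ x ∈ P, (autFun d ∘ f) (autFun (α : MulAut P) x) =
      s * (autFun d ∘ f) x * s⁻¹ := by
    intro x hx
    have h1 := hfR x (hPR hx)
    have := hse _ (autFun_mem d h1)
    rw [autFun_mul _ _ (autFun_mem d h1), autFun_mul _ _ (autFun_mem _ (autFun_mem d h1)),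
      ← autFun_mul d⁻¹ d h1, inv_mul_cancel, autFun_one h1, autFun_congr he _ (hPR hx),
      hβ'α x hx] at this
    exact this
  have hP'conj : F.IsConj P (img (autFun d ∘ f) P) := isConj_iff.2 ⟨_, hh.mono hPR, rfl⟩
  have hle : R' ≤ normalizerIn S (img (autFun d ∘ f) P) :=
    hhi.ge.trans (hh.img_normalizerIn_le hPR le_rfl)
  haveI := finite_of_le (normalizerIn_le (S := S) (img (autFun d ∘ f) P))
  have hNe : R' = normalizerIn S (img (autFun d ∘ f) P) := by
    refine Subgroup.eq_of_le_of_card_ge hle ?_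
    rw [hcard']
    exact hP.2 _ hP'conj
  have hsR : s ∈ R' := by
    rw [hNe]
    refine ⟨hs, mem_normalizer_of_conj (fun y hy => ?_) fun y hy => ?_⟩
    · obtain ⟨x, hx, rfl⟩ := (hh.mono hPR).mem_img.1 hy
      rw [← hrel x hx]
      exact mem_img_of_mem (autFun_mem _ hx)
    · obtain ⟨x, hx, rfl⟩ := (hh.mono hPR).mem_img.1 hy
      have := hrel _ (autFun_mem (α : MulAut P)⁻¹ hx)
      rw [autFun_inv_apply _ hx] at this
      rw [this]
      simp only [mul_assoc, inv_mul_cancel_left, inv_mul_cancel, mul_one]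
      exact mem_img_of_mem (autFun_mem _ hx)
  obtain ⟨r, hr, hre⟩ := hh.mem_img.1 (hhi.ge hsR)
  refine hαA (Subgroup.mem_subgroupOf.2 (mem_autInducedBy.2 ⟨r, hr.1, fun x hx => ?_⟩))
  refine hh.inj (hPR (autFun_mem _ hx)) (hPR (conj_mem_of_normalizer hr.2 hx)) ?_
  rw [hrel x hx, hh.map_conj hr (hPR hx), hre]

theorem saturated_iff_weak [Finite S] [Fact p.Prime] (hS : IsPGroup p S) :
    F.IsSaturated p ↔
      F.IsFullyAutomized p S ∧ ∀ P, F.IsFullyNormalized P → F.IsReceptive P := by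
  refine ⟨fun h => ⟨(fullyNormalized_spec hS h fullyNormalized_top).1,
    fun P hP => (fullyNormalized_spec hS h hP).2⟩, fun ⟨hA, hR⟩ P hP => ?_⟩
  obtain ⟨Q, hc, hQ⟩ := exists_fullyNormalized (F := F) hP
  exact ⟨Q, hc, fullyAutomized_of_weak hS hA hR Q hQ, hR Q hQ⟩

theorem saturated_iff_roquette [Finite S] [Fact p.Prime] (hS : IsPGroup p S) :
    F.IsSaturated p ↔
      (∀ P, F.IsFullyNormalized P → F.IsFullyCentralized P ∧ F.IsFullyAutomized p P) ∧
        ∀ P, F.IsFullyCentralized P → F.IsReceptive P := by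
  refine ⟨fun h => ⟨fun P hP => ⟨fullyCentralized_of_fullyNormalized hS h hP,
    (fullyNormalized_spec hS h hP).1⟩, fun P hP => receptive_of_fullyCentralized hS h hP⟩,
    fun ⟨h1, h2⟩ P hP => ?_⟩
  obtain ⟨Q, hc, hQ⟩ := exists_fullyNormalized (F := F) hP
  exact ⟨Q, hc, (h1 Q hQ).2, h2 Q (h1 Q hQ).1⟩

end CfsgLib.Fus
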