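import Cfsg.Prelude.Def_CaseTheorems
import Cfsg.Prelude.Def_OddOrderLocal
import Cfsg.Agent.Solv.UniqueSub
import Cfsg.Agent.Solv.FittingBasic
import Mathlib.GroupTheory.Frattini
import Mathlib.GroupTheory.SpecificGroups.Dihedral

/-!
Metacyclic `2`-groups with a subgroup carrying an automorphism of odd order that an outside element does not centralize
modulo Frattini: dihedral, semidihedral or quaternion.
-/

set_option autoImplicit false
set_option linter.style.haveILetI false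

open Cfsg
open scoped commutatorElement

namespace CfsgLib.Fus.MetaTwo

variable {G : Type*} [Group G]

/-- An automorphism trivial modulo Frattini of a finite `p`-group has `p`-power order. -/
theorem ppow_of_trivial_mod_frattini [Finite G] {p : ℕ} [hp : Fact p.Prime] (hG : IsPGroup p G) (γ : MulAut G)
    (h : ∀ x : G, x⁻¹ * γ x ∈ frattini G) : ∃ k : ℕ, γ ^ p ^ k = 1 := by
  haveI : Finite (MulAut G) := inferInstanceAs (Finite (G ≃* G))
  have hord : 0 < orderOf γ := orderOf_pos γ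
  by_contra hne
  push Not at hne
  obtain ⟨q, hq, hqd, hqp⟩ : ∃ q, q.Prime ∧ q ∣ orderOf γ ∧ q ≠ p := by
    by_contra hall
    push Not at hall
    refine hne (orderOf γ).primeFactorsList.length ?_
    have hpow := Nat.eq_prime_pow_of_unique_prime_dvd hord.ne' (p := p) fun {d} hd hdd => hall d hd hdd
    exact orderOf_dvd_iff_pow_eq_one.1 (dvd_of_eq hpow)
  haveI : Fact q.Prime := ⟨hq⟩
  obtain ⟨d, hd⟩ := hqd
  set δ := γ ^ d with hδ
  have hδq : orderOf δ = q := by
    rw [hδ, orderOf_pow, hd, Nat.gcd_mul_left_left, Nat.mul_div_cancel q (Nat.pos_of_ne_zero fun h0 => by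
      rw [h0, Nat.mul_zero] at hd; omega)]
  have hΦ : ∀ (β : MulAut G) (x : G), x ∈ frattini G → β x ∈ frattini G := fun β x hx =>
    (Subgroup.characteristic_iff_map_eq.1 inferInstance β).le ⟨x, hx, rfl⟩
  have htriv : ∀ (k : ℕ) (x : G), x⁻¹ * (γ ^ k) x ∈ frattini G := by
    intro k
    induction k with
    | zero => intro x; rw [pow_zero, MulAut.one_apply, inv_mul_cancel]; exact one_mem _
    | succ k ih =>
      intro x
      have h1 := mul_mem (ih x) (h ((γ ^ k) x))
      rw [pow_succ', MulAut.mul_apply]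
      simpa [mul_assoc] using h1
  have hfix : ∀ x : G, δ x = x := by
    let C : Subgroup G := δ.toMonoidHom.eqLocus (MonoidHom.id G)
    suffices hC : C = ⊤ from fun x => (hC.ge (Subgroup.mem_top x) : x ∈ C)
    refine frattini_nongenerating (eq_top_iff.2 fun x _ => ?_)
    let A : Subgroup (MulAut G) := Subgroup.zpowers δ
    have hA : ∀ β ∈ A, ∀ y, x⁻¹ * y ∈ frattini G → x⁻¹ * β y ∈ frattini G := by
      intro β hβ y hy
      obtain ⟨k, rfl⟩ := (mem_powers_iff_mem_zpowers (x := δ) (y := β)).2 hβ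
      have h1 := mul_mem hy (htriv (d * k) y)
      rw [pow_mul, ← hδ] at h1
      simpa [mul_assoc] using h1
    letI : MulAction ↥A {y : G // x⁻¹ * y ∈ frattini G} :=
      { smul := fun β y => ⟨(β : MulAut G) y.1, hA β β.2 y.1 y.2⟩
        one_smul := fun y => rfl
        mul_smul := fun _ _ y => rfl }
    have hAq : IsPGroup q ↥A := IsPGroup.of_card (n := 1) (by rw [Nat.card_zpowers, hδq, pow_one])
    let e : {y : G // x⁻¹ * y ∈ frattini G} ≃ ↥(frattini G) :=
      { toFun := fun y => ⟨x⁻¹ * y.1, y.2⟩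
        invFun := fun z => ⟨x * z, by rw [inv_mul_cancel_left]; exact z.2⟩
        left_inv := fun y => Subtype.ext (mul_inv_cancel_left _ _)
        right_inv := fun z => Subtype.ext (inv_mul_cancel_left _ _) }
    have hcard : ¬ q ∣ Nat.card {y : G // x⁻¹ * y ∈ frattini G} := by
      obtain ⟨n, hn⟩ := IsPGroup.iff_card.1 (hG.to_subgroup (frattini G))
      rw [Nat.card_congr e, hn]
      exact fun hh => hqp ((Nat.prime_dvd_prime_iff_eq hq hp.out).1 (hq.dvd_of_dvd_pow hh))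
    obtain ⟨⟨y, hy⟩, hyfix⟩ := hAq.nonempty_fixed_point_of_prime_not_dvd_card _ hcard
    have hyC : y ∈ C := congrArg Subtype.val (hyfix ⟨δ, Subgroup.mem_zpowers δ⟩)
    have := mul_mem (Subgroup.mem_sup_left (T := frattini G) hyC) (Subgroup.mem_sup_right (S := C) (inv_mem hy))
    simpa using this
  have : δ = 1 := MulEquiv.ext fun x => (hfix x).trans (MulAut.one_apply G x).symm
  rw [this, orderOf_one] at hδq
  exact hq.ne_one hδq.symm

theorem sq_eq_one_eq {C : Type*} [Group C] [Finite C] [IsCyclic C] {u t : C} (hu : u * u = 1) (ht : t * t = 1)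
    (hu1 : u ≠ 1) (ht1 : t ≠ 1) : u = t := by
  classical
  haveI := Fintype.ofFinite C
  by_contra hne
  have hle := IsCyclic.card_pow_eq_one_le (α := C) (n := 2) (by norm_num)
  have h3 : ({1, u, t} : Finset C) ⊆ Finset.univ.filter (fun a : C => a ^ 2 = 1) := fun x hx => by
    simp only [Finset.mem_insert, Finset.mem_singleton] at hx
    rcases hx with rfl | rfl | rfl <;> simp [pow_two, hu, ht]
  have := Finset.card_le_card h3
  simp [Finset.card_insert_of_notMem, Ne.symm hu1, Ne.symm ht1, hne] at this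
  omega

theorem two_group_odd_pow [Finite G] (hG : IsPGroup 2 G) {x : G} {j : ℤ} (hj : Odd j) (h : x ^ j = 1) :
    x = 1 := by
  obtain ⟨k, hk⟩ := hG x
  refine orderOf_eq_one_iff.1 (Nat.eq_one_of_dvd_coprimes (a := j.natAbs) (b := 2 ^ k) ?_ ?_
    (orderOf_dvd_of_pow_eq_one hk))
  · exact Nat.Coprime.pow_right k (Nat.coprime_two_right.2 (Int.natAbs_odd.2 hj))
  · exact Int.natCast_dvd.1 (orderOf_dvd_iff_zpow_eq_one.2 h)

/-- Conjugation on a cyclic normal subgroup. -/
theorem exists_exponent {a : G} (hn : (Subgroup.zpowers a).Normal) (u : G) :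
    ∃ m : ℤ, ∀ x ∈ Subgroup.zpowers a, u * x * u⁻¹ = x ^ m := by
  obtain ⟨m, hm⟩ := Subgroup.mem_zpowers_iff.1 (hn.conj_mem a (Subgroup.mem_zpowers a) u)
  refine ⟨m, fun x hx => ?_⟩
  obtain ⟨i, rfl⟩ := Subgroup.mem_zpowers_iff.1 hx
  rw [← conj_zpow, ← hm, ← zpow_mul, ← zpow_mul, mul_comm]

/-- The core: an outside element not centralizing `A` modulo Frattini. -/
theorem pattern_of_moved [Finite G] (hG : IsPGroup 2 G) (hm : IsMetacyclic G) (A : Subgroup G) {g : G}
    (hgA : g ∉ A) (hgn : g ∈ Subgroup.normalizer (A : Set G)) (hgg : g * g ∈ A)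
    (hmove : ∃ x : ↥A, x⁻¹ * (A.normalizerMonoidHom ⟨g, hgn⟩) x ∉ frattini ↥A)
    (α : MulAut ↥A) (hodd : Odd (orderOf α)) (hα : ∃ x : ↥A, x⁻¹ * α x ∉ frattini ↥A) :
    ∃ (a v : G) (m : ℤ) (_ : (Subgroup.zpowers a).Normal), IsCyclic (G ⧸ Subgroup.zpowers a) ∧
      4 ∣ orderOf a ∧ v * a * v⁻¹ = a ^ m ∧ (∃ t : ℤ, Odd t ∧ m = 1 - 2 * t) ∧ v * v ∈ Subgroup.zpowers a := by
  classical
  haveI : Fact (Nat.Prime 2) := ⟨Nat.prime_two⟩
  obtain ⟨N, hN, hNc, hQc⟩ := hm
  haveI := hN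
  obtain ⟨⟨a, haN⟩, ha⟩ := hNc.exists_generator
  have hNa : N = Subgroup.zpowers a := le_antisymm (fun x hx => by
    obtain ⟨k, hk⟩ := Subgroup.mem_zpowers_iff.1 (ha ⟨x, hx⟩)
    exact ⟨k, congrArg Subtype.val hk⟩) (Subgroup.zpowers_le.2 haN)
  subst hNa
  let π := QuotientGroup.mk' (Subgroup.zpowers a)
  have hπ : ∀ x : G, π x = 1 ↔ x ∈ Subgroup.zpowers a := fun x => QuotientGroup.eq_one_iff x
  -- generators of `A`
  have hN0c : IsCyclic ↥((Subgroup.zpowers a).subgroupOf A) :=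
    isCyclic_of_injective ((A.subtype.subgroupComap (Subgroup.zpowers a)))
      fun x y h => Subtype.ext (Subtype.ext (congrArg Subtype.val h :))
  obtain ⟨⟨r, hrN⟩, hr⟩ := hN0c.exists_generator
  have hrgen : ∀ x : ↥A, (x : G) ∈ Subgroup.zpowers a → ∃ i : ℤ, r ^ i = x := fun x hx => by
    obtain ⟨k, hk⟩ := Subgroup.mem_zpowers_iff.1 (hr ⟨x, hx⟩)
    exact ⟨k, congrArg Subtype.val hk⟩
  replace hrN : (r : G) ∈ Subgroup.zpowers a := hrN
  haveI hAπc : IsCyclic ↥(A.map π) := inferInstance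
  obtain ⟨⟨_, w, hwA, rfl⟩, hw⟩ := hAπc.exists_generator
  have hwgen : ∀ x : ↥A, ∃ j : ℤ, π (x : G) = π w ^ j := fun x => by
    obtain ⟨k, hk⟩ := Subgroup.mem_zpowers_iff.1 (hw ⟨π (x : G), x, x.2, rfl⟩)
    exact ⟨k, (congrArg Subtype.val hk).symm⟩
  set w' : ↥A := ⟨w, hwA⟩ with hw'
  have hgen : ∀ x : ↥A, ∀ j : ℤ, π (x : G) = π w ^ j → ∃ i : ℤ, x = r ^ i * w' ^ j := fun x j hj => by
    obtain ⟨i, hi⟩ := hrgen (x * (w' ^ j)⁻¹) ((hπ _).1 (by
      rw [Subgroup.coe_mul, Subgroup.coe_inv, Subgroup.coe_zpow, map_mul, map_inv, map_zpow, hj, mul_inv_cancel]))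
    exact ⟨i, by rw [hi, inv_mul_cancel_right]⟩
  -- modulo Frattini
  set Φ := frattini ↥A with hΦdef
  have hA : IsPGroup 2 ↥A := hG.to_subgroup A
  let κ := QuotientGroup.mk' Φ
  have hκ : ∀ x : ↥A, κ x = 1 ↔ x ∈ Φ := fun x => QuotientGroup.eq_one_iff x
  have hsq : ∀ x : ↥A, κ x * κ x = 1 := fun x => by
    rw [← map_mul, hκ, ← pow_two]; exact CfsgLib.Solv.pow_mem_frattini hA x
  have hcm : ∀ x y : ↥A, κ x * κ y = κ y * κ x := fun x y => by
    rw [← commutatorElement_eq_one_iff_mul_comm, ← map_commutatorElement, hκ]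
    exact CfsgLib.Solv.commutator_le_frattini hA
      (Subgroup.commutator_mem_commutator (Subgroup.mem_top _) (Subgroup.mem_top _))
  have hpar : ∀ (x : ↥A) (i : ℤ), κ (x ^ i) = if Even i then 1 else κ x := fun x i => by
    rw [map_zpow]
    split_ifs with h
    · obtain ⟨k, rfl⟩ := h
      rw [← two_mul, zpow_mul, zpow_two, hsq, one_zpow]
    · obtain ⟨k, rfl⟩ := Int.not_even_iff_odd.1 h
      rw [zpow_add, zpow_mul, zpow_two, hsq, one_zpow, one_mul, zpow_one]
  have hfour : ∀ x : ↥A, κ x = 1 ∨ κ x = κ r ∨ κ x = κ w' ∨ κ x = κ r * κ w' := fun x => by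
    obtain ⟨j, hj⟩ := hwgen x
    obtain ⟨i, rfl⟩ := hgen x j hj
    rw [map_mul, hpar, hpar]
    split_ifs <;> simp
  have hβ : ∀ (β : MulAut ↥A) (x y : ↥A), κ x = κ y → κ (β x) = κ (β y) := fun β x y hxy => by
    have h1 : x⁻¹ * y ∈ Φ := (hκ _).1 (by rw [map_mul, map_inv, hxy, inv_mul_cancel])
    have h2 := (Subgroup.characteristic_iff_map_eq.1 (inferInstance : Φ.Characteristic) β).le ⟨_, h1, rfl⟩
    have h3 := (hκ _).2 h2
    rw [MulEquiv.coe_toMonoidHom, map_mul, map_inv, map_mul, map_inv, inv_mul_eq_one] at h3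
    exact h3
  have htriv : ∀ (β : MulAut ↥A), κ (β r) = κ r → κ (β w') = κ w' → ∀ x, x⁻¹ * β x ∈ Φ := fun β h1 h2 x => by
    rw [← hκ, map_mul, map_inv, inv_mul_eq_one]
    rcases hfour x with h | h | h | h
    · rw [h, hβ β x 1 (h.trans (map_one κ).symm), map_one β, map_one κ]
    · rw [h, hβ β x r h, h1]
    · rw [h, hβ β x w' h, h2]
    · rw [h, hβ β x (r * w') (h.trans (map_mul κ _ _).symm), map_mul β, map_mul κ, h1, h2]
  have hβinj : ∀ (β : MulAut ↥A) (x y : ↥A), κ (β x) = κ (β y) → κ x = κ y := fun β x y h => by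
    simpa using hβ β⁻¹ (β x) (β y) h
  obtain ⟨y, hy⟩ := hα
  have hy1 : κ y ≠ 1 := fun h => hy ((hκ _).1 (by
    rw [map_mul, map_inv, hβ α y 1 (h.trans (map_one κ).symm), map_one α, map_one κ, h, inv_one, one_mul]))
  have hy2 : κ (α y) ≠ κ y := fun h => hy ((hκ _).1 (by rw [map_mul, map_inv, h, inv_mul_cancel]))
  have hy3 : κ (α y) ≠ 1 := fun h => hy1 (by
    have := hβinj α y 1 (by rw [map_one α, map_one κ]; exact h)
    rwa [map_one κ] at this)
  have hr1 : κ r ≠ 1 := fun h => by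
    have h2 : ∀ x : ↥A, κ x = 1 ∨ κ x = κ w' := fun x => by
      rcases hfour x with e | e | e | e
      · exact Or.inl e
      · exact Or.inl (e.trans h)
      · exact Or.inr e
      · exact Or.inr (by rw [e, h, one_mul])
    rcases h2 y with e | e
    · exact hy1 e
    rcases h2 (α y) with e' | e'
    · exact hy3 e'
    · exact hy2 (e'.trans e.symm)
  have hw1 : κ w' ≠ 1 := fun h => by
    have h2 : ∀ x : ↥A, κ x = 1 ∨ κ x = κ r := fun x => by
      rcases hfour x with e | e | e | e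
      · exact Or.inl e
      · exact Or.inr e
      · exact Or.inl (e.trans h)
      · exact Or.inr (by rw [e, h, mul_one])
    rcases h2 y with e | e
    · exact hy1 e
    rcases h2 (α y) with e' | e'
    · exact hy3 e'
    · exact hy2 (e'.trans e.symm)
  have hrw : κ r ≠ κ w' := fun h => by
    have h2 : ∀ x : ↥A, κ x = 1 ∨ κ x = κ r := fun x => by
      rcases hfour x with e | e | e | e
      · exact Or.inl e
      · exact Or.inr e
      · exact Or.inr (e.trans h.symm)
      · exact Or.inl (by rw [e, ← h, hsq])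
    rcases h2 y with e | e
    · exact hy1 e
    rcases h2 (α y) with e' | e'
    · exact hy3 e'
    · exact hy2 (e'.trans e.symm)
  have hπw : π w ≠ 1 := fun h => by
    obtain ⟨i, hi⟩ := hrgen w' ((hπ _).1 h)
    have := congrArg κ hi
    rw [hpar] at this
    split_ifs at this
    · exact hw1 this.symm
    · exact hrw this
  have hαr : κ (α r) ≠ κ r := fun hfix => by
    have hr' : κ (α y) ≠ κ r := fun h => hy2 (h.trans (hβinj α r y (hfix.trans h.symm)))
    have hyr : κ y ≠ κ r := fun h => hy2 ((hβ α y r h).trans (hfix.trans h.symm))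
    have hyy : κ (α (α y)) = κ y := by
      have h1 : κ (α (α y)) ≠ κ (α y) := fun h => hy2 (hβinj α _ _ h)
      have h2 : κ (α (α y)) ≠ 1 := fun h => hy3 (by
        have := hβinj α (α y) 1 (by rw [map_one α, map_one κ]; exact h)
        rwa [map_one κ] at this)
      have h3 : κ (α (α y)) ≠ κ r := fun h => hr' (hβinj α _ _ (h.trans hfix.symm))
      rcases hfour (α (α y)) with e | e | e | e
      · exact absurd e h2
      · exact absurd e h3
      all_goals
        rcases hfour y with e' | e' | e' | e'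
        · exact absurd e' hy1
        · exact absurd e' hyr
        all_goals
          rcases hfour (α y) with e'' | e'' | e'' | e''
          · exact absurd e'' hy3
          · exact absurd e'' hr'
          all_goals
            first
              | exact e.trans e'.symm
              | exact absurd (e''.trans e'.symm) hy2
              | exact absurd (e.trans e''.symm) h1
    have hit : ∀ k : ℕ, κ ((α ^ (2 * k)) y) = κ y := by
      intro k
      induction k with
      | zero => rw [Nat.mul_zero, pow_zero, MulAut.one_apply]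
      | succ k ih =>
        rw [show 2 * (k + 1) = 1 + 1 + 2 * k by ring, pow_add, pow_add, pow_one, MulAut.mul_apply, MulAut.mul_apply,
          hβ α _ (α y) (hβ α _ y ih), hyy]
    obtain ⟨k, hk⟩ := hodd
    have := pow_orderOf_eq_one α
    rw [hk, pow_succ'] at this
    have h5 : κ (α ((α ^ (2 * k)) y)) = κ y := by rw [← MulAut.mul_apply, this, MulAut.one_apply]
    rw [hβ α _ y (hit k)] at h5
    exact hy2 h5
  -- the element `g`
  set cg := A.normalizerMonoidHom ⟨g, hgn⟩ with hcg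
  have hcg' : ∀ x : ↥A, ((cg x : ↥A) : G) = g * x * g⁻¹ := fun x => rfl
  -- conjugation by elements of `A` preserves the class of `r`
  have hexp : ∀ u : ↥A, ∃ m : ℤ, Odd m ∧ ∀ x : ↥A, (x : G) ∈ Subgroup.zpowers a → u * x * u⁻¹ = x ^ m := by
    intro u
    obtain ⟨m, hm⟩ := exists_exponent hN (u : G)
    have hm' : ∀ x : ↥A, (x : G) ∈ Subgroup.zpowers a → u * x * u⁻¹ = x ^ m := fun x hx =>
      Subtype.ext (by simpa using hm x hx)
    refine ⟨m, Int.not_even_iff_odd.1 fun he => hr1 ?_, hm'⟩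
    have h := congrArg κ (hm' r hrN)
    rw [hpar, if_pos he, map_mul, map_mul, map_inv, hcm u, mul_inv_cancel_right] at h
    exact h
  by_cases hπg : π g ∈ A.map π
  swap
  · exfalso
    obtain ⟨j, hj⟩ := hwgen ⟨g * g, hgg⟩
    obtain ⟨mg, hmg⟩ := exists_exponent hN g
    have hcr : κ (cg r) = κ r := by
      have h : cg r = r ^ mg := Subtype.ext (by rw [hcg', Subgroup.coe_zpow]; exact hmg _ hrN)
      rw [h, hpar, if_neg]
      intro he
      have h' : κ (cg r) = 1 := by rw [h, hpar, if_pos he]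
      exact hr1 (by
        have := hβinj cg r 1 (by rw [map_one cg, map_one κ]; exact h')
        rwa [map_one κ] at this)
    have hjodd : Odd j := by
      rw [← Int.not_even_iff_odd]
      rintro ⟨l, rfl⟩
      haveI : IsCyclic (G ⧸ Subgroup.zpowers a) := hQc
      letI := hQc.commGroup
      have hu : (π g * (π w ^ l)⁻¹) * (π g * (π w ^ l)⁻¹) = 1 := by
        rw [mul_mul_mul_comm, ← mul_inv, ← map_mul, ← zpow_add]
        show π (g * g) * _ = 1
        rw [show π (g * g) = π w ^ (l + l) from hj, mul_inv_cancel]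
      obtain ⟨k, hk⟩ : ∃ k, orderOf (π w) = 2 ^ k := by
        obtain ⟨k, hk⟩ := hG.to_quotient (Subgroup.zpowers a) (π w)
        obtain ⟨i, -, hi⟩ := (Nat.dvd_prime_pow Nat.prime_two).1 (orderOf_dvd_of_pow_eq_one hk)
        exact ⟨i, hi⟩
      obtain ⟨k', rfl⟩ : ∃ k', k = k' + 1 := Nat.exists_eq_succ_of_ne_zero fun h => hπw (by
        rw [← orderOf_eq_one_iff, hk, h, pow_zero])
      have ht : π w ^ 2 ^ k' * π w ^ 2 ^ k' = 1 := by
        rw [← pow_add, ← two_mul, ← pow_succ', ← hk, pow_orderOf_eq_one]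
      have ht1 : π w ^ 2 ^ k' ≠ 1 := fun h => by
        have := orderOf_dvd_of_pow_eq_one h
        rw [hk, Nat.pow_dvd_pow_iff_le_right (by norm_num)] at this
        omega
      by_cases hu1 : π g * (π w ^ l)⁻¹ = 1
      · rw [mul_inv_eq_one] at hu1
        exact hπg ⟨w ^ l, A.zpow_mem hwA l, by rw [map_zpow, hu1]⟩
      · have := sq_eq_one_eq hu ht hu1 ht1
        rw [mul_inv_eq_iff_eq_mul] at this
        exact hπg ⟨w ^ 2 ^ k' * w ^ l, A.mul_mem (A.pow_mem hwA _) (A.zpow_mem hwA l), by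
          rw [map_mul, map_pow, map_zpow, this]⟩
    obtain ⟨i, hi⟩ := hgen _ j hj
    have hfix : cg ⟨g * g, hgg⟩ = ⟨g * g, hgg⟩ := Subtype.ext (by rw [hcg']; group)
    have h1 := congrArg κ hfix
    rw [hi, map_mul cg, map_zpow cg, map_zpow cg, map_mul κ, map_mul κ, hpar, hpar, hpar, hpar,
      if_neg (Int.not_even_iff_odd.2 hjodd), if_neg (Int.not_even_iff_odd.2 hjodd), hcr] at h1
    obtain ⟨x, hx⟩ := hmove
    exact hx (htriv cg hcr (mul_left_cancel h1) x)
  obtain ⟨a0, ha0, ha0g⟩ := hπg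
  set c := a0⁻¹ * g with hc
  have hcN : c ∈ Subgroup.zpowers a := (hπ _).1 (by rw [hc, map_mul, map_inv, ha0g, inv_mul_cancel])
  have hcA : c ∉ A := fun h => hgA (by simpa [hc] using A.mul_mem ha0 h)
  have hcn : c ∈ Subgroup.normalizer (A : Set G) :=
    Subgroup.mul_mem _ (Subgroup.inv_mem _ (Subgroup.le_normalizer ha0)) hgn
  have hccA : c * c ∈ A := by
    rw [show c * c = a0⁻¹ * (g * a0⁻¹ * g⁻¹) * (g * g) by rw [hc]; group]
    exact A.mul_mem (A.mul_mem (A.inv_mem ha0) ((Subgroup.mem_normalizer_iff.1 hgn _).1 (A.inv_mem ha0))) hgg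
  obtain ⟨s, hs⟩ := hrgen ⟨c * c, hccA⟩ (Subgroup.mul_mem _ hcN hcN)
  have hsG : (r : G) ^ s = c * c := by rw [← Subgroup.coe_zpow, hs]
  have hNcomm : ∀ x ∈ Subgroup.zpowers a, ∀ y ∈ Subgroup.zpowers a, x * y = y * x := by
    rintro _ ⟨i, rfl⟩ _ ⟨k, rfl⟩
    exact (zpow_mul_comm a i k)
  have hrne : r ≠ 1 := fun h => hr1 (by rw [h, map_one])
  have hsodd : Odd s := by
    rw [← Int.not_even_iff_odd]
    rintro ⟨l, rfl⟩
    have hu : (c * ((r : G) ^ l)⁻¹) * (c * ((r : G) ^ l)⁻¹) = 1 := by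
      have h1 := hNcomm _ hcN _ (Subgroup.zpow_mem _ hrN l)
      rw [show c * ((r : G) ^ l)⁻¹ = ((r : G) ^ l)⁻¹ * c from (Commute.inv_right h1).eq]
      nth_rewrite 2 [show ((r : G) ^ l)⁻¹ * c = c * ((r : G) ^ l)⁻¹ from (Commute.inv_right h1).eq.symm]
      rw [mul_assoc ((r : G) ^ l)⁻¹, ← mul_assoc c, ← hsG, zpow_add]
      group
    obtain ⟨k, hk⟩ : ∃ k, orderOf (r : G) = 2 ^ (k + 1) := by
      obtain ⟨k, hk⟩ := hG (r : G)
      obtain ⟨i, -, hi⟩ := (Nat.dvd_prime_pow Nat.prime_two).1 (orderOf_dvd_of_pow_eq_one hk)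
      rcases i with _ | i
      · rw [pow_zero, orderOf_eq_one_iff] at hi
        exact absurd (Subtype.ext hi) hrne
      · exact ⟨i, hi⟩
    have ht : (r : G) ^ 2 ^ k * (r : G) ^ 2 ^ k = 1 := by
      rw [← pow_add, ← two_mul, ← pow_succ', ← hk, pow_orderOf_eq_one]
    have ht1 : (r : G) ^ 2 ^ k ≠ 1 := fun h => by
      have := orderOf_dvd_of_pow_eq_one h
      rw [hk, Nat.pow_dvd_pow_iff_le_right (by norm_num)] at this
      omega
    by_cases hu1 : c * ((r : G) ^ l)⁻¹ = 1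
    · rw [mul_inv_eq_one] at hu1
      exact hcA (hu1 ▸ A.zpow_mem r.2 l)
    · have hzN : ∀ x, x ∈ Subgroup.zpowers a → x * x = 1 → x ≠ 1 → x = (r : G) ^ 2 ^ k := fun x hx h1 h2 =>
        congrArg Subtype.val (sq_eq_one_eq (u := (⟨x, hx⟩ : ↥(Subgroup.zpowers a)))
          (t := ⟨(r : G) ^ 2 ^ k, Subgroup.pow_mem _ hrN _⟩) (Subtype.ext h1) (Subtype.ext ht)
          (fun h => h2 (congrArg Subtype.val h)) fun h => ht1 (congrArg Subtype.val h))
      have := hzN _ (Subgroup.mul_mem _ hcN (Subgroup.inv_mem _ (Subgroup.zpow_mem _ hrN l))) hu hu1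
      rw [mul_inv_eq_iff_eq_mul] at this
      exact hcA (this ▸ A.mul_mem (A.pow_mem r.2 _) (A.zpow_mem r.2 l))
  -- `w` inverts modulo four
  obtain ⟨m, hm⟩ := exists_exponent hN w
  have hwc := hm c hcN
  have hmodd : Odd m := by
    rw [← Int.not_even_iff_odd]
    rintro ⟨l, rfl⟩
    refine hcA ?_
    have h1 : c ^ (l + l) ∈ A := by
      rw [← two_mul, zpow_mul, zpow_two]
      exact A.zpow_mem hccA l
    have : c = w⁻¹ * (c ^ (l + l)) * w := by rw [← hwc]; group
    rw [this]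
    exact A.mul_mem (A.mul_mem (A.inv_mem hwA) h1) hwA
  obtain ⟨b, hb⟩ := hmodd
  set t := -b with ht'
  have hmt : m = 1 - 2 * t := by omega
  have htodd : Odd t := by
    rw [← Int.not_even_iff_odd]
    intro hte
    set cc := A.normalizerMonoidHom ⟨c, hcn⟩ with hcc
    have hcc' : ∀ x : ↥A, ((cc x : ↥A) : G) = c * x * c⁻¹ := fun x => rfl
    have hccr : cc r = r := Subtype.ext (by rw [hcc', hNcomm _ hcN _ hrN, mul_inv_cancel_right])
    have hccw : cc w' = r ^ (s * t) * w' := by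
      refine Subtype.ext ?_
      rw [hcc', Subgroup.coe_mul, Subgroup.coe_zpow, zpow_mul, hsG]
      show c * w * c⁻¹ = (c * c) ^ t * w
      have e1 : w * c⁻¹ = c ^ (-m) * w := by
        have : w * c⁻¹ * w⁻¹ = c ^ (-m) := by rw [← conj_inv, hwc, zpow_neg]
        rw [← this, inv_mul_cancel_right]
      rw [mul_assoc, e1, ← mul_assoc, ← zpow_two, ← zpow_mul, ← zpow_one_add, hmt]
      congr 2; ring
    have h1 : κ (cc w') = κ w' := by rw [hccw, map_mul, hpar, if_pos (hte.mul_left s), one_mul]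
    obtain ⟨x, hx⟩ := hmove
    refine hx ?_
    have h2 := htriv cc (by rw [hccr]) h1 x
    have e : (A.normalizerMonoidHom ⟨g, hgn⟩) x = (⟨a0, ha0⟩ : ↥A) * cc x * (⟨a0, ha0⟩ : ↥A)⁻¹ := Subtype.ext (by
      show g * (x : G) * g⁻¹ = a0 * (c * x * c⁻¹) * a0⁻¹
      rw [hc]; group)
    rw [← hκ, map_mul, map_inv, e, map_mul, map_mul, map_inv, hcm ⟨a0, ha0⟩,
      mul_inv_cancel_right, ← map_inv, ← map_mul, hκ]
    exact h2
  -- `w ^ 2` lies in the cyclic normal subgroup
  let D : Subgroup ↥A := Subgroup.zpowers (r * r)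
  have hcommD : ∀ x y : ↥A, ⁅x, y⁆ ∈ D := by
    haveI hDn : D.Normal := ⟨fun z hz u => by
      obtain ⟨k, rfl⟩ := Subgroup.mem_zpowers_iff.1 hz
      obtain ⟨mu, -, hmu⟩ := hexp u
      rw [hmu _ (by rw [Subgroup.coe_zpow]; exact Subgroup.zpow_mem _ (Subgroup.mul_mem _ hrN hrN) k)]
      exact Subgroup.zpow_mem _ (Subgroup.zpow_mem _ (Subgroup.mem_zpowers _) k) mu⟩
    let δ := QuotientGroup.mk' D
    have hcr : ∀ u : ↥A, Commute (δ u) (δ r) := fun u => by
      obtain ⟨mu, ⟨d, rfl⟩, hmu⟩ := hexp u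
      have h1 : δ (u * r * u⁻¹) = δ r := by
        have h2 : δ ((r * r) ^ d) = 1 :=
          (QuotientGroup.eq_one_iff _).2 (Subgroup.zpow_mem _ (Subgroup.mem_zpowers _) d)
        rw [hmu r hrN, zpow_add, zpow_mul, zpow_two, zpow_one, map_mul, h2, one_mul]
      rw [map_mul, map_mul, map_inv, mul_inv_eq_iff_eq_mul] at h1
      exact h1
    intro x y
    rw [← (QuotientGroup.eq_one_iff (N := D) _), show ((⁅x, y⁆ : ↥A) : ↥A ⧸ D) = δ ⁅x, y⁆ from rfl,
      map_commutatorElement, commutatorElement_eq_one_iff_commute]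
    obtain ⟨j, hj⟩ := hwgen x
    obtain ⟨i, rfl⟩ := hgen x j hj
    obtain ⟨j', hj'⟩ := hwgen y
    obtain ⟨i', rfl⟩ := hgen y j' hj'
    simp only [map_mul, map_zpow]
    exact Commute.mul_left
      ((Commute.mul_right (Commute.refl _) (hcr w').symm |> fun _ =>
        Commute.mul_right ((Commute.refl (δ r)).zpow_zpow i i') ((hcr w').symm.zpow_zpow i j')))
      (Commute.mul_right ((hcr w').zpow_zpow j i') ((Commute.refl (δ w')).zpow_zpow j j'))
  have hwr : ⁅w', r⁆ = r ^ (-(2 * t)) := by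
    refine Subtype.ext ?_
    show w * (r : G) * w⁻¹ * (r : G)⁻¹ = ((r ^ (-(2 * t)) : ↥A) : G)
    rw [hm _ hrN, Subgroup.coe_zpow, hmt, show (1 : ℤ) - 2 * t = -(2 * t) + 1 by ring, zpow_add, zpow_one,
      mul_inv_cancel_right]
  have hαD : α (r ^ (-(2 * t))) ∈ D := by rw [← hwr, map_commutatorElement]; exact hcommD _ _
  obtain ⟨k, hk⟩ := Subgroup.mem_zpowers_iff.1 hαD
  have h1 : π ((α r : ↥A) : G) ^ (-(2 * t)) = 1 := by
    rw [← map_zpow, ← Subgroup.coe_zpow, ← map_zpow α, ← hk, hπ, Subgroup.coe_zpow]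
    exact Subgroup.zpow_mem _ (Subgroup.mul_mem _ hrN hrN) k
  obtain ⟨j, hj⟩ := hwgen (α r)
  obtain ⟨i, hi⟩ := hgen (α r) j hj
  have hjodd : Odd j := by
    rw [← Int.not_even_iff_odd]
    intro hje
    have h2 := congrArg κ hi
    rw [map_mul, hpar, hpar, if_pos hje, mul_one] at h2
    split_ifs at h2
    · exact hr1 (by
        have := hβinj α r 1 (by rw [map_one α, map_one κ]; exact h2)
        rwa [map_one κ] at this)
    · exact hαr h2
  rw [hj, ← zpow_mul, show j * -(2 * t) = 2 * (-(j * t)) by ring, zpow_mul, zpow_two] at h1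
  have hww : π w * π w = 1 := two_group_odd_pow (hG.to_quotient _) (hjodd.mul htodd).neg h1
  refine ⟨a, w, m, hN, hQc, ?_, hm a (Subgroup.mem_zpowers a), ⟨t, htodd, hmt⟩, (hπ _).1 (by rw [map_mul, hww])⟩
  · obtain ⟨k, hk⟩ := hG c
    obtain ⟨e, -, he⟩ := (Nat.dvd_prime_pow Nat.prime_two).1 (orderOf_dvd_of_pow_eq_one hk)
    refine dvd_trans ?_ (orderOf_dvd_of_mem_zpowers hcN)
    rw [he, show (4 : ℕ) = 2 ^ 2 by norm_num]
    refine pow_dvd_pow 2 ?_
    by_contra hlt
    have h2 : c * c = 1 := by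
      rw [← pow_two]
      refine orderOf_dvd_iff_pow_eq_one.1 ?_
      rw [he]
      calc 2 ^ e ∣ 2 ^ 1 := pow_dvd_pow 2 (by omega)
        _ = 2 := pow_one 2
    rw [h2] at hsG
    exact hrne (Subtype.ext (two_group_odd_pow hG hsodd hsG))

/-- Groups with the pattern are dihedral, semidihedral or quaternion. -/
theorem shape_of_pattern [Finite G] (hG : IsPGroup 2 G) {a v : G} {m : ℤ} (hn : (Subgroup.zpowers a).Normal)
    (hc : IsCyclic (G ⧸ Subgroup.zpowers a)) (h4 : 4 ∣ orderOf a) (hva : v * a * v⁻¹ = a ^ m)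
    {t : ℤ} (ht : Odd t) (hmt : m = 1 - 2 * t) (hvv : v * v ∈ Subgroup.zpowers a) :
    (∃ k : ℕ, Nonempty (G ≃* DihedralGroup k)) ∨ (∃ k : ℕ, Nonempty (G ≃* QuaternionGroup k)) ∨
      Cfsg.IsQuasiDihedral G := by
  classical
  haveI : Fact (Nat.Prime 2) := ⟨Nat.prime_two⟩
  obtain ⟨b, hb⟩ := hG a
  obtain ⟨e, -, he⟩ := (Nat.dvd_prime_pow Nat.prime_two).1 (orderOf_dvd_of_pow_eq_one hb)
  obtain ⟨e, rfl⟩ : ∃ e', e = e' + 2 := ⟨e - 2, by
    have : 2 ^ 2 ∣ 2 ^ e := by rw [← he]; exact h4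
    rw [Nat.pow_dvd_pow_iff_le_right (by norm_num)] at this
    omega⟩
  have hconj : ∀ (x : G) (k : ℤ), v * x * v⁻¹ = x ^ m → v * x ^ k * v⁻¹ = (x ^ k) ^ m := fun x k h => by
    rw [← conj_zpow, h, ← zpow_mul, ← zpow_mul, mul_comm]
  have hz : ∀ n : ℤ, a ^ n = 1 ↔ (2 : ℤ) ^ (e + 2) ∣ n := fun n => by
    rw [← orderOf_dvd_iff_zpow_eq_one, he]; push_cast; rfl
  have hm2 : (2 : ℤ) ^ (e + 2) ∣ m * m - 1 := by
    obtain ⟨i, hi⟩ := Subgroup.mem_zpowers_iff.1 hvv
    rw [← hz, zpow_sub, zpow_one, mul_inv_eq_one]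
    calc a ^ (m * m) = (a ^ m) ^ m := by rw [zpow_mul]
      _ = v * (v * a * v⁻¹) * v⁻¹ := by rw [hva, hconj a m hva]
      _ = (v * v) * a * (v * v)⁻¹ := by group
      _ = a := by rw [← hi, ← zpow_add_one, ← zpow_neg, ← zpow_add]; simp
  have hhalf : (2 : ℤ) ^ e ∣ t - 1 := by
    rw [hmt] at hm2
    have h1 : (2 : ℤ) ^ 2 * 2 ^ e ∣ 2 ^ 2 * (t * (t - 1)) := by
      rw [← pow_add, Nat.add_comm]
      rwa [show (2 : ℤ) ^ 2 * (t * (t - 1)) = (1 - 2 * t) * (1 - 2 * t) - 1 by ring]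
    rw [Int.mul_dvd_mul_iff_left (by norm_num)] at h1
    obtain ⟨t', ht'⟩ := ht
    have hcop : IsCoprime ((2 : ℤ) ^ e) t := IsCoprime.pow_left ⟨-t', 1, by rw [ht']; ring⟩
    exact hcop.dvd_of_dvd_mul_left h1
  obtain ⟨s, hs⟩ := hhalf
  have hvN : v ∉ Subgroup.zpowers a := fun h => by
    obtain ⟨i, hi⟩ := Subgroup.mem_zpowers_iff.1 h
    have h1 : a ^ m = a := by rw [← hva, ← hi, ← zpow_add_one, ← zpow_neg, ← zpow_add]; simp
    have h2 : a ^ (m - 1) = 1 := by rw [zpow_sub, zpow_one, h1, mul_inv_cancel]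
    rw [hz, hmt, show (1 : ℤ) - 2 * t - 1 = 2 * (-t) by ring, show (2 : ℤ) ^ (e + 2) = 2 * (2 * 2 ^ e) by ring,
      Int.mul_dvd_mul_iff_left (by norm_num), dvd_neg] at h2
    exact (Int.not_even_iff_odd.2 ht) (even_iff_two_dvd.2 (dvd_trans ⟨_, rfl⟩ h2))
  -- index two
  have hall : ∀ x : G, x ∈ Subgroup.zpowers a ∨ v⁻¹ * x ∈ Subgroup.zpowers a := by
    haveI := hn
    obtain ⟨u', hu'⟩ := hc.exists_generator
    obtain ⟨u, rfl⟩ := QuotientGroup.mk'_surjective (Subgroup.zpowers a) u'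
    let π := QuotientGroup.mk' (Subgroup.zpowers a)
    obtain ⟨j, hj⟩ := Subgroup.mem_zpowers_iff.1 (hu' (π v))
    have hπ : ∀ x : G, π x = 1 ↔ x ∈ Subgroup.zpowers a := fun x => QuotientGroup.eq_one_iff x
    have hjodd : Odd j := by
      rw [← Int.not_even_iff_odd]
      rintro ⟨l, rfl⟩
      obtain ⟨n, hn'⟩ := Subgroup.mem_zpowers_iff.1 ((hπ ((u ^ (l + l))⁻¹ * v)).1 (by
        rw [map_mul, map_inv, map_zpow, hj, inv_mul_cancel]))
      obtain ⟨k, hk⟩ := exists_exponent hn u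
      have hkodd : Odd k := by
        rw [← Int.not_even_iff_odd]
        rintro ⟨k', rfl⟩
        have h1 := hk a (Subgroup.mem_zpowers a)
        have h2 : orderOf (a ^ (k' + k')) = orderOf a := by
          rw [← h1]
          exact MulEquiv.orderOf_eq (MulAut.conj u) a
        have h3 : (a ^ (k' + k')) ^ 2 ^ (e + 1) = 1 := by
          rw [← zpow_natCast, ← zpow_mul, hz]
          exact ⟨k', by push_cast; ring⟩
        have h4' := orderOf_dvd_of_pow_eq_one h3
        rw [h2, he, Nat.pow_dvd_pow_iff_le_right (by norm_num)] at h4'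
        omega
      have hpow : ∀ d : ℤ, ∀ x ∈ Subgroup.zpowers a, x ^ 4 = 1 → u ^ (d + d) * x * (u ^ (d + d))⁻¹ = x := by
        intro d x hx hx4
        have hsq : u * (u * x * u⁻¹) * u⁻¹ = x := by
          rw [hk x hx, hk _ (Subgroup.zpow_mem _ hx k), ← zpow_mul]
          obtain ⟨k', rfl⟩ := hkodd
          rw [show (2 * k' + 1) * (2 * k' + 1) = (4 : ℕ) * (k' * k' + k') + 1 by push_cast; ring, zpow_add_one, zpow_mul,
            zpow_natCast, hx4, one_zpow, one_mul]
        have hC : Commute (u ^ (2 : ℤ)) x := by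
          rw [zpow_two, Commute, SemiconjBy, ← mul_inv_eq_iff_eq_mul]
          simpa [mul_assoc] using hsq
        rw [← two_mul, zpow_mul, (hC.zpow_left d).eq, mul_inv_cancel_right]
      set r := a ^ (2 : ℤ) ^ e with hr
      have hr4 : r ^ 4 = 1 := by
        rw [hr, ← zpow_natCast, ← zpow_mul, hz]
        exact ⟨1, by push_cast; ring⟩
      have hrN : r ∈ Subgroup.zpowers a := Subgroup.zpow_mem _ (Subgroup.mem_zpowers a) _
      have h5 : v * r * v⁻¹ = r := by
        rw [show v = u ^ (l + l) * a ^ n by rw [hn', mul_inv_cancel_left],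
          show u ^ (l + l) * a ^ n * r * (u ^ (l + l) * a ^ n)⁻¹ = u ^ (l + l) * (a ^ n * r * (a ^ n)⁻¹) * (u ^ (l + l))⁻¹ by group,
          show a ^ n * r * (a ^ n)⁻¹ = r by rw [hr, zpow_mul_comm, mul_inv_cancel_right]]
        exact hpow l r hrN hr4
      rw [hconj a _ hva, ← hr] at h5
      have h6 : r ^ (m - 1) = 1 := by rw [zpow_sub, zpow_one, h5, mul_inv_cancel]
      rw [hr, ← zpow_mul, hz, hmt, show (2 : ℤ) ^ e * (1 - 2 * t - 1) = 2 ^ e * 2 * -t by ring,
        show (2 : ℤ) ^ (e + 2) = 2 ^ e * 2 * 2 by ring, Int.mul_dvd_mul_iff_left (by positivity), dvd_neg] at h6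
      exact (Int.not_even_iff_odd.2 ht) (even_iff_two_dvd.2 h6)
    have hu2 : π u * π u = 1 := by
      refine two_group_odd_pow (hG.to_quotient _) hjodd ?_
      rw [← zpow_two, ← zpow_mul, mul_comm, zpow_mul, hj, zpow_two, ← map_mul, hπ]
      exact hvv
    have hju : π v = π u := by
      obtain ⟨l, rfl⟩ := hjodd
      rw [← hj, zpow_add, zpow_mul, zpow_two, hu2, one_zpow, one_mul, zpow_one]
    intro x
    obtain ⟨i, hi⟩ := Subgroup.mem_zpowers_iff.1 (hu' (π x))
    rcases Int.even_or_odd i with ⟨l, rfl⟩ | ⟨l, rfl⟩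
    · left
      rw [← hπ, ← hi, ← two_mul, zpow_mul, zpow_two, hu2, one_zpow]
    · right
      rw [← hπ, map_mul, map_inv, hju, ← hi, zpow_add, zpow_mul, zpow_two, hu2, one_zpow, one_mul, zpow_one,
        inv_mul_cancel]
  -- the square of `v`
  obtain ⟨i, hi⟩ := Subgroup.mem_zpowers_iff.1 hvv
  set z := a ^ ((2 : ℤ) ^ (e + 1)) with hzdef
  have hvv' : v * v = 1 ∨ v * v = z := by
    have h1 : (a ^ i) ^ m = a ^ i := by rw [← hconj a i hva, hi]; group
    rw [← zpow_mul, ← mul_inv_eq_one, ← zpow_neg, ← zpow_add, hz, hmt,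
      show i * (1 - 2 * t) + -i = 2 * (-(t * i)) by ring, show (2 : ℤ) ^ (e + 2) = 2 * 2 ^ (e + 1) by ring,
      Int.mul_dvd_mul_iff_left (by norm_num), dvd_neg] at h1
    obtain ⟨t', ht'⟩ := ht
    have hcop : IsCoprime ((2 : ℤ) ^ (e + 1)) t := IsCoprime.pow_left ⟨-t', 1, by rw [ht']; ring⟩
    obtain ⟨l, rfl⟩ := hcop.dvd_of_dvd_mul_left h1
    rcases Int.even_or_odd l with ⟨l', rfl⟩ | ⟨l', rfl⟩
    · left; rw [← hi, hz]; exact ⟨l', by ring⟩
    · right
      rw [← hi, hzdef, ← mul_inv_eq_one, ← zpow_neg, ← zpow_add, hz]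
      exact ⟨l', by ring⟩
  -- the exponent
  have hm' : a ^ m = a⁻¹ ∨ (a ^ m = z * a⁻¹ ∧ 1 ≤ e) := by
    rcases Int.even_or_odd s with ⟨s', rfl⟩ | ⟨s', rfl⟩
    · left
      rw [← mul_inv_eq_one, inv_inv, ← zpow_add_one, hz, hmt]
      exact ⟨-s', by linear_combination (-2 : ℤ) * hs⟩
    · have he1 : 1 ≤ e := by
        by_contra h
        obtain rfl : e = 0 := by omega
        refine (Int.not_even_iff_odd.2 ht) ⟨s' + 1, ?_⟩
        linear_combination hs
      refine Or.inr ⟨?_, he1⟩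
      rw [hzdef, ← zpow_neg_one, ← zpow_add, ← mul_inv_eq_one, ← zpow_neg, ← zpow_add, hz, hmt]
      exact ⟨-(s' + 1), by linear_combination (-2 : ℤ) * hs⟩
  have hzn : z = a ^ 2 ^ (e + 1) := by rw [hzdef, ← zpow_natCast]; push_cast; rfl
  have hord : orderOf a = 2 * 2 ^ (e + 1) := by rw [he]; ring
  rcases hm' with hinv | ⟨hsd, he1⟩
  · rw [hinv] at hva
    rcases hvv' with h | h
    · left
      haveI : NeZero (2 ^ (e + 2)) := ⟨by positivity⟩
      refine ⟨2 ^ (e + 2), ?_⟩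
      let P : ZMod (2 ^ (e + 2)) → G := fun i => a ^ i.val
      have hP : ∀ i j, P (i + j) = P i * P j := fun i j => by
        show a ^ (i + j).val = a ^ i.val * a ^ j.val
        rw [← pow_add, pow_eq_pow_iff_modEq, he, ZMod.val_add]
        exact Nat.mod_modEq _ _
      have hP0 : P 0 = 1 := by simp [P]
      have hPn : ∀ i, P (-i) = (P i)⁻¹ := fun i => eq_inv_of_mul_eq_one_left (by rw [← hP, neg_add_cancel, hP0])
      have hPv : ∀ i, P i * v = v * P (-i) := fun i => by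
        have h1 : v * (P i)⁻¹ * v⁻¹ = P i := by
          show v * (a ^ i.val)⁻¹ * v⁻¹ = a ^ i.val
          rw [← inv_pow, ← conj_pow, ← conj_inv, hva, inv_inv]
        rw [hPn]; nth_rewrite 1 [← h1]; group
      have Pinj : Function.Injective P := fun i j h => by
        have h' : a ^ i.val = a ^ j.val := h
        rw [pow_eq_pow_iff_modEq, he, ← ZMod.natCast_eq_natCast_iff] at h'
        rwa [ZMod.natCast_zmod_val, ZMod.natCast_zmod_val] at h'
      have Pmem : ∀ i, P i ∈ Subgroup.zpowers a := fun i => Subgroup.npow_mem_zpowers a _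
      have Psurj : ∀ x ∈ Subgroup.zpowers a, ∃ i, P i = x := fun x hx => by
        obtain ⟨k, rfl⟩ := (mem_powers_iff_mem_zpowers (x := a)).2 hx
        exact ⟨(k : ZMod (2 ^ (e + 2))), by
          show a ^ (k : ZMod (2 ^ (e + 2))).val = a ^ k
          rw [pow_eq_pow_iff_modEq, he, ZMod.val_natCast]
          exact Nat.mod_modEq _ _⟩
      let f : DihedralGroup (2 ^ (e + 2)) → G := fun q => match q with
        | .r i => P i
        | .sr i => v * P i
      have hmul : ∀ p q, f (p * q) = f p * f q := by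
        rintro (i | i) (j | j)
        · rw [DihedralGroup.r_mul_r]; exact hP i j
        · rw [DihedralGroup.r_mul_sr]
          show v * P (j - i) = P i * (v * P j)
          rw [← mul_assoc, hPv, mul_assoc, ← hP, neg_add_eq_sub]
        · rw [DihedralGroup.sr_mul_r]
          show v * P (i + j) = v * P i * P j
          rw [hP, mul_assoc]
        · rw [DihedralGroup.sr_mul_sr]
          show P (j - i) = v * P i * (v * P j)
          rw [mul_assoc v, ← mul_assoc (P i), hPv, mul_assoc v, ← hP, ← mul_assoc, h, one_mul, neg_add_eq_sub]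
      refine ⟨(MulEquiv.ofBijective (MonoidHom.mk' f hmul) ⟨?_, ?_⟩).symm⟩
      · rintro (i | i) (j | j) h'
        · exact congrArg _ (Pinj h')
        · exact absurd (by
            have h'' : v = P i * (P j)⁻¹ := eq_mul_inv_of_mul_eq h'.symm
            rw [h'']; exact mul_mem (Pmem _) (inv_mem (Pmem _))) hvN
        · exact absurd (by
            have h'' : v = P j * (P i)⁻¹ := eq_mul_inv_of_mul_eq h'
            rw [h'']; exact mul_mem (Pmem _) (inv_mem (Pmem _))) hvN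
        · exact congrArg _ (Pinj (mul_left_cancel h'))
      · intro x
        rcases hall x with hx | hx
        · obtain ⟨i, hi⟩ := Psurj x hx; exact ⟨.r i, hi⟩
        · obtain ⟨i, hi⟩ := Psurj _ hx; exact ⟨.sr i, by show v * P i = x; rw [hi, mul_inv_cancel_left]⟩
    · exact Or.inr (Or.inl ⟨2 ^ (e + 1),
        CfsgLib.Solv.quaternion_of_inverting hord hva (h.trans hzn) hvN hall⟩)
  · right; right
    have hz1 : z * z = 1 := by rw [hzdef, ← zpow_add, hz]; exact ⟨1, by ring⟩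
    have hz2 : v * v = 1 ∨ v * v = z := hvv'
    have hcard : Nat.card G = 2 ^ (e + 2 + 1) := by
      have hidx : (Subgroup.zpowers a).index = 2 := Subgroup.index_eq_two_iff.2 ⟨v, fun b => by
        rcases hall b with hb | hb
        · refine Or.inr ⟨hb, fun h => hvN ?_⟩
          exact (Subgroup.mul_mem_cancel_left _ hb).1 h
        · refine Or.inl ⟨?_, fun h => hvN ?_⟩
          · have h2 := Subgroup.mul_mem _ (hn.conj_mem _ hb v) hvv
            simpa [mul_assoc] using h2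
          · have h2 := Subgroup.mul_mem _ h (Subgroup.inv_mem _ hb)
            simpa using h2⟩
      rw [← (Subgroup.zpowers a).card_mul_index, Nat.card_zpowers, he, hidx]; ring
    obtain ⟨y, hyN, hy2, hya⟩ : ∃ y : G, y ∉ Subgroup.zpowers a ∧ y * y = 1 ∧ y * a * y⁻¹ = a ^ m := by
      rcases hz2 with h | h
      · exact ⟨v, hvN, h, hva⟩
      · refine ⟨a * v, fun h' => hvN ((Subgroup.mul_mem_cancel_left _ (Subgroup.mem_zpowers a)).1 h'), ?_, ?_⟩
        · calc a * v * (a * v) = a * (v * a * v⁻¹) * (v * v) := by group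
            _ = a * (z * a⁻¹) * z := by rw [hva, hsd, h]
            _ = z * z := by rw [hzdef, ← zpow_neg_one, ← zpow_add, ← zpow_one_add, ← zpow_add, ← zpow_add]; congr 1; ring
            _ = 1 := hz1
        · calc a * v * a * (a * v)⁻¹ = a * (v * a * v⁻¹) * a⁻¹ := by group
            _ = a ^ m := by rw [hva, ← zpow_one_add, ← zpow_neg_one, ← zpow_add]; congr 1; ring
    refine ⟨e + 2, by omega, hcard, a, y, he, orderOf_eq_prime (by rw [pow_two, hy2]) fun h1 => hyN (by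
      rw [h1]; exact one_mem _), ?_⟩
    rw [hya, hsd, hzn, show e + 2 - 1 = e + 1 by omega, pow_sub _ Nat.one_le_two_pow, pow_one]

end CfsgLib.Fus.MetaTwo
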