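import Cfsg.Agent.Fus.EssentialSquare
import Cfsg.Agent.Fus.MetacyclicTwoGroup

/-!
Automorphisms stabilising a characteristic chain through the Frattini subgroup of an essential subgroup.
-/

set_option autoImplicit false
set_option linter.style.haveILetI false

open Cfsg Cfsg.FusionSystem

namespace CfsgLib.Fus.EssChain

variable {p : ℕ} [hp : Fact p.Prime]

/-- An automorphism of `p`-power order is trivial on an invariant section of order dividing `p`. -/
theorem factor_trivial {G : Type*} [Group G] [Finite G] {L M : Subgroup G} [L.Normal] {α : MulAut G} {k : ℕ}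
    (hα : α ^ p ^ k = 1) (hL : ∀ x ∈ L, α x ∈ L) (hM : ∀ x ∈ M, α x ∈ M) (hidx : L.relIndex M ∣ p) {x : G}
    (hx : x ∈ M) : x⁻¹ * α x ∈ L := by
  let f := QuotientGroup.mk' L
  let ᾱ : G ⧸ L →* G ⧸ L := QuotientGroup.map L L α.toMonoidHom hL
  have hcard : Nat.card (M.map f) ∣ p := by
    rw [← Subgroup.relIndex_ker, QuotientGroup.ker_mk']; exact hidx
  rw [← QuotientGroup.eq_one_iff]
  show f (x⁻¹ * α x) = 1
  rw [map_mul, map_inv, inv_mul_eq_one]
  by_cases h1 : f x = 1
  · rw [h1]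
    exact (show f (α x) = ᾱ (f x) from rfl).trans (by rw [h1, map_one]) |>.symm
  have hp1 : orderOf (f x) = p := by
    have hd : orderOf (f x) ∣ Nat.card (M.map f) :=
      (orderOf_injective (M.map f).subtype Subtype.val_injective ⟨f x, x, hx, rfl⟩).symm ▸ orderOf_dvd_natCard _
    exact ((Nat.dvd_prime hp.out).1 (hd.trans hcard)).resolve_left fun h => h1 (orderOf_eq_one_iff.1 h)
  have hz : Subgroup.zpowers (f x) = M.map f := Subgroup.eq_of_le_of_card_ge
    (Subgroup.zpowers_le.2 ⟨x, hx, rfl⟩) (by rw [Nat.card_zpowers, hp1]; exact Nat.le_of_dvd hp.out.pos hcard)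
  obtain ⟨r, hr⟩ := (Submonoid.mem_powers_iff _ _).1 (mem_powers_iff_mem_zpowers.2
    (hz.ge (⟨α x, hM x hx, rfl⟩ : f (α x) ∈ M.map f)))
  have hn : ∀ n : ℕ, f ((α ^ n) x) = f x ^ r ^ n := by
    intro n
    induction n with
    | zero => simp
    | succ n ih =>
      rw [pow_succ' α, MulAut.mul_apply, show f (α ((α ^ n) x)) = ᾱ (f ((α ^ n) x)) from rfl, ih, map_pow,
        show ᾱ (f x) = f (α x) from rfl, ← hr, ← pow_mul, ← pow_succ']
  have h2 : f x ^ r ^ p ^ k = f x ^ 1 := by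
    rw [← hn, hα, MulAut.one_apply, pow_one]
  rw [pow_eq_pow_iff_modEq, hp1, ← ZMod.natCast_eq_natCast_iff, Nat.cast_pow, ZMod.pow_card_pow] at h2
  rw [← hr]
  refine (pow_one (f x)).symm.trans (pow_eq_pow_iff_modEq.2 ?_)
  rw [hp1, ← ZMod.natCast_eq_natCast_iff, h2]

/-- Automorphisms trivial on `G/K` and on `K/Φ(G)`. -/
def chainStab {G : Type*} [Group G] (K : Subgroup G) (hK : ∀ α : MulAut G, ∀ x ∈ K, α x ∈ K) :
    Subgroup (MulAut G) where
  carrier := {α | (∀ x, x⁻¹ * α x ∈ K) ∧ ∀ x ∈ K, x⁻¹ * α x ∈ frattini G}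
  one_mem' := ⟨fun x => by simp, fun x _ => by simp⟩
  mul_mem' := by
    rintro a b ⟨a1, a2⟩ ⟨b1, b2⟩
    refine ⟨fun x => ?_, fun x hx => ?_⟩
    · have := K.mul_mem (b1 x) (a1 (b x))
      simpa [mul_assoc] using this
    · have := (frattini G).mul_mem (b2 x hx) (a2 (b x) (hK b x hx))
      simpa [mul_assoc] using this
  inv_mem' := by
    rintro a ⟨a1, a2⟩
    refine ⟨fun x => ?_, fun x hx => ?_⟩
    · have := K.inv_mem (a1 (a⁻¹ x))
      simpa using this
    · have := (frattini G).inv_mem (a2 (a⁻¹ x) (hK a⁻¹ x hx))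
      simpa using this

theorem chainStab_isPGroup {G : Type*} [Group G] [Finite G] (hG : IsPGroup p G) {K : Subgroup G}
    (hK : ∀ α : MulAut G, ∀ x ∈ K, α x ∈ K) : IsPGroup p (chainStab K hK) := by
  intro a
  let f := QuotientGroup.mk' (frattini G)
  have hpow : ∀ n : ℕ, ((a : MulAut G) ^ n) ∈ chainStab K hK := fun n => by
    rw [← SubmonoidClass.coe_pow]; exact (a ^ n).2
  have hn : ∀ (x : G) (n : ℕ), f (((a : MulAut G) ^ n) x) = f x * f (x⁻¹ * (a : MulAut G) x) ^ n := by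
    intro x n
    induction n with
    | zero => simp
    | succ n ih =>
      have hk : f (((a : MulAut G) ^ n) (x⁻¹ * (a : MulAut G) x)) = f (x⁻¹ * (a : MulAut G) x) :=
        ((QuotientGroup.eq).2 ((hpow n).2 _ (a.2.1 x))).symm
      have he : (a : MulAut G) x = x * (x⁻¹ * (a : MulAut G) x) := (mul_inv_cancel_left x _).symm
      rw [pow_succ (a : MulAut G), MulAut.mul_apply]
      conv_lhs => rw [he, map_mul, map_mul, ih, hk]
      rw [pow_succ, mul_assoc]
  obtain ⟨k, hk⟩ := CfsgLib.Fus.MetaTwo.ppow_of_trivial_mod_frattini hG ((a : MulAut G) ^ p) fun x => by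
    rw [← QuotientGroup.eq_one_iff]
    show f (x⁻¹ * _) = 1
    rw [map_mul, map_inv, hn, inv_mul_cancel_left, ← map_pow]
    exact (QuotientGroup.eq_one_iff _).2 (CfsgLib.Solv.pow_mem_frattini hG _)
  exact ⟨k + 1, Subtype.ext (by rw [SubmonoidClass.coe_pow, pow_succ', pow_mul, hk]; rfl)⟩

theorem chainStab_normal {G : Type*} [Group G] {K : Subgroup G}
    (hK : ∀ α : MulAut G, ∀ x ∈ K, α x ∈ K) : (chainStab K hK).Normal := by
  have hΦ : ∀ (β : MulAut G) (x : G), x ∈ frattini G → β x ∈ frattini G := fun β x hx =>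
    (Subgroup.characteristic_iff_map_eq.1 inferInstance β).le ⟨x, hx, rfl⟩
  refine ⟨fun a ha b => ?_⟩
  have key : ∀ x, x⁻¹ * (b * a * b⁻¹) x = b ((b⁻¹ x)⁻¹ * a (b⁻¹ x)) := fun x => by
    rw [MulAut.mul_apply, MulAut.mul_apply, map_mul, map_inv, MulAut.apply_inv_self]
  exact ⟨fun x => by rw [key]; exact hK b _ (ha.1 _),
    fun x hx => by rw [key]; exact hΦ b _ (ha.2 _ (hK b⁻¹ x hx))⟩

universe u

variable {Ω : Type u} [Group Ω] {S : Subgroup Ω} [Finite S] {F : FusionSystem S} {H : Subgroup Ω}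

/-- Chain stabilisers in the automizer of an essential subgroup consist of inner automorphisms. -/
theorem chainStab_le_inn (hS : IsPGroup p S) (hH : F.IsEssential p H) {K : Subgroup H}
    (hK : ∀ α : MulAut H, ∀ x ∈ K, α x ∈ K) {α : MulAut H} (hαA : α ∈ F.autGroup H)
    (hα : α ∈ chainStab K hK) : α ∈ Inn H := by
  haveI := finite_of_le hH.1.1
  haveI := chainStab_normal hK
  haveI : ((chainStab K hK).subgroupOf (F.autGroup H)).Normal := Subgroup.Normal.subgroupOf inferInstance _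
  exact essential_le_inn hH ((chainStab_isPGroup (hS.to_le hH.1.1) hK).comap_of_injective
    (F.autGroup H).subtype Subtype.val_injective) (show (⟨α, hαA⟩ : F.autGroup H) ∈ _ from hα)

/-- An essential subgroup has an induced automorphism of `p`-power order that is not inner. -/
theorem exists_outer_pElement (hS : IsPGroup p S) (hF : F.IsSaturated p) (hH : F.IsEssential p H) :
    ∃ γ ∈ F.autGroup H, γ ∉ Inn H ∧ ∃ k : ℕ, γ ^ p ^ k = 1 := by
  have hHS := hH.1.1
  haveI := finite_of_le hHS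
  obtain ⟨g, hgN, hgH⟩ := SetLike.exists_of_lt (lt_normalizerIn hS (essential_lt hS hF hH))
  obtain ⟨γ, hγ, hγe⟩ := exists_autInducedBy (K := S) hgN.1 hgN.2
  refine ⟨γ, autInducedBy_le_autGroup hHS hγ, ?_, ?_⟩
  · rintro ⟨h, hh⟩
    have hgh : (h : Ω)⁻¹ * g ∈ H := hH.1.2 H (isConj_refl hHS) ⟨S.mul_mem (S.inv_mem (hHS h.2)) hgN.1,
      fun y hy => by
        have h2 := hγe y hy
        rw [← hh, autFun_of_mem _ hy] at h2
        have h3 : (h : Ω) * y * (h : Ω)⁻¹ = g * y * g⁻¹ := h2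
        calc y * ((h : Ω)⁻¹ * g) = (h : Ω)⁻¹ * ((h : Ω) * y * (h : Ω)⁻¹) * g := by group
          _ = (h : Ω)⁻¹ * (g * y * g⁻¹) * g := by rw [h3]
          _ = (h : Ω)⁻¹ * g * y := by group⟩
    exact hgH (by simpa using H.mul_mem h.2 hgh)
  · obtain ⟨k, hk⟩ := isPGroup_autInducedBy (P := H) hS ⟨γ, hγ⟩
    exact ⟨k, congrArg Subtype.val hk⟩

/-- An essential subgroup has no characteristic chain of prime steps down to its Frattini subgroup. -/
theorem no_chain (hS : IsPGroup p S) (hF : F.IsSaturated p) (hH : F.IsEssential p H) (K : Subgroup H)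
    (hK : ∀ α : MulAut H, ∀ x ∈ K, α x ∈ K) (hΦK : frattini H ≤ K) (h1 : K.index ∣ p)
    (h2 : (frattini H).relIndex K ∣ p) : False := by
  haveI := finite_of_le hH.1.1
  haveI : K.Normal := ⟨fun x hx g => hK (MulAut.conj g) x hx⟩
  obtain ⟨γ, hγA, hγI, k, hk⟩ := exists_outer_pElement hS hF hH
  refine hγI (chainStab_le_inn hS hH hK hγA ⟨fun x => ?_, fun x hx => ?_⟩)
  · exact factor_trivial (M := ⊤) hk (fun y hy => hK γ y hy) (fun _ _ => trivial)
      (by rwa [Subgroup.relIndex_top_right]) (Subgroup.mem_top x)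
  · exact factor_trivial hk
      (fun y hy => (Subgroup.characteristic_iff_map_eq.1 inferInstance γ).le ⟨y, hy, rfl⟩)
      (fun y hy => hK γ y hy) h2 hx

end CfsgLib.Fus.EssChain
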