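import Cfsg.Agent.Fus.EssentialChain
import Cfsg.Agent.Fus.PGroupAux
import Cfsg.Agent.Solv.UniqueSub

/-!
Essential subgroups of order `p ^ 3`.
-/

set_option autoImplicit false
set_option linter.style.haveILetI false

open Cfsg Cfsg.FusionSystem
open scoped commutatorElement

namespace CfsgLib.Fus.EssCube

variable {p : ℕ} [hp : Fact p.Prime] {G : Type*} [Group G] [Finite G]

theorem frattini_eq_bot_imp (hG : IsPGroup p G) (h : frattini G = ⊥) :
    (∀ a b : G, a * b = b * a) ∧ ∀ x : G, x ^ p = 1 := by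
  refine ⟨fun a b => commutatorElement_eq_one_iff_mul_comm.1 ?_, fun x => ?_⟩
  · exact Subgroup.mem_bot.1 (h ▸ CfsgLib.Solv.commutator_le_frattini hG (by
      rw [commutator_def]; exact Subgroup.commutator_mem_commutator (Subgroup.mem_top a) (Subgroup.mem_top b)))
  · exact Subgroup.mem_bot.1 (h ▸ CfsgLib.Solv.pow_mem_frattini hG x)

/-- A group of order eight with two elements of order four generating different subgroups. -/
theorem quaternion_or_char (hcard : Nat.card G = 2 ^ 3) (hΦc : Nat.card (frattini G) = 2)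
    (hnab : ¬ ∀ a b : G, a * b = b * a) {a : G} (ha : a ^ 2 ≠ 1) :
    Nonempty (G ≃* QuaternionGroup 2) ∨ ∀ x : G, x ^ 2 ≠ 1 → x ∈ Subgroup.zpowers a := by
  haveI : Fact (Nat.Prime 2) := ⟨Nat.prime_two⟩
  have hG : IsPGroup 2 G := IsPGroup.of_card hcard
  haveI : Fact (Nat.card ↥(frattini G)).Prime := ⟨by rw [hΦc]; exact Nat.prime_two⟩
  have hz : ∀ y ∈ frattini G, y = 1 ∨ y = a ^ 2 := by
    intro y hy
    have hsub : ({1, a ^ 2} : Set G) = (frattini G : Set G) := by
      refine Set.eq_of_subset_of_ncard_le (fun z hz => ?_) (le_of_eq ?_) (Set.toFinite _)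
      · rcases hz with rfl | rfl
        exacts [one_mem _, CfsgLib.Solv.pow_mem_frattini hG a]
      · rw [Set.ncard_pair (Ne.symm ha), ← Nat.card_coe_set_eq]; exact hΦc
    simpa using hsub.ge hy
  have ha4 : a ^ 4 = 1 := by
    have h := pow_card_eq_one' (x := (⟨a ^ 2, CfsgLib.Solv.pow_mem_frattini hG a⟩ : frattini G))
    rw [hΦc] at h
    simpa [← pow_mul] using congrArg Subtype.val h
  have hao : orderOf a = 4 := orderOf_eq_prime_pow (n := 1) (by simpa using ha) (by simpa using ha4)
  have hA : (Subgroup.zpowers a).index = 2 := by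
    have h := (Subgroup.zpowers a).card_mul_index
    rw [Nat.card_zpowers, hao, hcard] at h
    omega
  by_contra hno
  push Not at hno
  obtain ⟨hno1, u, hu2, hu⟩ := hno
  refine (not_isEmpty_iff.2 (CfsgLib.Solv.quaternion_of_inverting (a := a) (u := u) (m := 2) hao ?_ ?_ hu fun x => ?_)) hno1
  · have hc : ⁅u, a⁆ ∈ frattini G := CfsgLib.Solv.commutator_le_frattini hG (by
      rw [commutator_def]; exact Subgroup.commutator_mem_commutator (Subgroup.mem_top u) (Subgroup.mem_top a))
    rcases hz _ hc with h | h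
    · exfalso
      refine hnab fun x y => ?_
      have hau : a * u = u * a := (commutatorElement_eq_one_iff_mul_comm.1 h).symm
      have hgen : Subgroup.closure ({a, u} : Set G) = ⊤ := by
        have h2 : Subgroup.zpowers a < Subgroup.closure {a, u} := lt_of_le_of_ne
          (Subgroup.zpowers_le.2 (Subgroup.subset_closure (by simp))) fun he =>
            hu (he.ge (Subgroup.subset_closure (by simp)))
        refine Subgroup.index_eq_one.1 ?_
        have h3 := Subgroup.index_strictAnti h2
        have h4 : (Subgroup.closure ({a, u} : Set G)).index ≠ 0 := Subgroup.index_ne_zero_of_finite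
        omega
      letI : CommGroup ↥(Subgroup.closure ({a, u} : Set G)) := Subgroup.closureCommGroupOfComm (by
        rintro _ (rfl | rfl) _ (rfl | rfl) <;> first | rfl | exact hau | exact hau.symm)
      exact congrArg Subtype.val (mul_comm (⟨x, hgen.ge (Subgroup.mem_top x)⟩ : Subgroup.closure ({a, u} : Set G))
        ⟨y, hgen.ge (Subgroup.mem_top y)⟩)
    · have h2 : u * a * u⁻¹ = a ^ 2 * a := by rw [← h, commutatorElement_def]; group
      rw [h2, ← pow_succ]
      exact (inv_eq_of_mul_eq_one_left (by rw [← pow_succ]; exact ha4)).symm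
  · rcases hz _ (CfsgLib.Solv.pow_mem_frattini hG u) with h | h
    · exact absurd h hu2
    · rw [← pow_two]; exact h
  · by_cases hx : x ∈ Subgroup.zpowers a
    · exact Or.inl hx
    · refine Or.inr ((Subgroup.mul_mem_iff_of_index_two hA).2 ?_)
      simp [hx, hu]

/-- Groups of order `p ^ 3` without characteristic chains of prime steps to the Frattini subgroup. -/
theorem cube_cases (hcard : Nat.card G = p ^ 3)
    (hno : ∀ K : Subgroup G, (∀ α : MulAut G, ∀ x ∈ K, α x ∈ K) → frattini G ≤ K → K.index ∣ p →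
      (frattini G).relIndex K ∣ p → False) :
    ((∀ a b : G, a * b = b * a) ∧ ∀ x : G, x ^ p = 1) ∨ (Odd p ∧ IsExtraspecial p G ∧ ∀ x : G, x ^ p = 1) ∨
      (p = 2 ∧ Nonempty (G ≃* QuaternionGroup 2)) := by
  have hG : IsPGroup p G := IsPGroup.of_card hcard
  by_cases hbot : frattini G = ⊥
  · exact Or.inl (frattini_eq_bot_imp hG hbot)
  have hchar : ∀ α : MulAut G, ∀ x ∈ frattini G, α x ∈ frattini G := fun α x hx =>
    (Subgroup.characteristic_iff_map_eq.1 inferInstance α).le ⟨x, hx, rfl⟩
  -- the Frattini subgroup has order `p`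
  obtain ⟨i, hi3, hi⟩ := (Nat.dvd_prime_pow hp.out).1 (hcard ▸ (frattini G).card_subgroup_dvd_card)
  have hmul := (frattini G).card_mul_index
  rw [hi, hcard] at hmul
  have hind : (frattini G).index = p ^ (3 - i) := by
    refine Nat.eq_of_mul_eq_mul_left (pow_pos hp.out.pos i) ?_
    rw [hmul, ← pow_add]; congr 1; omega
  have hi1 : i = 1 := by
    have h0 : i ≠ 0 := fun h0 => hbot (Subgroup.card_eq_one.1 (by rw [hi, h0, pow_zero]))
    by_contra h1
    exact hno _ hchar le_rfl (by rw [hind]; exact (pow_dvd_pow p (by omega : 3 - i ≤ 1)).trans (pow_one p).dvd)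
      (by rw [Subgroup.relIndex_self]; exact one_dvd _)
  subst hi1
  rw [pow_one] at hi
  rw [show 3 - 1 = 2 from rfl] at hind
  have hno' : ∀ K : Subgroup G, (∀ α : MulAut G, ∀ x ∈ K, α x ∈ K) → frattini G ≤ K → K ≠ frattini G → K = ⊤ := by
    intro K hK hle hne
    by_contra htop
    have h1 := Subgroup.relIndex_mul_index hle
    rw [hind, pow_two] at h1
    obtain ⟨ha, hb⟩ | ⟨ha, hb⟩ | ⟨ha, hb⟩ : (frattini G).relIndex K = 1 ∧ True ∨
        K.index = 1 ∧ True ∨ (frattini G).relIndex K = p ∧ K.index = p := by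
      rcases (Nat.dvd_prime_pow hp.out).1 (show (frattini G).relIndex K ∣ p ^ 2 from ⟨K.index, by rw [pow_two, h1]⟩) with
        ⟨j, hj2, hj⟩
      interval_cases j
      · exact Or.inl ⟨by simpa using hj, trivial⟩
      · rw [hj, pow_one] at h1
        exact Or.inr (Or.inr ⟨by simpa using hj, Nat.eq_of_mul_eq_mul_left hp.out.pos h1⟩)
      · rw [hj, pow_two] at h1
        refine Or.inr (Or.inl ⟨?_, trivial⟩)
        exact Nat.eq_of_mul_eq_mul_left (Nat.mul_pos hp.out.pos hp.out.pos) (h1.trans (mul_one _).symm)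
    · exact hne (le_antisymm (Subgroup.relIndex_eq_one.1 ha) hle)
    · exact htop (Subgroup.index_eq_one.1 ha)
    · exact hno K hK hle (by rw [hb]) (by rw [ha])
  have hne_top : frattini G ≠ ⊤ := fun h => by
    rw [h, Subgroup.index_top] at hind
    exact absurd hind.symm (one_lt_pow₀ hp.out.one_lt two_ne_zero).ne'
  have hΦp : ∀ x ∈ frattini G, x ^ p = 1 := fun x hx => by
    have h := pow_card_eq_one' (x := (⟨x, hx⟩ : frattini G))
    rw [hi] at h
    exact congrArg Subtype.val h
  -- the kernel of the `p`-th power map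
  have hexp : (∀ x y : G, (x * y) ^ p = x ^ p * y ^ p) → ∀ x : G, x ^ p = 1 := by
    intro hom
    let f : G →* G := MonoidHom.mk' (fun x => x ^ p) hom
    by_contra hne
    have hK : f.ker = frattini G := by
      by_contra hneq
      have htop := hno' f.ker (fun α x hx => by
        show (α x) ^ p = 1
        rw [← map_pow, show x ^ p = 1 from hx, map_one]) (fun x hx => hΦp x hx) hneq
      exact hne fun x => htop.ge (Subgroup.mem_top x)
    have h1 : f.range ≤ frattini G := by
      rintro _ ⟨x, rfl⟩; exact CfsgLib.Solv.pow_mem_frattini hG x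
    have h2 := f.ker.card_mul_index
    rw [Subgroup.index_ker, hK, hi, hcard] at h2
    have h3 := Subgroup.card_le_of_le h1
    rw [hi] at h3
    have h4 : p ^ 3 ≤ p * p := by rw [← h2]; exact Nat.mul_le_mul le_rfl h3
    rw [pow_three] at h4
    exact absurd (Nat.le_of_mul_le_mul_left h4 hp.out.pos) (by have := hp.out.two_le; nlinarith)
  by_cases hab : ∀ a b : G, a * b = b * a
  · exact Or.inl ⟨hab, hexp fun x y => (show Commute x y from hab x y).mul_pow p⟩
  haveI : Nontrivial G := by
    rw [← Finite.one_lt_card_iff_nontrivial, hcard]; exact one_lt_pow₀ hp.out.one_lt (by norm_num)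
  haveI hΦn : (frattini G).Normal := inferInstance
  have hΦZ : frattini G ≤ Subgroup.center G := by
    -- a normal subgroup of order `p` is central
    intro z hz
    refine Subgroup.mem_center_iff.2 fun g => ?_
    obtain ⟨k, hk⟩ := hG g
    have h := EssChain.factor_trivial (L := (⊥ : Subgroup G)) (M := frattini G) (α := MulAut.conj g) (k := k)
      (by rw [← map_pow, hk, map_one]) (fun x hx => by rw [Subgroup.mem_bot] at hx ⊢; rw [hx, map_one])
      (fun x hx => hΦn.conj_mem x hx g) (by rw [Subgroup.relIndex_bot_left, hi]) hz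
    rw [Subgroup.mem_bot, inv_mul_eq_one, MulAut.conj_apply] at h
    conv_rhs => rw [h]
    group
  have hZ : Subgroup.center G = frattini G := by
    by_contra hne
    refine hab fun a b => ?_
    have h := hno' (Subgroup.center G) (fun α x hx =>
      (Subgroup.characteristic_iff_map_eq.1 inferInstance α).le ⟨x, hx, rfl⟩) hΦZ hne
    exact (Subgroup.mem_center_iff.1 (h.ge (Subgroup.mem_top b)) a)
  have hder : commutator G = frattini G := by
    haveI : Fact (Nat.card ↥(frattini G)).Prime := ⟨by rw [hi]; exact hp.out⟩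
    rcases Subgroup.eq_bot_or_eq_top_of_prime_card ((commutator G).subgroupOf (frattini G)) with h | h
    · exfalso
      refine hab fun a b => commutatorElement_eq_one_iff_mul_comm.1 ?_
      have hm : ⁅a, b⁆ ∈ commutator G := by
        rw [commutator_def]; exact Subgroup.commutator_mem_commutator (Subgroup.mem_top a) (Subgroup.mem_top b)
      exact congrArg Subtype.val (Subgroup.mem_bot.1 (h.le (show (⟨_, CfsgLib.Solv.commutator_le_frattini hG hm⟩ :
        frattini G) ∈ (commutator G).subgroupOf (frattini G) from hm)))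
    · exact le_antisymm (CfsgLib.Solv.commutator_le_frattini hG) (Subgroup.subgroupOf_eq_top.1 h)
  rcases hp.out.eq_two_or_odd' with rfl | hodd
  · refine Or.inr (Or.inr ⟨rfl, ?_⟩)
    obtain ⟨a, ha⟩ : ∃ a : G, a ^ 2 ≠ 1 := by
      by_contra hall
      push Not at hall
      refine hab fun a b => ?_
      have h : ∀ x : G, x⁻¹ = x := fun x => inv_eq_of_mul_eq_one_right (by rw [← pow_two]; exact hall x)
      calc a * b = (a * b)⁻¹ := (h _).symm
        _ = b * a := by rw [_root_.mul_inv_rev, h, h]
    rcases quaternion_or_char hcard hi hab ha with h | h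
    · exact h
    exfalso
    have hΦA : frattini G ≤ Subgroup.zpowers a := by
      intro y hy
      haveI : Fact (Nat.card ↥(frattini G)).Prime := ⟨by rw [hi]; exact Nat.prime_two⟩
      rcases Subgroup.eq_bot_or_eq_top_of_prime_card ((Subgroup.zpowers a).subgroupOf (frattini G)) with h1 | h1
      · exact absurd (congrArg Subtype.val (Subgroup.mem_bot.1 (h1.le (show (⟨_, CfsgLib.Solv.pow_mem_frattini hG a⟩ :
          frattini G) ∈ (Subgroup.zpowers a).subgroupOf (frattini G) from Subgroup.npow_mem_zpowers a 2)))) ha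
      · exact Subgroup.subgroupOf_eq_top.1 h1 hy
    have htop := hno' (Subgroup.zpowers a) (fun α y hy => by
      obtain ⟨j, rfl⟩ := Subgroup.mem_zpowers_iff.1 hy
      rw [map_zpow]
      exact Subgroup.zpow_mem _ (h _ (by rw [← map_pow]; exact fun h1 => ha (α.injective (h1.trans (map_one α).symm)))) _)
      hΦA (fun he => ha (hΦp a (he.le (Subgroup.mem_zpowers a))))
    refine hab fun x y => ?_
    obtain ⟨i, rfl⟩ := Subgroup.mem_zpowers_iff.1 (htop.ge (Subgroup.mem_top x))
    obtain ⟨j, rfl⟩ := Subgroup.mem_zpowers_iff.1 (htop.ge (Subgroup.mem_top y))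
    rw [← zpow_add, ← zpow_add, add_comm]
  · have h2 : 2 < p := by
      have := hp.out.two_le
      obtain ⟨r, hr⟩ := hodd
      omega
    refine Or.inr (Or.inl ⟨hodd, ⟨⟨hG, hZ.symm, hder.trans hZ.symm⟩, by rw [hZ, hi]⟩, hexp fun x y => ?_⟩)
    have hc : ⁅y⁻¹, x⁻¹⁆ ∈ Subgroup.center G := hZ.ge (CfsgLib.Solv.commutator_le_frattini hG (by
      rw [commutator_def]; exact Subgroup.commutator_mem_commutator (Subgroup.mem_top _) (Subgroup.mem_top _)))
    exact CfsgLib.Fus.mul_pow_p_of_central_comm h2 (c := ⁅y⁻¹, x⁻¹⁆) (by rw [commutatorElement_def]; group)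
      (Subgroup.mem_center_iff.1 hc x).symm (Subgroup.mem_center_iff.1 hc y).symm (hΦp _ (hZ.le hc))

universe u

/-- Essential subgroups of order `p ^ 3`. -/
theorem essential_cube {Ω : Type u} [Group Ω] {S : Subgroup Ω} [Finite S] {F : FusionSystem S} (hS : IsPGroup p S)
    (hF : F.IsSaturated p) {H : Subgroup Ω} (hH : F.IsEssential p H) (hcard : Nat.card H = p ^ 3) :
    IsElementaryAbelian p H ∨ (Odd p ∧ IsExtraspecial p ↥H ∧ ∀ x ∈ H, x ^ p = 1) ∨
      (p = 2 ∧ Nonempty (↥H ≃* QuaternionGroup 2)) := by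
  haveI := finite_of_le hH.1.1
  rcases cube_cases hcard (fun K hK hle h1 h2 => EssChain.no_chain hS hF hH K hK hle h1 h2) with
    ⟨hab, hexp⟩ | ⟨hodd, hext, hexp⟩ | h
  · exact Or.inl ⟨⟨⟨hab⟩⟩, fun a ha => congrArg Subtype.val (hexp ⟨a, ha⟩)⟩
  · exact Or.inr (Or.inl ⟨hodd, hext, fun a ha => congrArg Subtype.val (hexp ⟨a, ha⟩)⟩)
  · exact Or.inr (Or.inr h)

end CfsgLib.Fus.EssCube
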