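import Cfsg.Agent.Fus.EssentialChain

/-!
Abelian essential subgroups of rank two.
-/

set_option autoImplicit false
set_option linter.style.haveILetI false

open Cfsg Cfsg.FusionSystem

namespace CfsgLib.Fus.EssRankTwo

variable {p : ℕ} [hp : Fact p.Prime] {G : Type*} [CommGroup G] [Finite G]

theorem frattini_le_range_pow : frattini G ≤ (powMonoidHom (α := G) p).range := by
  intro x hx
  by_contra hxR
  obtain ⟨M, -, hM⟩ := Finite.exists_le_maximal
    (p := fun M : Subgroup G => (powMonoidHom (α := G) p).range ≤ M ∧ x ∉ M) ⟨le_rfl, hxR⟩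
  have hgen : ∀ y, y ∈ M ⊔ Subgroup.zpowers x := by
    intro y
    by_cases hy : y ∈ M
    · exact Subgroup.mem_sup_left hy
    by_contra hyn
    have hxy : x ∈ M ⊔ Subgroup.zpowers y := by
      by_contra h
      exact hy (hM.2 ⟨hM.1.1.trans le_sup_left, h⟩ le_sup_left (Subgroup.mem_sup_right (Subgroup.mem_zpowers y)))
    obtain ⟨m, hm, z, hz, hmz⟩ := Subgroup.mem_sup.1 hxy
    obtain ⟨j, rfl⟩ := Subgroup.mem_zpowers_iff.1 hz
    have hyp : y ^ (p : ℤ) ∈ M := by rw [zpow_natCast]; exact hM.1.1 ⟨y, rfl⟩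
    by_cases hj : (p : ℤ) ∣ j
    · obtain ⟨q, rfl⟩ := hj
      exact hM.1.2 (hmz ▸ M.mul_mem hm (by rw [_root_.zpow_mul]; exact M.zpow_mem hyp q))
    obtain ⟨a, b, hab⟩ := ((Nat.prime_iff_prime_int.1 hp.out).coprime_iff_not_dvd).2 hj
    refine hyn ?_
    rw [← zpow_one y, ← hab, _root_.zpow_add, mul_comm a, mul_comm b, _root_.zpow_mul, _root_.zpow_mul]
    exact Subgroup.mul_mem _ (Subgroup.mem_sup_left (M.zpow_mem hyp a)) (Subgroup.zpow_mem _ (by
      rw [show y ^ j = m⁻¹ * x by rw [← hmz, inv_mul_cancel_left]]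
      exact Subgroup.mul_mem _ (Subgroup.mem_sup_left (inv_mem hm)) (Subgroup.mem_sup_right (Subgroup.mem_zpowers x))) b)
  refine hM.1.2 (frattini_le_coatom (K := M) ⟨fun (h : M = ⊤) => hM.1.2 (h ▸ Subgroup.mem_top x), fun L hL => ?_⟩ hx)
  have hxL : x ∈ L := by
    by_contra h
    exact hL.not_ge (hM.2 ⟨hM.1.1.trans hL.le, h⟩ hL.le)
  exact eq_top_iff.2 fun y _ => sup_le hL.le (Subgroup.zpowers_le.2 hxL) (hgen y)

/-- The structure of an abelian `p`-group of rank at most two without characteristic chains of prime steps. -/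
theorem homocyclic (hG : IsPGroup p G) (hrk : (frattini G).index ≤ p ^ 2)
    (hno : ∀ K : Subgroup G, (∀ α : MulAut G, ∀ x ∈ K, α x ∈ K) → frattini G ≤ K → K.index ∣ p →
      (frattini G).relIndex K ∣ p → False) :
    ∃ k : ℕ, 0 < k ∧ (frattini G).index = p ^ 2 ∧ Nat.card G = p ^ (2 * k) ∧ (∀ x : G, x ^ p ^ k = 1) ∧
      (∀ x : G, x ^ p ^ (k - 1) = 1 → x ∈ frattini G) ∧
      Nonempty (G ≃* Multiplicative (ZMod (p ^ k) × ZMod (p ^ k))) := by
  have hchar : ∀ α : MulAut G, ∀ x ∈ frattini G, α x ∈ frattini G := fun α x hx =>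
    (Subgroup.characteristic_iff_map_eq.1 inferInstance α).le ⟨x, hx, rfl⟩
  obtain ⟨c, hc⟩ := IsPGroup.iff_card.1 hG
  obtain ⟨i, -, hi⟩ := (Nat.dvd_prime_pow hp.out).1 (hc ▸ (frattini G).index_dvd_card)
  have hi2 : i = 2 := by
    have h1 : i ≤ 2 := (Nat.pow_le_pow_iff_right hp.out.one_lt).1 (hi ▸ hrk)
    by_contra h2
    exact hno _ hchar le_rfl (by rw [hi]; exact (pow_dvd_pow p (by omega : i ≤ 1)).trans (pow_one p).dvd)
      (by rw [Subgroup.relIndex_self]; exact one_dvd _)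
  subst hi2
  have hno' : ∀ K : Subgroup G, (∀ α : MulAut G, ∀ x ∈ K, α x ∈ K) → frattini G ≤ K → K ≠ ⊤ → K = frattini G := by
    intro K hK hle htop
    by_contra hne
    have h1 := Subgroup.relIndex_mul_index hle
    rw [hi] at h1
    obtain ⟨a, ha2, ha⟩ := (Nat.dvd_prime_pow hp.out).1 (show (frattini G).relIndex K ∣ p ^ 2 from ⟨_, h1.symm⟩)
    obtain ⟨b, hb2, hb⟩ := (Nat.dvd_prime_pow hp.out).1 (show K.index ∣ p ^ 2 from ⟨_, by rw [mul_comm]; exact h1.symm⟩)
    rw [ha, hb, ← pow_add] at h1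
    have h2 := Nat.pow_right_injective hp.out.two_le h1
    have ha0 : a ≠ 0 := fun h0 => hne (le_antisymm (Subgroup.relIndex_eq_one.1 (by rw [ha, h0, pow_zero])) hle)
    have hb0 : b ≠ 0 := fun h0 => htop (Subgroup.index_eq_one.1 (by rw [hb, h0, pow_zero]))
    exact hno K hK hle (by rw [hb, show b = 1 by omega, pow_one]) (by rw [ha, show a = 1 by omega, pow_one])
  have hex : ∃ k, ∀ x : G, x ^ p ^ k = 1 := ⟨c, fun x => by rw [← hc]; exact pow_card_eq_one'⟩
  classical
  set k := Nat.find hex with hk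
  have hkspec : ∀ x : G, x ^ p ^ k = 1 := Nat.find_spec hex
  have hk0 : 0 < k := by
    by_contra h0
    rw [show k = 0 by omega] at hkspec
    have h := (frattini G).card_mul_index
    haveI : Subsingleton G := ⟨fun a b => by rw [← pow_one a, ← pow_one b, ← pow_zero p, hkspec, hkspec]⟩
    have hG1 : Nat.card G = 1 := Nat.card_eq_one_iff_unique.2 ⟨inferInstance, ⟨1⟩⟩
    rw [hG1, hi] at h
    exact absurd (Nat.eq_one_of_mul_eq_one_left h) (one_lt_pow₀ hp.out.one_lt two_ne_zero).ne'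
  have hΦR : ∀ x ∈ frattini G, ∃ y, y ^ p = x := fun x hx => by
    obtain ⟨y, hy⟩ := frattini_le_range_pow (p := p) hx; exact ⟨y, hy⟩
  have hker : (powMonoidHom (α := G) (p ^ (k - 1))).ker = frattini G := by
    refine hno' _ (fun α x hx => ?_) (fun x hx => ?_) fun h => ?_
    · show α x ^ p ^ (k - 1) = 1
      rw [← map_pow, show x ^ p ^ (k - 1) = 1 from hx, map_one]
    · obtain ⟨y, rfl⟩ := hΦR x hx
      show (y ^ p) ^ p ^ (k - 1) = 1
      rw [← pow_mul, ← pow_succ', show k - 1 + 1 = k by omega, hkspec]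
    · exact Nat.find_min hex (show k - 1 < Nat.find hex by omega) fun x => h.ge (Subgroup.mem_top x)
  have hkΦ : ∀ x : G, x ^ p ^ (k - 1) = 1 → x ∈ frattini G := fun x hx => hker.le hx
  -- counting
  have hR : frattini G = (powMonoidHom (α := G) p).range := le_antisymm frattini_le_range_pow (by
    rintro _ ⟨y, rfl⟩; exact CfsgLib.Solv.pow_mem_frattini hG y)
  have hΩ : Nat.card (powMonoidHom (α := G) p).ker = p ^ 2 := by
    have h1 := (powMonoidHom (α := G) p).ker.card_mul_index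
    have h2 := (frattini G).card_mul_index
    rw [Subgroup.index_ker, ← hR] at h1
    rw [hi, mul_comm] at h2
    exact Nat.eq_of_mul_eq_mul_right Nat.card_pos (h1.trans h2.symm)
  have hcount : ∀ j ≤ k, Nat.card (powMonoidHom (α := G) (p ^ j)).ker = p ^ (2 * j) := by
    intro j
    induction j with
    | zero =>
      intro _
      rw [mul_zero, pow_zero, Subgroup.card_eq_one, eq_bot_iff]
      intro x hx
      rw [MonoidHom.mem_ker, powMonoidHom_apply, pow_one] at hx
      exact Subgroup.mem_bot.2 hx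
    | succ j ih =>
      intro hj
      let f : (powMonoidHom (α := G) (p ^ (j + 1))).ker →* G := (powMonoidHom (α := G) p).comp (Subgroup.subtype _)
      have hrange : f.range = (powMonoidHom (α := G) (p ^ j)).ker := by
        refine le_antisymm ?_ fun x hx => ?_
        · rintro _ ⟨⟨y, hy⟩, rfl⟩
          show (y ^ p) ^ p ^ j = 1
          rw [← pow_mul, ← pow_succ']; exact hy
        · have hx' : x ^ p ^ j = 1 := hx
          obtain ⟨y, rfl⟩ := hΦR x (hkΦ x (by
            rw [show k - 1 = j + (k - 1 - j) by omega, pow_add, pow_mul, hx', one_pow]))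
          exact ⟨⟨y, show y ^ p ^ (j + 1) = 1 by rw [pow_succ', pow_mul]; exact hx'⟩, rfl⟩
      have hkerf : Nat.card f.ker = p ^ 2 := by
        rw [← hΩ]
        exact Nat.card_congr
          { toFun := fun y => ⟨(y.1 : G), y.2⟩
            invFun := fun y => ⟨⟨(y : G), show (y : G) ^ p ^ (j + 1) = 1 by
              rw [pow_succ', pow_mul, show (y : G) ^ p = 1 from y.2, one_pow]⟩, y.2⟩
            left_inv := fun y => rfl
            right_inv := fun y => rfl }
      have h := f.ker.card_mul_index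
      rw [Subgroup.index_ker, hrange, ih (by omega), hkerf, ← pow_add] at h
      rw [← h]; congr 1; omega
  have hcard : Nat.card G = p ^ (2 * k) := by
    rw [← hcount k le_rfl, show (powMonoidHom (α := G) (p ^ k)).ker = ⊤ from eq_top_iff.2 fun x _ => hkspec x,
      Subgroup.card_top]
  refine ⟨k, hk0, hi, hcard, hkspec, hkΦ, ?_⟩
  -- two generators
  haveI : NeZero (p ^ k) := ⟨pow_ne_zero k hp.out.ne_zero⟩
  have hne : frattini G ≠ ⊤ := fun h => by
    rw [h, Subgroup.index_top] at hi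
    exact absurd hi.symm (one_lt_pow₀ hp.out.one_lt two_ne_zero).ne'
  obtain ⟨a, -, ha⟩ := SetLike.exists_of_lt (lt_top_iff_ne_top.2 hne)
  have hza : Subgroup.zpowers a ⊔ frattini G ≠ ⊤ := fun h => by
    have h1 := frattini_nongenerating h
    have h2 := Nat.card_zpowers a
    rw [h1, Subgroup.card_top, hcard] at h2
    have h3 := Nat.le_of_dvd (pow_pos hp.out.pos k) (orderOf_dvd_of_pow_eq_one (hkspec a))
    rw [← h2, Nat.pow_le_pow_iff_right hp.out.one_lt] at h3
    omega
  obtain ⟨b, -, hb⟩ := SetLike.exists_of_lt (lt_top_iff_ne_top.2 hza)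
  have hgen : Subgroup.zpowers a ⊔ Subgroup.zpowers b = ⊤ := by
    refine frattini_nongenerating ?_
    have h1 : frattini G < Subgroup.zpowers a ⊔ frattini G := lt_of_le_of_ne le_sup_right fun h =>
      ha (h.ge (Subgroup.mem_sup_left (Subgroup.mem_zpowers a)))
    have h2 : Subgroup.zpowers a ⊔ frattini G < Subgroup.zpowers a ⊔ Subgroup.zpowers b ⊔ frattini G :=
      lt_of_le_of_ne (sup_le_sup_right le_sup_left _) fun h =>
        hb (h.ge (Subgroup.mem_sup_left (Subgroup.mem_sup_right (Subgroup.mem_zpowers b))))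
    by_contra h3
    obtain ⟨i1, hi1, e1⟩ := (Nat.dvd_prime_pow hp.out).1 (hi ▸ Subgroup.index_dvd_of_le h1.le)
    obtain ⟨i2, hi2, e2⟩ := (Nat.dvd_prime_pow hp.out).1 (hi ▸ Subgroup.index_dvd_of_le (h1.trans h2).le)
    have q1 := Subgroup.index_strictAnti h1
    have q2 := Subgroup.index_strictAnti h2
    rw [hi, e1, Nat.pow_lt_pow_iff_right hp.out.one_lt] at q1
    rw [e1, e2, Nat.pow_lt_pow_iff_right hp.out.one_lt] at q2
    exact h3 (Subgroup.index_eq_one.1 (by rw [e2, show i2 = 0 by omega, pow_zero]))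
  have hval : ∀ (y : G) (u v : ZMod (p ^ k)), y ^ (u + v).val = y ^ u.val * y ^ v.val := fun y u v => by
    rw [← pow_add, ZMod.val_add]
    conv_rhs => rw [← Nat.mod_add_div (u.val + v.val) (p ^ k), pow_add, pow_mul, hkspec, one_pow, mul_one]
  let f : Multiplicative (ZMod (p ^ k) × ZMod (p ^ k)) →* G :=
    MonoidHom.mk' (fun v => a ^ v.toAdd.1.val * b ^ v.toAdd.2.val) fun v w => by
      rw [toAdd_mul, Prod.fst_add, Prod.snd_add, hval, hval, mul_mul_mul_comm]
  have hpow : ∀ (y : G), ∀ z ∈ Subgroup.zpowers y, ∃ u : ZMod (p ^ k), z = y ^ u.val := fun y z hz => by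
    obtain ⟨j, rfl⟩ := (Submonoid.mem_powers_iff _ _).1 (mem_powers_iff_mem_zpowers.2 hz)
    refine ⟨j, ?_⟩
    rw [ZMod.val_natCast]
    conv_lhs => rw [← Nat.mod_add_div j (p ^ k), pow_add, pow_mul, hkspec, one_pow, mul_one]
  have hsurj : Function.Surjective f := fun z => by
    obtain ⟨z1, h1, z2, h2, rfl⟩ := Subgroup.mem_sup.1 (hgen.ge (Subgroup.mem_top z))
    obtain ⟨u, rfl⟩ := hpow a z1 h1
    obtain ⟨v, rfl⟩ := hpow b z2 h2
    exact ⟨Multiplicative.ofAdd (u, v), rfl⟩
  refine ⟨(MulEquiv.ofBijective f ((Nat.bijective_iff_surjective_and_card _).2 ⟨hsurj, ?_⟩)).symm⟩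
  rw [Nat.card_congr Multiplicative.toAdd, Nat.card_prod, Nat.card_zmod, hcard, two_mul, pow_add]

/-- For `p ≥ 5` an automorphism of order `p` of such a group of exponent at least `p ^ 2` is trivial
modulo the Frattini subgroup. -/
theorem trivial_mod_frattini (hG : IsPGroup p G) (h5 : 5 ≤ p) (hi : (frattini G).index = p ^ 2)
    (hker : ∀ x : G, x ^ p = 1 → x ∈ frattini G) {u : MulAut G} (hu : u ^ p = 1) (x : G) :
    x⁻¹ * u x ∈ frattini G := by
  have hchar : ∀ α : MulAut G, ∀ x ∈ frattini G, α x ∈ frattini G := fun α x hx =>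
    (Subgroup.characteristic_iff_map_eq.1 inferInstance α).le ⟨x, hx, rfl⟩
  have hmap : (frattini G).map u.toMonoidHom = frattini G := Subgroup.characteristic_iff_map_eq.1 inferInstance u
  let w : MulAut (G ⧸ frattini G) := QuotientGroup.congr _ _ u hmap
  have hwn : ∀ (n : ℕ) (y : G), (w ^ n) (QuotientGroup.mk y) = QuotientGroup.mk ((u ^ n) y) := by
    intro n
    induction n with
    | zero => intro y; rfl
    | succ n ih => intro y; rw [pow_succ, MulAut.mul_apply, pow_succ, MulAut.mul_apply, ← ih]; rfl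
  obtain ⟨e, he, hwe, hws⟩ := EssSquare.transvection_of_pElement (H := G ⧸ frattini G) (w := w) (k := 1)
    (by rw [← Subgroup.index_eq_card, hi])
    (fun y => by
      obtain ⟨y, rfl⟩ := QuotientGroup.mk_surjective y
      rw [← QuotientGroup.mk_pow, QuotientGroup.eq_one_iff]; exact CfsgLib.Solv.pow_mem_frattini hG y)
    (MulEquiv.ext fun y => by
      obtain ⟨y, rfl⟩ := QuotientGroup.mk_surjective y
      rw [hwn, pow_one, hu]; rfl)
  let d : G →* G := u.toMonoidHom / MonoidHom.id G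
  have hdx : ∀ y, d y = u y / y := fun y => rfl
  have hd2 : ∀ y, d (d y) ∈ frattini G := fun y => by
    rw [hdx, ← QuotientGroup.eq_one_iff, QuotientGroup.mk_div, div_eq_one,
      show (QuotientGroup.mk (u (d y)) : G ⧸ frattini G) = w (QuotientGroup.mk (d y)) from rfl]
    obtain ⟨j, hj⟩ := Subgroup.mem_zpowers_iff.1 (hws (QuotientGroup.mk y))
    have hdy : (QuotientGroup.mk (d y) : G ⧸ frattini G) = e ^ j := by
      rw [hj, hdx, div_eq_inv_mul, QuotientGroup.mk_mul, QuotientGroup.mk_inv]; rfl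
    rw [hdy, map_zpow, hwe]
  -- modulo `p ^ 2`-th powers
  let π := QuotientGroup.mk' ((powMonoidHom (α := G) (p ^ 2)).range)
  have hπ : ∀ y : G, π (y ^ p ^ 2) = 1 := fun y => (QuotientGroup.eq_one_iff _).2 ⟨y, rfl⟩
  have hd4 : ∀ y, π (d (d (d (d y)))) = 1 := fun y => by
    obtain ⟨z, hz⟩ := frattini_le_range_pow (p := p) (hd2 y)
    obtain ⟨z', hz'⟩ := frattini_le_range_pow (p := p) (hd2 z)
    rw [← hz, powMonoidHom_apply, map_pow, map_pow, ← hz', powMonoidHom_apply, ← pow_mul, ← pow_two, hπ]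
  have hstep : ∀ y, π (u y) = π y * π (d y) := fun y => by
    rw [← map_mul, hdx, mul_div_cancel]
  have key : ∀ (n : ℕ) (y : G), π ((u ^ n) y) =
      π y * π (d y) ^ n * π (d (d y)) ^ n.choose 2 * π (d (d (d y))) ^ n.choose 3 := by
    intro n
    induction n with
    | zero => intro y; simp
    | succ n ih =>
      intro y
      rw [pow_succ u, MulAut.mul_apply, ih, hstep]
      have e1 : ∀ z, d (u z) = d z * d (d z) := fun z => by
        rw [show u z = z * d z by rw [hdx, mul_div_cancel], map_mul]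
      simp only [e1, map_mul, hd4, mul_one]
      rw [Nat.choose_succ_succ n 1, Nat.choose_one_right, Nat.choose_succ_succ n 2, mul_pow, mul_pow,
        pow_succ (π (d y)), pow_add, pow_add]
      simp only [show Nat.succ 1 = 2 from rfl, show Nat.succ 2 = 3 from rfl]
      ac_rfl
  have hsq : ∀ y, ∀ m, p ∣ m → π (d (d y)) ^ m = 1 := fun y m hm => by
    obtain ⟨q, rfl⟩ := hm
    obtain ⟨z, hz⟩ := frattini_le_range_pow (p := p) (hd2 y)
    rw [← hz, powMonoidHom_apply, ← map_pow, ← pow_mul, ← mul_assoc, ← pow_two, pow_mul, map_pow, hπ, one_pow]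
  have h := key p x
  rw [hu, MulAut.one_apply, hsq x _ (hp.out.dvd_choose_self two_ne_zero (by omega)),
    hsq (d x) _ (hp.out.dvd_choose_self three_ne_zero (by omega)), mul_one, mul_one, left_eq_mul, ← map_pow] at h
  obtain ⟨z, hz⟩ := (QuotientGroup.eq_one_iff _).1 h
  rw [powMonoidHom_apply, pow_two, pow_mul] at hz
  have h1 := hker (d x / z ^ p) (by rw [div_pow, hz, div_self'])
  have h2 := (frattini G).mul_mem h1 (CfsgLib.Solv.pow_mem_frattini hG z)
  rw [div_mul_cancel, hdx, div_eq_inv_mul] at h2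
  exact h2

universe u

/-- Abelian essential subgroups of rank at most two. -/
theorem essential_rank_two {Ω : Type u} [Group Ω] {S : Subgroup Ω} [Finite S] {F : FusionSystem S} (hS : IsPGroup p S)
    (hF : F.IsSaturated p) {H : Subgroup Ω} (hH : F.IsEssential p H) (hab : IsMulCommutative ↥H)
    (hrk : (frattini ↥H).index ≤ p ^ 2) :
    (IsElementaryAbelian p H ∧ Nat.card H = p ^ 2) ∨
      (p ≤ 3 ∧ ∃ k : ℕ, Nonempty (↥H ≃* Multiplicative (ZMod (p ^ k) × ZMod (p ^ k)))) := by
  haveI := finite_of_le hH.1.1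
  haveI := finite_mulAut hH.1.1
  letI : CommGroup H := { (inferInstance : Group H) with mul_comm := fun a b => hab.1.1 a b }
  have hHp : IsPGroup p H := hS.to_le hH.1.1
  obtain ⟨k, hk0, hi, hcard, hexp, hkΦ, hiso⟩ := homocyclic (p := p) hHp hrk
    (fun K hK hle h1 h2 => EssChain.no_chain hS hF hH K hK hle h1 h2)
  by_cases hk1 : k = 1
  · subst hk1
    exact Or.inl ⟨⟨hab, fun a ha => by simpa using congrArg Subtype.val (hexp ⟨a, ha⟩)⟩, by rw [hcard]⟩
  refine Or.inr ⟨?_, k, hiso⟩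
  by_contra h3
  have h5 : 5 ≤ p := by
    by_contra h
    exact Nat.not_prime_of_dvd_of_lt (m := 2) (n := 4) (by norm_num) le_rfl (by norm_num) ((show p = 4 by omega) ▸ hp.out)
  obtain ⟨γ, hγA, hγI, m, hm⟩ := EssChain.exists_outer_pElement hS hF hH
  have hone : ∀ a ∈ Inn H, a = 1 := by
    rintro _ ⟨g, rfl⟩
    exact MulEquiv.ext fun x => by rw [MulAut.conj_apply, mul_comm g, mul_inv_cancel_right]; rfl
  have hγ1 : γ ≠ 1 := fun h => hγI (h ▸ one_mem _)
  obtain ⟨j, -, hj⟩ := (Nat.dvd_prime_pow hp.out).1 (orderOf_dvd_of_pow_eq_one hm)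
  have hj0 : j ≠ 0 := fun h0 => hγ1 (orderOf_eq_one_iff.1 (by rw [hj, h0, pow_zero]))
  have hu : orderOf (γ ^ p ^ (j - 1)) = p := by
    rw [orderOf_pow' _ (pow_ne_zero _ hp.out.ne_zero), hj, Nat.gcd_eq_right (pow_dvd_pow p (by omega)),
      Nat.pow_div (by omega) hp.out.pos, show j - (j - 1) = 1 by omega, pow_one]
  have htriv : ∀ x, x⁻¹ * (γ ^ p ^ (j - 1)) x ∈ frattini H := trivial_mod_frattini hHp h5 hi
    (fun x hx => hkΦ x (by rw [show k - 1 = 1 + (k - 2) by omega, pow_add, pow_one, pow_mul, hx, one_pow]))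
    (orderOf_dvd_iff_pow_eq_one.1 hu.dvd)
  have hmem := EssChain.chainStab_le_inn hS hH (K := frattini H)
    (fun α x hx => (Subgroup.characteristic_iff_map_eq.1 inferInstance α).le ⟨x, hx, rfl⟩)
    ((F.autGroup H).pow_mem hγA _)
    ⟨htriv, fun x _ => htriv x⟩
  rw [hone _ hmem, orderOf_one] at hu
  exact hp.out.ne_one hu.symm

end CfsgLib.Fus.EssRankTwo
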