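import Cfsg.Agent.Fus.Normal
import Cfsg.Agent.Lie.SLn
import Mathlib.GroupTheory.SpecificGroups.Cyclic
import Mathlib.Algebra.Field.ZMod

/-!
Essential subgroups of order `p ^ 2`.
-/

set_option autoImplicit false
set_option linter.style.haveILetI false

open Cfsg Cfsg.FusionSystem Matrix

namespace CfsgLib.Fus.EssSquare

variable {p : ℕ} [hp : Fact p.Prime]

/-- The automorphisms of `H` induced by `SL₂` through a parametrisation. -/
noncomputable def slAct {H : Type*} [Group H] (η : Multiplicative (Fin 2 → ZMod p) ≃* H) :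
    SpecialLinearGroup (Fin 2) (ZMod p) →* MulAut H :=
  (MulAut.congr η).toMonoidHom.comp
    { toFun := fun M => AddEquiv.toMultiplicative (SpecialLinearGroup.toLin' M).toAddEquiv
      map_one' := MulEquiv.ext fun x => Multiplicative.toAdd.injective (by simp)
      map_mul' := fun M M' => MulEquiv.ext fun x => Multiplicative.toAdd.injective (by simp) }

theorem slAct_apply {H : Type*} [Group H] (η : Multiplicative (Fin 2 → ZMod p) ≃* H)
    (M : SpecialLinearGroup (Fin 2) (ZMod p)) (v : Fin 2 → ZMod p) :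
    slAct η M (η (Multiplicative.ofAdd v)) = η (Multiplicative.ofAdd (M.1 *ᵥ v)) := by
  simp [slAct, MulAut.congr_apply, SpecialLinearGroup.toLin'_apply]

theorem slAct_injective {H : Type*} [Group H] (η : Multiplicative (Fin 2 → ZMod p) ≃* H) :
    Function.Injective (slAct η) := by
  rw [injective_iff_map_eq_one]
  intro M hM
  refine Subtype.ext (Matrix.ext fun i j => ?_)
  have h := slAct_apply η M (Pi.single j 1)
  rw [hM, MulAut.one_apply] at h
  have h2 := congrFun (Multiplicative.ofAdd.injective (η.injective h)) i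
  rw [Matrix.mulVec_single_one] at h2
  show M.1 i j = (1 : Matrix (Fin 2) (Fin 2) (ZMod p)) i j
  rw [Matrix.one_apply]
  rw [Pi.single_apply] at h2
  simpa [Matrix.col_apply] using h2.symm

variable {H : Type*} [CommGroup H] [Finite H] (hH : Nat.card H = p ^ 2) (hexp : ∀ x : H, x ^ p = 1)

include hexp in
theorem pow_val (x : H) (a b : ZMod p) : x ^ (a + b).val = x ^ a.val * x ^ b.val := by
  rw [← pow_add, ZMod.val_add]
  conv_rhs => rw [← Nat.mod_add_div (a.val + b.val) p, pow_add, pow_mul, hexp, one_pow, mul_one]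

include hexp in
theorem pow_val_natCast (x : H) (k : ℕ) : x ^ (k : ZMod p).val = x ^ k := by
  rw [ZMod.val_natCast]
  conv_rhs => rw [← Nat.mod_add_div k p, pow_add, pow_mul, hexp, one_pow, mul_one]

include hH hexp in
theorem exists_basis {e f : H} (he : e ≠ 1) (hf : f ∉ Subgroup.zpowers e) :
    ∃ η : Multiplicative (Fin 2 → ZMod p) ≃* H,
      ∀ a b : ZMod p, η (Multiplicative.ofAdd ![a, b]) = e ^ a.val * f ^ b.val := by
  haveI : NeZero p := ⟨hp.out.ne_zero⟩
  let η₀ : Multiplicative (Fin 2 → ZMod p) →* H :=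
    MonoidHom.mk' (fun v => e ^ (v.toAdd 0).val * f ^ (v.toAdd 1).val) fun v w => by
      rw [toAdd_mul, Pi.add_apply, Pi.add_apply, pow_val hexp, pow_val hexp, mul_mul_mul_comm]
  have hinj : Function.Injective η₀ := by
    rw [injective_iff_map_eq_one]
    intro v hv
    have hb : f ^ (v.toAdd 1).val ∈ Subgroup.zpowers e := by
      rw [show f ^ (v.toAdd 1).val = (e ^ (v.toAdd 0).val)⁻¹ from eq_inv_of_mul_eq_one_right hv]
      exact inv_mem (Subgroup.npow_mem_zpowers _ _)
    have h1 : v.toAdd 1 = 0 := by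
      by_contra h
      apply hf
      have h3 : f ^ ((v.toAdd 1).val * ((v.toAdd 1)⁻¹).val) = f := by
        rw [← pow_val_natCast hexp, Nat.cast_mul, ZMod.natCast_zmod_val, ZMod.natCast_zmod_val,
          mul_inv_cancel₀ h, ZMod.val_one, pow_one]
      rw [← h3, pow_mul]
      exact Subgroup.pow_mem _ hb _
    have h0 : v.toAdd 0 = 0 := by
      by_contra h
      apply he
      have h2 : e ^ (v.toAdd 0).val = 1 := by simpa [η₀, h1] using hv
      have h3 : e ^ ((v.toAdd 0).val * ((v.toAdd 0)⁻¹).val) = e := by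
        rw [← pow_val_natCast hexp, Nat.cast_mul, ZMod.natCast_zmod_val, ZMod.natCast_zmod_val,
          mul_inv_cancel₀ h, ZMod.val_one, pow_one]
      rw [← h3, pow_mul, h2, one_pow]
    exact Multiplicative.toAdd.injective (funext fun i => by fin_cases i <;> assumption)
  have hbij : Function.Bijective η₀ := (Nat.bijective_iff_injective_and_card _).2 ⟨hinj, by
    rw [hH, Nat.card_congr Multiplicative.toAdd, Nat.card_fun, Nat.card_zmod, Nat.card_fin]⟩
  exact ⟨MulEquiv.ofBijective η₀ hbij, fun a b => rfl⟩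

include hH in
theorem zpowers_card {e : H} (hexp' : e ^ p = 1) (he : e ≠ 1) :
    Nat.card ↥(Subgroup.zpowers e) = p ∧ ∃ f : H, f ∉ Subgroup.zpowers e := by
  have ho : orderOf e = p := orderOf_eq_prime hexp' he
  refine ⟨by rw [Nat.card_zpowers, ho], ?_⟩
  by_contra hno
  push Not at hno
  have h1 : Subgroup.zpowers e = ⊤ := eq_top_iff.2 fun x _ => hno x
  have h2 := Nat.card_zpowers e
  rw [h1, Nat.card_congr Subgroup.topEquiv.toEquiv, hH, ho] at h2
  rw [pow_two] at h2
  exact absurd h2 (by have := hp.out.two_le; nlinarith)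

/-- Automorphisms of `p`-power order act on the factors of the series through a fixed element trivially. -/
theorem fixed_factor {C : Type*} [Group C] [Finite C] (hC : Nat.card C = p) (w : MulAut C) {k : ℕ}
    (hw : w ^ p ^ k = 1) : w = 1 := by
  haveI := isCyclic_of_prime_card hC
  have h1 := orderOf_dvd_of_pow_eq_one hw
  have h2 : orderOf w ∣ p - 1 := by
    have h3 := orderOf_dvd_natCard w
    rwa [Nat.card_congr (IsCyclic.mulAutMulEquiv C).toEquiv, hC, Nat.card_eq_fintype_card, ZMod.card_units p] at h3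
  have hnd : ¬ p ∣ p - 1 := fun h => by
    have := hp.out.one_lt
    have := Nat.le_of_dvd (by omega) h
    omega
  have hcop : Nat.Coprime (p ^ k) (p - 1) := ((Nat.Prime.coprime_iff_not_dvd hp.out).2 hnd).pow_left k
  exact orderOf_eq_one_iff.1 (Nat.eq_one_of_dvd_coprimes hcop h1 h2)

include hH hexp in
theorem transvection_of_pElement {w : MulAut H} {k : ℕ} (hw : w ^ p ^ k = 1) :
    ∃ e : H, e ≠ 1 ∧ w e = e ∧ ∀ x : H, x⁻¹ * w x ∈ Subgroup.zpowers e := by
  have hfix : ∃ e : H, e ≠ 1 ∧ w e = e := by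
    let W := Subgroup.zpowers w
    have hW : IsPGroup p W := fun g => by
      obtain ⟨j, hj⟩ := Subgroup.mem_zpowers_iff.1 g.2
      refine ⟨k, Subtype.ext ?_⟩
      rw [SubmonoidClass.coe_pow, ← hj, ← zpow_natCast, ← _root_.zpow_mul, mul_comm, _root_.zpow_mul, zpow_natCast,
        hw, _root_.one_zpow]
      rfl
    letI : MulAction W H := MulAction.compHom H W.subtype
    obtain ⟨e, he, hne⟩ := hW.exists_fixed_point_of_prime_dvd_card_of_fixed_point (α := H)
      (by rw [hH]; exact dvd_pow_self p two_ne_zero) (a := 1) (fun g => map_one (g : MulAut H))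
    exact ⟨e, fun h => hne h.symm, he ⟨w, Subgroup.mem_zpowers w⟩⟩
  obtain ⟨e, he, hwe⟩ := hfix
  refine ⟨e, he, hwe, fun x => ?_⟩
  set E := Subgroup.zpowers e
  have hmap : E.map w.toMonoidHom = E := by rw [MonoidHom.map_zpowers]; exact congrArg _ hwe
  let wq : MulAut (H ⧸ E) := QuotientGroup.congr E E w hmap
  have hwq : ∀ (n : ℕ) (y : H), (wq ^ n) (QuotientGroup.mk y) = QuotientGroup.mk ((w ^ n) y) := by
    intro n
    induction n with
    | zero => intro y; rfl
    | succ n ih => intro y; rw [pow_succ, MulAut.mul_apply, pow_succ, MulAut.mul_apply, ← ih]; rfl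
  have hcard : Nat.card (H ⧸ E) = p := by
    have h1 := E.card_mul_index
    rw [(zpowers_card hH (hexp e) he).1, hH, pow_two] at h1
    rw [← Subgroup.index_eq_card]
    exact Nat.eq_of_mul_eq_mul_left hp.out.pos h1
  have h1 := fixed_factor hcard wq (k := k) (MulEquiv.ext fun y => by
    obtain ⟨y, rfl⟩ := QuotientGroup.mk_surjective y
    rw [hwq, hw]; rfl)
  have h2 := hwq 1 x
  rw [pow_one, pow_one, h1, MulAut.one_apply, QuotientGroup.eq] at h2
  exact h2

include hexp in
theorem pow_eq_one_of_transvection {w : MulAut H} {e : H} (hwe : w e = e)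
    (h : ∀ x : H, x⁻¹ * w x ∈ Subgroup.zpowers e) : w ^ p = 1 := by
  refine MulEquiv.ext fun x => ?_
  obtain ⟨j, hj⟩ := Subgroup.mem_zpowers_iff.1 (h x)
  have hn : ∀ n : ℕ, (w ^ n) x = x * (e ^ j) ^ n := by
    intro n
    induction n with
    | zero => simp
    | succ n ih =>
      rw [pow_succ', MulAut.mul_apply, ih, map_mul, map_pow, map_zpow, hwe, pow_succ' (e ^ j), ← mul_assoc,
        show x * e ^ j = w x by rw [hj, mul_inv_cancel_left]]
  rw [hn, hexp, mul_one, MulAut.one_apply]

include hH hexp in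
/-- A group of automorphisms with no normal `p`-subgroup and order divisible by `p` contains `SL₂(p)`. -/
theorem exists_sl {A : Subgroup (MulAut H)} (hdvd : p ∣ Nat.card A)
    (hno : ∀ K : Subgroup A, K.Normal → IsPGroup p K → K = ⊥) :
    ∃ K : Subgroup A, Nonempty (K ≃* SpecialLinearGroup (Fin 2) (ZMod p)) := by
  haveI : NeZero p := ⟨hp.out.ne_zero⟩
  haveI : Finite (MulAut H) := inferInstanceAs (Finite (H ≃* H))
  obtain ⟨u, hu⟩ := exists_prime_orderOf_dvd_card' (G := A) p hdvd
  have hup : (u : MulAut H) ^ p ^ 1 = 1 := by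
    rw [pow_one, ← SubmonoidClass.coe_pow, ← hu, pow_orderOf_eq_one, OneMemClass.coe_one]
  obtain ⟨e, he, hue, hus⟩ := transvection_of_pElement hH hexp hup
  -- an element of order `p` moving the fixed line
  obtain ⟨v, hvA, k, hvk, hve⟩ : ∃ v ∈ A, ∃ k, v ^ p ^ k = 1 ∧ v e ∉ Subgroup.zpowers e := by
    by_contra hall
    push Not at hall
    let W : Subgroup A :=
      { carrier := {w | (w : MulAut H) e = e ∧ ∀ x : H, x⁻¹ * (w : MulAut H) x ∈ Subgroup.zpowers e}
        one_mem' := ⟨rfl, fun x => by simp⟩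
        mul_mem' := fun {a b} ha hb => ⟨by
          show (a : MulAut H) ((b : MulAut H) e) = e
          rw [hb.1, ha.1], fun x => by
          have := Subgroup.mul_mem _ (hb.2 x) (ha.2 ((b : MulAut H) x))
          simpa [mul_assoc] using this⟩
        inv_mem' := fun {a} ha => by
          refine ⟨?_, fun x => ?_⟩
          · show (a : MulAut H)⁻¹ e = e
            conv_lhs => rw [← ha.1]
            exact (a : MulAut H).symm_apply_apply e
          · have := inv_mem (ha.2 ((a : MulAut H)⁻¹ x))
            simpa [MulAut.inv_def, mul_comm] using this }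
    have hW : ∀ w : A, (∃ k, (w : MulAut H) ^ p ^ k = 1) → w ∈ W := by
      rintro w ⟨k, hk⟩
      obtain ⟨e', he', hwe', hws'⟩ := transvection_of_pElement hH hexp hk
      have h1 : (w : MulAut H) e ∈ Subgroup.zpowers e := by
        exact hall _ w.2 k hk
      by_cases h2 : Subgroup.zpowers e' = Subgroup.zpowers e
      · obtain ⟨j, hj⟩ := Subgroup.mem_zpowers_iff.1 (h2.ge (Subgroup.mem_zpowers e))
        refine ⟨?_, fun x => h2 ▸ hws' x⟩
        rw [← hj, map_zpow, hwe']
      · have h3 : (w : MulAut H) e = e := by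
          have h4 : e⁻¹ * (w : MulAut H) e ∈ Subgroup.zpowers e' ⊓ Subgroup.zpowers e :=
            ⟨hws' e, Subgroup.mul_mem _ (inv_mem (Subgroup.mem_zpowers e)) h1⟩
          haveI : Fact (Nat.card ↥(Subgroup.zpowers e)).Prime := ⟨by rw [(zpowers_card hH (hexp e) he).1]; exact hp.out⟩
          rcases (Subgroup.eq_bot_or_eq_top_of_prime_card
            ((Subgroup.zpowers e').subgroupOf (Subgroup.zpowers e))) with h5 | h5
          · have h6 := (Subgroup.mem_bot).1 (h5.le (show (⟨_, h4.2⟩ : Subgroup.zpowers e) ∈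
              (Subgroup.zpowers e').subgroupOf (Subgroup.zpowers e) from h4.1))
            exact (inv_mul_eq_one.1 (congrArg Subtype.val h6)).symm
          · refine absurd (Subgroup.eq_of_le_of_card_ge (Subgroup.subgroupOf_eq_top.1 h5) ?_).symm h2
            rw [(zpowers_card hH (hexp e) he).1, (zpowers_card hH (hexp e') he').1]
        obtain ⟨f, hf⟩ := (zpowers_card hH (hexp e) he).2
        obtain ⟨η, hη⟩ := exists_basis hH hexp he hf
        refine ⟨h3, fun x => ?_⟩
        -- `w` fixes two independent elements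
        have hw1 : ∀ y : H, (w : MulAut H) y = y := by
          obtain ⟨η', hη'⟩ := exists_basis hH hexp he (f := e') (fun hmem => h2 (Subgroup.eq_of_le_of_card_ge
            (Subgroup.zpowers_le.2 hmem) (by rw [(zpowers_card hH (hexp e) he).1, (zpowers_card hH (hexp e') he').1])))
          intro y
          obtain ⟨v, rfl⟩ := η'.surjective y
          rw [← ofAdd_toAdd v, show v.toAdd = ![v.toAdd 0, v.toAdd 1] from funext fun i => by fin_cases i <;> rfl,
            hη', map_mul, map_pow, map_pow, h3, hwe']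
        rw [hw1, inv_mul_cancel]; exact one_mem _
    have hWp : IsPGroup p W := fun w => ⟨1, Subtype.ext (Subtype.ext (by
      rw [pow_one, SubmonoidClass.coe_pow, SubmonoidClass.coe_pow]
      exact pow_eq_one_of_transvection hexp w.2.1 w.2.2))⟩
    have hWn : W.Normal := ⟨fun w hw a => hW _ ⟨1, by
      rw [← SubmonoidClass.coe_pow, conj_pow, show w ^ p ^ 1 = 1 from Subtype.ext (by
        rw [pow_one, SubmonoidClass.coe_pow]; exact pow_eq_one_of_transvection hexp hw.1 hw.2),
        mul_one, mul_inv_cancel]; rfl⟩⟩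
    have := (hno W hWn hWp).le (hW u ⟨1, hup⟩)
    rw [Subgroup.mem_bot] at this
    rw [this, orderOf_one] at hu
    exact hp.out.ne_one hu.symm
  obtain ⟨f, hf, hvf, hvs⟩ := transvection_of_pElement hH hexp hvk
  have hfE : f ∉ Subgroup.zpowers e := fun hmem => hve (by
    obtain ⟨j, hj⟩ := Subgroup.mem_zpowers_iff.1 hmem
    have hE : Subgroup.zpowers f = Subgroup.zpowers e := Subgroup.eq_of_le_of_card_ge (Subgroup.zpowers_le.2 hmem)
      (by rw [(zpowers_card hH (hexp e) he).1, (zpowers_card hH (hexp f) hf).1])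
    have h1 := hvs e
    rw [hE] at h1
    simpa using Subgroup.mul_mem _ (Subgroup.mem_zpowers e) h1)
  obtain ⟨η, hη⟩ := exists_basis hH hexp he hfE
  have hEval : ∀ y ∈ Subgroup.zpowers e, ∃ b : ZMod p, y = e ^ b.val := fun y hy => by
    obtain ⟨j, rfl⟩ := (Submonoid.mem_powers_iff _ _).1 (mem_powers_iff_mem_zpowers.2 hy)
    exact ⟨j, (pow_val_natCast hexp e j).symm⟩
  have hFval : ∀ y ∈ Subgroup.zpowers f, ∃ b : ZMod p, y = f ^ b.val := fun y hy => by
    obtain ⟨j, rfl⟩ := (Submonoid.mem_powers_iff _ _).1 (mem_powers_iff_mem_zpowers.2 hy)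
    exact ⟨j, (pow_val_natCast hexp f j).symm⟩
  obtain ⟨b, hb⟩ := hEval _ (hus f)
  obtain ⟨c, hc⟩ := hFval _ (hvs e)
  have huf : (u : MulAut H) f = f * e ^ b.val := by rw [← hb, mul_inv_cancel_left]
  have hve' : v e = e * f ^ c.val := by rw [← hc, mul_inv_cancel_left]
  have hb0 : b ≠ 0 := fun h0 => by
    rw [h0, ZMod.val_zero, pow_zero, mul_one] at huf
    have : u = 1 := Subtype.ext (MulEquiv.ext fun y => by
      obtain ⟨w, rfl⟩ := η.surjective y
      rw [← ofAdd_toAdd w, show w.toAdd = ![w.toAdd 0, w.toAdd 1] from funext fun i => by fin_cases i <;> rfl,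
        hη, map_mul, map_pow, map_pow, hue, huf]
      rfl)
    rw [this, orderOf_one] at hu
    exact hp.out.ne_one hu.symm
  have hc0 : c ≠ 0 := fun h0 => by
    rw [h0, ZMod.val_zero, pow_zero, mul_one] at hve'
    exact hve (hve'.symm ▸ Subgroup.mem_zpowers e)
  have key : ∀ (M : SpecialLinearGroup (Fin 2) (ZMod p)) (w : MulAut H),
      η (Multiplicative.ofAdd ![M.1 0 0, M.1 1 0]) = w e →
      η (Multiplicative.ofAdd ![M.1 0 1, M.1 1 1]) = w f → slAct η M = w := by
    intro M w h1 h2
    refine MulEquiv.ext fun y => ?_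
    obtain ⟨x, rfl⟩ := η.surjective y
    rw [← ofAdd_toAdd x, slAct_apply, show x.toAdd = ![x.toAdd 0, x.toAdd 1] from funext fun i => by fin_cases i <;> rfl,
      hη (x.toAdd 0) (x.toAdd 1), map_mul, map_pow, map_pow, ← h1, ← h2, ← map_pow η, ← map_pow η, ← map_mul η, ← ofAdd_nsmul, ← ofAdd_nsmul, ← ofAdd_add]
    refine congrArg (fun z => η (Multiplicative.ofAdd z)) ?_
    funext i
    fin_cases i <;> simp [Matrix.mulVec, dotProduct, Fin.sum_univ_two, ZMod.natCast_zmod_val] <;> ring
  let U : SpecialLinearGroup (Fin 2) (ZMod p) := SpecialLinearGroup.transvection (show (0 : Fin 2) ≠ 1 by decide) b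
  let L : SpecialLinearGroup (Fin 2) (ZMod p) := SpecialLinearGroup.transvection (show (1 : Fin 2) ≠ 0 by decide) c
  have hU : slAct η U = u := key U u (by
      rw [hue, hη]; simp [U, SpecialLinearGroup.transvection, Matrix.transvection, ZMod.val_one]) (by
      rw [huf, hη]; simp [U, SpecialLinearGroup.transvection, Matrix.transvection, ZMod.val_one, mul_comm])
  have hL : slAct η L = v := key L v (by
      rw [hve', hη]; simp [L, SpecialLinearGroup.transvection, Matrix.transvection, ZMod.val_one]) (by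
      rw [hvf, hη]; simp [L, SpecialLinearGroup.transvection, Matrix.transvection, ZMod.val_one])
  have htop : A.comap (slAct η) = ⊤ := by
    refine CfsgLib.Lie.SLn.eq_top_of_transvection_mem _ fun i j hij d => ?_
    have hpow : ∀ (i j : Fin 2) (hij : i ≠ j) (b : ZMod p) (n : ℕ),
        (SpecialLinearGroup.transvection hij b : SpecialLinearGroup (Fin 2) (ZMod p)) ^ n =
          SpecialLinearGroup.transvection hij ((n : ZMod p) * b) := fun i j hij b n => by
      induction n with
      | zero =>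
        rw [pow_zero, Nat.cast_zero, zero_mul]
        exact Subtype.ext (by simp [SpecialLinearGroup.transvection])
      | succ n ih =>
        rw [pow_succ, ih]
        refine Subtype.ext ?_
        show Matrix.transvection i j ((n : ZMod p) * b) * Matrix.transvection i j b = Matrix.transvection i j _
        rw [Matrix.transvection_mul_transvection_same _ _ hij]
        push_cast
        ring_nf
    fin_cases i <;> fin_cases j
    · exact absurd rfl hij
    · have h : SpecialLinearGroup.transvection hij d = U ^ (d * b⁻¹).val := by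
        rw [hpow, ZMod.natCast_zmod_val, mul_assoc, inv_mul_cancel₀ hb0, mul_one]
      rw [Subgroup.mem_comap, h, map_pow, hU]
      exact A.pow_mem u.2 _
    · have h : SpecialLinearGroup.transvection hij d = L ^ (d * c⁻¹).val := by
        rw [hpow, ZMod.natCast_zmod_val, mul_assoc, inv_mul_cancel₀ hc0, mul_one]
      rw [Subgroup.mem_comap, h, map_pow, hL]
      exact A.pow_mem hvA _
    · exact absurd rfl hij
  let Φ : SpecialLinearGroup (Fin 2) (ZMod p) →* A :=
    (slAct η).codRestrict A fun M => (htop.ge (Subgroup.mem_top M) : M ∈ A.comap (slAct η))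
  exact ⟨Φ.range, ⟨(Φ.ofInjective fun M M' h => slAct_injective η (congrArg Subtype.val h)).symm⟩⟩

universe u

/-- Essential subgroups of order `p ^ 2`. -/
theorem essential_square {Ω : Type u} [Group Ω] {S : Subgroup Ω} [Finite S] {F : FusionSystem S} (hS : IsPGroup p S)
    (hF : F.IsSaturated p) {H : Subgroup Ω} (hH : F.IsEssential p H) (hcard : Nat.card H = p ^ 2) :
    IsElementaryAbelian p H ∧
      ∃ K : Subgroup ↥(F.autGroup H), Nonempty (↥K ≃* SpecialLinearGroup (Fin 2) (ZMod p)) := by
  haveI : NeZero p := ⟨hp.out.ne_zero⟩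
  have hHS := hH.1.1
  haveI := finite_of_le hHS
  haveI := finite_mulAut hHS
  have hab : ∀ a b : H, a * b = b * a := IsPGroup.commutative_of_card_eq_prime_sq hcard
  have hinn : Inn H = ⊥ := by
    rw [eq_bot_iff]
    rintro _ ⟨g, rfl⟩
    exact Subgroup.mem_bot.2 (MulEquiv.ext fun x => by rw [MulAut.conj_apply, hab g x, mul_inv_cancel_right]; rfl)
  have hno : ∀ K : Subgroup ↥(F.autGroup H), K.Normal → IsPGroup p K → K = ⊥ := fun K hKn hKp => by
    haveI := hKn
    have h1 := essential_le_inn hH hKp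
    rw [hinn, Subgroup.bot_subgroupOf] at h1
    exact le_bot_iff.1 h1
  have hlt : H < S := essential_lt hS hF hH
  obtain ⟨g, hgN, hgH⟩ := SetLike.exists_of_lt (lt_normalizerIn hS hlt)
  obtain ⟨γ, hγ, hγe⟩ := exists_autInducedBy (K := S) hgN.1 hgN.2
  have hγ1 : γ ≠ 1 := fun h1 => hgH (hH.1.2 H (isConj_refl hHS) ⟨hgN.1, fun y hy => by
    have h2 := hγe y hy
    rw [h1, autFun_one hy] at h2
    exact (eq_mul_inv_iff_mul_eq.1 h2)⟩)
  have hγA : γ ∈ F.autGroup H := autInducedBy_le_autGroup hHS hγ
  have hdvd : p ∣ Nat.card ↥(F.autGroup H) := by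
    obtain ⟨k, hk⟩ := isPGroup_autInducedBy (P := H) hS ⟨γ, hγ⟩
    have ho := orderOf_dvd_of_pow_eq_one (congrArg Subtype.val hk : γ ^ p ^ k = 1)
    obtain ⟨m, -, hm⟩ := (Nat.dvd_prime_pow hp.out).1 ho
    have hm0 : m ≠ 0 := fun h0 => hγ1 (orderOf_eq_one_iff.1 (by rw [hm, h0, pow_zero]))
    refine (dvd_pow_self p hm0).trans (hm ▸ ?_)
    rw [← Subgroup.orderOf_mk γ hγA]
    exact orderOf_dvd_natCard _
  letI : CommGroup H := { (inferInstance : Group H) with mul_comm := hab }
  have hexp : ∀ x : H, x ^ p = 1 := by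
    by_contra hnot
    push Not at hnot
    obtain ⟨x, hx⟩ := hnot
    haveI : IsCyclic H := isCyclic_iff_exists_natCard_le_orderOf.2 ⟨x, by
      obtain ⟨m, hm2, hm⟩ := (Nat.dvd_prime_pow hp.out).1 (hcard ▸ orderOf_dvd_natCard x)
      rw [hcard, hm]
      refine Nat.pow_le_pow_right hp.out.pos ?_
      by_contra hlt'
      refine hx (orderOf_dvd_iff_pow_eq_one.1 ?_)
      rw [hm]
      exact (pow_dvd_pow p (by omega : m ≤ 1)).trans (pow_one p).dvd⟩
    obtain ⟨Pp⟩ := (Sylow.nonempty : Nonempty (Sylow p ↥(F.autGroup H)))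
    haveI : (Pp : Subgroup ↥(F.autGroup H)).Normal := ⟨fun n hn a => by
      have hc : a * n = n * a := Subtype.ext ((IsCyclic.mulAutMulEquiv H).injective (by
        rw [Subgroup.coe_mul, Subgroup.coe_mul, map_mul, map_mul, mul_comm]))
      rw [hc, mul_inv_cancel_right]; exact hn⟩
    exact Pp.ne_bot_of_dvd_card hdvd (hno _ inferInstance Pp.isPGroup')
  exact ⟨⟨⟨⟨hab⟩⟩, fun a ha => congrArg Subtype.val (hexp ⟨a, ha⟩)⟩, exists_sl hcard hexp hdvd hno⟩

end CfsgLib.Fus.EssSquare
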