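import Mathlib.GroupTheory.SemidirectProduct
import Mathlib.GroupTheory.GroupAction.Quotient
import Mathlib.GroupTheory.Index
import Mathlib.GroupTheory.Sylow
import Mathlib.Algebra.BigOperators.Group.Finset.Basic
import Mathlib.GroupTheory.OrderOfElement
import Mathlib.Tactic.Group

/-!
An extension of a finite group `A` by an abelian `p`-group, built from a group `R` over a Sylow subgroup of `A` by a monomial
representation followed by the norm map over the cosets.
-/

set_option autoImplicit false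

namespace CfsgLib.ExtNorm

universe u

/-- A cocycle over a transitive-or-not permutation action, locally a coboundary at each point, has product a coboundary. -/
theorem prod_coboundary {P : Type*} [Group P] {C : Type*} [Fintype C] {Z : Type*} [CommGroup Z]
    (σ : P →* Equiv.Perm C) (τ : P →* MulAut Z) (Φ : P → C → Z)
    (hco : ∀ r r' c, Φ (r * r') c = τ r (Φ r' ((σ r)⁻¹ c)) * Φ r c)
    (hloc : ∀ c, ∃ z, ∀ r, σ r c = c → Φ r c = z / τ r z) :
    ∃ w, ∀ r, ∏ c, Φ r c = w / τ r w := by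
  classical
  let e : Setoid C :=
    { r := fun c d => ∃ r, σ r c = d
      iseqv := ⟨fun c => ⟨1, by simp⟩, fun {c d} ⟨r, h⟩ => ⟨r⁻¹, by simp [← h]⟩,
        fun {c d e} ⟨r, h⟩ ⟨r', h'⟩ => ⟨r' * r, by simp [h, h']⟩⟩ }
  let rep : C → C := fun c => (Quotient.mk e c).out
  have hu : ∀ c, ∃ r, σ r (rep c) = c := fun c => Quotient.mk_out (s := e) c
  choose u hu using hu
  choose z0 hz0 using hloc
  let W : C → Z := fun c => Φ (u c) c * τ (u c) (z0 (rep c))
  have key : ∀ r c, W c = Φ r c * τ r (W ((σ r)⁻¹ c)) := by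
    intro r c
    set c' := (σ r)⁻¹ c with hc'
    have hrc : σ r c' = c := by rw [hc', Equiv.Perm.inv_def, Equiv.apply_symm_apply]
    have hrep : rep c' = rep c := by
      show (Quotient.mk e c').out = (Quotient.mk e c).out
      rw [Quotient.sound (show c' ≈ c from ⟨r, hrc⟩)]
    have h0 : σ ((u c)⁻¹ * (r * u c')) (rep c) = rep c := by
      rw [map_mul, map_mul, Equiv.Perm.mul_apply, Equiv.Perm.mul_apply, ← hrep, hu c', hrc, map_inv, hrep,
        Equiv.Perm.inv_def, Equiv.symm_apply_eq, hu c]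
    have h1 : Φ (r * u c') c = τ r (Φ (u c') c') * Φ r c := by rw [hco, hc']
    have hsym : (σ (u c))⁻¹ c = rep c := by rw [Equiv.Perm.inv_def, Equiv.symm_apply_eq, hu c]
    have h2 : Φ (r * u c') c = τ (u c) (Φ ((u c)⁻¹ * (r * u c')) (rep c)) * Φ (u c) c := by
      have h := hco (u c) ((u c)⁻¹ * (r * u c')) c
      rwa [mul_inv_cancel_left, hsym] at h
    have e1 : τ ((u c)⁻¹ * (r * u c')) = (τ (u c))⁻¹ * (τ r * τ (u c')) := by rw [map_mul, map_mul, map_inv]
    have h3 := hz0 (rep c) _ h0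
    rw [h3, e1, map_div, MulAut.mul_apply, MulAut.apply_inv_self, MulAut.mul_apply] at h2
    show Φ (u c) c * τ (u c) (z0 (rep c)) = Φ r c * τ r (Φ (u c') c' * τ (u c') (z0 (rep c')))
    rw [hrep, map_mul, ← mul_assoc, mul_comm (Φ r c), ← h1, h2, mul_comm (τ (u c) _ / _), mul_assoc,
      div_mul_cancel]
  refine ⟨∏ c, W c, fun r => ?_⟩
  have h : ∏ c, W c = (∏ c, Φ r c) * τ r (∏ c, W c) := by
    rw [map_prod]
    conv_lhs => rw [Finset.prod_congr rfl fun c _ => key r c]
    rw [Finset.prod_mul_distrib]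
    congr 1
    exact Fintype.prod_equiv (σ r)⁻¹ _ _ fun _ => rfl
  rw [eq_div_iff_mul_eq', ← h]

/-- The data: a group `R` mapping to `A` with image of index prime to `p`, acting on a normal subgroup `Q` containing the
kernel through `A`, and partial maps realizing the conjugations of `A` between subgroups of the image. -/
structure Data (p : ℕ) (R A : Type u) [Group R] [Group A] where
  π : R →* A
  Q : Subgroup R
  ρ : A →* MulAut ↥Q
  conj_eq : ∀ (r : R) (q : ↥Q), (ρ (π r) q : R) = r * q * r⁻¹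
  pi_rho : ∀ (a : A) (q : ↥Q), π (ρ a q : R) = a * π q * a⁻¹
  ker_le : π.ker ≤ Q
  hp : p.Prime
  isPGroup : IsPGroup p R
  index_coprime : ¬ p ∣ π.range.index
  Ψ : A → R → R
  psi_mul : ∀ a r r', a⁻¹ * π r * a ∈ π.range → a⁻¹ * π r' * a ∈ π.range → Ψ a (r * r') = Ψ a r * Ψ a r'
  psi_pi : ∀ a r, a⁻¹ * π r * a ∈ π.range → π (Ψ a r) = a⁻¹ * π r * a
  psi_q : ∀ a (q : ↥Q), Ψ a q = (ρ a⁻¹ q : R)

variable {p : ℕ} {R A : Type u} [Group R] [Group A] [Finite R] [Finite A] (D : Data p R A)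

namespace Data

/-- The cosets. -/
abbrev C : Type u := A ⧸ D.π.range

/-- The orbit relation of `R` on the cosets. -/
def orbitSetoid : Setoid D.C where
  r c d := ∃ r : R, D.π r • c = d
  iseqv := ⟨fun c => ⟨1, by simp⟩, fun {c d} ⟨r, h⟩ => ⟨r⁻¹, by simp [← h]⟩,
    fun {c d e} ⟨r, h⟩ ⟨r', h'⟩ => ⟨r' * r, by simp [mul_smul, h, h']⟩⟩

/-- The chosen point of an orbit. -/
noncomputable def rep (c : D.C) : D.C := (Quotient.mk D.orbitSetoid c).out

/-- An element carrying the chosen point to the given one. -/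
noncomputable def u (c : D.C) : R := (Quotient.mk_out (s := D.orbitSetoid) c).choose

theorem u_spec (c : D.C) : D.π (D.u c) • D.rep c = c := (Quotient.mk_out (s := D.orbitSetoid) c).choose_spec

/-- The chosen element of the chosen coset. -/
noncomputable def a (c : D.C) : A := (D.rep c).out

/-- The chosen representatives of the cosets. -/
noncomputable def s (c : D.C) : A := D.π (D.u c) * D.a c

theorem s_mk (c : D.C) : (QuotientGroup.mk (D.s c) : D.C) = c := by
  show D.π (D.u c) • (QuotientGroup.mk (D.a c) : D.C) = c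
  rw [a, QuotientGroup.out_eq', u_spec]

theorem smul_eq_iff (t a : A) : t • (QuotientGroup.mk a : D.C) = QuotientGroup.mk a ↔ a⁻¹ * t * a ∈ D.π.range := by
  rw [MulAction.Quotient.smul_mk, smul_eq_mul, eq_comm, QuotientGroup.eq, mul_assoc]

theorem rep_smul (r : R) (c : D.C) : D.rep (D.π r • c) = D.rep c := by
  unfold rep
  rw [Quotient.sound (show D.orbitSetoid.r c (D.π r • c) from ⟨r, rfl⟩)]

/-- The permutational wreath product. -/
abbrev Wr : Type u := (D.C → R) ⋊[(mulAutArrow : A →* MulAut (D.C → R))] A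

/-- The wreath product is finite. -/
instance finite_Wr : Finite D.Wr := Finite.of_equiv _ SemidirectProduct.equivProd.symm

theorem wr_mul_left (x y : D.Wr) (c : D.C) : (x * y).left c = x.left c * y.left (x.right⁻¹ • c) := rfl

theorem wr_inv_left (x : D.Wr) (c : D.C) : x⁻¹.left c = (x.left (x.right • c))⁻¹ := by
  show (x.left ((x.right⁻¹)⁻¹ • c))⁻¹ = _
  rw [inv_inv]

/-- The elements inducing left multiplication on the representatives. -/
def E : Subgroup D.Wr where
  carrier := {w | ∀ c, D.π (w.left c) = (D.s c)⁻¹ * w.right * D.s (w.right⁻¹ • c)}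
  one_mem' c := by simp
  mul_mem' := fun {x y} hx hy c => by
    rw [D.wr_mul_left, map_mul, hx c, hy _, SemidirectProduct.mul_right, mul_inv_rev, mul_smul]
    group
  inv_mem' := fun {x} hx c => by
    rw [D.wr_inv_left, map_inv, hx _, SemidirectProduct.inv_right, inv_inv, inv_smul_smul]
    group

theorem range_smul (q : ↥D.Q) (c : D.C) : D.π (q : R) • c = c := by
  obtain ⟨a, rfl⟩ := QuotientGroup.mk_surjective c
  rw [D.smul_eq_iff]
  refine ⟨(D.ρ a⁻¹ q : R), ?_⟩
  rw [D.pi_rho, inv_inv]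

theorem u_mem (r : R) (c : D.C) :
    (D.a c)⁻¹ * D.π ((D.u c)⁻¹ * r * D.u ((D.π r)⁻¹ • c)) * D.a c ∈ D.π.range := by
  rw [← D.smul_eq_iff, a, QuotientGroup.out_eq', map_mul, map_mul, mul_smul, mul_smul]
  have hrep : D.rep ((D.π r)⁻¹ • c) = D.rep c := by rw [← map_inv]; exact D.rep_smul _ _
  conv_lhs => rw [← hrep, D.u_spec, smul_inv_smul, map_inv]
  rw [inv_smul_eq_iff, D.u_spec]

/-- The monomial representation of `R`. -/
noncomputable def jfun (r : R) (c : D.C) : R :=
  D.Ψ (D.a c) ((D.u c)⁻¹ * r * D.u ((D.π r)⁻¹ • c))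

theorem a_smul (r : R) (c : D.C) : D.a ((D.π r)⁻¹ • c) = D.a c := by
  unfold a
  rw [← map_inv, D.rep_smul]

theorem jfun_mul (r r' : R) (c : D.C) :
    D.jfun (r * r') c = D.jfun r c * D.jfun r' ((D.π r)⁻¹ • c) := by
  have hc : (D.π (r * r'))⁻¹ • c = (D.π r')⁻¹ • ((D.π r)⁻¹ • c) := by rw [map_mul, mul_inv_rev, mul_smul]
  unfold jfun
  rw [D.a_smul r c, hc, ← D.psi_mul _ _ _ (D.u_mem r c) (by rw [← D.a_smul r c]; exact D.u_mem r' _)]
  congr 1
  group

theorem jfun_pi (r : R) (c : D.C) :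
    D.π (D.jfun r c) = (D.s c)⁻¹ * D.π r * D.s ((D.π r)⁻¹ • c) := by
  rw [jfun, D.psi_pi _ _ (D.u_mem r c), s, s, D.a_smul r c, map_mul, map_mul, map_inv]
  group

theorem jfun_q (q : ↥D.Q) (c : D.C) : D.jfun q c = (D.ρ (D.s c)⁻¹ q : R) := by
  have hc : (D.π (q : R))⁻¹ • c = c := by rw [inv_smul_eq_iff, D.range_smul]
  have e : (D.u c)⁻¹ * (q : R) * D.u c = (D.ρ (D.π (D.u c)⁻¹) q : R) := by rw [D.conj_eq, inv_inv]
  rw [jfun, hc, e, D.psi_q, s, mul_inv_rev, map_mul, map_inv D.π]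
  rfl

/-- The monomial representation as a homomorphism. -/
noncomputable def j : R →* ↥D.E where
  toFun r := ⟨⟨D.jfun r, D.π r⟩, fun c => D.jfun_pi r c⟩
  map_one' := Subtype.ext (SemidirectProduct.ext (funext fun c => by
    have h := D.jfun_mul 1 1 c
    simp only [mul_one, map_one, inv_one, one_smul] at h
    exact left_eq_mul.1 h) (map_one _))
  map_mul' r r' := Subtype.ext (SemidirectProduct.ext (funext fun c => D.jfun_mul r r' c) (map_mul _ r r'))

theorem j_left (r : R) (c : D.C) : (D.j r : D.Wr).left c = D.jfun r c := rfl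

theorem j_right (r : R) : (D.j r : D.Wr).right = D.π r := rfl

/-- The kernel. -/
abbrev Z : Type u := ↥D.π.ker

theorem comm (z w : D.Z) : z * w = w * z := by
  have h := D.conj_eq (z : R) ⟨w, D.ker_le w.2⟩
  rw [(z.2 : D.π z = 1), map_one, MulAut.one_apply] at h
  exact Subtype.ext (eq_mul_inv_iff_mul_eq.1 h).symm

/-- The kernel is abelian. -/
noncomputable instance commGroupZ : CommGroup D.Z :=
  { (inferInstance : Group D.Z) with mul_comm := D.comm }

theorem rho_mem (a : A) (z : D.Z) : ((D.ρ a ⟨z, D.ker_le z.2⟩ : ↥D.Q) : R) ∈ D.π.ker := by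
  show D.π _ = 1
  rw [D.pi_rho, (z.2 : D.π z = 1), mul_one, mul_inv_cancel]

/-- The action of `A` on the kernel. -/
noncomputable def act : A →* MulAut D.Z where
  toFun a :=
    { toFun := fun z => ⟨_, D.rho_mem a z⟩
      invFun := fun z => ⟨_, D.rho_mem a⁻¹ z⟩
      left_inv := fun z => Subtype.ext (by simp [map_inv, MulAut.inv_def])
      right_inv := fun z => Subtype.ext (by simp [map_inv, MulAut.inv_def])
      map_mul' := fun z w => Subtype.ext (by
        show ((D.ρ a ⟨_, _⟩ : ↥D.Q) : R) = ((D.ρ a _ : ↥D.Q) : R) * ((D.ρ a _ : ↥D.Q) : R)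
        rw [← Subgroup.coe_mul, ← map_mul]
        rfl) }
  map_one' := MulEquiv.ext fun z => Subtype.ext (by
    show ((D.ρ 1 _ : ↥D.Q) : R) = (z : R)
    rw [map_one]; rfl)
  map_mul' a b := MulEquiv.ext fun z => Subtype.ext (by
    show ((D.ρ (a * b) _ : ↥D.Q) : R) = _
    rw [map_mul]; rfl)

theorem act_conj (r : R) (z : D.Z) : (D.act (D.π r) z : R) = r * z * r⁻¹ := D.conj_eq r _

open Classical in
/-- An element of the kernel, or `1`. -/
noncomputable def toZ (r : R) : D.Z := if h : r ∈ D.π.ker then ⟨r, h⟩ else 1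

theorem toZ_of_mem {r : R} (h : r ∈ D.π.ker) : D.toZ r = ⟨r, h⟩ := dif_pos h

theorem left_mem_ker {w : ↥D.E} (hw : (w : D.Wr).right = 1) (c : D.C) : (w : D.Wr).left c ∈ D.π.ker := by
  show D.π _ = 1
  rw [w.2 c, hw, inv_one, one_smul, mul_one, inv_mul_cancel]

/-- The number of cosets. -/
noncomputable abbrev m : ℕ := Nat.card D.C

theorem m_coprime : Nat.Coprime (Nat.card D.Z) D.m := by
  haveI : Fact p.Prime := ⟨D.hp⟩
  obtain ⟨n, hn⟩ := IsPGroup.iff_card.1 (D.isPGroup.to_subgroup D.π.ker)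
  rw [hn]
  exact Nat.Coprime.pow_left _ ((D.hp.coprime_iff_not_dvd).2 D.index_coprime)

variable [Fintype D.C]

/-- The weighted value of a component. -/
noncomputable def comp (w : ↥D.E) (c : D.C) : D.Z := D.act (D.s c) (D.toZ ((w : D.Wr).left c))

/-- The norm. -/
noncomputable def norm (w : ↥D.E) : D.Z := ∏ c, D.comp w c

theorem norm_mul {x y : ↥D.E} (hx : (x : D.Wr).right = 1) (hy : (y : D.Wr).right = 1) :
    D.norm (x * y) = D.norm x * D.norm y := by
  rw [norm, norm, norm, ← Finset.prod_mul_distrib]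
  refine Finset.prod_congr rfl fun c _ => ?_
  have e : ((x * y : ↥D.E) : D.Wr).left c = (x : D.Wr).left c * (y : D.Wr).left c := by
    rw [Subgroup.coe_mul, D.wr_mul_left, hx, inv_one, one_smul]
  rw [comp, comp, comp, e, D.toZ_of_mem (D.left_mem_ker hx c), D.toZ_of_mem (D.left_mem_ker hy c),
    D.toZ_of_mem (mul_mem (D.left_mem_ker hx c) (D.left_mem_ker hy c)), ← map_mul]
  rfl

/-- Conjugation moves the components by the action. -/
theorem comp_conj (g : ↥D.E) {x : ↥D.E} (hx : (x : D.Wr).right = 1) (c : D.C) :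
    D.comp (g * x * g⁻¹) c = D.act (g : D.Wr).right (D.comp x ((g : D.Wr).right⁻¹ • c)) := by
  set b := (g : D.Wr).right with hb
  have e : ((g * x * g⁻¹ : ↥D.E) : D.Wr).left c =
      (g : D.Wr).left c * (x : D.Wr).left (b⁻¹ • c) * ((g : D.Wr).left c)⁻¹ := by
    simp only [Subgroup.coe_mul, Subgroup.coe_inv, D.wr_mul_left, D.wr_inv_left, SemidirectProduct.mul_right, hx,
      mul_one, ← hb, smul_inv_smul]
  have hker := D.left_mem_ker hx (b⁻¹ • c)
  have e2 : (g : D.Wr).left c * (x : D.Wr).left (b⁻¹ • c) * ((g : D.Wr).left c)⁻¹ =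
      (D.act (D.π ((g : D.Wr).left c)) ⟨_, hker⟩ : R) := (D.act_conj ((g : D.Wr).left c) ⟨_, hker⟩).symm
  rw [comp, comp, e, e2, D.toZ_of_mem hker, D.toZ_of_mem (D.act (D.π ((g : D.Wr).left c)) ⟨_, hker⟩).2, g.2 c,
    ← hb, ← MulAut.mul_apply, ← MulAut.mul_apply, ← map_mul, ← map_mul]
  congr 2
  group

theorem norm_conj (g : ↥D.E) {x : ↥D.E} (hx : (x : D.Wr).right = 1) :
    D.norm (g * x * g⁻¹) = D.act (g : D.Wr).right (D.norm x) := by
  rw [norm, norm, map_prod]
  exact Fintype.prod_equiv (MulAction.toPerm (g : D.Wr).right⁻¹) _ _ fun c => D.comp_conj g hx c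

theorem norm_j (z : D.Z) : D.norm (D.j (z : R)) = z ^ D.m := by
  have h : ∀ c, D.comp (D.j (z : R)) c = z := by
    intro c
    have e := D.jfun_q ⟨z, D.ker_le z.2⟩ c
    have hm := D.rho_mem (D.s c)⁻¹ z
    rw [comp, j_left, e, D.toZ_of_mem hm]
    show D.act (D.s c) (D.act (D.s c)⁻¹ z) = z
    rw [← MulAut.mul_apply, ← map_mul, mul_inv_cancel, map_one, MulAut.one_apply]
  rw [norm, Finset.prod_congr rfl fun c _ => h c, Finset.prod_const, Finset.card_univ, ← Nat.card_eq_fintype_card]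

theorem norm_one : D.norm 1 = 1 := by
  rw [← map_one D.j, show (1 : R) = ((1 : D.Z) : R) from rfl, D.norm_j, one_pow]

/-- The kernel of the norm. -/
noncomputable def M : Subgroup ↥D.E where
  carrier := {w | (w : D.Wr).right = 1 ∧ D.norm w = 1}
  one_mem' := ⟨rfl, D.norm_one⟩
  mul_mem' := fun {x y} hx hy => ⟨by rw [Subgroup.coe_mul, SemidirectProduct.mul_right, hx.1, hy.1, one_mul],
    by rw [D.norm_mul hx.1 hy.1, hx.2, hy.2, one_mul]⟩
  inv_mem' := fun {x} hx => by
    have h1 : ((x⁻¹ : ↥D.E) : D.Wr).right = 1 := by rw [Subgroup.coe_inv, SemidirectProduct.inv_right, hx.1, inv_one]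
    refine ⟨h1, ?_⟩
    have h := D.norm_mul h1 hx.1
    rw [inv_mul_cancel, D.norm_one, hx.2, mul_one] at h
    exact h.symm

instance normal_M : D.M.Normal :=
  ⟨fun x hx g => ⟨by
    simp [Subgroup.coe_mul, SemidirectProduct.mul_right, SemidirectProduct.inv_right, hx.1],
    by rw [D.norm_conj g hx.1, hx.2, map_one]⟩⟩

/-- The extension. -/
abbrev L : Type u := ↥D.E ⧸ D.M

/-- The embedding of `R`. -/
noncomputable def ι : R →* D.L := (QuotientGroup.mk' D.M).comp D.j

/-- The projection to `A`. -/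
noncomputable def toA : D.L →* A :=
  QuotientGroup.lift D.M (SemidirectProduct.rightHom.comp D.E.subtype) fun _ hx => hx.1

theorem toA_mk (w : ↥D.E) : D.toA (QuotientGroup.mk' D.M w) = (w : D.Wr).right := rfl

theorem toA_ι (r : R) : D.toA (D.ι r) = D.π r := rfl

theorem mk_eq_ι {w : ↥D.E} (hw : (w : D.Wr).right = 1) {z : D.Z} (h : D.norm w = z ^ D.m) :
    QuotientGroup.mk' D.M w = D.ι (z : R) := by
  have hz : ((D.j (z : R) : ↥D.E) : D.Wr).right = 1 := z.2
  refine QuotientGroup.eq.2 ⟨by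
    rw [Subgroup.coe_mul, Subgroup.coe_inv, SemidirectProduct.mul_right, SemidirectProduct.inv_right, hw, hz,
      inv_one, one_mul], ?_⟩
  have hw' : ((w⁻¹ : ↥D.E) : D.Wr).right = 1 := by
    rw [Subgroup.coe_inv, SemidirectProduct.inv_right, hw, inv_one]
  have e := D.norm_mul hw' hw
  rw [inv_mul_cancel, D.norm_one] at e
  rw [D.norm_mul hw' hz, D.norm_j, ← h, ← e]

theorem exists_root (z : D.Z) : ∃ y : D.Z, y ^ D.m = z :=
  ⟨(powCoprime D.m_coprime).symm z, (powCoprime D.m_coprime).apply_symm_apply z⟩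

theorem ker_toA (l : D.L) (hl : D.toA l = 1) : ∃ z : D.Z, l = D.ι (z : R) := by
  obtain ⟨w, rfl⟩ := QuotientGroup.mk'_surjective D.M l
  obtain ⟨z, hz⟩ := D.exists_root (D.norm w)
  exact ⟨z, D.mk_eq_ι hl hz.symm⟩

theorem ι_injective : Function.Injective D.ι := by
  refine (injective_iff_map_eq_one _).2 fun r hr => ?_
  have hr1 : D.π r = 1 := by rw [← D.toA_ι r, hr, map_one]
  have h := ((QuotientGroup.eq_one_iff (D.j r)).1 hr).2
  rw [show r = ((⟨r, hr1⟩ : D.Z) : R) from rfl, D.norm_j] at h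
  have := (powCoprime D.m_coprime).injective (a₁ := ⟨r, hr1⟩) (a₂ := 1) (by simpa [powCoprime_apply] using h)
  exact congrArg Subtype.val this

theorem toA_surjective : Function.Surjective D.toA := by
  intro b
  have h : ∀ c : D.C, (D.s c)⁻¹ * b * D.s (b⁻¹ • c) ∈ D.π.range := by
    intro c
    rw [mul_assoc, ← QuotientGroup.eq, D.s_mk]
    show c = b • (QuotientGroup.mk (D.s (b⁻¹ • c)) : D.C)
    rw [D.s_mk, smul_inv_smul]
  choose g hg using h
  exact ⟨QuotientGroup.mk' D.M ⟨⟨g, b⟩, hg⟩, rfl⟩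

theorem card_L : Nat.card D.L = Nat.card A * Nat.card D.Z := by
  rw [Subgroup.card_eq_card_quotient_mul_card_subgroup D.toA.ker,
    Nat.card_congr (QuotientGroup.quotientKerEquivOfSurjective D.toA D.toA_surjective).toEquiv]
  congr 1
  refine (Nat.card_congr (Equiv.ofBijective
    (fun z : D.Z => (⟨D.ι (z : R), z.2⟩ : D.toA.ker)) ⟨fun z w h => ?_, fun l => ?_⟩)).symm
  · exact Subtype.ext (D.ι_injective (congrArg Subtype.val h))
  · obtain ⟨z, hz⟩ := D.ker_toA l l.2
    exact ⟨z, Subtype.ext hz.symm⟩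

/-- The image of `R` is a Sylow subgroup. -/
theorem index_range : ¬ p ∣ D.ι.range.index := by
  have h1 : Nat.card D.ι.range * D.ι.range.index = Nat.card A * Nat.card D.Z := by
    rw [Subgroup.card_mul_index, D.card_L]
  have h2 : Nat.card D.ι.range = Nat.card D.π.range * Nat.card D.Z := by
    rw [← Nat.card_congr (MonoidHom.ofInjective D.ι_injective).toEquiv,
      Subgroup.card_eq_card_quotient_mul_card_subgroup D.π.ker,
      Nat.card_congr (QuotientGroup.quotientKerEquivRange D.π).toEquiv]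
  have h3 : Nat.card D.π.range * D.π.range.index = Nat.card A := Subgroup.card_mul_index _
  rw [h2, ← h3] at h1
  have h4 : D.ι.range.index = D.π.range.index := by
    refine Nat.eq_of_mul_eq_mul_left (Nat.mul_pos (Nat.card_pos (α := D.π.range)) (Nat.card_pos (α := D.Z))) ?_
    rw [h1]; ring
  rw [h4]
  exact D.index_coprime

theorem conj_ι (l : D.L) (q : ↥D.Q) : l * D.ι (q : R) * l⁻¹ = D.ι (D.ρ (D.toA l) q : R) := by
  obtain ⟨g, rfl⟩ := QuotientGroup.mk'_surjective D.M l
  show QuotientGroup.mk' D.M g * QuotientGroup.mk' D.M (D.j _) * (QuotientGroup.mk' D.M g)⁻¹ =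
    QuotientGroup.mk' D.M (D.j _)
  rw [← map_inv, ← map_mul, ← map_mul]
  congr 1
  refine Subtype.ext (SemidirectProduct.ext (funext fun c => ?_) ?_)
  · simp only [Subgroup.coe_mul, Subgroup.coe_inv, D.wr_mul_left, D.wr_inv_left, SemidirectProduct.mul_right,
      j_left, j_right, D.toA_mk]
    set b := (g : D.Wr).right with hb
    have hfix : b • (b * D.π (q : R))⁻¹ • c = c := by
      rw [mul_inv_rev, mul_smul, show (D.π (q : R))⁻¹ • b⁻¹ • c = b⁻¹ • c by
        rw [inv_smul_eq_iff, D.range_smul], smul_inv_smul]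
    rw [hfix, D.jfun_q, D.jfun_q, ← D.conj_eq, g.2 c, ← hb]
    show ((D.ρ _ (D.ρ _ q) : ↥D.Q) : R) = ((D.ρ _ (D.ρ _ q) : ↥D.Q) : R)
    rw [← MulAut.mul_apply, ← map_mul, ← MulAut.mul_apply, ← map_mul,
      show (D.s c)⁻¹ * b * D.s (b⁻¹ • c) * (D.s (b⁻¹ • c))⁻¹ = (D.s c)⁻¹ * b by group]
  · simp only [Subgroup.coe_mul, Subgroup.coe_inv, SemidirectProduct.mul_right, SemidirectProduct.inv_right,
      j_right, D.toA_mk, D.pi_rho]

/-- Conjugation by an element of the extension agrees, up to conjugation by the kernel, with any map compatible with it,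
given that any two compatible partial maps agree up to such conjugation. -/
theorem conj_eq_map (l : D.L) (P : Subgroup R) (f : R → R) (hQP : D.Q ≤ P)
    (hfmul : ∀ r ∈ P, ∀ r' ∈ P, f (r * r') = f r * f r')
    (hfπ : ∀ r ∈ P, D.π (f r) = D.toA l * D.π r * (D.toA l)⁻¹)
    (hfQ : ∀ q : ↥D.Q, f q = (D.ρ (D.toA l) q : R))
    (hagree : ∀ (c : D.C) (g : R), D.π g = (D.s c)⁻¹ * D.toA l * D.s ((D.toA l)⁻¹ • c) →
      ∃ z : D.Z, ∀ r ∈ P, D.π (f r) • c = c →
        g * D.jfun r ((D.toA l)⁻¹ • c) * g⁻¹ = D.jfun (f ((z : R) * r * (z : R)⁻¹)) c) :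
    ∃ z : D.Z, ∀ r ∈ P, l * D.ι r * l⁻¹ = D.ι ((z : R) * f r * (z : R)⁻¹) := by
  obtain ⟨g, rfl⟩ := QuotientGroup.mk'_surjective D.M l
  set b := (g : D.Wr).right with hb
  rw [D.toA_mk] at hfπ hfQ hagree
  let fH : ↥P →* R := MonoidHom.mk' (fun r => f r) fun r r' => hfmul r r.2 r' r'.2
  let t : ↥P →* A := D.π.comp fH
  let d : ↥P → ↥D.E := fun r => g * D.j (r : R) * g⁻¹ * (D.j (f r))⁻¹
  have hd : ∀ r, ((d r : ↥D.E) : D.Wr).right = 1 := fun r => by
    simp only [d, Subgroup.coe_mul, Subgroup.coe_inv, SemidirectProduct.mul_right, SemidirectProduct.inv_right,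
      j_right, hfπ _ r.2, ← hb, mul_inv_cancel]
  have hdmul : ∀ r r', d (r * r') = g * D.j (r : R) * g⁻¹ * d r' * (g * D.j (r : R) * g⁻¹)⁻¹ * d r := by
    intro r r'
    simp only [d, Subgroup.coe_mul, hfmul _ r.2 _ r'.2, map_mul, mul_inv_rev]
    group
  have hright : ∀ r : ↥P, ((g * D.j (r : R) * g⁻¹ : ↥D.E) : D.Wr).right = D.π (f r) := fun r => by
    simp only [Subgroup.coe_mul, Subgroup.coe_inv, SemidirectProduct.mul_right, SemidirectProduct.inv_right,
      j_right, hfπ _ r.2, ← hb]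
  obtain ⟨w, hw⟩ := prod_coboundary ((MulAction.toPermHom A D.C).comp t) (D.act.comp t) (fun r c => D.comp (d r) c)
    (fun r r' c => by
      simp only [MonoidHom.comp_apply, MulAction.toPermHom_apply, Equiv.Perm.inv_def, MulAction.toPerm_symm_apply]
      have hr' := hd r'
      have e : ((g * D.j (r : R) * g⁻¹ * d r' * (g * D.j (r : R) * g⁻¹)⁻¹ : ↥D.E) : D.Wr).right = 1 := by
        simp only [Subgroup.coe_mul, Subgroup.coe_inv, SemidirectProduct.mul_right, SemidirectProduct.inv_right, hr',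
          mul_one, mul_inv_cancel]
      rw [hdmul]
      have hsplit : ∀ {x y : ↥D.E}, (x : D.Wr).right = 1 → (y : D.Wr).right = 1 →
          D.comp (x * y) c = D.comp x c * D.comp y c := fun {x y} hx hy => by
        have e : ((x * y : ↥D.E) : D.Wr).left c = (x : D.Wr).left c * (y : D.Wr).left c := by
          rw [Subgroup.coe_mul, D.wr_mul_left, hx, inv_one, one_smul]
        rw [comp, comp, comp, e, D.toZ_of_mem (D.left_mem_ker hx c), D.toZ_of_mem (D.left_mem_ker hy c),
          D.toZ_of_mem (mul_mem (D.left_mem_ker hx c) (D.left_mem_ker hy c)), ← map_mul]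
        rfl
      rw [hsplit e (hd r), D.comp_conj _ hr', hright]
      rfl)
    (fun c => by
      obtain ⟨z, hz⟩ := hagree c ((g : D.Wr).left c) (g.2 c)
      refine ⟨D.act b z, fun r hr => ?_⟩
      simp only [MonoidHom.comp_apply, MulAction.toPermHom_apply, MulAction.toPerm_apply] at hr ⊢
      have hr : D.π (f r) • c = c := hr
      have hfr : (D.π (f r))⁻¹ • c = c := by rw [inv_smul_eq_iff, hr]
      have hzP : ((z : R)) ∈ P := hQP (D.ker_le z.2)
      have hfz : f (z : R) = (D.act b z : R) := hfQ ⟨z, D.ker_le z.2⟩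
      have hjz : ∀ y : D.Z, D.jfun (y : R) c = (D.act (D.s c)⁻¹ y : R) := fun y => D.jfun_q ⟨y, D.ker_le y.2⟩ c
      set y := D.act b z with hy
      have e1 : f ((z : R) * r * (z : R)⁻¹) = (y : R) * f r * (y : R)⁻¹ := by
        have h1 : f (z : R)⁻¹ = (y : R)⁻¹ := by
          have := hfQ ⟨(z : R)⁻¹, D.ker_le (D.π.ker.inv_mem z.2)⟩
          rw [this, show (⟨(z : R)⁻¹, D.ker_le (D.π.ker.inv_mem z.2)⟩ : ↥D.Q) = ⟨z, D.ker_le z.2⟩⁻¹ from rfl,
            map_inv, Subgroup.coe_inv]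
          rfl
        rw [hfmul _ (mul_mem hzP r.2) _ (inv_mem hzP), hfmul _ hzP _ r.2, hfz, h1]
      have e2 : D.jfun (f ((z : R) * r * (z : R)⁻¹)) c =
          (D.act (D.s c)⁻¹ y : R) * D.jfun (f r) c * (D.act (D.s c)⁻¹ y : R)⁻¹ := by
        have hy1 : (D.π (y : R))⁻¹ • c = c := by rw [(y.2 : D.π y = 1), inv_one, one_smul]
        have hy2 : (D.π ((y : R) * f r))⁻¹ • c = c := by
          rw [map_mul, (y.2 : D.π y = 1), one_mul, hfr]
        rw [e1, D.jfun_mul, D.jfun_mul, hy1, hy2, hjz, ← Subgroup.coe_inv, hjz, map_inv (D.act (D.s c)⁻¹) y, Subgroup.coe_inv]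
      have e3 : ((d r : ↥D.E) : D.Wr).left c =
          (g : D.Wr).left c * D.jfun r (b⁻¹ • c) * ((g : D.Wr).left c)⁻¹ * (D.jfun (f r) c)⁻¹ := by
        have hbc : b • (b * D.π (r : R))⁻¹ • c = c := by
          rw [← mul_smul, show b * (b * D.π (r : R))⁻¹ = (D.π (f r))⁻¹ by rw [hfπ _ r.2, ← hb]; group, hfr]
        simp only [d, Subgroup.coe_mul, Subgroup.coe_inv, D.wr_mul_left, D.wr_inv_left, SemidirectProduct.mul_right,
          SemidirectProduct.inv_right, j_left, j_right, ← hb, hbc]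
        rw [show D.π (f r) • (b * D.π (r : R) * b⁻¹)⁻¹ • c = c by
          rw [hfπ _ r.2, smul_inv_smul]]
      rw [comp, e3, hz r r.2 hr, e2]
      set y' := D.act (D.s c)⁻¹ y with hy'
      have e4 : (y' : R) * D.jfun (f r) c * (y' : R)⁻¹ * (D.jfun (f r) c)⁻¹ =
          ((y' * (D.act (D.π (D.jfun (f r) c)) y')⁻¹ : D.Z) : R) := by
        rw [Subgroup.coe_mul, Subgroup.coe_inv, D.act_conj]
        group
      rw [e4, D.toZ_of_mem (SetLike.coe_mem _), show (⟨_, SetLike.coe_mem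
        (y' * (D.act (D.π (D.jfun (f r) c)) y')⁻¹ : D.Z)⟩ : D.Z) =
        y' * (D.act (D.π (D.jfun (f r) c)) y')⁻¹ from rfl, map_mul, map_inv, ← div_eq_mul_inv, D.jfun_pi, hfr]
      have f1 : D.act (D.s c) y' = y := by
        rw [hy', ← MulAut.mul_apply, ← map_mul, mul_inv_cancel, map_one, MulAut.one_apply]
      have f2 : D.act (D.s c) (D.act ((D.s c)⁻¹ * D.π (f r) * D.s c) y') = D.act (D.π (f r)) y := by
        conv_rhs => rw [← f1, ← MulAut.mul_apply, ← map_mul]
        rw [← MulAut.mul_apply, ← map_mul]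
        congr 2
        group
      rw [f1, f2]
      rfl)
  obtain ⟨z, hz⟩ := D.exists_root w
  refine ⟨z, fun r hr => ?_⟩
  have hdr : D.norm (d ⟨r, hr⟩) = (z / D.act (D.π (f r)) z) ^ D.m := by
    rw [div_pow, ← map_pow, hz]
    exact hw ⟨r, hr⟩
  have hk := D.mk_eq_ι (hd ⟨r, hr⟩) hdr
  have e : ((z / D.act (D.π (f r)) z : D.Z) : R) * f r = (z : R) * f r * (z : R)⁻¹ := by
    rw [div_eq_mul_inv, Subgroup.coe_mul, Subgroup.coe_inv, D.act_conj]
    group
  rw [← e, map_mul, ← hk]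
  show QuotientGroup.mk' D.M g * QuotientGroup.mk' D.M (D.j r) * (QuotientGroup.mk' D.M g)⁻¹ =
    QuotientGroup.mk' D.M (d ⟨r, hr⟩) * QuotientGroup.mk' D.M (D.j (f r))
  rw [← map_inv, ← map_mul, ← map_mul, ← map_mul]
  congr 1
  simp only [d, inv_mul_cancel_right]

end Data

end CfsgLib.ExtNorm
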