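import Cfsg.Agent.Spor.Fischer.ExtraPairing
import Cfsg.Agent.Perm.MinClass
import Cfsg.Agent.Solv.FittingBasic

/-!
An automorphism of order at most two of an extraspecial 2-group: commutators and centre of the
centralizer modulo the centre.
-/

set_option autoImplicit false
set_option linter.unusedSectionVars false

open scoped commutatorElement

namespace CfsgLib.Fus.ExtraInvolution

open CfsgLib.Fischer

variable {E : Type*} [Group E] [Finite E] (hE : Cfsg.IsExtraspecial 2 E)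

include hE

theorem sq_mem (x : E) : x * x ∈ Subgroup.center E := by
  haveI : Fact (Nat.Prime 2) := ⟨Nat.prime_two⟩
  have h := CfsgLib.Solv.pow_mem_frattini hE.1.1 x
  rw [hE.1.2.1, pow_two] at h
  exact h

theorem comm_inv (r a b : E) : ⁅r, a * b⁻¹⁆ = ⁅r, a⁆ * ⁅r, b⁆⁻¹ := by
  have h1 := Extra.comm_mul_right hE r (a * b⁻¹) b
  rw [inv_mul_cancel_right] at h1
  rw [h1, mul_inv_cancel_right]

theorem fix_center (a : E ≃* E) {x : E} (hx : x ∈ Subgroup.center E) : a x = x := by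
  by_cases h1 : x = 1
  · rw [h1, map_one]
  have hx' : a x ∈ Subgroup.center E := Subgroup.mem_center_iff.2 fun g => by
    obtain ⟨g', rfl⟩ := a.surjective g
    rw [← map_mul, ← map_mul, Subgroup.mem_center_iff.1 hx g']
  exact congrArg Subtype.val (Extra.center_cases hE ⟨a x, hx'⟩ ⟨x, hx⟩
    (fun k => h1 (a.injective ((congrArg Subtype.val k).trans (map_one a).symm)))
    (fun k => h1 (congrArg Subtype.val k)))

theorem main (a : E ≃* E) (ha : ∀ x, a (a x) = x) (hne : ∃ x, a x ≠ x) (Q0 : Subgroup E)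
    (hQ0 : ∀ q, q ∈ Q0 ↔ a q * q⁻¹ ∈ Subgroup.center E) (x : E) :
    x ∈ Subgroup.closure (Set.range fun q => a q * q⁻¹) ↔ x ∈ Q0 ∧ ∀ q ∈ Q0, q * x = x * q := by
  haveI : Fact (Nat.Prime 2) := ⟨Nat.prime_two⟩
  set W := Subgroup.closure (Set.range fun q => a q * q⁻¹) with hW
  have hacomm : ∀ r y : E, ⁅a r, a y⁆ = ⁅r, y⁆ := fun r y => by
    rw [← map_commutatorElement]; exact fix_center hE a (Extra.comm_mem hE r y)
  have hcomm : ∀ q : E, ∀ r ∈ Q0, r * (a q * q⁻¹) = (a q * q⁻¹) * r := by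
    intro q r hr
    refine commutatorElement_eq_one_iff_mul_comm.1 ?_
    have h1 : ⁅r, a q⁆ = ⁅r, q⁆ := by
      have h2 := hacomm r q
      have hz := Subgroup.mem_center_iff.1 ((hQ0 r).1 hr)
      have e : a r = (a r * r⁻¹) * r := by group
      rw [← h2, e]
      simp only [commutatorElement_def, mul_inv_rev]
      calc r * a q * r⁻¹ * (a q)⁻¹ = (a r * r⁻¹) * (r * a q * r⁻¹) * (a r * r⁻¹)⁻¹ * (a q)⁻¹ := by
            rw [← hz (r * a q * r⁻¹)]; group
        _ = _ := by group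
    rw [comm_inv hE, h1, mul_inv_cancel]
  constructor
  · intro hx
    refine ⟨?_, fun q hq => ?_⟩
    · refine ((Subgroup.closure_le Q0).2 ?_ :) hx
      rintro _ ⟨q, rfl⟩
      refine (hQ0 _).2 ?_
      rw [map_mul, map_inv, ha, show q * (a q)⁻¹ * (a q * q⁻¹)⁻¹ = ((a q * q⁻¹) * (a q * q⁻¹))⁻¹ by group]
      exact inv_mem (sq_mem hE _)
    · have hle : W ≤ Subgroup.centralizer ({q} : Set E) := by
        rw [hW, Subgroup.closure_le]
        rintro _ ⟨r, rfl⟩
        exact Subgroup.mem_centralizer_singleton_iff.2 (hcomm r q hq).symm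
      exact (Subgroup.mem_centralizer_singleton_iff.1 (hle hx)).symm
  · rintro ⟨hxQ, hxc⟩
    by_contra hxW
    haveI hWn : W.Normal := by
      refine ⟨fun n hn g => ?_⟩
      have : W.map (MulAut.conj g).toMonoidHom ≤ W := by
        rw [hW, MonoidHom.map_closure, Subgroup.closure_le]
        rintro _ ⟨_, ⟨q, rfl⟩, rfl⟩
        show g * (a q * q⁻¹) * g⁻¹ ∈ W
        rw [show g * (a q * q⁻¹) * g⁻¹ = (a g * g⁻¹)⁻¹ * (a (g * q) * (g * q)⁻¹) by rw [map_mul]; group]
        exact mul_mem (inv_mem (Subgroup.subset_closure ⟨g, rfl⟩)) (Subgroup.subset_closure ⟨g * q, rfl⟩)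
      exact this ⟨n, hn, rfl⟩
    have hZW : Subgroup.center E ≤ W := by
      obtain ⟨x0, hx0⟩ := hne
      have hWne : W ≠ ⊥ := fun h => hx0 (mul_inv_eq_one.1 (Subgroup.mem_bot.1 (h.le (Subgroup.subset_closure ⟨x0, rfl⟩))))
      have h := CfsgLib.Perm.inf_center_ne_bot hE.1.1 W hWne
      obtain ⟨w, hw, hw1⟩ := Subgroup.bot_or_exists_ne_one _ |>.resolve_left h
      obtain ⟨hwW, hwZ⟩ := Subgroup.mem_inf.1 hw
      intro c hc
      by_cases h1 : c = 1
      · rw [h1]; exact one_mem _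
      rw [show c = w from congrArg Subtype.val (Extra.center_cases hE ⟨c, hc⟩ ⟨w, hwZ⟩
        (fun k => h1 (congrArg Subtype.val k)) (fun k => hw1 (congrArg Subtype.val k)))]
      exact hwW
    obtain ⟨y, hy, hyx⟩ := Extra.exists_separate hE W (x := x) (by rwa [sup_eq_left.2 hZW])
    refine hyx (hxc y ((hQ0 y).2 (Subgroup.mem_center_iff.2 fun r => ?_)))
    refine commutatorElement_eq_one_iff_mul_comm.1 ?_
    rw [comm_inv hE, mul_inv_eq_one, ← hacomm r (a y), ha]
    have hc : Commute y (a r * r⁻¹) := hy _ (Subgroup.subset_closure ⟨r, rfl⟩)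
    simp only [commutatorElement_def]
    have hz := Subgroup.mem_center_iff.1 (Extra.comm_mem hE r y)
    calc a r * y * (a r)⁻¹ * y⁻¹ = (a r * r⁻¹) * (r * y * r⁻¹ * y⁻¹) * (y * (a r * r⁻¹)⁻¹ * y⁻¹) := by group
      _ = (a r * r⁻¹) * (r * y * r⁻¹ * y⁻¹) * (a r * r⁻¹)⁻¹ := by rw [hc.inv_right.eq]; group
      _ = r * y * r⁻¹ * y⁻¹ := by
        rw [commutatorElement_def] at hz
        rw [hz (a r * r⁻¹)]; group

end CfsgLib.Fus.ExtraInvolution
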