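import Cfsg.Agent.Fus.FactorSaturated

/-!
Surjective morphisms and factor systems are the same thing; images of saturated systems are saturated.
-/

set_option autoImplicit false
set_option linter.style.haveILetI false

open Cfsg Cfsg.FusionSystem

namespace CfsgLib.Fus.Factor

universe u v

variable {Ω : Type u} [Group Ω] {Ω' : Type v} [Group Ω'] {S : Subgroup Ω} {F : FusionSystem S} {p : ℕ}
  {θ : ↥S →* Ω'} {T : Subgroup Ω} {S' : Subgroup Ω'} {E : FusionSystem S'}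

theorem mem_imageAlong {P : Subgroup Ω} {y : Ω'} :
    y ∈ imageAlong θ P ↔ ∃ x ∈ P, x ∈ S ∧ th θ x = y := by
  constructor
  · rintro ⟨x, hx, rfl⟩
    exact ⟨x, hx, x.2, th_coe x⟩
  · rintro ⟨x, hx, hxS, rfl⟩
    exact ⟨⟨x, hxS⟩, hx, (th_of_mem hxS).symm⟩

theorem isSurjectiveMorphism [Finite S] [Fact p.Prime] (hS : IsPGroup p S) (hF : F.IsSaturated p)
    (hT : F.StronglyClosed T) (hE : F.IsFactorSystem T θ E) : F.IsSurjectiveMorphism E θ := by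
  refine ⟨⟨fun s => hE.2.2.1.le ⟨s, rfl⟩, fun P φ hφ => ?_⟩, hE.2.2.1, fun P' hP' φ' hφ' => ((hE.2.2.2 P' φ').1 hφ').2⟩
  have hPS : P ≤ S := (F.le_of_mem hφ).1
  obtain ⟨g, hg, hge⟩ := exists_quot_map hS hF hT (IsMap.of_hom hφ)
  have hle : imageAlong θ P ≤ S' := fun y hy => by
    obtain ⟨x, -, hxS, rfl⟩ := mem_imageAlong.1 hy
    exact th_mem hE hxS
  have hpre : preimageAlong θ (imageAlong θ P) ≤ P ⊔ T := fun x hx => by
    obtain ⟨hxS, hxP⟩ := mem_pre.1 hx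
    obtain ⟨a, ha, haS, hae⟩ := mem_imageAlong.1 hxP
    rw [← mul_inv_cancel_left a x]
    exact Subgroup.mul_mem_sup ha ((th_eq_iff hE haS hxS).1 hae)
  obtain ⟨f', hf', he⟩ := push hT hE hle (hg.mono hpre)
  obtain ⟨φ', hφ', hφe⟩ := hf'
  refine ⟨φ', hφ', hPS, fun x => (F.le_of_mem hφ).2 x, fun x => ⟨⟨x, hPS x.2⟩, x.2, rfl⟩, fun x => ?_⟩
  have hxI : (x : Ω) ∈ preimageAlong θ (imageAlong θ P) :=
    mem_pre.2 ⟨hPS x.2, mem_imageAlong.2 ⟨x, x.2, hPS x.2, rfl⟩⟩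
  rw [hφe]
  show f' (θ ⟨x, hPS x.2⟩) = _
  rw [← th_of_mem (θ := θ) (hPS x.2), he x hxI, ← th_of_mem (θ := θ) ((F.le_of_mem hφ).2 x),
    th_eq_iff hE (hg.mem (hpre hxI)) ((F.le_of_mem hφ).2 x)]
  have := T.inv_mem (hge x x.2)
  rwa [mul_inv_rev, inv_inv, ev_apply] at this

theorem saturated_image [Finite S] [Fact p.Prime] (hS : IsPGroup p S) (hF : F.IsSaturated p) {F' : FusionSystem S'}
    {α : ↥S →* Ω'} (hα : F.IsSurjectiveMorphism F' α) : F'.IsSaturated p := by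
  obtain ⟨⟨hαS, hmor⟩, hrange, hsurj⟩ := hα
  set T := α.ker.map S.subtype
  have hTS : T ≤ S := Subgroup.map_subtype_le _
  have hTm : ∀ s : ↥S, α s = 1 ↔ (s : Ω) ∈ T := fun s =>
    ⟨fun h => ⟨s, h, rfl⟩, fun ⟨t, ht, hts⟩ => (Subtype.ext hts : t = s) ▸ ht⟩
  have hT : F.StronglyClosed T := stronglyClosed_iff.2 ⟨hTS, fun R f hf x hxR hx => by
    obtain ⟨φ, hφ, hφf⟩ := hf
    obtain ⟨φ', -, hP, hφS, hP', hind⟩ := hmor R φ hφ
    have h := hind ⟨x, hxR⟩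
    rw [show (⟨α ⟨x, hP hxR⟩, hP' ⟨x, hxR⟩⟩ : ↥(imageAlong α R)) = 1 from Subtype.ext ((hTm ⟨x, hP hxR⟩).2 hx),
      map_one] at h
    rw [← hφf ⟨x, hxR⟩]
    exact (hTm ⟨_, hφS ⟨x, hxR⟩⟩).1 h.symm⟩
  refine saturated hS hF hT (θ := α) ⟨hTS, hTm, hrange, fun P' φ' => ⟨fun h => ⟨(F'.le_of_mem h).1,
    hsurj P' (F'.le_of_mem h).1 φ' h⟩, ?_⟩⟩
  rintro ⟨hP', φ, hφ, hP, hφS, hP'', hind⟩
  obtain ⟨ψ', hψ', _, _, _, hψ⟩ := hmor _ φ hφ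
  have he : imageAlong α (preimageAlong α P') = P' := le_antisymm (fun y hy => by
    obtain ⟨x, hx, -, rfl⟩ := mem_imageAlong.1 hy
    exact (mem_pre.1 hx).2) fun y hy => by
    obtain ⟨x, rfl⟩ := hrange.ge (hP' hy)
    exact mem_imageAlong.2 ⟨x, mem_preimageAlong.2 ⟨x.2, hy⟩, x.2, th_coe x⟩
  have hm : IsMap F' P' (ev ψ') := (IsMap.of_hom hψ').mono he.ge
  refine hm.hom_mem fun y => ?_
  obtain ⟨x, hx⟩ := hrange.ge (hP' y.2)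
  have hxP : (x : Ω) ∈ preimageAlong α P' := mem_preimageAlong.2 ⟨x.2, by
    show α x ∈ P'
    rw [hx]; exact y.2⟩
  have h1 : y = ⟨α ⟨x, hP hxP⟩, hP'' ⟨x, hxP⟩⟩ := Subtype.ext hx.symm
  rw [h1, hind ⟨x, hxP⟩, ev_of_mem ψ' (he.ge (hP'' ⟨x, hxP⟩))]
  exact (hψ ⟨x, hxP⟩).symm

end CfsgLib.Fus.Factor
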