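import Cfsg.Agent.Fus.Constructions
import Cfsg.Agent.Fus.Quotient
import Cfsg.Agent.Fus.Normal
import Cfsg.Agent.Fus.Equivalent

/-!
Factor systems of saturated fusion systems by strongly closed subgroups: maps in function language, saturation, and the
correspondence with surjective morphisms.
-/

set_option autoImplicit false
set_option linter.style.haveILetI false
set_option linter.unusedSectionVars false

open Cfsg Cfsg.FusionSystem

namespace CfsgLib.Fus.Factor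

universe u v

variable {Ω : Type u} [Group Ω] {Ω' : Type v} [Group Ω'] {S : Subgroup Ω} {F : FusionSystem S} {p : ℕ}

open scoped Classical in
/-- The homomorphism on `S` as a function on the ambient group. -/
noncomputable def th (θ : ↥S →* Ω') (x : Ω) : Ω' := if h : x ∈ S then θ ⟨x, h⟩ else 1

variable {θ : ↥S →* Ω'}

theorem th_of_mem {x : Ω} (h : x ∈ S) : th θ x = θ ⟨x, h⟩ := dif_pos h

theorem th_coe (x : ↥S) : th θ (x : Ω) = θ x := th_of_mem x.2

theorem th_mul {a b : Ω} (ha : a ∈ S) (hb : b ∈ S) : th θ (a * b) = th θ a * th θ b := by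
  rw [th_of_mem ha, th_of_mem hb, th_of_mem (S.mul_mem ha hb), ← map_mul]
  rfl

theorem th_inv {a : Ω} (ha : a ∈ S) : th θ a⁻¹ = (th θ a)⁻¹ := by
  rw [th_of_mem ha, th_of_mem (S.inv_mem ha), ← map_inv]
  rfl

theorem th_conj {a b : Ω} (ha : a ∈ S) (hb : b ∈ S) : th θ (a * b * a⁻¹) = th θ a * th θ b * (th θ a)⁻¹ := by
  rw [th_mul (S.mul_mem ha hb) (S.inv_mem ha), th_mul ha hb, th_inv ha]

theorem mem_pre {P' : Subgroup Ω'} {x : Ω} : x ∈ preimageAlong θ P' ↔ x ∈ S ∧ th θ x ∈ P' :=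
  ⟨fun h => by
    obtain ⟨hS, hP⟩ := mem_preimageAlong.1 h
    exact ⟨hS, by rw [th_of_mem (θ := θ) hS]; exact hP⟩,
  fun h => mem_preimageAlong.2 ⟨h.1, by rw [← th_of_mem (θ := θ) h.1]; exact h.2⟩⟩

variable {T : Subgroup Ω} {S' : Subgroup Ω'} {E : FusionSystem S'}

theorem th_eq_one (hE : F.IsFactorSystem T θ E) {x : Ω} (hx : x ∈ S) : th θ x = 1 ↔ x ∈ T := by
  rw [th_of_mem hx]; exact hE.2.1 _

theorem th_mem (hE : F.IsFactorSystem T θ E) {x : Ω} (hx : x ∈ S) : th θ x ∈ S' := by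
  rw [th_of_mem hx]; exact hE.2.2.1.le ⟨_, rfl⟩

theorem th_surj (hE : F.IsFactorSystem T θ E) {y : Ω'} (hy : y ∈ S') : ∃ x ∈ S, th θ x = y := by
  obtain ⟨x, rfl⟩ := hE.2.2.1.ge hy
  exact ⟨x, x.2, th_coe x⟩

theorem le_pre (hE : F.IsFactorSystem T θ E) (P' : Subgroup Ω') : T ≤ preimageAlong θ P' := fun t ht =>
  mem_pre.2 ⟨hE.1 ht, ((th_eq_one hE (hE.1 ht)).2 ht).symm ▸ P'.one_mem⟩

theorem th_eq_iff (hE : F.IsFactorSystem T θ E) {a b : Ω} (ha : a ∈ S) (hb : b ∈ S) :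
    th θ a = th θ b ↔ a⁻¹ * b ∈ T := by
  rw [← th_eq_one hE (S.mul_mem (S.inv_mem ha) hb), th_mul (S.inv_mem ha) hb, th_inv ha, inv_mul_eq_one]

theorem card_factor_lt [Finite S] (hE : F.IsFactorSystem T θ E) (hT : T ≠ ⊥) : Nat.card S' < Nat.card S := by
  have hk : θ.ker ≠ ⊥ := by
    intro h
    refine hT (eq_bot_iff.2 fun t ht => ?_)
    have h1 : (⟨t, hE.1 ht⟩ : ↥S) ∈ θ.ker := (hE.2.1 _).2 ht
    rw [h, Subgroup.mem_bot] at h1
    exact Subgroup.mem_bot.2 (congrArg Subtype.val h1)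
  have h2 : Nat.card S' = θ.ker.index := by rw [← hE.2.2.1, Subgroup.index_ker]
  rw [h2, ← θ.ker.card_mul_index]
  exact lt_mul_left θ.ker.index_ne_zero_of_finite.bot_lt ((Subgroup.one_lt_card_iff_ne_bot _).2 hk)

theorem finite_range [Finite S] (hE : F.IsFactorSystem T θ E) : Finite ↥S' :=
  hE.2.2.1 ▸ Finite.of_surjective _ θ.rangeRestrict_surjective

theorem isPGroup_range (hS : IsPGroup p S) (hE : F.IsFactorSystem T θ E) : IsPGroup p ↥S' :=
  hE.2.2.1 ▸ hS.of_surjective θ.rangeRestrict θ.rangeRestrict_surjective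

/-- A map of the factor system lifts to the preimage. -/
theorem lift (hE : F.IsFactorSystem T θ E) {P' : Subgroup Ω'} {f' : Ω' → Ω'} (h : IsMap E P' f') :
    ∃ f, IsMap F (preimageAlong θ P') f ∧ ∀ x ∈ preimageAlong θ P', f' (th θ x) = th θ (f x) := by
  obtain ⟨φ', hφ', he⟩ := h
  obtain ⟨-, φ, hφ, hP, hφS, hP', hind⟩ := (hE.2.2.2 P' φ').1 hφ'
  refine ⟨ev φ, IsMap.of_hom hφ, fun x hx => ?_⟩
  rw [ev_of_mem φ hx, th_of_mem (hP hx), th_of_mem (hφS ⟨x, hx⟩), ← hind ⟨x, hx⟩]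
  exact (he ⟨_, hP' ⟨x, hx⟩⟩).symm

/-- A map on a preimage pushes down. -/
theorem push (hT : F.StronglyClosed T) (hE : F.IsFactorSystem T θ E) {P' : Subgroup Ω'} (hP' : P' ≤ S') {f : Ω → Ω}
    (hf : IsMap F (preimageAlong θ P') f) :
    ∃ f', IsMap E P' f' ∧ ∀ x ∈ preimageAlong θ P', f' (th θ x) = th θ (f x) := by
  have hex : ∀ y : ↥P', ∃ x ∈ preimageAlong θ P', th θ x = y := fun y => by
    obtain ⟨x, hx, hxy⟩ := th_surj hE (hP' y.2)
    exact ⟨x, mem_pre.2 ⟨hx, hxy.symm ▸ y.2⟩, hxy⟩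
  choose r hr hry using hex
  have hcong : ∀ a ∈ preimageAlong θ P', ∀ b ∈ preimageAlong θ P', th θ a = th θ b → th θ (f a) = th θ (f b) := by
    intro a ha b hb h
    rw [th_eq_iff hE (mem_pre.1 ha).1 (mem_pre.1 hb).1] at h
    rw [th_eq_iff hE (hf.mem ha) (hf.mem hb), ← hf.map_inv ha, ← hf.map_mul (Subgroup.inv_mem _ ha) hb]
    exact (stronglyClosed_iff.1 hT).2 _ f hf _ (Subgroup.mul_mem _ (Subgroup.inv_mem _ ha) hb) h
  let φ' : ↥P' →* Ω' := MonoidHom.mk' (fun y => th θ (f (r y))) fun a b => by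
    rw [← th_mul (hf.mem (hr a)) (hf.mem (hr b)), ← hf.map_mul (hr a) (hr b)]
    refine hcong _ (hr _) _ (Subgroup.mul_mem _ (hr a) (hr b)) ?_
    rw [th_mul (mem_pre.1 (hr a)).1 (mem_pre.1 (hr b)).1, hry, hry, hry, Subgroup.coe_mul]
  have hval : ∀ x, ∀ hx : x ∈ preimageAlong θ P', φ' ⟨th θ x, (mem_pre.1 hx).2⟩ = th θ (f x) := fun x hx =>
    hcong _ (hr _) _ hx (hry _)
  obtain ⟨φ, hφ, hφf⟩ := hf
  have hf : IsMap F (preimageAlong θ P') f := ⟨φ, hφ, hφf⟩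
  have hmem : φ' ∈ E.Hom P' := by
    refine (hE.2.2.2 P' φ').2 ⟨hP', φ, hφ, preimageAlong_le, fun x => (F.le_of_mem hφ).2 x,
      fun x => (mem_preimageAlong.1 x.2).2, fun x => ?_⟩
    rw [← th_of_mem ((F.le_of_mem hφ).2 x), hφf x, ← hval x x.2]
    exact congrArg φ' (Subtype.ext (th_of_mem (preimageAlong_le x.2)).symm)
  refine ⟨ev φ', IsMap.of_hom hmem, fun x hx => ?_⟩
  rw [ev_of_mem φ' (mem_pre.1 hx).2]
  exact hval x hx

theorem img_lift (hE : F.IsFactorSystem T θ E) (hT : F.StronglyClosed T) [Finite S] {P' Q' : Subgroup Ω'} {f : Ω → Ω}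
    {f' : Ω' → Ω'} (hf : IsMap F (preimageAlong θ P') f) (hP' : P' ≤ S') (hf' : IsMap E P' f')
    (he : ∀ x ∈ preimageAlong θ P', f' (th θ x) = th θ (f x)) (hQ : img f' P' = Q') :
    img f (preimageAlong θ P') = preimageAlong θ Q' := by
  haveI := finite_of_le hT.1
  refine le_antisymm (img_le_iff.2 fun x hx => mem_pre.2 ⟨hf.mem hx, ?_⟩) fun y hy => ?_
  · rw [← he x hx, ← hQ]; exact mem_img_of_mem (mem_pre.1 hx).2
  obtain ⟨hyS, hyQ⟩ := mem_pre.1 hy
  rw [← hQ] at hyQ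
  obtain ⟨z, hz, hzy⟩ := hf'.mem_img.1 hyQ
  obtain ⟨x, hx, rfl⟩ := th_surj hE (hP' hz)
  have hxP : x ∈ preimageAlong θ P' := mem_pre.2 ⟨hx, hz⟩
  rw [he x hxP, th_eq_iff hE (hf.mem hxP) hyS] at hzy
  have hTi : img f T = T := Subgroup.eq_of_le_of_card_ge
    (img_le_iff.2 fun t ht => (stronglyClosed_iff.1 hT).2 _ f hf t (le_pre hE P' ht) ht)
    (hf.mono (le_pre hE P')).card_img.ge
  obtain ⟨t, ht, hte⟩ := (hf.mono (le_pre hE P')).mem_img.1 (hTi.ge hzy)
  rw [← mul_inv_cancel_left (f x) y, ← hte, ← hf.map_mul hxP (le_pre hE P' ht)]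
  exact mem_img_of_mem (Subgroup.mul_mem _ hxP (le_pre hE P' ht))

theorem mem_normalizer_pre (hE : F.IsFactorSystem T θ E) {P' : Subgroup Ω'} {x : Ω} :
    x ∈ normalizerIn S (preimageAlong θ P') ↔ x ∈ S ∧ (P' ≤ S' → th θ x ∈ Subgroup.normalizer (P' : Set Ω')) ∧
      x ∈ Subgroup.normalizer (preimageAlong θ P' : Set Ω) := by
  refine ⟨fun h => ⟨h.1, fun hP' => mem_normalizer_of_conj (fun y hy => ?_) fun y hy => ?_, h.2⟩,
    fun h => ⟨h.1, h.2.2⟩⟩
  · obtain ⟨z, hz, rfl⟩ := th_surj hE (hP' hy)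
    rw [← th_conj h.1 hz]
    exact (mem_pre.1 (conj_mem_of_normalizer h.2 (mem_pre.2 ⟨hz, hy⟩))).2
  · obtain ⟨z, hz, rfl⟩ := th_surj hE (hP' hy)
    have h2 := conj_mem_of_normalizer' h.2 (show z ∈ preimageAlong θ P' from mem_pre.2 ⟨hz, hy⟩)
    rw [← th_inv h.1, ← th_mul (S.inv_mem h.1) hz, ← th_mul (S.mul_mem (S.inv_mem h.1) hz) h.1]
    exact (mem_pre.1 h2).2

theorem normalizer_pre_eq (hE : F.IsFactorSystem T θ E) {P' : Subgroup Ω'} (hP' : P' ≤ S') :
    normalizerIn S (preimageAlong θ P') = preimageAlong θ (normalizerIn S' P') := by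
  refine le_antisymm (fun x hx => ?_) fun x hx => ?_
  · obtain ⟨h1, h2, -⟩ := (mem_normalizer_pre hE).1 hx
    exact mem_pre.2 ⟨h1, th_mem hE h1, h2 hP'⟩
  · obtain ⟨hxS, hxN⟩ := mem_pre.1 hx
    refine ⟨hxS, mem_normalizer_of_conj (fun y hy => ?_) fun y hy => ?_⟩
    · obtain ⟨hyS, hyP⟩ := mem_pre.1 hy
      exact mem_pre.2 ⟨S.mul_mem (S.mul_mem hxS hyS) (S.inv_mem hxS), th_conj (θ := θ) hxS hyS ▸
        conj_mem_of_normalizer hxN.2 hyP⟩
    · obtain ⟨hyS, hyP⟩ := mem_pre.1 hy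
      refine mem_pre.2 ⟨S.mul_mem (S.mul_mem (S.inv_mem hxS) hyS) hxS, ?_⟩
      rw [th_mul (S.mul_mem (S.inv_mem hxS) hyS) hxS, th_mul (S.inv_mem hxS) hyS, th_inv hxS]
      exact conj_mem_of_normalizer' hxN.2 hyP

theorem card_pre [Finite S] (hE : F.IsFactorSystem T θ E) {P' : Subgroup Ω'} (hP' : P' ≤ S') :
    Nat.card ↥(preimageAlong θ P') = Nat.card ↥T * Nat.card ↥P' := by
  haveI := finite_range hE
  have h1 : Nat.card ↥(preimageAlong θ P') = Nat.card ↥(P'.comap θ) :=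
    Subgroup.card_map_of_injective S.subtype_injective
  have h2 : θ.ker ≤ P'.comap θ := fun x hx => by
    rw [Subgroup.mem_comap, MonoidHom.mem_ker.1 hx]; exact P'.one_mem
  have h3 : Nat.card ↥θ.ker = Nat.card ↥T := by
    have : θ.ker = T.subgroupOf S := by
      ext x; rw [MonoidHom.mem_ker, Subgroup.mem_subgroupOf]; exact hE.2.1 x
    rw [this, Nat.card_congr (Subgroup.subgroupOfEquivOfLe hE.1).toEquiv]
  have h4 : (P'.comap θ).map θ = P' := by
    rw [Subgroup.map_comap_eq, inf_eq_right]; exact hE.2.2.1 ▸ hP'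
  let g : ↥(P'.comap θ) →* ↥P' := (θ.comp (P'.comap θ).subtype).codRestrict P' fun x => x.2
  have hg : Function.Surjective g := fun y => by
    obtain ⟨x, hx, hxy⟩ := h4.ge y.2
    exact ⟨⟨x, hx⟩, Subtype.ext hxy⟩
  have h5 : g.ker = θ.ker.subgroupOf (P'.comap θ) := by
    ext x
    rw [MonoidHom.mem_ker, Subgroup.mem_subgroupOf, MonoidHom.mem_ker, Subtype.ext_iff]
    rfl
  rw [h1, ← g.ker.card_mul_index, h5, Nat.card_congr (Subgroup.subgroupOfEquivOfLe h2).toEquiv, h3, ← h5,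
    Subgroup.index_ker, MonoidHom.range_eq_top.2 hg, Subgroup.card_top]

theorem pre_fullyNormalized [Finite S] (hT : F.StronglyClosed T) (hE : F.IsFactorSystem T θ E) {P' : Subgroup Ω'}
    (hP' : E.IsFullyNormalized P') : F.IsFullyNormalized (preimageAlong θ P') := by
  haveI := finite_of_le hT.1
  refine ⟨preimageAlong_le, fun Q hQ => ?_⟩
  obtain ⟨f, hf, rfl⟩ := isConj_iff.1 hQ
  obtain ⟨f', hf', he⟩ := push hT hE hP'.1 hf
  have himg := img_lift hE hT hf hP'.1 hf' he rfl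
  rw [himg, normalizer_pre_eq hE hP'.1, normalizer_pre_eq hE hf'.img_le, card_pre hE (normalizerIn_le _),
    card_pre hE (normalizerIn_le _)]
  exact Nat.mul_le_mul_left _ (hP'.2 _ (isConj_iff.2 ⟨f', hf', rfl⟩))

/-- The factor system of a saturated system by a strongly closed subgroup is saturated. -/
theorem saturated [Finite S] [Fact p.Prime] (hS : IsPGroup p S) (hF : F.IsSaturated p) (hT : F.StronglyClosed T)
    (hE : F.IsFactorSystem T θ E) : E.IsSaturated p := by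
  classical
  haveI := finite_range hE
  have hS' := isPGroup_range hS hE
  refine (saturated_iff_weak hS').2 ⟨?_, fun P' hP'n => ?_⟩
  · refine (fa_iff hS').2 ⟨le_rfl, ?_⟩
    have hfa := ((fa_iff hS).1 (fullyNormalized_spec hS hF (fullyNormalized_top (F := F))).1).2
    have hpre : preimageAlong θ S' = S :=
      le_antisymm preimageAlong_le fun x hx => mem_pre.2 ⟨hx, th_mem hE hx⟩
    have hex : ∀ α : ↥(F.autGroup S), ∃ β ∈ E.autGroup S', ∀ x ∈ S, autFun β (th θ x) = th θ (autFun (α : MulAut S) x) := by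
      intro α
      have hm := (mem_autGroup le_rfl).1 α.2
      obtain ⟨f', hf', he⟩ := push hT hE (f := autFun (α : MulAut S)) (le_refl S') (by rw [hpre]; exact hm)
      have hi : img f' S' = S' := le_antisymm hf'.img_le fun y hy => by
        obtain ⟨x, hx, rfl⟩ := th_surj hE hy
        have hx' := autFun_mem (α : MulAut S)⁻¹ hx
        rw [← autFun_inv_apply (α : MulAut S) hx, ← he _ (hpre.symm ▸ hx')]
        exact mem_img_of_mem (th_mem hE hx')
      obtain ⟨β, hβ, hβe⟩ := exists_aut hf' hi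
      exact ⟨β, hβ, fun x hx => by rw [hβe _ (th_mem hE hx)]; exact he x (hpre.symm ▸ hx)⟩
    choose r hrA hr using hex
    let ρ : ↥(F.autGroup S) →* ↥(E.autGroup S') := MonoidHom.mk' (fun α => ⟨r α, hrA α⟩) fun a b =>
      Subtype.ext (aut_ext fun y hy => by
        obtain ⟨x, hx, rfl⟩ := th_surj hE hy
        rw [Subgroup.coe_mul, autFun_mul _ _ (th_mem hE hx), hr _ x hx, hr _ x hx,
          hr _ _ (autFun_mem _ hx), Subgroup.coe_mul, autFun_mul _ _ hx])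
    have hρs : Function.Surjective ρ := by
      rintro ⟨β, hβ⟩
      obtain ⟨f, hf, he⟩ := lift hE ((mem_autGroup le_rfl).1 hβ)
      rw [hpre] at hf
      obtain ⟨α, hα, hαe⟩ := exists_aut hf (Subgroup.eq_of_le_of_card_ge hf.img_le hf.card_img.ge)
      refine ⟨⟨α, hα⟩, Subtype.ext (aut_ext fun y hy => ?_)⟩
      obtain ⟨x, hx, rfl⟩ := th_surj hE hy
      show autFun (r ⟨α, hα⟩) _ = _
      rw [hr _ x hx, he x (hpre.symm ▸ hx)]
      exact congrArg _ (hαe x hx)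
    have hmap : ((autInducedBy S S).subgroupOf (F.autGroup S)).map ρ ≤ (autInducedBy S' S').subgroupOf (E.autGroup S') := by
      rintro _ ⟨α, hα, rfl⟩
      obtain ⟨g, hg, hge⟩ := mem_autInducedBy.1 (Subgroup.mem_subgroupOf.1 hα)
      refine mem_autInducedBy.2 ⟨th θ g, th_mem hE hg, fun y hy => ?_⟩
      obtain ⟨x, hx, rfl⟩ := th_surj hE hy
      show autFun (r α) _ = _
      rw [hr _ x hx, hge x hx, th_conj hg hx]
    intro hd
    exact hfa ((hd.trans (Subgroup.index_dvd_of_le hmap)).trans (Subgroup.index_map_dvd _ hρs))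
  -- receptivity
  have hPn := pre_fullyNormalized hT hE hP'n
  obtain ⟨hA, hrec⟩ := fullyNormalized_spec hS hF hPn
  refine isReceptive_of hP'n.1 fun R' M' f' hf' hfi hRM hM hMf => ?_
  set P := preimageAlong θ P' with hP
  set R := preimageAlong θ R' with hR
  have hR'S : R' ≤ S' := hf'.le
  have hM'S : M' ≤ S' := hM.trans (normalizerIn_le R')
  obtain ⟨f, hf, he⟩ := lift hE hf'
  have hfR : img f R = P := img_lift hE hT hf hR'S hf' he hfi
  obtain ⟨k, hk, hkl, hkr, hki⟩ := hf.inv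
  rw [hfR] at hk hkr hki
  haveI := finite_mulAut (S := S) hPn.1
  haveI := finite_of_le hPn.1
  set A := F.autGroup P with hAdef
  let K : Subgroup (MulAut P) :=
    { carrier := {κ | κ ∈ F.autGroup P ∧ ∀ x ∈ P, th θ (autFun κ x) = th θ x}
      one_mem' := ⟨Subgroup.one_mem _, fun x hx => by rw [autFun_one hx]⟩
      mul_mem' := fun {a b} ha hb => ⟨Subgroup.mul_mem _ ha.1 hb.1, fun x hx => by
        rw [autFun_mul _ _ hx, ha.2 _ (autFun_mem b hx), hb.2 x hx]⟩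
      inv_mem' := fun {a} ha => ⟨Subgroup.inv_mem _ ha.1, fun x hx => by
        have h := ha.2 _ (autFun_mem a⁻¹ hx)
        rw [autFun_inv_apply a hx] at h
        exact h.symm⟩ }
  -- conjugations transported by the lift
  have hcM : ∀ g ∈ preimageAlong θ M', g ∈ normalizerIn S R := fun g hg => by
    rw [hR, normalizer_pre_eq hE hR'S]
    exact mem_pre.2 ⟨(mem_pre.1 hg).1, hM (mem_pre.1 hg).2⟩
  let tr : ↥(preimageAlong θ M') → MulAut P → Prop := fun g α => ∀ x ∈ R, autFun α (f x) = f ((g : Ω) * x * (g : Ω)⁻¹)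
  have htrex : ∀ g : ↥(preimageAlong θ M'), ∃ α ∈ F.autGroup P, tr g α ∧
      ∃ s ∈ S, s ∈ Subgroup.normalizer (P : Set Ω) ∧ ∀ x ∈ P, th θ (autFun α x) = th θ (s * x * s⁻¹) := by
    intro g
    have hgn := hcM g g.2
    have hc : IsMap F R (conjF (g : Ω)) := IsMap.conj F hf.le hgn.1
    have hm : IsMap F P ((f ∘ conjF (g : Ω)) ∘ k) := hk.comp (hc.comp hf fun x hx => conj_mem_of_normalizer hgn.2 hx)
      fun y hy => hki.le (mem_img_of_mem hy)
    have hi : img ((f ∘ conjF (g : Ω)) ∘ k) P = P := Subgroup.eq_of_le_of_card_ge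
      (img_le_iff.2 fun y hy => hfR ▸ mem_img_of_mem (conj_mem_of_normalizer hgn.2 (hki.le (mem_img_of_mem hy))))
      hm.card_img.ge
    obtain ⟨α, hα, hαe⟩ := exists_aut hm hi
    refine ⟨α, hα, fun x hx => ?_, ?_⟩
    · rw [hαe _ (hfR.le (mem_img_of_mem hx))]
      simp only [Function.comp_apply, conjF_apply, hkl x hx]
    obtain ⟨s', hs', hse⟩ := hMf _ (mem_pre.1 g.2).2
    obtain ⟨s, hs, rfl⟩ := th_surj hE hs'
    have hval : ∀ x ∈ P, th θ (autFun α x) = th θ s * th θ x * (th θ s)⁻¹ := by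
      intro x hx
      obtain ⟨hkx, hfk⟩ := And.intro (hki.le (mem_img_of_mem hx)) (hkr x hx)
      have hconjR : (g : Ω) * k x * (g : Ω)⁻¹ ∈ R := conj_mem_of_normalizer hgn.2 hkx
      rw [hαe x hx]
      simp only [Function.comp_apply, conjF_apply]
      rw [← he _ hconjR, th_conj hgn.1 (preimageAlong_le hkx), hse _ (mem_pre.1 hkx).2, he _ hkx, hfk]
    refine ⟨s, hs, ?_, fun x hx => (hval x hx).trans (th_conj hs (preimageAlong_le hx)).symm⟩
    refine mem_normalizer_of_conj (fun x hx => ?_) fun x hx => ?_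
    · refine mem_pre.2 ⟨S.mul_mem (S.mul_mem hs (preimageAlong_le hx)) (S.inv_mem hs), ?_⟩
      rw [th_conj hs (preimageAlong_le hx), ← hval x hx]
      exact (mem_pre.1 (autFun_mem α hx)).2
    · have hxS := preimageAlong_le hx
      have hy := autFun_mem α⁻¹ hx
      have h := hval _ hy
      rw [autFun_inv_apply α hx] at h
      refine mem_pre.2 ⟨S.mul_mem (S.mul_mem (S.inv_mem hs) hxS) hs, ?_⟩
      rw [th_mul (S.mul_mem (S.inv_mem hs) hxS) hs, th_mul (S.inv_mem hs) hxS, th_inv hs, h,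
        show (th θ s)⁻¹ * (th θ s * th θ (autFun α⁻¹ x) * (th θ s)⁻¹) * th θ s = th θ (autFun α⁻¹ x) by group]
      exact (mem_pre.1 hy).2
  choose c hcA hctr hcs using htrex
  let χ : ↥(preimageAlong θ M') →* ↥(F.autGroup P) := MonoidHom.mk' (fun g => ⟨c g, hcA g⟩) fun a b =>
    Subtype.ext (aut_ext fun y hy => by
      obtain ⟨x, hx, rfl⟩ := hf.mem_img.1 (hfR.ge hy)
      rw [Subgroup.coe_mul, autFun_mul _ _ hy, hctr _ x hx, hctr b x hx,
        hctr a _ (conj_mem_of_normalizer (hcM b b.2).2 hx), Subgroup.coe_mul]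
      exact congrArg f (by group))
  obtain ⟨Rs, hRs⟩ := hA.2
  haveI hKn : (K.subgroupOf A).Normal := ⟨fun a ha b => by
    rw [Subgroup.mem_subgroupOf] at ha ⊢
    refine ⟨(b * a * b⁻¹ : ↥A).2, fun x hx => ?_⟩
    have hx' := autFun_mem (b : MulAut P)⁻¹ hx
    rw [Subgroup.coe_mul, Subgroup.coe_mul, Subgroup.coe_inv, autFun_conj _ _ hx]
    conv_rhs => rw [← autFun_inv_apply (b : MulAut P) hx]
    have h1 := (th_eq_iff hE (preimageAlong_le (autFun_mem _ hx')) (preimageAlong_le hx')).1 (ha.2 _ hx')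
    rw [th_eq_iff hE (preimageAlong_le (autFun_mem _ (autFun_mem _ hx'))) (preimageAlong_le (autFun_mem _ hx')),
      ← autFun_map_inv _ (autFun_mem _ hx'), ← autFun_map_mul _ (P.inv_mem (autFun_mem _ hx')) hx']
    exact autFun_mem_of_stronglyClosed hT hPn.1 b.2 (P.mul_mem (P.inv_mem (autFun_mem _ hx')) hx') h1⟩
  set H := (Rs : Subgroup ↥A) ⊔ K.subgroupOf A with hH
  have hχH : χ.range ≤ H := by
    rintro _ ⟨g, rfl⟩
    obtain ⟨s, hs, hsn, hsv⟩ := hcs g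
    obtain ⟨γ, hγT, hγ⟩ := exists_autInducedBy (K := S) (P := P) hs hsn
    have hγA : γ ∈ A := autInducedBy_le_autGroup hPn.1 hγT
    have h1 : (⟨γ, hγA⟩ : ↥A)⁻¹ * χ g ∈ K.subgroupOf A := by
      rw [Subgroup.mem_subgroupOf]
      refine ⟨((⟨γ, hγA⟩ : ↥A)⁻¹ * χ g).2, fun x hx => ?_⟩
      rw [Subgroup.coe_mul, Subgroup.coe_inv, autFun_mul _ _ hx]
      show th θ (autFun γ⁻¹ (autFun (c g) x)) = th θ x
      have hcx := autFun_mem (c g) hx
      have h2 := (hsv x hx).trans (congrArg (th θ) (hγ x hx).symm)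
      have h3 := (th_eq_iff hE (preimageAlong_le hcx) (preimageAlong_le (autFun_mem γ hx))).1 h2
      conv_rhs => rw [← autFun_inv_apply' γ hx]
      rw [th_eq_iff hE (preimageAlong_le (autFun_mem _ hcx)) (preimageAlong_le (autFun_mem _ (autFun_mem _ hx))),
        ← autFun_map_inv _ hcx, ← autFun_map_mul _ (P.inv_mem hcx) (autFun_mem γ hx)]
      exact autFun_mem_of_stronglyClosed hT hPn.1 (Subgroup.inv_mem _ hγA) (P.mul_mem (P.inv_mem hcx) (autFun_mem γ hx)) h3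
    rw [show χ g = (⟨γ, hγA⟩ : ↥A) * ((⟨γ, hγA⟩ : ↥A)⁻¹ * χ g) from (mul_inv_cancel_left _ _).symm]
    exact Subgroup.mul_mem _ (Subgroup.mem_sup_left (hRs.ge hγT)) (Subgroup.mem_sup_right h1)
  obtain ⟨Y, hY⟩ := (((hS.to_le preimageAlong_le).of_surjective χ.rangeRestrict χ.rangeRestrict_surjective).comap_subtype
    (K := H)).exists_le_sylow
  have hsyl : ¬ p ∣ ((Rs : Subgroup ↥A).subgroupOf H).index := fun hd =>
    Rs.not_dvd_index (hd.trans (Subgroup.relIndex_dvd_index_of_le le_sup_left))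
  let R0 : Sylow p ↥H := (Rs.isPGroup'.comap_subtype (K := H)).toSylow hsyl
  obtain ⟨⟨h0, h0H⟩, hh⟩ := MulAction.exists_smul_eq ↥H Y R0
  obtain ⟨t, ht, κ, hκ, rfl⟩ := Subgroup.mem_sup_of_normal_right.1 h0H
  have hgood : ∀ g, κ * χ g * κ⁻¹ ∈ (Rs : Subgroup ↥A) := by
    intro g
    have h1 : MulAut.conj (⟨t * κ, h0H⟩ : ↥H) • (⟨χ g, hχH ⟨g, rfl⟩⟩ : ↥H) ∈ (R0 : Subgroup ↥H) := by
      rw [← hh, Sylow.coe_subgroup_smul]
      exact Subgroup.smul_mem_pointwise_smul _ _ _ (hY (show (χ g : ↥A) ∈ χ.range from ⟨g, rfl⟩))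
    have h2 : t * κ * χ g * (t * κ)⁻¹ ∈ (Rs : Subgroup ↥A) := h1
    have := Subgroup.mul_mem _ (Subgroup.mul_mem _ (Subgroup.inv_mem _ ht) h2) ht
    rwa [show t⁻¹ * (t * κ * χ g * (t * κ)⁻¹) * t = κ * χ g * κ⁻¹ by group] at this
  have hκm : IsMap F P (autFun (κ : MulAut P)) := (mem_autGroup hPn.1).1 κ.2
  have hm : IsMap F R (autFun (κ : MulAut P) ∘ f) := hf.comp hκm fun x hx => hfR.le (mem_img_of_mem hx)
  have hmi : img (autFun (κ : MulAut P) ∘ f) R = P := by rw [hf.img_comp, hfR, img_autFun]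
  obtain ⟨F', hF', hF'e⟩ := extend hrec hm hmi (N := preimageAlong θ M') fun g hg => by
    refine ⟨(hcM g hg).1, (hcM g hg).2, ?_⟩
    obtain ⟨s, hs, hse⟩ := mem_autInducedBy.1 (hRs.le (hgood ⟨g, hg⟩))
    refine ⟨s, hs, fun x hx => ?_⟩
    have hfx : f x ∈ P := hfR.le (mem_img_of_mem hx)
    have h1 := hse _ (autFun_mem (κ : MulAut P) hfx)
    rw [Subgroup.coe_subtype, Subgroup.coe_mul, Subgroup.coe_mul, Subgroup.coe_inv] at h1
    rw [autFun_conj _ _ (autFun_mem _ hfx), autFun_inv_apply' _ hfx] at h1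
    simp only [Function.comp_apply]
    rw [← hctr ⟨g, hg⟩ x hx]
    exact h1
  obtain ⟨f'', hf'', he''⟩ := push hT hE hM'S (hF'.mono le_sup_right)
  refine ⟨f'', hf'', fun y hy => ?_⟩
  obtain ⟨x, hx, rfl⟩ := th_surj hE (hR'S hy)
  have hxR : x ∈ R := mem_pre.2 ⟨hx, hy⟩
  rw [he'' x (mem_pre.2 ⟨hx, hRM hy⟩), hF'e x hxR, he x hxR, Function.comp_apply]
  exact (Subgroup.mem_subgroupOf.1 hκ).2 _ (hfR.le (mem_img_of_mem hxR))

end CfsgLib.Fus.Factor
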