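import Cfsg.Agent.Inv.ZJComplement

/-!
The Glauberman-Thompson criterion for a family of abelian subgroups with the invariance and replacement properties.
-/

set_option autoImplicit false
set_option linter.style.haveILetI false
set_option linter.deprecated false
set_option linter.unusedSectionVars false

open Cfsg
open scoped commutatorElement

namespace CfsgLib.Glau.Family

open CfsgLib.Solv CfsgLib.Glau CfsgLib.Inv.ZJ

universe u

/-- The intersection of the members of the family inside `Q`. -/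
def inter {G : Type*} [Group G] (𝒜 : Set (Subgroup G)) (Q : Subgroup G) : Subgroup G :=
  ⨅ A ∈ {A : Subgroup G | A ∈ 𝒜 ∧ A ≤ Q}, A

variable {p : ℕ} [hp : Fact p.Prime]

theorem mem_inter {G : Type*} [Group G] {𝒜 : Set (Subgroup G)} {Q : Subgroup G} {x : G} :
    x ∈ inter 𝒜 Q ↔ ∀ A ∈ 𝒜, A ≤ Q → x ∈ A := by
  simp [inter, Subgroup.mem_iInf]

theorem inter_mem_normalizer {G : Type*} [Group G] [Finite G] {𝒜 : Set (Subgroup G)} {T : Subgroup G}
    (hne : ∃ A ∈ 𝒜, A ≤ T)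
    (hinvar : ∀ Q ≤ T, (∃ A ∈ 𝒜, A ≤ Q) → ∀ g ∈ Subgroup.normalizer (Q : Set G), ∀ x ∈ inter 𝒜 Q,
      g * x * g⁻¹ ∈ inter 𝒜 Q) :
    Subgroup.normalizer (T : Set G) ≤ Subgroup.normalizer (inter 𝒜 T : Set G) :=
  fun g hg => Subgroup.mem_normalizer_fintype fun x hx => hinvar T le_rfl hne g hg x hx

/-- In a stable group of characteristic `p` the intersection of the family is normal. -/
theorem inter_normal {G : Type*} [Group G] [Finite G] (P : Sylow p G) {𝒜 : Set (Subgroup G)}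
    (hA : ∀ A ∈ 𝒜, A ≤ (P : Subgroup G) ∧ ∀ a ∈ A, ∀ b ∈ A, a * b = b * a) (hne : ∃ A, A ∈ 𝒜)
    (hinvar : ∀ Q ≤ (P : Subgroup G), (∃ A ∈ 𝒜, A ≤ Q) → ∀ g ∈ Subgroup.normalizer (Q : Set G), ∀ x ∈ inter 𝒜 Q,
      g * x * g⁻¹ ∈ inter 𝒜 Q)
    (hrep : ∀ B : Subgroup G, B ≤ (P : Subgroup G) → ⁅⁅B, B⁆, B⁆ = ⊥ → (∃ A ∈ 𝒜, ⁅B, B⁆ ≤ A ∧ ¬ B ≤ A) →
      ∃ A ∈ 𝒜, ⁅B, B⁆ ≤ A ∧ ¬ B ≤ A ∧ B ≤ Subgroup.normalizer (A : Set G))
    (hst : ∀ (V : Subgroup G) [V.Normal], IsPGroup p V → IsPStableOn p V)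
    (hc : Subgroup.centralizer (pCore p G : Set G) ≤ pCore p G) : (inter 𝒜 (P : Subgroup G)).Normal := by
  haveI hOn : (pCore p G).Normal := CfsgLib.Solv.pCore_normal G p
  set O := pCore p G with hO
  have hOp : IsPGroup p O := CfsgLib.Solv.pCore_isPGroup G p
  have hOP : O ≤ P := CfsgLib.Solv.pCore_le_sylow P
  set Z := inter 𝒜 (P : Subgroup G) with hZ
  obtain ⟨A₀, hA₀⟩ := hne
  have hne' : ∃ A ∈ 𝒜, A ≤ (P : Subgroup G) := ⟨A₀, hA₀, (hA A₀ hA₀).1⟩
  have hZA : ∀ A ∈ 𝒜, Z ≤ A := fun A hA' x hx => mem_inter.1 hx A hA' (hA A hA').1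
  have hZP : Z ≤ P := (hZA A₀ hA₀).trans (hA A₀ hA₀).1
  have hZc : ∀ x ∈ Z, ∀ y ∈ Z, x * y = y * x := fun x hx y hy =>
    (hA A₀ hA₀).2 x (hZA A₀ hA₀ hx) y (hZA A₀ hA₀ hy)
  have hPZ : (P : Subgroup G) ≤ Subgroup.normalizer (Z : Set G) :=
    Subgroup.le_normalizer.trans (inter_mem_normalizer hne' hinvar)
  have hZO : Z ≤ O := by
    intro a ha
    haveI : (Subgroup.centralizer (O : Set G)).Normal := inferInstance
    have hq : ⁅⁅O, Subgroup.zpowers a⁆, Subgroup.zpowers a⁆ = ⊥ := by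
      have h1 : ⁅O, Subgroup.zpowers a⁆ ≤ Z := Subgroup.commutator_le.2 fun o ho z hz => by
        have hz' : z ∈ Z := Subgroup.zpowers_le.2 ha hz
        rw [commutatorElement_def]
        exact Z.mul_mem ((Subgroup.mem_normalizer_iff.1 (hPZ (hOP ho)) z).1 hz') (Z.inv_mem hz')
      refine eq_bot_iff.2 ((Subgroup.commutator_mono h1 (Subgroup.zpowers_le.2 ha)).trans (le_of_eq ?_))
      exact Subgroup.commutator_eq_bot_iff_le_centralizer.2 fun x hx y hy => hZc y hy x hx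
    set π := QuotientGroup.mk' (Subgroup.centralizer (O : Set G))
    haveI := CfsgLib.Solv.pCore_normal (G ⧸ Subgroup.centralizer (O : Set G)) p
    have hK : IsPGroup p ((pCore p (G ⧸ Subgroup.centralizer (O : Set G))).comap π) :=
      (CfsgLib.Solv.pCore_isPGroup (G ⧸ Subgroup.centralizer (O : Set G)) p).comap_of_ker_isPGroup _
        (by rw [QuotientGroup.ker_mk']; exact hOp.to_le hc)
    exact CfsgLib.Solv.le_pCore hK (show a ∈ (pCore p (G ⧸ Subgroup.centralizer (O : Set G))).comap π from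
      hst O hOp a hq)
  suffices key : ∀ (n : ℕ) (B : Subgroup G), Nat.card B = n → B.Normal → IsPGroup p B → (Z ⊓ B).Normal by
    have h := key _ O rfl hOn hOp
    rwa [inf_eq_left.2 hZO] at h
  intro n
  induction n using Nat.strong_induction_on with
  | _ n ih =>
  intro B hn hBn hBp
  subst hn
  haveI := hBn
  by_cases hbot : B = ⊥
  · rw [hbot, inf_bot_eq]; infer_instance
  set B₀ := Subgroup.normalClosure ((Z ⊓ B : Subgroup G) : Set G) with hB₀
  have hB₀B : B₀ ≤ B := Subgroup.normalClosure_le_normal inf_le_right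
  by_cases hlt : B₀ ≠ B
  · have h := ih _ (lt_of_le_of_ne (Subgroup.card_le_of_le hB₀B)
      (fun h => hlt (Subgroup.eq_of_le_of_card_ge hB₀B h.ge))) B₀ rfl Subgroup.normalClosure_normal
      (hBp.to_le hB₀B)
    rwa [le_antisymm (inf_le_inf_left Z hB₀B) (le_inf inf_le_left Subgroup.subset_normalClosure)] at h
  rw [not_not] at hlt
  have hBP : B ≤ P := (CfsgLib.Solv.le_pCore hBp).trans (CfsgLib.Solv.pCore_le_sylow P)
  -- the commutator subgroup of `B` lies in `Z` and is central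
  have hB'B : ⁅B, B⁆ ≤ B := Subgroup.commutator_le_left B B
  have hB'lt : ⁅B, B⁆ ≠ B := by
    intro h
    haveI := hBp.isNilpotent
    haveI : Nontrivial B := (Subgroup.nontrivial_iff_ne_bot B).2 hbot
    have h1 : commutator ↥B = ⊤ := by
      refine Subgroup.map_injective B.subtype_injective ?_
      rw [commutator_def, Subgroup.map_commutator, ← MonoidHom.range_eq_map, B.range_subtype, h]
    exact (Group.IsSolvable.commutator_lt_top_of_nontrivial ↥B).ne h1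
  haveI hN₁ : (Z ⊓ ⁅B, B⁆).Normal :=
    ih _ (lt_of_le_of_ne (Subgroup.card_le_of_le hB'B)
      (fun h => hB'lt (Subgroup.eq_of_le_of_card_ge hB'B h.ge))) ⁅B, B⁆ rfl inferInstance (hBp.to_le hB'B)
  have hB'Z : ⁅B, B⁆ ≤ Z := by
    let π := QuotientGroup.mk' (Z ⊓ ⁅B, B⁆)
    haveI : (B.map π).Normal := hBn.map π (QuotientGroup.mk'_surjective _)
    have hle : B₀ ≤ (Subgroup.centralizer (B.map π : Set _)).comap π := by
      refine Subgroup.normalClosure_le_normal ?_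
      rintro z ⟨hz, hzB⟩ _ ⟨b, hb, rfl⟩
      refine (commutatorElement_eq_one_iff_mul_comm.1 ?_).symm
      rw [← map_commutatorElement]
      refine (QuotientGroup.eq_one_iff _).2 ⟨?_, Subgroup.commutator_mem_commutator hzB hb⟩
      rw [commutatorElement_def, show z * b * z⁻¹ * b⁻¹ = z * (b * z⁻¹ * b⁻¹) by group]
      exact Z.mul_mem hz ((Subgroup.mem_normalizer_iff.1 (hPZ (hBP hb)) _).1 (Z.inv_mem hz))
    rw [hlt] at hle
    refine le_trans ?_ (inf_le_left : Z ⊓ ⁅B, B⁆ ≤ Z)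
    rw [← QuotientGroup.ker_mk' (Z ⊓ ⁅B, B⁆), ← Subgroup.map_eq_bot_iff, Subgroup.map_commutator,
      Subgroup.commutator_eq_bot_iff_le_centralizer]
    exact Subgroup.map_le_iff_le_comap.2 hle
  have hB2 : ⁅⁅B, B⁆, B⁆ = ⊥ := by
    rw [Subgroup.commutator_comm, Subgroup.commutator_eq_bot_iff_le_centralizer]
    haveI : (⁅B, B⁆ : Subgroup G).Normal := inferInstance
    refine hlt.ge.trans (Subgroup.normalClosure_le_normal ?_)
    rintro z ⟨hz, -⟩ c hc'
    exact hZc c (hB'Z hc') z hz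
  by_cases hall : ∀ A ∈ 𝒜, B ≤ A
  · have : Z ⊓ B = B := inf_eq_right.2 fun b hb => mem_inter.2 fun A hA' _ => hall A hA' hb
    rw [this]; exact hBn
  push Not at hall
  obtain ⟨A₁, hA₁, hA₁B⟩ := hall
  obtain ⟨A, hA', -, hAB, hBA⟩ := hrep B hBP hB2 ⟨A₁, hA₁, hB'Z.trans (hZA A₁ hA₁), hA₁B⟩
  exfalso
  refine hAB ?_
  set C := Subgroup.centralizer (B : Set G) with hC
  haveI : C.Normal := inferInstance
  set π := QuotientGroup.mk' C
  haveI := CfsgLib.Solv.pCore_normal (G ⧸ C) p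
  set L := (pCore p (G ⧸ C)).comap π with hL
  haveI hLn : L.Normal := Subgroup.Normal.comap inferInstance _
  have hAL : A ≤ L := by
    intro a ha
    refine hst B hBp a (eq_bot_iff.2 ?_)
    have h1 : ⁅B, Subgroup.zpowers a⁆ ≤ A := Subgroup.commutator_le.2 fun b hb z hz => by
      have hz' : z ∈ A := Subgroup.zpowers_le.2 ha hz
      rw [commutatorElement_def]
      exact A.mul_mem ((Subgroup.mem_normalizer_iff.1 (hBA hb) z).1 hz') (A.inv_mem hz')
    refine (Subgroup.commutator_mono h1 (Subgroup.zpowers_le.2 ha)).trans (le_of_eq ?_)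
    exact Subgroup.commutator_eq_bot_iff_le_centralizer.2 fun x hx y hy => (hA A hA').2 y hy x hx
  set Q := (P : Subgroup G) ⊓ L with hQ
  have hAQ : A ≤ Q := le_inf (hA A hA').1 hAL
  have hfac : ∀ g : G, ∃ n ∈ Subgroup.normalizer (Q : Set G), ∃ c ∈ C, g = n * c := by
    intro g
    obtain ⟨l, hl, k, hk, hg⟩ := CfsgLib.Glau.frattini (CfsgLib.Glau.syl_top P) (N := L)
      (by rw [Subgroup.normalizer_eq_top_iff.2 hLn]) (Subgroup.mem_top g⁻¹)
    obtain ⟨t, ht, hte⟩ : π l⁻¹ ∈ (P : Subgroup G).map π := by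
      rw [← Sylow.coe_mapSurjective (QuotientGroup.mk'_surjective C)]
      exact CfsgLib.Solv.pCore_le_sylow _ (L.inv_mem hl.2 : l⁻¹ ∈ L)
    have htL : t ∈ L := by
      show π t ∈ pCore p (G ⧸ C)
      rw [hte]
      exact (L.inv_mem hl.2 : l⁻¹ ∈ L)
    refine ⟨k⁻¹ * t, mul_mem (inv_mem hk.2) (Subgroup.le_normalizer ⟨ht, htL⟩), t⁻¹ * l⁻¹,
      QuotientGroup.eq.1 hte, ?_⟩
    rw [← inv_inv g, hg]; group
  rw [← hlt, hB₀, Subgroup.normalClosure, Subgroup.closure_le]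
  intro y hy
  obtain ⟨z, hz, hzy⟩ := Group.mem_conjugatesOfSet_iff.1 hy
  obtain ⟨g, rfl⟩ := isConj_iff.1 hzy
  obtain ⟨n', hn', c, hc', rfl⟩ := hfac g
  rw [show n' * c * z * (n' * c)⁻¹ = n' * (c * z * c⁻¹) * n'⁻¹ by group,
    show c * z = z * c from (hc' z hz.2).symm, mul_inv_cancel_right]
  exact mem_inter.1 (hinvar Q inf_le_left ⟨A, hA', hAQ⟩ n' hn' z
    (mem_inter.2 fun A' hA'' _ => hZA A' hA'' hz.1)) A hA' hAQ

/-- The criterion for groups of characteristic `p`. -/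
theorem hnpc_of_family (hp2 : p ≠ 2) :
    ∀ (Γ : Type u) [Group Γ] [Finite Γ] (T : Sylow p Γ) (𝒜 : Set (Subgroup Γ)),
      (∀ A ∈ 𝒜, A ≤ (T : Subgroup Γ) ∧ ∀ a ∈ A, ∀ b ∈ A, a * b = b * a) → (∃ A, A ∈ 𝒜) →
      (∀ Q ≤ (T : Subgroup Γ), (∃ A ∈ 𝒜, A ≤ Q) → ∀ g ∈ Subgroup.normalizer (Q : Set Γ), ∀ x ∈ inter 𝒜 Q,
        g * x * g⁻¹ ∈ inter 𝒜 Q) →
      (∀ B : Subgroup Γ, B ≤ (T : Subgroup Γ) → ⁅⁅B, B⁆, B⁆ = ⊥ → (∃ A ∈ 𝒜, ⁅B, B⁆ ≤ A ∧ ¬ B ≤ A) →
        ∃ A ∈ 𝒜, ⁅B, B⁆ ≤ A ∧ ¬ B ≤ A ∧ B ≤ Subgroup.normalizer (A : Set Γ)) →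
      Subgroup.centralizer (pCore p Γ : Set Γ) ≤ pCore p Γ →
      HasNormalPComplement p ↥(Subgroup.normalizer (inter 𝒜 (T : Subgroup Γ) : Set Γ)) →
      HasNormalPComplement p Γ := by
  suffices key : ∀ (n : ℕ) (Γ : Type u) [Group Γ] [Finite Γ], Nat.card Γ = n → ∀ (T : Sylow p Γ) (𝒜 : Set (Subgroup Γ)),
      (∀ A ∈ 𝒜, A ≤ (T : Subgroup Γ) ∧ ∀ a ∈ A, ∀ b ∈ A, a * b = b * a) → (∃ A, A ∈ 𝒜) →
      (∀ Q ≤ (T : Subgroup Γ), (∃ A ∈ 𝒜, A ≤ Q) → ∀ g ∈ Subgroup.normalizer (Q : Set Γ), ∀ x ∈ inter 𝒜 Q,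
        g * x * g⁻¹ ∈ inter 𝒜 Q) →
      (∀ B : Subgroup Γ, B ≤ (T : Subgroup Γ) → ⁅⁅B, B⁆, B⁆ = ⊥ → (∃ A ∈ 𝒜, ⁅B, B⁆ ≤ A ∧ ¬ B ≤ A) →
        ∃ A ∈ 𝒜, ⁅B, B⁆ ≤ A ∧ ¬ B ≤ A ∧ B ≤ Subgroup.normalizer (A : Set Γ)) →
      Subgroup.centralizer (pCore p Γ : Set Γ) ≤ pCore p Γ →
      HasNormalPComplement p ↥(Subgroup.normalizer (inter 𝒜 (T : Subgroup Γ) : Set Γ)) →
      HasNormalPComplement p Γ from fun Γ _ _ => key _ Γ rfl
  intro n
  induction n using Nat.strong_induction_on with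
  | _ n IH =>
  intro Γ _ _ hcard S 𝒜 hA hne hinvar hrep hCU hN
  classical
  by_contra hn
  haveI := CfsgLib.Solv.pCore_normal Γ p
  set U := pCore p Γ with hUdef
  have hUp : IsPGroup p U := CfsgLib.Solv.pCore_isPGroup Γ p
  have hUS : U ≤ S := pCore_le_sylow S
  obtain ⟨A₀, hA₀⟩ := hne
  have hne' : ∃ A ∈ 𝒜, A ≤ (S : Subgroup Γ) := ⟨A₀, hA₀, (hA A₀ hA₀).1⟩
  have hZnn : ¬ (inter 𝒜 (S : Subgroup Γ)).Normal := fun h => by
    rw [Subgroup.normalizer_eq_top_iff.2 h] at hN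
    exact hn (hnpc_mulEquiv Subgroup.topEquiv hN)
  -- proper overgroups of the Sylow subgroup
  have overP : ∀ H : Subgroup Γ, (S : Subgroup Γ) ≤ H → H ≠ ⊤ → HasNormalPComplement p ↥H := by
    intro H hSH hH
    have hmapS : ((S.subtype hSH : Sylow p ↥H) : Subgroup ↥H).map H.subtype = (S : Subgroup Γ) := by
      rw [Sylow.coe_subtype, Subgroup.map_subgroupOf_eq_of_le hSH]
    set 𝒜' : Set (Subgroup ↥H) := {A' | A'.map H.subtype ∈ 𝒜} with h𝒜'
    have hback : ∀ A ∈ 𝒜, A.subgroupOf H ∈ 𝒜' := fun A hA' => by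
      show (A.subgroupOf H).map H.subtype ∈ 𝒜
      rw [Subgroup.map_subgroupOf_eq_of_le ((hA A hA').1.trans hSH)]
      exact hA'
    have hinter : ∀ Q' : Subgroup ↥H, (inter 𝒜' Q') = (inter 𝒜 (Q'.map H.subtype)).subgroupOf H := by
      intro Q'
      ext x
      rw [Subgroup.mem_subgroupOf, mem_inter, mem_inter]
      constructor
      · intro h A hA' hAQ
        have h1 := h (A.subgroupOf H) (hback A hA') (fun y hy => by
          obtain ⟨z, hz, hze⟩ := hAQ (show (y : Γ) ∈ A from hy)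
          exact Subtype.ext hze ▸ hz)
        exact h1
      · intro h A' hA' hAQ
        obtain ⟨y, hy, hye⟩ := h _ hA' (Subgroup.map_mono hAQ)
        exact Subtype.ext hye ▸ hy
    have hcomm : ∀ B' : Subgroup ↥H, (⁅B', B'⁆).map H.subtype = ⁅B'.map H.subtype, B'.map H.subtype⁆ := fun B' =>
      Subgroup.map_commutator _ _ _
    refine IH _ (hcard ▸ card_lt_of_ne_top hH) ↥H rfl (S.subtype hSH) 𝒜' (fun A' hA' => ⟨?_, fun a ha b hb => ?_⟩)
      ⟨_, hback A₀ hA₀⟩ (fun Q' hQ' hne g hg x hx => ?_) (fun B' hB' h2 hex => ?_) ?_ ?_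
    · have h := (hA _ hA').1
      rw [← hmapS] at h
      exact (Subgroup.map_le_map_iff_of_injective H.subtype_injective).1 h
    · exact Subtype.ext ((hA _ hA').2 _ ⟨a, ha, rfl⟩ _ ⟨b, hb, rfl⟩)
    · rw [hinter, Subgroup.mem_subgroupOf] at hx ⊢
      obtain ⟨A', hA', hAQ⟩ := hne
      refine hinvar _ ((Subgroup.map_mono hQ').trans hmapS.le) ⟨_, hA', Subgroup.map_mono hAQ⟩ (g : Γ)
        (Subgroup.le_normalizer_map H.subtype ⟨g, hg, rfl⟩) _ hx
    · obtain ⟨A', hA', h1, h2'⟩ := hex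
      obtain ⟨A, hAm, h3, h4, h5⟩ := hrep (B'.map H.subtype) ((Subgroup.map_mono hB').trans hmapS.le)
        (by rw [← hcomm, ← Subgroup.map_commutator, h2, Subgroup.map_bot])
        ⟨A'.map H.subtype, hA', by rw [← hcomm]; exact Subgroup.map_mono h1,
          fun h => h2' ((Subgroup.map_le_map_iff_of_injective H.subtype_injective).1 h)⟩
      refine ⟨A.subgroupOf H, hback A hAm, fun y hy => ?_, fun h => h4 ?_, fun b hb => ?_⟩
      · exact h3 (hcomm B' ▸ ⟨y, hy, rfl⟩)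
      · rintro _ ⟨b, hb, rfl⟩
        exact h hb
      · refine Subgroup.mem_normalizer_fintype fun a ha => ?_
        exact (Subgroup.mem_normalizer_iff.1 (h5 ⟨b, hb, rfl⟩) (a : Γ)).1 ha
    · have hUH : U.subgroupOf H ≤ pCore p ↥H :=
        le_pCore (hUp.comap_of_injective H.subtype H.subtype_injective)
      intro x hx
      refine hUH (Subgroup.mem_subgroupOf.2 (hCU fun u hu => ?_))
      exact congrArg Subtype.val (hx ⟨u, hSH (hUS hu)⟩ (hUH hu))
    · rw [hinter, hmapS]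
      refine hnpc_of_map_le H.subtype_injective ?_ hN
      refine (Subgroup.le_normalizer_map H.subtype).trans (le_of_eq ?_)
      rw [Subgroup.map_subgroupOf_eq_of_le (fun x hx => hSH ((hA A₀ hA₀).1 (mem_inter.1 hx A₀ hA₀ (hA A₀ hA₀).1)))]
  have hmaxS : ∀ H : Subgroup Γ, (S : Subgroup Γ) ≤ H → H ≠ ⊤ → H = S := by
    intro H hSH hH
    refine S.is_maximal' (isPGroup_of_forall_coprime fun g hg hc => ?_) hSH
    exact eq_one_of_isPGroup_coprime hUp (hCU (mem_centralizer_of_hnpc_subgroup (overP H hSH hH)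
      (hUS.trans hSH) hUp hg (Subgroup.normalizer_eq_top U ▸ Subgroup.mem_top g) hc)) hc
  set f := QuotientGroup.mk' U with hf
  have hfs : Function.Surjective f := QuotientGroup.mk'_surjective U
  set P' : Sylow p (Γ ⧸ U) := S.mapSurjective hfs with hP'
  have hP'map : (P' : Subgroup (Γ ⧸ U)) = (S : Subgroup Γ).map f := Sylow.coe_mapSurjective hfs S
  have hQ : HasNormalPComplement p (Γ ⧸ U) := by
    by_cases hb : (P' : Subgroup (Γ ⧸ U)) = ⊥
    · rw [hnpc_iff_inf P', hb, bot_inf_eq]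
    refine CfsgLib.Inv.ZJ.hnpc_of_zJ hp2 (e := 0) (Or.inl rfl) (Γ ⧸ U) P' _ (stronglyClosed_self _) ?_
    set X := zJ 0 (P' : Subgroup (Γ ⧸ U)) with hX
    have hWc : IsPGroup p (X.comap f) := (P'.isPGroup'.to_le (zJ_le _)).comap_of_ker_isPGroup f
      (by rw [hf, QuotientGroup.ker_mk']; exact hUp)
    have hNW : Subgroup.normalizer (X.comap f : Set Γ) = (Subgroup.normalizer (X : Set _)).comap f :=
      (Subgroup.comap_normalizer_eq_of_surjective X hfs).symm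
    have hSle : (S : Subgroup Γ) ≤ Subgroup.normalizer (X.comap f : Set Γ) := by
      rw [hNW, ← Subgroup.map_le_iff_le_comap, ← hP'map]
      exact Subgroup.le_normalizer.trans (normalizer_le_zJ _)
    have hne : Subgroup.normalizer (X.comap f : Set Γ) ≠ ⊤ := by
      intro htop
      haveI := Subgroup.normalizer_eq_top_iff.1 htop
      refine zJ_ne_bot (p := p) (Or.inl rfl) P'.isPGroup' hb (le_bot_iff.1 ?_)
      show X ≤ ⊥
      rw [← Subgroup.map_comap_eq_self_of_surjective hfs X, Subgroup.map_le_iff_le_comap,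
        hf, MonoidHom.comap_bot, QuotientGroup.ker_mk']
      exact CfsgLib.Solv.le_pCore hWc
    have h' := hnpc_map f (overP _ hSle hne)
    rwa [hNW, Subgroup.map_comap_eq_self_of_surjective hfs] at h'
  set R := pResidual p (Γ ⧸ U) with hRdef
  haveI hRchar := pResidual_char p (Γ ⧸ U)
  haveI : R.Normal := Subgroup.normal_of_characteristic R
  have hR : ¬ p ∣ Nat.card R := hnpc_iff.1 hQ
  have hsup : (P' : Subgroup (Γ ⧸ U)) ⊔ R = ⊤ := sylow_sup_pResidual P'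
  have hcopR : ∀ M : Subgroup (Γ ⧸ U), M ≤ R →
      (Nat.card (P' : Subgroup (Γ ⧸ U))).Coprime (Nat.card M) := fun M hM => by
    obtain ⟨k, hk⟩ := P'.isPGroup'.exists_card_eq
    rw [hk]
    exact ((hp.out.coprime_iff_not_dvd.2 hR).pow_left k).coprime_dvd_right (Subgroup.card_dvd_of_le hM)
  have hinv : ∀ M : Subgroup (Γ ⧸ U), M ≤ R →
      (P' : Subgroup (Γ ⧸ U)) ≤ Subgroup.normalizer (M : Set (Γ ⧸ U)) → M = ⊥ ∨ M = R := by
    intro M hM hn'
    have hle : (S : Subgroup Γ) ≤ ((P' : Subgroup (Γ ⧸ U)) ⊔ M).comap f := by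
      rw [← Subgroup.map_le_iff_le_comap, ← hP'map]; exact le_sup_left
    by_cases htop : ((P' : Subgroup (Γ ⧸ U)) ⊔ M).comap f = ⊤
    · right
      have htop' : (P' : Subgroup (Γ ⧸ U)) ⊔ M = ⊤ := by
        rw [← Subgroup.map_comap_eq_self_of_surjective hfs (_ ⊔ M), htop,
          Subgroup.map_top_of_surjective f hfs]
      have h1 := card_sup_of_le_normalizer hn' (hcopR M hM)
      have h2 := card_sup_of_le_normalizer (X := (P' : Subgroup (Γ ⧸ U))) (M := R)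
        (Subgroup.normalizer_eq_top R ▸ le_top) (hcopR R le_rfl)
      rw [htop'] at h1
      rw [hsup, h1] at h2
      exact Subgroup.eq_of_le_of_card_ge hM (Nat.eq_of_mul_eq_mul_left Nat.card_pos h2).ge
    · left
      have he : (P' : Subgroup (Γ ⧸ U)) ⊔ M = P' := by
        rw [← Subgroup.map_comap_eq_self_of_surjective hfs (_ ⊔ M), hmaxS _ hle htop, hP'map]
      rw [← le_bot_iff, ← eq_bot_of_isPGroup_inf P'.isPGroup' hR]
      exact le_inf (he ▸ le_sup_right) hM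
  have hab : ∀ x ∈ R, ∀ y ∈ R, x * y = y * x := by
    intro x hx y hy
    by_cases hRb : R = ⊥
    · rw [hRb, Subgroup.mem_bot] at hx hy; rw [hx, hy]
    obtain ⟨r, hr, hrd⟩ := Nat.exists_prime_and_dvd (fun e => hRb (Subgroup.card_eq_one.1 e))
    haveI : Fact r.Prime := ⟨hr⟩
    obtain ⟨T, hT⟩ := exists_invariant_sylow (p := r) (A := (P' : Subgroup (Γ ⧸ U))) (K := R)
      (Subgroup.normalizer_eq_top R ▸ le_top) (hcopR R le_rfl) (Or.inl (by
        haveI := P'.isPGroup'.isNilpotent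
        infer_instance))
    have hTne : (T : Subgroup R).map R.subtype ≠ ⊥ := by
      rw [Ne, ← Subgroup.card_eq_one, card_map_subtype]
      intro e
      have := T.dvd_card_of_dvd_card hrd
      rw [e] at this
      exact hr.ne_one (Nat.dvd_one.1 this)
    have hTR := (hinv _ (Subgroup.map_subtype_le _) hT).resolve_left hTne
    have hRr : IsPGroup r R := hTR ▸ T.isPGroup'.map R.subtype
    have hzR : zOf R = R := (hinv _ (zOf_le R)
      ((Subgroup.normalizer_eq_top R ▸ le_top).trans (normalizer_le_normalizer_zOf R))).resolve_left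
      (zOf_ne_bot hRr hRb)
    have hy' : y ∈ zOf R := hzR.symm ▸ hy
    exact Subgroup.mem_centralizer_iff.1 hy'.2 x hx
  have hqd : ¬ IsSec Γ ↥(Cfsg.qd p) :=
    CfsgLib.Dickson.not_isSec_qd hp2 hUp (fun x hx => CfsgLib.Inv.mem_pResidual hx) hab
  have hst : IsNormalizerPStable p Γ := by
    by_contra h
    exact hqd (CfsgLib.Dickson.isSec_qd_of_not_stable hp2 h)
  exact hZnn (inter_normal S hA ⟨A₀, hA₀⟩ hinvar hrep (stableOn_of_normalizer hst) hCU)

end CfsgLib.Glau.Family
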