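import Cfsg.Agent.Fus.FamilyCriterion
import Cfsg.Agent.Fus.InnerCriteria

/-!
The axiomatic Glauberman-Thompson criterion for fusion systems.
-/

set_option autoImplicit false
set_option linter.style.haveILetI false

open Cfsg Cfsg.FusionSystem

namespace CfsgLib.Fus

universe u

variable {Ω : Type u} [Group Ω] {S : Subgroup Ω} {F : FusionSystem S} {p : ℕ}

/-- The intersection of the family is normal in `S`. -/
theorem normalizerIn_familyInter [Finite S] {𝒜 : Set (Subgroup Ω)} (h𝒜 : ∀ A ∈ 𝒜, A ≤ S) (hne : 𝒜.Nonempty)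
    (hinv : ∀ Q : Subgroup Ω, Q ≤ S → (∃ A ∈ 𝒜, A ≤ Q) → ∀ α ∈ F.autGroup Q, ∀ x ∈ Glau.Family.inter 𝒜 Q,
      autFun α x ∈ Glau.Family.inter 𝒜 Q) :
    normalizerIn S (Glau.Family.inter 𝒜 S) = S := by
  obtain ⟨A₀, hA₀⟩ := hne
  have hle : Glau.Family.inter 𝒜 S ≤ S := fun x hx => h𝒜 A₀ hA₀ (Glau.Family.mem_inter.1 hx A₀ hA₀ (h𝒜 A₀ hA₀))
  have hmem : ∀ a ∈ S, ∀ x ∈ Glau.Family.inter 𝒜 S, a * x * a⁻¹ ∈ Glau.Family.inter 𝒜 S := by
    intro a ha x hx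
    have hn : a ∈ Subgroup.normalizer (S : Set Ω) := Subgroup.le_normalizer ha
    obtain ⟨γ, hγT, hγ⟩ := exists_autInducedBy (K := S) ha hn
    rw [← hγ x (hle hx)]
    exact hinv S le_rfl ⟨A₀, hA₀, h𝒜 A₀ hA₀⟩ γ (autInducedBy_le_autGroup le_rfl hγT) x hx
  exact le_antisymm (normalizerIn_le _) fun a ha => ⟨ha, mem_normalizer_of_conj (hmem a ha) fun y hy => by
    simpa using hmem a⁻¹ (S.inv_mem ha) y hy⟩

/-- The criterion. -/
theorem eq_inner_of_family [Finite S] [Fact p.Prime] (hS : IsPGroup p S) (hF : F.IsSaturated p) (hp : p ≠ 2)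
    {𝒜 : Set (Subgroup Ω)} (h𝒜 : ∀ A ∈ 𝒜, A ≤ S ∧ ∀ a ∈ A, ∀ b ∈ A, a * b = b * a) (hne : 𝒜.Nonempty)
    (hinv : ∀ Q : Subgroup Ω, Q ≤ S → (∃ A ∈ 𝒜, A ≤ Q) → ∀ α ∈ F.autGroup Q, ∀ x ∈ Glau.Family.inter 𝒜 Q,
      autFun α x ∈ Glau.Family.inter 𝒜 Q)
    (hrep : ∀ B : Subgroup Ω, B ≤ S → ⁅⁅B, B⁆, B⁆ = ⊥ → (∃ A ∈ 𝒜, ⁅B, B⁆ ≤ A ∧ ¬ B ≤ A) →
      ∃ A ∈ 𝒜, ⁅B, B⁆ ≤ A ∧ ¬ B ≤ A ∧ B ≤ Subgroup.normalizer (A : Set Ω))
    (hN : ∀ N : FusionSystem (normalizerIn S (Glau.Family.inter 𝒜 S)),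
      F.IsNormalizerSystem (Glau.Family.inter 𝒜 S) N → ∀ P : Subgroup Ω,
        N.Hom P = (innerFusionSystem (normalizerIn S (Glau.Family.inter 𝒜 S))).Hom P) :
    F = innerFusionSystem S := by
  refine eq_inner_of_models hS hF (Or.inl hp) ?_
  intro X hXn hXc hRS L _ _ ι θ N T hNs hι hconj hθι hker hT _
  obtain ⟨A₀, hA₀⟩ := hne
  have hleR : ∀ A ∈ 𝒜, A ≤ (normalizerIn S X) := fun A hA => (h𝒜 A hA).1.trans hRS.ge
  let toL : Subgroup Ω → Subgroup L := fun A => (A.subgroupOf (normalizerIn S X)).map ι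
  let back : Subgroup L → Subgroup Ω := fun A' => (A'.comap ι).map (normalizerIn S X).subtype
  have hback : ∀ A, A ≤ (normalizerIn S X) → back (toL A) = A := fun A hA => by
    show (((A.subgroupOf (normalizerIn S X)).map ι).comap ι).map (normalizerIn S X).subtype = A
    rw [Subgroup.comap_map_eq_self_of_injective hι.1, Subgroup.map_subgroupOf_eq_of_le hA]
  have hbR : ∀ Q', back Q' ≤ (normalizerIn S X) := fun Q' => Subgroup.map_subtype_le _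
  have hto : ∀ Q', Q' ≤ (T : Subgroup L) → toL (back Q') = Q' := fun Q' hQ' => by
    show (((Q'.comap ι).map (normalizerIn S X).subtype).subgroupOf (normalizerIn S X)).map ι = Q'
    rw [Subgroup.subgroupOf, Subgroup.comap_map_eq_self_of_injective (normalizerIn S X).subtype_injective,
      Subgroup.map_comap_eq_self (hQ'.trans hT.le)]
  have htoT : ∀ A, toL A ≤ (T : Subgroup L) := fun A => (Subgroup.map_le_range ι _).trans hT.ge
  have htomono : ∀ {A B}, A ≤ B → toL A ≤ toL B := fun h => Subgroup.map_mono (Subgroup.comap_mono h)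
  have hbmono : ∀ {A B}, A ≤ B → back A ≤ back B := fun h => Subgroup.map_mono (Subgroup.comap_mono h)
  have hbmem : ∀ (Q' : Subgroup L) (r : ↥(normalizerIn S X)), (r : Ω) ∈ back Q' ↔ ι r ∈ Q' := fun Q' r =>
    ⟨fun ⟨r', hr', he⟩ => Subtype.ext he ▸ hr', fun h => ⟨r, h, rfl⟩⟩
  set 𝒜' : Set (Subgroup L) := toL '' 𝒜 with h𝒜'
  have hinter : ∀ Q' ≤ (T : Subgroup L), (∃ A ∈ 𝒜, A ≤ back Q') →
      Glau.Family.inter 𝒜' Q' = toL (Glau.Family.inter 𝒜 (back Q')) := by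
    intro Q' hQ' hex
    obtain ⟨A₁, hA₁, hA₁Q⟩ := hex
    apply le_antisymm
    · intro y hy
      obtain ⟨r, hr, rfl⟩ : y ∈ toL A₁ := Glau.Family.mem_inter.1 hy _ ⟨A₁, hA₁, rfl⟩
        ((htomono hA₁Q).trans (hto Q' hQ').le)
      refine ⟨r, Glau.Family.mem_inter.2 fun A hA hAQ => ?_, rfl⟩
      obtain ⟨r', hr', he⟩ := Glau.Family.mem_inter.1 hy _ ⟨A, hA, rfl⟩ ((htomono hAQ).trans (hto Q' hQ').le)
      exact hι.1 he ▸ hr'
    · rintro _ ⟨r, hr, rfl⟩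
      refine Glau.Family.mem_inter.2 ?_
      rintro _ ⟨A, hA, rfl⟩ hAQ
      exact ⟨r, Glau.Family.mem_inter.1 hr A hA ((hback A (hleR A hA)).ge.trans (hbmono hAQ)), rfl⟩
  have hTback : back (T : Subgroup L) = S := by
    refine le_antisymm ((hbR _).trans (normalizerIn_le X)) fun s hs => ?_
    exact ⟨⟨s, hRS.ge hs⟩, hT.ge ⟨_, rfl⟩, rfl⟩
  refine Glau.Family.hnpc_of_family hp L T 𝒜' ?_ ⟨_, A₀, hA₀, rfl⟩ ?_ ?_ ?_ ?_
  · rintro _ ⟨A, hA, rfl⟩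
    refine ⟨htoT A, ?_⟩
    rintro _ ⟨a, ha, rfl⟩ _ ⟨b, hb, rfl⟩
    rw [← map_mul, ← map_mul]
    exact congrArg ι (Subtype.ext ((h𝒜 A hA).2 _ ha _ hb))
  · intro Q' hQ' hex g hg x hx
    obtain ⟨_, ⟨A, hA, rfl⟩, hAQ⟩ := hex
    have hAY : A ≤ back Q' := (hback A (hleR A hA)).ge.trans (hbmono hAQ)
    rw [hinter Q' hQ' ⟨A, hA, hAY⟩] at hx ⊢
    set Y := back Q' with hYdef
    have hYR : Y ≤ (normalizerIn S X) := hbR Q'
    have hlY : ∀ y : ↥(normalizerIn S X), (y : Ω) ∈ Y → ∃ y' : ↥(normalizerIn S X), (y' : Ω) ∈ Y ∧ g * ι y * g⁻¹ = ι y' := by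
      intro y hy
      have h1 := (Subgroup.mem_normalizer_iff.1 hg _).1 ((hbmem Q' y).1 hy)
      obtain ⟨y', hy'⟩ := (hQ'.trans hT.le) h1
      exact ⟨y', (hbmem Q' y').2 (hy'.symm ▸ h1), hy'.symm⟩
    obtain ⟨f, hf, hfY, -, hfe⟩ := exists_char_map hNs hι θ hconj hXn.1 hYR hlY
    obtain ⟨r, hr, rfl⟩ := hx
    have hrY : (r : Ω) ∈ Y := hAY (Glau.Family.mem_inter.1 hr A hA hAY)
    obtain ⟨r', -, hr'⟩ := hlY r hrY
    haveI := finite_of_le (hYR.trans (normalizerIn_le X))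
    obtain ⟨α, hαA, hαe⟩ := exists_aut (hf.mono le_sup_right) hfY
    have h := hinv Y (hYR.trans (normalizerIn_le X)) ⟨A, hA, hAY⟩ α hαA r hr
    rw [hαe _ hrY, hfe r r' hrY hr'] at h
    exact ⟨r', h, hr'.symm⟩
  · intro B' hB' h2 hex
    obtain ⟨_, ⟨A, hA, rfl⟩, h1, h1'⟩ := hex
    have hB'r : B' ≤ ι.range := hB'.trans hT.le
    have hcb : ∀ C' D' : Subgroup L, C' ≤ ι.range → D' ≤ ι.range → back ⁅C', D'⁆ = ⁅back C', back D'⁆ := by
      intro C' D' hC hD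
      show ((⁅C', D'⁆).comap ι).map (normalizerIn S X).subtype = ⁅(C'.comap ι).map (normalizerIn S X).subtype, (D'.comap ι).map (normalizerIn S X).subtype⁆
      rw [← Subgroup.map_commutator]
      congr 1
      conv_lhs => rw [← Subgroup.map_comap_eq_self hC, ← Subgroup.map_comap_eq_self hD, ← Subgroup.map_commutator,
        Subgroup.comap_map_eq_self_of_injective hι.1]
    have hB'c : ⁅B', B'⁆ ≤ ι.range := Subgroup.commutator_le.2 fun a ha b hb => by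
      rw [commutatorElement_def]
      exact mul_mem (mul_mem (mul_mem (hB'r ha) (hB'r hb)) (inv_mem (hB'r ha))) (inv_mem (hB'r hb))
    have hB2 : ⁅⁅back B', back B'⁆, back B'⁆ = ⊥ := by
      rw [← hcb _ _ hB'r hB'r, ← hcb _ _ hB'c hB'r, h2]
      show ((⊥ : Subgroup L).comap ι).map (normalizerIn S X).subtype = ⊥
      rw [MonoidHom.comap_bot, MonoidHom.ker_eq_bot_iff ι |>.2 hι.1, Subgroup.map_bot]
    obtain ⟨A', hA', h3, h4, h5⟩ := hrep (back B') ((hbR B').trans (normalizerIn_le X)) hB2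
      ⟨A, hA, by rw [← hcb _ _ hB'r hB'r]; exact (hbmono h1).trans (hback A (hleR A hA)).le,
        fun h => h1' ((hto B' hB').ge.trans (htomono h))⟩
    refine ⟨toL A', ⟨A', hA', rfl⟩, ?_, fun h => h4 ((hbmono h).trans (hback A' (hleR A' hA')).le), ?_⟩
    · rw [← hcb _ _ hB'r hB'r] at h3
      exact (hto _ (hB'c.trans hT.ge)).ge.trans (htomono h3)
    · intro b hb
      obtain ⟨r, rfl⟩ := hB'r hb
      have hn := h5 ((hbmem B' r).2 hb)
      refine Subgroup.mem_normalizer_fintype ?_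
      rintro _ ⟨a, ha, rfl⟩
      refine ⟨r * a * r⁻¹, ?_, by rw [map_mul, map_mul, map_inv]⟩
      show ((r * a * r⁻¹ : ↥(normalizerIn S X)) : Ω) ∈ A'
      exact conj_mem_of_normalizer hn ha
  · have hXle := le_normalizerIn (S := S) hXn.1
    haveI hXb : ((X.subgroupOf (normalizerIn S X)).map ι).Normal := ⟨by
      rintro _ ⟨x, hx, rfl⟩ l
      obtain ⟨q', hq'c, hq'⟩ := hconj l x hx
      exact ⟨q', (show (q' : Ω) ∈ X from hq'c.symm ▸ autFun_mem _ hx), hq'.symm⟩⟩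
    have hXO : (X.subgroupOf (normalizerIn S X)).map ι ≤ pCore p L :=
      CfsgLib.Solv.le_pCore (((hS.to_le (normalizerIn_le X)).to_subgroup _).map ι)
    intro l hl
    have hθ : θ l = 1 := Subtype.ext (aut_ext fun x hx => by
      obtain ⟨q', hq'c, hq'⟩ := hconj l ⟨x, hXle hx⟩ hx
      rw [← Subgroup.mem_centralizer_iff.1 hl (ι ⟨x, hXle hx⟩) (hXO ⟨_, hx, rfl⟩), mul_inv_cancel_right] at hq'
      rw [OneMemClass.coe_one, autFun_one hx, ← hq'c, ← hι.1 hq'])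
    have hl' : l ∈ θ.ker := hθ
    rw [hker] at hl'
    obtain ⟨r, hr, rfl⟩ := hl'
    exact hXO ⟨r, (show (r : Ω) ∈ X from Zc_le (Subgroup.mem_subgroupOf.1 hr)), rfl⟩
  · rw [hinter (T : Subgroup L) le_rfl ⟨A₀, hA₀, hTback.ge.trans' (h𝒜 A₀ hA₀).1⟩, hTback]
    refine hnpc_normalizer_of_inner hS hXn hRS hNs hι hconj hθι hker hT (htoT _) fun f hf hfY => ?_
    have hIR : Glau.Family.inter 𝒜 S ≤ (normalizerIn S X) := fun x hx =>
      hleR A₀ hA₀ (Glau.Family.mem_inter.1 hx A₀ hA₀ (h𝒜 A₀ hA₀).1)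
    rw [show ((toL (Glau.Family.inter 𝒜 S)).comap ι).map (normalizerIn S X).subtype = Glau.Family.inter 𝒜 S from hback _ hIR] at hfY hf
    obtain ⟨s, hs, h⟩ := inner_of_normalizer (hIR.trans (normalizerIn_le X))
      (normalizerIn_familyInter (fun A hA => (h𝒜 A hA).1) ⟨A₀, hA₀⟩ hinv) hN hf le_sup_right hfY
    exact ⟨s, hs, fun x hx => h x (Subgroup.mem_sup_left hx)⟩

end CfsgLib.Fus
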