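import Mathlib

/-!
Fixed point counts are not constant on a product of two `A_n`-classes.
-/

set_option autoImplicit false
set_option linter.style.haveILetI false
set_option linter.unusedSectionVars false

namespace CfsgLib.Fus.FixCount

open Equiv Equiv.Perm

variable {n : ℕ}

/-- Evenization of an extension. -/
theorem even_extend {k : ℕ} (hk : k + 2 ≤ n) (u v : Fin k → Fin n) (hu : Function.Injective u) (hv : Function.Injective v) :
    ∃ σ : Perm (Fin n), σ ∈ alternatingGroup (Fin n) ∧ ∀ i, σ (u i) = v i := by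
  classical
  obtain ⟨σ, hσ⟩ := Equiv.Perm.exists_extending_pair u v hu hv
  by_cases h : σ ∈ alternatingGroup (Fin n)
  · exact ⟨σ, h, hσ⟩
  have hcard : 1 < (Finset.univ \ Finset.univ.image v).card := by
    rw [Finset.card_univ_sdiff, Fintype.card_fin, Finset.card_image_of_injective _ hv, Finset.card_univ, Fintype.card_fin]
    omega
  obtain ⟨x, hx, y, hy, hxy⟩ := Finset.one_lt_card.1 hcard
  simp only [Finset.mem_sdiff, Finset.mem_univ, true_and, Finset.mem_image, not_exists] at hx hy
  refine ⟨Equiv.swap x y * σ, ?_, fun i => ?_⟩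
  · rw [mem_alternatingGroup] at h ⊢
    rcases Int.units_eq_one_or (sign σ) with h' | h'
    · exact absurd h' h
    · rw [map_mul, sign_swap hxy, h', Int.units_mul_self]
  · rw [Perm.mul_apply, hσ]
    exact Equiv.swap_apply_of_ne_of_ne (hx i) (hy i)

/-- Agreement set size of `a` and a conjugate of `b`. -/
def agree (a b σ : Perm (Fin n)) : ℕ := (Finset.univ.filter fun x => (σ * b * σ⁻¹) x = a x).card

/-- Number of fixed points. -/
def fp (a : Perm (Fin n)) : ℕ := (Finset.univ.filter fun x => a x = x).card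

theorem fp_le (a : Perm (Fin n)) (ha : a ≠ 1) : fp a + 2 ≤ n := by
  have h := Equiv.Perm.card_support_le_one.not.2 ha
  have h2 : fp a + a.support.card = n := by
    have h3 := Finset.card_filter_add_card_filter_not (s := Finset.univ) (fun x : Fin n => a x = x)
    rw [Finset.card_univ, Fintype.card_fin] at h3
    exact h3
  omega

/-- Partial agreement data gives a lower bound. -/
theorem le_agree {k : ℕ} (a b σ : Perm (Fin n)) (w : Fin k → Fin n) (hw : Function.Injective w)
    (h : ∀ i, σ (b (w i)) = a (σ (w i))) : k ≤ agree a b σ := by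
  classical
  have := Finset.card_le_card_of_injOn (s := (Finset.univ : Finset (Fin k))) (fun i => σ (w i))
    (t := Finset.univ.filter fun x => (σ * b * σ⁻¹) x = a x) (fun i _ => Finset.mem_filter.2 ⟨Finset.mem_univ _, by simp [h i]⟩)
    (fun i _ j _ hij => hw (σ.injective hij))
  simpa [agree] using this

/-- Sum over the alternating group. -/
theorem sum_agree (hn : 4 ≤ n) (a b : Perm (Fin n)) :
    (n * (n - 1) : ℤ) * ∑ g : alternatingGroup (Fin n), (agree a b g : ℤ) =
      Fintype.card (alternatingGroup (Fin n)) *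
        ((fp a : ℤ) * fp b * (n - 1) + (n - fp a) * (n - fp b)) := by
  classical
  set A := alternatingGroup (Fin n)
  -- pairs (g, u) with `b u` matched
  have hpt : ∀ g : Perm (Fin n), agree a b g = (Finset.univ.filter fun u => g (b u) = a (g u)).card := fun g => by
    refine (Finset.card_equiv g ?_).symm
    intro u; rw [Finset.mem_filter, Finset.mem_filter]; simp [Perm.mul_apply]
  let N : Fin n → Fin n → Fin n → Fin n → ℤ := fun u v x y =>
    ((Finset.univ.filter fun g : A => (g : Perm (Fin n)) u = x ∧ (g : Perm (Fin n)) v = y).card : ℤ)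
  have hN2 : ∀ u v x y : Fin n, u ≠ v → x ≠ y → (n * (n - 1) : ℤ) * N u v x y = Fintype.card A := by
    intro u v x y huv hxy
    have hconst : ∀ q ∈ Finset.univ.filter (fun q : Fin n × Fin n => q.1 ≠ q.2), N u v q.1 q.2 = N u v x y := by
      rintro ⟨x', y'⟩ hq
      simp only [Finset.mem_filter, Finset.mem_univ, true_and] at hq
      obtain ⟨τ, hτ, hτi⟩ := even_extend (k := 2) (by omega) ![x', y'] ![x, y]
        (by intro i j; fin_cases i <;> fin_cases j <;> simp [hq, Ne.symm hq])
        (by intro i j; fin_cases i <;> fin_cases j <;> simp [hxy, Ne.symm hxy])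
      have h0 : τ x' = x := hτi 0
      have h1 : τ y' = y := hτi 1
      simp only [N]
      congr 1
      refine Finset.card_equiv (Equiv.mulLeft (⟨τ, hτ⟩ : A)) fun g => ?_
      simp [← h0, ← h1]
    have htot : ∑ q ∈ Finset.univ.filter (fun q : Fin n × Fin n => q.1 ≠ q.2), N u v q.1 q.2 = Fintype.card A := by
      simp only [N, ← Nat.cast_sum]
      congr 1
      rw [← Finset.card_univ, Finset.card_eq_sum_card_fiberwise
        (f := fun g : A => ((g : Perm (Fin n)) u, (g : Perm (Fin n)) v))
        (t := Finset.univ.filter (fun q : Fin n × Fin n => q.1 ≠ q.2))]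
      · refine Finset.sum_congr rfl fun q _ => congrArg Finset.card (Finset.filter_congr fun g _ => ?_)
        simp [Prod.ext_iff]
      · intro g _; simp [(g : Perm (Fin n)).injective.ne huv]
    rw [Finset.sum_congr rfl hconst, Finset.sum_const, nsmul_eq_mul] at htot
    have hc : ((Finset.univ.filter fun q : Fin n × Fin n => q.1 ≠ q.2).card : ℤ) = n * (n - 1) := by
      have : (Finset.univ.filter fun q : Fin n × Fin n => q.1 ≠ q.2) = (Finset.univ : Finset (Fin n)).offDiag := by
        ext q; simp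
      rw [this, Finset.offDiag_card, Finset.card_univ, Fintype.card_fin, Nat.cast_sub (Nat.le_mul_self n), Nat.cast_mul]
      ring
    rw [hc] at htot
    exact htot
  have hN1 : ∀ u x : Fin n, (n : ℤ) * N u u x x = Fintype.card A := by
    intro u x
    have hconst : ∀ x' : Fin n, N u u x' x' = N u u x x := by
      intro x'
      obtain ⟨τ, hτ, hτi⟩ := even_extend (k := 1) (by omega) ![x'] ![x]
        (Function.injective_of_subsingleton _) (Function.injective_of_subsingleton _)
      have h0 : τ x' = x := hτi 0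
      simp only [N]
      congr 1
      refine Finset.card_equiv (Equiv.mulLeft (⟨τ, hτ⟩ : A)) fun g => ?_
      simp [← h0]
    have htot : ∑ x' : Fin n, N u u x' x' = Fintype.card A := by
      simp only [N, ← Nat.cast_sum, and_self]
      congr 1
      rw [← Finset.card_univ, Finset.card_eq_sum_card_fiberwise
        (f := fun g : A => (g : Perm (Fin n)) u) (t := Finset.univ) (fun g _ => Finset.mem_univ _)]
    rw [Finset.sum_congr rfl fun x' _ => hconst x', Finset.sum_const, Finset.card_univ, Fintype.card_fin, nsmul_eq_mul] at htot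
    exact htot
  have hexp : ∑ g : A, (agree a b g : ℤ) = ∑ u : Fin n, ∑ x : Fin n, N u (b u) x (a x) := by
    simp only [hpt, N, Finset.card_filter, Nat.cast_sum, Nat.cast_ite, Nat.cast_one, Nat.cast_zero]
    rw [Finset.sum_comm]
    refine Finset.sum_congr rfl fun u _ => ?_
    conv_rhs => rw [Finset.sum_comm]
    refine Finset.sum_congr rfl fun g _ => ?_
    rw [Finset.sum_eq_single ((g : Perm (Fin n)) u) (fun x _ hx => by simp [Ne.symm hx]) (by simp)]
    simp
  have hterm : ∀ u x : Fin n, (n * (n - 1) : ℤ) * N u (b u) x (a x) = Fintype.card A *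
      ((if b u = u then (1 : ℤ) else 0) * (if a x = x then 1 else 0) * (n - 1) +
        (1 - if b u = u then (1 : ℤ) else 0) * (1 - if a x = x then 1 else 0)) := by
    intro u x
    by_cases hu : b u = u <;> by_cases hx : a x = x
    · rw [hu, hx, mul_comm (n : ℤ), mul_assoc, hN1]; simp; ring
    · have h0 : N u u x (a x) = 0 := by
        simp only [N, Nat.cast_eq_zero, Finset.card_eq_zero, Finset.filter_eq_empty_iff]
        exact fun g _ h => hx (h.2.symm.trans h.1)
      simp [hu, hx, h0]
    · have h0 : N u (b u) x x = 0 := by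
        simp only [N, Nat.cast_eq_zero, Finset.card_eq_zero, Finset.filter_eq_empty_iff]
        exact fun g _ h => hu ((g : Perm (Fin n)).injective (h.2.trans h.1.symm))
      simp [hu, hx, h0]
    · rw [hN2 u (b u) x (a x) (Ne.symm hu) (Ne.symm hx)]; simp [hu, hx]
  rw [hexp, Finset.mul_sum]
  simp only [Finset.mul_sum, hterm]
  simp only [← Finset.mul_sum, Finset.sum_add_distrib, Finset.sum_sub_distrib, Finset.sum_const, Finset.card_univ,
    Fintype.card_fin, nsmul_eq_mul, mul_one, ← Finset.sum_mul, Finset.sum_boole]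
  simp only [fp]
  ring

theorem inj2 {x y : Fin n} (h : x ≠ y) : Function.Injective ![x, y] := by
  intro i j hij
  fin_cases i <;> fin_cases j <;> simp at hij ⊢
  · exact h hij
  · exact h hij.symm

theorem inj3 {x y z : Fin n} (h1 : x ≠ y) (h2 : x ≠ z) (h3 : y ≠ z) : Function.Injective ![x, y, z] := by
  intro i j hij
  fin_cases i <;> fin_cases j <;> simp at hij ⊢
  all_goals first
    | exact h1 hij | exact h1 hij.symm | exact h2 hij | exact h2 hij.symm | exact h3 hij | exact h3 hij.symm

theorem exists_chain (a : Perm (Fin n)) (h : ∃ x, a (a x) ≠ x) :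
    ∃ x, a x ≠ x ∧ a (a x) ≠ x ∧ a (a x) ≠ a x := by
  obtain ⟨x, hx⟩ := h
  have h1 : a x ≠ x := fun h => hx (by rw [h, h])
  exact ⟨x, h1, hx, fun h => h1 (a.injective h)⟩

theorem exists_two_arcs (hn : 5 ≤ n) (a : Perm (Fin n)) (ha : fp a ≤ 1) :
    ∃ w : Fin 4 → Fin n, Function.Injective w ∧ a (w 0) = w 2 ∧ a (w 1) = w 3 := by
  classical
  have hcard : fp a + (Finset.univ.filter fun x => ¬ a x = x).card = n := by
    have h3 := Finset.card_filter_add_card_filter_not (s := Finset.univ) (fun x : Fin n => a x = x)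
    rw [Finset.card_univ, Fintype.card_fin] at h3
    exact h3
  obtain ⟨x, hx⟩ := Finset.card_pos.1 (show 0 < (Finset.univ.filter fun x => ¬ a x = x).card by omega)
  simp only [Finset.mem_filter, Finset.mem_univ, true_and] at hx
  have hex : 0 < ((Finset.univ.filter fun x => ¬ a x = x) \ {x, a x, a⁻¹ x}).card := by
    have := Finset.le_card_sdiff {x, a x, a⁻¹ x} (Finset.univ.filter fun x => ¬ a x = x)
    have h3 : ({x, a x, a⁻¹ x} : Finset (Fin n)).card ≤ 3 := Finset.card_le_three
    omega
  obtain ⟨z, hz⟩ := Finset.card_pos.1 hex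
  simp only [Finset.mem_sdiff, Finset.mem_filter, Finset.mem_univ, true_and, Finset.mem_insert, Finset.mem_singleton, not_or] at hz
  obtain ⟨hz, h1, h2, h3⟩ := hz
  have h4 : a z ≠ x := fun h => h3 (Perm.eq_inv_iff_eq.2 h)
  have h5 : a z ≠ a x := fun h => h1 (a.injective h)
  refine ⟨![x, z, a x, a z], ?_, rfl, rfl⟩
  intro i j hij
  fin_cases i <;> fin_cases j <;> simp_all [eq_comm]

/-- The key statement: agreement is not constantly `f`. -/
theorem not_const (hn : 5 ≤ n) (a b : Perm (Fin n)) (ha : a ≠ 1) (hb : b ≠ 1) (f : ℕ)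
    (hf : ∀ σ ∈ alternatingGroup (Fin n), agree a b σ = f) : False := by
  classical
  have hfa := fp_le a ha
  have hfb := fp_le b hb
  have key : (f : ℤ) * (n - 1) = (n - 1) + ((fp a : ℤ) - 1) * ((fp b : ℤ) - 1) := by
    have h := sum_agree (by omega) a b
    rw [Finset.sum_congr rfl fun g _ => by rw [hf g g.2], Finset.sum_const, Finset.card_univ, nsmul_eq_mul] at h
    have hA : (Fintype.card (alternatingGroup (Fin n)) : ℤ) ≠ 0 := by exact_mod_cast Fintype.card_ne_zero
    have h' := mul_left_cancel₀ hA (show (Fintype.card (alternatingGroup (Fin n)) : ℤ) * (n * ((n - 1) * f)) =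
      Fintype.card (alternatingGroup (Fin n)) * ((fp a : ℤ) * fp b * (n - 1) + (n - fp a) * (n - fp b)) by
        rw [← h]; ring)
    have hn0 : (n : ℤ) ≠ 0 := by omega
    apply mul_left_cancel₀ hn0
    linear_combination h'
  -- common fixed points
  have hfix : ∀ k, k ≤ fp a → k ≤ fp b → k ≤ f := by
    intro k ka kb
    obtain ⟨ea⟩ := Function.Embedding.nonempty_of_card_le (α := Fin k) (β := {x : Fin n // a x = x})
      (by rw [Fintype.card_fin, Fintype.card_subtype]; exact ka)
    obtain ⟨eb⟩ := Function.Embedding.nonempty_of_card_le (α := Fin k) (β := {x : Fin n // b x = x})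
      (by rw [Fintype.card_fin, Fintype.card_subtype]; exact kb)
    obtain ⟨σ, hσ, hσi⟩ := even_extend (by omega) (fun i => (eb i : Fin n)) (fun i => (ea i : Fin n))
      (Subtype.val_injective.comp eb.injective) (Subtype.val_injective.comp ea.injective)
    refine hf σ hσ ▸ le_agree a b σ _ (Subtype.val_injective.comp eb.injective) fun i => ?_
    show σ (b (eb i)) = a (σ (eb i))
    rw [(eb i).2, hσi, (ea i).2]
  by_cases hpos : 1 ≤ fp a ∧ 1 ≤ fp b
  · have hm := hfix _ (min_le_left (fp a) (fp b)) (min_le_right _ _)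
    by_cases hm2 : 2 ≤ fp a ∧ 2 ≤ fp b
    · rcases le_total (fp a) (fp b) with hle | hle
      · rw [min_eq_left hle] at hm
        have h1 : ((fp a : ℤ) - 1) * (n - 1) ≤ ((f : ℤ) - 1) * (n - 1) := mul_le_mul_of_nonneg_right (by omega) (by omega)
        have h2 : ((fp a : ℤ) - 1) * ((fp b : ℤ) - 1) < ((fp a : ℤ) - 1) * (n - 1) := mul_lt_mul_of_pos_left (by omega) (by omega)
        linarith
      · rw [min_eq_right hle] at hm
        have h1 : ((fp b : ℤ) - 1) * (n - 1) ≤ ((f : ℤ) - 1) * (n - 1) := mul_le_mul_of_nonneg_right (by omega) (by omega)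
        have h2 : ((fp a : ℤ) - 1) * ((fp b : ℤ) - 1) < ((fp b : ℤ) - 1) * (n - 1) := by
          rw [mul_comm ((fp a : ℤ) - 1)]; exact mul_lt_mul_of_pos_left (by omega) (by omega)
        linarith
    · have hf1 : f = 1 := by
        have h0 : ((fp a : ℤ) - 1) * ((fp b : ℤ) - 1) = 0 := by
          rw [mul_eq_zero]; omega
        rw [h0, add_zero] at key
        have := mul_right_cancel₀ (show ((n : ℤ) - 1) ≠ 0 by omega) (key.trans (one_mul _).symm)
        exact_mod_cast this
      -- one fixed point and one arc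
      obtain ⟨z, hz⟩ := Finset.card_pos.1 (show 0 < fp a from hpos.1)
      obtain ⟨w, hw⟩ := Finset.card_pos.1 (show 0 < fp b from hpos.2)
      simp only [Finset.mem_filter, Finset.mem_univ, true_and] at hz hw
      obtain ⟨x, hx⟩ : ∃ x, a x ≠ x := not_forall.1 fun h => ha (Equiv.ext h)
      obtain ⟨u, hu⟩ : ∃ u, b u ≠ u := not_forall.1 fun h => hb (Equiv.ext h)
      have hu1 : w ≠ u := fun h => hu (h ▸ hw)
      have hu2 : w ≠ b u := fun h => hu (b.injective (by rw [← h, hw]))
      have hx1 : z ≠ x := fun h => hx (h ▸ hz)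
      have hx2 : z ≠ a x := fun h => hx (a.injective (by rw [← h, hz]))
      obtain ⟨σ, hσ, hσi⟩ := even_extend (k := 3) (by omega) ![w, u, b u] ![z, x, a x]
        (inj3 hu1 hu2 (Ne.symm hu)) (inj3 hx1 hx2 (Ne.symm hx))
      have s0 : σ w = z := hσi 0
      have s1 : σ u = x := hσi 1
      have s2 : σ (b u) = a x := hσi 2
      have := hf σ hσ ▸ le_agree a b σ ![w, u] (inj2 hu1)
        (by intro i; fin_cases i <;> simp [hw, hz, s0, s1, s2])
      omega
  -- one of them is fixed-point-free
  have hab : (fp a = 0 ∧ fp b = 1 ∨ fp a = 1 ∧ fp b = 0) ∧ f = 1 := by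
    have : ∀ F : ℕ, F + 2 ≤ n → (f : ℤ) * (n - 1) = (n - 1) - ((F : ℤ) - 1) → F = 1 ∧ f = 1 := by
      intro F hF h
      have h1 : ((f : ℤ) - 1) * (n - 1) = 1 - F := by linarith
      rcases lt_trichotomy ((f : ℤ) - 1) 0 with h2 | h2 | h2
      · have : ((f : ℤ) - 1) * (n - 1) ≤ (-1) * (n - 1) := mul_le_mul_of_nonneg_right (by omega) (by omega)
        omega
      · rw [h2, zero_mul] at h1; omega
      · have : 1 * ((n : ℤ) - 1) ≤ ((f : ℤ) - 1) * (n - 1) := mul_le_mul_of_nonneg_right (by omega) (by omega)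
        omega
    rcases Nat.eq_zero_or_pos (fp a) with h | h
    · rw [h] at key
      obtain ⟨h1, h2⟩ := this (fp b) hfb (by rw [key]; push_cast; ring)
      exact ⟨Or.inl ⟨h, h1⟩, h2⟩
    · have h0 : fp b = 0 := by omega
      rw [h0] at key
      obtain ⟨h1, h2⟩ := this (fp a) hfa (by rw [key]; push_cast; ring)
      exact ⟨Or.inr ⟨h1, h0⟩, h2⟩
  obtain ⟨hab, hf1⟩ := hab
  have hno : ∀ σ ∈ alternatingGroup (Fin n), ∀ u v : Fin n, u ≠ v → σ (b u) = a (σ u) → σ (b v) = a (σ v) → False := by
    intro σ hσ u v huv hu hv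
    have := hf σ hσ ▸ le_agree a b σ ![u, v] (inj2 huv)
      (by intro i; fin_cases i <;> simpa)
    omega
  by_cases h6 : 6 ≤ n
  · obtain ⟨w, hw, w02, w13⟩ := exists_two_arcs hn a (by omega)
    obtain ⟨w', hw', w02', w13'⟩ := exists_two_arcs hn b (by omega)
    obtain ⟨σ, hσ, hσi⟩ := even_extend (k := 4) (by omega) w' w hw' hw
    exact hno σ hσ (w' 0) (w' 1) (hw'.ne (by decide)) (by rw [w02', hσi, hσi, w02]) (by rw [w13', hσi, hσi, w13])
  -- degree five
  have hn5 : n = 5 := by omega
  by_cases hch : (∃ x, a (a x) ≠ x) ∧ ∃ x, b (b x) ≠ x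
  · obtain ⟨x, x1, x2, x3⟩ := exists_chain a hch.1
    obtain ⟨u, u1, u2, u3⟩ := exists_chain b hch.2
    obtain ⟨σ, hσ, hσi⟩ := even_extend (k := 3) (by omega) ![u, b u, b (b u)] ![x, a x, a (a x)]
      (inj3 (Ne.symm u1) (Ne.symm u2) (Ne.symm u3)) (inj3 (Ne.symm x1) (Ne.symm x2) (Ne.symm x3))
    have s0 : σ u = x := hσi 0
    have s1 : σ (b u) = a x := hσi 1
    have s2 : σ (b (b u)) = a (a x) := hσi 2
    exact hno σ hσ u (b u) (Ne.symm u1) (by rw [s1, s0]) (by rw [s2, s1])
  -- an involution with one fixed point against anything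
  have hinv : ∀ (c : Perm (Fin n)), (∀ x, c (c x) = x) → ∀ x, Equiv.swap x (c x) * c = c * Equiv.swap x (c x) := by
    intro c hc x
    rw [Equiv.mul_swap_eq_swap_mul, hc, Equiv.swap_comm]
  -- arbitrary (possibly odd) matchings of two arcs
  have hmatch : ∀ σ : Perm (Fin n), ∀ u v : Fin n, u ≠ v → σ (b u) = a (σ u) → σ (b v) = a (σ v) → False := by
    intro σ u v huv hu hv
    by_cases hσ : σ ∈ alternatingGroup (Fin n)
    · exact hno σ hσ u v huv hu hv
    have hs : sign σ = -1 := by
      rw [mem_alternatingGroup] at hσ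
      exact (Int.units_eq_one_or _).resolve_left hσ
    rcases not_and_or.1 hch with h | h <;> push Not at h
    · obtain ⟨x, hx⟩ : ∃ x, a x ≠ x := not_forall.1 fun h => ha (Equiv.ext h)
      set τ := Equiv.swap x (a x)
      have hc : ∀ y, τ (a y) = a (τ y) := fun y => Equiv.ext_iff.1 (hinv a h x) y
      exact hno (τ * σ) (by rw [mem_alternatingGroup, map_mul, hs, sign_swap (Ne.symm hx), Int.units_mul_self])
        u v huv (by simp [hu, hc]) (by simp [hv, hc])
    · obtain ⟨x, hx⟩ : ∃ x, b x ≠ x := not_forall.1 fun h => hb (Equiv.ext h)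
      set τ := Equiv.swap x (b x)
      have hc : ∀ y, τ (b y) = b (τ y) := fun y => Equiv.ext_iff.1 (hinv b h x) y
      exact hno (σ * τ) (by rw [mem_alternatingGroup, map_mul, hs, sign_swap (Ne.symm hx), Int.units_mul_self])
        (τ u) (τ v) (τ.injective.ne huv) (by simp [← hc, hu, Equiv.swap_apply_self, τ]) (by simp [← hc, hv, Equiv.swap_apply_self, τ])
  obtain ⟨w, hw, w02, w13⟩ := exists_two_arcs hn a (by omega)
  obtain ⟨w', hw', w02', w13'⟩ := exists_two_arcs hn b (by omega)
  obtain ⟨σ, hσi⟩ := Equiv.Perm.exists_extending_pair w' w hw' hw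
  exact hmatch σ (w' 0) (w' 1) (hw'.ne (by decide)) (by rw [w02', hσi, hσi, w02]) (by rw [w13', hσi, hσi, w13])

theorem main (hn : 5 ≤ n) (a b : Perm (Fin n)) (ha : a ≠ 1) (hb : b ≠ 1) :
    ∃ g₁ h₁ g₂ h₂ : Perm (Fin n), g₁ ∈ alternatingGroup (Fin n) ∧ h₁ ∈ alternatingGroup (Fin n) ∧
      g₂ ∈ alternatingGroup (Fin n) ∧ h₂ ∈ alternatingGroup (Fin n) ∧
      Nat.card (Function.fixedPoints ⇑(g₁ * a * g₁⁻¹ * (h₁ * b * h₁⁻¹))) ≠
        Nat.card (Function.fixedPoints ⇑(g₂ * a * g₂⁻¹ * (h₂ * b * h₂⁻¹))) := by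
  classical
  have hconv : ∀ σ : Perm (Fin n), Nat.card (Function.fixedPoints ⇑((1 : Perm (Fin n)) * a * 1⁻¹ * (σ * b * σ⁻¹))) =
      agree a⁻¹ b σ := by
    intro σ
    rw [Nat.card_eq_fintype_card, agree, ← Fintype.card_coe]
    refine Fintype.card_congr (Equiv.subtypeEquivRight fun x => ?_)
    rw [Finset.mem_filter]
    simp only [Function.mem_fixedPoints, Function.IsFixedPt, Finset.mem_univ, true_and, one_mul, inv_one, mul_one, Perm.mul_apply]
    exact Perm.eq_inv_iff_eq.symm
  by_contra hcon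
  push Not at hcon
  exact not_const hn a⁻¹ b (inv_ne_one.2 ha) hb (agree a⁻¹ b 1) fun σ hσ => by
    rw [← hconv, ← hconv]
    exact hcon 1 σ 1 1 (one_mem _) hσ (one_mem _) (one_mem _)

end CfsgLib.Fus.FixCount
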