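import Cfsg.Agent.Fus.TransferFusion
import Cfsg.Agent.Fus.KInf

/-!
For `p ≥ 5` the focal subgroup is proper when the automizer of `S` is a `p`-group.
-/

set_option autoImplicit false
set_option linter.style.haveILetI false

open Cfsg Cfsg.FusionSystem
open scoped commutatorElement

namespace CfsgLib.Fus

universe u

variable {p : ℕ}

theorem focal_le_base {Ω : Type u} [Group Ω] {S : Subgroup Ω} (F : FusionSystem S) : F.focalSubgroup ≤ S :=
  (Subgroup.closure_le _).2 fun y hy => by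
    obtain ⟨P, φ, x, hφ, rfl⟩ := hy
    exact S.mul_mem (S.inv_mem ((F.le_of_mem hφ).1 x.2)) ((F.le_of_mem hφ).2 x)

theorem focal_le_of_tgood {Ω : Type u} [Group Ω] {S : Subgroup Ω} {F : FusionSystem S} {X : Subgroup Ω}
    (h : ∀ P f, IsMap F P f → TGood X P f) : F.focalSubgroup ≤ X := by
  refine (Subgroup.closure_le _).2 ?_
  rintro _ ⟨P, φ, x, hφ, rfl⟩
  have h1 := h P _ (IsMap.of_hom hφ) x x.2
  rwa [ev_apply] at h1

theorem focal_proper (hp : p.Prime) (h5 : 5 ≤ p) : ∀ (n : ℕ) (Ω : Type u) [Group Ω] (S : Subgroup Ω) [Finite S]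
    (F : FusionSystem S), Nat.card ↥S = n → IsPGroup p S → F.IsSaturated p → S ≠ ⊥ →
      IsPGroup p ↥(F.autGroup S) → F.focalSubgroup < S := by
  haveI : Fact p.Prime := ⟨hp⟩
  intro n
  induction n using Nat.strong_induction_on with
  | _ n ih =>
  intro Ω _ S _ F hn hS hF hS1 haut
  have hW := KInf.isCharPFunctor_lower.{u} p
  have hgrp : ∀ (L : Type u) [Group L] [Finite L] (T : Subgroup L), Glau.Syl p T ⊤ →
      Glau.Tra (inducedFunctor kInfLower) T ⊤ := fun L _ _ T hT =>
    (Glau.kInf_transfer (G := L) h5).1 L (Glau.isSec_self L) ⊤ T hT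
  -- automorphisms of `S` are inner
  obtain ⟨Rs, hRs⟩ := (fullyNormalized_spec hS hF (fullyNormalized_top (F := F))).1.2
  have hinn : ∀ α ∈ F.autGroup S, ∃ s ∈ S, ∀ x ∈ S, autFun α x = s * x * s⁻¹ := fun α hα => by
    have htop : (⊤ : Subgroup ↥(F.autGroup S)) = (Rs : Subgroup ↥(F.autGroup S)) :=
      Rs.is_maximal' (haut.to_subgroup _) le_top
    have hmem : (⟨α, hα⟩ : ↥(F.autGroup S)) ∈ (Rs : Subgroup ↥(F.autGroup S)) := htop ▸ Subgroup.mem_top _
    rw [hRs] at hmem
    exact mem_autInducedBy.1 (Subgroup.mem_subgroupOf.1 hmem)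
  let WS : Subgroup Ω := inducedFunctor kInfLower S
  have hWS : WS ≤ S := ind_le _ S
  have hR : normalizerIn S WS = S := le_antisymm inf_le_left ((le_normalizerIn le_rfl).trans
    (normalizerIn_le_functor F hW hS le_rfl))
  haveI : Nontrivial ↥S := (Subgroup.nontrivial_iff_ne_bot S).2 hS1
  by_cases hWeq : WS = S
  · refine lt_of_le_of_lt (focal_le_of_tgood (controlsFocal hW hgrp Ω S F hS hF ⁅S, S⁆ ?_ le_rfl ?_))
      (lt_of_le_of_ne ?_ fun he => ?_)
    · exact Subgroup.commutator_le.2 fun a ha b hb => by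
        rw [commutatorElement_def]
        exact S.mul_mem (S.mul_mem (S.mul_mem ha hb) (S.inv_mem ha)) (S.inv_mem hb)
    · intro P f hf hWP hfW
      obtain rfl : P = S := le_antisymm hf.le (hWeq.ge.trans hWP)
      obtain ⟨α, hα, hαe⟩ := exists_aut hf (Subgroup.eq_of_le_of_card_ge hf.img_le hf.card_img.ge)
      obtain ⟨s, hs, hse⟩ := hinn α hα
      exact (tgood_conjF le_rfl le_rfl hs).congr fun x hx => (hse x hx).symm.trans (hαe x hx)
    · exact Subgroup.commutator_le.2 fun a ha b hb => by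
        rw [commutatorElement_def]
        exact S.mul_mem (S.mul_mem (S.mul_mem ha hb) (S.inv_mem ha)) (S.inv_mem hb)
    · haveI : Group.IsNilpotent ↥S := hS.isNilpotent
      refine (Group.IsSolvable.commutator_lt_top_of_nontrivial ↥S).ne ?_
      rw [← Subgroup.map_injective S.subtype_injective |>.eq_iff, map_commutator_subtype, he,
        ← MonoidHom.range_eq_map, Subgroup.range_subtype]
  -- factor by the functor value
  obtain ⟨N, hN⟩ := exists_normalizerSystem F hWS
  have hWfn : F.IsFullyNormalized WS := ⟨hWS, fun Q _ => by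
    rw [hR]; exact Subgroup.card_le_of_le (normalizerIn_le Q)⟩
  have hNsat := normalizerSystem_saturated hS hF hWfn hN
  let C := normalizerIn S WS
  haveI : Finite ↥C := finite_of_le (normalizerIn_le WS)
  have hCp : IsPGroup p ↥C := isPGroup_of_le hS (normalizerIn_le WS)
  have hWsc : N.StronglyClosed WS := stronglyClosed_iff.2 ⟨le_normalizerIn hWS, fun P f h x hxP hxW => by
    obtain ⟨-, -, g, -, hge, hgW⟩ := isMap_of_normalizerSystem hN h
    rw [← hge x hxP]
    exact hgW.le (mem_img_of_mem hxW)⟩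
  haveI hWn : (WS.subgroupOf C).Normal := ⟨fun a ha b => conj_mem_of_normalizer (P := WS) b.2.2 ha⟩
  obtain ⟨E, hE⟩ := exists_factorSystem N hWsc
  have hEsat := Factor.saturated hCp hNsat hWsc hE
  let θ := QuotientGroup.mk' (WS.subgroupOf C)
  haveI : Finite ↥(⊤ : Subgroup (↥C ⧸ WS.subgroupOf C)) := Factor.finite_range hE
  have hEp : IsPGroup p ↥(⊤ : Subgroup (↥C ⧸ WS.subgroupOf C)) := Factor.isPGroup_range hCp hE
  have hW0 : WS ≠ ⊥ := ind_ne_bot hW hS hS1
  have hlt : Nat.card ↥(⊤ : Subgroup (↥C ⧸ WS.subgroupOf C)) < n :=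
    (Factor.card_factor_lt hE hW0).trans_le (hn ▸ Subgroup.card_le_of_le (normalizerIn_le WS))
  have htop : (⊤ : Subgroup (↥C ⧸ WS.subgroupOf C)) ≠ ⊥ := fun h => hWeq (le_antisymm hWS fun s hs => by
    have h1 : θ ⟨s, hR.ge hs⟩ = 1 := Subgroup.mem_bot.1 (h ▸ Subgroup.mem_top _)
    exact (hE.2.1 _).1 h1)
  have hEaut : IsPGroup p ↥(E.autGroup ⊤) := by
    rintro ⟨α, hα⟩
    have hαm := (mem_autGroup (le_refl (⊤ : Subgroup (↥C ⧸ WS.subgroupOf C)))).1 hα
    obtain ⟨f, hf, hfe⟩ := Factor.lift hE hαm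
    have hpre : preimageAlong θ (⊤ : Subgroup (↥C ⧸ WS.subgroupOf C)) = S :=
      le_antisymm (preimageAlong_le.trans (normalizerIn_le WS)) fun s hs =>
        Factor.mem_pre.2 ⟨hR.ge hs, trivial⟩
    rw [hpre] at hf hfe
    have hfF : IsMap F S f := (isMap_of_normalizerSystem hN hf).1
    obtain ⟨β, hβ, hβe⟩ := exists_aut hfF (Subgroup.eq_of_le_of_card_ge hfF.img_le hfF.card_img.ge)
    obtain ⟨k, hk⟩ := haut ⟨β, hβ⟩
    have hk' : β ^ p ^ k = 1 := congrArg Subtype.val hk
    have hiter : ∀ i : ℕ, ∀ s ∈ S, autFun (α ^ i) (Factor.th θ s) = Factor.th θ (autFun (β ^ i) s) := by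
      intro i
      induction i with
      | zero => exact fun s hs => by rw [pow_zero, pow_zero, autFun_one (Subgroup.mem_top _), autFun_one hs]
      | succ i ihi =>
        intro s hs
        rw [pow_succ', pow_succ', autFun_mul _ _ (Subgroup.mem_top _), autFun_mul _ _ hs, ihi s hs,
          hfe _ (autFun_mem _ hs), hβe _ (autFun_mem _ hs)]
    refine ⟨k, Subtype.ext (aut_ext fun y hy => ?_)⟩
    obtain ⟨s, hs, rfl⟩ := Factor.th_surj hE hy
    show autFun (α ^ p ^ k) _ = autFun 1 _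
    rw [hiter _ s (normalizerIn_le WS hs), hk', autFun_one hy, autFun_one (normalizerIn_le WS hs)]
  have hEfoc := ih _ hlt _ _ E rfl hEp hEsat htop hEaut
  let X := preimageAlong θ E.focalSubgroup
  have hXS : X ≤ S := preimageAlong_le.trans (normalizerIn_le WS)
  refine lt_of_le_of_lt (focal_le_of_tgood (controlsFocal hW hgrp Ω S F hS hF X hXS ?_ ?_))
    (lt_of_le_of_ne hXS fun he => hEfoc.not_ge fun y hy => ?_)
  · refine Subgroup.commutator_le.2 fun a ha b hb => Factor.mem_pre.2 ⟨?_, ?_⟩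
    · rw [commutatorElement_def]
      exact hR.ge (S.mul_mem (S.mul_mem (S.mul_mem ha hb) (S.inv_mem ha)) (S.inv_mem hb))
    · rw [commutatorElement_def, Factor.th_mul, Factor.th_mul, Factor.th_mul, Factor.th_inv, Factor.th_inv,
        ← commutatorElement_def]
      · exact commutator_le_focal (Subgroup.commutator_mem_commutator trivial trivial)
      all_goals
        apply hR.ge
        first
          | exact ha | exact hb | exact S.inv_mem ha | exact S.inv_mem hb | exact S.mul_mem ha hb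
          | exact S.mul_mem (S.mul_mem ha hb) (S.inv_mem ha)
  · intro P f hf hWP hfW x hx
    have hPC : P ≤ C := hf.le.trans hR.ge
    have hfN : IsMap N P f := isMap_normalizerSystem hN hf hWP hfW hPC
    let P' := (P.subgroupOf C).map θ
    have hpre : preimageAlong θ P' ≤ P := fun a ha => by
      obtain ⟨haC, b, hb, hba⟩ := Factor.mem_pre.1 ha
      have h1 : Factor.th θ ((b : ↥C) : Ω) = Factor.th θ a := (Factor.th_coe b).trans hba
      rw [Factor.th_eq_iff hE b.2 haC] at h1
      have h2 := P.mul_mem (Subgroup.mem_subgroupOf.1 hb) (hWP h1)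
      rwa [mul_inv_cancel_left] at h2
    obtain ⟨f', hf', hfe⟩ := Factor.push hWsc hE le_top (hfN.mono hpre)
    have hxpre : x ∈ preimageAlong θ P' := Factor.mem_pre.2 ⟨hPC hx, by
      rw [Factor.th_of_mem (hPC hx)]; exact ⟨_, Subgroup.mem_subgroupOf.2 hx, rfl⟩⟩
    have hxC : x ∈ C := hPC hx
    refine Factor.mem_pre.2 ⟨Subgroup.mul_mem _ (Subgroup.inv_mem _ hxC) (hfN.mem hx), ?_⟩
    rw [Factor.th_mul (Subgroup.inv_mem _ hxC) (hfN.mem hx), Factor.th_inv hxC, ← hfe x hxpre]
    exact mem_focal_of_map hf' (Factor.mem_pre.1 hxpre).2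
  · obtain ⟨s, hs, rfl⟩ := Factor.th_surj hE hy
    exact (Factor.mem_pre.1 (he.ge (normalizerIn_le WS hs) : s ∈ X)).2

end CfsgLib.Fus
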