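import Cfsg.Agent.Fus.WeakClosureCenter

/-!
A characteristic subgroup functor containing the centre, satisfying the local centre condition in finite groups, controls the
weak closure of elements in saturated systems.
-/

set_option autoImplicit false
set_option linter.style.haveILetI false

open Cfsg Cfsg.FusionSystem

namespace CfsgLib.Fus

universe u

variable (W : ∀ (Q : Type u) [Group Q], Subgroup Q) {Ω : Type u} [Group Ω] {S : Subgroup Ω} {F : FusionSystem S} {p : ℕ}

/-- The value of a functor at a subgroup, inside the ambient group. -/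
def fnAt (R : Subgroup Ω) : Subgroup Ω := (W ↥R).map R.subtype

theorem fnAt_le (R : Subgroup Ω) : fnAt W R ≤ R := Subgroup.map_subtype_le _

/-- Maps respect the functor. -/
theorem img_fnAt [Finite S] (hS : IsPGroup p S)
    (hW2 : ∀ (Q R : Type u) [Group Q] [Group R] [Finite Q], IsPGroup p Q → ∀ φ : Q ≃* R, (W Q).map φ.toMonoidHom = W R)
    {M R : Subgroup Ω} {f : Ω → Ω} (hf : IsMap F M f) (hR : R ≤ M) : img f (fnAt W R) = fnAt W (img f R) := by
  have hg := hf.mono hR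
  haveI := finite_of_le hg.le
  obtain ⟨e, he⟩ := hg.equiv rfl
  have h := hW2 _ _ (hS.to_le hg.le) e
  refine le_antisymm (img_le_iff.2 ?_) ?_
  · rintro _ ⟨x, hx, rfl⟩
    exact ⟨e x, h.le ⟨x, hx, rfl⟩, he x⟩
  · rintro _ ⟨y, hy, rfl⟩
    obtain ⟨x, hx, rfl⟩ := h.ge hy
    show ((e x : ↥(img f R)) : Ω) ∈ img f (fnAt W R)
    rw [he]
    exact mem_img_of_mem ⟨x, hx, rfl⟩

theorem normalizerIn_le_fnAt [Finite S] (hS : IsPGroup p S)
    (hW2 : ∀ (Q R : Type u) [Group Q] [Group R] [Finite Q], IsPGroup p Q → ∀ φ : Q ≃* R, (W Q).map φ.toMonoidHom = W R)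
    {R : Subgroup Ω} (hR : R ≤ S) : normalizerIn S R ≤ normalizerIn S (fnAt W R) := by
  haveI := finite_of_le hR
  have hmem : ∀ a ∈ normalizerIn S R, ∀ y ∈ fnAt W R, a * y * a⁻¹ ∈ fnAt W R := by
    intro a ha y hy
    have hm : IsMap (innerFusionSystem S) R (conjF a) := IsMap.conj _ hR ha.1
    have hRi : img (conjF a) R = R := Subgroup.eq_of_le_of_card_ge
      (img_le_iff.2 fun x hx => conj_mem_of_normalizer ha.2 hx) hm.card_img.ge
    have h := img_fnAt W hS hW2 hm le_rfl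
    rw [hRi] at h
    exact h.le (mem_img_of_mem hy)
  refine fun a ha => ⟨ha.1, mem_normalizer_of_conj (hmem a ha) fun y hy => ?_⟩
  simpa using hmem a⁻¹ (InvMemClass.inv_mem ha) y hy

theorem normalizerIn_fnAt_self [Finite S] (hS : IsPGroup p S)
    (hW2 : ∀ (Q R : Type u) [Group Q] [Group R] [Finite Q], IsPGroup p Q → ∀ φ : Q ≃* R, (W Q).map φ.toMonoidHom = W R) :
    normalizerIn S (fnAt W S) = S :=
  le_antisymm (normalizerIn_le _) ((le_normalizerIn le_rfl).trans (normalizerIn_le_fnAt W hS hW2 le_rfl))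

/-- A functor containing the centre and controlling centres in finite groups controls weak closure of central elements. -/
theorem fnAt_fixed [Finite S] [Fact p.Prime] (hS : IsPGroup p S) (hF : F.IsSaturated p)
    (hW2 : ∀ (Q R : Type u) [Group Q] [Group R] [Finite Q], IsPGroup p Q → ∀ φ : Q ≃* R, (W Q).map φ.toMonoidHom = W R)
    (hWZ : ∀ (Q : Type u) [Group Q] [Finite Q], IsPGroup p Q → Subgroup.center Q ≤ W Q)
    (hC : ∀ (G : Type u) [Group G] [Finite G] (P : Sylow p G), Cfsg.pCore p G ⊓ Subgroup.center G =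
      Cfsg.pCore p G ⊓ (Subgroup.center ↥(Subgroup.normalizer (((W ↥(P : Subgroup G)).map
        (P : Subgroup G).subtype : Subgroup G) : Set G))).map (Subgroup.normalizer (((W ↥(P : Subgroup G)).map
        (P : Subgroup G).subtype : Subgroup G) : Set G)).subtype)
    {z : Ω} (hz : z ∈ Zc S)
    (hfix : ∀ (P : Subgroup Ω) f, IsMap F P f → fnAt W S ≤ P → img f (fnAt W S) = fnAt W S → z ∈ P → f z = z) :
    ∀ (P : Subgroup Ω) f, IsMap F P f → z ∈ P → f z = z := by
  have hzS : z ∈ S := hz.1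
  suffices h : F ≤ fixSys F z hz from fun P f hf hzP => (isMap_fixSys.1 (le_iff.1 h P f hf)).2.1 hzP
  refine pointed_induction hS hF _ (Subgroup.zpowers z) (Subgroup.zpowers_le.2 hz)
    (fun P f hf hle h => isMap_fixSys_of_mem hf (hle (Subgroup.mem_zpowers z)) (h z (Subgroup.mem_zpowers z))) ?_
  intro X hXn hXc hmove
  have hzX : z ∈ X := Zc_le_centric hXc hz
  suffices hα : ∀ α : ↥(F.autGroup X), autFun (α : MulAut X) z = z by
    intro P f hf hXP hPN hfX
    obtain ⟨α, hαA, hαe⟩ := exists_aut (hf.mono hXP) hfX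
    exact isMap_fixSys_of_mem hf (hXP hzX) ((hαe z hzX).symm.trans (hα ⟨α, hαA⟩))
  set R := normalizerIn S X with hR
  obtain ⟨L, _, _, ι, θ, hmodel, hθs, hθι, -, hconj⟩ := exists_model_aut hS hF hXn hXc
  obtain ⟨N, hN⟩ := exists_normalizerSystem F hXn.1
  obtain ⟨-, ⟨hinj, hreal⟩, ⟨T, hT⟩, -⟩ := hmodel N hN
  have hRS : R ≤ S := normalizerIn_le X
  haveI : Finite ↥R := finite_of_le hRS
  have hXR : X ≤ R := le_normalizerIn hXn.1
  set zR : ↥R := ⟨z, hXR hzX⟩ with hzR
  set WR := fnAt W R with hWR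
  have hWRR : WR ≤ R := fnAt_le W R
  -- the functor on the Sylow subgroup of the model
  let e : ↥R ≃* ↥(T : Subgroup L) := (MonoidHom.ofInjective hinj).trans (MulEquiv.subgroupCongr hT.symm)
  have he : (W ↥(T : Subgroup L)).map (T : Subgroup L).subtype = (W ↥R).map ι := by
    rw [← hW2 _ _ (hS.to_le hRS) e, Subgroup.map_map]
    rfl
  set NW := Subgroup.normalizer (((W ↥R).map ι : Subgroup L) : Set L) with hNW
  -- the automorphisms from the normalizer of the functor fix `z`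
  have hl : ∀ l ∈ NW, autFun (θ l : MulAut X) z = z := by
    intro l hl
    set M := X ⊔ WR with hM
    have hMR : M ≤ R := sup_le hXR hWRR
    have hmem : ∀ r : ↥R, (r : Ω) ∈ M → l * ι r * l⁻¹ ∈ ι.range := by
      intro r hr
      have hle : M ≤ (ι.range.comap ((MulAut.conj l).toMonoidHom.comp ι)).map R.subtype := by
        refine sup_le (fun x hx => ⟨⟨x, hXR hx⟩, ?_, rfl⟩) ?_
        · obtain ⟨q', -, hq'⟩ := hconj l ⟨x, hXR hx⟩ hx
          exact ⟨q', hq'.symm⟩
        · rintro _ ⟨w, hw, rfl⟩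
          refine ⟨w, ?_, rfl⟩
          obtain ⟨w', -, hw'⟩ := conj_mem_of_normalizer hl (Subgroup.mem_map_of_mem ι hw)
          exact ⟨w', hw'⟩
      obtain ⟨r', hr', hrr⟩ := hle hr
      rw [Subgroup.coe_subtype] at hrr
      exact Subtype.ext hrr ▸ hr'
    let φ : ↥M →* Ω :=
      MonoidHom.mk' (fun x => (((MonoidHom.ofInjective hinj).symm ⟨l * ι ⟨x, hMR x.2⟩ * l⁻¹, hmem _ x.2⟩ : ↥R) : Ω))
        fun a b => by
          rw [← Subgroup.coe_mul, ← map_mul]
          congr 2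
          refine Subtype.ext ?_
          show l * ι (⟨(a : Ω), hMR a.2⟩ * ⟨(b : Ω), hMR b.2⟩) * l⁻¹ = _
          rw [map_mul, Subgroup.coe_mul]
          group
    have hφR : ∀ x : ↥M, φ x ∈ R := fun x => SetLike.coe_mem _
    have hφι : ∀ x : ↥M, ι ⟨φ x, hφR x⟩ = l * ι ⟨x, hMR x.2⟩ * l⁻¹ := fun x => by
      show ι ((MonoidHom.ofInjective hinj).symm _) = _
      exact MonoidHom.apply_ofInjective_symm hinj _
    have hφN : φ ∈ N.Hom M := (hreal M hMR φ hφR).2 ⟨l, hφι⟩
    have hgN : IsMap N M (ev φ) := IsMap.of_hom hφN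
    obtain ⟨hg, -⟩ := isMap_of_normalizerSystem hN hgN
    have hgX : ev φ z = autFun (θ l : MulAut X) z := by
      obtain ⟨q', hq'c, hq'⟩ := hconj l zR hzX
      rw [ev_of_mem φ (le_sup_left (b := WR) hzX), ← hq'c]
      exact congrArg Subtype.val (hinj ((hφι ⟨z, _⟩).trans hq'))
    have hgW : img (ev φ) WR = WR := by
      haveI := finite_of_le hWRR
      refine Subgroup.eq_of_le_of_card_ge (H := img (ev φ) WR) (K := WR) ?_ ?_
      · refine img_le_iff.2 ?_
        rintro _ ⟨w, hw, rfl⟩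
        obtain ⟨w', hw', hwe⟩ := conj_mem_of_normalizer hl (Subgroup.mem_map_of_mem ι hw)
        show ev φ (w : Ω) ∈ WR
        rw [ev_of_mem φ (le_sup_right (a := X) (show (w : Ω) ∈ WR from ⟨w, hw, rfl⟩))]
        exact ⟨w', hw', congrArg Subtype.val (hinj (hwe.trans (hφι ⟨w, _⟩).symm))⟩
      · exact (hg.mono le_sup_right).card_img.ge
    rw [← hgX]
    by_cases hRS' : R = S
    · rw [hWR, hRS'] at hgW
      exact hfix M _ hg (hRS' ▸ (le_sup_right : WR ≤ M)) hgW (le_sup_left (b := WR) hzX)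
    have hMN : M ≤ normalizerIn S WR :=
      hMR.trans ((le_normalizerIn hRS).trans (normalizerIn_le_fnAt W hS hW2 hRS))
    refine (isMap_fixSys.1 (hmove WR (hWRR.trans hRS)
      (prior_of_normalizer hS hRS' (normalizerIn_le_fnAt W hS hW2 hRS)) (fun Y hY hYn => ?_) M _ hg le_sup_right
      hMN hgW)).2.1 (le_sup_left (b := WR) hzX)
    obtain ⟨ψ, hψ, hψi, -⟩ := exists_normalizer_map_fn hS hF hYn hY
    have hψR : IsMap F R ψ := hψ.mono ((le_normalizerIn hRS).trans (normalizerIn_le_fnAt W hS hW2 hRS))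
    rw [Subgroup.zpowers_le, ← hψi, img_fnAt W hS hW2 hψR le_rfl]
    haveI := finite_of_le (img_le_iff.2 fun x hx => hψR.mem hx : img ψ R ≤ S)
    have hzψ : z ∈ img ψ R :=
      img_mono hXR (Zc_le_centric (centric_of_isConj hXc (isConj_iff.2 ⟨ψ, hψR.mono hXR, rfl⟩)) hz)
    exact ⟨⟨z, hzψ⟩, hWZ _ (hS.to_le (img_le_iff.2 fun x hx => hψR.mem hx))
      (Subgroup.mem_center_iff.2 fun y => Subtype.ext (Zc_comm hz ((img_le_iff.2 fun x hx => hψR.mem hx : img ψ R ≤ S) y.2))),
      rfl⟩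
  -- centrality in the model
  haveI : ((X.subgroupOf R).map ι).Normal := ⟨by
    rintro _ ⟨x, hx, rfl⟩ l
    obtain ⟨q', hq'c, hq'⟩ := hconj l x hx
    exact ⟨q', (show (q' : Ω) ∈ X from hq'c.symm ▸ autFun_mem _ hx), hq'.symm⟩⟩
  have hcore : ι zR ∈ Cfsg.pCore p L :=
    CfsgLib.Solv.le_pCore (N := (X.subgroupOf R).map ι) (((hS.to_le hRS).to_subgroup _).map ι)
      ⟨zR, hzX, rfl⟩
  have key : ∀ l : L, autFun (θ l : MulAut X) z = z → l * ι zR = ι zR * l := fun l h => by
    obtain ⟨q', hq'c, hq'⟩ := hconj l zR hzX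
    have : q' = zR := Subtype.ext (hq'c.trans h)
    rw [this] at hq'
    exact mul_inv_eq_iff_eq_mul.1 hq'
  have hmemZ : ι zR ∈ Cfsg.pCore p L ⊓ Subgroup.center L := by
    rw [hC L T]
    refine ⟨hcore, ?_⟩
    rw [he]
    have hn : ι zR ∈ NW := by
      have hfix1 : ∀ w ∈ W ↥R, ι zR * ι w * (ι zR)⁻¹ = ι w := fun w _ => by
        have hc : zR * w = w * zR := Subtype.ext (Zc_comm hz (hRS w.2)).symm
        rw [← map_mul, hc, map_mul, mul_inv_cancel_right]
      refine Subgroup.mem_normalizer_fintype ?_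
      rintro _ ⟨w, hw, rfl⟩
      exact (hfix1 w hw).symm ▸ Subgroup.mem_map_of_mem ι hw
    exact ⟨⟨ι zR, hn⟩, Subgroup.mem_center_iff.2 fun l => Subtype.ext (key l (hl l l.2)), rfl⟩
  intro α
  obtain ⟨l, rfl⟩ := hθs α
  obtain ⟨q', hq'c, hq'⟩ := hconj l zR hzX
  rw [Subgroup.mem_center_iff.1 hmemZ.2 l, mul_inv_cancel_right] at hq'
  rw [← hq'c, ← hinj hq']

end CfsgLib.Fus
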