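import Cfsg.Agent.Fus.Functor

/-!
Chains as conjugation families (conjugation on the right) and the family form of local-to-global transfer control.
-/

set_option autoImplicit false
set_option linter.style.haveILetI false

open Cfsg
open scoped commutatorElement

namespace CfsgLib.Glau

variable {G : Type*} [Group G]

theorem chain_to_list {𝓕 : Set (Subgroup G)} {A : Subgroup G} {g : G} (hc : Chain ⊤ 𝓕 A g) :
    ∃ (n : ℕ) (T : Fin n → Subgroup G) (x : Fin n → G), (List.ofFn x).prod = g⁻¹ ∧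
      (∀ i, T i ∈ 𝓕) ∧ (∀ i, x i ∈ Subgroup.normalizer ((T i : Subgroup G) : Set G)) ∧
      (∀ h : 0 < n, (A : Set G) ⊆ T ⟨0, h⟩) ∧
      ∀ (i : Fin n) (h : i.val + 1 < n),
        (fun a => (((List.ofFn x).take (i.val + 1)).prod)⁻¹ * a * ((List.ofFn x).take (i.val + 1)).prod) ''
          (A : Set G) ⊆ T ⟨i.val + 1, h⟩ := by
  induction hc with
  | one A =>
    exact ⟨0, Fin.elim0, Fin.elim0, by simp, fun i => i.elim0, fun i => i.elim0, fun h => absurd h (lt_irrefl 0),
      fun i => i.elim0⟩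
  | @step A T z g hT hz hA _ ih =>
    obtain ⟨n, U, x, hprod, hU, hx, h0, hstep⟩ := ih
    refine ⟨n + 1, Fin.cons T U, Fin.cons z⁻¹ x, ?_, ?_, ?_, fun _ => hA, ?_⟩
    · rw [List.ofFn_succ]
      simp [hprod, mul_inv_rev]
    · intro i
      refine Fin.cases ?_ ?_ i
      · exact hT
      · intro j; simpa using hU j
    · intro i
      refine Fin.cases ?_ ?_ i
      · simpa using Subgroup.inv_mem _ hz.2
      · intro j; simpa using hx j
    · intro i hi
      rintro _ ⟨a, ha, rfl⟩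
      refine Fin.cases (motive := fun i : Fin (n + 1) => ∀ h : i.val + 1 < n + 1,
        ((((List.ofFn (Fin.cons z⁻¹ x : Fin (n + 1) → G)).take (i.val + 1)).prod)⁻¹ * a *
          ((List.ofFn (Fin.cons z⁻¹ x : Fin (n + 1) → G)).take (i.val + 1)).prod) ∈
          (Fin.cons T U : Fin (n + 1) → Subgroup G) ⟨i.val + 1, h⟩) ?_ ?_ i hi
      · intro h
        have h' : 0 < n := by simpa using h
        have := h0 h' (conj_mem_cj (g := z) ha)
        simp only [List.ofFn_succ, Fin.cons_zero, Fin.cons_succ, Fin.val_zero, List.take_succ_cons,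
          List.take_zero, List.prod_cons, List.prod_nil, mul_one, inv_inv]
        exact this
      · intro j h
        have h' : j.val + 1 < n := by simpa using h
        have := hstep j h' ⟨_, conj_mem_cj (g := z) ha, rfl⟩
        simp only [List.ofFn_succ, Fin.cons_zero, Fin.cons_succ, Fin.val_succ, List.take_succ_cons,
          List.prod_cons, mul_inv_rev, inv_inv]
        rw [show (⟨j.val + 1 + 1, by omega⟩ : Fin (n + 1)) = Fin.succ ⟨j.val + 1, h'⟩ from rfl, Fin.cons_succ]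
        simpa [mul_assoc] using this

variable [Finite G] {p : ℕ} [hp : Fact p.Prime]

theorem family_of_chain {S : Subgroup G} {𝓕 : Set (Subgroup G)} (h𝓕 : ∀ T ∈ 𝓕, T ≤ S)
    (hch : ∀ A g, A ≤ S → cj g A ≤ S → Chain ⊤ 𝓕 A g) : IsConjugationFamily 𝓕 S := by
  refine ⟨h𝓕, fun A g _ hA hgA => ?_⟩
  have h2 : cj g⁻¹ (Subgroup.closure A) ≤ S := by
    rw [cj, MonoidHom.map_closure, Subgroup.closure_le]
    rintro _ ⟨a, ha, rfl⟩
    simpa using hgA ⟨a, ha, rfl⟩
  obtain ⟨n, T, x, hprod, hT, hx, h0, hstep⟩ :=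
    chain_to_list (hch _ _ ((Subgroup.closure_le S).2 hA) h2)
  exact ⟨n, T, x, by rw [hprod, inv_inv], hT, hx, fun h a ha => h0 h (Subgroup.subset_closure ha),
    fun i h => (Set.image_mono fun a ha => Subgroup.subset_closure ha).trans (hstep i h)⟩

/-- The family form: local control at the extremal subgroups gives global control. -/
theorem family_global {H S R : Subgroup G} (h : Syl p S H) (𝓦 : Set (Subgroup G → Subgroup G))
    (h𝓦 : ∀ W ∈ 𝓦, IsConjugacyFunctor p W)
    (hR : ∀ W ∈ 𝓦, S ⊓ ⁅H ⊓ Subgroup.normalizer (W S : Set G), H ⊓ Subgroup.normalizer (W S : Set G)⁆ ≤ R)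
    (hloc : ∀ T ≤ S, T ≠ ⊥ → Ext p H S T → ∀ Q, Q = S ⊓ Subgroup.normalizer (T : Set G) →
      Q ⊓ ⁅H ⊓ Subgroup.normalizer (T : Set G), H ⊓ Subgroup.normalizer (T : Set G)⁆ ≤ ⨆ W ∈ 𝓦,
        Q ⊓ ⁅H ⊓ Subgroup.normalizer (T : Set G) ⊓ Subgroup.normalizer (W Q : Set G),
          H ⊓ Subgroup.normalizer (T : Set G) ⊓ Subgroup.normalizer (W Q : Set G)⁆) :
    S ⊓ ⁅H, H⁆ ≤ R := by
  let 𝓕 : Set (Subgroup G) := {T | T ≤ S ∧ Ext p H S T}
  have hch : ∀ A g, g ∈ H → A ≤ S → cj g A ≤ S → Chain H 𝓕 A g :=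
    chain_of_family h (fun U hU => hU.1) fun T hT => by
      obtain ⟨x, hx, hxT, hxe, -⟩ := exists_extremal h hT
      exact ⟨_, ⟨hxT, hxe⟩, ⟨x, hx, rfl⟩, hxe⟩
  suffices key : ∀ (n : ℕ) (T : Subgroup G), Nat.card S - Nat.card ↥(S ⊓ Subgroup.normalizer (T : Set G)) = n →
      T ∈ 𝓕 → T ≠ ⊥ →
      (S ⊓ Subgroup.normalizer (T : Set G)) ⊓
        ⁅H ⊓ Subgroup.normalizer (T : Set G), H ⊓ Subgroup.normalizer (T : Set G)⁆ ≤ R by
    refine focal_of_chain h hch fun T hT y hy x hx => ?_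
    by_cases hT0 : T = ⊥
    · rw [show x = 1 from Subgroup.mem_bot.1 (hT0 ▸ hx)]
      simp
    refine key _ T rfl hT hT0 ⟨⟨?_, ?_⟩, ?_⟩
    · exact S.mul_mem (S.inv_mem (hT.1 hx)) (hT.1 ((Subgroup.mem_normalizer_iff.1 hy.2 x).1 hx))
    · exact Subgroup.le_normalizer (T.mul_mem (T.inv_mem hx) ((Subgroup.mem_normalizer_iff.1 hy.2 x).1 hx))
    · rw [show x⁻¹ * (y * x * y⁻¹) = ⁅x⁻¹, y⁆ by rw [commutatorElement_def]; group]
      exact Subgroup.commutator_mem_commutator
        (inv_mem ⟨h.le (hT.1 hx), Subgroup.le_normalizer hx⟩ : x⁻¹ ∈ H ⊓ Subgroup.normalizer (T : Set G)) hy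
  intro n
  induction n using Nat.strong_induction_on with
  | _ n ih =>
  intro T hn hT hT0
  refine (hloc T hT.1 hT0 hT.2 _ rfl).trans (iSup₂_le fun W hW => ?_)
  set Q := S ⊓ Subgroup.normalizer (T : Set G) with hQ
  have hQp : IsPGroup p Q := h.pg.to_le inf_le_left
  by_cases hQS : Q = S
  · rw [hQS]
    exact (inf_le_inf le_rfl (Subgroup.commutator_mono (inf_le_inf_right _ inf_le_left)
      (inf_le_inf_right _ inf_le_left))).trans (hR W hW)
  -- the normalizer of `Q` in `S` is larger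
  have hQ0 : Q ≠ ⊥ := fun hb => hT0 (eq_bot_iff.2 ((le_inf hT.1 Subgroup.le_normalizer).trans hb.le))
  have hbig : ∀ B : Subgroup G, B ≤ S → Nat.card Q ≤ Nat.card B →
      Nat.card Q < Nat.card ↥(S ⊓ Subgroup.normalizer (B : Set G)) := by
    intro B hB hc
    by_cases hBS : B = S
    · subst hBS
      rw [inf_eq_left.2 Subgroup.le_normalizer]
      exact lt_of_not_ge fun hge => hQS (Subgroup.eq_of_le_of_card_ge inf_le_left hge)
    refine hc.trans_lt (lt_of_not_ge fun hge => ?_)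
    haveI : Group.IsNilpotent ↥S := h.pg.isNilpotent
    have hlt : B.subgroupOf S < ⊤ := lt_top_iff_ne_top.2 fun he =>
      hBS (le_antisymm hB (Subgroup.subgroupOf_eq_top.1 he))
    obtain ⟨x, hx, hxB⟩ := SetLike.exists_of_lt (normalizerCondition_of_isNilpotent (B.subgroupOf S) hlt)
    refine hxB ?_
    show (x : G) ∈ B
    rw [Subgroup.eq_of_le_of_card_ge (le_inf hB Subgroup.le_normalizer) hge]
    refine ⟨x.2, Subgroup.mem_normalizer_iff.2 fun m => ⟨fun hm => ?_, fun hm => ?_⟩⟩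
    · exact (Subgroup.mem_normalizer_iff.1 hx ⟨m, hB hm⟩).1 hm
    · have hmS : m ∈ S := by
        have := S.mul_mem (S.mul_mem (S.inv_mem x.2) (hB hm)) x.2
        simpa [mul_assoc] using this
      exact (Subgroup.mem_normalizer_iff.1 hx ⟨m, hmS⟩).2 hm
  obtain ⟨g, hg, hgT, hge, hgN⟩ := exists_extremal h (((h𝓦 W hW) Q hQp).1.trans inf_le_left : W Q ≤ S)
  intro z hz
  have hQW : Q ≤ S ⊓ Subgroup.normalizer (W Q : Set G) :=
    le_inf inf_le_left (Subgroup.le_normalizer.trans (functor_normalizer (h𝓦 W hW) hQp))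
  have hgQ : cj g Q ≤ S := (cj_mono g hQW).trans (hgN.trans inf_le_left)
  -- the image lies in the focal part at a larger normalizer
  have h1 : g * z * g⁻¹ ∈ R := by
    refine ih _ ?_ (cj g (W Q)) rfl ⟨hgT, hge⟩ (fun hb => ((h𝓦 W hW) Q hQp).2.1 hQ0 ?_) ⟨hgN (conj_mem_cj
      (hQW hz.1)), ?_⟩
    · have a1 : Nat.card Q < Nat.card ↥(S ⊓ Subgroup.normalizer (Q : Set G)) := hbig Q inf_le_left le_rfl
      have a2 : Nat.card ↥(S ⊓ Subgroup.normalizer (Q : Set G)) ≤
          Nat.card ↥(S ⊓ Subgroup.normalizer (cj g (W Q) : Set G)) := by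
        rw [← card_cj g (S ⊓ Subgroup.normalizer (Q : Set G))]
        exact Subgroup.card_le_of_le ((cj_mono g (inf_le_inf_left _
          (functor_normalizer (h𝓦 W hW) hQp))).trans hgN)
      have a3 := Subgroup.card_le_of_le
        (inf_le_left : S ⊓ Subgroup.normalizer (cj g (W Q) : Set G) ≤ S)
      omega
    · rw [← cj_inv_cj g (W Q), hb]
      exact Subgroup.map_bot _
    · have := conj_mem_cj (g := g) (Subgroup.commutator_mono
        (le_inf (inf_le_left.trans inf_le_left) inf_le_right :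
          H ⊓ Subgroup.normalizer (T : Set G) ⊓ Subgroup.normalizer (W Q : Set G) ≤
            H ⊓ Subgroup.normalizer (W Q : Set G))
        (le_inf (inf_le_left.trans inf_le_left) inf_le_right) hz.2)
      rwa [cj_commutator, cj_inf, cj_eq_of_mem hg, cj_normalizer] at this
  -- the fusion of `Q` by `g` only uses larger normalizers
  have h2 : ∀ B w, Chain H 𝓕 B w → Nat.card Q ≤ Nat.card B → B ≤ S → ∀ x ∈ B,
      x⁻¹ * (w * x * w⁻¹) ∈ R := by
    intro B w hc
    induction hc with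
    | one B => intro _ _ x _; simp
    | @step B U y w hU hy hBU _ ih2 =>
      intro hcB hBS x hx
      have hyx : y * x * y⁻¹ ∈ U := (Subgroup.mem_normalizer_iff.1 hy.2 x).1 (hBU hx)
      have hB' : cj y B ≤ S := (cj_mono y hBU).trans ((mem_normalizer_iff_cj.1 hy.2).le.trans hU.1)
      have s1 := ih2 ((card_cj y B).symm ▸ hcB) hB' _ (conj_mem_cj hx)
      have s2 : x⁻¹ * (y * x * y⁻¹) ∈ R := by
        by_cases hU0 : U = ⊥
        · rw [show x = 1 from Subgroup.mem_bot.1 (hU0 ▸ hBU hx)]; simp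
        refine ih _ ?_ U rfl hU hU0 ⟨⟨S.mul_mem (S.inv_mem (hBS hx)) (hU.1 hyx),
          Subgroup.le_normalizer (U.mul_mem (U.inv_mem (hBU hx)) hyx)⟩, ?_⟩
        · have a1 := hbig U hU.1 (hcB.trans (Subgroup.card_le_of_le hBU))
          have a3 := Subgroup.card_le_of_le (inf_le_left : S ⊓ Subgroup.normalizer (U : Set G) ≤ S)
          omega
        · rw [show x⁻¹ * (y * x * y⁻¹) = ⁅x⁻¹, y⁆ by rw [commutatorElement_def]; group]
          exact Subgroup.commutator_mem_commutator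
            (inv_mem ⟨h.le (hBS hx), Subgroup.le_normalizer (hBU hx)⟩ :
              x⁻¹ ∈ H ⊓ Subgroup.normalizer (U : Set G)) hy
      have := R.mul_mem s2 s1
      simpa [mul_assoc] using this
  have h3 := h2 Q g (hch Q g hg inf_le_left hgQ) le_rfl inf_le_left z hz.1
  have := R.mul_mem h1 (R.inv_mem h3)
  simpa [mul_assoc] using this

end CfsgLib.Glau

namespace CfsgLib.Glau

variable {G : Type*} [Group G] {p : ℕ} {W : Subgroup G → Subgroup G}

theorem ext_top {S T : Subgroup G} :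
    Ext p ⊤ S T ↔ ¬ p ∣ (S ⊓ Subgroup.normalizer (T : Set G)).relIndex (Subgroup.normalizer (T : Set G)) := by
  rw [Ext, top_inf_eq]

theorem wp_top {S T : Subgroup G} : WP p W ⊤ S T ↔ IsWellPlaced p W S T := by
  simp only [WP, IsWellPlaced, ext_top]

theorem syl_normalizer [Finite G] [Fact p.Prime] {S T : Subgroup G} (hS : IsPGroup p S)
    (he : ¬ p ∣ (S ⊓ Subgroup.normalizer (T : Set G)).relIndex (Subgroup.normalizer (T : Set G))) :
    Syl p (S ⊓ Subgroup.normalizer (T : Set G)) (⊤ ⊓ Subgroup.normalizer (T : Set G)) :=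
  ⟨inf_le_inf_right _ le_top, hS.to_le inf_le_left, ext_top.2 he⟩

/-- The definition of family control of transfer does not depend on the Sylow subgroup chosen. -/
theorem fam_of_def [Finite G] [Fact p.Prime] {H S : Subgroup G} (h : Syl p S H) (𝓦 : Set (Subgroup G → Subgroup G))
    (h𝓦 : ∀ W ∈ 𝓦, IsConjugacyFunctor p W) (hc : FamilyControlsTransferIn p 𝓦 H) :
    S ⊓ ⁅H, H⁆ ≤ ⨆ W ∈ 𝓦,
      S ⊓ ⁅H ⊓ Subgroup.normalizer (W S : Set G), H ⊓ Subgroup.normalizer (W S : Set G)⁆ := by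
  obtain ⟨T, hT, hTp, hTi, he⟩ := hc
  have hTs : Syl p T H := ⟨hT, hTp, hTi⟩
  obtain ⟨y, hy, hyS⟩ := hTs.exists_conj_le h.le h.pg
  have hyT : cj y S = T := Subgroup.eq_of_le_of_card_ge hyS (by rw [card_cj, h.card, hTs.card])
  rw [← Subgroup.map_le_map_iff_of_injective (f := (MulAut.conj y).toMonoidHom) (MulAut.conj y).injective]
  show cj y _ ≤ cj y _
  rw [cj_inf, cj_commutator, cj_eq_of_mem hy, hyT, he, cj, Subgroup.map_iSup]
  refine iSup₂_le fun W hW => le_trans (le_of_eq ?_) (le_iSup _ W)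
  rw [Subgroup.map_iSup, iSup_pos hW]
  show _ = cj y _
  rw [cj_inf, cj_commutator, cj_inf, cj_eq_of_mem hy, cj_normalizer, hyT,
    show cj y (W S) = W T from hyT ▸ ((h𝓦 W hW S h.pg).2.2 y).symm]

end CfsgLib.Glau
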