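import Cfsg.Agent.Fus.FunctorCentre

/-!
A subgroup functor read over a normal subgroup: the preimage of its value at the quotient.
-/

set_option autoImplicit false
set_option linter.style.haveILetI false

open Cfsg Cfsg.FusionSystem

namespace CfsgLib.Fus

universe u

variable (W : ∀ (Q : Type u) [Group Q], Subgroup Q) {Ω : Type u} [Group Ω] {S : Subgroup Ω} {F : FusionSystem S} {p : ℕ}

/-- The hypothesis that a functor is carried along by isomorphisms of finite `p`-groups. -/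
def IsoInvariant (p : ℕ) : Prop :=
  ∀ (Q R : Type u) [Group Q] [Group R] [Finite Q], IsPGroup p Q → ∀ φ : Q ≃* R, (W Q).map φ.toMonoidHom = W R

/-- The preimage in `T` of the value at `T/Q`. -/
noncomputable def fnOver (T Q : Subgroup Ω) : Subgroup Ω := by
  classical
  exact if h : (Q.subgroupOf T).Normal then
    haveI := h
    ((W (↥T ⧸ Q.subgroupOf T)).comap (QuotientGroup.mk' (Q.subgroupOf T))).map T.subtype
  else T

theorem fnOver_le (T Q : Subgroup Ω) : fnOver W T Q ≤ T := by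
  unfold fnOver
  split
  · exact Subgroup.map_subtype_le _
  · exact le_rfl

/-- The value read through any surjection with kernel `Q`. -/
theorem fnOver_eq (hW : IsoInvariant W p) {T Q : Subgroup Ω} [Finite ↥T] (hT : IsPGroup p ↥T) {H : Type u} [Group H]
    {π : ↥T →* H} (hπ : Function.Surjective π) (hker : π.ker = Q.subgroupOf T) :
    fnOver W T Q = ((W H).comap π).map T.subtype := by
  haveI hn : (Q.subgroupOf T).Normal := hker ▸ inferInstance
  unfold fnOver
  rw [dif_pos hn]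
  let e : ↥T ⧸ Q.subgroupOf T ≃* H :=
    (QuotientGroup.quotientMulEquivOfEq hker.symm).trans (QuotientGroup.quotientKerEquivOfSurjective π hπ)
  have he : ∀ t : ↥T, e (QuotientGroup.mk' _ t) = π t := fun t => rfl
  haveI : Finite (↥T ⧸ Q.subgroupOf T) := inferInstance
  have h := hW _ _ (hT.to_quotient _) e
  congr 1
  ext t
  rw [Subgroup.mem_comap, Subgroup.mem_comap, ← h, ← he]
  exact ⟨fun ht => ⟨_, ht, rfl⟩, fun ⟨v, hv, hve⟩ => e.injective hve ▸ hv⟩

theorem le_fnOver (hW : IsoInvariant W p) {T Q : Subgroup Ω} [Finite ↥T] (hT : IsPGroup p ↥T) (hQT : Q ≤ T)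
    (hn : ∀ t ∈ T, ∀ x ∈ Q, t * x * t⁻¹ ∈ Q) : Q ≤ fnOver W T Q := by
  haveI : (Q.subgroupOf T).Normal := ⟨fun x hx t => hn t t.2 x hx⟩
  rw [fnOver_eq W hW hT (QuotientGroup.mk'_surjective (Q.subgroupOf T)) (QuotientGroup.ker_mk' _)]
  intro x hx
  refine ⟨⟨x, hQT hx⟩, ?_, rfl⟩
  show QuotientGroup.mk' (Q.subgroupOf T) ⟨x, hQT hx⟩ ∈ W _
  rw [show QuotientGroup.mk' (Q.subgroupOf T) ⟨x, hQT hx⟩ = 1 from (QuotientGroup.eq_one_iff _).2 hx]
  exact one_mem _

theorem lt_fnOver (hW : IsoInvariant W p)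
    (hW1 : ∀ (Q : Type u) [Group Q] [Finite Q], IsPGroup p Q → Nontrivial Q → W Q ≠ ⊥)
    {T Q : Subgroup Ω} [Finite ↥T] (hT : IsPGroup p ↥T) (hQT : Q < T)
    (hn : ∀ t ∈ T, ∀ x ∈ Q, t * x * t⁻¹ ∈ Q) : Q < fnOver W T Q := by
  haveI : (Q.subgroupOf T).Normal := ⟨fun x hx t => hn t t.2 x hx⟩
  refine lt_of_le_of_ne (le_fnOver W hW hT hQT.le hn) fun heq => ?_
  have hnt : Nontrivial (↥T ⧸ Q.subgroupOf T) := by
    obtain ⟨t, htT, htQ⟩ := SetLike.exists_of_lt hQT
    exact ⟨⟨QuotientGroup.mk' _ ⟨t, htT⟩, 1, fun h => htQ ((QuotientGroup.eq_one_iff (N := Q.subgroupOf T) ⟨t, htT⟩).1 h : (⟨t, htT⟩ : ↥T) ∈ Q.subgroupOf T)⟩⟩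
  refine hW1 _ (hT.to_quotient _) hnt ((Subgroup.eq_bot_iff_forall _).2 fun v hv => ?_)
  obtain ⟨t, rfl⟩ := QuotientGroup.mk'_surjective (Q.subgroupOf T) v
  refine (QuotientGroup.eq_one_iff _).2 ?_
  show (t : Ω) ∈ Q
  rw [heq, fnOver_eq W hW hT (QuotientGroup.mk'_surjective (Q.subgroupOf T)) (QuotientGroup.ker_mk' _)]
  exact ⟨t, hv, rfl⟩

theorem fnOver_bot (hW : IsoInvariant W p) {T : Subgroup Ω} [Finite ↥T] (hT : IsPGroup p ↥T) :
    fnOver W T ⊥ = fnAt W T := by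
  rw [fnOver_eq W hW hT (π := MonoidHom.id ↥T) Function.surjective_id]
  · rfl
  · rw [Subgroup.bot_subgroupOf]; exact (MonoidHom.ker_eq_bot_iff _).2 Function.injective_id

/-- Maps respect the construction. -/
theorem img_fnOver [Finite S] (hS : IsPGroup p S) (hW : IsoInvariant W p) {M T Q : Subgroup Ω} {f : Ω → Ω}
    (hf : IsMap F M f) (hTM : T ≤ M) (hQT : Q ≤ T) (hn : ∀ t ∈ T, ∀ x ∈ Q, t * x * t⁻¹ ∈ Q) :
    img f (fnOver W T Q) = fnOver W (img f T) (img f Q) := by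
  have hg := hf.mono hTM
  haveI := finite_of_le hg.le
  haveI := finite_of_le hg.img_le
  haveI : (Q.subgroupOf T).Normal := ⟨fun x hx t => hn t t.2 x hx⟩
  obtain ⟨e, he⟩ := hg.equiv (rfl : img f T = img f T)
  set π := QuotientGroup.mk' (Q.subgroupOf T) with hπ
  have h1 := fnOver_eq W hW (hS.to_le hg.le) (QuotientGroup.mk'_surjective (Q.subgroupOf T))
    (QuotientGroup.ker_mk' _)
  have h2 := fnOver_eq W hW (Q := img f Q) (hS.to_le hg.img_le) (π := π.comp e.symm.toMonoidHom)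
    ((QuotientGroup.mk'_surjective _).comp e.symm.surjective) (by
      ext y
      obtain ⟨x, rfl⟩ := e.surjective y
      show π (e.symm (e x)) = 1 ↔ ((e x : ↥(img f T)) : Ω) ∈ img f Q
      rw [e.symm_apply_apply, he, hπ, QuotientGroup.mk'_apply, QuotientGroup.eq_one_iff]
      constructor
      · exact fun hx => mem_img_of_mem hx
      · intro hx
        obtain ⟨q, hq, hqe⟩ := (hg.mono hQT).mem_img.1 hx
        have hqx : q = (x : Ω) := hg.inj (hQT hq) x.2 hqe
        show (x : Ω) ∈ Q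
        exact hqx ▸ hq)
  rw [h1, h2]
  refine le_antisymm (img_le_iff.2 ?_) ?_
  · rintro _ ⟨x, hx, rfl⟩
    exact ⟨e x, show π (e.symm (e x)) ∈ W _ by rw [e.symm_apply_apply]; exact hx, he x⟩
  · rintro _ ⟨y, hy, rfl⟩
    obtain ⟨x, rfl⟩ := e.surjective y
    show ((e x : ↥(img f T)) : Ω) ∈ _
    rw [he]
    refine mem_img_of_mem ⟨x, ?_, rfl⟩
    have hy' : π (e.symm (e x)) ∈ W _ := hy
    rwa [e.symm_apply_apply] at hy'

/-- Elements normalizing `T` and `Q` normalize the construction. -/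
theorem normalizerIn_le_fnOver [Finite S] (hS : IsPGroup p S) (hW : IsoInvariant W p) {T Q : Subgroup Ω}
    (hT : T ≤ S) (hQT : Q ≤ T) (hn : ∀ t ∈ T, ∀ x ∈ Q, t * x * t⁻¹ ∈ Q) {a : Ω} (ha : a ∈ normalizerIn S T)
    (haQ : a ∈ Subgroup.normalizer (Q : Set Ω)) : a ∈ normalizerIn S (fnOver W T Q) := by
  haveI := finite_of_le hT
  haveI := finite_of_le (hQT.trans hT)
  have key : ∀ b ∈ normalizerIn S T, b ∈ Subgroup.normalizer (Q : Set Ω) →
      ∀ y ∈ fnOver W T Q, b * y * b⁻¹ ∈ fnOver W T Q := by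
    intro b hb hbQ y hy
    have hm : IsMap (innerFusionSystem S) T (conjF b) := IsMap.conj _ hT hb.1
    have hTi : img (conjF b) T = T := Subgroup.eq_of_le_of_card_ge
      (img_le_iff.2 fun x hx => conj_mem_of_normalizer hb.2 hx) hm.card_img.ge
    have hQi : img (conjF b) Q = Q := Subgroup.eq_of_le_of_card_ge
      (img_le_iff.2 fun x hx => conj_mem_of_normalizer hbQ hx) (hm.mono hQT).card_img.ge
    have h := img_fnOver W hS hW hm le_rfl hQT hn
    rw [hTi, hQi] at h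
    exact h.le (mem_img_of_mem hy)
  exact ⟨ha.1, mem_normalizer_of_conj (key a ha haQ) fun y hy => by
    simpa using key a⁻¹ (InvMemClass.inv_mem ha) (InvMemClass.inv_mem haQ) y hy⟩

end CfsgLib.Fus
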