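import Cfsg.Agent.Fus.Stability
import Cfsg.Agent.Solv.ThompsonPre
import Mathlib.GroupTheory.Nilpotent

/-!
Normalizer `p`-stability passes to subgroups and to quotients by normal subgroups of order prime to `p`.
-/

set_option autoImplicit false
set_option linter.style.haveILetI false

open Cfsg
open scoped commutatorElement

namespace CfsgLib.Glau

/-- A homomorphism between normalizers, with the centralizer as the preimage of the centralizer, reflects membership in `O_p` of the
automizer when it is surjective or arbitrary. -/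
theorem mem_pCore_automizer {A : Type*} [Group A] {p : ℕ} [hp : Fact p.Prime] {P : Subgroup A}
    (K : Subgroup ↥(Subgroup.normalizer (P : Set A))) [K.Normal]
    (hK : ∀ k ∈ K, ∃ n : ℕ, ((k : A)) ^ p ^ n ∈ Subgroup.centralizer (P : Set A))
    {g : ↥(Subgroup.normalizer (P : Set A))} (hg : g ∈ K) :
    QuotientGroup.mk (s := (Subgroup.centralizer (P : Set A)).subgroupOf (Subgroup.normalizer (P : Set A))) g ∈
      pCore p (↥(Subgroup.normalizer (P : Set A)) ⧸
        (Subgroup.centralizer (P : Set A)).subgroupOf (Subgroup.normalizer (P : Set A))) := by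
  haveI : ((Subgroup.centralizer (P : Set A)).subgroupOf (Subgroup.normalizer (P : Set A))).Normal :=
    Subgroup.normal_subgroupOf_centralizer_normalizer _
  let φ := QuotientGroup.mk' ((Subgroup.centralizer (P : Set A)).subgroupOf (Subgroup.normalizer (P : Set A)))
  haveI : (K.map φ).Normal := ‹K.Normal›.map φ (QuotientGroup.mk'_surjective _)
  refine CfsgLib.Solv.le_pCore ?_ (show φ g ∈ K.map φ from ⟨g, hg, rfl⟩)
  rintro ⟨_, k, hk, rfl⟩
  obtain ⟨n, hn⟩ := hK k hk
  refine ⟨n, Subtype.ext ?_⟩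
  show φ k ^ p ^ n = 1
  rw [← map_pow]
  exact (QuotientGroup.eq_one_iff _).2 (show ((k ^ p ^ n : ↥(Subgroup.normalizer (P : Set A))) : A) ∈ _ by simpa using hn)

/-- Normalizer `p`-stability passes to subgroups. -/
theorem stable_of_injective {G H : Type*} [Group G] [Finite G] [Group H] {p : ℕ} [hp : Fact p.Prime]
    (hst : IsNormalizerPStable p G) (f : H →* G) (hf : Function.Injective f) : IsNormalizerPStable p H := by
  intro P hP g hg hq
  set N := Subgroup.normalizer (P : Set H) with hN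
  set P' := P.map f with hP'
  set N' := Subgroup.normalizer (P' : Set G) with hN'
  have hNN : ∀ a ∈ N, f a ∈ N' := fun a ha => by
    refine Subgroup.le_normalizer_map f ?_
    exact ⟨a, ha, rfl⟩
  haveI : ((Subgroup.centralizer (P' : Set G)).subgroupOf N').Normal :=
    Subgroup.normal_subgroupOf_centralizer_normalizer _
  haveI := CfsgLib.Solv.pCore_normal (↥N' ⧸ (Subgroup.centralizer (P' : Set G)).subgroupOf N') p
  let ψ : ↥N →* ↥N' ⧸ (Subgroup.centralizer (P' : Set G)).subgroupOf N' :=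
    (QuotientGroup.mk' _).comp ((f.comp N.subtype).codRestrict N' fun a => hNN _ a.2)
  haveI : ((pCore p (↥N' ⧸ (Subgroup.centralizer (P' : Set G)).subgroupOf N')).comap ψ).Normal :=
    (inferInstance : (pCore p _).Normal).comap ψ
  have hmem : (⟨g, hg⟩ : ↥N) ∈ (pCore p (↥N' ⧸ (Subgroup.centralizer (P' : Set G)).subgroupOf N')).comap ψ :=
    hst P' (hP.map f) (f g) (hNN g hg) (by
      rw [hP', ← MonoidHom.map_zpowers, ← Subgroup.map_commutator, ← Subgroup.map_commutator, hq, Subgroup.map_bot])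
  refine mem_pCore_automizer _ (fun k hk => ?_) hmem
  obtain ⟨n, hn⟩ := CfsgLib.Solv.pCore_isPGroup _ p ⟨ψ k, hk⟩
  refine ⟨n, fun b hb => hf ?_⟩
  have h : ψ (k ^ p ^ n) = 1 := by rw [map_pow]; exact congrArg Subtype.val hn
  have h' : f ((k : H) ^ p ^ n) ∈ Subgroup.centralizer (P' : Set G) := by
    have := (QuotientGroup.eq_one_iff (N := (Subgroup.centralizer (P' : Set G)).subgroupOf N') _).1 h
    simpa [Subgroup.mem_subgroupOf] using this
  rw [map_mul, map_mul]
  exact h' _ ⟨b, hb, rfl⟩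

/-- Normalizer `p`-stability passes to quotients by normal subgroups of order prime to `p`. -/
theorem stable_quotient {G : Type*} [Group G] [Finite G] {p : ℕ} [hp : Fact p.Prime]
    (hst : IsNormalizerPStable p G) (M : Subgroup G) [M.Normal] (hM : ¬ p ∣ Nat.card M) :
    IsNormalizerPStable p (G ⧸ M) := by
  classical
  intro P hP g hg hq
  let π := QuotientGroup.mk' M
  have hπ : Function.Surjective π := QuotientGroup.mk'_surjective M
  obtain ⟨T⟩ := (inferInstance : Nonempty (Sylow p ↥(P.comap π)))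
  set P₀ := (T : Subgroup ↥(P.comap π)).map (P.comap π).subtype with hP₀
  have hP₀p : IsPGroup p P₀ := T.isPGroup'.map _
  have hdisj : P₀ ⊓ M = ⊥ := eq_bot_iff.2 fun x hx => by
    obtain ⟨k, hk⟩ := hP₀p ⟨x, hx.1⟩
    have hk' : x ^ p ^ k = 1 := congrArg Subtype.val hk
    have hxM : x ^ Nat.card M = 1 := congrArg Subtype.val (pow_card_eq_one' (x := (⟨x, hx.2⟩ : ↥M)))
    have h := (pow_gcd_eq_one).2 ⟨hxM, hk'⟩
    rwa [((hp.out.coprime_iff_not_dvd.2 hM).symm.pow_right k).gcd_eq_one, pow_one] at h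
  have hmap : P₀.map π = P := by
    have hle : P₀.map π ≤ P := by
      rintro _ ⟨_, ⟨a, -, rfl⟩, rfl⟩; exact a.2
    refine Subgroup.eq_of_le_of_card_ge hle ?_
    have h1 : Nat.card (P₀.map π) = Nat.card P₀ := by
      have hinj : Function.Injective (π.comp P₀.subtype) := (injective_iff_map_eq_one _).2 fun a ha => Subtype.ext (by
        have : (a : G) ∈ P₀ ⊓ M := ⟨a.2, (QuotientGroup.eq_one_iff _).1 ha⟩
        rwa [hdisj, Subgroup.mem_bot] at this)
      rw [show P₀.map π = (π.comp P₀.subtype).range by rw [MonoidHom.range_comp, Subgroup.range_subtype]]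
      exact (Nat.card_congr (MonoidHom.ofInjective hinj).toEquiv).symm
    rw [h1, hP₀, Nat.card_congr ((T : Subgroup ↥(P.comap π)).equivMapOfInjective _
      (P.comap π).subtype_injective).toEquiv.symm, T.card_eq_multiplicity]
    obtain ⟨m, hm⟩ := hP.exists_card_eq
    refine Nat.le_of_dvd (pow_pos hp.out.pos _) ?_
    rw [hm]
    refine pow_dvd_pow _ ((hp.out.pow_dvd_iff_le_factorization Nat.card_pos.ne').1 ?_)
    rw [← hm]
    have h2 := Subgroup.card_map_dvd (H := P.comap π) π
    rwa [Subgroup.map_comap_eq_self_of_surjective hπ] at h2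
  haveI : Group.IsNilpotent ↥P₀ := hP₀p.isNilpotent
  have hcop : (Nat.card P₀).Coprime (Nat.card M) := by
    obtain ⟨m, hm⟩ := hP₀p.exists_card_eq
    rw [hm]; exact (hp.out.coprime_iff_not_dvd.2 hM).pow_left m
  set N := Subgroup.normalizer (P : Set (G ⧸ M)) with hN
  set N₀ := Subgroup.normalizer (P₀ : Set G) with hN₀
  have hlift : N ≤ N₀.map π := by
    rw [hN, ← hmap]
    exact CfsgLib.Solv.normalizer_map_mk'_le hcop inferInstance
  obtain ⟨g₀, hg₀, hg₀g⟩ := hlift hg
  have hq₀ : ⁅⁅P₀, Subgroup.zpowers g₀⁆, Subgroup.zpowers g₀⁆ = ⊥ := by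
    refine eq_bot_iff.2 (le_of_le_of_eq (le_inf ?_ ?_) hdisj)
    · have h1 : ⁅P₀, Subgroup.zpowers g₀⁆ ≤ P₀ :=
        Subgroup.le_normalizer_iff_commutator_le_left.1 (Subgroup.zpowers_le.2 hg₀)
      exact (Subgroup.commutator_mono h1 le_rfl).trans h1
    · rw [← QuotientGroup.ker_mk' M, ← Subgroup.map_eq_bot_iff, Subgroup.map_commutator, Subgroup.map_commutator,
        MonoidHom.map_zpowers, hmap, hg₀g]
      exact hq
  have hmem := hst P₀ hP₀p g₀ hg₀ hq₀
  haveI : ((Subgroup.centralizer (P₀ : Set G)).subgroupOf N₀).Normal :=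
    Subgroup.normal_subgroupOf_centralizer_normalizer _
  haveI := CfsgLib.Solv.pCore_normal (↥N₀ ⧸ (Subgroup.centralizer (P₀ : Set G)).subgroupOf N₀) p
  set K := (pCore p (↥N₀ ⧸ (Subgroup.centralizer (P₀ : Set G)).subgroupOf N₀)).comap (QuotientGroup.mk' _)
  haveI : K.Normal := (inferInstance : (pCore p _).Normal).comap _
  let ρ : ↥N₀ →* ↥N := (π.comp N₀.subtype).codRestrict N fun a => by
    rw [hN, ← hmap]; exact Subgroup.le_normalizer_map π ⟨a, a.2, rfl⟩
  have hρ : Function.Surjective ρ := fun a => by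
    obtain ⟨b, hb, hbe⟩ := hlift a.2
    exact ⟨⟨b, hb⟩, Subtype.ext hbe⟩
  haveI : (K.map ρ).Normal := ‹K.Normal›.map ρ hρ
  refine mem_pCore_automizer (K.map ρ) ?_ ⟨⟨g₀, hg₀⟩, hmem, Subtype.ext hg₀g⟩
  rintro _ ⟨k, hk, rfl⟩
  obtain ⟨n, hn⟩ := CfsgLib.Solv.pCore_isPGroup _ p ⟨_, hk⟩
  refine ⟨n, ?_⟩
  have h : QuotientGroup.mk' ((Subgroup.centralizer (P₀ : Set G)).subgroupOf N₀) (k ^ p ^ n) = 1 := by
    rw [map_pow]; exact congrArg Subtype.val hn
  have h' : (k : G) ^ p ^ n ∈ Subgroup.centralizer (P₀ : Set G) := by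
    have := (QuotientGroup.eq_one_iff _).1 h
    simpa [Subgroup.mem_subgroupOf] using this
  show π (k : G) ^ p ^ n ∈ _
  rw [← map_pow, ← hmap]
  rintro _ ⟨b, hb, rfl⟩
  rw [← map_mul, ← map_mul, h' b hb]

end CfsgLib.Glau
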