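import Cfsg.Agent.Fus.QdStable
import Cfsg.Agent.Fus.StableInherit

/-!
In a normalizer `p`-stable group an element that is quadratic on a chief `p`-factor, and trivial on the factors below it, is trivial on
that factor.
-/

set_option autoImplicit false
set_option linter.style.haveILetI false

open Cfsg
open scoped commutatorElement

namespace CfsgLib.Dickson

open CfsgLib.Glau
open Matrix

variable {p : ℕ} [hp : Fact p.Prime]

theorem eq_one_of_coprime_pow {G : Type*} [Group G] {v : G} {n a : ℕ} (hn : n.Coprime p) (h1 : v ^ n = 1)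
    (h2 : v ^ p ^ a = 1) : v = 1 := by
  have h := (pow_gcd_eq_one).2 ⟨h1, h2⟩
  rwa [(Nat.Coprime.pow_right a hn).gcd_eq_one, pow_one] at h

theorem two_pow_coprime (hp2 : p ≠ 2) (a : ℕ) : (2 ^ a).Coprime p :=
  ((Nat.coprime_primes Nat.prime_two hp.out).2 (Ne.symm hp2)).pow_left a

set_option maxHeartbeats 2000000 in
/-- A quadratic pair, irreducible on an abelian section above a `p`-group centralized by the elements of order prime to `p` of the pair,
contradicts normalizer `p`-stability. -/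
theorem not_stable_of_lift (hp2 : p ≠ 2) {H Q : Type*} [Group H] [Finite H] [Group Q] [Finite Q] (π : H →* Q)
    (hker : IsPGroup p π.ker) (x₀ y₀ : H) (W : Subgroup Q) (hW : W ≤ π.range)
    (hxN : π x₀ ∈ Subgroup.normalizer (W : Set Q)) (hyN : π y₀ ∈ Subgroup.normalizer (W : Set Q))
    (hab : ∀ a ∈ W, ∀ b ∈ W, a * b = b * a) (hexp : ∀ a ∈ W, a ^ p = 1)
    (hqx : ∀ w ∈ W, ⁅π x₀, ⁅π x₀, w⁆⁆ = 1) (hqy : ∀ w ∈ W, ⁅π y₀, ⁅π y₀, w⁆⁆ = 1)
    (hx1 : ∃ w ∈ W, ⁅π x₀, w⁆ ≠ 1) (hy1 : ∃ w ∈ W, ⁅π y₀, w⁆ ≠ 1)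
    (hirr : ∀ W' ≤ W, π x₀ ∈ Subgroup.normalizer (W' : Set Q) → π y₀ ∈ Subgroup.normalizer (W' : Set Q) →
      W' = ⊥ ∨ W' = W)
    (hcent : ∀ l ∈ Subgroup.closure ({x₀, y₀} : Set H), (orderOf l).Coprime p → ∀ v ∈ π.ker, l * v = v * l) :
    ¬ IsNormalizerPStable p H := by
  classical
  intro hst
  letI : CommGroup ↥W := { (inferInstance : Group ↥W) with
    mul_comm := fun a b => Subtype.ext (hab a.1 a.2 b.1 b.2) }
  set L := Subgroup.closure ({x₀, y₀} : Set H) with hL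
  have hLN : ∀ l ∈ L, π l ∈ Subgroup.normalizer (W : Set Q) := by
    intro l hl
    exact (Subgroup.closure_le (K := (Subgroup.normalizer (W : Set Q)).comap π)).2
      (by rintro g (rfl | rfl) <;> assumption) hl
  have hNW : ∀ (l : ↥L) (w : ↥W), π l * w * (π l)⁻¹ ∈ W := fun l w =>
    (Subgroup.mem_normalizer_iff.1 (hLN _ l.2) w).1 w.2
  let act : ↥L →* AddMonoid.End (Additive ↥W) :=
    { toFun := fun l => ({
        toFun := fun w => Additive.ofMul ⟨π l * (Additive.toMul w : ↥W) * (π l)⁻¹, hNW l _⟩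
        map_zero' := by
          apply Additive.toMul.injective
          exact Subtype.ext (by simp)
        map_add' := fun a b => by
          apply Additive.toMul.injective
          exact Subtype.ext (by simp [mul_assoc]) } : Additive ↥W →+ Additive ↥W)
      map_one' := by
        refine AddMonoidHom.ext fun w => ?_
        apply Additive.toMul.injective
        exact Subtype.ext (show π ((1 : ↥L) : H) * ((Additive.toMul w : ↥W) : Q) * (π ((1 : ↥L) : H))⁻¹ =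
          ((Additive.toMul w : ↥W) : Q) by simp)
      map_mul' := fun l l' => by
        refine AddMonoidHom.ext fun w => ?_
        apply Additive.toMul.injective
        exact Subtype.ext (show π ((l * l' : ↥L) : H) * ((Additive.toMul w : ↥W) : Q) * (π ((l * l' : ↥L) : H))⁻¹ =
          π (l : H) * (π (l' : H) * ((Additive.toMul w : ↥W) : Q) * (π (l' : H))⁻¹) * (π (l : H))⁻¹ by
            simp [mul_assoc]) }
  let val : Additive ↥W → Q := fun w => ((Additive.toMul w : ↥W) : Q)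
  have hval : Function.Injective val := fun a b h => Additive.toMul.injective (Subtype.ext h)
  have vact : ∀ (l : ↥L) (w : Additive ↥W), val (act l w) = π l * val w * (π l)⁻¹ := fun _ _ => rfl
  have vsub : ∀ a b : Additive ↥W, val (a - b) = val a * (val b)⁻¹ := fun a b => by
    simp [val, toMul_sub, div_eq_mul_inv]
  have vadd : ∀ a b : Additive ↥W, val (a + b) = val a * val b := fun _ _ => rfl
  have vzero : val 0 = 1 := rfl
  have hquad : ∀ (l : ↥L), (∀ w ∈ W, ⁅π l, ⁅π l, w⁆⁆ = 1) → ∀ w, act l (act l w - w) = act l w - w := by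
    intro l hq w
    apply hval
    rw [vact, vsub, vact]
    have h := hq (val w) (Additive.toMul w).2
    rw [commutatorElement_def (π l) ⁅π l, val w⁆, mul_inv_eq_one] at h
    rwa [commutatorElement_def] at h
  have hne : ∀ (l : ↥L), (∃ w ∈ W, ⁅π l, w⁆ ≠ 1) → ∃ w, act l w ≠ w := by
    rintro l ⟨w, hw, h⟩
    refine ⟨Additive.ofMul ⟨w, hw⟩, fun he => h ?_⟩
    have := congrArg val he
    rw [vact] at this
    rw [commutatorElement_def, mul_inv_eq_one]
    exact this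
  have hpW : ∀ w : Additive ↥W, p • w = 0 := fun w => by
    apply Additive.toMul.injective
    exact Subtype.ext (by simpa using hexp _ (Additive.toMul w).2)
  obtain ⟨ι, hι, hM⟩ := natural_module p hp2 hpW act ⟨x₀, Subgroup.subset_closure (Or.inl rfl)⟩
    ⟨y₀, Subgroup.subset_closure (Or.inr rfl)⟩ (hquad _ hqx) (hquad _ hqy) (hne _ hx1)
    (hne _ hy1) (fun A hAx hAy => by
      let W' : Subgroup Q :=
        { carrier := {g | ∃ a ∈ A, val a = g}
          one_mem' := ⟨0, A.zero_mem, rfl⟩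
          mul_mem' := by rintro _ _ ⟨a, ha, rfl⟩ ⟨b, hb, rfl⟩; exact ⟨a + b, A.add_mem ha hb, rfl⟩
          inv_mem' := by rintro _ ⟨a, ha, rfl⟩; exact ⟨-a, A.neg_mem ha, rfl⟩ }
      have hmem : ∀ l : ↥L, (∀ a ∈ A, act l a ∈ A) → π l ∈ Subgroup.normalizer (W' : Set Q) :=
        fun l hl => Subgroup.mem_normalizer_fintype (by
          rintro _ ⟨a, ha, rfl⟩; exact ⟨act l a, hl a ha, vact l a⟩)
      rcases hirr W' (by rintro _ ⟨a, -, rfl⟩; exact (Additive.toMul a).2) (hmem _ hAx) (hmem _ hAy) with h | h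
      · left
        refine eq_bot_iff.2 fun a ha => AddSubgroup.mem_bot.2 (hval ?_)
        exact (Subgroup.mem_bot.1 (h.le ⟨a, ha, rfl⟩)).trans rfl
      · right
        refine eq_top_iff.2 fun a _ => ?_
        obtain ⟨b, hb, hba⟩ := h.ge (show val a ∈ W from (Additive.toMul a).2)
        rwa [← hval hba])
  let S : Subgroup ↥L :=
    { carrier := {l | ∃ M : SpecialLinearGroup (Fin 2) (ZMod p), ∀ t, act l (ι t) = ι (M.1 *ᵥ t)}
      one_mem' := ⟨1, fun t => by simp⟩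
      mul_mem' := fun {l l'} ⟨M, hM⟩ ⟨M', hM'⟩ => ⟨M * M', fun t => by
        rw [map_mul, show (act l * act l') (ι t) = act l (act l' (ι t)) from rfl, hM', hM, mulVec_mulVec]
        rfl⟩
      inv_mem' := fun {l} ⟨M, hM⟩ => ⟨M⁻¹, fun t => by
        have h := hM (M⁻¹.1 *ᵥ t)
        rw [mulVec_mulVec, show M.1 * (M⁻¹).1 = 1 from congrArg Subtype.val (mul_inv_cancel M), one_mulVec] at h
        rw [← h, show act l⁻¹ (act l (ι (M⁻¹.1 *ᵥ t))) = (act l⁻¹ * act l) (ι (M⁻¹.1 *ᵥ t)) from rfl, ← map_mul,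
          inv_mul_cancel, map_one]
        rfl⟩ }
  have uniq : ∀ {M M' : SpecialLinearGroup (Fin 2) (ZMod p)}, (∀ t, ι (M.1 *ᵥ t) = ι (M'.1 *ᵥ t)) → M = M' := by
    intro M M' h
    refine Subtype.ext (Matrix.ext fun i j => ?_)
    have h' := congrFun (hι (h (Pi.single j 1))) i
    simpa [mulVec_single] using h'
  choose m hm using fun l : ↥S => l.2
  let ψ : ↥S →* SpecialLinearGroup (Fin 2) (ZMod p) :=
    { toFun := m
      map_one' := uniq fun t => by rw [← hm 1 t]; simp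
      map_mul' := fun l l' => uniq fun t => by
        rw [← hm (l * l') t, show (m l * m l').1 = (m l).1 * (m l').1 from rfl, ← mulVec_mulVec, ← hm l, ← hm l']
        simp [map_mul] }
  have hψ : ∀ (l : ↥S) t, act (l : ↥L) (ι t) = ι ((ψ l).1 *ᵥ t) := hm
  have hψs : Function.Surjective ψ := fun M => by
    obtain ⟨l, hl⟩ := hM M
    exact ⟨⟨l, M, hl⟩, uniq fun t => by rw [← hψ]; exact hl t⟩
  obtain ⟨T, hT, hTmin⟩ := Set.Finite.exists_minimal
    (Set.toFinite {T : Subgroup ↥S | T.map ψ = ⊤}) ⟨⊤, Subgroup.map_top_of_surjective ψ hψs⟩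
  let ψT : ↥T →* SpecialLinearGroup (Fin 2) (ZMod p) := ψ.comp T.subtype
  have hψT : Function.Surjective ψT := fun M => by
    obtain ⟨l, hl, rfl⟩ := (hT : T.map ψ = ⊤).ge (Subgroup.mem_top M)
    exact ⟨⟨l, hl⟩, rfl⟩
  set c : SpecialLinearGroup (Fin 2) (ZMod p) := m1 (ZMod p) with hc
  obtain ⟨z₀, hz₀⟩ := hψT c
  haveI : Fact (Nat.Prime 2) := ⟨Nat.prime_two⟩
  obtain ⟨a, r, hr, hor⟩ := Nat.exists_eq_two_pow_mul_odd (orderOf_pos z₀).ne'
  set z : ↥T := z₀ ^ r with hzdef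
  have hzc : ψT z = c := by
    obtain ⟨i, rfl⟩ := hr
    rw [hzdef, map_pow, hz₀, pow_succ, pow_mul, pow_two, hc, m1_sq, one_pow, one_mul]
  have hz2 : z ^ 2 ^ a = 1 := by rw [hzdef, ← pow_mul, mul_comm, ← hor, pow_orderOf_eq_one]
  let Nn : Subgroup ↥T := (Subgroup.zpowers c).comap ψT
  haveI : (Subgroup.zpowers c).Normal := ⟨fun g hg k => by
    obtain ⟨i, rfl⟩ := Subgroup.mem_zpowers_iff.1 hg
    rw [((show Commute k c from (m1_mul k).symm).zpow_right i).eq, mul_inv_cancel_right]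
    exact Subgroup.zpow_mem_zpowers _ i⟩
  haveI : Nn.Normal := (inferInstance : (Subgroup.zpowers c).Normal).comap ψT
  have hzN : z ∈ Nn := by show ψT z ∈ Subgroup.zpowers c; rw [hzc]; exact Subgroup.mem_zpowers c
  have hz2' : IsPGroup 2 ↥(Subgroup.zpowers (⟨z, hzN⟩ : ↥Nn)) := fun u => by
    refine ⟨a, Subtype.ext ?_⟩
    obtain ⟨i, hi⟩ := Subgroup.mem_zpowers_iff.1 u.2
    rw [SubmonoidClass.coe_pow, ← hi, ← zpow_natCast, ← _root_.zpow_mul, mul_comm, _root_.zpow_mul, zpow_natCast,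
      show (⟨z, hzN⟩ : ↥Nn) ^ 2 ^ a = 1 from Subtype.ext (by simpa using hz2), _root_.one_zpow]
    rfl
  obtain ⟨R, hR⟩ := hz2'.exists_le_sylow
  let R' : Subgroup ↥T := (R : Subgroup ↥Nn).map Nn.subtype
  have hzR : z ∈ R' := ⟨⟨z, hzN⟩, hR (Subgroup.mem_zpowers _), rfl⟩
  have hnorm : Subgroup.normalizer (R' : Set ↥T) = ⊤ := by
    have htop : (Subgroup.normalizer (R' : Set ↥T)).map ψT = ⊤ := by
      refine eq_top_iff.2 ?_
      calc (⊤ : Subgroup (SpecialLinearGroup (Fin 2) (ZMod p)))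
          = (Subgroup.normalizer (R' : Set ↥T) ⊔ Nn).map ψT := by
            rw [show Subgroup.normalizer (R' : Set ↥T) ⊔ Nn = ⊤ from Sylow.normalizer_sup_eq_top R,
              Subgroup.map_top_of_surjective ψT hψT]
        _ ≤ _ := by
            rw [Subgroup.map_sup]
            refine sup_le le_rfl ((Subgroup.map_comap_le _ _).trans ?_)
            rw [Subgroup.zpowers_le]
            exact ⟨z, Subgroup.le_normalizer hzR, hzc⟩
    have h1 : T ≤ (Subgroup.normalizer (R' : Set ↥T)).map T.subtype :=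
      hTmin (show ((Subgroup.normalizer (R' : Set ↥T)).map T.subtype).map ψ = ⊤ by rw [Subgroup.map_map]; exact htop)
        (Subgroup.map_subtype_le _)
    refine eq_top_iff.2 fun t _ => ?_
    obtain ⟨t', ht', he⟩ := h1 t.2
    rwa [← T.subtype_injective he]
  have hR2 : ∀ g ∈ R', ∃ n, g ^ 2 ^ n = 1 := fun g hg => by
    obtain ⟨⟨g', hg'⟩, hgR, rfl⟩ := hg
    obtain ⟨n, hn⟩ := R.2 ⟨⟨g', hg'⟩, hgR⟩
    exact ⟨n, congrArg (fun u : ↥(R : Subgroup ↥Nn) => ((u : ↥Nn) : ↥T)) hn⟩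
  let e : ↥T →* H := L.subtype.comp (S.subtype.comp T.subtype)
  have hψe : ∀ (s : ↥T) t, π (e s) * val (ι t) * (π (e s))⁻¹ = val (ι ((ψT s).1 *ᵥ t)) := fun s t => by
    show π (((s : ↥S) : ↥L) : H) * val (ι t) * (π (((s : ↥S) : ↥L) : H))⁻¹ = _
    rw [← vact]; exact congrArg val (hψ _ t)
  -- the elements above the natural submodule
  let Mem : H → (Fin 2 → ZMod p) → Prop := fun w t => π w = val (ι t)
  have hp1 : ∀ w t, Mem w t → ∃ n, w ^ p ^ n = 1 := fun w t hw => by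
    obtain ⟨n, hn⟩ := hker ⟨w ^ p, by
      show π (w ^ p) = 1
      rw [map_pow, show π w = val (ι t) from hw]; exact hexp _ (Additive.toMul (ι t)).2⟩
    exact ⟨n + 1, by rw [pow_succ', pow_mul]; exact congrArg Subtype.val hn⟩
  have hcker : ∀ s : ↥T, (∃ n, s ^ 2 ^ n = 1) → ∀ v ∈ π.ker, e s * v = v * e s := by
    rintro s ⟨n, hn⟩ v hv
    refine hcent _ (((s : ↥S) : ↥L)).2 ?_ v hv
    exact Nat.Coprime.coprime_dvd_left (orderOf_dvd_of_pow_eq_one
      (show e s ^ 2 ^ n = 1 by rw [← map_pow, hn, map_one])) (two_pow_coprime hp2 n)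
  have htriv : ∀ s : ↥T, (∃ n, s ^ 2 ^ n = 1) → ψT s = 1 → ∀ w t, Mem w t → e s * w * (e s)⁻¹ = w := by
    intro s hs hs1 w t hw
    obtain ⟨n, hn⟩ := hs
    have hv : ⁅e s, w⁆ ∈ π.ker := by
      rw [MonoidHom.mem_ker, map_commutatorElement, commutatorElement_def, show π w = val (ι t) from hw, hψe, hs1]
      simp
    have h := conj_pow_of_fixed (l := e s) (w := w) (d := ⁅e s, w⁆) (by rw [commutatorElement_def]; group)
      (by rw [hcker s ⟨n, hn⟩ _ hv, mul_inv_cancel_right]) (2 ^ n)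
    rw [← map_pow, hn, map_one, inv_one, one_mul, mul_one] at h
    obtain ⟨k, hk⟩ := hker ⟨_, hv⟩
    have h1 := eq_one_of_coprime_pow (two_pow_coprime hp2 n) (mul_eq_right.1 h.symm) (congrArg Subtype.val hk)
    rw [commutatorElement_def, mul_inv_eq_one] at h1
    exact h1
  have hzker : ∀ v ∈ π.ker, e z * v * (e z)⁻¹ = v := fun v hv => by
    rw [hcker z ⟨a, hz2⟩ v hv, mul_inv_cancel_right]
  -- inverted lifts
  let Anti : H → (Fin 2 → ZMod p) → Prop := fun w t => Mem w t ∧ e z * w * (e z)⁻¹ = w⁻¹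
  have hneg : ∀ t, c.1 *ᵥ t = -t := fun t => by
    funext i; fin_cases i <;> simp [hc, m1, mulVec, dotProduct, Fin.sum_univ_two]
  have hzz : ∀ w t, Mem w t → e z * (e z * w * (e z)⁻¹) * (e z)⁻¹ = w := fun w t hw => by
    have h := htriv (z * z) ⟨a, by rw [← pow_two, ← pow_mul, mul_comm, pow_mul, hz2, one_pow]⟩
      (by rw [map_mul, hzc, hc, m1_sq]) w t hw
    rw [map_mul] at h
    simpa [mul_assoc] using h
  have h2' : (2 : ZMod p) ≠ 0 := fun h => hp2 ((Nat.prime_dvd_prime_iff_eq hp.out Nat.prime_two).1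
    ((CharP.cast_eq_zero_iff (ZMod p) p 2).1 (by exact_mod_cast h)))
  have hex : ∀ t, ∃ w, Anti w t := by
    intro t
    obtain ⟨w, hw⟩ := hW (Additive.toMul (ι ((-(2 : ZMod p)⁻¹) • t))).2
    refine ⟨w⁻¹ * (e z * w * (e z)⁻¹), ?_, ?_⟩
    · show π _ = _
      rw [map_mul, map_mul, map_mul, map_inv, map_inv, hw]
      show (val (ι _))⁻¹ * (π (e z) * val (ι _) * (π (e z))⁻¹) = _
      rw [hψe, hzc, hneg]
      rw [show ∀ a b, (val a)⁻¹ * val b = val (b - a) from fun a b => by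
        rw [vsub, hab _ ((Subgroup.inv_mem_iff _).2 (Additive.toMul a).2) _ (Additive.toMul b).2]]
      rw [← map_sub]
      congr 2
      funext i
      simp only [Pi.sub_apply, Pi.neg_apply, Pi.smul_apply, smul_eq_mul]
      field_simp
      ring
    · have h := hzz w _ hw
      calc e z * (w⁻¹ * (e z * w * (e z)⁻¹)) * (e z)⁻¹
          = (e z * w * (e z)⁻¹)⁻¹ * (e z * (e z * w * (e z)⁻¹) * (e z)⁻¹) := by group
        _ = (w⁻¹ * (e z * w * (e z)⁻¹))⁻¹ := by rw [h]; group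
  have hkill : ∀ w t, Anti w t → ∀ v ∈ π.ker, w * v = v * w := by
    intro w t hw v hv
    have h1 := hzker _ ((inferInstance : π.ker.Normal).conj_mem v hv w)
    rw [show e z * (w * v * w⁻¹) * (e z)⁻¹ = (e z * w * (e z)⁻¹) * (e z * v * (e z)⁻¹) * (e z * w * (e z)⁻¹)⁻¹ by group,
      hw.2, hzker v hv, inv_inv] at h1
    have hsq : Commute (w ^ 2) v := by
      have h2 := congrArg (fun x => w * x * w) h1
      simp only [mul_assoc, mul_inv_cancel_left, inv_mul_cancel, mul_one] at h2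
      show w ^ 2 * v = v * w ^ 2
      rw [pow_two, mul_assoc, ← h2]
    obtain ⟨n, hn⟩ := hp1 w t hw.1
    obtain ⟨i, hi⟩ := (hp.out.odd_of_ne_two hp2).pow (n := n)
    have h3 := hsq.pow_left (i + 1)
    rw [← pow_mul, show 2 * (i + 1) = p ^ n + 1 by omega, pow_succ, hn, one_mul] at h3
    exact h3.eq
  have huni : ∀ w w' t, Anti w t → Anti w' t → w = w' := by
    intro w w' t hw hw'
    have hv : w⁻¹ * w' ∈ π.ker := by
      rw [MonoidHom.mem_ker, map_mul, map_inv, show π w = val (ι t) from hw.1, show π w' = val (ι t) from hw'.1,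
        inv_mul_cancel]
    have h1 := hzker _ hv
    rw [show e z * (w⁻¹ * w') * (e z)⁻¹ = (e z * w * (e z)⁻¹)⁻¹ * (e z * w' * (e z)⁻¹) by group, hw.2, hw'.2,
      inv_inv] at h1
    have hc' : Commute w w' := by
      have := hkill w t hw _ hv
      show w * w' = w' * w
      rw [← mul_assoc w, mul_inv_cancel, one_mul, mul_assoc] at this
      calc w * w' = w * (w⁻¹ * (w' * w)) := by rw [← this]
        _ = w' * w := by rw [mul_inv_cancel_left]
    have hsq : (w⁻¹ * w') ^ 2 = 1 := by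
      rw [pow_two]
      nth_rw 1 [← h1]
      rw [hc'.inv_left.eq]; group
    obtain ⟨k, hk⟩ := hker ⟨_, hv⟩
    exact inv_mul_eq_one.1 (eq_one_of_coprime_pow (by simpa using two_pow_coprime (p := p) hp2 1) hsq
      (congrArg Subtype.val hk))
  have hequiv : ∀ (s : ↥T) w t, Anti w t → Anti (e s * w * (e s)⁻¹) ((ψT s).1 *ᵥ t) := by
    intro s w t hw
    have hm' : Mem (e s * w * (e s)⁻¹) ((ψT s).1 *ᵥ t) := by
      show π _ = _
      rw [map_mul, map_mul, map_inv, show π w = val (ι t) from hw.1, hψe]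
    refine ⟨hm', ?_⟩
    have hk : z * s * z⁻¹ * s⁻¹ ∈ R' := by
      have hk' : s * z * s⁻¹ ∈ R' := (Subgroup.mem_normalizer_iff.1 (by rw [hnorm]; trivial) z).1 hzR
      rw [show z * s * z⁻¹ * s⁻¹ = z * (s * z * s⁻¹)⁻¹ by group]
      exact R'.mul_mem hzR (R'.inv_mem hk')
    have h1 := htriv _ (hR2 _ hk) (by
      rw [map_mul, map_mul, map_mul, map_inv, map_inv, hzc, hc, m1_mul]; group) _ _ hm'
    rw [map_mul, map_mul, map_mul, map_inv, map_inv] at h1
    calc e z * (e s * w * (e s)⁻¹) * (e z)⁻¹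
        = e z * e s * (e z)⁻¹ * (e z * w * (e z)⁻¹) * (e z * e s * (e z)⁻¹)⁻¹ := by group
      _ = (e z * e s * (e z)⁻¹ * (e s)⁻¹ * (e s * w * (e s)⁻¹) * (e z * e s * (e z)⁻¹ * (e s)⁻¹)⁻¹)⁻¹ := by
          rw [hw.2]; group
      _ = _ := by rw [h1]
  -- the subgroup generated by the lifts of a basis
  obtain ⟨e₁, he₁⟩ := hex ![1, 0]
  obtain ⟨e₂, he₂⟩ := hex ![0, 1]
  set d := ⁅e₁, e₂⁆ with hd
  have hdV : d ∈ π.ker := by
    rw [MonoidHom.mem_ker, hd, map_commutatorElement, show π e₁ = val (ι ![1, 0]) from he₁.1,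
      show π e₂ = val (ι ![0, 1]) from he₂.1]
    exact commutatorElement_eq_one_iff_commute.2
      (hab _ (Additive.toMul (ι ![1, 0])).2 _ (Additive.toMul (ι ![0, 1])).2)
  have hd1 : Commute e₁ d := hkill _ _ he₁ d hdV
  have hd2 : Commute e₂ d := hkill _ _ he₂ d hdV
  set E := Subgroup.closure ({e₁, e₂} : Set H) with hE
  have he₁E : e₁ ∈ E := Subgroup.subset_closure (Or.inl rfl)
  have he₂E : e₂ ∈ E := Subgroup.subset_closure (Or.inr rfl)
  have hdE : d ∈ E := by rw [hd, commutatorElement_def]; exact mul_mem (mul_mem (mul_mem he₁E he₂E) (inv_mem he₁E)) (inv_mem he₂E)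
  obtain ⟨ν, hν⟩ := hker ⟨d, hdV⟩
  obtain ⟨i, hi⟩ := (hp.out.odd_of_ne_two hp2).pow (n := ν)
  have hdi : d ^ (2 * i + 1) = 1 := by rw [← hi]; exact congrArg Subtype.val hν
  -- the lift of the sum
  have hsum : Anti (e₁ * e₂ * d ^ i) ![1, 1] := by
    refine ⟨?_, ?_⟩
    · show π _ = _
      rw [map_mul, map_mul, map_pow, show π d = 1 from hdV, one_pow, mul_one, show π e₁ = val (ι ![1, 0]) from he₁.1,
        show π e₂ = val (ι ![0, 1]) from he₂.1, ← vadd, ← map_add]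
      congr 2
      funext i; fin_cases i <;> simp
    · rw [show e z * (e₁ * e₂ * d ^ i) * (e z)⁻¹ = (e z * e₁ * (e z)⁻¹) * (e z * e₂ * (e z)⁻¹) * (e z * d * (e z)⁻¹) ^ i
        by rw [conj_pow]; group, he₁.2, he₂.2, hzker d hdV]
      refine eq_inv_of_mul_eq_one_left ?_
      have h4 : e₁⁻¹ * e₂⁻¹ * (e₁ * e₂) = d := by
        calc e₁⁻¹ * e₂⁻¹ * (e₁ * e₂) = e₁⁻¹ * (e₂⁻¹ * d * e₂) * e₁ := by rw [hd, commutatorElement_def]; group
          _ = d := by rw [hd2.inv_left.eq, inv_mul_cancel_right, hd1.inv_left.eq, inv_mul_cancel_right]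
      have hc2 : Commute (d ^ i) (e₁ * e₂) := ((hd1.mul_left hd2).pow_right i).symm
      calc e₁⁻¹ * e₂⁻¹ * d ^ i * (e₁ * e₂ * d ^ i) = e₁⁻¹ * e₂⁻¹ * (d ^ i * (e₁ * e₂)) * d ^ i := by
            simp only [mul_assoc]
        _ = e₁⁻¹ * e₂⁻¹ * (e₁ * e₂) * (d ^ i * d ^ i) := by rw [hc2.eq]; simp only [mul_assoc]
        _ = 1 := by rw [h4, ← pow_add, ← pow_succ', ← two_mul, hdi]
  obtain ⟨u, hu⟩ := hψT (up (1 : ZMod p))
  obtain ⟨l, hl⟩ := hψT (lo (1 : ZMod p))
  have hu1 : e u * e₁ * (e u)⁻¹ = e₁ := by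
    have h := hequiv u _ _ he₁
    rw [hu, show (up (1 : ZMod p)).1 *ᵥ ![1, 0] = ![1, 0] by
      funext i; fin_cases i <;> simp [up, mulVec, dotProduct, Fin.sum_univ_two]] at h
    exact huni _ _ _ h he₁
  have hu2 : e u * e₂ * (e u)⁻¹ = e₁ * e₂ * d ^ i := by
    have h := hequiv u _ _ he₂
    rw [hu, show (up (1 : ZMod p)).1 *ᵥ ![0, 1] = ![1, 1] by
      funext i; fin_cases i <;> simp [up, mulVec, dotProduct, Fin.sum_univ_two]] at h
    exact huni _ _ _ h hsum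
  have hl2 : e l * e₂ * (e l)⁻¹ = e₂ := by
    have h := hequiv l _ _ he₂
    rw [hl, show (lo (1 : ZMod p)).1 *ᵥ ![0, 1] = ![0, 1] by
      funext i; fin_cases i <;> simp [lo, mulVec, dotProduct, Fin.sum_univ_two]] at h
    exact huni _ _ _ h he₂
  have hl1 : e l * e₁ * (e l)⁻¹ = e₁ * e₂ * d ^ i := by
    have h := hequiv l _ _ he₁
    rw [hl, show (lo (1 : ZMod p)).1 *ᵥ ![1, 0] = ![1, 1] by
      funext i; fin_cases i <;> simp [lo, mulVec, dotProduct, Fin.sum_univ_two]] at h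
    exact huni _ _ _ h hsum
  have hsE : e₁ * e₂ * d ^ i ∈ E := mul_mem (mul_mem he₁E he₂E) (pow_mem hdE i)
  have hnE : ∀ g : H, g * e₁ * g⁻¹ ∈ E → g * e₂ * g⁻¹ ∈ E → g ∈ Subgroup.normalizer (E : Set H) := fun g h1 h2 =>
    Subgroup.mem_normalizer_fintype fun w hw => by
      refine (show E ≤ E.comap (MulAut.conj g).toMonoidHom from (Subgroup.closure_le _).2 ?_) hw
      rintro y (rfl | rfl) <;> assumption
  have huE : e u ∈ Subgroup.normalizer (E : Set H) := hnE _ (hu1.symm ▸ he₁E) (hu2.symm ▸ hsE)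
  have hlE : e l ∈ Subgroup.normalizer (E : Set H) := hnE _ (hl1.symm ▸ hsE) (hl2.symm ▸ he₂E)
  -- `e u` is quadratic on `E`
  have hud : e u * d * (e u)⁻¹ = d := by
    rw [show e u * d * (e u)⁻¹ = ⁅e u * e₁ * (e u)⁻¹, e u * e₂ * (e u)⁻¹⁆ by
      rw [hd, commutatorElement_def, commutatorElement_def]; group, hu1, hu2, commutatorElement_def]
    calc e₁ * (e₁ * e₂ * d ^ i) * e₁⁻¹ * (e₁ * e₂ * d ^ i)⁻¹
        = e₁ * (e₁ * e₂) * (d ^ i * e₁⁻¹) * (d ^ i)⁻¹ * (e₁ * e₂)⁻¹ := by group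
      _ = e₁ * (e₁ * e₂ * e₁⁻¹ * e₂⁻¹) * e₁⁻¹ := by rw [((hd1.pow_right i).inv_left.eq).symm]; group
      _ = d := by rw [← commutatorElement_def, ← hd, hd1.eq, mul_inv_cancel_right]
  set D := Subgroup.closure ({e₁, d} : Set H) with hD
  have hDfix : ∀ w ∈ D, e u * w * (e u)⁻¹ = w := fun w hw => by
    induction hw using Subgroup.closure_induction with
    | mem y hy => rcases hy with rfl | rfl; exacts [hu1, hud]
    | one => group
    | mul a b _ _ ha hb => rw [show e u * (a * b) * (e u)⁻¹ = e u * a * (e u)⁻¹ * (e u * b * (e u)⁻¹) by group, ha, hb]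
    | inv a _ ha => rw [show e u * a⁻¹ * (e u)⁻¹ = (e u * a * (e u)⁻¹)⁻¹ by group, ha]
  have he₁D : e₁ ∈ D := Subgroup.subset_closure (Or.inl rfl)
  have hdD : d ∈ D := Subgroup.subset_closure (Or.inr rfl)
  have hED : E ≤ Subgroup.normalizer (D : Set H) := (Subgroup.closure_le _).2 (by
    rintro y (rfl | rfl)
    · exact Subgroup.le_normalizer he₁D
    · refine Subgroup.mem_normalizer_fintype fun w hw => ?_
      refine (show D ≤ D.comap (MulAut.conj y).toMonoidHom from (Subgroup.closure_le _).2 ?_) hw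
      rintro v (rfl | rfl)
      · show y * v * y⁻¹ ∈ D
        rw [show y * v * y⁻¹ = ⁅v, y⁆⁻¹ * v by rw [commutatorElement_def]; group]
        exact mul_mem (inv_mem hdD) he₁D
      · show y * d * y⁻¹ ∈ D
        rw [hd2.eq, mul_inv_cancel_right]; exact hdD)
  have hwD : ∀ n : ℕ, ∀ w ∈ E, ⁅e u ^ n, w⁆ ∈ D := by
    intro n w hw
    induction hw using Subgroup.closure_induction with
    | mem y hy =>
      rcases hy with rfl | rfl
      · have h := conj_pow_of_fixed (l := e u) (w := y) (d := 1) (by rw [hu1, one_mul]) (by group) n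
        rw [commutatorElement_def, h, one_pow, one_mul, mul_inv_cancel]
        exact D.one_mem
      · have hD' : e₁ * d ^ i ∈ D := mul_mem he₁D (pow_mem hdD i)
        have h := conj_pow_of_fixed (l := e u) (w := y) (d := e₁ * d ^ i) (by
          rw [hu2, mul_assoc e₁, (hd2.pow_right i).eq, ← mul_assoc]) (hDfix _ hD') n
        rw [commutatorElement_def, h, mul_inv_cancel_right]
        exact pow_mem hD' n
    | one => rw [commutatorElement_one_right]; exact D.one_mem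
    | mul a b ha _ h1 h2 =>
      rw [commutatorElement_mul_right_eq_mul_conj, mul_assoc, mul_assoc, ← mul_assoc a]
      exact mul_mem h1 ((Subgroup.mem_normalizer_iff.1 (hED ha) _).1 h2)
    | inv a ha h1 =>
      rw [show ⁅e u ^ n, a⁻¹⁆ = a⁻¹ * ⁅e u ^ n, a⁆⁻¹ * a⁻¹⁻¹ by rw [commutatorElement_def, commutatorElement_def]; group]
      exact (Subgroup.mem_normalizer_iff.1 (hED (inv_mem ha)) _).1 (inv_mem h1)
  have hq : ⁅⁅E, Subgroup.zpowers (e u)⁆, Subgroup.zpowers (e u)⁆ = ⊥ := by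
    have h1 : ⁅E, Subgroup.zpowers (e u)⁆ ≤ D := Subgroup.commutator_le.2 fun w hw g hg => by
      obtain ⟨n, rfl⟩ := (isOfFinOrder_of_finite (e u)).mem_powers_iff_mem_zpowers.2 hg
      rw [← commutatorElement_inv]
      exact inv_mem (hwD n w hw)
    refine eq_bot_iff.2 ((Subgroup.commutator_mono h1 le_rfl).trans
      (Subgroup.commutator_eq_bot_iff_le_centralizer.2 fun w hw g hg => ?_).le)
    obtain ⟨k, rfl⟩ := Subgroup.mem_zpowers_iff.1 hg
    exact ((show Commute (e u) w from mul_inv_eq_iff_eq_mul.1 (hDfix w hw)).zpow_left k).eq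
  -- stability makes `-1` trivial on `E`
  have hEp : IsPGroup p E := by
    have hle : E ≤ (W.comap π) := (Subgroup.closure_le _).2 (by
      rintro y (rfl | rfl)
      · show π y ∈ W
        rw [show π y = val (ι ![1, 0]) from he₁.1]; exact (Additive.toMul (ι ![1, 0])).2
      · show π y ∈ W
        rw [show π y = val (ι ![0, 1]) from he₂.1]; exact (Additive.toMul (ι ![0, 1])).2)
    rintro ⟨w, hw⟩
    obtain ⟨n, hn⟩ := hker ⟨w ^ p, show π (w ^ p) = 1 by rw [map_pow]; exact hexp _ (hle hw)⟩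
    exact ⟨n + 1, Subtype.ext (by
      show w ^ p ^ (n + 1) = 1
      rw [pow_succ', pow_mul]; exact congrArg Subtype.val hn)⟩
  have hmem := hst E hEp (e u) huE hq
  set N := Subgroup.normalizer (E : Set H) with hN
  haveI : ((Subgroup.centralizer (E : Set H)).subgroupOf N).Normal :=
    Subgroup.normal_subgroupOf_centralizer_normalizer _
  haveI := CfsgLib.Solv.pCore_normal (↥N ⧸ (Subgroup.centralizer (E : Set H)).subgroupOf N) p
  let NT : Subgroup ↥T := N.comap e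
  let φ : ↥NT →* ↥N ⧸ (Subgroup.centralizer (E : Set H)).subgroupOf N :=
    (QuotientGroup.mk' _).comp ((e.comp NT.subtype).codRestrict N fun s => s.2)
  set K := (pCore p (↥N ⧸ (Subgroup.centralizer (E : Set H)).subgroupOf N)).comap φ with hK
  haveI : K.Normal := (inferInstance : (pCore p _).Normal).comap φ
  let u' : ↥NT := ⟨u, huE⟩
  let l' : ↥NT := ⟨l, hlE⟩
  have huK : u' ∈ K := hmem
  set j := u' * l'⁻¹ * u'
  set k := (u' * (j * u' * j⁻¹) * u') * (u' * (j * u' * j⁻¹) * u')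
  have hkK : k ∈ K := by
    have hc := (inferInstance : K.Normal).conj_mem u' huK j
    exact K.mul_mem (K.mul_mem (K.mul_mem huK hc) huK) (K.mul_mem (K.mul_mem huK hc) huK)
  have hψk : ψT (k : ↥T) = c := by
    show ψT ((u * (u * l⁻¹ * u * u * (u * l⁻¹ * u)⁻¹) * u) * (u * (u * l⁻¹ * u * u * (u * l⁻¹ * u)⁻¹) * u)) = c
    have hli : (lo (1 : ZMod p))⁻¹ = lo (-1) := inv_eq_of_mul_eq_one_right (by apply ext4 <;> simp only [mul00, mul01, mul10, mul11] <;> simp [lo])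
    have hJ : up (1 : ZMod p) * lo (-1) * up 1 = mk 0 1 (-1) 0 (by ring) := by
      apply ext4 <;> simp only [mul00, mul01, mul10, mul11] <;> simp [up, lo]
    simp only [map_mul, map_inv, hu, hl]
    rw [hli, hJ, show mk (0 : ZMod p) 1 (-1) 0 (by ring) * up 1 * (mk 0 1 (-1) 0 (by ring))⁻¹ = lo (-1) by
      rw [mul_inv_eq_iff_eq_mul]; apply ext4 <;> simp only [mul00, mul01, mul10, mul11] <;> simp [up, lo]]
    rw [hJ, hc]; apply ext4 <;> simp only [mul00, mul01, mul10, mul11] <;> simp [m1]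
  obtain ⟨n, hn⟩ := CfsgLib.Solv.pCore_isPGroup _ p ⟨φ k, hkK⟩
  have hn' : φ (k ^ p ^ n) = 1 := by rw [map_pow]; exact congrArg Subtype.val hn
  have hcz : e ((k ^ p ^ n : ↥NT) : ↥T) ∈ Subgroup.centralizer (E : Set H) :=
    (QuotientGroup.eq_one_iff (N := (Subgroup.centralizer (E : Set H)).subgroupOf N) _).1 hn'
  have hψn : ψT ((k ^ p ^ n : ↥NT) : ↥T) = c := by
    obtain ⟨i, hi⟩ := (hp.out.odd_of_ne_two hp2).pow (n := n)
    rw [SubmonoidClass.coe_pow, map_pow, hψk, hi, pow_succ, pow_mul, pow_two, hc, m1_sq, one_pow, one_mul]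
  have h5 := hψe ((k ^ p ^ n : ↥NT) : ↥T) ![1, 0]
  rw [← (show π e₁ = val (ι ![1, 0]) from he₁.1), ← map_inv, ← map_mul, ← map_mul, ← hcz e₁ he₁E,
    mul_inv_cancel_right, show π e₁ = val (ι ![1, 0]) from he₁.1, hψn, hneg] at h5
  have h6 := congrFun (hι (hval h5)) 0
  simp at h6
  exact h2' (by linear_combination h6)

set_option maxHeartbeats 1000000 in
/-- In a normalizer `p`-stable group an element quadratic on a chief `p`-factor and trivial on the factors below it is trivial on it. -/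
theorem chief_trivial_of_stable (hp2 : p ≠ 2) {Γ : Type*} [Group Γ] [Finite Γ] (hst : IsNormalizerPStable p Γ)
    {U V : Subgroup Γ} (hc : IsChiefFactor U V) (hU : IsPGroup p U) {g : Γ} (hg : g ∈ stab V)
    (hq : ∀ u ∈ U, ⁅g, ⁅g, u⁆⁆ ∈ V) : ∀ u ∈ U, ⁅g, u⁆ ∈ V := by
  classical
  obtain ⟨hel, hcom⟩ := chief_elementary (p := p) hc hU
  haveI := hc.2.2.1
  haveI := hc.2.1
  haveI := stab_normal V
  have hVp : IsPGroup p V := hU.to_le hc.1.le
  set C := Subgroup.centralizer (U : Set Γ) with hCdef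
  haveI : C.Normal := by rw [hCdef]; infer_instance
  let σ : Γ →* Γ ⧸ C := QuotientGroup.mk' C
  set c := σ g with hcdef
  set Ω : Set (Subgroup (Γ ⧸ C)) :=
    Set.range fun h => (Subgroup.zpowers c).map (MulAut.conj h).toMonoidHom with hΩ
  have hconj : ∀ Y ∈ Ω, ∀ h, Y.map (MulAut.conj h).toMonoidHom ∈ Ω := by
    rintro _ ⟨k, rfl⟩ h
    exact ⟨h * k, by
      show _ = Subgroup.map _ (Subgroup.map _ _)
      rw [Subgroup.map_map]; congr 1; ext a; simp [mul_assoc]⟩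
  by_contra hcon
  have hpair : ∀ Y ∈ Ω, ∀ Z ∈ Ω, IsPGroup p ↥(Y ⊔ Z) := by
    rintro _ ⟨h₁, rfl⟩ _ ⟨h₂, rfl⟩
    obtain ⟨a₁, rfl⟩ := QuotientGroup.mk'_surjective C h₁
    obtain ⟨a₂, rfl⟩ := QuotientGroup.mk'_surjective C h₂
    set x := a₁ * g * a₁⁻¹ with hx
    set y := a₂ * g * a₂⁻¹ with hy
    set L := Subgroup.closure ({x, y} : Set Γ) with hL
    have hle : Subgroup.map (MulAut.conj (σ a₁)).toMonoidHom (Subgroup.zpowers c) ⊔
        Subgroup.map (MulAut.conj (σ a₂)).toMonoidHom (Subgroup.zpowers c) ≤ L.map σ := by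
      rw [MonoidHom.map_zpowers, MonoidHom.map_zpowers]
      refine sup_le (Subgroup.zpowers_le.2 ⟨x, Subgroup.subset_closure (Or.inl rfl), ?_⟩)
        (Subgroup.zpowers_le.2 ⟨y, Subgroup.subset_closure (Or.inr rfl), ?_⟩)
      · simp [hx, hcdef]
      · simp [hy, hcdef]
    refine IsPGroup.to_le ?_ hle
    by_contra hnp
    -- an element of order prime to `p` moving `U`
    have hl₀ : ∃ l ∈ L, (orderOf l).Coprime p ∧ l ∉ C := by
      by_contra h
      push_neg at h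
      refine hnp ?_
      rintro ⟨_, l, hl, rfl⟩
      refine ⟨(orderOf l).factorization p, Subtype.ext ?_⟩
      show σ l ^ p ^ _ = 1
      rw [← map_pow]
      refine (QuotientGroup.eq_one_iff _).2 (h _ (L.pow_mem hl _) ?_)
      rw [orderOf_pow_of_dvd (pow_ne_zero _ hp.out.ne_zero) (Nat.ordProj_dvd _ _)]
      exact (Nat.coprime_ordCompl hp.out (orderOf_pos l).ne').symm
    have hxV : x ∈ stab V := (stab_normal V).conj_mem g hg a₁
    have hyV : y ∈ stab V := (stab_normal V).conj_mem g hg a₂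
    have hLst : L ≤ stab V := (Subgroup.closure_le _).2 (by rintro z (rfl | rfl) <;> assumption)
    have hquad : ∀ a, ∀ u ∈ U, ⁅a * g * a⁻¹, ⁅a * g * a⁻¹, u⁆⁆ ∈ V := by
      intro a u hu
      rw [show u = a * (a⁻¹ * u * a) * a⁻¹ by group, ← conjugate_commutatorElement, ← conjugate_commutatorElement]
      exact hc.2.2.1.conj_mem _ (hq _ (by simpa using hc.2.1.conj_mem u hu a⁻¹)) a
    -- a minimal subgroup moved by such an element
    obtain ⟨W, hW, hWmin⟩ := Set.Finite.exists_minimal (Set.toFinite {X : Subgroup Γ | V ≤ X ∧ X ≤ U ∧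
        L ≤ Subgroup.normalizer (X : Set Γ) ∧ ∃ l ∈ L, (orderOf l).Coprime p ∧ l ∉ Subgroup.centralizer (X : Set Γ)})
      ⟨U, hc.1.le, le_rfl, (Subgroup.normalizer_eq_top_iff.2 hc.2.1).symm ▸ le_top, hl₀⟩
    obtain ⟨hVW, hWU, hLW, l₀, hl₀L, hl₀p, hl₀W⟩ := hW
    have hVne : V < W := lt_of_le_of_ne hVW fun h => hl₀W (h ▸ stab_coprime hl₀p inferInstance hVp (hLst hl₀L))
    obtain ⟨W₀, ⟨hVW₀, hW₀lt, hLW₀⟩, hW₀max⟩ := Set.Finite.exists_maximal (Set.toFinite
      {M : Subgroup Γ | V ≤ M ∧ M < W ∧ L ≤ Subgroup.normalizer (M : Set Γ)})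
      ⟨V, le_rfl, hVne, (Subgroup.normalizer_eq_top_iff.2 hc.2.2.1).symm ▸ le_top⟩
    have h₀ : ∀ l ∈ L, (orderOf l).Coprime p → l ∈ Subgroup.centralizer (W₀ : Set Γ) := by
      intro l hl hlp
      by_contra h
      exact hW₀lt.not_ge (hWmin ⟨hVW₀, hW₀lt.le.trans hWU, hLW₀, l, hl, hlp, h⟩ hW₀lt.le)
    set N := Subgroup.normalizer (W₀ : Set Γ) with hN
    let π : ↥N →* ↥N ⧸ W₀.subgroupOf N := QuotientGroup.mk' _
    have hπ : ∀ w : ↥N, π w = 1 ↔ (w : Γ) ∈ W₀ := fun w => QuotientGroup.eq_one_iff w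
    have hWN : W ≤ N := fun w hw => Subgroup.mem_normalizer_fintype fun v hv => by
      show w * v * w⁻¹ ∈ W₀
      rw [show w * v * w⁻¹ = ⁅w, v⁆ * v by rw [commutatorElement_def]; group]
      exact W₀.mul_mem (hVW₀ (hcom w (hWU hw) v (hWU (hW₀lt.le hv)))) hv
    set Wq : Subgroup (↥N ⧸ W₀.subgroupOf N) := (W.subgroupOf N).map π with hWq
    have hxL : x ∈ L := Subgroup.subset_closure (Or.inl rfl)
    have hyL : y ∈ L := Subgroup.subset_closure (Or.inr rfl)
    have hnormq : ∀ (w : Γ) (hw : w ∈ L),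
        π ⟨w, hLW₀ hw⟩ ∈ Subgroup.normalizer (Wq : Set (↥N ⧸ W₀.subgroupOf N)) := fun w hw =>
      Subgroup.mem_normalizer_fintype (by
        rintro _ ⟨⟨u, huN⟩, hu, rfl⟩
        refine ⟨⟨w, hLW₀ hw⟩ * ⟨u, huN⟩ * ⟨w, hLW₀ hw⟩⁻¹, (Subgroup.mem_normalizer_iff.1 (hLW hw) u).1 hu, ?_⟩
        rw [map_mul, map_mul, map_inv])
    have hquadq : ∀ (w : Γ) (hw : w ∈ L), (∀ u ∈ U, ⁅w, ⁅w, u⁆⁆ ∈ V) →
        ∀ v ∈ Wq, ⁅π ⟨w, hLW₀ hw⟩, ⁅π ⟨w, hLW₀ hw⟩, v⁆⁆ = 1 := by
      rintro w hw hqw _ ⟨⟨u, huN⟩, hu, rfl⟩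
      rw [← map_commutatorElement, ← map_commutatorElement, hπ]
      exact hVW₀ (hqw u (hWU hu))
    have hexp : ∀ a ∈ Wq, a ^ p = 1 := by
      rintro _ ⟨a, ha, rfl⟩
      rw [← map_pow, hπ]
      exact hVW₀ (hel _ (hWU ha))
    -- both members of the pair move the factor
    let α := (Subgroup.normalizerMonoidHom Wq)
    have hmove : ∀ (w w' : Γ) (hw : w ∈ L) (hw' : w' ∈ L), L ≤ Subgroup.closure ({w, w'} : Set Γ) →
        (∀ u ∈ U, ⁅w', ⁅w', u⁆⁆ ∈ V) → ∃ v ∈ Wq, ⁅π ⟨w, hLW₀ hw⟩, v⁆ ≠ 1 := by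
      intro w w' hw hw' hgen hqw'
      by_contra hfix
      push_neg at hfix
      let β : ↥L →* MulAut ↥Wq :=
        { toFun := fun l => α ⟨π ⟨l, hLW₀ l.2⟩, hnormq l l.2⟩
          map_one' := map_one α
          map_mul' := fun l l' => map_mul α ⟨π ⟨l, hLW₀ l.2⟩, hnormq l l.2⟩ ⟨π ⟨l', hLW₀ l'.2⟩, hnormq l' l'.2⟩ }
      have hβ : ∀ (l : ↥L) (v : ↥Wq), ((β l v : ↥Wq) : ↥N ⧸ W₀.subgroupOf N) =
          π ⟨l, hLW₀ l.2⟩ * v * (π ⟨l, hLW₀ l.2⟩)⁻¹ := fun l v => rfl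
      have hw1 : β ⟨w, hw⟩ = 1 := MulEquiv.ext fun v => Subtype.ext (by
        rw [hβ, MulAut.one_apply, mul_inv_eq_iff_eq_mul]
        exact (commutatorElement_eq_one_iff_commute.1 (hfix _ v.2)).eq)
      have hwp : β ⟨w', hw'⟩ ^ p = 1 := by
        rw [← map_pow]
        refine MulEquiv.ext fun v => Subtype.ext ?_
        rw [hβ, MulAut.one_apply]
        set t := π ⟨w', hLW₀ hw'⟩
        have ht : π ⟨((⟨w', hw'⟩ : ↥L) ^ p : ↥L), hLW₀ ((⟨w', hw'⟩ : ↥L) ^ p).2⟩ = t ^ p := by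
          rw [← map_pow]; rfl
        rw [ht]
        have hq' := hquadq w' hw' hqw' v v.2
        have hfix' : t * ⁅t, (v : ↥N ⧸ W₀.subgroupOf N)⁆ * t⁻¹ = ⁅t, (v : ↥N ⧸ W₀.subgroupOf N)⁆ := by
          rw [(commutatorElement_eq_one_iff_commute.1 hq').eq, mul_inv_cancel_right]
        rw [conj_pow_of_fixed (show t * v * t⁻¹ = ⁅t, (v : ↥N ⧸ W₀.subgroupOf N)⁆ * v by
          rw [commutatorElement_def]; group) hfix' p, hexp ⁅t, _⁆ ?_, one_mul]
        rw [commutatorElement_def]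
        exact Wq.mul_mem ((Subgroup.mem_normalizer_iff.1 (hnormq w' hw') _).1 v.2) (Wq.inv_mem v.2)
      have hrange : β.range ≤ Subgroup.zpowers (β ⟨w', hw'⟩) := by
        rintro _ ⟨⟨l, hl⟩, rfl⟩
        have : l ∈ ((Subgroup.zpowers (β ⟨w', hw'⟩)).comap β).map L.subtype := by
          refine ((hgen.trans ((Subgroup.closure_le _).2 ?_)) hl)
          rintro z (rfl | rfl)
          · exact ⟨⟨z, hw⟩, show β ⟨z, hw⟩ ∈ Subgroup.zpowers _ by rw [hw1]; exact Subgroup.one_mem _, rfl⟩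
          · exact ⟨⟨z, hw'⟩, Subgroup.mem_zpowers _, rfl⟩
        obtain ⟨l', hl', he⟩ := this
        rwa [show (⟨l, hl⟩ : ↥L) = l' from Subtype.ext he.symm]
      obtain ⟨i, hi⟩ := Subgroup.mem_zpowers_iff.1 (hrange ⟨⟨l₀, hl₀L⟩, rfl⟩)
      have hlp : β ⟨l₀, hl₀L⟩ ^ p = 1 := by
        rw [← hi, ← zpow_natCast, ← _root_.zpow_mul, mul_comm, _root_.zpow_mul, zpow_natCast, hwp, _root_.one_zpow]
      have hlo : β ⟨l₀, hl₀L⟩ = 1 := eq_one_of_coprime_pow (p := p) (a := 1) hl₀p (by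
        rw [← map_pow, show (⟨l₀, hl₀L⟩ : ↥L) ^ orderOf l₀ = 1 from Subtype.ext (pow_orderOf_eq_one l₀), map_one])
        (by rwa [pow_one])
      refine hl₀W fun u hu => ?_
      have h1 := congrArg (fun φ : MulAut ↥Wq => ((φ ⟨π ⟨u, hWN hu⟩, _, hu, rfl⟩ : ↥Wq) : ↥N ⧸ W₀.subgroupOf N)) hlo
      simp only [hβ, MulAut.one_apply] at h1
      rw [← map_inv, ← map_mul, ← map_mul] at h1
      have h2 : (l₀ * u * l₀⁻¹) * u⁻¹ ∈ W₀ := (hπ _).1 (show π (⟨l₀, hLW₀ hl₀L⟩ * ⟨u, hWN hu⟩ * ⟨l₀, hLW₀ hl₀L⟩⁻¹ *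
        ⟨u, hWN hu⟩⁻¹) = 1 by rw [map_mul, h1, map_inv, mul_inv_cancel])
      have hfixd : l₀ * ⁅l₀, u⁆ * l₀⁻¹ = ⁅l₀, u⁆ := by
        rw [← h₀ l₀ hl₀L hl₀p _ (by rw [commutatorElement_def]; exact h2), mul_inv_cancel_right]
      have h3 := conj_pow_of_fixed (show l₀ * u * l₀⁻¹ = ⁅l₀, u⁆ * u by rw [commutatorElement_def]; group) hfixd
        (orderOf l₀)
      rw [pow_orderOf_eq_one, one_mul, inv_one, mul_one] at h3
      obtain ⟨k, hk⟩ := hU ⟨⁅l₀, u⁆, hWU (hW₀lt.le (by rw [commutatorElement_def]; exact h2))⟩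
      have h4 := eq_one_of_coprime_pow hl₀p (mul_eq_right.1 h3.symm) (congrArg Subtype.val hk)
      exact (commutatorElement_eq_one_iff_commute.1 h4).eq.symm
    refine not_stable_of_lift hp2 π ?_ ⟨x, hLW₀ hxL⟩ ⟨y, hLW₀ hyL⟩ Wq ?_ (hnormq x hxL) (hnormq y hyL) ?_ hexp
      (hquadq x hxL (hquad a₁)) (hquadq y hyL (hquad a₂))
      (hmove x y hxL hyL le_rfl (hquad a₂)) (hmove y x hyL hxL (by rw [hL, Set.pair_comm]) (hquad a₁)) ?_ ?_
      (stable_of_injective hst N.subtype N.subtype_injective)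
    · rw [QuotientGroup.ker_mk']
      exact (hU.to_le (hW₀lt.le.trans hWU)).comap_subtype
    · rw [MonoidHom.range_eq_top.2 (QuotientGroup.mk'_surjective _)]; exact le_top
    · rintro _ ⟨a, ha, rfl⟩ _ ⟨b, hb, rfl⟩
      exact (commutatorElement_eq_one_iff_commute.1 ((map_commutatorElement π a b).symm.trans
        ((hπ _).2 (hVW₀ (hcom _ (hWU ha) _ (hWU hb)))))).eq
    · intro W' hW' hxW' hyW'
      let M : Subgroup Γ := (W'.comap π).map N.subtype
      have hMW : M ≤ W := by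
        rintro _ ⟨w, hw, rfl⟩
        obtain ⟨v, hv, he⟩ := hW' hw
        have := (hπ _).1 (show π (v⁻¹ * w) = 1 by rw [map_mul, map_inv, he, inv_mul_cancel])
        have h' := W.mul_mem hv (hW₀lt.le this)
        simpa using h'
      have hW₀M : W₀ ≤ M := fun w hw => ⟨⟨w, Subgroup.le_normalizer hw⟩,
        show π _ ∈ W' by rw [(hπ _).2 hw]; exact W'.one_mem, rfl⟩
      have hMn : ∀ (w : Γ) (hw : w ∈ N), π ⟨w, hw⟩ ∈ Subgroup.normalizer (W' : Set (↥N ⧸ W₀.subgroupOf N)) →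
          w ∈ Subgroup.normalizer (M : Set Γ) := fun w hw hwW' => Subgroup.mem_normalizer_fintype (by
        rintro _ ⟨u, hu, rfl⟩
        refine ⟨⟨w, hw⟩ * u * ⟨w, hw⟩⁻¹, show π _ ∈ W' by
          rw [map_mul, map_mul, map_inv]; exact (Subgroup.mem_normalizer_iff.1 hwW' _).1 hu, rfl⟩)
      rcases eq_or_lt_of_le hMW with h | h
      · right
        refine le_antisymm hW' ?_
        rintro _ ⟨a, ha, rfl⟩
        obtain ⟨b, hb, hba⟩ := h.ge ha
        rwa [← N.subtype_injective hba]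
      · left
        have hM0 := hW₀max ⟨hVW₀.trans hW₀M, h, (Subgroup.closure_le _).2 (by
          rintro z (rfl | rfl); exacts [hMn _ _ hxW', hMn _ _ hyW'])⟩ hW₀M
        refine eq_bot_iff.2 fun w hw => ?_
        obtain ⟨v, rfl⟩ := QuotientGroup.mk'_surjective _ w
        exact (hπ v).2 (hM0 ⟨v, hw, rfl⟩)
    · intro l hl hlp v hv
      have hlL : (l : Γ) ∈ L := by
        have h := (Subgroup.closure_le (K := L.comap N.subtype)).2
          (by rintro z (rfl | rfl) <;> assumption) hl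
        exact h
      exact Subtype.ext ((h₀ _ hlL (by rwa [Subgroup.orderOf_coe]) _ ((hπ v).1 hv)).symm)
  have hS := CfsgLib.Inv.baer_suzuki Ω hconj hpair
  haveI : (sSup Ω).Normal := by
    refine ⟨fun a ha h => ?_⟩
    have : (sSup Ω).map (MulAut.conj h).toMonoidHom ≤ sSup Ω := by
      rw [sSup_eq_iSup', Subgroup.map_iSup]
      exact iSup_le fun Y => le_iSup_of_le (⟨_, hconj Y.1 Y.2 h⟩ : Ω) le_rfl
    exact this ⟨a, ha, rfl⟩
  have hgS : c ∈ sSup Ω := le_sSup (show Subgroup.zpowers c ∈ Ω from ⟨1, by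
    show Subgroup.map _ _ = _
    rw [map_one]; exact Subgroup.map_id _⟩) (Subgroup.mem_zpowers c)
  refine hcon (trivial_of_pgroup_on_chief (K := (sSup Ω).comap σ) hc hU (fun k hk => ?_) g hgS)
  obtain ⟨n, hn⟩ := hS ⟨σ k, hk⟩
  refine ⟨n, fun v hv => ?_⟩
  have h : k ^ p ^ n ∈ C := (QuotientGroup.eq_one_iff _).1 (show σ (k ^ p ^ n) = 1 by
    rw [map_pow]; exact congrArg Subtype.val hn)
  rw [commutatorElement_eq_one_iff_commute.2 (h v hv).symm]
  exact V.one_mem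

end CfsgLib.Dickson
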