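import Cfsg.Agent.Fus.FusionCore
import Cfsg.Agent.Fus.StableChief
import Cfsg.Agent.Fus.QuadraticKInf
import Cfsg.Agent.Perm.MinClass

/-!
In a normalizer `p`-stable group, `p` odd, the normalizer of the lower K-infinity subgroup of a Sylow subgroup controls strong fusion.
-/

set_option autoImplicit false
set_option linter.style.haveILetI false

open Cfsg
open scoped commutatorElement

namespace CfsgLib.Glau

universe u

/-- In a constrained normalizer `p`-stable group the K-infinity subgroups are normal. -/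
theorem kInf_normal_of_stable {Γ : Type u} [Group Γ] [Finite Γ] {p : ℕ} [hp : Fact p.Prime] (hp2 : p ≠ 2)
    (hst : IsNormalizerPStable p Γ) (hC : Subgroup.centralizer (pCore p Γ : Set Γ) ≤ pCore p Γ) (S : Sylow p Γ) :
    (inducedFunctor kInfLower (S : Subgroup Γ)).Normal ∧ (inducedFunctor kInfUpper (S : Subgroup Γ)).Normal := by
  by_contra hK
  obtain ⟨g, -, -, -, -, h5⟩ := kInf_quartic_chief S (not_and_or.1 hK)
  obtain ⟨U, V, hc, hU, hgV, hq, hn⟩ := h5 hC
  haveI := hc.2.2.1
  refine hn (zpowers_comm_le (CfsgLib.Dickson.chief_trivial_of_stable hp2 hst hc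
    ((CfsgLib.Solv.pCore_isPGroup Γ p).to_le hU) hgV fun u hu => quad_mem_of_le hq hu))

/-- The lower K-infinity subgroup of a `p`-subgroup contains its centralizer there. -/
theorem centralizer_inducedFunctor {Γ : Type u} [Group Γ] [Finite Γ] {p : ℕ} [hp : Fact p.Prime] {R : Subgroup Γ}
    (hR : IsPGroup p R) :
    R ⊓ Subgroup.centralizer (inducedFunctor kInfLower R : Set Γ) ≤ inducedFunctor kInfLower R := by
  haveI : Group.IsNilpotent ↥R := hR.isNilpotent
  intro x hx
  exact ⟨⟨x, hx.1⟩, KInf.centralizer_kInf.1 fun w hw => Subtype.ext (hx.2 w ⟨w, hw, rfl⟩), rfl⟩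

set_option maxHeartbeats 1000000 in
/-- In a normalizer `p`-stable group the normalizer of the lower K-infinity subgroup controls strong fusion. -/
theorem fusion_of_stable {p : ℕ} [hp : Fact p.Prime] (hp2 : p ≠ 2) :
    ∀ (Γ : Type u) [Group Γ] [Finite Γ], IsNormalizerPStable p Γ → ∀ (S : Subgroup Γ), Syl p S ⊤ →
      Fus S ⊤ (Subgroup.normalizer (inducedFunctor kInfLower S : Set Γ)) := by
  let W : ∀ (Q : Type u) [Group Q], Subgroup Q := fun Q => kInfLower Q
  have hW : IsCharPFunctor.{u} p W := KInf.isCharPFunctor_lower p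
  have hcore : ∀ (Γ : Type u) [Group Γ] [Finite Γ], IsNormalizerPStable p Γ →
      Subgroup.centralizer (pCore p Γ : Set Γ) ≤ pCore p Γ → ∀ S : Sylow p Γ,
        (inducedFunctor W (S : Subgroup Γ)).Normal := fun Γ _ _ hst hC S => (kInf_normal_of_stable hp2 hst hC S).1
  suffices key : ∀ (n : ℕ) (Γ : Type u) [Group Γ] [Finite Γ], IsNormalizerPStable p Γ → Nat.card Γ = n →
      ∀ S : Subgroup Γ, Syl p S ⊤ → Fus S ⊤ (Subgroup.normalizer (inducedFunctor W S : Set Γ)) from
    fun Γ _ _ hst S hS => key _ Γ hst rfl S hS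
  intro n
  induction n using Nat.strong_induction_on with
  | _ n ih =>
  intro Γ _ _ hsec hn S hS
  subst hn
  have hsub : ∀ (H T : Subgroup Γ), H ≠ ⊤ → Syl p T H →
      Fus T H (H ⊓ Subgroup.normalizer (inducedFunctor W T : Set Γ)) := by
    intro H T hne hT
    have hlt : Nat.card H < Nat.card Γ :=
      lt_of_le_of_ne (Nat.card_le_card_of_injective _ H.subtype_injective) fun he =>
        hne (Subgroup.eq_top_of_card_eq _ he)
    have h := Fus.of_hom H.subtype_injective (ih _ hlt ↥H (stable_of_injective hsec H.subtype H.subtype_injective) rfl _ hT.subgroupOf)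
    rw [← top_inf_eq (Subgroup.normalizer _), map_inf_normalizer H.subtype_injective,
      ← ind_map hW H.subtype (Q := T.subgroupOf H) hT.pg.comap_subtype H.subtype_injective.injOn, ← MonoidHom.range_eq_map,
      H.range_subtype, Subgroup.map_subgroupOf_eq_of_le hT.le] at h
    exact h
  have hWc := KInf.inducedFunctor_conjugacy (G := Γ) hW
  set WS := inducedFunctor W S with hWS
  set N := Subgroup.normalizer (WS : Set Γ) with hN
  have hSN : S ≤ N := Subgroup.le_normalizer.trans (functor_normalizer hWc hS.pg)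
  by_cases hK : pPrimeCore p Γ ≠ ⊥
  · haveI := CfsgLib.Solv.pPrimeCore_normal Γ p
    set K := pPrimeCore p Γ with hKdef
    have hKc : ¬ p ∣ Nat.card K := CfsgLib.Solv.not_dvd_card_pPrimeCore
    let π := QuotientGroup.mk' K
    have hπ : Function.Surjective π := QuotientGroup.mk'_surjective K
    have hlt : Nat.card (Γ ⧸ K) < Nat.card Γ := by
      rw [← K.index_eq_card, ← K.card_mul_index]
      exact lt_mul_left K.index_ne_zero_of_finite.bot_lt ((Subgroup.one_lt_card_iff_ne_bot K).2 hK)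
    have hinj : Set.InjOn π (S : Set Γ) := fun x hx y hy he => by
      have : x⁻¹ * y ∈ S ⊓ K := ⟨S.mul_mem (S.inv_mem hx) hy, QuotientGroup.eq.1 he⟩
      rw [inf_eq_bot_of_card hS.pg hKc, Subgroup.mem_bot, inv_mul_eq_one] at this
      exact this
    have hSb := hS.map π
    rw [Subgroup.map_top_of_surjective π hπ] at hSb
    have hb := ih _ hlt (Γ ⧸ K) (stable_quotient hsec K hKc) rfl _ hSb
    rw [ind_map hW π hS.pg hinj, ← hWS] at hb
    refine fus_of_quotient hS.pg hKc hSN (hb.mono ?_)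
    rw [← map_top_normalizer hπ, Subgroup.map_le_iff_le_comap, Subgroup.comap_map_eq, QuotientGroup.ker_mk']
    intro m hm
    set X := WS ⊔ K with hX
    have hX' : (WS.map π).comap π = X := by rw [Subgroup.comap_map_eq, QuotientGroup.ker_mk']
    have hm' : cj m X = X := mem_normalizer_iff_cj.1 (hX' ▸ hm)
    obtain ⟨x, hx, hxle⟩ := (syl_sup (hS.pg.to_le (hWc S hS.pg).1) hKc).exists_conj_le
      ((cj_mono m le_sup_left).trans hm'.le) (isPGroup_cj m (hS.pg.to_le (hWc S hS.pg).1))
    rw [← cj_mul] at hxle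
    have h1 : x * m ∈ N := mem_normalizer_iff_cj.2 (Subgroup.eq_of_le_of_card_ge hxle (card_cj (x * m) WS).ge)
    have h2 : x ∈ N ⊔ K := sup_le_sup_right ((hWc S hS.pg).1.trans hSN) K hx
    have := mul_mem (inv_mem h2) (Subgroup.mem_sup_left h1 (T := K))
    rw [inv_mul_cancel_left] at this
    rwa [Subgroup.comap_map_eq, QuotientGroup.ker_mk']
  rw [not_not] at hK
  haveI := CfsgLib.Solv.pCore_normal Γ p
  set P := pCore p Γ with hPdef
  have hPp : IsPGroup p ↥P := CfsgLib.Solv.pCore_isPGroup Γ p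
  by_cases hP : P = ⊥
  · refine (fus_global hWc hS fun T hT0 hT => hsub _ _ (fun htop => hT0 ?_) ((hT.2 0).syl hS)).mono inf_le_right
    rw [top_inf_eq, Subgroup.normalizer_eq_top_iff] at htop
    exact eq_bot_iff.2 (hP ▸ CfsgLib.Solv.le_pCore (hN := htop) (hS.pg.to_le hT.1))
  have hPN : (⊤ : Subgroup Γ) ≤ Subgroup.normalizer (P : Set Γ) :=
    (Subgroup.normalizer_eq_top_iff.2 inferInstance).ge
  have hPS : P ≤ S := hS.normal_le le_top hPp hPN
  set C := Subgroup.centralizer (P : Set Γ) with hCdef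
  haveI : C.Normal := Subgroup.normalizer_eq_top_iff.1 (eq_top_iff.2
    (hPN.trans (normalizer_le_centralizer_normalizer P)))
  by_cases hCP : C ≤ P
  · have hn : WS.Normal := by
      have h := hcore Γ hsec hCP ⟨S, hS.pg, fun {Q} hQ hle => (hS.eq_of_le hle le_top hQ)⟩
      exact h
    intro B _ g _ _
    refine ⟨g, ?_, fun b _ => rfl⟩
    rw [hN, Subgroup.normalizer_eq_top_iff.2 hn]; trivial
  by_cases hM : C ⊔ S ≠ ⊤
  · set M := C ⊔ S with hMdef
    set R := S ⊓ (P ⊔ C) with hR
    have hRn : Subgroup.normalizer (R : Set Γ) ≠ ⊤ := by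
      intro htop
      have hRP : R ≤ P := CfsgLib.Solv.le_pCore (hN := Subgroup.normalizer_eq_top_iff.1 htop)
        (hS.pg.to_le inf_le_left)
      -- then `C` is contained in `P`
      have hRc : ∀ r ∈ S ⊓ C, ∀ c ∈ C, r * c = c * r := fun r hr c hc =>
        hc r (hRP ⟨hr.1, Subgroup.mem_sup_right hr.2⟩)
      exact hCP (CfsgLib.Glau.le_of_central_sylow hK hS hRc ((inf_le_inf_left S le_sup_right).trans hRP))
    have hSR : S ≤ Subgroup.normalizer (R : Set Γ) := fun s hs => mem_normalizer_iff_cj.2 (by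
      rw [hR, cj_inf, cj_eq_of_mem hs, mem_normalizer_iff_cj.1 (by
        rw [Subgroup.normalizer_eq_top_iff.2 inferInstance]; trivial : s ∈ Subgroup.normalizer ((P ⊔ C : Subgroup Γ) : Set Γ))])
    have hfM := (hsub M S hM (hS.mono le_sup_right le_top)).mono (inf_le_right : _ ≤ N)
    have hfR := (hsub _ S hRn (hS.mono hSR le_top)).mono (inf_le_right : _ ≤ N)
    intro B hB g _ hgB
    -- `g = k c` with `k` normalizing `R` and `c` centralizing `P`
    obtain ⟨n, hn, k, hk, hg⟩ := frattini hS (N := P ⊔ C)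
      (Subgroup.normalizer_eq_top_iff.2 inferInstance).ge (Subgroup.mem_top g)
    obtain ⟨v, hv, c, hc, rfl⟩ := Subgroup.mem_sup_of_normal_left.1 hn.2
    have hvR : v ∈ Subgroup.normalizer (R : Set Γ) := hSR (hPS hv)
    set k' := v * k with hk'
    have hk'R : k' ∈ Subgroup.normalizer (R : Set Γ) := mul_mem hvR hk.2
    set c' := k'⁻¹ * g with hc'
    have hc'C : c' ∈ C := by
      rw [hc', hg, hk', show (v * k)⁻¹ * (v * c * k) = k⁻¹ * c * k⁻¹⁻¹ by group]
      exact (inferInstance : C.Normal).conj_mem c hc k⁻¹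
    -- move the image into `S` inside `M ⊓ N(R)`
    have hB1 : cj c' B ≤ M ⊓ Subgroup.normalizer (R : Set Γ) := by
      refine le_inf ((cj_mono c' (hB.trans le_sup_right)).trans (cj_eq_of_mem (Subgroup.mem_sup_left hc'C)).le) ?_
      rw [hc', cj_mul]
      exact (cj_mono _ (hgB.trans hSR)).trans (cj_eq_of_mem (inv_mem hk'R)).le
    obtain ⟨m, hm, hmle⟩ := (hS.mono (le_inf le_sup_right hSR) le_top).exists_conj_le hB1
      (isPGroup_cj c' (hS.pg.to_le hB))
    rw [← cj_mul] at hmle
    obtain ⟨x₁, hx₁, he₁⟩ := hfM B hB (m * c') (M.mul_mem hm.1 (Subgroup.mem_sup_left hc'C)) hmle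
    obtain ⟨x₂, hx₂, he₂⟩ := hfR (cj (m * c') B) hmle (k' * m⁻¹) (mul_mem hk'R (inv_mem hm.2)) (by
      rw [← cj_mul, show k' * m⁻¹ * (m * c') = g by rw [hc']; group]; exact hgB)
    refine ⟨x₂ * x₁, N.mul_mem hx₂ hx₁, fun b hb => ?_⟩
    rw [show x₂ * x₁ * b * (x₂ * x₁)⁻¹ = x₂ * (x₁ * b * x₁⁻¹) * x₂⁻¹ by group, he₁ b hb, he₂ _ (conj_mem_cj hb),
      hc']
    group
  rw [not_not] at hM
  -- the factor of `C` in a Sylow subgroup lies outside `P`
  have hSC : ¬ S ⊓ C ≤ P := fun h => hCP (le_of_central_sylow hK hS (fun r hr c hc => hc r (h hr)) h)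
  -- the functor enlarged by `P`
  set W' : Subgroup Γ → Subgroup Γ := fun Q => inducedFunctor W Q ⊔ (P ⊓ Q) with hW'
  have hPcj : ∀ g : Γ, cj g P = P := fun g => mem_normalizer_iff_cj.1 (hPN (Subgroup.mem_top g))
  have hW'c : IsConjugacyFunctor p W' := fun Q hQ => by
    obtain ⟨h1, h2, h3⟩ := hWc Q hQ
    refine ⟨sup_le h1 inf_le_right, fun hne hb => h2 hne (eq_bot_iff.2 (le_sup_left.trans hb.le)), fun g => ?_⟩
    show inducedFunctor W (cj g Q) ⊔ (P ⊓ cj g Q) = cj g (inducedFunctor W Q ⊔ (P ⊓ Q))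
    refine Eq.trans ?_ (Subgroup.map_sup _ _ _).symm
    exact congrArg₂ (· ⊔ ·) (h3 g) ((congrArg (· ⊓ cj g Q) (hPcj g).symm).trans (cj_inf g P Q).symm)
  -- a normalizer in `S` of a subgroup over `P` has a functor value outside `P`
  have hout : ∀ T, P ≤ T → T ≤ S → ¬ W' (S ⊓ Subgroup.normalizer (T : Set Γ)) ≤ P := by
    intro T hPT hTS hle
    set R := S ⊓ Subgroup.normalizer (T : Set Γ) with hR
    have hPR : P ≤ R := le_inf hPS (hPT.trans Subgroup.le_normalizer)
    haveI : Group.IsNilpotent ↥S := hS.pg.isNilpotent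
    let π := QuotientGroup.mk' P
    -- a central element of `S` modulo `P` in the factor
    set S₁ := (S ⊓ C).map π with hS₁
    haveI : ((S₁).subgroupOf (S.map π)).Normal := by
      refine Subgroup.normal_subgroupOf_of_le_normalizer fun y hy => ?_
      obtain ⟨s, hs, rfl⟩ := hy
      refine Subgroup.le_normalizer_map π ⟨s, ?_, rfl⟩
      exact mem_normalizer_iff_cj.2 (by rw [cj_inf, cj_eq_of_mem hs, mem_normalizer_iff_cj.1 (by
        rw [Subgroup.normalizer_eq_top_iff.2 (inferInstance : C.Normal)]; trivial : s ∈ Subgroup.normalizer (C : Set Γ))])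
    have hne : (S₁).subgroupOf (S.map π) ≠ ⊥ := by
      intro hb
      refine hSC fun x hx => (QuotientGroup.eq_one_iff _).1 ?_
      exact congrArg Subtype.val (Subgroup.mem_bot.1 (hb.le (show (⟨π x, x, hx.1, rfl⟩ : ↥(S.map π)) ∈ _ from
        ⟨x, hx, rfl⟩)))
    obtain ⟨⟨⟨_, hyS⟩, hy1⟩, hy⟩ := Subgroup.ne_bot_iff_exists_ne_one.1
      (CfsgLib.Perm.inf_center_ne_bot (hS.pg.map π) _ hne)
    obtain ⟨x, hx, rfl⟩ := hy1.1
    have hxR : x ∈ R := ⟨hx.1, Subgroup.mem_normalizer_fintype fun t ht => by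
      show x * t * x⁻¹ ∈ T
      have h := congrArg Subtype.val (Subgroup.mem_center_iff.1 hy1.2 ⟨π t, t, hTS ht, rfl⟩)
      have h' : t⁻¹ * (x * t * x⁻¹) ∈ P := (QuotientGroup.eq_one_iff _).1 (show π (t⁻¹ * (x * t * x⁻¹)) = 1 by
        rw [map_mul, map_mul, map_mul, map_inv, map_inv, ← show π t * π x = π x * π t from h]; group)
      have := T.mul_mem ht (hPT h')
      rwa [mul_inv_cancel_left] at this⟩
    have hxP : x ∉ P := fun h => hy (Subtype.ext (Subtype.ext ((QuotientGroup.eq_one_iff _).2 h)))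
    have hWP : inducedFunctor W R ≤ P := le_sup_left.trans hle
    exact hxP (hWP (centralizer_inducedFunctor (hS.pg.to_le inf_le_left) ⟨hxR, fun w hw => hx.2 w (hWP hw)⟩))
  have hN' : Subgroup.normalizer (W' S : Set Γ) ≠ ⊤ := fun htop => by
    refine hout S hPS le_rfl ?_
    rw [inf_eq_left.2 Subgroup.le_normalizer]
    exact CfsgLib.Solv.le_pCore (hN := Subgroup.normalizer_eq_top_iff.1 htop) (hS.pg.to_le (hW'c S hS.pg).1)
  have hSN' : S ≤ Subgroup.normalizer (W' S : Set Γ) := Subgroup.le_normalizer.trans (functor_normalizer hW'c hS.pg)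
  -- fusion inside the normalizer of the enlarged value
  have hfus : ∀ B g, P ≤ B → B ≤ S → cj g B ≤ S →
      ∃ x ∈ Subgroup.normalizer (W' S : Set Γ), ∀ b ∈ B, x * b * x⁻¹ = g * b * g⁻¹ := by
    intro B g hPB hB hgB
    have hc := chain_wp hW'c hS (Subgroup.mem_top g) hB hgB
    clear hgB hB
    induction hc with
    | one A => exact ⟨1, one_mem _, fun b _ => rfl⟩
    | @step A T x g hT hx hA _ ih =>
      obtain ⟨y, hy, hye⟩ := ih ((hPcj x).ge.trans (cj_mono x hPB))
      suffices hs : ∃ z ∈ Subgroup.normalizer (W' S : Set Γ), ∀ b ∈ A, z * b * z⁻¹ = x * b * x⁻¹ by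
        obtain ⟨z, hz, hze⟩ := hs
        refine ⟨y * z, mul_mem hy hz, fun b hb => ?_⟩
        calc y * z * b * (y * z)⁻¹ = y * (z * b * z⁻¹) * y⁻¹ := by group
          _ = g * x * b * (g * x)⁻¹ := by rw [hze b hb, hye _ (conj_mem_cj hb)]; group
      by_cases hTP : T ≤ P
      · obtain ⟨c, hc, s, hs, rfl⟩ := Subgroup.mem_sup_of_normal_left.1 (hM.ge (Subgroup.mem_top x))
        refine ⟨s, hSN' hs, fun b hb => ?_⟩
        have hbP : s * b * s⁻¹ ∈ P := hPcj s ▸ conj_mem_cj (hTP (hA hb))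
        calc s * b * s⁻¹ = c * (s * b * s⁻¹) * c⁻¹ := by rw [← hc _ hbP, mul_inv_cancel_right]
          _ = c * s * b * (c * s)⁻¹ := by group
      have inv : ∀ i, P ≤ functorTower W' S T i ∧ ¬ functorTower W' S T i ≤ P := by
        intro i
        induction i with
        | zero => exact ⟨hPB.trans hA, hTP⟩
        | succ i ih =>
          have hle := tower_le hW'c hS.pg hT.1 i
          rw [tower_succ]
          exact ⟨le_sup_of_le_right (le_inf le_rfl (le_inf hPS (ih.1.trans Subgroup.le_normalizer))),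
            hout _ ih.1 hle⟩
      have hA0 : A ≤ S ⊓ Subgroup.normalizer (T : Set Γ) := hA.trans (le_inf hT.1 Subgroup.le_normalizer)
      have hxA : cj x A ≤ S ⊓ Subgroup.normalizer (T : Set Γ) := (cj_mono x hA).trans
        ((mem_normalizer_iff_cj.1 hx.2).le.trans (le_inf hT.1 Subgroup.le_normalizer))
      have desc : ∀ i, ∃ z ∈ Subgroup.normalizer (functorTower W' S T i : Set Γ),
          (∀ b ∈ A, z * b * z⁻¹ = x * b * x⁻¹) ∧ A ≤ S ⊓ Subgroup.normalizer (functorTower W' S T i : Set Γ) ∧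
            cj x A ≤ S ⊓ Subgroup.normalizer (functorTower W' S T i : Set Γ) := by
        intro i
        induction i with
        | zero => exact ⟨x, hx.2, fun _ _ => rfl, hA0, hxA⟩
        | succ i ih =>
          obtain ⟨z, hz, hze, hzA, hzxA⟩ := ih
          set U := functorTower W' S T i with hU
          have hUn : Subgroup.normalizer (U : Set Γ) ≠ ⊤ := fun htop => (inv i).2
            (CfsgLib.Solv.le_pCore (hN := Subgroup.normalizer_eq_top_iff.1 htop)
              (hS.pg.to_le (tower_le hW'c hS.pg hT.1 i)))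
          set R := S ⊓ Subgroup.normalizer (U : Set Γ) with hR
          have hR' : Syl p R (Subgroup.normalizer (U : Set Γ)) := by
            have h := ((hT.2 i).syl hS)
            rwa [top_inf_eq] at h
          obtain ⟨z', hz', hze'⟩ := hsub _ R hUn hR' A hzA z hz (by
            rintro _ ⟨b, hb, rfl⟩
            show z * b * z⁻¹ ∈ R
            rw [hze b hb]; exact hzxA (conj_mem_cj hb))
          refine ⟨z', ?_, fun b hb => (hze' b hb).trans (hze b hb), hzA.trans (tower_mono hW'c hS.pg i),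
            hzxA.trans (tower_mono hW'c hS.pg i)⟩
          rw [tower_succ, ← hR]
          have hPR : P ≤ R := le_inf hPS ((inv i).1.trans Subgroup.le_normalizer)
          refine mem_normalizer_iff_cj.2 ?_
          show cj z' (inducedFunctor W R ⊔ (P ⊓ R)) = inducedFunctor W R ⊔ (P ⊓ R)
          rw [cj, Subgroup.map_sup, inf_eq_left.2 hPR]
          exact congrArg₂ (· ⊔ ·) (mem_normalizer_iff_cj.1 hz'.2) (hPcj z')
      obtain ⟨z, hz, hze, -⟩ := desc (Nat.card S + 1)
      rw [tower_succ, tower_top hW'c hS.pg _ le_rfl] at hz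
      exact ⟨z, hz, hze⟩
  intro B hB g _ hgB
  obtain ⟨x, hx, hxe⟩ := hfus (B ⊔ P) g le_sup_right (sup_le hB hPS) (by
    rw [cj, Subgroup.map_sup]; exact sup_le hgB ((hPcj g).le.trans hPS))
  obtain ⟨y, hy, hye⟩ := hsub _ S hN' (hS.mono hSN' le_top) B hB x hx (by
    rintro _ ⟨b, hb, rfl⟩
    show x * b * x⁻¹ ∈ S
    rw [hxe b (Subgroup.mem_sup_left hb)]; exact hgB (conj_mem_cj hb))
  exact ⟨y, hy.2, fun b hb => (hye b hb).trans (hxe b (Subgroup.mem_sup_left hb))⟩

end CfsgLib.Glau
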