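import Cfsg.Agent.Fus.FunctorFamily
import Cfsg.Agent.Fus.FusionCore

/-!
Fusion generated by a family of subgroups, staying inside a Sylow subgroup, and its local-to-global principle.
-/

set_option autoImplicit false
set_option linter.style.haveILetI false

open Cfsg
open scoped commutatorElement

namespace CfsgLib.Glau

universe u

section

variable {G : Type*} [Group G]

/-- A product of elements of members of `𝒩` carrying `A` inside `S` step by step. -/
inductive FChain (S : Subgroup G) (𝒩 : Set (Subgroup G)) : Subgroup G → G → Prop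
  | one {A : Subgroup G} (hA : A ≤ S) : FChain S 𝒩 A 1
  | step {A N : Subgroup G} {x g : G} (hN : N ∈ 𝒩) (hx : x ∈ N) (hA : A ≤ S) (hc : FChain S 𝒩 (cj x A) g) :
      FChain S 𝒩 A (g * x)

/-- `g` agrees on `A` with a chain. -/
def Reach (S : Subgroup G) (𝒩 : Set (Subgroup G)) (A : Subgroup G) (g : G) : Prop :=
  ∃ g', FChain S 𝒩 A g' ∧ ∀ a ∈ A, g' * a * g'⁻¹ = g * a * g⁻¹

variable {S : Subgroup G} {𝒩 : Set (Subgroup G)}

theorem FChain.left_le {A : Subgroup G} {g : G} (h : FChain S 𝒩 A g) : A ≤ S := by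
  cases h with
  | one hA => exact hA
  | step _ _ hA _ => exact hA

theorem FChain.image_le {A : Subgroup G} {g : G} (h : FChain S 𝒩 A g) : cj g A ≤ S := by
  induction h with
  | one hA => rwa [cj_one]
  | step _ _ _ _ ih => rwa [cj_mul]

theorem cj_congr {A : Subgroup G} {g g' : G} (h : ∀ a ∈ A, g' * a * g'⁻¹ = g * a * g⁻¹) : cj g' A = cj g A := by
  ext z
  constructor
  · rintro ⟨a, ha, rfl⟩; exact ⟨a, ha, (h a ha).symm⟩
  · rintro ⟨a, ha, rfl⟩; exact ⟨a, ha, h a ha⟩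

theorem Reach.image_le {A : Subgroup G} {g : G} (h : Reach S 𝒩 A g) : cj g A ≤ S := by
  obtain ⟨g', hc, he⟩ := h
  exact cj_congr he ▸ hc.image_le

theorem Reach.refl {A : Subgroup G} {g : G} (hA : A ≤ S) (hg : ∀ a ∈ A, g * a * g⁻¹ = a) : Reach S 𝒩 A g :=
  ⟨1, FChain.one hA, fun a ha => by rw [hg a ha]; group⟩

theorem Reach.single {A N : Subgroup G} {x : G} (hN : N ∈ 𝒩) (hx : x ∈ N) (hA : A ≤ S) (hxA : cj x A ≤ S) :
    Reach S 𝒩 A x :=
  ⟨x, by simpa using FChain.step hN hx hA (FChain.one hxA), fun _ _ => rfl⟩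

theorem FChain.trans {A : Subgroup G} {g : G} (h : FChain S 𝒩 A g) :
    ∀ {g' : G}, FChain S 𝒩 (cj g A) g' → FChain S 𝒩 A (g' * g) := by
  induction h with
  | one _ => intro g' h; rw [mul_one]; rwa [cj_one] at h
  | step hN hx hA _ ih =>
    intro g' h
    rw [← mul_assoc]
    exact FChain.step hN hx hA (ih (by rwa [← cj_mul]))

theorem Reach.trans {A : Subgroup G} {g g' : G} (h : Reach S 𝒩 A g) (h' : Reach S 𝒩 (cj g A) g') :
    Reach S 𝒩 A (g' * g) := by
  obtain ⟨k, hk, hke⟩ := h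
  obtain ⟨k', hk', hke'⟩ := h'
  refine ⟨k' * k, hk.trans (cj_congr hke ▸ hk'), fun a ha => ?_⟩
  calc k' * k * a * (k' * k)⁻¹ = k' * (k * a * k⁻¹) * k'⁻¹ := by group
    _ = g' * (g * a * g⁻¹) * g'⁻¹ := by rw [hke a ha, hke' _ (conj_mem_cj ha)]
    _ = g' * g * a * (g' * g)⁻¹ := by group

theorem Reach.congr {A : Subgroup G} {g g' : G} (h : Reach S 𝒩 A g) (he : ∀ a ∈ A, g * a * g⁻¹ = g' * a * g'⁻¹) :
    Reach S 𝒩 A g' := by
  obtain ⟨k, hk, hke⟩ := h
  exact ⟨k, hk, fun a ha => (hke a ha).trans (he a ha)⟩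

theorem FChain.mono {A : Subgroup G} {g : G} (h : FChain S 𝒩 A g) :
    ∀ {B : Subgroup G}, B ≤ A → FChain S 𝒩 B g := by
  induction h with
  | one hA => intro B hB; exact FChain.one (hB.trans hA)
  | step hN hx hA _ ih => intro B hB; exact FChain.step hN hx (hB.trans hA) (ih (cj_mono _ hB))

theorem Reach.mono {A B : Subgroup G} {g : G} (h : Reach S 𝒩 A g) (hB : B ≤ A) : Reach S 𝒩 B g := by
  obtain ⟨k, hk, hke⟩ := h
  exact ⟨k, hk.mono hB, fun b hb => hke b (hB hb)⟩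

/-- Replace every step by a chain. -/
theorem FChain.refine {S' : Subgroup G} {𝒩' : Set (Subgroup G)} (hS : S ≤ S')
    (h : ∀ N ∈ 𝒩, ∀ A ≤ S, ∀ x ∈ N, cj x A ≤ S → Reach S' 𝒩' A x) {A : Subgroup G} {g : G}
    (hc : FChain S 𝒩 A g) : Reach S' 𝒩' A g := by
  induction hc with
  | one hA => exact Reach.refl (hA.trans hS) fun a _ => by group
  | step hN hx hA hc ih => exact (h _ hN _ hA _ hx hc.left_le).trans ih

theorem Reach.refine {S' : Subgroup G} {𝒩' : Set (Subgroup G)} (hS : S ≤ S')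
    (h : ∀ N ∈ 𝒩, ∀ A ≤ S, ∀ x ∈ N, cj x A ≤ S → Reach S' 𝒩' A x) {A : Subgroup G} {g : G}
    (hr : Reach S 𝒩 A g) : Reach S' 𝒩' A g := by
  obtain ⟨k, hk, hke⟩ := hr
  exact (hk.refine hS h).congr hke

theorem Reach.mono_family {𝒩' : Set (Subgroup G)} (h : ∀ N ∈ 𝒩, ∃ N' ∈ 𝒩', N ≤ N') {A : Subgroup G} {g : G}
    (hr : Reach S 𝒩 A g) : Reach S 𝒩' A g :=
  hr.refine le_rfl fun N hN _ hA _ hx hxA => by
    obtain ⟨N', hN', hle⟩ := h N hN
    exact Reach.single hN' (hle hx) hA hxA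

/-- Images under a homomorphism injective everywhere. -/
theorem Reach.map {H : Type*} [Group H] (f : G →* H) {A : Subgroup G} {g : G} (hr : Reach S 𝒩 A g) :
    Reach (S.map f) ((fun N => N.map f) '' 𝒩) (A.map f) (f g) := by
  obtain ⟨k, hk, hke⟩ := hr
  refine ⟨f k, ?_, ?_⟩
  · clear hke
    induction hk with
    | one hA => rw [map_one]; exact FChain.one (Subgroup.map_mono hA)
    | @step A N x g hN hx hA _ ih =>
      rw [map_mul]
      exact FChain.step ⟨_, hN, rfl⟩ ⟨x, hx, rfl⟩ (Subgroup.map_mono hA) (by rwa [← map_cj])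
  · rintro _ ⟨a, ha, rfl⟩
    rw [← map_inv, ← map_inv, ← map_mul, ← map_mul, hke a ha, map_mul, map_mul]

end

section

variable {G : Type*} [Group G] [Finite G] {p : ℕ} [hp : Fact p.Prime]

/-- The controlling normalizers of a family at `S` inside `H`. -/
def famN (𝓦 : Set (Subgroup G → Subgroup G)) (S H : Subgroup G) : Set (Subgroup G) :=
  (fun W => H ⊓ Subgroup.normalizer (W S : Set G)) '' 𝓦

/-- Fusion in `H` is controlled by the family. -/
def FamF (𝓦 : Set (Subgroup G → Subgroup G)) (S H : Subgroup G) : Prop :=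
  ∀ B ≤ S, ∀ g ∈ H, cj g B ≤ S → Reach S (famN 𝓦 S H) B g

/-- Local control by a family gives global control. -/
theorem famF_global {H S : Subgroup G} (h : Syl p S H) (𝓦 : Set (Subgroup G → Subgroup G))
    (h𝓦 : ∀ W ∈ 𝓦, IsConjugacyFunctor p W)
    (hloc : ∀ T ≤ S, T ≠ ⊥ → Ext p H S T →
      FamF 𝓦 (S ⊓ Subgroup.normalizer (T : Set G)) (H ⊓ Subgroup.normalizer (T : Set G))) :
    FamF 𝓦 S H := by
  let 𝓕 : Set (Subgroup G) := {T | T ≤ S ∧ Ext p H S T}
  have hch : ∀ A g, g ∈ H → A ≤ S → cj g A ≤ S → Chain H 𝓕 A g :=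
    chain_of_family h (fun U hU => hU.1) fun T hT => by
      obtain ⟨x, hx, hxT, hxe, -⟩ := exists_extremal h hT
      exact ⟨_, ⟨hxT, hxe⟩, ⟨x, hx, rfl⟩, hxe⟩
  suffices key : ∀ (n : ℕ) (T : Subgroup G), Nat.card S - Nat.card ↥(S ⊓ Subgroup.normalizer (T : Set G)) = n →
      T ∈ 𝓕 → T ≠ ⊥ → ∀ B ≤ S ⊓ Subgroup.normalizer (T : Set G), ∀ x ∈ H ⊓ Subgroup.normalizer (T : Set G),
      cj x B ≤ S ⊓ Subgroup.normalizer (T : Set G) → Reach S (famN 𝓦 S H) B x by
    intro B hB g hg hgB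
    have hc := hch B g hg hB hgB
    clear hg hgB
    induction hc with
    | one A => exact Reach.refl hB fun a _ => by group
    | @step A T x g hT hx hA hc ih =>
      have hxA : cj x A ≤ S := (cj_mono x hA).trans ((mem_normalizer_iff_cj.1 hx.2).le.trans hT.1)
      refine Reach.trans ?_ (ih hxA)
      by_cases hT0 : T = ⊥
      · refine Reach.refl hB fun a ha => ?_
        rw [show a = 1 from Subgroup.mem_bot.1 (hT0 ▸ hA ha)]
        simp
      refine key _ T rfl hT hT0 A (le_inf hB (hA.trans Subgroup.le_normalizer)) x hx ?_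
      exact le_inf hxA ((cj_mono x hA).trans ((mem_normalizer_iff_cj.1 hx.2).le.trans Subgroup.le_normalizer))
  intro n
  induction n using Nat.strong_induction_on with
  | _ n ih =>
  intro T hn hT hT0 B₀ hB₀ x₀ hx₀ hx₀B
  set Q := S ⊓ Subgroup.normalizer (T : Set G) with hQ
  have hQp : IsPGroup p Q := h.pg.to_le inf_le_left
  refine (hloc T hT.1 hT0 hT.2 B₀ hB₀ x₀ hx₀ hx₀B).refine inf_le_left ?_
  rintro _ ⟨W, hW, rfl⟩ B hB y hy hyB
  by_cases hQS : Q = S
  · exact Reach.single ⟨W, hW, rfl⟩ ⟨hy.1.1, hQS ▸ hy.2⟩ (hB.trans inf_le_left) (hyB.trans inf_le_left)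
  have hQ0 : Q ≠ ⊥ := fun hb => hT0 (eq_bot_iff.2 ((le_inf hT.1 Subgroup.le_normalizer).trans hb.le))
  have hbig : ∀ B : Subgroup G, B ≤ S → Nat.card Q ≤ Nat.card B →
      Nat.card Q < Nat.card ↥(S ⊓ Subgroup.normalizer (B : Set G)) := by
    intro B hB hc
    by_cases hBS : B = S
    · subst hBS
      rw [inf_eq_left.2 Subgroup.le_normalizer]
      exact lt_of_not_ge fun hge => hQS (Subgroup.eq_of_le_of_card_ge inf_le_left hge)
    refine hc.trans_lt (lt_of_not_ge fun hge => ?_)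
    haveI : Group.IsNilpotent ↥S := h.pg.isNilpotent
    have hlt : B.subgroupOf S < ⊤ := lt_top_iff_ne_top.2 fun he =>
      hBS (le_antisymm hB (Subgroup.subgroupOf_eq_top.1 he))
    obtain ⟨x, hx, hxB⟩ := SetLike.exists_of_lt (normalizerCondition_of_isNilpotent (B.subgroupOf S) hlt)
    refine hxB ?_
    show (x : G) ∈ B
    rw [Subgroup.eq_of_le_of_card_ge (le_inf hB Subgroup.le_normalizer) hge]
    refine ⟨x.2, Subgroup.mem_normalizer_iff.2 fun m => ⟨fun hm => ?_, fun hm => ?_⟩⟩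
    · exact (Subgroup.mem_normalizer_iff.1 hx ⟨m, hB hm⟩).1 hm
    · have hmS : m ∈ S := by
        have := S.mul_mem (S.mul_mem (S.inv_mem x.2) (hB hm)) x.2
        simpa [mul_assoc] using this
      exact (Subgroup.mem_normalizer_iff.1 hx ⟨m, hmS⟩).2 hm
  obtain ⟨g, hg, hgT, hge, hgN⟩ := exists_extremal h (((h𝓦 W hW) Q hQp).1.trans inf_le_left : W Q ≤ S)
  have hQW : Q ≤ S ⊓ Subgroup.normalizer (W Q : Set G) :=
    le_inf inf_le_left (Subgroup.le_normalizer.trans (functor_normalizer (h𝓦 W hW) hQp))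
  have hgQ : cj g Q ≤ S := (cj_mono g hQW).trans (hgN.trans inf_le_left)
  have h2 : ∀ A w, Chain H 𝓕 A w → Nat.card Q ≤ Nat.card A → A ≤ S → Reach S (famN 𝓦 S H) A w := by
    intro A w hc
    induction hc with
    | one A => intro _ hAS; exact Reach.refl hAS fun a _ => by group
    | @step A U z w hU hz hAU _ ih2 =>
      intro hcA hAS
      have hA' : cj z A ≤ S := (cj_mono z hAU).trans ((mem_normalizer_iff_cj.1 hz.2).le.trans hU.1)
      refine Reach.trans ?_ (ih2 ((card_cj z A).symm ▸ hcA) hA')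
      by_cases hU0 : U = ⊥
      · refine Reach.refl hAS fun a ha => ?_
        rw [show a = 1 from Subgroup.mem_bot.1 (hU0 ▸ hAU ha)]
        simp
      refine ih _ ?_ U rfl hU hU0 A (le_inf hAS (hAU.trans Subgroup.le_normalizer)) z hz
        (le_inf hA' ((cj_mono z hAU).trans ((mem_normalizer_iff_cj.1 hz.2).le.trans Subgroup.le_normalizer)))
      have a1 := hbig U hU.1 (hcA.trans (Subgroup.card_le_of_le hAU))
      have a3 := Subgroup.card_le_of_le (inf_le_left : S ⊓ Subgroup.normalizer (U : Set G) ≤ S)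
      omega
  have r1 : Reach S (famN 𝓦 S H) Q g := h2 Q g (hch Q g hg inf_le_left hgQ) le_rfl inf_le_left
  have r3 : Reach S (famN 𝓦 S H) (cj g Q) g⁻¹ :=
    h2 _ _ (hch _ _ (H.inv_mem hg) hgQ (by rw [cj_inv_cj]; exact inf_le_left)) (card_cj g Q).ge hgQ
  set U := cj g (W Q) with hU
  have hgy : g * y * g⁻¹ ∈ H ⊓ Subgroup.normalizer (U : Set G) := by
    refine ⟨H.mul_mem (H.mul_mem hg hy.1.1) (H.inv_mem hg), mem_normalizer_iff_cj.2 ?_⟩
    rw [hU, cj_mul, cj_mul, cj_inv_cj, mem_normalizer_iff_cj.1 hy.2]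
  have hQU : cj g Q ≤ S ⊓ Subgroup.normalizer (U : Set G) := (cj_mono g hQW).trans hgN
  have him : cj (g * y * g⁻¹) (cj g B) = cj g (cj y B) := by rw [← cj_mul, ← cj_mul]; congr 1; group
  have r2 : Reach S (famN 𝓦 S H) (cj g B) (g * y * g⁻¹) := by
    refine ih _ ?_ U rfl ⟨hgT, hge⟩ (fun hb => ((h𝓦 W hW) Q hQp).2.1 hQ0 ?_) (cj g B) ((cj_mono g hB).trans hQU)
      _ hgy (him.le.trans ((cj_mono g hyB).trans hQU))
    · have a1 : Nat.card Q < Nat.card ↥(S ⊓ Subgroup.normalizer (Q : Set G)) := hbig Q inf_le_left le_rfl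
      have a2 : Nat.card ↥(S ⊓ Subgroup.normalizer (Q : Set G)) ≤
          Nat.card ↥(S ⊓ Subgroup.normalizer (U : Set G)) := by
        rw [← card_cj g (S ⊓ Subgroup.normalizer (Q : Set G))]
        exact Subgroup.card_le_of_le ((cj_mono g (inf_le_inf_left _
          (functor_normalizer (h𝓦 W hW) hQp))).trans hgN)
      have a3 := Subgroup.card_le_of_le (inf_le_left : S ⊓ Subgroup.normalizer (U : Set G) ≤ S)
      omega
    · rw [← cj_inv_cj g (W Q), ← hU, hb]
      exact Subgroup.map_bot _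
  have r12 := (r1.mono hB).trans r2
  have r := r12.trans ((r3.mono (B := cj (g * y * g⁻¹ * g) B) (by
    rw [show g * y * g⁻¹ * g = g * y by group, cj_mul]; exact cj_mono g hyB)))
  rwa [show g⁻¹ * (g * y * g⁻¹ * g) = y by group] at r

/-- From the definition. -/
theorem famF_of_def {H S : Subgroup G} (h : Syl p S H) (𝓦 : Set (Subgroup G → Subgroup G))
    (h𝓦 : ∀ W ∈ 𝓦, IsConjugacyFunctor p W) (hc : FamilyControlsStrongFusionIn p 𝓦 H) : FamF 𝓦 S H := by
  obtain ⟨T, hT, hTp, hTi, hf⟩ := hc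
  have hTs : Syl p T H := ⟨hT, hTp, hTi⟩
  have hFT : FamF 𝓦 T H := by
    intro B hB g hg hgB
    obtain ⟨n, c, hc0, hstep, hin, hlast⟩ := hf (B : Set G) g hg hB (by
      rintro _ ⟨b, hb, rfl⟩; exact hgB (conj_mem_cj hb))
    have key : ∀ i : Fin (n + 1), Reach T (famN 𝓦 T H) B (c i) := by
      intro i
      induction i using Fin.induction with
      | zero => rw [hc0]; exact Reach.refl hB fun b _ => by group
      | succ i ih =>
        obtain ⟨W, hW, hmem⟩ := hstep i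
        have h1 := ih.trans (Reach.single (A := cj (c i.castSucc) B) ⟨W, hW, rfl⟩ hmem ih.image_le (by
          rw [← cj_mul, inv_mul_cancel_right]
          rintro _ ⟨b, hb, rfl⟩
          exact hin i.succ ⟨b, hb, rfl⟩))
        rwa [inv_mul_cancel_right] at h1
    exact (key (Fin.last n)).congr hlast
  obtain ⟨y, hy, hyS⟩ := hTs.exists_conj_le h.le h.pg
  have hyT : cj y S = T := Subgroup.eq_of_le_of_card_ge hyS (by rw [card_cj, h.card, hTs.card])
  have hST : cj y⁻¹ T = S := by rw [← hyT, cj_inv_cj]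
  intro B hB g hg hgB
  have h1 := hFT (cj y B) (hyT ▸ cj_mono y hB) (y * g * y⁻¹) (H.mul_mem (H.mul_mem hy hg) (H.inv_mem hy)) (by
    rw [← cj_mul, show y * g * y⁻¹ * y = y * g by group, cj_mul, ← hyT]
    exact cj_mono y hgB)
  have h2 := h1.map (MulAut.conj y⁻¹).toMonoidHom
  have e1 : T.map (MulAut.conj y⁻¹).toMonoidHom = S := hST
  have e2 : (cj y B).map (MulAut.conj y⁻¹).toMonoidHom = B := cj_inv_cj y B
  have e3 : (MulAut.conj y⁻¹).toMonoidHom (y * g * y⁻¹) = g := by simp [mul_assoc]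
  rw [e1, e2, e3] at h2
  refine h2.mono_family ?_
  rintro _ ⟨_, ⟨W, hW, rfl⟩, rfl⟩
  refine ⟨_, ⟨W, hW, rfl⟩, le_of_eq ?_⟩
  show cj y⁻¹ (H ⊓ Subgroup.normalizer (W T : Set G)) = H ⊓ Subgroup.normalizer (W S : Set G)
  rw [cj_inf, cj_eq_of_mem (H.inv_mem hy), cj_normalizer,
    show cj y⁻¹ (W T) = W S from hST ▸ ((h𝓦 W hW T hTp).2.2 y⁻¹).symm]

/-- To the definition. -/
theorem def_of_famF {H S : Subgroup G} (h : Syl p S H) (𝓦 : Set (Subgroup G → Subgroup G)) (hf : FamF 𝓦 S H) :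
    FamilyControlsStrongFusionIn p 𝓦 H := by
  refine ⟨S, h.le, h.pg, h.idx, fun A g hg hA hgA => ?_⟩
  have hB : Subgroup.closure A ≤ S := (Subgroup.closure_le S).2 hA
  obtain ⟨k, hk, hke⟩ := hf _ hB g hg (by
    rw [cj, MonoidHom.map_closure, Subgroup.closure_le]; exact hgA)
  suffices key : ∀ (B : Subgroup G) (k : G), FChain S (famN 𝓦 S H) B k →
      ∃ (n : ℕ) (c : Fin (n + 1) → G), c 0 = 1 ∧
        (∀ i : Fin n, ∃ W ∈ 𝓦,
          c i.succ * (c i.castSucc)⁻¹ ∈ H ⊓ Subgroup.normalizer ((W S : Subgroup G) : Set G)) ∧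
        (∀ i : Fin (n + 1), cj (c i) B ≤ S) ∧ c (Fin.last n) = k by
    obtain ⟨n, c, hc0, hstep, hin, hlast⟩ := key _ k hk
    refine ⟨n, c, hc0, hstep, fun i => ?_, fun a ha => ?_⟩
    · rintro _ ⟨a, ha, rfl⟩
      exact hin i (conj_mem_cj (Subgroup.subset_closure ha))
    · rw [hlast]; exact hke a (Subgroup.subset_closure ha)
  intro B k hk
  induction hk with
  | one hA =>
    refine ⟨0, fun _ => 1, rfl, fun i => i.elim0, fun _ => ?_, rfl⟩
    rwa [cj_one]
  | @step A N x g hN hx hA _ ih =>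
    obtain ⟨W, hW, rfl⟩ := hN
    obtain ⟨n, c, hc0, hstep, hin, hlast⟩ := ih
    refine ⟨n + 1, Fin.cons 1 (fun i => c i * x), rfl, fun i => ?_, fun i => ?_, ?_⟩
    · refine Fin.cases ?_ ?_ i
      · refine ⟨W, hW, ?_⟩
        simpa [hc0] using hx
      · intro j
        obtain ⟨W', hW', hmem⟩ := hstep j
        refine ⟨W', hW', ?_⟩
        simpa [mul_assoc, ← Fin.succ_castSucc] using hmem
    · refine Fin.cases ?_ ?_ i
      · simp only [Fin.cons_zero]; rwa [cj_one]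
      · intro j
        simp only [Fin.cons_succ]
        rw [cj_mul]; exact hin j
    · rw [← Fin.succ_last, Fin.cons_succ, hlast]

end

end CfsgLib.Glau
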