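import Cfsg.Agent.Fus.FusionChain
import Cfsg.Agent.Fus.HitTransfer
import Cfsg.Agent.Fus.CoreBasic

/-!
A family of functors controlling strong fusion in every constrained section controls it in every section.
-/

set_option autoImplicit false
set_option linter.style.haveILetI false

open Cfsg
open scoped commutatorElement

namespace CfsgLib.Glau

universe u

section

variable {G : Type*} [Group G] {S : Subgroup G} {𝒩 : Set (Subgroup G)}

theorem Reach.symm {A : Subgroup G} {g : G} (h : Reach S 𝒩 A g) : Reach S 𝒩 (cj g A) g⁻¹ := by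
  obtain ⟨k, hk, hke⟩ := h
  rw [← cj_congr hke]
  have h1 : Reach S 𝒩 (cj k A) k⁻¹ := by
    clear hke
    induction hk with
    | one hA => rw [inv_one, cj_one]; exact Reach.refl hA fun a _ => by group
    | @step A N x g hN hx hA hc ih =>
      rw [mul_inv_rev, cj_mul]
      refine ih.trans (Reach.single hN (inv_mem hx) ?_ ?_)
      · rw [cj_inv_cj]; exact hc.left_le
      · rw [cj_inv_cj, cj_inv_cj]; exact hA
  refine h1.congr ?_
  rintro _ ⟨a, ha, rfl⟩
  show k⁻¹ * (k * a * k⁻¹) * k⁻¹⁻¹ = g⁻¹ * (k * a * k⁻¹) * g⁻¹⁻¹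
  rw [show k⁻¹ * (k * a * k⁻¹) * k⁻¹⁻¹ = a by group, hke a ha]
  group

/-- Lift a chain along a homomorphism, step by step. -/
theorem FChain.lift {H : Type*} [Group H] (f : G →* H) {S' : Subgroup H} {𝒩' : Set (Subgroup H)}
    (h : ∀ N' ∈ 𝒩', ∀ A ≤ S, ∀ x ∈ N', cj x (A.map f) ≤ S' → ∃ N ∈ 𝒩, ∃ y ∈ N, f y = x ∧ cj y A ≤ S)
    {A' : Subgroup H} {g' : H} (hc : FChain S' 𝒩' A' g') :
    ∀ A : Subgroup G, A ≤ S → A.map f = A' → ∃ k, FChain S 𝒩 A k ∧ f k = g' := by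
  induction hc with
  | one _ => exact fun A hA _ => ⟨1, FChain.one hA, map_one f⟩
  | @step A' N' x g' hN hx _ hc ih =>
    intro A hA hAe
    obtain ⟨N, hN', y, hy, hyx, hyA⟩ := h N' hN A hA x hx (hAe.symm ▸ hc.left_le)
    obtain ⟨k, hk, hke⟩ := ih (cj y A) hyA (by rw [map_cj, hyx, hAe])
    exact ⟨k * y, FChain.step hN' hy hA hk, by rw [map_mul, hke, hyx]⟩

variable [Finite G] {p : ℕ} [hp : Fact p.Prime]

/-- The correction inside a Sylow subgroup of an agreement modulo a normal `p`-subgroup. -/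
theorem exists_correction {S P B : Subgroup G} [P.Normal] (hS : Syl p S ⊤)
    (hcent : ∀ x : G, (orderOf x).Coprime p → x ∈ Subgroup.centralizer (P : Set G))
    {w x : G} (hPB : P ≤ B) (hwS : cj w B ≤ S) (he : Ext p ⊤ S (cj w B))
    (hxe : ∀ b ∈ B, QuotientGroup.mk' P (x * b * x⁻¹) = QuotientGroup.mk' P (w * b * w⁻¹)) :
    ∃ s ∈ S, ∀ b ∈ B, s⁻¹ * x * b * (s⁻¹ * x)⁻¹ = w * b * w⁻¹ := by
  let π := QuotientGroup.mk' P
  set A := cj w B with hA
  have hPA : P ≤ A := (mem_normalizer_iff_cj.1 (by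
    rw [Subgroup.normalizer_eq_top_iff.2 (inferInstance : P.Normal)]; trivial : w ∈ _)).ge.trans (cj_mono w hPB)
  let D : Subgroup G :=
    { carrier := {y | y ∈ Subgroup.normalizer (A : Set G) ∧ ∀ a ∈ A, π (y * a * y⁻¹) = π a}
      one_mem' := ⟨one_mem _, fun a _ => by simp⟩
      mul_mem' := fun {y z} hy hz => ⟨mul_mem hy.1 hz.1, fun a ha => by
        rw [show y * z * a * (y * z)⁻¹ = y * (z * a * z⁻¹) * y⁻¹ by group,
          hy.2 _ ((Subgroup.mem_normalizer_iff.1 hz.1 a).1 ha), hz.2 a ha]⟩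
      inv_mem' := fun {y} hy => ⟨inv_mem hy.1, fun a ha => by
        have h1 := hy.2 _ ((Subgroup.mem_normalizer_iff.1 (inv_mem hy.1) a).1 ha)
        rw [show y * (y⁻¹ * a * y⁻¹⁻¹) * y⁻¹ = a by group] at h1
        exact h1.symm⟩ }
  have hDN : D ≤ ⊤ ⊓ Subgroup.normalizer (A : Set G) := fun y hy => ⟨trivial, hy.1⟩
  have hDn : ⊤ ⊓ Subgroup.normalizer (A : Set G) ≤ Subgroup.normalizer (D : Set G) := by
    intro m hm
    have key : ∀ m ∈ Subgroup.normalizer (A : Set G), ∀ y ∈ D, m * y * m⁻¹ ∈ D := fun m hm y hy =>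
      ⟨mul_mem (mul_mem hm hy.1) (inv_mem hm), fun a ha => by
        have ha' : m⁻¹ * a * m ∈ A := (Subgroup.mem_normalizer_iff''.1 hm a).1 ha
        rw [show m * y * m⁻¹ * a * (m * y * m⁻¹)⁻¹ = m * (y * (m⁻¹ * a * m) * y⁻¹) * m⁻¹ by group, map_mul,
          map_mul, hy.2 _ ha', ← map_mul, ← map_mul, show m * (m⁻¹ * a * m) * m⁻¹ = a by group]⟩
    exact Subgroup.mem_normalizer_iff.2 fun y => ⟨key m hm.2 y, fun h' => by
      simpa [mul_assoc] using key m⁻¹ (inv_mem hm.2) _ h'⟩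
  have hSD : Syl p (S ⊓ Subgroup.normalizer (A : Set G) ⊓ D) D := by
    have h1 := (he.syl hS).inf_normal hDn
    rwa [inf_eq_right.2 hDN] at h1
  let f : ↥D →* MulAut ↥A := (Subgroup.normalizerMonoidHom A).comp (Subgroup.inclusion fun y hy => hy.1)
  have hf : ∀ (y : ↥D) (a : ↥A), ((f y a : ↥A) : G) = y * a * (y : G)⁻¹ := fun y a => rfl
  have hAp : IsPGroup p A := hS.pg.to_le hwS
  have hrp : IsPGroup p ↥((⊤ : Subgroup ↥D).map f) := by
    rintro ⟨_, y, -, rfl⟩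
    refine ⟨(orderOf (y : G)).factorization p, Subtype.ext ?_⟩
    show f y ^ _ = 1
    rw [← map_pow]
    refine MulEquiv.ext fun a => Subtype.ext ?_
    rw [hf, MulAut.one_apply, mul_inv_eq_iff_eq_mul]
    set z := ((y ^ p ^ (orderOf (y : G)).factorization p : ↥D) : G) with hz
    have hzc : (orderOf z).Coprime p := by
      rw [hz, SubmonoidClass.coe_pow, orderOf_pow_of_dvd (pow_ne_zero _ hp.out.ne_zero) (Nat.ordProj_dvd _ _)]
      exact (Nat.coprime_ordCompl hp.out (orderOf_pos _).ne').symm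
    have hzD : z ∈ D := (y ^ p ^ _ : ↥D).2
    refine ((CfsgLib.Inv.kill_of_nilpotent hAp hzc hzD.1 (n := 2) (eq_bot_iff.2 ?_)) (a : G) a.2).symm
    show ⁅⁅A, Subgroup.zpowers z⁆, Subgroup.zpowers z⁆ ≤ ⊥
    refine (Subgroup.commutator_mono (K₁ := P) (Subgroup.commutator_le.2 fun c hc q hq =>
      (QuotientGroup.eq_one_iff _).1 ?_) le_rfl).trans
      (Subgroup.commutator_eq_bot_iff_le_centralizer.2 fun v hv q hq => ?_).le
    · obtain ⟨j, rfl⟩ := Subgroup.mem_zpowers_iff.1 hq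
      show π ⁅c, z ^ j⁆ = 1
      rw [map_commutatorElement, map_zpow]
      refine commutatorElement_eq_one_iff_commute.2 (Commute.zpow_left ?_ j).symm
      exact mul_inv_eq_iff_eq_mul.1 (by rw [← map_inv, ← map_mul, ← map_mul]; exact hzD.2 c hc)
    · obtain ⟨j, rfl⟩ := Subgroup.mem_zpowers_iff.1 hq
      exact ((show Commute z v from (hcent z hzc v hv).symm).zpow_left j).eq
  have htop := ((hSD.subgroupOf).map f).eq_of_le (Subgroup.map_mono le_top) le_rfl hrp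
  have hyD : x * w⁻¹ ∈ D := by
    have key : ∀ a ∈ A, π (x * w⁻¹ * a * (x * w⁻¹)⁻¹) = π a := by
      rintro _ ⟨b, hb, rfl⟩
      show π (x * w⁻¹ * (w * b * w⁻¹) * (x * w⁻¹)⁻¹) = π (w * b * w⁻¹)
      rw [show x * w⁻¹ * (w * b * w⁻¹) * (x * w⁻¹)⁻¹ = x * b * x⁻¹ by group]
      exact hxe b hb
    refine ⟨mem_normalizer_iff_cj.2 (Subgroup.eq_of_le_of_card_ge ?_ (card_cj _ A).ge), key⟩
    rintro _ ⟨a, ha, rfl⟩
    show x * w⁻¹ * a * (x * w⁻¹)⁻¹ ∈ A
    have h2 : a⁻¹ * (x * w⁻¹ * a * (x * w⁻¹)⁻¹) ∈ P := QuotientGroup.eq.1 (key a ha).symm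
    have h3 := A.mul_mem ha (hPA h2)
    rwa [mul_inv_cancel_left] at h3
  obtain ⟨s, hs, hsf⟩ : f ⟨_, hyD⟩ ∈ ((S ⊓ Subgroup.normalizer (A : Set G) ⊓ D).subgroupOf D).map f :=
    htop.symm ▸ (⟨_, trivial, rfl⟩ : f ⟨_, hyD⟩ ∈ (⊤ : Subgroup ↥D).map f)
  refine ⟨s, hs.1.1, fun b hb => ?_⟩
  have h4 : (s : G) * (w * b * w⁻¹) * (s : G)⁻¹ = x * w⁻¹ * (w * b * w⁻¹) * (x * w⁻¹)⁻¹ :=
    congrArg (fun φ : MulAut ↥A => ((φ ⟨_, conj_mem_cj (g := w) hb⟩ : ↥A) : G)) hsf
  rw [show (s : G)⁻¹ * x * b * ((s : G)⁻¹ * x)⁻¹ =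
    (s : G)⁻¹ * (x * w⁻¹ * (w * b * w⁻¹) * (x * w⁻¹)⁻¹) * s by group, ← h4]
  group

/-- When the elements of order prime to `p` centralize `P`, chains modulo `P` lift up to an element of `S`. -/
theorem reach_of_pquotient {S P : Subgroup G} [P.Normal] (hS : Syl p S ⊤) (hPS : P ≤ S)
    (hcent : ∀ x : G, (orderOf x).Coprime p → x ∈ Subgroup.centralizer (P : Set G))
    {𝒩 : Set (Subgroup G)} (hne : 𝒩.Nonempty) (hS𝒩 : ∀ N ∈ 𝒩, S ≤ N)
    (h : ∀ C ≤ S, ∀ g, cj g C ≤ S →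
      Reach (S.map (QuotientGroup.mk' P)) ((fun N => N.map (QuotientGroup.mk' P)) '' 𝒩) (C.map (QuotientGroup.mk' P))
        (QuotientGroup.mk' P g))
    {B : Subgroup G} (hB : B ≤ S) {g : G} (hgB : cj g B ≤ S) : Reach S 𝒩 B g := by
  let π := QuotientGroup.mk' P
  have main : ∀ (C : Subgroup G) (w : G), P ≤ C → C ≤ S → cj w C ≤ S → Ext p ⊤ S (cj w C) → Reach S 𝒩 C w := by
    intro C w hPC hC hwS he
    obtain ⟨k', hk', hke⟩ := h C hC w hwS
    obtain ⟨k, hk, hkk⟩ := FChain.lift (S := S) (𝒩 := 𝒩) π (by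
      rintro _ ⟨N, hN, rfl⟩ A _ _ ⟨y, hy, rfl⟩ hyA
      refine ⟨N, hN, y, hy, rfl, ?_⟩
      rw [← map_cj, Subgroup.map_le_iff_le_comap, Subgroup.comap_map_eq, QuotientGroup.ker_mk'] at hyA
      exact hyA.trans (sup_le le_rfl hPS)) hk' C hC rfl
    obtain ⟨s, hs, hse⟩ := exists_correction hS hcent hPC hwS he (x := k) fun b hb => by
      show π (k * b * k⁻¹) = π (w * b * w⁻¹)
      rw [map_mul, map_mul, map_inv, hkk, hke _ ⟨b, hb, rfl⟩, map_mul, map_mul, map_inv]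
    obtain ⟨N, hN⟩ := hne
    refine Reach.congr (Reach.trans ⟨k, hk, fun _ _ => rfl⟩ (Reach.single hN (inv_mem (hS𝒩 N hN hs)) hk.image_le ?_))
      hse
    exact (cj_mono _ hk.image_le).trans (cj_eq_of_mem (inv_mem hs)).le
  set C := B ⊔ P with hC
  have hCS : C ≤ S := sup_le hB hPS
  have hPg : cj g P = P := mem_normalizer_iff_cj.1 (by
    rw [Subgroup.normalizer_eq_top_iff.2 (inferInstance : P.Normal)]; trivial)
  have hgC : cj g C ≤ S := by
    rw [hC, cj, Subgroup.map_sup]; exact sup_le hgB (hPg.le.trans hPS)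
  obtain ⟨w, -, hw, hwe, -⟩ := exists_extremal hS hCS
  have r1 := main C w le_sup_right hCS hw hwe
  have r2 := main (cj g C) (w * g⁻¹) (hPg.ge.trans (cj_mono g le_sup_right)) hgC
    (by rw [cj_mul, cj_inv_cj]; exact hw) (by rw [cj_mul, cj_inv_cj]; exact hwe)
  have r3 := r2.symm
  rw [← cj_mul, inv_mul_cancel_right] at r3
  have r := (r1.trans r3).mono (le_sup_left : B ≤ C)
  rwa [show (w * g⁻¹)⁻¹ * w = g by group] at r

end

section

variable {p : ℕ} [hp : Fact p.Prime]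

theorem FamF.of_hom {A B : Type u} [Group A] [Group B] [Finite A] [Finite B]
    {𝓦 : Set (∀ (Q : Type u) [Group Q], Subgroup Q)} (h𝓦 : ∀ W ∈ 𝓦, IsCharPFunctor.{u} p W) {f : A →* B}
    (hf : Function.Injective f) {S H : Subgroup A} (hS : IsPGroup p ↥S)
    (h : FamF ((fun W => inducedFunctor (G := A) W) '' 𝓦) S H) :
    FamF ((fun W => inducedFunctor (G := B) W) '' 𝓦) (S.map f) (H.map f) := by
  rintro X hX _ ⟨g, hg, rfl⟩ hgX
  have hXe : (X.comap f).map f = X := Subgroup.map_comap_eq_self (hX.trans (Subgroup.map_le_range f S))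
  have h0 : X.comap f ≤ S := by
    rw [← Subgroup.map_le_map_iff_of_injective hf, hXe]; exact hX
  have h1 : cj g (X.comap f) ≤ S := by
    rw [← Subgroup.map_le_map_iff_of_injective hf, map_cj, hXe]; exact hgX
  have h2 := (h _ h0 g hg h1).map f
  rw [hXe] at h2
  refine h2.mono_family ?_
  rintro _ ⟨_, ⟨_, ⟨W, hW, rfl⟩, rfl⟩, rfl⟩
  exact ⟨_, ⟨_, ⟨W, hW, rfl⟩, rfl⟩, le_of_eq (by
    show Subgroup.map f _ = H.map f ⊓ Subgroup.normalizer (inducedFunctor W (S.map f) : Set B)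
    rw [ind_map (h𝓦 W hW) f hS hf.injOn, map_inf_normalizer hf])⟩

theorem FamF.of_subtype {Γ : Type u} [Group Γ] [Finite Γ] {𝓦 : Set (∀ (Q : Type u) [Group Q], Subgroup Q)}
    (h𝓦 : ∀ W ∈ 𝓦, IsCharPFunctor.{u} p W) {H T : Subgroup Γ} (hT : Syl p T H)
    (h : FamF ((fun W => inducedFunctor (G := ↥H) W) '' 𝓦) (T.subgroupOf H) ⊤) :
    FamF ((fun W => inducedFunctor (G := Γ) W) '' 𝓦) T H := by
  have h' := FamF.of_hom h𝓦 H.subtype_injective hT.pg.comap_subtype h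
  rwa [← MonoidHom.range_eq_map, H.range_subtype,
    show (T.comap H.subtype).map H.subtype = T from Subgroup.map_subgroupOf_eq_of_le hT.le] at h'

/-- A family controlling strong fusion in constrained sections controls it in all sections. -/
theorem family_fusion_of_core {G : Type u} [Group G] [Finite G]
    {𝓦 : Set (∀ (Q : Type u) [Group Q], Subgroup Q)} (h𝓦 : ∀ W ∈ 𝓦, IsCharPFunctor.{u} p W) (hne : 𝓦.Nonempty)
    (hcore : ∀ (Γ : Type u) [Group Γ] [Finite Γ], IsSec G Γ →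
      Subgroup.centralizer (pCore p Γ : Set Γ) ≤ pCore p Γ → ∀ S : Subgroup Γ, Syl p S ⊤ →
        FamF ((fun W => inducedFunctor (G := Γ) W) '' 𝓦) S ⊤) :
    ∀ (Γ : Type u) [Group Γ] [Finite Γ], IsSec G Γ → ∀ (H S : Subgroup Γ), Syl p S H →
      FamF ((fun W => inducedFunctor (G := Γ) W) '' 𝓦) S H := by
  suffices key : ∀ (n : ℕ) (Γ : Type u) [Group Γ] [Finite Γ], IsSec G Γ → Nat.card Γ = n →
      ∀ S : Subgroup Γ, Syl p S ⊤ → FamF ((fun W => inducedFunctor (G := Γ) W) '' 𝓦) S ⊤ by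
    intro Γ _ _ hsec H S hS
    exact FamF.of_subtype h𝓦 hS (key _ ↥H (hsec.subgroup H) rfl _ hS.subgroupOf)
  intro n
  induction n using Nat.strong_induction_on with
  | _ n ih =>
  intro Γ _ _ hsec hn S hS
  subst hn
  set 𝒲 := (fun W => inducedFunctor (G := Γ) W) '' 𝓦 with h𝒲
  have hWc : ∀ V ∈ 𝒲, IsConjugacyFunctor p V := by
    rintro _ ⟨W, hW, rfl⟩; exact KInf.inducedFunctor_conjugacy (h𝓦 W hW)
  have hsub : ∀ (H T : Subgroup Γ), H ≠ ⊤ → Syl p T H → FamF 𝒲 T H := fun H T hH hT =>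
    FamF.of_subtype h𝓦 hT (ih _ (CfsgLib.Solv.card_lt_of_ne_top hH) ↥H (hsec.subgroup H) rfl _ hT.subgroupOf)
  have hprop : ∀ H : Subgroup Γ, S ≤ H → H ≠ ⊤ → ∀ A ≤ S, ∀ x ∈ H, cj x A ≤ S →
      Reach S (famN 𝒲 S ⊤) A x := fun H hSH hH A hA x hx hxA =>
    (hsub H S hH (hS.mono hSH le_top) A hA x hx hxA).mono_family (by
      rintro _ ⟨V, hV, rfl⟩
      exact ⟨_, ⟨V, hV, rfl⟩, inf_le_inf_right _ le_top⟩)
  by_cases hK : pPrimeCore p Γ ≠ ⊥
  · haveI := CfsgLib.Solv.pPrimeCore_normal Γ p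
    set K := pPrimeCore p Γ with hKdef
    have hKc : ¬ p ∣ Nat.card K := CfsgLib.Solv.not_dvd_card_pPrimeCore
    let π := QuotientGroup.mk' K
    have hπ : Function.Surjective π := QuotientGroup.mk'_surjective K
    have hinj : Set.InjOn π (S : Set Γ) := fun x hx y hy he => by
      have : x⁻¹ * y ∈ S ⊓ K := ⟨S.mul_mem (S.inv_mem hx) hy, QuotientGroup.eq.1 he⟩
      rw [inf_eq_bot_of_card hS.pg hKc, Subgroup.mem_bot, inv_mul_eq_one] at this
      exact this
    have hSb := hS.map π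
    rw [Subgroup.map_top_of_surjective π hπ] at hSb
    have hb := ih _ (CfsgLib.Solv.card_quotient_lt hK) (Γ ⧸ K) (hsec.of_surjective hπ) rfl _ hSb
    intro B hB g _ hgB
    obtain ⟨k', hk', hke⟩ := hb (B.map π) (Subgroup.map_mono hB) (π g) trivial (by
      rw [← map_cj]; exact Subgroup.map_mono hgB)
    obtain ⟨k, hk, hkk⟩ := FChain.lift (S := S) (𝒩 := famN 𝒲 S ⊤) π (by
      rintro _ ⟨_, ⟨W, hW, rfl⟩, rfl⟩ A hA x hx hxA
      have hW' := KInf.inducedFunctor_conjugacy (G := Γ) (h𝓦 W hW)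
      set WS := inducedFunctor (G := Γ) W S with hWS
      set N := (⊤ : Subgroup Γ) ⊓ Subgroup.normalizer (WS : Set Γ) with hN
      have hWS' : WS ≤ S := (hW' S hS.pg).1
      have hSN : S ≤ N := le_inf le_top (Subgroup.le_normalizer.trans (functor_normalizer hW' hS.pg))
      have hN1 : Subgroup.normalizer (WS.map π : Set (Γ ⧸ K)) ≤ N.map π := by
        rw [← map_top_normalizer hπ, Subgroup.map_le_iff_le_comap, Subgroup.comap_map_eq, QuotientGroup.ker_mk']
        intro m hm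
        set X := WS ⊔ K with hX
        have hX' : (WS.map π).comap π = X := by rw [Subgroup.comap_map_eq, QuotientGroup.ker_mk']
        have hm' : cj m X = X := mem_normalizer_iff_cj.1 (hX' ▸ hm)
        obtain ⟨z, hz, hzle⟩ := (syl_sup (hS.pg.to_le hWS') hKc).exists_conj_le
          ((cj_mono m le_sup_left).trans hm'.le) (isPGroup_cj m (hS.pg.to_le hWS'))
        rw [← cj_mul] at hzle
        have h1 : z * m ∈ N := ⟨trivial, mem_normalizer_iff_cj.2
          (Subgroup.eq_of_le_of_card_ge hzle (card_cj (z * m) WS).ge)⟩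
        have h2 : z ∈ N ⊔ K := sup_le_sup_right (hWS'.trans hSN) K hz
        have := mul_mem (inv_mem h2) (Subgroup.mem_sup_left h1 (T := K))
        rw [inv_mul_cancel_left] at this
        rwa [Subgroup.comap_map_eq, QuotientGroup.ker_mk']
      have hx' : x ∈ N.map π := hN1 (by
        have := hx.2
        simp only at this
        change x ∈ Subgroup.normalizer (inducedFunctor (G := Γ ⧸ K) W (S.map π) : Set (Γ ⧸ K)) at this
        rwa [ind_map (h𝓦 W hW) π hS.pg hinj] at this)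
      obtain ⟨n, hn, rfl⟩ := hx'
      have hle : cj n A ≤ (S ⊔ K) ⊓ N := by
        refine le_inf ?_ ((cj_mono n (hA.trans hSN)).trans (cj_eq_of_mem hn).le)
        rw [← map_cj, Subgroup.map_le_iff_le_comap, Subgroup.comap_map_eq, QuotientGroup.ker_mk'] at hxA
        exact hxA
      obtain ⟨z, hz, hzle⟩ := ((syl_sup hS.pg hKc).mono (le_inf le_sup_left hSN) inf_le_left).exists_conj_le hle
        (isPGroup_cj n (hS.pg.to_le hA))
      obtain ⟨s, hs, c, hc, rfl⟩ := Subgroup.mem_sup_of_normal_right.1 hz.1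
      have hcN : c ∈ N := by
        have := N.mul_mem (N.inv_mem (hSN hs)) hz.2
        rwa [inv_mul_cancel_left] at this
      refine ⟨N, ⟨_, ⟨W, hW, rfl⟩, rfl⟩, c * n, N.mul_mem hcN hn, ?_, ?_⟩
      · rw [map_mul, show π c = 1 from (QuotientGroup.eq_one_iff c).2 hc, one_mul]
      · rw [cj_mul]
        have h3 : cj s⁻¹ (cj (s * c) (cj n A)) ≤ cj s⁻¹ S := cj_mono s⁻¹ hzle
        rwa [← cj_mul, inv_mul_cancel_left, cj_eq_of_mem (S.inv_mem hs)] at h3) hk' B hB rfl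
    refine ⟨k, hk, fun b hb => hinj (hk.image_le (conj_mem_cj hb)) (hgB (conj_mem_cj hb)) ?_⟩
    rw [map_mul, map_mul, map_inv, hkk, hke _ ⟨b, hb, rfl⟩, map_mul, map_mul, map_inv]
  rw [not_not] at hK
  haveI := CfsgLib.Solv.pCore_normal Γ p
  set P := pCore p Γ with hPdef
  have hPp : IsPGroup p ↥P := CfsgLib.Solv.pCore_isPGroup Γ p
  by_cases hP : P = ⊥
  · refine famF_global hS 𝒲 hWc fun T hT hT0 hTe => hsub _ _ (fun htop => hT0 ?_) (hTe.syl hS)
    rw [top_inf_eq, Subgroup.normalizer_eq_top_iff] at htop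
    exact eq_bot_iff.2 (hP ▸ CfsgLib.Solv.le_pCore (hN := htop) (hS.pg.to_le hT))
  have hPN : (⊤ : Subgroup Γ) ≤ Subgroup.normalizer (P : Set Γ) :=
    (Subgroup.normalizer_eq_top_iff.2 inferInstance).ge
  have hPS : P ≤ S := hS.normal_le le_top hPp hPN
  set C := Subgroup.centralizer (P : Set Γ) with hCdef
  haveI : C.Normal := Subgroup.normalizer_eq_top_iff.1 (eq_top_iff.2
    (hPN.trans (normalizer_le_centralizer_normalizer P)))
  by_cases hCP : C ≤ P
  · exact hcore Γ hsec hCP S hS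
  by_cases hM : C ⊔ S ≠ ⊤
  · set M := C ⊔ S with hMdef
    set R := S ⊓ (P ⊔ C) with hR
    have hRn : Subgroup.normalizer (R : Set Γ) ≠ ⊤ := by
      intro htop
      have hRP : R ≤ P := CfsgLib.Solv.le_pCore (hN := Subgroup.normalizer_eq_top_iff.1 htop)
        (hS.pg.to_le inf_le_left)
      have hRc : ∀ r ∈ S ⊓ C, ∀ c ∈ C, r * c = c * r := fun r hr c hc =>
        hc r (hRP ⟨hr.1, Subgroup.mem_sup_right hr.2⟩)
      exact hCP (CfsgLib.Glau.le_of_central_sylow hK hS hRc ((inf_le_inf_left S le_sup_right).trans hRP))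
    have hSR : S ≤ Subgroup.normalizer (R : Set Γ) := fun s hs => mem_normalizer_iff_cj.2 (by
      rw [hR, cj_inf, cj_eq_of_mem hs, mem_normalizer_iff_cj.1 (by
        rw [Subgroup.normalizer_eq_top_iff.2 inferInstance]; trivial : s ∈ Subgroup.normalizer ((P ⊔ C : Subgroup Γ) : Set Γ))])
    intro B hB g _ hgB
    obtain ⟨n, hn, k, hk, hg⟩ := frattini hS (N := P ⊔ C)
      (Subgroup.normalizer_eq_top_iff.2 inferInstance).ge (Subgroup.mem_top g)
    obtain ⟨v, hv, c, hc, rfl⟩ := Subgroup.mem_sup_of_normal_left.1 hn.2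
    set k' := v * k with hk'
    have hk'R : k' ∈ Subgroup.normalizer (R : Set Γ) := mul_mem (hSR (hPS hv)) hk.2
    set c' := k'⁻¹ * g with hc'
    have hc'C : c' ∈ C := by
      rw [hc', hg, hk', show (v * k)⁻¹ * (v * c * k) = k⁻¹ * c * k⁻¹⁻¹ by group]
      exact (inferInstance : C.Normal).conj_mem c hc k⁻¹
    have hB1 : cj c' B ≤ M ⊓ Subgroup.normalizer (R : Set Γ) := by
      refine le_inf ((cj_mono c' (hB.trans le_sup_right)).trans (cj_eq_of_mem (Subgroup.mem_sup_left hc'C)).le) ?_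
      rw [hc', cj_mul]
      exact (cj_mono _ (hgB.trans hSR)).trans (cj_eq_of_mem (inv_mem hk'R)).le
    obtain ⟨m, hm, hmle⟩ := (hS.mono (le_inf le_sup_right hSR) le_top).exists_conj_le hB1
      (isPGroup_cj c' (hS.pg.to_le hB))
    rw [← cj_mul] at hmle
    have r1 := hprop M le_sup_right hM B hB (m * c') (M.mul_mem hm.1 (Subgroup.mem_sup_left hc'C)) hmle
    have r2 := hprop _ hSR hRn (cj (m * c') B) hmle (k' * m⁻¹) (mul_mem hk'R (inv_mem hm.2)) (by
      rw [← cj_mul, show k' * m⁻¹ * (m * c') = g by rw [hc']; group]; exact hgB)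
    have r := r1.trans r2
    rwa [show k' * m⁻¹ * (m * c') = g by rw [hc']; group] at r
  rw [not_not] at hM
  have hcent : ∀ x : Γ, (orderOf x).Coprime p → x ∈ C := by
    intro x hx
    have hq : IsPGroup p (Γ ⧸ C) := by
      have h1 : (S.map (QuotientGroup.mk' C)) = ⊤ := by
        rw [← Subgroup.map_top_of_surjective _ (QuotientGroup.mk'_surjective C), ← hM, Subgroup.map_sup,
          (Subgroup.map_eq_bot_iff _).2 (QuotientGroup.ker_mk' C).ge, bot_sup_eq]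
      exact (h1 ▸ hS.pg.map _ : IsPGroup p (⊤ : Subgroup (Γ ⧸ C))).of_equiv Subgroup.topEquiv
    obtain ⟨k, hk⟩ := hq (x : Γ ⧸ C)
    obtain ⟨j, hj⟩ := exists_pow_eq_self_of_coprime ((hx.symm.pow_left k))
    rw [← hj]
    exact C.pow_mem ((QuotientGroup.eq_one_iff _).1 hk) j
  let π := QuotientGroup.mk' P
  have hπ : Function.Surjective π := QuotientGroup.mk'_surjective P
  have hSb := hS.map π
  rw [Subgroup.map_top_of_surjective π hπ] at hSb
  have hb := ih _ (CfsgLib.Solv.card_quotient_lt hP) (Γ ⧸ P) (hsec.of_surjective hπ) rfl _ hSb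
  set ℳ := (fun N => N.comap π) '' famN ((fun W => inducedFunctor (G := Γ ⧸ P) W) '' 𝓦) (S.map π) ⊤ with hℳ
  have hSℳ : ∀ M ∈ ℳ, S ≤ M := by
    rintro _ ⟨_, ⟨_, ⟨W, hW, rfl⟩, rfl⟩, rfl⟩
    exact Subgroup.map_le_iff_le_comap.1 (le_inf le_top (Subgroup.le_normalizer.trans
      (functor_normalizer (KInf.inducedFunctor_conjugacy (h𝓦 W hW)) hSb.pg)))
  have hℳtop : ∀ M ∈ ℳ, M ≠ ⊤ := by
    rintro _ ⟨_, ⟨_, ⟨W, hW, rfl⟩, rfl⟩, rfl⟩ htop
    simp only at htop
    have hWb := KInf.inducedFunctor_conjugacy (G := Γ ⧸ P) (h𝓦 W hW)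
    set Y := inducedFunctor W (S.map π) with hY
    have hYn : Y.Normal := Subgroup.normalizer_eq_top_iff.1 (by
      rw [← top_inf_eq (Subgroup.normalizer _), ← Subgroup.map_comap_eq_self_of_surjective hπ (⊤ ⊓ _), htop,
        Subgroup.map_top_of_surjective π hπ])
    refine (hWb (S.map π) hSb.pg).2.1 ?_ ?_
    · rw [ne_eq, Subgroup.map_eq_bot_iff, QuotientGroup.ker_mk']
      intro hSP
      exact hCP (le_of_central_sylow hK hS (fun r hr c hc => hc r (hSP hr.1)) (inf_le_left.trans hSP))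
    · have hYP : Y.comap π ≤ P := CfsgLib.Solv.le_pCore (hN := hYn.comap π) (hS.pg.to_le (by
        refine (Subgroup.comap_mono (hWb (S.map π) hSb.pg).1).trans ?_
        rw [Subgroup.comap_map_eq, QuotientGroup.ker_mk']
        exact sup_le le_rfl hPS))
      show Y = ⊥
      rw [← Subgroup.map_comap_eq_self_of_surjective hπ Y, Subgroup.map_eq_bot_iff, QuotientGroup.ker_mk']
      exact hYP
  have hℳne : ℳ.Nonempty := ((hne.image _).image _).image _
  intro B hB g _ hgB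
  refine (reach_of_pquotient hS hPS hcent hℳne hSℳ (fun A hA x hxA => ?_) hB hgB).refine le_rfl
    fun M hM' A hA x hx hxA => hprop M (hSℳ M hM') (hℳtop M hM') A hA x hx hxA
  refine (hb _ (Subgroup.map_mono hA) (π x) trivial (by rw [← map_cj]; exact Subgroup.map_mono hxA)).mono_family ?_
  intro N hN
  exact ⟨_, ⟨_, ⟨N, hN, rfl⟩, rfl⟩, (Subgroup.map_comap_eq_self_of_surjective hπ N).ge⟩

/-- Control in a standard section transfers to an isomorphic one. -/
theorem famF_of_equiv {Q Γ : Type u} [Group Q] [Group Γ] [Finite Q] [Finite Γ]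
    {𝓦 : Set (∀ (R : Type u) [Group R], Subgroup R)} (h𝓦 : ∀ W ∈ 𝓦, IsCharPFunctor.{u} p W) (e : Q ≃* Γ)
    (h : FamilyControlsStrongFusionIn p ((fun W => inducedFunctor (G := Q) W) '' 𝓦) ⊤) {S : Subgroup Γ}
    (hS : Syl p S ⊤) : FamF ((fun W => inducedFunctor (G := Γ) W) '' 𝓦) S ⊤ := by
  have hSq := hS.map e.symm.toMonoidHom
  rw [Subgroup.map_top_of_surjective e.symm.toMonoidHom e.symm.surjective] at hSq
  have h1 := famF_of_def hSq _ (by rintro _ ⟨W, hW, rfl⟩; exact KInf.inducedFunctor_conjugacy (h𝓦 W hW)) h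
  have h2 := FamF.of_hom h𝓦 (f := e.toMonoidHom) e.injective hSq.pg h1
  rwa [Subgroup.map_top_of_surjective e.toMonoidHom e.surjective, Subgroup.map_map,
    show e.toMonoidHom.comp e.symm.toMonoidHom = MonoidHom.id Γ from MonoidHom.ext e.apply_symm_apply,
    Subgroup.map_id] at h2

end

end CfsgLib.Glau
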