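import Cfsg.Agent.Fus.FusionFamilyCore
import Cfsg.Agent.Fus.FusionK

/-!
Family control of strong fusion from constrained sections; the factorisation criterion for two functors.
-/

set_option autoImplicit false
set_option linter.style.haveILetI false

open Cfsg
open scoped commutatorElement

namespace CfsgLib.Glau

universe u

variable {p : ℕ} [hp : Fact p.Prime]

theorem family_fusion_main {G : Type u} [Group G] [Finite G] (𝓦 : Set (∀ (Q : Type u) [Group Q], Subgroup Q))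
    (h𝓦 : ∀ W ∈ 𝓦, IsCharPFunctor.{u} p W)
    (hloc : ∀ (K R : Subgroup G) [(R.subgroupOf K).Normal],
      Subgroup.centralizer ((pCore p (↥K ⧸ R.subgroupOf K) : Subgroup (↥K ⧸ R.subgroupOf K)) : Set (↥K ⧸ R.subgroupOf K)) ≤
        pCore p (↥K ⧸ R.subgroupOf K) →
      FamilyControlsStrongFusionIn p ((fun W => inducedFunctor (G := (↥K ⧸ R.subgroupOf K)) W) '' 𝓦) ⊤) :
    FamilyControlsStrongFusionIn p ((fun W => inducedFunctor (G := G) W) '' 𝓦) ⊤ := by
  classical
  have hcore : ∀ (Γ : Type u) [Group Γ] [Finite Γ], IsSec G Γ →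
      Subgroup.centralizer (pCore p Γ : Set Γ) ≤ pCore p Γ → ∀ S : Subgroup Γ, Syl p S ⊤ →
        FamF ((fun W => inducedFunctor (G := Γ) W) '' 𝓦) S ⊤ := by
    intro Γ _ _ hsec hC S hS
    obtain ⟨K, R, hR, ⟨e⟩⟩ := hsec.exists_equiv
    haveI := hR
    exact famF_of_equiv h𝓦 e (hloc K R (constrained_equiv e hC)) hS
  obtain ⟨S, -, hS⟩ := exists_syl (G := G) (p := p) ⊤ bot_le IsPGroup.of_bot
  refine def_of_famF hS _ ?_
  by_cases hne : 𝓦.Nonempty
  · exact family_fusion_of_core h𝓦 hne hcore G (isSec_self G) ⊤ S hS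
  -- the empty family
  let W₀ : ∀ (Q : Type u) [Group Q], Subgroup Q := fun Q _ => ⊤
  have hW₀ : IsCharPFunctor.{u} p W₀ := ⟨fun Q _ _ _ hn => by
    show (⊤ : Subgroup Q) ≠ ⊥
    haveI := Subgroup.nontrivial_iff.2 hn
    exact top_ne_bot,
    fun Q R _ _ _ _ φ => Subgroup.map_top_of_surjective φ.toMonoidHom φ.surjective⟩
  have htriv : ∀ (Γ : Type u) [Group Γ] (T : Subgroup Γ) (A : Subgroup Γ) (g : Γ),
      Reach T (famN ((fun W => inducedFunctor (G := Γ) W) '' 𝓦) T ⊤) A g → ∀ a ∈ A, g * a * g⁻¹ = a := by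
    intro Γ _ T A g h a ha
    obtain ⟨k, hk, hke⟩ := h
    cases hk with
    | one _ => rw [← hke a ha]; group
    | step hN _ _ _ =>
      obtain ⟨_, ⟨W, hW, rfl⟩, rfl⟩ := hN
      exact absurd ⟨W, hW⟩ hne
  have h := family_fusion_of_core (𝓦 := {W₀}) (fun W hW => by rw [hW]; exact hW₀) ⟨W₀, rfl⟩
    (fun Γ _ _ hsec hC T hT B hB g hg hgB =>
      Reach.refl hB (htriv Γ T B g (hcore Γ hsec hC T hT B hB g hg hgB))) G (isSec_self G) ⊤ S hS
  -- the normalizer of `S` centralizes `S`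
  set N := Subgroup.normalizer (S : Set G) with hN
  have hcS : ∀ n ∈ N, ∀ s ∈ S, n * s * n⁻¹ = s := by
    intro n hn s hs
    let K := pPrimeCore p ↥N
    haveI : K.Normal := CfsgLib.Solv.pPrimeCore_normal ↥N p
    have hKc : ¬ p ∣ Nat.card K := CfsgLib.Solv.not_dvd_card_pPrimeCore
    let π := QuotientGroup.mk' K
    have hsecN : IsSec G (↥N ⧸ K) := ((isSec_self G).subgroup N).of_surjective (QuotientGroup.mk'_surjective K)
    have hSN : Syl p (S.subgroupOf N) ⊤ := (hS.mono Subgroup.le_normalizer le_top).subgroupOf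
    haveI hSn : (S.subgroupOf N).Normal := Subgroup.normal_in_normalizer
    have hTb := hSN.map π
    rw [Subgroup.map_top_of_surjective π (QuotientGroup.mk'_surjective K)] at hTb
    haveI hTn : ((S.subgroupOf N).map π).Normal := hSn.map π (QuotientGroup.mk'_surjective K)
    have hK1 : pPrimeCore p (↥N ⧸ K) = ⊥ := CfsgLib.Fus.pPrimeCore_quotient_eq_bot p
    have hC : Subgroup.centralizer (pCore p (↥N ⧸ K) : Set (↥N ⧸ K)) ≤ pCore p (↥N ⧸ K) := by
      haveI := CfsgLib.Solv.pCore_normal (↥N ⧸ K) p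
      have hTP : (S.subgroupOf N).map π ≤ pCore p (↥N ⧸ K) := CfsgLib.Solv.le_pCore hTb.pg
      haveI : (Subgroup.centralizer (pCore p (↥N ⧸ K) : Set (↥N ⧸ K))).Normal := by infer_instance
      exact le_of_central_sylow hK1 hTb (fun r hr c hc => hc r (hTP hr.1)) (inf_le_left.trans hTP)
    set s' : ↥N := ⟨s, Subgroup.le_normalizer hs⟩ with hs'
    set n' : ↥N := ⟨n, hn⟩ with hn'
    have h1 := htriv _ _ _ _ (hcore _ hsecN hC _ hTb ((S.subgroupOf N).map π) le_rfl (π n') trivial (by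
      rw [← map_cj]; exact Subgroup.map_mono (mem_normalizer_iff_cj.1 (by
        rw [Subgroup.normalizer_eq_top_iff.2 hSn]; trivial)).le)) (π s') ⟨s', hs, rfl⟩
    have hmem : (n' * s' * n'⁻¹)⁻¹ * s' ∈ S.subgroupOf N ⊓ K := by
      refine ⟨(S.subgroupOf N).mul_mem ((S.subgroupOf N).inv_mem (hSn.conj_mem s' hs n')) hs, QuotientGroup.eq.1 ?_⟩
      show π (n' * s' * n'⁻¹) = π s'
      rw [map_mul, map_mul, map_inv]; exact h1
    rw [inf_eq_bot_of_card hSN.pg hKc, Subgroup.mem_bot, inv_mul_eq_one] at hmem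
    exact congrArg Subtype.val hmem
  intro B hB g hg hgB
  refine Reach.refl hB ?_
  obtain ⟨k, hk, hke⟩ := h B hB g hg hgB
  suffices key : ∀ (A : Subgroup G) (k : G), FChain S (famN ((fun W => inducedFunctor (G := G) W) '' {W₀}) S ⊤) A k →
      ∀ a ∈ A, k * a * k⁻¹ = a by
    intro a ha
    rw [← hke a ha, key _ k hk a ha]
  intro A k hk
  induction hk with
  | one _ => intro a _; group
  | @step A M x g hM hx hA _ ih =>
    intro a ha
    obtain ⟨_, ⟨W, hW, rfl⟩, rfl⟩ := hM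
    rw [Set.mem_singleton_iff] at hW
    subst hW
    have hx' : x ∈ N := by
      have hXS : inducedFunctor (G := G) W₀ S = S := by
        show (⊤ : Subgroup ↥S).map S.subtype = S
        rw [← MonoidHom.range_eq_map, S.range_subtype]
      have := hx.2
      simp only [hXS] at this
      exact this
    have h1 := ih _ (conj_mem_cj (g := x) ha)
    rw [hcS x hx' a (hA ha)] at h1
    rw [show g * x * a * (g * x)⁻¹ = g * (x * a * x⁻¹) * g⁻¹ by group, hcS x hx' a (hA ha)]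
    exact h1

/-- Two functors whose normalizers factorise every constrained section control fusion. -/
theorem family_fusion_of_factor {G : Type u} [Group G] [Finite G]
    (W₁ W₂ : ∀ (Q : Type u) [Group Q], Subgroup Q) (hW₁ : IsCharPFunctor.{u} p W₁) (hW₂ : IsCharPFunctor.{u} p W₂)
    (hfac : ∀ (K R : Subgroup G) [(R.subgroupOf K).Normal],
      Subgroup.centralizer ((pCore p (↥K ⧸ R.subgroupOf K) : Subgroup (↥K ⧸ R.subgroupOf K)) : Set (↥K ⧸ R.subgroupOf K)) ≤
        pCore p (↥K ⧸ R.subgroupOf K) → ∀ T : Sylow p (↥K ⧸ R.subgroupOf K), ∀ x : (↥K ⧸ R.subgroupOf K),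
        ∃ a ∈ Subgroup.normalizer (inducedFunctor W₁ (T : Subgroup (↥K ⧸ R.subgroupOf K)) : Set (↥K ⧸ R.subgroupOf K)),
        ∃ b ∈ Subgroup.normalizer (inducedFunctor W₂ (T : Subgroup (↥K ⧸ R.subgroupOf K)) : Set (↥K ⧸ R.subgroupOf K)),
          x = a * b) :
    ∀ (Γ : Type u) [Group Γ] [Finite Γ], IsSec G Γ → ∀ (H S : Subgroup Γ), Syl p S H →
      FamF ((fun W => inducedFunctor (G := Γ) W) '' {W₁, W₂}) S H := by
  refine family_fusion_of_core (by rintro W (rfl | rfl) <;> assumption) ⟨W₁, Or.inl rfl⟩ ?_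
  intro Γ _ _ hsec hC S hS B hB g _ hgB
  obtain ⟨K, R, hR, ⟨e⟩⟩ := hsec.exists_equiv
  haveI := hR
  set T := S.map e.symm.toMonoidHom with hT
  have hTs := hS.map e.symm.toMonoidHom
  rw [Subgroup.map_top_of_surjective e.symm.toMonoidHom e.symm.surjective, ← hT] at hTs
  obtain ⟨a', ha', b', hb', hab⟩ := hfac K R (constrained_equiv e hC)
    ⟨T, hTs.pg, fun {Q} hQ hle => hTs.eq_of_le hle le_top hQ⟩ (e.symm g)
  have hTS : T.map e.toMonoidHom = S := by
    rw [hT, Subgroup.map_map,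
      show e.toMonoidHom.comp e.symm.toMonoidHom = MonoidHom.id Γ from MonoidHom.ext e.apply_symm_apply,
      Subgroup.map_id]
  have push : ∀ (W : ∀ (Q : Type u) [Group Q], Subgroup Q), IsCharPFunctor.{u} p W → ∀ z,
      z ∈ Subgroup.normalizer (inducedFunctor W T : Set (↥K ⧸ R.subgroupOf K)) →
        e z ∈ Subgroup.normalizer (inducedFunctor W S : Set Γ) := fun W hW z hz => by
    rw [mem_normalizer_iff_cj, ← hTS, ind_map hW e.toMonoidHom hTs.pg e.injective.injOn]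
    show cj (e.toMonoidHom z) _ = _
    rw [← map_cj, mem_normalizer_iff_cj.1 hz]
  set N₁ := Subgroup.normalizer (inducedFunctor W₁ S : Set Γ) with hN₁
  set N₂ := Subgroup.normalizer (inducedFunctor W₂ S : Set Γ) with hN₂
  have hS₁ : S ≤ N₁ := Subgroup.le_normalizer.trans (functor_normalizer (KInf.inducedFunctor_conjugacy hW₁) hS.pg)
  have hS₂ : S ≤ N₂ := Subgroup.le_normalizer.trans (functor_normalizer (KInf.inducedFunctor_conjugacy hW₂) hS.pg)
  have ha : e a' ∈ N₁ := push W₁ hW₁ a' ha'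
  have hb : e b' ∈ N₂ := push W₂ hW₂ b' hb'
  have hg : g = e a' * e b' := by rw [← map_mul, ← hab, e.apply_symm_apply]
  have hle : cj (e b') B ≤ N₁ ⊓ N₂ := by
    refine le_inf ?_ ((cj_mono _ (hB.trans hS₂)).trans (cj_eq_of_mem hb).le)
    have h1 : cj (e a')⁻¹ (cj g B) ≤ N₁ := (cj_mono _ (hgB.trans hS₁)).trans (cj_eq_of_mem (inv_mem ha)).le
    rwa [← cj_mul, hg, inv_mul_cancel_left] at h1
  obtain ⟨c, hc, hcle⟩ := (hS.mono (le_inf hS₁ hS₂) le_top).exists_conj_le hle (isPGroup_cj _ (hS.pg.to_le hB))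
  rw [← cj_mul] at hcle
  have r1 : Reach S (famN ((fun W => inducedFunctor (G := Γ) W) '' {W₁, W₂}) S ⊤) B (c * e b') :=
    Reach.single ⟨_, ⟨W₂, Or.inr rfl, rfl⟩, rfl⟩ ⟨trivial, mul_mem hc.2 hb⟩ hB hcle
  have e1 : e a' * c⁻¹ * (c * e b') = g := by rw [hg]; group
  have r := r1.trans (Reach.single ⟨_, ⟨W₁, Or.inl rfl, rfl⟩, rfl⟩ ⟨trivial, N₁.mul_mem ha (N₁.inv_mem hc.1)⟩ hcle
    (x := e a' * c⁻¹) (by rw [← cj_mul, e1]; exact hgB))
  rwa [e1] at r

end CfsgLib.Glau
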