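import Mathlib.GroupTheory.Frattini
import Mathlib.GroupTheory.Sylow
import Mathlib.Algebra.BigOperators.Group.Finset.Basic

/-!
An averaged crossed homomorphism: a `p'`-group of automorphisms of a normal subgroup inside the
Frattini subgroup, normalized by the ambient group and extending to crossed homomorphisms on the
stabilizers of its elements, is trivial.
-/

set_option autoImplicit false
set_option linter.style.haveILetI false

namespace CfsgLib.Fus

theorem eq_bot_of_crossed {Q S : Type*} [Group Q] [Group S] [Finite S] [Finite Q] {p : ℕ}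
    [hp : Fact p.Prime] (hQ : IsPGroup p Q) (σ : S →* MulAut Q) (ι : Q →* S)
    (hσι : ∀ q, σ (ι q) = MulAut.conj q) (hισ : ∀ g q, ι (σ g q) = g * ι q * g⁻¹)
    (hfr : ι.range ≤ frattini S) (H : Subgroup (MulAut Q)) [Finite H]
    (hcop : (Nat.card H).Coprime p) (hnorm : ∀ g, ∀ h ∈ H, σ g * h * (σ g)⁻¹ ∈ H)
    (hext : ∀ r ∈ H, ∃ d : S → Q,
      (∀ u v, σ u * r = r * σ u → σ v * r = r * σ v → d (u * v) = d u * σ u (d v)) ∧
      (∀ q, σ (ι q) * r = r * σ (ι q) → d (ι q) = r q * q⁻¹)) :
    H = ⊥ := by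
  classical
  -- displacements are central
  have hcent : ∀ h ∈ H, ∀ q, q⁻¹ * h q ∈ Subgroup.center Q := by
    intro h hh q
    have h1 : MulAut.conj (q⁻¹ * h q) = (MulAut.conj q)⁻¹ * h * MulAut.conj q * h⁻¹ := by
      ext x
      simp [MulAut.conj_apply, MulAut.inv_def, mul_assoc]
    have h2 : MulAut.conj (q⁻¹ * h q) ∈ H := by
      rw [h1]
      refine H.mul_mem ?_ (H.inv_mem hh)
      have := hnorm (ι q⁻¹) h hh
      rwa [hσι, map_inv, inv_inv] at this
    obtain ⟨k, hk⟩ := hQ (q⁻¹ * h q)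
    have h3 : orderOf (MulAut.conj (q⁻¹ * h q)) = 1 := by
      refine Nat.eq_one_of_dvd_coprimes (hcop.pow_right k) (Subgroup.orderOf_dvd_natCard H h2) ?_
      exact orderOf_dvd_of_pow_eq_one (by rw [← map_pow, hk, map_one])
    rw [orderOf_eq_one_iff] at h3
    refine Subgroup.mem_center_iff.2 fun x => ?_
    have := MulEquiv.congr_fun h3 x
    rw [MulAut.conj_apply, MulAut.one_apply] at this
    exact (mul_inv_eq_iff_eq_mul.1 this).symm
  let Z := Subgroup.center Q
  letI : CommGroup Z := { (inferInstance : Group Z) with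
    mul_comm := fun a b => Subtype.ext (Subgroup.mem_center_iff.1 b.2 a) }
  haveI : Fintype H := Fintype.ofFinite H
  let D : H → (Q →* Z) := fun h => MonoidHom.mk' (fun q => ⟨q⁻¹ * (h : MulAut Q) q, hcent h h.2 q⟩)
    fun a b => Subtype.ext (by
      show (a * b)⁻¹ * (h : MulAut Q) (a * b) = a⁻¹ * (h : MulAut Q) a * (b⁻¹ * (h : MulAut Q) b)
      have hc := Subgroup.mem_center_iff.1 (hcent h h.2 a) b⁻¹
      rw [map_mul, mul_inv_rev, ← mul_assoc (a⁻¹ * (h : MulAut Q) a), ← hc]
      group)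
  let n : Q →* Z := ∏ h : H, D h
  have hn : ∀ q, n q = ∏ h : H, D h q := fun q => MonoidHom.finsetProd_apply _ _ _
  let m := Nat.card H
  have hmq : (Nat.card Q).Coprime m := by
    obtain ⟨k, hk⟩ := IsPGroup.iff_card.1 hQ
    rw [hk]; exact (hcop.symm).pow_left k
  -- an automorphism acting on the centre
  have hZmem : ∀ (β : MulAut Q) (z : Z), β (z : Q) ∈ Z := fun β z =>
    Subgroup.mem_center_iff.2 fun x => by
      have := congrArg β (Subgroup.mem_center_iff.1 z.2 (β.symm x))
      simpa using this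
  let c : MulAut Q → (Z →* Z) := fun β =>
    MonoidHom.mk' (fun z => ⟨β z, hZmem β z⟩) fun a b => Subtype.ext (map_mul β _ _)
  have hc_mul : ∀ (a b : MulAut Q) (z : Z), c (a * b) z = c a (c b z) := fun a b z => Subtype.ext rfl
  -- `n` composed with a displacement
  have hDn : ∀ (h : H) (x : Q), D h (n x : Q) = (D h x ^ m)⁻¹ := by
    intro h x
    have h1 : ∀ k : H, D (h * k) x = D h x * c (h : MulAut Q) (D k x) := fun k => Subtype.ext (by
      show x⁻¹ * (h : MulAut Q) ((k : MulAut Q) x) =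
        x⁻¹ * (h : MulAut Q) x * (h : MulAut Q) (x⁻¹ * (k : MulAut Q) x)
      simp [mul_assoc])
    have h2 : n x = D h x ^ m * c (h : MulAut Q) (n x) := by
      rw [hn x, map_prod]
      conv_lhs => rw [← Equiv.prod_comp (Equiv.mulLeft h)]
      simp only [Equiv.coe_mulLeft, h1, Finset.prod_mul_distrib, Finset.prod_const, Finset.card_univ]
      rw [← Nat.card_eq_fintype_card]
    have h3 : D h (n x : Q) = (n x)⁻¹ * c (h : MulAut Q) (n x) := Subtype.ext rfl
    rw [h3]
    generalize c (h : MulAut Q) (n x) = w at h2 ⊢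
    rw [h2, mul_inv_rev, mul_right_comm, inv_mul_cancel, one_mul]
  have hnn : ∀ x, n (n x : Q) = (n x ^ m)⁻¹ := fun x => by
    rw [hn (n x : Q)]
    simp only [hDn, Finset.prod_inv_distrib, Finset.prod_pow, ← hn]
  -- the action on `H`
  let e : S → H → H := fun g h => ⟨σ g * h * (σ g)⁻¹, hnorm g h h.2⟩
  have he_mul : ∀ a b h, e (a * b) h = e a (e b h) := fun a b h => Subtype.ext (by
    simp [e, map_mul, mul_assoc])
  have he_one : ∀ h, e 1 h = h := fun h => Subtype.ext (by simp [e])
  have hnσ : ∀ g x, n (σ g x) = c (σ g) (n x) := by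
    intro g x
    rw [hn x, map_prod, hn]
    let E : H ≃ H := ⟨e g, e g⁻¹, fun h => by rw [← he_mul, inv_mul_cancel, he_one],
      fun h => by rw [← he_mul, mul_inv_cancel, he_one]⟩
    rw [← Equiv.prod_comp E]
    refine Finset.prod_congr rfl fun h _ => Subtype.ext ?_
    show (σ g x)⁻¹ * (σ g * (h : MulAut Q) * (σ g)⁻¹) (σ g x) = σ g (x⁻¹ * (h : MulAut Q) x)
    simp [MulAut.mul_apply, MulAut.inv_def]
  -- orbit representatives
  let st : Setoid H := ⟨fun a b => ∃ s, e s a = b,
    fun a => ⟨1, he_one a⟩,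
    fun {a b} ⟨s, hs⟩ => ⟨s⁻¹, by rw [← hs, ← he_mul, inv_mul_cancel, he_one]⟩,
    fun {a b d} ⟨s, hs⟩ ⟨t, ht⟩ => ⟨t * s, by rw [he_mul, hs, ht]⟩⟩
  let r : H → H := fun h => (Quotient.mk st h).out
  have hrt : ∀ h, ∃ s, e s (r h) = h := fun h => Quotient.exact (Quotient.out_eq (Quotient.mk st h))
  choose t ht using hrt
  have hre : ∀ g h, r (e g h) = r h := fun g h =>
    congrArg Quotient.out (Quotient.sound (⟨g⁻¹, by rw [← he_mul, inv_mul_cancel, he_one]⟩ : ∃ s, e s (e g h) = h))
  choose d hd hdι using fun h : H => hext h h.2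
  let u : S → H → S := fun g h => (t (e g h))⁻¹ * g * t h
  have hu : ∀ g h, σ (u g h) * (r h : MulAut Q) = r h * σ (u g h) := by
    intro g h
    have h1 : e (u g h) (r h) = r h := by
      show e ((t (e g h))⁻¹ * g * t h) (r h) = r h
      rw [he_mul, he_mul, ht]
      have := congrArg (e (t (e g h))⁻¹) (ht (e g h))
      rw [← he_mul, inv_mul_cancel, he_one, hre] at this
      exact this.symm
    exact mul_inv_eq_iff_eq_mul.1 (congrArg Subtype.val h1)
  let π : S → Z := fun g => ∏ h : H, c (σ (t (e g h))) (n (d (r h) (u g h)))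
  have hπ : ∀ a b, π (a * b) = π a * c (σ a) (π b) := by
    intro a b
    have key : ∀ h, c (σ (t (e (a * b) h))) (n (d (r h) (u (a * b) h))) =
        c (σ (t (e a (e b h)))) (n (d (r (e b h)) (u a (e b h)))) *
          c (σ a) (c (σ (t (e b h))) (n (d (r h) (u b h)))) := by
      intro h
      have h1 : u (a * b) h = u a (e b h) * u b h := by
        simp only [u, he_mul]; group
      have h2 : σ (u a (e b h)) * (r h : MulAut Q) = r h * σ (u a (e b h)) := by
        have := hu a (e b h); rwa [hre] at this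
      rw [h1, hd _ _ _ h2 (hu b h), map_mul, map_mul, hnσ, hre, ← hc_mul, ← hc_mul, ← map_mul,
        ← map_mul, he_mul]
      simp [u, mul_assoc]
    show ∏ h, _ = _
    rw [Finset.prod_congr rfl fun h _ => key h, Finset.prod_mul_distrib, ← map_prod]
    let E : H ≃ H := ⟨e b, e b⁻¹, fun h => by rw [← he_mul, inv_mul_cancel, he_one],
      fun h => by rw [← he_mul, mul_inv_cancel, he_one]⟩
    exact congrArg (· * _) (Equiv.prod_comp E fun h => c (σ (t (e a h))) (n (d (r h) (u a h))))
  have hπ1 : π 1 = 1 := by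
    have h := hπ 1 1
    rw [one_mul, map_one, show c 1 (π 1) = π 1 from Subtype.ext rfl] at h
    exact mul_eq_left.1 h.symm
  have hπz : ∀ z : Z, π (ι z) = n (n (z : Q) : Q) := by
    intro z
    have hσz : σ (ι z) = 1 := by
      rw [hσι]
      refine MulEquiv.ext fun x => ?_
      rw [MulAut.conj_apply, ← Subgroup.mem_center_iff.1 z.2 x, mul_inv_cancel_right]
      rfl
    have hez : ∀ h, e (ι z) h = h := fun h => Subtype.ext (by simp [e, hσz])
    have hterm : ∀ h, c (σ (t (e (ι z) h))) (n (d (r h) (u (ι z) h))) = n (D h z : Q) := by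
      intro h
      have h1 : u (ι z) h = ι (σ (t h)⁻¹ z) := by
        rw [hισ, inv_inv]; simp [u, hez]
      have h2 := hu (ι z) h
      rw [h1] at h2 ⊢
      rw [hdι _ _ h2, hez, ← hnσ]
      congr 1
      have h3 : σ (t h) * (r h : MulAut Q) * (σ (t h))⁻¹ = h := congrArg Subtype.val (ht h)
      have h4 : (h : MulAut Q) z = σ (t h) ((r h : MulAut Q) (σ (t h)⁻¹ z)) := by
        conv_lhs => rw [← h3]
        simp [MulAut.mul_apply]
      show σ (t h) (_ * _) = (z : Q)⁻¹ * (h : MulAut Q) z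
      rw [map_mul, map_inv (σ (t h)), ← h4, map_inv σ]
      simp only [MulAut.inv_def, MulEquiv.apply_symm_apply]
      rw [Subgroup.mem_center_iff.1 (Subgroup.inv_mem _ z.2)]
    show ∏ h, _ = _
    rw [Finset.prod_congr rfl fun h _ => hterm h, hn (z : Q)]
    exact (map_prod (n.comp Z.subtype) (fun h => D h (z : Q)) Finset.univ).symm
  have hπn : ∀ y, π (ι (n y : Q)) = n y ^ (m * m) := fun y => by
    rw [hπz, hnn, hnn, inv_pow, inv_inv, ← pow_mul]
  let K : Subgroup S :=
    { carrier := {g | π g = 1}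
      one_mem' := hπ1
      mul_mem' := fun {a b} ha hb => by
        simp only [Set.mem_setOf_eq] at ha hb ⊢
        rw [hπ, ha, hb, map_one, mul_one]
      inv_mem' := fun {a} ha => by
        simp only [Set.mem_setOf_eq] at ha ⊢
        have h := hπ a⁻¹ a
        rw [inv_mul_cancel, hπ1, ha, map_one, mul_one] at h
        exact h.symm }
  have hpow : ∀ x : Q, ∃ y : Q, y ^ (m * m) = x := fun x =>
    ⟨(powCoprime (hmq.mul_right hmq)).symm x, (powCoprime (hmq.mul_right hmq)).apply_symm_apply x⟩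
  have hK : K = ⊤ := by
    refine frattini_nongenerating (top_le_iff.1 fun g _ => ?_)
    have hval : ∃ x, π g = n x := by
      refine ⟨(Finset.univ.toList.map fun h : H => σ (t (e g h)) (d (r h) (u g h))).prod, ?_⟩
      rw [map_list_prod, List.map_map]
      show ∏ h, _ = _
      rw [← Finset.prod_map_toList]
      exact congrArg List.prod (List.map_congr_left fun h _ => (hnσ _ _).symm)
    obtain ⟨x, hx⟩ := hval
    obtain ⟨y, hy⟩ := hpow x
    rw [← mul_inv_cancel_left (ι (n y : Q)) g, sup_comm]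
    refine Subgroup.mul_mem_sup (hfr ⟨_, rfl⟩) ?_
    show π _ = 1
    have h := hπ (ι (n y : Q)) ((ι (n y : Q))⁻¹ * g)
    rw [mul_inv_cancel_left, hπn, hx, ← hy, map_pow] at h
    have hid : ∀ w, c (σ (ι (n y : Q))) w = w := fun w => Subtype.ext (by
      show σ (ι (n y : Q)) (w : Q) = w
      rw [hσι, MulAut.conj_apply, Subgroup.mem_center_iff.1 w.2, mul_inv_cancel_right])
    rwa [hid, left_eq_mul] at h
  have hn1 : ∀ x, n x = 1 := by
    intro x
    obtain ⟨y, hy⟩ := hpow x
    have h : π (ι (n y : Q)) = 1 := (hK.symm ▸ Subgroup.mem_top _ : ι (n y : Q) ∈ K)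
    rwa [hπn, ← map_pow, hy] at h
  rw [eq_bot_iff]
  intro h hh
  refine MulEquiv.ext fun x => ?_
  have h1 := hDn ⟨h, hh⟩ x
  rw [hn1, OneMemClass.coe_one, map_one] at h1
  have h2 : (x⁻¹ * h x) ^ m = 1 := congrArg Subtype.val (inv_eq_one.1 h1.symm)
  have h3 : x⁻¹ * h x = 1 := (powCoprime hmq).injective (by
    show (x⁻¹ * h x) ^ m = (1 : Q) ^ m
    rw [h2, one_pow])
  exact (inv_mul_eq_one.1 h3).symm

end CfsgLib.Fus
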