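import Cfsg.Agent.Fus.Normal
import Cfsg.Agent.Fus.Quotient
import Cfsg.Agent.Fus.NormCocycle
import Cfsg.Agent.Solv.Schur

/-!
Saturated systems in which `Aut_F(S) = Inn(S)`: subgroups between `[S, S]` and `Φ(S)` have inner
normalizer systems.
-/

set_option autoImplicit false
set_option linter.style.haveILetI false

open Cfsg Cfsg.FusionSystem
open scoped Pointwise

namespace CfsgLib.Fus

variable {Ω : Type*} [Group Ω] {S : Subgroup Ω} {F : FusionSystem S} {p : ℕ}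

/-- `Q ≤ U ≤ S` with `S/Q` abelian gives `U` normal in `S`. -/
theorem le_normalizer_of_abelian {Q U : Subgroup Ω} (hc : ∀ a ∈ S, ∀ b ∈ S, a * b * a⁻¹ * b⁻¹ ∈ Q)
    (hQU : Q ≤ U) (hU : U ≤ S) : S ≤ Subgroup.normalizer (U : Set Ω) :=
  le_normalizer_of_forall fun a ha k hk => by
    have := U.mul_mem (hQU (hc a ha k (hU hk))) hk
    rwa [inv_mul_cancel_right] at this

theorem normalizerIn_of_abelian {Q U : Subgroup Ω} (hc : ∀ a ∈ S, ∀ b ∈ S, a * b * a⁻¹ * b⁻¹ ∈ Q)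
    (hQU : Q ≤ U) (hU : U ≤ S) : normalizerIn S U = S :=
  inf_eq_left.2 (le_normalizer_of_abelian hc hQU hU)

theorem fullyNormalized_of_abelian [Finite S] {Q U : Subgroup Ω}
    (hc : ∀ a ∈ S, ∀ b ∈ S, a * b * a⁻¹ * b⁻¹ ∈ Q) (hQU : Q ≤ U) (hU : U ≤ S) :
    F.IsFullyNormalized U :=
  ⟨hU, fun R _ => (normalizerIn_of_abelian hc hQU hU).symm ▸ Subgroup.card_le_of_le (normalizerIn_le R)⟩

theorem extend_top [Finite S] [Fact p.Prime] (hS : IsPGroup p S) (hF : F.IsSaturated p)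
    (hinn : ∀ α ∈ F.autGroup S, ∃ s ∈ S, ∀ x ∈ S, autFun α x = s * x * s⁻¹) {Q P P' : Subgroup Ω}
    (hc : ∀ a ∈ S, ∀ b ∈ S, a * b * a⁻¹ * b⁻¹ ∈ Q) (hQP : Q ≤ P') {f : Ω → Ω} (hf : IsMap F P f)
    (hfi : img f P = P') (hn : S ≤ Subgroup.normalizer (P : Set Ω))
    (h : ∀ g ∈ S, ∃ s ∈ S, ∀ x ∈ P, f (g * x * g⁻¹) = s * f x * s⁻¹) :
    ∃ s ∈ S, ∀ x ∈ P, f x = s * x * s⁻¹ := by
  have hP'S : P' ≤ S := hfi ▸ hf.img_le
  obtain ⟨k, hk, hke⟩ := extend (fullyNormalized_spec hS hF (fullyNormalized_of_abelian hc hQP hP'S)).2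
    hf hfi (N := S) fun g hg => ⟨hg, hn hg, h g hg⟩
  rw [sup_eq_right.2 hf.le] at hk
  obtain ⟨α, hα, hαe⟩ := exists_aut hk (Subgroup.eq_of_le_of_card_ge hk.img_le hk.card_img.ge)
  obtain ⟨s, hs, hse⟩ := hinn α hα
  exact ⟨s, hs, fun x hx => by rw [← hke x hx, ← hαe x (hf.le hx), hse x (hf.le hx)]⟩

/-- Automorphisms fixing `Q` are trivial modulo `Q` when `S/Q` is abelian and `Aut_F(S) = Inn(S)`. -/
theorem trivial_mod_of_stab [Finite S] [Fact p.Prime] (hS : IsPGroup p S) (hF : F.IsSaturated p)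
    (hinn : ∀ α ∈ F.autGroup S, ∃ s ∈ S, ∀ x ∈ S, autFun α x = s * x * s⁻¹) {Q U : Subgroup Ω}
    (hc : ∀ a ∈ S, ∀ b ∈ S, a * b * a⁻¹ * b⁻¹ ∈ Q) (hQU : Q ≤ U) (hU : U ≤ S) {β : MulAut U}
    (hβ : β ∈ F.autGroup U) (hβQ : ∀ x ∈ Q, autFun β x ∈ Q) :
    ∀ x ∈ U, x⁻¹ * autFun β x ∈ Q := by
  haveI := finite_mulAut hU
  have hn := le_normalizer_of_abelian hc hQU hU
  obtain ⟨hA, hR⟩ := fullyNormalized_spec hS hF (fullyNormalized_of_abelian (F := F) hc hQU hU)
  haveI := finite_of_le (hQU.trans hU)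
  let B : Subgroup (MulAut U) :=
    { carrier := {α | α ∈ F.autGroup U ∧ ∀ x ∈ Q, autFun α x ∈ Q}
      one_mem' := ⟨one_mem _, fun x hx => by rwa [autFun_one (hQU hx)]⟩
      mul_mem' := fun {a b} ha hb => ⟨mul_mem ha.1 hb.1, fun x hx => by
        rw [autFun_mul _ _ (hQU hx)]; exact ha.2 _ (hb.2 x hx)⟩
      inv_mem' := fun {a} ha => ⟨inv_mem ha.1, fun x hx => by
        have hi : img (autFun a) Q = Q := Subgroup.eq_of_le_of_card_ge (img_le_iff.2 ha.2)
          (((mem_autGroup hU).1 ha.1).mono hQU).card_img.ge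
        obtain ⟨y, hy, rfl⟩ := (((mem_autGroup hU).1 ha.1).mono hQU).mem_img.1 (hi.ge hx)
        rwa [← autFun_mul _ _ (hQU hy), inv_mul_cancel, autFun_one (hQU hy)]⟩ }
  let K : Subgroup ↥B :=
    { carrier := {α | ∀ x ∈ U, x⁻¹ * autFun (α : MulAut U) x ∈ Q}
      one_mem' := fun x hx => by
        rw [Subgroup.coe_one, autFun_one hx, inv_mul_cancel]; exact Q.one_mem
      mul_mem' := fun {a b} ha hb x hx => by
        have h1 := Q.mul_mem (hb x hx) (ha _ (autFun_mem (b : MulAut U) hx))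
        rw [← autFun_mul _ _ hx, mul_assoc, mul_inv_cancel_left] at h1
        exact h1
      inv_mem' := fun {a} ha x hx => by
        have h1 := Q.inv_mem (ha _ (autFun_mem (a : MulAut U)⁻¹ hx))
        rwa [← autFun_mul _ _ hx, mul_inv_cancel, autFun_one hx, mul_inv_rev, inv_inv] at h1 }
  haveI : K.Normal := ⟨fun a ha b x hx => by
    have hy := autFun_mem (b : MulAut U)⁻¹ hx
    have h1 := b.2.2 _ (ha _ hy)
    rw [autFun_map_mul _ (U.inv_mem hy) (autFun_mem _ hy), autFun_map_inv _ hy] at h1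
    simp only [Subgroup.coe_mul, Subgroup.coe_inv]
    rw [autFun_conj _ _ hx]
    rw [autFun_inv_apply _ hx] at h1
    exact h1⟩
  have hTB : autInducedBy S U ≤ B := fun t ht => ⟨autInducedBy_le_autGroup hU ht, fun x hx => by
    obtain ⟨g, hg, he⟩ := mem_autInducedBy.1 ht
    rw [he x (hQU hx)]
    exact conj_mem_of_normalizer (le_normalizer_of_abelian hc le_rfl (hQU.trans hU) hg) hx⟩
  have hTK : (autInducedBy S U).subgroupOf B ≤ K := fun t ht x hx => by
    obtain ⟨g, hg, he⟩ := mem_autInducedBy.1 ht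
    rw [show autFun (t : MulAut U) x = g * x * g⁻¹ from he x hx]
    simpa [mul_assoc] using hc x⁻¹ (S.inv_mem (hU hx)) g hg
  have hidx : ¬ p ∣ ((autInducedBy S U).subgroupOf B).index := fun h => by
    refine ((fa_iff hS).1 hA).2 (h.trans ?_)
    exact Dvd.intro _ (Subgroup.relIndex_mul_relIndex _ _ _ hTB fun x hx => hx.1)
  have hp : IsPGroup p ↥((autInducedBy S U).subgroupOf B) :=
    (isPGroup_autInducedBy hS).comap_of_injective _ (Subgroup.subtype_injective _)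
  let R : Sylow p ↥B := hp.toSylow hidx
  have hRK : (R : Subgroup ↥B) ≤ K := hTK
  have hmem : (⟨β, hβ, hβQ⟩ : ↥B) ∈
      Subgroup.normalizer ((R : Subgroup ↥B) : Set ↥B) ⊔ K :=
    (R.normalizer_sup_eq_top' hRK).symm ▸ Subgroup.mem_top _
  obtain ⟨b, hb, k, hk, hbk⟩ := Subgroup.mem_sup_of_normal_right.1 hmem
  suffices b ∈ K by
    have h := K.mul_mem this hk
    rw [hbk] at h
    exact h
  obtain ⟨s, hs, hse⟩ := extend_top hS hF hinn hc hQU ((mem_autGroup hU).1 b.2.1) (img_autFun _) hn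
    fun g hg => by
      obtain ⟨t, ht, hte⟩ := exists_autInducedBy (K := S) (P := U) hg (hn hg)
      obtain ⟨s, hs, hse⟩ := mem_autInducedBy.1
        (((Subgroup.mem_normalizer_iff.1 hb) (⟨t, hTB ht⟩ : ↥B)).1 ht)
      refine ⟨s, hs, fun x hx => ?_⟩
      have h := hse _ (autFun_mem (b : MulAut U) hx)
      simp only [Subgroup.subtype_apply, Subgroup.coe_mul, Subgroup.coe_inv] at h
      rwa [autFun_conj _ _ (autFun_mem _ hx), autFun_inv_apply' _ hx, hte x hx] at h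
  refine hTK (?_ : (b : MulAut U) ∈ autInducedBy S U)
  exact mem_autInducedBy.2 ⟨s, hs, hse⟩

/-- For `[S, S] ≤ Q ≤ Φ(S)` and `Aut_F(S) = Inn(S)`, the group `Aut_F(Q)` is `Aut_S(Q)`. -/
theorem autGroup_eq_autInducedBy [Finite S] [Fact p.Prime] (hS : IsPGroup p S)
    (hF : F.IsSaturated p)
    (hinn : ∀ α ∈ F.autGroup S, ∃ s ∈ S, ∀ x ∈ S, autFun α x = s * x * s⁻¹) {Q : Subgroup Ω}
    (hc : ∀ a ∈ S, ∀ b ∈ S, a * b * a⁻¹ * b⁻¹ ∈ Q) (hfr : Q ≤ (frattini ↥S).map S.subtype) :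
    F.autGroup Q = autInducedBy S Q := by
  have hQ : Q ≤ S := hfr.trans (Subgroup.map_subtype_le _)
  haveI := finite_mulAut hQ
  haveI := finite_of_le hQ
  have hn := le_normalizer_of_abelian hc le_rfl hQ
  obtain ⟨hA, hR⟩ := fullyNormalized_spec hS hF (fullyNormalized_of_abelian (F := F) hc le_rfl hQ)
  set A := F.autGroup Q with hAdef
  let σ : ↥S →* MulAut Q := (inducedHom S Q).comp (Subgroup.inclusion (le_inf le_rfl hn))
  have hσ : ∀ (g : ↥S) (x : Ω), x ∈ Q → autFun (σ g) x = (g : Ω) * x * (g : Ω)⁻¹ :=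
    fun g x hx => inducedHom_apply S Q _ hx
  have hTσ : ∀ t ∈ autInducedBy S Q, ∃ g, σ g = t := fun t ht => by
    obtain ⟨g, hg, he⟩ := mem_autInducedBy.1 ht
    exact ⟨⟨g, hg⟩, aut_ext fun x hx => (hσ _ x hx).trans (he x hx).symm⟩
  have hσT : ∀ g, σ g ∈ autInducedBy S Q := fun g => mem_autInducedBy.2 ⟨g, g.2, hσ g⟩
  let ι : ↥Q →* ↥S := Subgroup.inclusion hQ
  have hσι : ∀ q, σ (ι q) = MulAut.conj q := fun q => aut_ext fun x hx => by
    rw [hσ _ x hx, autFun_of_mem _ hx]; rfl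
  -- the quotient by the inner automorphisms
  let T : Subgroup ↥A := (autInducedBy S Q).subgroupOf A
  let I : Subgroup ↥A := (Inn Q).subgroupOf A
  haveI hI : I.Normal := inn_subgroupOf_autGroup_normal Q
  have hIT : I ≤ T := Subgroup.comap_mono (inn_le_autInducedBy hQ)
  have hTp : IsPGroup p ↥T := (isPGroup_autInducedBy hS).comap_of_injective _ (Subgroup.subtype_injective _)
  have hIp : IsPGroup p ↥I := hTp.to_le hIT
  let P0 : Sylow p ↥A := hTp.toSylow ((fa_iff hS).1 hA).2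
  let π := QuotientGroup.mk' I
  let P1 : Sylow p (↥A ⧸ I) := P0.mapSurjective (QuotientGroup.mk'_surjective I)
  have hP1 : (P1 : Subgroup (↥A ⧸ I)) = T.map π := rfl
  have hcomap : (T.map π).comap π = T := by
    rw [Subgroup.comap_map_eq, QuotientGroup.ker_mk', sup_eq_left.2 hIT]
  have hnorm : Subgroup.normalizer ((P1 : Subgroup (↥A ⧸ I)) : Set (↥A ⧸ I)) ≤
      Subgroup.centralizer ((P1 : Subgroup (↥A ⧸ I)) : Set (↥A ⧸ I)) := by
    rw [hP1]
    intro x hx
    obtain ⟨a, rfl⟩ := QuotientGroup.mk'_surjective I x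
    have haT : a ∈ T := by
      obtain ⟨s, hs, hse⟩ := extend_top hS hF hinn hc le_rfl ((mem_autGroup hQ).1 a.2) (img_autFun _) hn
        fun g hg => by
          obtain ⟨t, ht, hte⟩ := exists_autInducedBy (K := S) (P := Q) hg (hn hg)
          have h1 : a * ⟨t, autInducedBy_le_autGroup hQ ht⟩ * a⁻¹ ∈ (T.map π).comap π := by
            rw [Subgroup.mem_comap, map_mul, map_mul, map_inv]
            exact (Subgroup.mem_normalizer_iff.1 hx _).1 ⟨_, ht, rfl⟩
          rw [hcomap] at h1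
          obtain ⟨s, hs, hse⟩ := mem_autInducedBy.1 (Subgroup.mem_subgroupOf.1 h1)
          refine ⟨s, hs, fun y hy => ?_⟩
          have h := hse _ (autFun_mem (a : MulAut Q) hy)
          simp only [Subgroup.coe_mul, Subgroup.coe_inv] at h
          rwa [autFun_conj _ _ (autFun_mem _ hy), autFun_inv_apply' _ hy, hte y hy] at h
      exact mem_autInducedBy.2 ⟨s, hs, hse⟩
    rintro _ ⟨b, hb, rfl⟩
    refine eq_of_mul_inv_eq_one ?_
    rw [← map_mul, ← map_mul, ← map_inv, ← map_mul]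
    refine (QuotientGroup.eq_one_iff _).2 ?_
    obtain ⟨g, (hg : σ g = (a : MulAut Q))⟩ := hTσ _ haT
    obtain ⟨k, hk⟩ := hTσ _ (show (b : MulAut Q) ∈ autInducedBy S Q from hb)
    have hq : (k : Ω) * g * (k : Ω)⁻¹ * (g : Ω)⁻¹ ∈ Q := hc _ k.2 _ g.2
    show (↑(b * a * (a * b)⁻¹) : MulAut Q) ∈ Inn Q
    rw [Subgroup.coe_mul, Subgroup.coe_inv, Subgroup.coe_mul, Subgroup.coe_mul, ← hg, ← hk,
      ← map_mul, ← map_mul, ← map_inv, ← map_mul, inn_eq_autInducedBy]
    refine mem_autInducedBy.2 ⟨_, hq, fun x hx => ?_⟩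
    rw [hσ _ x hx]
    simp only [Subgroup.coe_mul, Subgroup.coe_inv, mul_inv_rev, mul_assoc, inv_inv]
  let M0 : Subgroup (↥A ⧸ I) := (MonoidHom.transferSylow P1 hnorm).ker
  have hM0 : ¬ p ∣ Nat.card M0 := MonoidHom.not_dvd_card_ker_transferSylow P1 hnorm
  have hM0c := MonoidHom.ker_transferSylow_isComplement' P1 hnorm
  let M : Subgroup ↥A := M0.comap π
  have hIM : I ≤ M := fun x hx => by
    rw [Subgroup.mem_comap, show π x = 1 from (QuotientGroup.eq_one_iff x).2 hx]; exact M0.one_mem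
  haveI : M.Normal := Subgroup.Normal.comap inferInstance π
  haveI : (I.subgroupOf M).Normal := hI.subgroupOf M
  have hindex : (I.subgroupOf M).index = Nat.card M0 := by
    have h := Subgroup.index_ker (π.comp M.subtype)
    rw [← MonoidHom.comap_ker, QuotientGroup.ker_mk', MonoidHom.range_eq_map, ← Subgroup.map_map,
      ← MonoidHom.range_eq_map, Subgroup.range_subtype,
      Subgroup.map_comap_eq_self_of_surjective (QuotientGroup.mk'_surjective I)] at h
    exact h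
  have hIcard : Nat.card ↥(I.subgroupOf M) = Nat.card I :=
    Nat.card_congr (Subgroup.subgroupOfEquivOfLe hIM).toEquiv
  obtain ⟨n, hn'⟩ := IsPGroup.iff_card.1 hIp
  have hcop : (Nat.card ↥(I.subgroupOf M)).Coprime (I.subgroupOf M).index := by
    rw [hIcard, hindex, hn']
    exact ((Fact.out : p.Prime).coprime_iff_not_dvd.2 hM0).pow_left n
  obtain ⟨H', hH'⟩ := Subgroup.exists_right_complement'_of_coprime hcop
  let H : Subgroup (MulAut Q) := H'.map (A.subtype.comp M.subtype)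
  have hinj : Function.Injective (A.subtype.comp M.subtype) :=
    A.subtype_injective.comp M.subtype_injective
  have hHcard : Nat.card H = Nat.card M0 := by
    rw [Subgroup.card_map_of_injective hinj, ← hindex]
    exact hH'.symm.index_eq_card.symm
  have hHcop : (Nat.card H).Coprime p := by
    rw [hHcard]; exact Nat.Coprime.symm ((Fact.out : p.Prime).coprime_iff_not_dvd.2 hM0)
  have hHI : ∀ h ∈ H, h ∈ Inn Q → h = 1 := by
    rintro _ ⟨x, hx, rfl⟩ hI'
    have : x = 1 := Subgroup.disjoint_def.1 hH'.disjoint (show x ∈ I.subgroupOf M from hI') hx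
    rw [this, map_one]
  have hHA : H ≤ A := Subgroup.map_le_iff_le_comap.2 fun x _ => (x : ↥A).2
  -- `S` normalizes the complement
  have hS' : (Subgroup.normalizer (H : Set (MulAut Q))).comap σ = ⊤ := by
    refine frattini_nongenerating (top_le_iff.1 fun g _ => ?_)
    let a : ↥A := ⟨σ g, autInducedBy_le_autGroup hQ (hσT g)⟩
    let C : ↥M ≃* ↥M := MulAut.conjNormal a
    haveI : Group.IsSolvable ↥(I.subgroupOf M) :=
      haveI : Group.IsNilpotent ↥(I.subgroupOf M) :=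
        (hIp.comap_of_injective _ M.subtype_injective).isNilpotent
      inferInstance
    obtain ⟨m, hm⟩ := CfsgLib.Solv.schur_zassenhaus_conj (I.subgroupOf M) H' (H'.map C.toMonoidHom) hcop
      (Or.inl inferInstance) hH'.symm.index_eq_card.symm (by
        exact (Nat.card_congr (C.subgroupMap H').toEquiv).symm.trans hH'.symm.index_eq_card.symm)
    obtain ⟨i, hi⟩ := Subgroup.IsComplement.existsUnique hH' m |>.exists
    obtain ⟨q, hq⟩ : ((i.1 : ↥M) : ↥A).1 ∈ (MulAut.conj : ↥Q →* MulAut Q).range := i.1.2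
    have hkey : (σ (ι q))⁻¹ * σ g ∈ Subgroup.normalizer (H : Set (MulAut Q)) := by
      rw [hσι, hq]
      haveI := Fintype.ofFinite H
      refine CfsgLib.Fus.mem_normalizer_of_conj (fun h hh => ?_) fun h hh => ?_
      · obtain ⟨x, hx, rfl⟩ := hh
        have h1 : C x ∈ MulAut.conj m • H' := hm ▸ ⟨x, hx, rfl⟩
        obtain ⟨y, hy, hye⟩ := h1
        refine ⟨(i.2 : ↥M) * y * (i.2 : ↥M)⁻¹, H'.mul_mem (H'.mul_mem i.2.2 hy) (H'.inv_mem i.2.2), ?_⟩
        have h2 : (i.2 : ↥M) * y * (i.2 : ↥M)⁻¹ = (i.1 : ↥M)⁻¹ * C x * (i.1 : ↥M) := by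
          rw [← hye, ← hi]
          simp [MulAut.smul_def, mul_assoc]
        rw [h2]
        simp [C, a, mul_assoc, MulAut.conjNormal_apply]
      · have hb : Set.SurjOn (fun h => (((i.1 : ↥M) : ↥A).1⁻¹ * σ g) * h * (((i.1 : ↥M) : ↥A).1⁻¹ * σ g)⁻¹)
            (H : Set (MulAut Q)) H := by
          refine ((Set.Finite.injOn_iff_bijOn_of_mapsTo (Set.toFinite _) ?_).1
            fun a _ b _ e => mul_left_cancel (mul_right_cancel e)).surjOn
          rintro _ ⟨x, hx, rfl⟩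
          have h1 : C x ∈ MulAut.conj m • H' := hm ▸ ⟨x, hx, rfl⟩
          obtain ⟨y, hy, hye⟩ := h1
          refine ⟨(i.2 : ↥M) * y * (i.2 : ↥M)⁻¹, H'.mul_mem (H'.mul_mem i.2.2 hy) (H'.inv_mem i.2.2), ?_⟩
          have h2 : (i.2 : ↥M) * y * (i.2 : ↥M)⁻¹ = (i.1 : ↥M)⁻¹ * C x * (i.1 : ↥M) := by
            rw [← hye, ← hi]
            simp [MulAut.smul_def, mul_assoc]
          rw [h2]
          simp [C, a, mul_assoc, MulAut.conjNormal_apply]
        obtain ⟨k, hk, rfl⟩ := hb hh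
        simpa [mul_assoc] using hk
    rw [← mul_inv_cancel_left (ι q) g, sup_comm]
    refine Subgroup.mul_mem_sup ?_ (by rw [Subgroup.mem_comap, map_mul, map_inv]; exact hkey)
    obtain ⟨y, hy, hye⟩ := hfr q.2
    rwa [← show y = ι q from Subtype.ext hye]
  have hσH : ∀ g, ∀ h ∈ H, σ g * h * (σ g)⁻¹ ∈ H := fun g h hh =>
    (Subgroup.mem_normalizer_iff.1 (show σ g ∈ Subgroup.normalizer (H : Set (MulAut Q)) from
      Subgroup.mem_comap.1 (hS'.ge (Subgroup.mem_top g))) h).1 hh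
  have hqr : ∀ q, ∀ r ∈ H, σ (ι q) * r = r * σ (ι q) := fun q r hr => by
    have h1 : σ (ι q) * r * (σ (ι q))⁻¹ * r⁻¹ = 1 := by
      refine hHI _ (H.mul_mem (hσH _ r hr) (H.inv_mem hr)) ?_
      rw [hσι, mul_assoc, mul_assoc]
      refine (Inn Q).mul_mem ⟨q, rfl⟩ ?_
      rw [← mul_assoc, ← map_inv]
      exact inn_normal.conj_mem _ ⟨q⁻¹, rfl⟩ r
    exact mul_inv_eq_iff_eq_mul.1 (eq_of_mul_inv_eq_one h1)
  have hH : H = ⊥ := by
    refine eq_bot_of_crossed (p := p) (hS.to_le hQ) σ ι hσι ?_ ?_ H hHcop hσH fun r hr => ?_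
    · intro g q
      exact Subtype.ext ((autFun_apply (σ g) q).symm.trans (hσ g q q.2))
    · rintro _ ⟨q, rfl⟩
      obtain ⟨y, hy, hye⟩ := hfr q.2
      rwa [← show y = ι q from Subtype.ext hye]
    · classical
      let U : Subgroup Ω := ((Subgroup.centralizer {r}).comap σ).map S.subtype
      have hU : ∀ g : ↥S, σ g * r = r * σ g → (g : Ω) ∈ U := fun g h =>
        ⟨g, Subgroup.mem_centralizer_singleton_iff.2 h, rfl⟩
      have hQU : Q ≤ U := fun x hx => hU (ι ⟨x, hx⟩) (hqr ⟨x, hx⟩ r hr)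
      have hUS : U ≤ S := Subgroup.map_subtype_le _
      haveI := finite_of_le hUS
      have hUc : ∀ g (hg : g ∈ U), σ ⟨g, hUS hg⟩ * r = r * σ ⟨g, hUS hg⟩ := by
        rintro _ ⟨g, hg, rfl⟩
        exact Subgroup.mem_centralizer_singleton_iff.1 hg
      obtain ⟨f, hf, hfe⟩ := extend_aut hR (hHA hr) (N := U)
        (le_inf hUS (hUS.trans hn)) fun g hg γ hγ => by
          obtain rfl : γ = σ ⟨g, hUS hg⟩ := aut_ext fun x hx => (hγ x hx).trans (hσ ⟨g, hUS hg⟩ x hx).symm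
          rw [← hUc g hg, mul_inv_cancel_right]
          exact hσT _
      rw [sup_eq_right.2 hQU] at hf
      have hfU : img f U = U := by
        refine Subgroup.eq_of_le_of_card_ge (img_le_iff.2 fun g hg => ?_) hf.card_img.ge
        have h1 : σ ⟨f g, hf.mem hg⟩ = σ ⟨g, hUS hg⟩ := by
          refine mul_right_cancel (b := r) ((?_ : _ = _).trans (hUc g hg).symm)
          refine aut_ext fun x hx => ?_
          rw [autFun_mul _ _ hx, autFun_mul _ _ hx, hσ _ _ (autFun_mem _ hx), hσ _ _ hx, ← hfe x hx,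
            ← hfe _ (conj_mem_of_normalizer (hn (hUS hg)) hx)]
          exact (hf.map_conj hg (hQU hx)).symm
        exact hU ⟨f g, hf.mem hg⟩ (h1 ▸ hUc g hg)
      obtain ⟨β, hβ, hβe⟩ := exists_aut hf hfU
      have htriv := trivial_mod_of_stab hS hF hinn hc hQU hUS hβ fun x hx => by
        rw [hβe x (hQU hx), hfe x hx]; exact autFun_mem _ hx
      have hmem : ∀ g ∈ U, f g * g⁻¹ ∈ Q := fun g hg => by
        have h1 := conj_mem_of_normalizer (hn (hUS hg)) (htriv g hg)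
        rwa [mul_inv_cancel_left, hβe g hg] at h1
      refine ⟨fun g => if h : (g : Ω) ∈ U then ⟨_, hmem g h⟩ else 1, fun u v hu hv => ?_, fun q hq => ?_⟩
      · have hu' := hU u hu
        have hv' := hU v hv
        simp only [Subgroup.coe_mul, dif_pos (U.mul_mem hu' hv'), dif_pos hu', dif_pos hv']
        refine Subtype.ext ?_
        have key : ((σ u ⟨_, hmem _ hv'⟩ : ↥Q) : Ω) = (u : Ω) * (f v * (v : Ω)⁻¹) * (u : Ω)⁻¹ :=
          (autFun_apply (σ u) _).symm.trans (hσ u _ (hmem _ hv'))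
        show f ((u : Ω) * v) * ((u : Ω) * v)⁻¹ = f u * (u : Ω)⁻¹ * ((σ u ⟨_, hmem _ hv'⟩ : ↥Q) : Ω)
        rw [key, hf.map_mul hu' hv', mul_inv_rev]
        simp [mul_assoc]
      · simp only [dif_pos (hQU q.2 : ((ι q : ↥S) : Ω) ∈ U)]
        refine Subtype.ext ?_
        show f (q : Ω) * (q : Ω)⁻¹ = (r q : Ω) * (q : Ω)⁻¹
        rw [hfe q q.2, autFun_apply r q]
  -- conclusion
  have hM01 : M0 = ⊥ := by
    rw [← Subgroup.card_eq_one, ← hHcard, hH, Subgroup.card_bot]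
  have hP1top : (P1 : Subgroup (↥A ⧸ I)) = ⊤ :=
    Subgroup.isComplement'_bot_left.1 (hM01 ▸ hM0c)
  refine le_antisymm (fun α hα => ?_) (autInducedBy_le_autGroup hQ)
  have h1 : (⟨α, hα⟩ : ↥A) ∈ (T.map π).comap π := by
    rw [Subgroup.mem_comap, ← hP1, hP1top]; trivial
  rw [hcomap] at h1
  exact h1

/-- For `Aut_F(S) = Inn(S)` and `[S, S] ≤ Q ≤ Φ(S)`, a map extending to one fixing `Q` is inner. -/
theorem inner_of_normalizes [Finite S] [Fact p.Prime] (hS : IsPGroup p S) (hF : F.IsSaturated p)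
    (hinn : ∀ α ∈ F.autGroup S, ∃ s ∈ S, ∀ x ∈ S, autFun α x = s * x * s⁻¹) {Q : Subgroup Ω}
    (hc : ∀ a ∈ S, ∀ b ∈ S, a * b * a⁻¹ * b⁻¹ ∈ Q) (hfr : Q ≤ (frattini ↥S).map S.subtype)
    {P : Subgroup Ω} (hQP : Q ≤ P) {f : Ω → Ω} (hf : IsMap F P f) (hfQ : img f Q = Q) :
    ∃ s ∈ S, ∀ x ∈ P, f x = s * x * s⁻¹ := by
  have hAQ := autGroup_eq_autInducedBy hS hF hinn hc hfr
  have hQP' : Q ≤ img f P := hfQ.ge.trans (img_mono hQP)
  have hP'S := hf.img_le
  have hn := le_normalizer_of_abelian hc hQP hf.le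
  have hn' := le_normalizer_of_abelian hc hQP' hP'S
  refine extend_top hS hF hinn hc hQP' hf rfl hn fun g hg => ?_
  haveI := finite_mulAut hP'S
  haveI := finite_of_le hP'S
  obtain ⟨f', hf', hl, hr, hi⟩ := hf.inv
  let j : Ω → Ω := fun y => f (g * f' y * g⁻¹)
  have hf'P : ∀ y ∈ img f P, f' y ∈ P := fun y hy => hi ▸ mem_img_of_mem hy
  have hj : IsMap F (img f P) j := by
    refine ((hf'.comp (IsMap.conj F hf.le hg) hf'P).comp hf fun y hy => ?_).congr fun y _ => rfl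
    exact conj_mem_of_normalizer (hn hg) (hf'P y hy)
  have hjim : img j (img f P) = img f P := Subgroup.eq_of_le_of_card_ge (img_le_iff.2 fun y hy =>
    mem_img_of_mem (conj_mem_of_normalizer (hn hg) (hf'P y hy))) hj.card_img.ge
  obtain ⟨α, hα, hαe⟩ := exists_aut hj hjim
  have hαQ : ∀ x ∈ Q, autFun α x ∈ Q := fun x hx => by
    rw [hαe x (hQP' hx)]
    obtain ⟨y, hy, rfl⟩ := (hf.mono hQP).mem_img.1 (hfQ.ge hx)
    show f (g * f' (f y) * g⁻¹) ∈ Q
    rw [hl y (hQP hy)]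
    exact hfQ.le (mem_img_of_mem (conj_mem_of_normalizer
      (le_normalizer_of_abelian hc le_rfl (hQP.trans hf.le) hg) hy))
  obtain ⟨hA, -⟩ := fullyNormalized_spec hS hF (fullyNormalized_of_abelian (F := F) hc hQP' hP'S)
  -- the stabilizer of `Q` is a `p`-group
  let T : Subgroup (MulAut ↥(img f P)) := autInducedBy S (img f P)
  let B : Subgroup (MulAut ↥(img f P)) :=
    { carrier := {β | β ∈ F.autGroup (img f P) ∧ img (autFun β) Q = Q}
      one_mem' := ⟨one_mem _, (img_congr (g := id) fun x hx => autFun_one (hQP' hx)).trans (img_id Q)⟩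
      mul_mem' := fun {a b} ha hb => ⟨mul_mem ha.1 hb.1, by
        rw [img_congr (g := autFun a ∘ autFun b) fun x hx => autFun_mul a b (hQP' hx),
          (((mem_autGroup hP'S).1 hb.1).mono hQP').img_comp, hb.2, ha.2]⟩
      inv_mem' := fun {a} ha => ⟨inv_mem ha.1, by
        conv_lhs => rw [← ha.2]
        rw [← (((mem_autGroup hP'S).1 ha.1).mono hQP').img_comp]
        refine (img_congr (g := id) fun x hx => ?_).trans (img_id Q)
        rw [Function.comp_apply, ← autFun_mul _ _ (hQP' hx), inv_mul_cancel, autFun_one (hQP' hx)]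
        rfl⟩ }
  haveI := finite_of_le (hQP'.trans hP'S)
  have hαB : α ∈ B := ⟨hα, Subgroup.eq_of_le_of_card_ge (img_le_iff.2 hαQ)
    (((mem_autGroup hP'S).1 hα).mono hQP').card_img.ge⟩
  have hBp : ∀ β ∈ B, ∃ k, β ^ p ^ k = 1 := fun β hβ => by
    obtain ⟨b, hb, hbe⟩ := exists_aut (((mem_autGroup hP'S).1 hβ.1).mono hQP') hβ.2
    rw [hAQ] at hb
    obtain ⟨k, hk⟩ := isPGroup_autInducedBy hS ⟨b, hb⟩
    have hbk : ∀ (n : ℕ), ∀ x ∈ Q, autFun (β ^ n) x = autFun (b ^ n) x := fun n =>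
      autFun_pow_agree hQP' (fun x hx => (hbe x hx).symm) n
    have hfix : ∀ x ∈ Q, autFun (β ^ p ^ k) x = x := fun x hx => by
      rw [hbk _ x hx, show b ^ p ^ k = 1 from congrArg Subtype.val hk, autFun_one hx]
    have hβk : β ^ p ^ k ∈ F.autGroup (img f P) := pow_mem hβ.1 _
    have htriv := trivial_mod_of_stab hS hF hinn hc hQP' hP'S hβk fun x hx =>
      (hfix x hx).symm ▸ hx
    set γ := β ^ p ^ k
    have hmul : ∀ (x : ↥(img f P)) (n : ℕ),
        autFun (γ ^ n) (x : Ω) = x * ((x : Ω)⁻¹ * autFun γ x) ^ n := by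
      intro x n
      induction n with
      | zero => rw [pow_zero, pow_zero, autFun_one x.2, mul_one]
      | succ n ih =>
        rw [pow_succ', autFun_mul _ _ x.2, ih,
          autFun_map_mul _ x.2 (hQP' (Q.pow_mem (htriv x x.2) n)), hfix _ (Q.pow_mem (htriv x x.2) n),
          pow_succ', ← mul_assoc (x : Ω) ((x : Ω)⁻¹ * autFun γ x), mul_inv_cancel_left]
    obtain ⟨l, hl'⟩ := IsPGroup.iff_card.1 (hS.to_le (hQP'.trans hP'S))
    refine ⟨k + l, ?_⟩
    rw [pow_add, pow_mul]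
    refine aut_ext fun x hx => ?_
    rw [hmul ⟨x, hx⟩, ← hl', autFun_one hx]
    have : (⟨_, htriv x hx⟩ : ↥Q) ^ Nat.card Q = 1 := pow_card_eq_one'
    rw [show ((x⁻¹ * autFun γ x) ^ Nat.card Q) = 1 from congrArg Subtype.val this, mul_one]
  have hTB : T ≤ B := fun t ht => ⟨autInducedBy_le_autGroup hP'S ht, by
    obtain ⟨a, ha, hae⟩ := mem_autInducedBy.1 ht
    have hna := le_normalizer_of_abelian hc le_rfl (hQP.trans hf.le) ha
    rw [img_congr (g := conjF a) fun x hx => hae x (hQP' hx)]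
    refine le_antisymm (img_le_iff.2 fun x hx => conj_mem_of_normalizer hna hx) fun x hx => ?_
    rw [show x = conjF a (a⁻¹ * x * a) by simp [mul_assoc]]
    exact mem_img_of_mem (conj_mem_of_normalizer' hna hx)⟩
  have hBT : B ≤ T := by
    rw [← Subgroup.relIndex_eq_one]
    have hBg : IsPGroup p ↥B := fun b => (hBp b b.2).imp fun k hk => Subtype.ext hk
    obtain ⟨l, hl'⟩ := (hBg.index (T.subgroupOf B))
    have hnd : ¬ p ∣ T.relIndex B := fun h => ((fa_iff hS).1 hA).2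
      (h.trans (Dvd.intro _ (Subgroup.relIndex_mul_relIndex _ _ _ hTB fun x hx => hx.1)))
    rcases l with _ | l
    · exact hl'.trans (pow_zero p)
    · exact absurd (hl'.symm ▸ dvd_pow_self p l.succ_ne_zero : p ∣ (T.subgroupOf B).index) hnd
  obtain ⟨s, hs, hse⟩ := mem_autInducedBy.1 (hBT hαB)
  refine ⟨s, hs, fun x hx => ?_⟩
  have h := hse _ (mem_img_of_mem hx)
  rw [hαe _ (mem_img_of_mem hx)] at h
  simp only [j, hl x hx] at h
  exact h

end CfsgLib.Fus
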