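import Cfsg.Agent.Fus.StableTransfer
import Cfsg.Agent.Fus.SelfNorm
import Cfsg.Agent.Fus.Generation
import Cfsg.Agent.Fus.NormalizerSystem
import Cfsg.Agent.Solv.FittingBasic
import Cfsg.Agent.Solv.PComplement
import Cfsg.Agent.Perm.MinClass

/-!
Tate's theorem for fusion systems, the focal and hyperfocal subgroups.
-/

set_option autoImplicit false
set_option linter.style.haveILetI false

open Cfsg Cfsg.FusionSystem
open scoped commutatorElement

namespace CfsgLib.Fus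

variable {Ω : Type*} [Group Ω] {S : Subgroup Ω} {F : FusionSystem S} {p : ℕ}

theorem map_commutator_subtype (T : Subgroup Ω) : (commutator ↥T).map T.subtype = ⁅T, T⁆ := by
  rw [commutator_def, Subgroup.map_commutator, ← MonoidHom.range_eq_map, Subgroup.range_subtype]

/-- Automorphisms of order prime to `p` are trivial modulo `T`. -/
def PTriv (F : FusionSystem S) (p : ℕ) (T : Subgroup Ω) : Prop :=
  ∀ P ≤ S, ∀ α ∈ F.autGroup P, (orderOf α).Coprime p → ∀ x ∈ P, x⁻¹ * autFun α x ∈ T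

theorem hyperfocal_le_iff {T : Subgroup Ω} : F.hyperfocalSubgroup p ≤ T ↔ PTriv F p T := by
  constructor
  · intro h P hP α hα hc x hx
    refine h (Subgroup.subset_closure ⟨P, ⟨α, hα⟩, ⟨x, hx⟩, hP, CfsgLib.Inv.mem_pResidual ?_, ?_⟩)
    · rwa [← Subgroup.orderOf_coe]
    · rw [autFun_of_mem α hx]
  · intro h
    refine (Subgroup.closure_le _).2 ?_
    rintro _ ⟨P, α, x, hP, hα, rfl⟩
    let K : Subgroup (MulAut P) :=
      { carrier := {β | ∀ y ∈ P, y⁻¹ * autFun β y ∈ T}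
        one_mem' := fun y hy => by rw [autFun_one hy, inv_mul_cancel]; exact T.one_mem
        mul_mem' := fun {a b} ha hb y hy => by
          have h1 := T.mul_mem (hb y hy) (ha _ (autFun_mem b hy))
          rwa [← autFun_mul _ _ hy, mul_assoc, mul_inv_cancel_left] at h1
        inv_mem' := fun {a} ha y hy => by
          have h1 := T.inv_mem (ha _ (autFun_mem a⁻¹ hy))
          rwa [← autFun_mul _ _ hy, mul_inv_cancel, autFun_one hy, mul_inv_rev, inv_inv] at h1 }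
    have hle : pResidual p ↥(F.autGroup P) ≤ K.subgroupOf (F.autGroup P) := by
      refine (Subgroup.closure_le _).2 fun β hβ y hy => h P hP _ β.2 ?_ y hy
      rw [Subgroup.orderOf_coe]; exact hβ
    have h1 := hle hα x x.2
    rw [show (Subgroup.subtype _ α : MulAut P) = (α : MulAut P) from rfl, autFun_apply] at h1
    exact h1

theorem hyperfocal_le [Finite S] (hS : IsPGroup p S) : F.hyperfocalSubgroup p ≤ S := by
  refine hyperfocal_le_iff.2 fun P hP α _ _ x hx => ?_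
  exact S.mul_mem (S.inv_mem (hP hx)) (hP (autFun_mem α hx))

theorem hyperfocal_normal [Finite S] (hS : IsPGroup p S) :
    S ≤ Subgroup.normalizer (F.hyperfocalSubgroup p : Set Ω) := by
  refine le_normalizer_of_forall fun a ha k hk => ?_
  suffices h : F.hyperfocalSubgroup p ≤ (F.hyperfocalSubgroup p).comap (MulAut.conj a).toMonoidHom from h hk
  refine hyperfocal_le_iff.2 fun P hP α hα hc x hx => ?_
  show a * (x⁻¹ * autFun α x) * a⁻¹ ∈ F.hyperfocalSubgroup p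
  have hf := IsMap.conj F hP ha
  obtain ⟨e, he⟩ := hf.equiv rfl
  have hα' := congr_mem_autGroup hf rfl he hα
  have h1 := hyperfocal_le_iff.1 le_rfl (img (conjF a) P) hf.img_le _ hα'
    (by rwa [MulEquiv.orderOf_eq]) (conjF a x) (mem_img_of_mem hx)
  rw [autFun_congr he α hx] at h1
  simpa [mul_assoc] using h1

/-- If `p'`-automorphisms are trivial modulo a normal subgroup, every map is conjugation modulo it. -/
theorem conj_mod [Finite S] [Fact p.Prime] (hS : IsPGroup p S) (hF : F.IsSaturated p) {T : Subgroup Ω}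
    (hTn : S ≤ Subgroup.normalizer (T : Set Ω)) (h : PTriv F p T) {P : Subgroup Ω} {f : Ω → Ω}
    (hf : IsMap F P f) : ∃ c ∈ S, ∀ x ∈ P, (c * x * c⁻¹)⁻¹ * f x ∈ T := by
  let C : Subgroup Ω → (Ω → Ω) → Prop := fun P f => ∃ c ∈ S, ∀ x ∈ P, (c * x * c⁻¹)⁻¹ * f x ∈ T
  have hcongr : ∀ P f g, (∀ x ∈ P, f x = g x) → C P f → C P g := by
    rintro P f g hfg ⟨c, hc, h⟩
    exact ⟨c, hc, fun x hx => hfg x hx ▸ h x hx⟩
  let E := subSystem F C hcongr
    (fun P a hP ha => ⟨a, ha, fun x hx => by rw [conjF_apply, inv_mul_cancel]; exact T.one_mem⟩)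
    (fun P R f g hf hg ⟨c, hc, h1⟩ ⟨d, hd, h2⟩ hPR => ⟨d * c, S.mul_mem hd hc, fun x hx => by
      have := T.mul_mem (conj_mem_of_normalizer (hTn hd) (h1 x hx)) (h2 _ (hPR x hx))
      simpa [mul_assoc] using this⟩)
    (fun P f g hf ⟨c, hc, h1⟩ hg hgf => ⟨c⁻¹, S.inv_mem hc, fun y hy => by
      obtain ⟨x, hx, rfl⟩ := hf.mem_img.1 hy
      rw [hgf x hx]
      have := conj_mem_of_normalizer' (hTn hc) (T.inv_mem (h1 x hx))
      simpa [mul_assoc] using this⟩)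
  suffices hle : F ≤ E from (isMap_subSystem.1 (le_iff.1 hle P f hf)).2
  refine fusion_induction hS hF E fun R hR _ α hα => ?_
  haveI := finite_mulAut hR.1
  obtain ⟨Rs, hRs⟩ := (fullyNormalized_spec hS hF hR).1.2
  haveI := CfsgLib.Inv.pResidual_normal p ↥(F.autGroup R)
  obtain ⟨β, hβ, γ, hγ, hβγ⟩ := Subgroup.mem_sup_of_normal_right.1
    ((CfsgLib.Solv.sylow_sup_pResidual Rs).ge (Subgroup.mem_top ⟨α, hα⟩))
  rw [hRs] at hβ
  have hE : ∀ δ : ↥(F.autGroup R), C R (autFun (δ : MulAut R)) → (δ : MulAut R) ∈ E.autGroup R := fun δ hδ =>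
    (mem_autGroup hR.1).2 (isMap_subSystem.2 ⟨(mem_autGroup hR.1).1 δ.2, hδ⟩)
  obtain ⟨s, hs, hse⟩ := mem_autInducedBy.1 (Subgroup.mem_subgroupOf.1 hβ)
  have hγT : ∀ x ∈ R, x⁻¹ * autFun (γ : MulAut R) x ∈ T := fun x hx => by
    refine hyperfocal_le_iff.2 h (Subgroup.subset_closure ⟨R, γ, ⟨x, hx⟩, hR.1, hγ, ?_⟩)
    rw [autFun_of_mem _ hx]
  have := (E.autGroup R).mul_mem (hE β ⟨s, hs, fun x hx => by rw [hse x hx, inv_mul_cancel]; exact T.one_mem⟩)
    (hE γ ⟨1, S.one_mem, fun x hx => by simpa using hγT x hx⟩)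
  rwa [← Subgroup.coe_mul, hβγ] at this

/-- One descent step: `p'`-automorphisms trivial modulo `T` are trivial modulo `U`. -/
theorem ptriv_step [Finite S] [Fact p.Prime] (hS : IsPGroup p S) (hF : F.IsSaturated p)
    {T U W : Subgroup Ω} (hTS : T ≤ S) (hUT : U ≤ T) (hTn : S ≤ Subgroup.normalizer (T : Set Ω))
    (hUn : S ≤ Subgroup.normalizer (U : Set Ω))
    (hcomm : ∀ t ∈ T, ∀ s ∈ S, s * t * s⁻¹ * t⁻¹ ∈ U) (hexp : ∀ t ∈ T, t ^ p ∈ U)
    (hTW : T ≤ (frattini ↥S).map S.subtype ⊔ W)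
    (hW : W ≤ Subgroup.closure {y | ∃ P ≤ S, ∃ α ∈ F.autGroup P, (orderOf α).Coprime p ∧
      ∃ x ∈ P, y = x⁻¹ * autFun α x ∧ y ∈ U})
    (hT : PTriv F p T) : PTriv F p U := by
  haveI hN : (U.subgroupOf S).Normal := ⟨fun a ha b => conj_mem_of_normalizer (P := U) (hUn b.2) ha⟩
  let π := QuotientGroup.mk' (U.subgroupOf S)
  let Z := (T.subgroupOf S).map π
  have hπ1 : ∀ g : ↥S, π g = 1 ↔ (g : Ω) ∈ U := fun g => QuotientGroup.eq_one_iff g
  have hZ : Z ≤ Subgroup.center _ := by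
    rintro _ ⟨t, ht, rfl⟩
    refine Subgroup.mem_center_iff.2 fun b => ?_
    obtain ⟨s, rfl⟩ := QuotientGroup.mk'_surjective (U.subgroupOf S) b
    rw [← mul_inv_eq_iff_eq_mul, ← mul_inv_eq_one (a := π s * π t * (π s)⁻¹)]
    rw [← map_mul, ← map_inv, ← map_mul, ← map_inv, ← map_mul, hπ1]
    exact hcomm _ ht _ s.2
  have hπZ : ∀ g : ↥S, π g ∈ Z → (g : Ω) ∈ T := by
    rintro g ⟨t, ht, he⟩
    have h1 : ((t⁻¹ * g : ↥S) : Ω) ∈ U := (hπ1 _).1 (by rw [map_mul, map_inv, he, inv_mul_cancel])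
    simpa using T.mul_mem ht (hUT h1)
  obtain ⟨m, D, hm, hD, -⟩ := exists_stable_transfer hS hF (hS.to_quotient (U.subgroupOf S)) π Z hZ
    fun P f hf => by
      obtain ⟨c, hc, hce⟩ := conj_mod hS hF hTn hT hf
      refine ⟨π ⟨c, hc⟩, fun q hq hfq => ?_⟩
      rw [← map_mul, ← map_inv, ← map_mul, ← map_inv, ← map_mul]
      refine ⟨_, ?_, rfl⟩
      show (c * (q.1 : Ω) * c⁻¹)⁻¹ * (q.2 : Ω) ∈ T
      rw [← hfq]
      exact hce _ hq
  have hexpZ : ∀ z : Z, z ^ p = 1 := by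
    rintro ⟨_, t, ht, rfl⟩
    refine Subtype.ext ?_
    show π t ^ p = 1
    rw [← map_pow, hπ1, Subgroup.coe_pow]
    exact hexp _ ht
  let K : Subgroup Ω := D.ker.map S.subtype
  have hker : (frattini ↥S).map S.subtype ≤ K := by
    refine Subgroup.map_mono (CfsgLib.Solv.frattini_le_of_elementary (p := p) D.ker ?_ fun x => ?_)
    · rw [commutator_def, Subgroup.commutator_le]
      intro a _ b _
      rw [MonoidHom.mem_ker, map_commutatorElement, commutatorElement_eq_one_iff_mul_comm]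
      exact Subtype.ext (Subgroup.mem_center_iff.1 (hZ (D b).2) _)
    · rw [MonoidHom.mem_ker, map_pow, hexpZ]
  have hy : ∀ P ≤ S, ∀ α ∈ F.autGroup P, (orderOf α).Coprime p → ∀ x ∈ P,
      ∃ g : ↥S, (g : Ω) = x⁻¹ * autFun α x ∧ π g ∈ Z ∧ (D g : ↥S ⧸ U.subgroupOf S) = π g ^ m := by
    intro P hP α hα hc x hx
    have hx' := hP (autFun_mem α hx)
    refine ⟨(⟨x, hP hx⟩ : ↥S)⁻¹ * ⟨_, hx'⟩, rfl, ⟨_, hT P hP α hα hc x hx, rfl⟩, ?_⟩
    rw [map_mul π, map_inv π]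
    refine hD P α hP hα hc (fun g g' hg hg' => ?_) _ _ hx rfl
    rw [← map_inv, ← map_mul]
    refine ⟨_, ?_, rfl⟩
    show (g : Ω)⁻¹ * (g' : Ω) ∈ T
    rw [hg']
    exact hT P hP α hα hc _ hg
  have hWK : W ≤ K := hW.trans ((Subgroup.closure_le _).2 (by
    rintro y ⟨P, hP, α, hα, hc, x, hx, rfl, hyU⟩
    obtain ⟨g, hg, -, hDg⟩ := hy P hP α hα hc x hx
    refine ⟨g, MonoidHom.mem_ker.2 (Subtype.ext ?_), hg⟩
    rw [hDg, (hπ1 g).2 (hg ▸ hyU), one_pow]
    rfl))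
  intro P hP α hα hc x hx
  obtain ⟨g, hg, hgZ, hDg⟩ := hy P hP α hα hc x hx
  obtain ⟨g', hg', hgg⟩ := (hTW.trans (sup_le hker hWK)) (hπZ g hgZ)
  obtain rfl : g' = g := Subtype.ext hgg
  rw [MonoidHom.mem_ker.1 hg', OneMemClass.coe_one] at hDg
  rw [← hg, ← hπ1]
  refine orderOf_eq_one_iff.1 (Nat.eq_one_of_dvd_coprimes ((Fact.out : p.Prime).coprime_iff_not_dvd.2 hm).symm
    (orderOf_dvd_of_pow_eq_one hDg.symm) (orderOf_dvd_of_pow_eq_one ?_))
  exact congrArg Subtype.val (hexpZ ⟨_, hgZ⟩)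

/-- Descent to a normal subgroup generated by displacements inside it. -/
theorem ptriv_descent [Finite S] [Fact p.Prime] (hS : IsPGroup p S) (hF : F.IsSaturated p)
    {W : Subgroup Ω} (hWn : S ≤ Subgroup.normalizer (W : Set Ω))
    (hW : W ≤ Subgroup.closure {y | ∃ P ≤ S, ∃ α ∈ F.autGroup P, (orderOf α).Coprime p ∧
      ∃ x ∈ P, y = x⁻¹ * autFun α x ∧ y ∈ W}) :
    ∀ T : Subgroup Ω, T ≤ S → W ≤ T → S ≤ Subgroup.normalizer (T : Set Ω) →
      T ≤ (frattini ↥S).map S.subtype ⊔ W → PTriv F p T → PTriv F p W := by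
  intro T
  suffices h : ∀ n (T : Subgroup Ω), Nat.card T = n → T ≤ S → W ≤ T → S ≤ Subgroup.normalizer (T : Set Ω) →
      T ≤ (frattini ↥S).map S.subtype ⊔ W → PTriv F p T → PTriv F p W from h _ T rfl
  intro n
  induction n using Nat.strong_induction_on with
  | _ n ih =>
  intro T hn hTS hWT hTn hTW hT
  rcases hWT.eq_or_lt with rfl | hlt
  · exact hT
  -- a maximal normal subgroup strictly below `T` containing `W`
  haveI := finite_of_le hTS
  obtain ⟨U, ⟨hWU, hUT, hUn⟩, hUmax⟩ : ∃ U : Subgroup Ω,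
      (W ≤ U ∧ U < T ∧ S ≤ Subgroup.normalizer (U : Set Ω)) ∧
      ∀ V : Subgroup Ω, (W ≤ V ∧ V < T ∧ S ≤ Subgroup.normalizer (V : Set Ω)) → U ≤ V → V = U := by
    have hfin : {V : Subgroup Ω | W ≤ V ∧ V < T ∧ S ≤ Subgroup.normalizer (V : Set Ω)}.Finite := by
      refine Set.Finite.subset ((Set.finite_range fun K : Subgroup ↥T => K.map T.subtype)) ?_
      rintro V ⟨-, hV, -⟩
      exact ⟨V.subgroupOf T, (Subgroup.subgroupOf_map_subtype V T).trans (inf_eq_left.2 hV.le)⟩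
    obtain ⟨U, hU, hmax⟩ := hfin.exists_maximal ⟨W, le_rfl, hlt, hWn⟩
    exact ⟨U, hU, fun V hV hle => le_antisymm (hmax hV hle) hle⟩
  haveI hN : (U.subgroupOf S).Normal := ⟨fun a ha b => conj_mem_of_normalizer (P := U) (hUn b.2) ha⟩
  let π := QuotientGroup.mk' (U.subgroupOf S)
  haveI hTN : (T.subgroupOf S).Normal := ⟨fun a ha b => conj_mem_of_normalizer (P := T) (hTn b.2) ha⟩
  haveI : ((T.subgroupOf S).map π).Normal := hTN.map π (QuotientGroup.mk'_surjective _)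
  have hne : (T.subgroupOf S).map π ≠ ⊥ := fun hbot => hUT.not_ge fun t ht =>
    (QuotientGroup.eq_one_iff (N := U.subgroupOf S) ⟨t, hTS ht⟩).1
      (Subgroup.mem_bot.1 (hbot ▸ ⟨⟨t, hTS ht⟩, ht, rfl⟩ : π ⟨t, hTS ht⟩ ∈ (⊥ : Subgroup _)))
  have hpq := hS.to_quotient (U.subgroupOf S)
  haveI : Nontrivial ↥((T.subgroupOf S).map π ⊓ Subgroup.center (↥S ⧸ U.subgroupOf S)) :=
    (Subgroup.nontrivial_iff_ne_bot _).2 (CfsgLib.Perm.inf_center_ne_bot hpq _ hne)
  obtain ⟨z, hz⟩ := exists_prime_orderOf_dvd_card' (G := ↥((T.subgroupOf S).map π ⊓ Subgroup.center (↥S ⧸ U.subgroupOf S))) p (by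
    obtain ⟨k, hk⟩ := IsPGroup.iff_card.1 (hpq.to_subgroup ((T.subgroupOf S).map π ⊓ Subgroup.center (↥S ⧸ U.subgroupOf S)))
    rcases k with _ | k
    · have := Finite.one_lt_card (α := ↥((T.subgroupOf S).map π ⊓ Subgroup.center (↥S ⧸ U.subgroupOf S)))
      rw [hk, pow_zero] at this
      exact absurd this (lt_irrefl 1)
    · exact hk ▸ dvd_pow_self p k.succ_ne_zero)
  have hzc : (z : ↥S ⧸ U.subgroupOf S) ∈ Subgroup.center _ := z.2.2
  haveI : (Subgroup.zpowers (z : ↥S ⧸ U.subgroupOf S)).Normal := ⟨fun a ha b => by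
    rw [Subgroup.mem_center_iff.1 ((Subgroup.zpowers_le.2 hzc) ha) b, mul_inv_cancel_right]; exact ha⟩
  let V := ((Subgroup.zpowers (z : ↥S ⧸ U.subgroupOf S)).comap π).map S.subtype
  have hUV : U ≤ V := fun u hu => ⟨⟨u, hTS (hUT.le hu)⟩, by
    show π _ ∈ Subgroup.zpowers _
    rw [show π ⟨u, hTS (hUT.le hu)⟩ = 1 from (QuotientGroup.eq_one_iff _).2 hu]
    exact one_mem _, rfl⟩
  have hVT : V ≤ T := by
    rintro _ ⟨g, hg, rfl⟩
    obtain ⟨t, ht, hte⟩ := (Subgroup.zpowers_le.2 z.2.1) hg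
    have h1 : ((t⁻¹ * g : ↥S) : Ω) ∈ U :=
      (QuotientGroup.eq_one_iff (N := U.subgroupOf S) _).1 (by
        show π (t⁻¹ * g) = 1
        rw [map_mul, map_inv, hte, inv_mul_cancel])
    simpa using T.mul_mem ht (hUT.le h1)
  have hVn : S ≤ Subgroup.normalizer (V : Set Ω) := le_normalizer_of_forall fun a ha k hk => by
    obtain ⟨g, hg, rfl⟩ := hk
    refine ⟨⟨a, ha⟩ * g * ⟨a, ha⟩⁻¹, ?_, rfl⟩
    exact (Subgroup.Normal.comap inferInstance π).conj_mem g hg _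
  have hVT' : V = T := by
    by_contra hVT'
    have hVU := hUmax V ⟨hWU.trans hUV, lt_of_le_of_ne hVT hVT', hVn⟩ hUV
    obtain ⟨g, hg⟩ := QuotientGroup.mk'_surjective (U.subgroupOf S) (z : ↥S ⧸ U.subgroupOf S)
    have hgU : (g : Ω) ∈ U := hVU.le ⟨g, Subgroup.mem_comap.2 (by rw [hg]; exact Subgroup.mem_zpowers _), rfl⟩
    have hz1 : (z : ↥S ⧸ U.subgroupOf S) = 1 := hg ▸ (QuotientGroup.eq_one_iff _).2 hgU
    have : orderOf z = 1 := orderOf_eq_one_iff.2 (Subtype.ext hz1)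
    exact (Fact.out : p.Prime).ne_one (hz ▸ this)
  refine ih _ ?_ U rfl (hUT.le.trans hTS) hWU hUn (hUT.le.trans hTW) (ptriv_step hS hF hTS hUT.le hTn hUn ?_ ?_ hTW
    (hW.trans (Subgroup.closure_mono ?_)) hT)
  · exact hn ▸ card_lt_of_lt hTS hUT
  · intro t ht s hs
    obtain ⟨g, hg, rfl⟩ := hVT'.ge ht
    refine (QuotientGroup.eq_one_iff (N := U.subgroupOf S) (⟨s, hs⟩ * g * ⟨s, hs⟩⁻¹ * g⁻¹)).1 ?_
    show π _ = 1
    rw [map_mul, map_mul, map_mul, map_inv, map_inv,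
      Subgroup.mem_center_iff.1 ((Subgroup.zpowers_le.2 hzc) hg) _, mul_inv_cancel_right, mul_inv_cancel]
  · intro t ht
    obtain ⟨g, hg, rfl⟩ := hVT'.ge ht
    refine (QuotientGroup.eq_one_iff (N := U.subgroupOf S) (g ^ p)).1 ?_
    show π _ = 1
    obtain ⟨k, hk⟩ := Subgroup.mem_zpowers_iff.1 hg
    rw [map_pow, ← hk, ← zpow_natCast, ← zpow_mul, mul_comm, zpow_mul, zpow_natCast,
      show (z : ↥S ⧸ U.subgroupOf S) ^ p = 1 from
        congrArg Subtype.val (hz ▸ pow_orderOf_eq_one z), one_zpow]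
  · rintro y ⟨P, hP, α, hα, hc, x, hx, rfl, hyW⟩
    exact ⟨P, hP, α, hα, hc, x, hx, rfl, hWU hyW⟩

theorem focal_eq [Finite S] [Fact p.Prime] (hS : IsPGroup p S) (hF : F.IsSaturated p) :
    F.focalSubgroup = F.hyperfocalSubgroup p ⊔ ⁅(S : Subgroup Ω), (S : Subgroup Ω)⁆ := by
  apply le_antisymm
  · refine (Subgroup.closure_le _).2 ?_
    rintro _ ⟨P, φ, x, hφ, rfl⟩
    have hf := IsMap.of_hom hφ
    obtain ⟨c, hc, hce⟩ := conj_mod hS hF (hyperfocal_normal hS) (hyperfocal_le_iff.1 le_rfl) hf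
    have h1 : ⁅(x : Ω)⁻¹, c⁆ ∈ ⁅(S : Subgroup Ω), (S : Subgroup Ω)⁆ :=
      Subgroup.commutator_mem_commutator (S.inv_mem (hf.le x.2)) hc
    have h2 := hce x x.2
    rw [ev_apply] at h2
    have e : (x : Ω)⁻¹ * φ x = ⁅(x : Ω)⁻¹, c⁆ * ((c * x * c⁻¹)⁻¹ * φ x) := by
      simp [commutatorElement_def, mul_assoc]
    rw [SetLike.mem_coe, e]
    exact Subgroup.mul_mem _ (Subgroup.mem_sup_right h1) (Subgroup.mem_sup_left h2)
  · refine sup_le ((Subgroup.closure_le _).2 ?_) (Subgroup.commutator_le.2 fun a ha b hb => ?_)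
    · rintro _ ⟨P, α, x, hP, -, rfl⟩
      refine Subgroup.subset_closure ⟨P, P.subtype.comp (α : MulAut P).toMonoidHom, x, ?_, rfl⟩
      exact ((mem_autGroup hP).1 α.2).hom_mem fun y => (autFun_apply _ _).symm
    · refine Subgroup.subset_closure ⟨S, conjHom S b, ⟨a⁻¹, S.inv_mem ha⟩, F.conj_mem le_rfl hb, ?_⟩
      show ⁅a, b⁆ = a⁻¹⁻¹ * (b * a⁻¹ * b⁻¹)
      simp [commutatorElement_def, mul_assoc]

theorem frattini_map_normal [Finite S] :
    S ≤ Subgroup.normalizer ((frattini ↥S).map S.subtype : Set Ω) :=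
  le_normalizer_of_forall fun a ha k hk => by
    obtain ⟨g, hg, rfl⟩ := hk
    haveI : (frattini ↥S).Normal := inferInstance
    exact ⟨⟨a, ha⟩ * g * ⟨a, ha⟩⁻¹, Subgroup.Normal.conj_mem inferInstance g hg _, rfl⟩

theorem commutator_le_frattini_map [Finite S] [Fact p.Prime] (hS : IsPGroup p S) :
    ⁅(S : Subgroup Ω), (S : Subgroup Ω)⁆ ≤ (frattini ↥S).map S.subtype := by
  exact (map_commutator_subtype S).ge.trans (Subgroup.map_mono (CfsgLib.Solv.commutator_le_frattini hS))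

/-- Tate's theorem: if `foc(F) ≤ Φ(S) foc(H)` for a saturated subsystem `H`, the hyperfocal
subgroups agree. -/
theorem hyperfocal_le_of_focal_le [Finite S] [Fact p.Prime] (hS : IsPGroup p S) (hF : F.IsSaturated p)
    {H : FusionSystem S} (hH : H.IsSaturated p) (hHF : H ≤ F)
    (h : F.focalSubgroup ≤ (frattini ↥S).map S.subtype ⊔ H.focalSubgroup) :
    F.hyperfocalSubgroup p ≤ H.hyperfocalSubgroup p := by
  refine hyperfocal_le_iff.2 (ptriv_descent hS hF (hyperfocal_normal hS) ?_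
    (F.hyperfocalSubgroup p) (hyperfocal_le hS) ?_ (hyperfocal_normal hS) ?_ (hyperfocal_le_iff.1 le_rfl))
  · refine hyperfocal_le_iff.2 fun P hP α hα hc x hx => Subgroup.subset_closure
      ⟨P, hP, α, autGroup_mono (fun f hf => le_iff.1 hHF P f hf) hα, hc, x, hx, rfl,
        hyperfocal_le_iff.1 le_rfl P hP α hα hc x hx⟩
  · exact hyperfocal_le_iff.2 fun P hP α hα hc x hx => hyperfocal_le_iff.1 le_rfl P hP α
      (autGroup_mono (fun f hf => le_iff.1 hHF P f hf) hα) hc x hx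
  · refine ((le_sup_left).trans ((focal_eq hS hF).ge.trans h)).trans (sup_le le_sup_left ?_)
    rw [focal_eq hS hH]
    exact sup_le le_sup_right ((commutator_le_frattini_map hS).trans le_sup_left)

/-- A system with trivial `p'`-automorphisms is the inner system. -/
theorem inner_of_ptriv [Finite S] [Fact p.Prime] (hS : IsPGroup p S) (hF : F.IsSaturated p)
    (h : PTriv F p ⊥) (P : Subgroup Ω) : F.Hom P = (innerFusionSystem S).Hom P := by
  ext φ
  refine ⟨fun hφ => ?_, ?_⟩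
  · obtain ⟨c, hc, hce⟩ := conj_mod hS hF (le_normalizer_of_forall fun a _ k hk => by
      rw [Subgroup.mem_bot] at hk ⊢; rw [hk, mul_one, mul_inv_cancel]) h (IsMap.of_hom hφ)
    refine ⟨(F.le_of_mem hφ).1, c, hc, fun x => ?_⟩
    have := Subgroup.mem_bot.1 (hce x x.2)
    rw [ev_apply, inv_mul_eq_one] at this
    exact this.symm
  · rintro ⟨hP, g, hg, hge⟩
    rw [show φ = conjHom P g from MonoidHom.ext hge]
    exact F.conj_mem hP hg

/-- `foc(F) ∩ Z(F) ≤ S'`. -/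
theorem focal_inf_center [Finite S] [Fact p.Prime] (hS : IsPGroup p S) (hF : F.IsSaturated p) :
    F.focalSubgroup ⊓ F.center ≤ ⁅(S : Subgroup Ω), (S : Subgroup Ω)⁆ := by
  haveI hN : (commutator ↥S).Normal := inferInstance
  let π := QuotientGroup.mk' (commutator ↥S)
  have hab : ∀ a b : ↥S ⧸ commutator ↥S, a * b = b * a := by
    intro a b
    obtain ⟨a, rfl⟩ := QuotientGroup.mk'_surjective _ a
    obtain ⟨b, rfl⟩ := QuotientGroup.mk'_surjective _ b
    rw [← commutatorElement_eq_one_iff_mul_comm, ← map_commutatorElement]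
    exact (QuotientGroup.eq_one_iff _).2 (Subgroup.commutator_mem_commutator trivial trivial)
  have hcen : ∀ a : ↥S ⧸ commutator ↥S, a ∈ Subgroup.center _ := fun a => Subgroup.mem_center_iff.2 fun b => hab b a
  obtain ⟨m, D, hm, hD, hDz⟩ := exists_stable_transfer hS hF (hS.to_quotient (commutator ↥S)) π ⊤
    (fun a _ => hcen a) fun P f _ => ⟨1, fun _ _ _ => trivial⟩
  -- the difference with the power map kills the focal subgroup
  let ψ : ↥S →* ↥S ⧸ commutator ↥S := MonoidHom.mk' (fun g => (D g : ↥S ⧸ commutator ↥S) * (π g ^ m)⁻¹) fun a b => by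
    rw [map_mul D, map_mul π, Subgroup.coe_mul, Commute.mul_pow (hab _ _), mul_inv_rev]
    simp only [mul_assoc]
    rw [hab (π b ^ m)⁻¹ (π a ^ m)⁻¹, ← mul_assoc (D b : ↥S ⧸ commutator ↥S) (π a ^ m)⁻¹, hab (D b : _) (π a ^ m)⁻¹]
    simp only [mul_assoc]
  have hfoc : F.focalSubgroup ≤ ψ.ker.map S.subtype := by
    rw [focal_eq hS hF]
    refine sup_le (hyperfocal_le_iff.2 fun P hP α hα hc x hx => ?_) ?_
    · refine ⟨(⟨x, hP hx⟩ : ↥S)⁻¹ * ⟨_, hP (autFun_mem α hx)⟩, ?_, rfl⟩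
      rw [SetLike.mem_coe, MonoidHom.mem_ker]
      show (D _ : ↥S ⧸ commutator ↥S) * (π _ ^ m)⁻¹ = 1
      rw [hD P α hP hα hc (fun _ _ _ _ => trivial) ⟨x, hP hx⟩ ⟨_, hP (autFun_mem α hx)⟩ hx rfl, map_mul π,
        map_inv π, mul_inv_cancel]
    · rw [← map_commutator_subtype S]
      refine Subgroup.map_mono ((commutator_def ↥S).le.trans (Subgroup.commutator_le.2 ?_))
      intro a _ b _
      rw [MonoidHom.mem_ker, map_commutatorElement, commutatorElement_eq_one_iff_mul_comm]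
      exact hab _ _
  rintro x ⟨hxf, hxc⟩
  obtain ⟨g, hg, rfl⟩ := hfoc hxf
  have hD1 : D g = 1 := by
    refine hDz g (hcen _) fun P f hf n hn => ?_
    obtain ⟨φ, hφ, hφe⟩ := hf
    obtain ⟨ψ', -, hψP, hψZ⟩ := (isCentral_center (F := F)).2 P φ hφ
    have hz : ((g ^ n : ↥S) : Ω) ∈ F.center := by rw [Subgroup.coe_pow]; exact Subgroup.pow_mem _ hxc n
    have h1 := hψP ⟨_, hn⟩
    have h2 := hψZ ⟨_, hz⟩
    rw [hφe] at h1
    exact h1.symm.trans h2
  have h := MonoidHom.mem_ker.1 hg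
  change (D g : ↥S ⧸ commutator ↥S) * (π g ^ m)⁻¹ = 1 at h
  rw [hD1, OneMemClass.coe_one, one_mul, inv_eq_one] at h
  obtain ⟨k, hk⟩ := hS.to_quotient (commutator ↥S) (π g)
  have h1 : π g = 1 := orderOf_eq_one_iff.1 (Nat.eq_one_of_dvd_coprimes
    (((Fact.out : p.Prime).coprime_iff_not_dvd.2 hm).symm.pow_right k)
    (orderOf_dvd_of_pow_eq_one h) (orderOf_dvd_of_pow_eq_one hk))
  rw [← map_commutator_subtype S]
  exact ⟨g, (QuotientGroup.eq_one_iff g).1 h1, rfl⟩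

end CfsgLib.Fus
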