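import Cfsg.Agent.Fus.GenExtraSplit
import Cfsg.Agent.Fus.Quotient
import Cfsg.Agent.Fus.Normal
import Cfsg.Agent.Fus.Tate

/-!
A strongly closed subgroup with Frattini subgroup equal to its derived subgroup of order `p` is normal, with one family of
exceptions.
-/

set_option autoImplicit false
set_option linter.style.haveILetI false
set_option linter.unusedSectionVars false

open Cfsg Cfsg.FusionSystem
open scoped commutatorElement Pointwise

namespace CfsgLib.Fus.GenExtra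

universe u

variable {Ω : Type u} [Group Ω] {S : Subgroup Ω} {F : FusionSystem S} {p : ℕ}

theorem exists_pow_eq_of_zpowers {a x : Ω} {n : ℕ} (hn : 0 < n) (ha : a ^ n = 1) (hx : x ∈ Subgroup.zpowers a) :
    ∃ k : ℕ, a ^ k = x := by
  obtain ⟨i, rfl⟩ := hx
  refine ⟨(i % (n : ℤ)).toNat, ?_⟩
  show _ = a ^ i
  have h0 : (0 : ℤ) ≤ i % n := Int.emod_nonneg _ (by exact_mod_cast hn.ne')
  rw [← zpow_natCast, Int.toNat_of_nonneg h0]
  conv_rhs => rw [show i = i % n + n * (i / n) from (Int.emod_add_mul_ediv i n).symm]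
  rw [zpow_add, zpow_mul, zpow_natCast a n, ha, one_zpow, mul_one]

theorem exists_mul_of_mem_sup_zpowers {a b x : Ω} (hab : Commute a b) (hx : x ∈ Subgroup.zpowers a ⊔ Subgroup.zpowers b) :
    ∃ u ∈ Subgroup.zpowers a, ∃ v ∈ Subgroup.zpowers b, u * v = x := by
  let T : Subgroup Ω :=
    { carrier := {x | ∃ i j : ℤ, a ^ i * b ^ j = x}
      one_mem' := ⟨0, 0, by simp⟩
      mul_mem' := by
        rintro _ _ ⟨i, j, rfl⟩ ⟨i', j', rfl⟩
        refine ⟨i + i', j + j', ?_⟩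
        rw [zpow_add, zpow_add, mul_assoc (a ^ i), ← mul_assoc (a ^ i'), ((hab.zpow_zpow i' j)).eq]
        simp [mul_assoc]
      inv_mem' := by
        rintro _ ⟨i, j, rfl⟩
        refine ⟨-i, -j, ?_⟩
        rw [zpow_neg, zpow_neg, mul_inv_rev, ((hab.zpow_zpow i j).inv_inv).eq] }
  obtain ⟨i, j, h⟩ : x ∈ T := (sup_le (Subgroup.zpowers_le.2 ⟨1, 0, by simp⟩)
    (Subgroup.zpowers_le.2 ⟨0, 1, by simp⟩) : _ ≤ T) hx
  exact ⟨a ^ i, ⟨i, rfl⟩, b ^ j, ⟨j, rfl⟩, h⟩

/-- Powers of a map multiplying `c` by a fixed element. -/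
theorem autFun_pow_mul {C : Subgroup Ω} (γ : MulAut C) {c v : Ω} (hc : c ∈ C) (hv : v ∈ C) (hγc : autFun γ c = c * v)
    (hγv : autFun γ v = v) : ∀ n : ℕ, autFun (γ ^ n) c = c * v ^ n := by
  intro n
  induction n with
  | zero => rw [pow_zero, autFun_one hc, pow_zero, mul_one]
  | succ n ih =>
    have hvn : ∀ k : ℕ, autFun γ (v ^ k) = v ^ k := by
      intro k
      induction k with
      | zero => rw [pow_zero, autFun_of_mem γ C.one_mem]; exact congrArg Subtype.val (map_one γ)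
      | succ k ihk => rw [pow_succ, autFun_map_mul γ (C.pow_mem hv k) hv, ihk, hγv]
    rw [pow_succ', autFun_mul _ _ hc, ih, autFun_map_mul γ hc (C.pow_mem hv n), hγc, hvn, mul_assoc, ← pow_succ']

theorem autFun_pow_mem {C : Subgroup Ω} (γ : MulAut C) {c : Ω} (hc : c ∈ C) (n : ℕ) :
    autFun γ (c ^ n) = autFun γ c ^ n := by
  induction n with
  | zero => rw [pow_zero, autFun_of_mem γ C.one_mem, pow_zero]; exact congrArg Subtype.val (map_one γ)
  | succ n ih => rw [pow_succ, autFun_map_mul γ (C.pow_mem hc n) hc, ih, pow_succ]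

/-- The contradiction: a transvection-like element of order `p ^ 2` with moved centre. -/
theorem odd_case [Finite S] [Fact p.Prime] (hS : IsPGroup p S) (hF : F.IsSaturated p) (hp : p ≠ 2) {P C : Subgroup Ω}
    (hP : F.StronglyClosed P) (hC : F.IsNormal C) (hCP : C ≤ P)
    (hCab : ∀ a ∈ C, ∀ b ∈ C, a * b = b * a) (hCp : ∀ a ∈ C, a ^ p = 1)
    {z y w : Ω} (hzC : z ∈ C) (hyC : y ∈ C) (hwP : w ∈ P) (hzo : orderOf z = p) (hwy : w * y * w⁻¹ = y * z)
    (hyz : y ∉ Subgroup.zpowers z)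
    (hcent : ∀ g ∈ P, g * y = y * g → g ∈ C)
    (hcom : ∀ a ∈ P, ∀ b ∈ P, ∃ k : ℕ, a * b * a⁻¹ = b * z ^ k)
    (hpow : ∀ c ∈ C, (w * c) ^ p = w ^ p) (hwp : ∃ i : ℕ, w ^ p = z ^ i) (hw1 : w ^ p ≠ 1)
    {α : MulAut C} (hα : α ∈ F.autGroup C) (hαz : autFun α z = y) : False := by
  classical
  have hCS : C ≤ S := hC.1
  have hPS : P ≤ S := hP.1
  haveI := finite_of_le hCS
  haveI := finite_mulAut (S := S) hCS
  have hpp : p.Prime := Fact.out
  have hzp : z ^ p = 1 := hzo ▸ pow_orderOf_eq_one z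
  have hyp : y ^ p = 1 := hCp y hyC
  have hCn : normalizerIn S C = S := le_antisymm (normalizerIn_le C) fun s hs =>
    ⟨hs, stronglyClosed_normal (isNormal_stronglyClosed hC) hs⟩
  have hCf : F.IsFullyNormalized C := ⟨hCS, fun R _ => hCn.symm ▸ Subgroup.card_le_of_le (normalizerIn_le R)⟩
  have hrec : F.IsReceptive C :=
    receptive_of_fullyCentralized hS hF (fullyCentralized_of_fullyNormalized hS hF hCf)
  obtain ⟨τ, hτT, hτ⟩ := exists_autInducedBy (K := S) (P := C) (hPS hwP) (hCn.ge (hPS hwP)).2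
  have hτA : τ ∈ F.autGroup C := autInducedBy_le_autGroup hCS hτT
  have hτc : ∀ c ∈ C, ∃ k : ℕ, autFun τ c = c * z ^ k := fun c hc => by
    obtain ⟨k, hk⟩ := hcom w hwP c (hCP hc)
    exact ⟨k, (hτ c hc).trans hk⟩
  have hτy : autFun τ y = y * z := (hτ y hyC).trans hwy
  have hτz : autFun τ z = z := by
    obtain ⟨k, hk⟩ := hcom w hwP z (hCP hzC)
    obtain ⟨i, hi⟩ := hwp
    by_cases hi0 : p ∣ i
    · obtain ⟨m, rfl⟩ := hi0
      exact absurd (by rw [hi, pow_mul, hzp, one_pow]) hw1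
    obtain ⟨m, -, hm⟩ := Nat.exists_mul_mod_eq_one_of_coprime
      ((hpp.coprime_iff_not_dvd.2 hi0).symm) hpp.one_lt
    have hz : z = w ^ (p * m) := by
      rw [pow_mul, hi, ← pow_mul, pow_eq_pow_mod (i * m) hzp, hm, pow_one]
    rw [hτ z hzC, hz, ((Commute.refl w).pow_right (p * m)).eq, mul_inv_cancel_right]
  have hzn : ∀ n : ℕ, autFun τ (z ^ n) = z ^ n := fun n => by rw [autFun_pow_mem τ hzC, hτz]
  set τ' := α * τ * α⁻¹ with hτ'
  have hτ'A : τ' ∈ F.autGroup C := mul_mem (mul_mem hα hτA) (InvMemClass.inv_mem hα)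
  have hτ'c : ∀ c ∈ C, ∃ k : ℕ, autFun τ' c = c * y ^ k := fun c hc => by
    have hd := autFun_mem α⁻¹ hc
    obtain ⟨k, hk⟩ := hτc _ hd
    refine ⟨k, ?_⟩
    rw [hτ', autFun_conj _ _ hc, hk, autFun_map_mul α hd (C.pow_mem hzC k), autFun_inv_apply α hc,
      autFun_pow_mem α hzC, hαz]
  have hτ'y : autFun τ' y = y := by
    have hd : autFun α⁻¹ y = z := by rw [← hαz, autFun_inv_apply' α hzC]
    rw [hτ', autFun_conj _ _ hyC, hd, hτz, hαz]
  have hτ'z : autFun τ' z ≠ z := by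
    intro hfix
    set V := Subgroup.zpowers y ⊔ Subgroup.zpowers z with hV
    have hVC : V ≤ C := sup_le (Subgroup.zpowers_le.2 hyC) (Subgroup.zpowers_le.2 hzC)
    let Good : MulAut C → Prop := fun γ => autFun γ z = z ∧ y⁻¹ * autFun γ y ∈ Subgroup.zpowers z ∧
      ∀ c ∈ C, c⁻¹ * autFun γ c ∈ V
    have hVinv : ∀ γ : MulAut C, Good γ → ∀ v ∈ V, autFun γ v ∈ V := by
      intro γ hγ v hv
      obtain ⟨h1, h2, h3⟩ := hγ
      have h := h3 v (hVC hv)
      simpa using V.mul_mem hv h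
    have hzfix : ∀ γ : MulAut C, autFun γ z = z → ∀ u ∈ Subgroup.zpowers z, autFun γ u = u := by
      intro γ h u hu
      obtain ⟨k, hk⟩ : ∃ k : ℕ, z ^ k = u :=
        exists_pow_eq_of_zpowers hpp.pos hzp hu
      rw [← hk, autFun_pow_mem γ hzC, h]
    let K : Subgroup (MulAut C) :=
      { carrier := {γ | γ ∈ F.autGroup C ∧ Good γ}
        one_mem' := ⟨one_mem _, by rw [autFun_one hzC], by rw [autFun_one hyC, inv_mul_cancel]; exact one_mem _,
          fun c hc => by rw [autFun_one hc, inv_mul_cancel]; exact one_mem _⟩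
        mul_mem' := by
          rintro γ δ ⟨hγA, hγ⟩ ⟨hδA, hδ⟩
          refine ⟨mul_mem hγA hδA, by rw [autFun_mul _ _ hzC, hδ.1, hγ.1], ?_, fun c hc => ?_⟩
          · have hu := hδ.2.1
            have hd : autFun δ y = y * (y⁻¹ * autFun δ y) := (mul_inv_cancel_left _ _).symm
            rw [autFun_mul _ _ hyC, hd, autFun_map_mul γ hyC (Subgroup.zpowers_le.2 hzC hu), hzfix γ hγ.1 _ hu,
              ← mul_assoc]
            exact mul_mem hγ.2.1 hu
          · have hu := hδ.2.2 c hc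
            have hd : autFun δ c = c * (c⁻¹ * autFun δ c) := (mul_inv_cancel_left _ _).symm
            rw [autFun_mul _ _ hc, hd, autFun_map_mul γ hc (hVC hu), ← mul_assoc]
            exact mul_mem (hγ.2.2 c hc) (hVinv γ hγ _ hu)
        inv_mem' := by
          rintro γ ⟨hγA, hγ⟩
          have hz' : autFun γ⁻¹ z = z := by
            conv_lhs => rw [← hγ.1]
            exact autFun_inv_apply' γ hzC
          have key : ∀ c ∈ C, c⁻¹ * autFun γ⁻¹ c = (autFun γ⁻¹ (c⁻¹ * autFun γ c))⁻¹ := by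
            intro c hc
            rw [autFun_map_mul γ⁻¹ (C.inv_mem hc) (autFun_mem γ hc), autFun_inv_apply' γ hc,
              autFun_map_inv γ⁻¹ hc, mul_inv_rev, inv_inv]
          have hy' : y⁻¹ * autFun γ⁻¹ y ∈ Subgroup.zpowers z := by
            rw [key y hyC, hzfix γ⁻¹ hz' _ hγ.2.1]
            exact Subgroup.inv_mem _ hγ.2.1
          refine ⟨(F.autGroup C).inv_mem hγA, hz', hy', fun c hc => ?_⟩
          rw [key c hc]
          refine V.inv_mem ?_
          have hv := hγ.2.2 c hc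
          haveI : (Subgroup.zpowers z).subgroupOf C |>.Normal := ⟨fun a ha b => by
            rw [show b * a * b⁻¹ = a from Subtype.ext (by
              show (b : Ω) * a * (b : Ω)⁻¹ = a
              rw [hCab b b.2 a a.2, mul_inv_cancel_right])]
            exact ha⟩
          obtain ⟨a, ha, b, hb, hab⟩ := exists_mul_of_mem_sup_zpowers (hCab y hyC z hzC) hv
          rw [← hab, autFun_map_mul γ⁻¹ (Subgroup.zpowers_le.2 hyC ha) (Subgroup.zpowers_le.2 hzC hb),
            hzfix γ⁻¹ hz' b hb]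
          refine V.mul_mem ?_ (Subgroup.mem_sup_right hb)
          obtain ⟨k, hk⟩ : ∃ k : ℕ, y ^ k = a := exists_pow_eq_of_zpowers hpp.pos hyp ha
          rw [← hk, autFun_pow_mem γ⁻¹ hyC, show autFun γ⁻¹ y = y * (y⁻¹ * autFun γ⁻¹ y) from
            (mul_inv_cancel_left _ _).symm]
          exact V.pow_mem (V.mul_mem (Subgroup.mem_sup_left (Subgroup.mem_zpowers y)) (Subgroup.mem_sup_right hy')) k }
    have hKp : ∀ γ ∈ K, γ ^ p = 1 := by
      rintro γ ⟨hγA, hγ⟩
      refine aut_ext fun c hc => ?_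
      rw [autFun_one hc]
      set d := c⁻¹ * autFun γ c with hd
      have hdV : d ∈ V := hγ.2.2 c hc
      have hdC := hVC hdV
      obtain ⟨u, hu, hdu⟩ : ∃ u ∈ Subgroup.zpowers z, autFun γ d = d * u := by
        obtain ⟨a, ha, b, hb, hab⟩ := exists_mul_of_mem_sup_zpowers (hCab y hyC z hzC) hdV
        obtain ⟨k, hk⟩ : ∃ k : ℕ, y ^ k = a := exists_pow_eq_of_zpowers hpp.pos hyp ha
        refine ⟨(y⁻¹ * autFun γ y) ^ k, pow_mem hγ.2.1 k, ?_⟩
        rw [← hab, ← hk, autFun_map_mul γ (C.pow_mem hyC k) (Subgroup.zpowers_le.2 hzC hb), hzfix γ hγ.1 b hb,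
          autFun_pow_mem γ hyC]
        set e := y⁻¹ * autFun γ y with he
        have heC : e ∈ C := Subgroup.zpowers_le.2 hzC hγ.2.1
        have hbC : b ∈ C := Subgroup.zpowers_le.2 hzC hb
        rw [show autFun γ y = y * e from (mul_inv_cancel_left _ _).symm, (show Commute y e from hCab y hyC e heC).mul_pow,
          mul_assoc, mul_assoc, hCab (e ^ k) (C.pow_mem heC k) b hbC]
      have huC : u ∈ C := Subgroup.zpowers_le.2 hzC hu
      have hit : ∀ n : ℕ, autFun (γ ^ n) c = c * d ^ n * u ^ n.choose 2 := by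
        intro n
        induction n with
        | zero => rw [pow_zero, autFun_one hc]; simp
        | succ n ih =>
          have hu2 : autFun γ (u ^ n.choose 2) = u ^ n.choose 2 := by rw [autFun_pow_mem γ huC, hzfix γ hγ.1 u hu]
          rw [pow_succ' γ, autFun_mul _ _ hc, ih, autFun_map_mul γ (C.mul_mem hc (C.pow_mem hdC n)) (C.pow_mem huC _),
            autFun_map_mul γ hc (C.pow_mem hdC n), autFun_pow_mem γ hdC, hdu, hu2,
            (show Commute d u from hCab d hdC u huC).mul_pow, show autFun γ c = c * d from (mul_inv_cancel_left _ _).symm,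
            show (n + 1).choose 2 = n + n.choose 2 from by rw [Nat.choose_succ_succ, Nat.choose_one_right],
            pow_succ' d, pow_add u]
          simp only [mul_assoc]
      obtain ⟨m, hm⟩ := hpp.dvd_choose_self (k := 2) (by norm_num) (lt_of_le_of_ne hpp.two_le (Ne.symm hp))
      rw [hit p, hCp d hdC, hm, pow_mul, hCp u huC, one_pow, mul_one, mul_one]
    have hτK : τ ∈ K := ⟨hτA, hτz, by rw [hτy, inv_mul_cancel_left]; exact Subgroup.mem_zpowers z, fun c hc => by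
      obtain ⟨k, hk⟩ := hτc c hc
      rw [hk, inv_mul_cancel_left]
      exact Subgroup.mem_sup_right (pow_mem (Subgroup.mem_zpowers z) k)⟩
    have hτ'K : τ' ∈ K := ⟨hτ'A, hfix, by rw [hτ'y, inv_mul_cancel]; exact one_mem _, fun c hc => by
      obtain ⟨k, hk⟩ := hτ'c c hc
      rw [hk, inv_mul_cancel_left]
      exact Subgroup.mem_sup_left (pow_mem (Subgroup.mem_zpowers y) k)⟩
    obtain ⟨P₀, hP₀⟩ : ∃ P₀ : Sylow p ↥(F.autGroup C), (P₀ : Subgroup ↥(F.autGroup C)) =
        (autInducedBy S C).subgroupOf (F.autGroup C) := (fullyNormalized_spec hS hF hCf).1.2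
    have hKpg : IsPGroup p ↥(K.subgroupOf (F.autGroup C)) := fun x =>
      ⟨1, Subtype.ext (Subtype.ext (by rw [pow_one]; exact hKp _ (Subgroup.mem_subgroupOf.1 x.2)))⟩
    obtain ⟨Q₀, hQ₀⟩ := hKpg.exists_le_sylow
    obtain ⟨g, hg⟩ := MulAction.exists_smul_eq ↥(F.autGroup C) Q₀ P₀
    have hX : ∀ γ ∈ K, (∀ c ∈ C, ∃ k : ℕ, autFun γ c = c * z ^ k) ∨ True → (g : MulAut C) * γ * (g : MulAut C)⁻¹ ∈ autInducedBy S C := by
      intro γ hγ _
      have h1 : g * ⟨γ, hγ.1⟩ * g⁻¹ ∈ (P₀ : Subgroup ↥(F.autGroup C)) := by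
        rw [← hg, Sylow.coe_subgroup_smul]
        exact Subgroup.smul_mem_pointwise_smul _ (MulAut.conj g) _ (hQ₀ (Subgroup.mem_subgroupOf.2 hγ))
      rw [hP₀, Subgroup.mem_subgroupOf] at h1
      exact h1
    -- a conjugate of the transvection inside the Sylow subgroup comes from `P`
    have hclosed : ∀ δ ∈ F.autGroup C, δ * τ * δ⁻¹ ∈ autInducedBy S C → ∃ i : ℕ, δ * τ * δ⁻¹ = τ ^ i := by
      intro δ hδ hmem
      have hN : ∀ g ∈ Subgroup.zpowers w, ∀ γ : MulAut C, (∀ x ∈ C, autFun γ x = g * x * g⁻¹) →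
          δ * γ * δ⁻¹ ∈ autInducedBy S C := by
        intro g hg γ hγ
        obtain ⟨n, rfl⟩ := hg
        have hit : ∀ m : ℕ, ∀ x ∈ C, autFun (τ ^ m) x = w ^ m * x * (w ^ m)⁻¹ := by
          intro m
          induction m with
          | zero => intro x hx; rw [pow_zero, autFun_one hx]; simp
          | succ m ih =>
            intro x hx
            rw [pow_succ, autFun_mul _ _ hx, hτ x hx, ih _ (hτ x hx ▸ autFun_mem τ hx), pow_succ]
            group
        haveI : Finite ↥P := finite_of_le hPS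
        obtain ⟨m, hm⟩ : ∃ m : ℕ, w ^ n = w ^ m := by
          have hfo : IsOfFinOrder w := by
            have := isOfFinOrder_of_finite (⟨w, hwP⟩ : ↥P)
            simpa using (Submonoid.isOfFinOrder_coe).2 this
          obtain ⟨m, hm⟩ := exists_pow_eq_of_zpowers hfo.orderOf_pos (pow_orderOf_eq_one w)
            (⟨n, rfl⟩ : w ^ n ∈ Subgroup.zpowers w)
          exact ⟨m, hm.symm⟩
        rw [aut_ext (α := γ) (β := τ ^ m) fun x hx => by rw [hγ x hx, hit m x hx, ← hm], ← conj_pow]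
        exact pow_mem hmem m
      obtain ⟨f, hf, hfe⟩ := extend_aut hrec hδ (Subgroup.zpowers_le.2 (hCn.ge (hPS hwP))) hN
      have hwm : w ∈ C ⊔ Subgroup.zpowers w := Subgroup.mem_sup_right (Subgroup.mem_zpowers w)
      have hfw : f w ∈ P := (stronglyClosed_iff.1 hP).2 _ f hf w hwm hwP
      obtain ⟨i, hi⟩ := hcom (f w) hfw y (hCP hyC)
      refine ⟨i, aut_ext fun x hx => ?_⟩
      have hwi : ∀ m : ℕ, ∀ x ∈ C, autFun (τ ^ m) x = w ^ m * x * (w ^ m)⁻¹ := by
        intro m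
        induction m with
        | zero => intro x hx; rw [pow_zero, autFun_one hx]; simp
        | succ m ih =>
          intro x hx
          rw [pow_succ, autFun_mul _ _ hx, hτ x hx, ih _ (hτ x hx ▸ autFun_mem τ hx), pow_succ]
          group
      have hy' := hwi i y hyC
      rw [autFun_pow_mul τ hyC hzC hτy hτz i] at hy'
      have hcC : (w ^ i)⁻¹ * f w ∈ C := by
        refine hcent _ (P.mul_mem (P.inv_mem (P.pow_mem hwP i)) hfw) ?_
        calc (w ^ i)⁻¹ * f w * y = (w ^ i)⁻¹ * (f w * y * (f w)⁻¹) * f w := by group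
          _ = (w ^ i)⁻¹ * (w ^ i * y * (w ^ i)⁻¹) * f w := by rw [hi, hy']
          _ = y * ((w ^ i)⁻¹ * f w) := by group
      have hlhs : autFun (δ * τ * δ⁻¹) x = f w * x * (f w)⁻¹ := by
        have hd := autFun_mem δ⁻¹ hx
        rw [autFun_conj _ _ hx, hτ _ hd, ← hfe _ (hτ _ hd ▸ autFun_mem τ hd),
          hf.map_conj hwm (Subgroup.mem_sup_left hd), hfe _ hd, autFun_inv_apply δ hx]
      rw [hlhs, hwi i x hx]
      set c := (w ^ i)⁻¹ * f w with hcdef
      rw [show f w = w ^ i * c by rw [hcdef, mul_inv_cancel_left],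
        show w ^ i * c * x * (w ^ i * c)⁻¹ = w ^ i * (c * x * c⁻¹) * (w ^ i)⁻¹ by group,
        hCab c hcC x hx, mul_inv_cancel_right]
    obtain ⟨i, hi⟩ := hclosed g g.2 (hX τ hτK (Or.inr trivial))
    have hmem' : (g : MulAut C) * α * τ * ((g : MulAut C) * α)⁻¹ ∈ autInducedBy S C := by
      have h := hX τ' hτ'K (Or.inr trivial)
      rwa [hτ', show (g : MulAut C) * (α * τ * α⁻¹) * (g : MulAut C)⁻¹ = g * α * τ * ((g : MulAut C) * α)⁻¹ by group] at h
    obtain ⟨j, hj⟩ := hclosed _ (mul_mem g.2 hα) hmem'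
    have hτp : τ ^ p = 1 := hKp τ hτK
    have hi0 : ¬ p ∣ i := by
      rintro ⟨m, rfl⟩
      rw [pow_mul, hτp, one_pow] at hi
      have hτ1 : τ = 1 := by
        have := congrArg (fun e => (g : MulAut C)⁻¹ * e * (g : MulAut C)) hi
        simpa [mul_assoc] using this
      refine hpp.ne_one ?_
      rw [hτ1, autFun_one hyC, left_eq_mul] at hτy
      rw [← hzo, hτy, orderOf_one]
    obtain ⟨m, -, hm⟩ := Nat.exists_mul_mod_eq_one_of_coprime
      ((hpp.coprime_iff_not_dvd.2 hi0).symm) hpp.one_lt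
    have hτ'τ : τ' = τ ^ (m * j) := by
      have e1 : (g : MulAut C) * τ' * (g : MulAut C)⁻¹ = (g : MulAut C) * τ ^ (m * j) * (g : MulAut C)⁻¹ := by
        rw [← conj_pow, hi, ← pow_mul, ← mul_assoc i, pow_mul τ (i * m), pow_eq_pow_mod (i * m) hτp, hm, pow_one,
          ← hj, hτ']
        group
      exact mul_left_cancel (mul_right_cancel e1)
    have hzy : ∀ n : ℕ, ∀ c ∈ C, ∃ k : ℕ, autFun (τ ^ n) c = c * z ^ k := fun n c hc => by
      obtain ⟨k, hk⟩ := hτc c hc
      exact ⟨k * n, by rw [autFun_pow_mul τ hc (C.pow_mem hzC k) hk (hzn k) n, pow_mul]⟩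
    obtain ⟨k, hk⟩ := hzy (m * j) _ (autFun_mem α hyC)
    rw [← hτ'τ, hτ', autFun_conj _ _ (autFun_mem α hyC), autFun_inv_apply' α hyC, hτy,
      autFun_map_mul α hyC hzC, hαz] at hk
    exact hyz (mul_left_cancel hk ▸ pow_mem (Subgroup.mem_zpowers z) k)
  -- the central involution of the generated special linear group
  obtain ⟨b, hb⟩ := hτ'c z hzC
  have hb0 : ¬ p ∣ b := fun ⟨m, hm⟩ => hτ'z (by rw [hb, hm, pow_mul, hyp, one_pow, mul_one])
  obtain ⟨m, -, hm⟩ := Nat.exists_mul_mod_eq_one_of_coprime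
    ((hpp.coprime_iff_not_dvd.2 hb0).symm) hpp.one_lt
  set σ := τ' ^ (m * (p - 1)) with hσ
  have hσA : σ ∈ F.autGroup C := pow_mem hτ'A _
  have hσc : ∀ c ∈ C, ∃ k : ℕ, autFun σ c = c * y ^ k := fun c hc => by
    obtain ⟨k, hk⟩ := hτ'c c hc
    refine ⟨k * (m * (p - 1)), ?_⟩
    rw [hσ, autFun_pow_mul τ' hc (C.pow_mem hyC k) hk (by rw [autFun_pow_mem τ' hyC, hτ'y]), ← pow_mul]
  have hσy : autFun σ y = y := by
    rw [hσ, autFun_pow_mul τ' (v := 1) hyC C.one_mem (by rw [hτ'y, mul_one])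
      (by rw [autFun_of_mem τ' C.one_mem]; exact congrArg Subtype.val (map_one τ')), one_pow, mul_one]
  have hσz : autFun σ z = z * y⁻¹ := by
    rw [hσ, autFun_pow_mul τ' hzC (C.pow_mem hyC b) hb (by rw [autFun_pow_mem τ' hyC, hτ'y]), ← pow_mul]
    congr 1
    refine eq_inv_of_mul_eq_one_left ?_
    rw [pow_eq_pow_mod (b * (m * (p - 1))) hyp, ← mul_assoc, Nat.mul_mod, hm, one_mul, Nat.mod_mod,
      ← pow_eq_pow_mod (p - 1) hyp, ← pow_succ, Nat.sub_add_cancel hpp.one_le, hyp]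
  have hinvC : ∀ (γ : MulAut C) {c : Ω}, c ∈ C → autFun γ c⁻¹ = (autFun γ c)⁻¹ := fun γ _ hc => autFun_map_inv γ hc
  set J := τ * σ * τ with hJ
  have hJz : autFun J z = y⁻¹ := by
    rw [hJ, autFun_mul _ _ hzC, autFun_mul _ _ (autFun_mem _ hzC), hτz, hσz,
      autFun_map_mul τ hzC (C.inv_mem hyC), hτz, hinvC τ hyC, hτy, mul_inv_rev, mul_inv_cancel_left]
  have hJy : autFun J y = z := by
    rw [hJ, autFun_mul _ _ hyC, autFun_mul _ _ (autFun_mem _ hyC), hτy, autFun_map_mul σ hyC hzC, hσy, hσz,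
      hCab z hzC _ (C.inv_mem hyC), mul_inv_cancel_left, hτz]
  set β := J * J with hβ
  have hβA : β ∈ F.autGroup C := mul_mem (mul_mem (mul_mem hτA hσA) hτA) (mul_mem (mul_mem hτA hσA) hτA)
  have hβz : autFun β z = z⁻¹ := by rw [hβ, autFun_mul _ _ hzC, hJz, hinvC J hyC, hJy]
  have hβy : autFun β y = y⁻¹ := by rw [hβ, autFun_mul _ _ hyC, hJy, hJz]
  have hcomm : β * τ = τ * β := by
    refine aut_ext fun c hc => ?_
    obtain ⟨k, hk⟩ := hτc c hc
    obtain ⟨l, hl⟩ := hσc c hc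
    have hyk := C.pow_mem hyC k
    have hzl := C.pow_mem hzC l
    have hzk := C.pow_mem hzC k
    set c₀ := c * (y ^ k)⁻¹ * z ^ l with hc₀
    have hc₀C : c₀ ∈ C := C.mul_mem (C.mul_mem hc (C.inv_mem hyk)) hzl
    have hτ₀ : autFun τ c₀ = c₀ := by
      rw [hc₀, autFun_map_mul τ (C.mul_mem hc (C.inv_mem hyk)) hzl, autFun_map_mul τ hc (C.inv_mem hyk),
        hinvC τ hyk, autFun_pow_mem τ hyC, hτy, hk, hzn, (show Commute y z from hCab y hyC z hzC).mul_pow,
        mul_inv_rev, mul_assoc c, mul_inv_cancel_left]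
    have hσ₀ : autFun σ c₀ = c₀ := by
      rw [hc₀, autFun_map_mul σ (C.mul_mem hc (C.inv_mem hyk)) hzl, autFun_map_mul σ hc (C.inv_mem hyk),
        hinvC σ hyk, autFun_pow_mem σ hyC, hσy, hl, autFun_pow_mem σ hzC, hσz,
        (show Commute z y⁻¹ from hCab z hzC _ (C.inv_mem hyC)).mul_pow]
      have h1 : y ^ l * (y ^ k)⁻¹ = (y ^ k)⁻¹ * y ^ l := hCab _ (C.pow_mem hyC l) _ (C.inv_mem hyk)
      have h2 : z ^ l * y⁻¹ ^ l = y⁻¹ ^ l * z ^ l := hCab _ hzl _ (C.pow_mem (C.inv_mem hyC) l)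
      rw [mul_assoc c (y ^ l), h1, h2]
      simp [mul_assoc, inv_pow]
    have hJ₀ : autFun J c₀ = c₀ := by
      rw [hJ, autFun_mul _ _ hc₀C, autFun_mul _ _ (autFun_mem _ hc₀C), hτ₀, hσ₀, hτ₀]
    have hβ₀ : autFun β c₀ = c₀ := by rw [hβ, autFun_mul _ _ hc₀C, hJ₀, hJ₀]
    have hce : c = c₀ * (z ^ l)⁻¹ * y ^ k := by rw [hc₀]; group
    have hzl' := C.inv_mem hzl
    have hβc : autFun β c = c₀ * z ^ l * (y ^ k)⁻¹ := by
      conv_lhs => rw [hce]
      rw [autFun_map_mul β (C.mul_mem hc₀C hzl') hyk, autFun_map_mul β hc₀C hzl', hβ₀, hinvC β hzl,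
        autFun_pow_mem β hzC, hβz, autFun_pow_mem β hyC, hβy, inv_pow, inv_inv, inv_pow]
    rw [autFun_mul _ _ hc, autFun_mul _ _ hc, hk, autFun_map_mul β hc hzk, autFun_pow_mem β hzC, hβz, hβc,
      autFun_map_mul τ (C.mul_mem hc₀C hzl) (C.inv_mem hyk), autFun_map_mul τ hc₀C hzl, hτ₀, hzn, hinvC τ hyk,
      autFun_pow_mem τ hyC, hτy, (show Commute y z from hCab y hyC z hzC).mul_pow, mul_inv_rev, inv_pow,
      hCab (z ^ k)⁻¹ (C.inv_mem hzk) (y ^ k)⁻¹ (C.inv_mem hyk)]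
    simp [mul_assoc]
  have hτn : ∀ γ : MulAut C, (∀ x ∈ C, autFun γ x = w * x * w⁻¹) → γ = τ := fun γ hγ =>
    aut_ext fun x hx => by rw [hγ x hx, hτ x hx]
  obtain ⟨f, hf, hfe⟩ := extend_aut hrec hβA (N := Subgroup.zpowers w) (Subgroup.zpowers_le.2 (hCn.ge (hPS hwP)))
    fun g hg γ hγ => by
      have hgS : g ∈ S := Subgroup.zpowers_le.2 (hPS hwP) hg
      obtain ⟨n, rfl⟩ := hg
      have hcn : Commute β (τ ^ n) := (show Commute β τ from hcomm).zpow_right n
      have hγe : γ = τ ^ n := by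
        have hit : ∀ m : ℤ, ∀ x ∈ C, autFun (τ ^ m) x = w ^ m * x * (w ^ m)⁻¹ := by
          intro m
          induction m using Int.induction_on with
          | zero => intro x hx; rw [zpow_zero, autFun_one hx]; simp
          | succ m ih =>
            intro x hx
            rw [zpow_add, zpow_one, autFun_mul _ _ hx, hτ x hx, ih _ (hτ x hx ▸ autFun_mem τ hx), zpow_add, zpow_one]
            group
          | pred m ih =>
            intro x hx
            have hx' := autFun_mem τ⁻¹ hx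
            have h := autFun_inv_apply τ hx
            rw [hτ _ hx'] at h
            rw [zpow_sub, zpow_one, autFun_mul _ _ hx, ih _ hx', zpow_sub, zpow_one]
            conv_rhs => rw [← h]
            group
        exact aut_ext fun x hx => by rw [hγ x hx, hit n x hx]
      rw [hγe, hcn.eq, mul_inv_cancel_right]
      exact mem_autInducedBy.2 ⟨w ^ n, hgS, fun x hx => by rw [← hγe]; exact hγ x hx⟩
  have hwm : w ∈ C ⊔ Subgroup.zpowers w := Subgroup.mem_sup_right (Subgroup.mem_zpowers w)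
  have hfw : f w ∈ P := (stronglyClosed_iff.1 hP).2 _ f hf w hwm hwP
  have hfwy : f w * y * (f w)⁻¹ = w * y * w⁻¹ := by
    have h := hf.map_conj hwm (Subgroup.mem_sup_left hyC)
    rw [hwy, hf.map_mul (Subgroup.mem_sup_left hyC) (Subgroup.mem_sup_left hzC), hfe y hyC, hfe z hzC, hβy, hβz] at h
    rw [hwy]
    have h2 := congrArg (·⁻¹) h
    simp only [mul_inv_rev, inv_inv] at h2
    rw [hCab z hzC y hyC] at h2
    rw [mul_assoc, ← h2]
  have hcC : w⁻¹ * f w ∈ C := by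
    refine hcent _ (P.mul_mem (P.inv_mem hwP) hfw) ?_
    calc w⁻¹ * f w * y = w⁻¹ * (f w * y * (f w)⁻¹) * f w := by group
      _ = w⁻¹ * (w * y * w⁻¹) * f w := by rw [hfwy]
      _ = y * (w⁻¹ * f w) := by group
  obtain ⟨i, hi⟩ := hwp
  have h1 := hpow _ hcC
  rw [mul_inv_cancel_left] at h1
  have hfp : f (w ^ p) = f w ^ p := hf.map_pow hwm p
  rw [h1, hi, hfe _ (C.pow_mem hzC i), autFun_pow_mem β hzC, hβz] at hfp
  have h2 : (z ^ i) ^ 2 = 1 := by
    rw [pow_two]
    nth_rewrite 2 [← hfp]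
    rw [inv_pow, mul_inv_cancel]
  refine hw1 ?_
  rw [hi]
  refine orderOf_eq_one_iff.1 (Nat.eq_one_of_dvd_coprimes (a := 2) (b := p)
    ((Nat.coprime_primes Nat.prime_two hpp).2 (Ne.symm hp)) (orderOf_dvd_of_pow_eq_one h2)
    (orderOf_dvd_of_pow_eq_one (by rw [← pow_mul, mul_comm, pow_mul, hzp, one_pow])))

/-- The theorem. -/
theorem normal_of_generalized_extraspecial [Finite S] [Fact p.Prime] (hS : IsPGroup p S) (hF : F.IsSaturated p)
    {P : Subgroup Ω} (hP : F.StronglyClosed P) (hΦ : frattini ↥P = commutator ↥P)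
    (hcard : Nat.card ↥(commutator ↥P) = p)
    (h2 : p = 2 → ¬ ∃ (A : Type) (_ : CommGroup A), (∀ a : A, a ^ 2 = 1) ∧ Nonempty (↥P ≃* DihedralGroup 4 × A))
    (hodd : p ≠ 2 → ¬ ∃ (E : Type) (_ : Group E) (A : Type) (_ : CommGroup A), Cfsg.IsExtraspecial p E ∧
      Nat.card E = p ^ 3 ∧ Monoid.exponent E = p ∧ (∀ a : A, a ^ p = 1) ∧ Nonempty (↥P ≃* E × A)) : F.IsNormal P := by
  classical
  have hpp : p.Prime := Fact.out
  have hPS : P ≤ S := hP.1
  haveI := finite_of_le hPS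
  have hPp : IsPGroup p P := hS.to_le hPS
  have hPn := stronglyClosed_normal hP
  set D := ⁅P, P⁆ with hD
  have hDP : D ≤ P := Subgroup.commutator_le.2 fun a ha b hb =>
    P.mul_mem (P.mul_mem (P.mul_mem ha hb) (P.inv_mem ha)) (P.inv_mem hb)
  have hDcard : Nat.card ↥D = p := by
    rw [hD, ← map_commutator_subtype P, Subgroup.card_map_of_injective P.subtype_injective, hcard]
  haveI := finite_of_le (hDP.trans hPS)
  have hpowD : ∀ x ∈ P, x ^ p ∈ D := by
    intro x hx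
    rw [hD, ← map_commutator_subtype P, ← hΦ]
    exact ⟨⟨x, hx⟩ ^ p, CfsgLib.Solv.pow_mem_frattini hPp ⟨x, hx⟩, rfl⟩
  have hDn : S ≤ Subgroup.normalizer (D : Set Ω) := by
    refine le_normalizer_of_forall fun s hs d hd => ?_
    have h : D.map (MulAut.conj s).toMonoidHom ≤ D := by
      rw [hD, Subgroup.map_commutator]
      have : P.map (MulAut.conj s).toMonoidHom ≤ P := by
        rintro _ ⟨x, hx, rfl⟩
        exact conj_mem_of_normalizer (hPn hs) hx
      exact Subgroup.commutator_mono this this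
    exact h ⟨d, hd, rfl⟩
  have hgen : ∀ z ∈ D, z ≠ 1 → ∀ d ∈ D, ∃ k : ℕ, z ^ k = d := fun z hz hz1 d hd => by
    obtain ⟨k, -, hk⟩ := CfsgLib.Solv.exists_pow_eq_of_mem hDcard hz hz1 hd
    exact ⟨k, hk⟩
  have hDZ : ∀ d ∈ D, ∀ s ∈ S, s * d = d * s := by
    intro d hd s hs
    have hb : IsPGroup p S := hS
    obtain ⟨γ, hγT, hγ⟩ := exists_autInducedBy (K := S) (P := D) hs (hDn hs)
    haveI : IsCyclic ↥D := isCyclic_of_prime_card hDcard
    haveI := finite_mulAut (S := S) (hDP.trans hPS)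
    have hγ1 : γ = 1 := by
      have hp1 : IsPGroup p ↥(autInducedBy S D) := isPGroup_autInducedBy hS
      obtain ⟨k, hk⟩ := hp1 ⟨γ, hγT⟩
      have hA : Nat.card (MulAut ↥D) = p - 1 := by
        rw [IsCyclic.card_mulAut, hDcard, Nat.totient_prime hpp]
      refine orderOf_eq_one_iff.1 (Nat.eq_one_of_dvd_coprimes (a := p ^ k) (b := p - 1) ?_
        (orderOf_dvd_of_pow_eq_one (congrArg Subtype.val hk)) (hA ▸ orderOf_dvd_natCard γ))
      exact ((hpp.coprime_iff_not_dvd.2 fun h => by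
        have h2le := hpp.two_le
        have := Nat.le_of_dvd (show 0 < p - 1 by omega) h
        omega).pow_left k)
    have h := hγ d hd
    rw [hγ1, autFun_one hd] at h
    exact (eq_mul_inv_iff_mul_eq.1 h).symm
  have hcom : ∀ a ∈ P, ∀ b ∈ P, ⁅a, b⁆ ∈ D := fun a ha b hb => Subgroup.commutator_mem_commutator ha hb
  suffices hDsc : F.StronglyClosed D by
    refine normal_of_series hS hF hP 2 (fun i => if i = 0 then ⊥ else if i = 1 then D else P) (by simp) (by simp)
      (fun i hi => ?_) (fun i hi => ?_) fun i hi => ?_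
    · interval_cases i <;> simp [hDP]
    · interval_cases i
      · simp only [if_true, zero_add, one_ne_zero, if_false]
        rw [le_bot_iff, Subgroup.commutator_eq_bot_iff_le_centralizer]
        exact fun d hd x hx => hDZ d hd x (hPS hx)
      · simp [hD]
    · interval_cases i
      · simp only [if_true]
        exact stronglyClosed_weaklyClosed (stronglyClosed_iff.2 ⟨bot_le, fun R f hf x hxR hx => by
          rw [Subgroup.mem_bot] at hx ⊢
          rw [hx, hf.map_one]⟩)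
      · simp only [if_true, one_ne_zero, if_false]
        exact stronglyClosed_weaklyClosed hDsc
  refine stronglyClosed_iff.2 ⟨hDP.trans hPS, fun R f hf z hzR hzD => ?_⟩
  by_contra hy
  set y := f z with hydef
  have hz1 : z ≠ 1 := fun h => hy (by rw [hydef, h, hf.map_one]; exact one_mem D)
  have hzo : orderOf z = p := orderOf_eq_prime (by
    have h := pow_card_eq_one' (x := (⟨z, hzD⟩ : ↥D))
    rw [hDcard] at h
    exact congrArg Subtype.val h) hz1
  have hzP := hDP hzD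
  have hyP : y ∈ P := (stronglyClosed_iff.1 hP).2 R f hf z hzR hzP
  have hfz := hf.mono (Subgroup.zpowers_le.2 hzR)
  have himg : img f (Subgroup.zpowers z) = Subgroup.zpowers y := by
    refine le_antisymm (img_le_iff.2 fun x hx => ?_) (Subgroup.zpowers_le.2 (mem_img_of_mem (Subgroup.mem_zpowers z)))
    obtain ⟨k, hk⟩ : ∃ k : ℕ, z ^ k = x := exists_pow_eq_of_zpowers hpp.pos (hzo ▸ pow_orderOf_eq_one z) hx
    rw [← hk, hfz.map_pow (Subgroup.mem_zpowers z)]
    exact pow_mem (Subgroup.mem_zpowers y) k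
  obtain ⟨k₀, hk, hkl, -, hki⟩ := hfz.inv
  rw [himg] at hk hki
  have hzfc : F.IsFullyCentralized (Subgroup.zpowers z) := by
    refine ⟨Subgroup.zpowers_le.2 (hPS hzP), fun Q hQ => ?_⟩
    have : S ≤ centralizerIn S (Subgroup.zpowers z) := fun s hs =>
      ⟨hs, fun x hx => by
        obtain ⟨n, rfl⟩ := hx
        exact ((show Commute s z from hDZ z hzD s hs).zpow_right n).eq.symm⟩
    haveI hfin := finite_of_le (centralizerIn_le (S := S) (Subgroup.zpowers z))
    exact Subgroup.card_le_of_le ((centralizerIn_le Q).trans this)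
  haveI := finite_of_le (Subgroup.zpowers_le.2 (hPS hyP))
  obtain ⟨ψ, hψ, hψe⟩ := extend (receptive_of_fullyCentralized hS hF hzfc) hk hki
    (N := centralizerIn S (Subgroup.zpowers y)) fun g hg => ⟨hg.1,
      Subgroup.mem_normalizer_fintype fun x hx => by rw [(hg.2 x hx).symm, mul_inv_cancel_right]; exact hx,
      1, S.one_mem, fun x hx => by rw [(hg.2 x hx).symm, mul_inv_cancel_right]; simp⟩
  set C := P ⊓ Subgroup.centralizer ({y} : Set Ω) with hCdef
  have hCm : ∀ c, c ∈ C ↔ c ∈ P ∧ c * y = y * c := fun c => by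
    rw [hCdef, Subgroup.mem_inf, Subgroup.mem_centralizer_singleton_iff]
  have hCP : C ≤ P := inf_le_left
  have hCle : C ≤ Subgroup.zpowers y ⊔ centralizerIn S (Subgroup.zpowers y) := fun c hc =>
    Subgroup.mem_sup_right ⟨hPS (hCP hc), fun x hx => by
      obtain ⟨n, rfl⟩ := hx
      exact ((show Commute c y from ((hCm c).1 hc).2).zpow_right n).eq.symm⟩
  have hyC : y ∈ C := (hCm y).2 ⟨hyP, rfl⟩
  have hzC : z ∈ C := (hCm z).2 ⟨hzP, (hDZ z hzD y (hPS hyP)).symm⟩
  have hψy : ψ y = z := (hψe y (Subgroup.mem_zpowers y)).trans (hkl z (Subgroup.mem_zpowers z))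
  have hψP : ∀ c ∈ C, ψ c ∈ P := fun c hc => (stronglyClosed_iff.1 hP).2 _ ψ hψ c (hCle hc) (hCP hc)
  have hψz : ψ z ∉ D := by
    intro h
    have h1 : ψ z ≠ 1 := fun h1 => hz1 (hψ.inj (hCle hzC) (one_mem _) (by rw [h1, hψ.map_one]))
    obtain ⟨k, hk'⟩ := hgen _ h h1 z hzD
    refine hy ?_
    have e : ψ (z ^ k) = ψ y := by rw [hψ.map_pow (hCle hzC), hk', hψy]
    rw [← hψ.inj (pow_mem (hCle hzC) k) (hCle hyC) e]
    exact D.pow_mem hzD k
  have hCab : ∀ a ∈ C, ∀ b ∈ C, a * b = b * a := by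
    intro a ha b hb
    by_contra hne
    refine hψz ?_
    have hab : ⁅a, b⁆ ≠ 1 := fun h => hne (commutatorElement_eq_one_iff_mul_comm.1 h)
    obtain ⟨k, hk'⟩ := hgen _ (hcom a (hCP ha) b (hCP hb)) hab z hzD
    rw [← hk', commutatorElement_def, hψ.map_pow (by
      exact mul_mem (mul_mem (mul_mem (hCle ha) (hCle hb)) (InvMemClass.inv_mem (hCle ha))) (InvMemClass.inv_mem (hCle hb))),
      hψ.map_mul (mul_mem (mul_mem (hCle ha) (hCle hb)) (InvMemClass.inv_mem (hCle ha))) (InvMemClass.inv_mem (hCle hb)),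
      hψ.map_mul (mul_mem (hCle ha) (hCle hb)) (InvMemClass.inv_mem (hCle ha)), hψ.map_mul (hCle ha) (hCle hb),
      hψ.map_inv (hCle ha), hψ.map_inv (hCle hb), ← commutatorElement_def]
    exact D.pow_mem (hcom _ (hψP a ha) _ (hψP b hb)) k
  have hCp : ∀ c ∈ C, c ^ p = 1 := by
    intro c hc
    by_contra hne
    refine hψz ?_
    obtain ⟨k, hk'⟩ := hgen _ (hpowD c (hCP hc)) hne z hzD
    rw [← hk', hψ.map_pow (pow_mem (hCle hc) p), hψ.map_pow (hCle hc)]
    exact D.pow_mem (hpowD _ (hψP c hc)) k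
  obtain ⟨w₀, hw₀, hw₀y⟩ : ∃ w ∈ P, w * y ≠ y * w := by
    by_contra h
    push Not at h
    have hall : ∀ a ∈ P, a ∈ C := fun a ha => (hCm a).2 ⟨ha, h a ha⟩
    have hDb : D = ⊥ := by
      rw [hD, Subgroup.commutator_eq_bot_iff_le_centralizer]
      exact fun a ha b hb => hCab b (hall b hb) a (hall a ha)
    exact hz1 (Subgroup.mem_bot.1 (hDb ▸ hzD))
  obtain ⟨w, hwP, hwy⟩ : ∃ w ∈ P, w * y * w⁻¹ = y * z := by
    have hc : ⁅w₀, y⁆ ≠ 1 := fun h => hw₀y (commutatorElement_eq_one_iff_mul_comm.1 h)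
    obtain ⟨k, hk'⟩ := hgen _ (hcom w₀ hw₀ y hyP) hc z hzD
    refine ⟨w₀ ^ k, P.pow_mem hw₀ k, ?_⟩
    have hcc : Commute ⁅w₀, y⁆ w₀ := (hDZ _ (hcom w₀ hw₀ y hyP) w₀ (hPS hw₀)).symm
    rw [CfsgLib.Solv.conj_eq_commutator_mul, CfsgLib.Solv.pow_commutator_left hcc, hk']
    exact (hDZ z hzD y (hPS hyP)).symm
  have hcomz : ∀ a ∈ P, ∀ b ∈ P, ∃ k : ℕ, a * b * a⁻¹ = b * z ^ k := fun a ha b hb => by
    obtain ⟨k, hk'⟩ := hgen z hzD hz1 _ (hcom a ha b hb)
    refine ⟨k, ?_⟩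
    rw [CfsgLib.Solv.conj_eq_commutator_mul, ← hk']
    exact (hDZ _ (D.pow_mem hzD k) b (hPS hb)).symm
  -- an element outside `C` of order `p` gives an excluded product
  have hsplit : ∀ w' ∈ P, w' * y * w'⁻¹ = y * z → w' ^ p ≠ 1 := by
    intro w' hw' hw'y hw'p
    let z' : ↥P := ⟨z, hzP⟩
    obtain ⟨E, hE, A, hA, hEc, hAp, hodd', heven, ⟨e⟩⟩ := GenExtra.split (P := ↥P) (z := z') (w := ⟨w', hw'⟩) (y := ⟨y, hyP⟩)
      (fun g => Subtype.ext (hDZ z hzD g (hPS g.2))) ((Subgroup.orderOf_mk z hzP).trans hzo)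
      (fun a b => by
        obtain ⟨k, hk'⟩ := hgen z hzD hz1 _ (hcom a a.2 b b.2)
        rw [show ⁅a, b⁆ = z' ^ k from Subtype.ext (by rw [Subgroup.coe_pow]; exact hk'.symm)]
        exact pow_mem (Subgroup.mem_zpowers z') k)
      (Subtype.ext (hCp y hyC)) (Subtype.ext hw'p) (Subtype.ext hw'y)
      (fun c d hc hd => Subtype.ext (hCab c ((hCm c).2 ⟨c.2, congrArg Subtype.val hc⟩) d
        ((hCm d).2 ⟨d.2, congrArg Subtype.val hd⟩)))
      fun c hc => Subtype.ext (hCp c ((hCm c).2 ⟨c.2, congrArg Subtype.val hc⟩))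
    by_cases hp2 : p = 2
    · subst hp2
      obtain ⟨eD⟩ := heven rfl
      exact h2 rfl ⟨A, hA, hAp, ⟨e.trans (MulEquiv.prodCongr eD (MulEquiv.refl A))⟩⟩
    · exact hodd hp2 ⟨E, hE, A, hA, (hodd' hp2).1, hEc, (hodd' hp2).2, hAp, ⟨e⟩⟩
  by_cases hp2 : p = 2
  · subst hp2
    by_cases hww : w ^ 2 = 1
    · exact hsplit w hwP hwy hww
    obtain ⟨k, hk'⟩ := hgen _ (hpowD w hwP) hww z hzD
    have hw2 : w ^ 2 = z := by
      obtain ⟨l, hl⟩ := hgen z hzD hz1 _ (hpowD w hwP)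
      rw [← hl, pow_eq_pow_mod l (hzo ▸ pow_orderOf_eq_one z)]
      rcases Nat.mod_two_eq_zero_or_one l with h | h
      · exfalso
        apply hww
        rw [← hl, pow_eq_pow_mod l (hzo ▸ pow_orderOf_eq_one z), h, pow_zero]
      · rw [h, pow_one]
    refine hsplit (w * y) (P.mul_mem hwP hyP) ?_ ?_
    · calc w * y * y * (w * y)⁻¹ = w * y * w⁻¹ := by group
        _ = y * z := hwy
    · calc (w * y) ^ 2 = (w * y * w⁻¹) * (w ^ 2) * y := by rw [pow_two, pow_two]; group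
        _ = y * (z * z) * y := by rw [hwy, hw2]; group
        _ = 1 := by
          have hzz : z * z = 1 := by rw [← pow_two]; exact hzo ▸ pow_orderOf_eq_one z
          rw [hzz, mul_one, ← pow_two]
          exact hCp y hyC
  · have hCsc : F.StronglyClosed C := stronglyClosed_iff.2 ⟨hCP.trans hPS, fun Q g hg c hcQ hc => by
      have hgc : g c ∈ P := (stronglyClosed_iff.1 hP).2 Q g hg c hcQ (hCP hc)
      have hgp : g c ^ p = 1 := by rw [← hg.map_pow hcQ, hCp c hc, hg.map_one]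
      obtain ⟨i, hi⟩ := hcomz (g c) hgc y hyP
      by_contra hnC
      have hi0 : ¬ p ∣ i := by
        rintro ⟨m, rfl⟩
        refine hnC ((hCm _).2 ⟨hgc, ?_⟩)
        have hzp : z ^ p = 1 := hzo ▸ pow_orderOf_eq_one z
        rw [pow_mul, hzp, one_pow, mul_one] at hi
        exact mul_inv_eq_iff_eq_mul.1 hi
      obtain ⟨m, -, hm⟩ := Nat.exists_mul_mod_eq_one_of_coprime
        ((hpp.coprime_iff_not_dvd.2 hi0).symm) hpp.one_lt
      refine hsplit (g c ^ m) (P.pow_mem hgc m) ?_ (by rw [← pow_mul, mul_comm, pow_mul, hgp, one_pow])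
      have hit : ∀ n : ℕ, g c ^ n * y * (g c ^ n)⁻¹ = y * z ^ (i * n) := by
        intro n
        induction n with
        | zero => simp
        | succ n ih =>
          have hcz : g c * z ^ (i * n) = z ^ (i * n) * g c := hDZ _ (D.pow_mem hzD _) _ (hPS hgc)
          calc g c ^ (n + 1) * y * (g c ^ (n + 1))⁻¹ = g c * (g c ^ n * y * (g c ^ n)⁻¹) * (g c)⁻¹ := by
                rw [pow_succ']; group
            _ = g c * y * (g c)⁻¹ * (g c * z ^ (i * n) * (g c)⁻¹) := by rw [ih]; group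
            _ = y * z ^ (i * (n + 1)) := by
              rw [hi, hcz, mul_inv_cancel_right, mul_assoc, ← pow_add, Nat.mul_succ, add_comm i]
      rw [hit, pow_eq_pow_mod (i * m) (hzo ▸ pow_orderOf_eq_one z), hm, pow_one]⟩
    have hCnorm : F.IsNormal C := by
      refine normal_of_series hS hF hCsc 1 (fun i => if i = 0 then ⊥ else C) (by simp) (by simp) (fun i hi => ?_)
        (fun i hi => ?_) fun i hi => ?_
      · interval_cases i <;> simp
      · interval_cases i
        simp only [if_true, zero_add, one_ne_zero, if_false]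
        rw [le_bot_iff, Subgroup.commutator_eq_bot_iff_le_centralizer]
        exact fun a ha b hb => hCab b hb a ha
      · interval_cases i
        simp only [if_true]
        exact stronglyClosed_weaklyClosed (stronglyClosed_iff.2 ⟨bot_le, fun R' g hg x hxR hx => by
          rw [Subgroup.mem_bot] at hx ⊢
          rw [hx, hg.map_one]⟩)
    obtain ⟨g, hg, hge, hgC⟩ := (isNormal_iff.1 hCnorm).2 _ f hfz
    haveI := finite_of_le (hCP.trans hPS)
    obtain ⟨α, hα, hαe⟩ := exists_aut (hg.mono le_sup_right) hgC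
    have hwp : ∃ i : ℕ, w ^ p = z ^ i := by
      obtain ⟨i, hi⟩ := hgen z hzD hz1 _ (hpowD w hwP)
      exact ⟨i, hi.symm⟩
    refine odd_case hS hF hp2 hP hCnorm hCP hCab hCp hzC hyC hwP hzo hwy
      (fun h => hy (Subgroup.zpowers_le.2 hzD h)) (fun a ha hay => (hCm a).2 ⟨ha, hay⟩) hcomz (fun c hc => ?_) hwp
      (hsplit w hwP hwy) hα (by rw [hαe z hzC]; exact hge z (Subgroup.mem_zpowers z))
    have hd := hcom c (hCP hc) w hwP
    have hdp : ⁅c, w⁆ ^ p = 1 := by
      have h := pow_card_eq_one' (x := (⟨_, hd⟩ : ↥D))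
      rw [hDcard] at h
      exact congrArg Subtype.val h
    rw [CfsgLib.Solv.mul_pow_prime hp2 (hDZ _ hd w (hPS hwP)).symm (hDZ _ hd c (hPS (hCP hc))).symm hdp, hCp c hc,
      mul_one]

end CfsgLib.Fus.GenExtra
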