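import Cfsg.Agent.Fus.SmallCenter
import Cfsg.Agent.Fus.CoreBasic

/-!
The prime 2: a saturated system without normal subgroup, equal to its 2-residual, over a group with centre of
index 4, is over the dihedral group of order 8.
-/

set_option autoImplicit false
set_option linter.style.haveILetI false

open Cfsg Cfsg.FusionSystem
open scoped commutatorElement Pointwise

namespace CfsgLib.Fus

variable {Ω : Type*} [Group Ω] {S : Subgroup Ω} {F : FusionSystem S}

/-- What the automizer of an essential subgroup gives for `p = 2`. -/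
structure TwoData (F : FusionSystem S) (A C W : Subgroup Ω) : Prop where
  mid : Mid S A
  cle : C ≤ Zc S
  wle : W ≤ A
  dle : ⁅S, S⁆ ≤ W
  wsq : ∀ w ∈ W, w * w = 1
  wcard : Nat.card W ≤ 4
  full : ∀ a ∈ A, ∃ w ∈ W, ∃ c ∈ C, a = w * c
  zdec : ∀ z ∈ Zc S, ∃ s ∈ ⁅S, S⁆, ∃ c ∈ C, z = s * c
  disj : ∀ c ∈ C, c ∈ ⁅S, S⁆ → c = 1
  invol : ∃ a ∈ W, a ∉ Zc S
  cinv : ∀ γ ∈ F.autGroup A, ∀ c ∈ C, autFun γ c ∈ C
  winv : ∀ γ ∈ F.autGroup A, ∀ w ∈ W, autFun γ w ∈ W
  lift : ∀ γ ∈ F.autGroup A, ∃ f, IsMap F S f ∧ (∀ a ∈ A, f a ∈ A) ∧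
    ∀ c ∈ C, f c ∈ C → autFun γ c = f c

theorem ess_two [Finite S] (hs : Small 2 F) {A : Subgroup Ω} (hA : F.IsEssential 2 A) :
    ∃ C W, TwoData F A C W := by
  haveI : Fact (Nat.Prime 2) := ⟨Nat.prime_two⟩
  have hm := essential_mid hs hA
  letI := commOf (fun _ ha _ hb => hm.comm hs ha hb)
  haveI := finite_of_le hm.le
  have hAp : IsPGroup 2 ↥A := hs.pg.to_le hm.le
  obtain ⟨u, hu, hsyl, hker, hrange, ⟨γ₀, hγ₀, hne₀⟩, hext⟩ := ess_aut hs hA
  have hv := hu.conj hγ₀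
  set v := γ₀ * u * γ₀⁻¹ with hvdef
  have huv : u ≠ v := fun h => hne₀ (by rw [← h])
  have hui : u⁻¹ = u := inv_eq_of_mul_eq_one_right (by rw [← pow_two, ← hu.ord, pow_orderOf_eq_one])
  set C₀ := (Trans.dlt u).ker ⊓ (Trans.dlt v).ker with hC₀
  set W₀ := (Trans.dlt u).range ⊔ (Trans.dlt v).range with hW₀
  have hfixall : ∀ w, Trans.Tv 2 (F.autGroup A) w → ∀ c ∈ C₀, w c = c := by
    intro w hw c hc
    have h1 := Trans.mem_ker.1 hc.1
    have h2 := Trans.mem_ker.1 hc.2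
    rcases Trans.three hAp hsyl hu hv huv hw with rfl | rfl | rfl
    · exact h1
    · exact h2
    · rw [MulAut.mul_apply, MulAut.mul_apply, h1, h2, h1]
  have hrle : ∀ w, Trans.Tv 2 (F.autGroup A) w → (Trans.dlt w).range ≤ W₀ := by
    intro w hw
    rcases Trans.three hAp hsyl hu hv huv hw with rfl | rfl | rfl
    · exact le_sup_left
    · exact le_sup_right
    · intro x hx
      have h1 := Trans.map_mem_range_conj (u := u * v * u) (γ := u) hx
      rw [hui, show u * (u * v * u) * u = (u * u) * v * (u * u) by group,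
        show u * u = 1 by rw [← pow_two, ← hu.ord, pow_orderOf_eq_one], one_mul, mul_one] at h1
      have h2 : u (u x) = x := by
        rw [← MulAut.mul_apply, ← pow_two, ← hu.ord, pow_orderOf_eq_one, MulAut.one_apply]
      have h3 := W₀.mul_mem (Subgroup.mem_sup_left (Trans.div_mem_range u (u x))) (Subgroup.mem_sup_right h1)
      rwa [h2, div_mul_cancel] at h3
  have hW₀sq : ∀ x ∈ W₀, x * x = 1 := by
    intro x hx
    obtain ⟨a, ha, b, hb, rfl⟩ := Subgroup.mem_sup.1 hx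
    have sq : ∀ {w : MulAut ↥A} {e : A}, Trans.Tv 2 (F.autGroup A) w → e ∈ (Trans.dlt w).range → e * e = 1 :=
      fun {w e} hw he => by
        have := congrArg Subtype.val (pow_card_eq_one' (x := (⟨e, he⟩ : (Trans.dlt w).range)))
        rw [hw.card] at this
        rwa [← pow_two]
    rw [mul_mul_mul_comm, sq hu ha, sq hv hb, one_mul]
  refine ⟨C₀.map A.subtype, W₀.map A.subtype, hm, ?_, Subgroup.map_subtype_le _, ?_, ?_, ?_, ?_, ?_, ?_, ?_, ?_, ?_, ?_⟩
  · rintro _ ⟨c, hc, rfl⟩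
    exact (hker c).1 (Trans.mem_ker.1 hc.1)
  · intro s hsd
    exact ⟨⟨s, hm.gt.le (hs.derived hsd)⟩, Subgroup.mem_sup_left ((hrange _).2 hsd), rfl⟩
  · rintro _ ⟨w, hw, rfl⟩
    exact congrArg Subtype.val (hW₀sq w hw)
  · rw [Subgroup.card_map_of_injective Subtype.val_injective]
    have := card_sup_dvd_of_normal (Trans.dlt u).range (Trans.dlt v).range
    rw [hu.card, hv.card] at this
    exact Nat.le_of_dvd (by norm_num) this
  · intro a ha
    obtain ⟨c, s, t, hc1, hc2, hsr, htr, he⟩ := Trans.decomp_full hAp hsyl hu hv hne₀.symm ⟨a, ha⟩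
    exact ⟨_, ⟨s * t, Subgroup.mul_mem_sup hsr htr, rfl⟩, _,
      ⟨c, ⟨Trans.mem_ker.2 hc1, Trans.mem_ker.2 hc2⟩, rfl⟩, congrArg Subtype.val he⟩
  · intro z hz
    obtain ⟨c, s, hc1, hc2, hsr, he⟩ :=
      Trans.decomp_ker hAp hsyl hu hv hne₀.symm (x := ⟨z, hm.gt.le hz⟩) ((hker _).2 hz)
    exact ⟨s, (hrange s).1 hsr, _, ⟨c, ⟨Trans.mem_ker.2 hc1, Trans.mem_ker.2 hc2⟩, rfl⟩,
      congrArg Subtype.val he⟩
  · rintro _ ⟨c, hc, rfl⟩ hcd
    exact congrArg Subtype.val
      (Trans.eq_one_of_mem hAp hsyl hv hu hne₀ ((hrange c).2 hcd) (Trans.mem_ker.1 hc.2))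
  · by_contra h
    push Not at h
    have hall : (Trans.dlt v).range ≤ (Trans.dlt u).ker := fun x hx =>
      Trans.mem_ker.2 ((hker x).2 (h _ ⟨x, Subgroup.mem_sup_right hx, rfl⟩))
    exact hne₀ (Trans.zpowers_eq_of_le hAp hsyl hu hv hall).symm
  · rintro γ hγ _ ⟨c, hc, rfl⟩
    rw [Subgroup.coe_subtype, autFun_apply]
    refine ⟨γ c, ?_, rfl⟩
    have hkey : ∀ w, Trans.Tv 2 (F.autGroup A) w → w (γ c) = γ c := fun w hw => by
      have h1 := hfixall _ (hw.conj ((F.autGroup A).inv_mem hγ)) c hc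
      have h2 : w * γ = γ * (γ⁻¹ * w * γ⁻¹⁻¹) := by group
      rw [← MulAut.mul_apply, h2, MulAut.mul_apply, h1]
    exact ⟨Trans.mem_ker.2 (hkey u hu), Trans.mem_ker.2 (hkey v hv)⟩
  · rintro γ hγ _ ⟨x, hx, rfl⟩
    rw [Subgroup.coe_subtype, autFun_apply]
    refine ⟨γ x, ?_, rfl⟩
    obtain ⟨a, ha, b, hb, rfl⟩ := Subgroup.mem_sup.1 hx
    rw [map_mul]
    exact W₀.mul_mem (hrle _ (hu.conj hγ) (Trans.map_mem_range_conj ha))
      (hrle _ (hv.conj hγ) (Trans.map_mem_range_conj hb))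
  · intro γ hγ
    obtain ⟨ρ, ν, hν, he, hcomm, hρ⟩ := Trans.frattini_three hAp hsyl hu hv huv hγ
    obtain ⟨f, hf, hfe⟩ := hext ν hν hcomm
    refine ⟨f, hf, fun a ha => by rw [hfe a ha]; exact autFun_mem ν ha, ?_⟩
    rintro _ ⟨c, hc, rfl⟩ ⟨d, hd, hde⟩
    simp only [Subgroup.coe_subtype] at hde ⊢
    rw [hfe _ c.2] at hde ⊢
    rw [autFun_apply] at hde ⊢
    rw [autFun_apply, he, MulAut.mul_apply, ← Subtype.ext hde,
      hρ d (Trans.mem_ker.1 hd.1) (Trans.mem_ker.1 hd.2)]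

theorem coset_two {A K : Subgroup Ω} [Finite K] (h : A ≤ K) (hc : Nat.card K = 2 * Nat.card A) {x y : Ω}
    (hx : x ∈ K) (hy : y ∈ K) (hxA : x ∉ A) (hyA : y ∉ A) : x * y⁻¹ ∈ A := by
  haveI : Finite A := finite_of_le h
  have hi : (A.subgroupOf K).index = 2 := by
    have h1 := (A.subgroupOf K).card_mul_index
    rw [Nat.card_congr (Subgroup.subgroupOfEquivOfLe h).toEquiv, hc, mul_comm 2] at h1
    exact Nat.eq_of_mul_eq_mul_left Nat.card_pos h1
  have := (Subgroup.mul_mem_iff_of_index_two hi (a := (⟨x, hx⟩ : K)) (b := (⟨y, hy⟩ : K)⁻¹)).2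
    ⟨fun h => absurd h hxA, fun h => absurd (inv_mem_iff.1 h) hyA⟩
  exact this

/-- There are at most two intermediate subgroups with involutions outside the centre. -/
theorem no_third [Finite S] (hs : Small 2 F) {A B D C W : Subgroup Ω} (hd : TwoData F A C W)
    (hB : Mid S B) (hD : Mid S D) (hab : A ≠ B) (had : A ≠ D) (hbd : B ≠ D)
    (hb : ∃ b ∈ B, b ∉ Zc S ∧ b * b = 1) (hdd : ∃ d ∈ D, d ∉ Zc S ∧ d * d = 1) : False := by
  haveI : Fact (Nat.Prime 2) := ⟨Nat.prime_two⟩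
  obtain ⟨b, hbB, hbZ, hb2⟩ := hb
  obtain ⟨d, hdD, hdZ, hd2⟩ := hdd
  obtain ⟨a, haW, haZ⟩ := hd.invol
  have ha2 := hd.wsq a haW
  have hA := hd.mid
  have haA := hd.wle haW
  have notin : ∀ {X Y : Subgroup Ω} {x : Ω}, Mid S X → Mid S Y → X ≠ Y → x ∈ X → x ∉ Zc S → x ∉ Y :=
    fun hX hY hne hx hxZ hy => hxZ ((hX.inf_eq hs hY hne).le ⟨hx, hy⟩)
  haveI := finite_of_le hA.le
  have hSA : Nat.card S = 2 * Nat.card A := by rw [hA.card hs, hs.card]; ring
  have hdA := notin hD hA had.symm hdD hdZ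
  have hbA := notin hB hA hab.symm hbB hbZ
  have h1 : d * b⁻¹ ∈ A := coset_two hA.le hSA (hD.le hdD) (hB.le hbB) hdA hbA
  have h1Z : d * b⁻¹ ∉ Zc S := fun h => notin hD hB hbd.symm hdD hdZ (by
    have := B.mul_mem (hB.gt.le h) hbB
    rwa [inv_mul_cancel_right] at this)
  have hz : d * b⁻¹ * a⁻¹ ∈ Zc S :=
    coset_two hA.gt.le (hA.card hs) h1 haA h1Z haZ
  set z := d * b⁻¹ * a⁻¹ with hzdef
  have hde : d = z * (a * b) := by rw [hzdef]; simp [mul_assoc]
  have hai : a⁻¹ = a := inv_eq_of_mul_eq_one_right ha2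
  have hbi : b⁻¹ = b := inv_eq_of_mul_eq_one_right hb2
  have hsq : d * d = z * z * ⁅a, b⁆ := by
    rw [hde, commutatorElement_def, hai, hbi]
    calc z * (a * b) * (z * (a * b)) = z * ((a * b) * z) * (a * b) := by simp [mul_assoc]
      _ = z * (z * (a * b)) * (a * b) := by rw [Zc_comm hz (S.mul_mem (hA.le haA) (hB.le hbB))]
      _ = _ := by simp [mul_assoc]
  obtain ⟨s, hsd, c, hc, hzc⟩ := hd.zdec z hz
  have hs2 : s * s = 1 := hd.wsq s (hd.dle hsd)
  have hz2 : z * z = c * c := by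
    rw [hzc]
    calc s * c * (s * c) = s * (c * s) * c := by simp [mul_assoc]
      _ = s * (s * c) * c := by rw [Zc_comm (hs.derived hsd) (hd.cle hc).1]
      _ = c * c := by rw [← mul_assoc, hs2, one_mul]
  rw [hd2, hz2] at hsq
  have hcd : ⁅a, b⁆ ∈ ⁅S, S⁆ := Subgroup.commutator_mem_commutator (hA.le haA) (hB.le hbB)
  have hcc : c * c ∈ ⁅S, S⁆ := by rw [eq_inv_of_mul_eq_one_left hsq.symm]; exact inv_mem hcd
  rw [hd.disj _ (C.mul_mem hc hc) hcc, one_mul] at hsq
  have hcomm : a * b = b * a := commutatorElement_eq_one_iff_mul_comm.1 hsq.symm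
  refine haZ (mem_Zc (hA.le haA) fun x hx => ?_)
  have hle : A ⊔ Subgroup.zpowers b ≤ Subgroup.centralizer ({a} : Set Ω) :=
    sup_le (fun y hy => Subgroup.mem_centralizer_singleton_iff.2 (hA.comm hs hy haA))
      (Subgroup.zpowers_le.2 (Subgroup.mem_centralizer_singleton_iff.2 hcomm.symm))
  have hS : A ⊔ Subgroup.zpowers b = S := by
    by_contra h
    have hlt : A < A ⊔ Subgroup.zpowers b := lt_of_le_not_ge le_sup_left fun hle' =>
      hbA (hle' (Subgroup.mem_sup_right (Subgroup.mem_zpowers b)))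
    have hm : Mid S (A ⊔ Subgroup.zpowers b) := ⟨hA.gt.trans hlt,
      lt_of_le_of_ne (sup_le hA.le (Subgroup.zpowers_le.2 (hB.le hbB))) h⟩
    have := card_lt_of_lt hm.le hlt
    rw [hA.card hs, hm.card hs] at this
    exact lt_irrefl _ this
  exact Subgroup.mem_centralizer_singleton_iff.1 (hle (hS.ge hx))

/-- Automorphisms of `S` fix each intermediate subgroup with an involution outside the centre. -/
theorem aut_fix [Finite S] (hs : Small 2 F) {A C W : Subgroup Ω} (hd : TwoData F A C W) :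
    ∀ α ∈ F.autGroup S, ∀ x ∈ A, autFun α x ∈ A := by
  haveI : Fact (Nat.Prime 2) := ⟨Nat.prime_two⟩
  haveI := finite_mulAut (le_refl S)
  intro α hα
  have hA := hd.mid
  have hαm := (mem_autGroup le_rfl).1 hα
  obtain ⟨a, haW, haZ⟩ := hd.invol
  have invol_img : ∀ β ∈ F.autGroup S, ∀ X : Subgroup Ω, Mid S X → (∃ b ∈ X, b ∉ Zc S ∧ b * b = 1) →
      ∃ b ∈ img (autFun β) X, b ∉ Zc S ∧ b * b = 1 := by
    rintro β hβ X hX ⟨b, hb, hbZ, hb2⟩
    have hm := (mem_autGroup le_rfl).1 hβ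
    refine ⟨autFun β b, mem_img_of_mem hb, fun h => hbZ ?_, by rw [← autFun_map_mul β (hX.le hb) (hX.le hb), hb2, autFun_of_mem β S.one_mem]; exact congrArg Subtype.val (map_one β)⟩
    refine mem_Zc (hX.le hb) fun y hy => hm.inj (S.mul_mem hy (hX.le hb)) (S.mul_mem (hX.le hb) hy) ?_
    rw [hm.map_mul hy (hX.le hb), hm.map_mul (hX.le hb) hy]
    exact Zc_comm h (hm.mem hy)
  by_contra hcon
  push Not at hcon
  obtain ⟨x, hx, hxA⟩ := hcon
  set B := img (autFun α) A with hB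
  have hBm : Mid S B := hA.img hαm
  have hAB : A ≠ B := fun h => hxA (h.ge (mem_img_of_mem hx))
  have hBi := invol_img α hα A hA ⟨a, hd.wle haW, haZ, hd.wsq a haW⟩
  have hBA : img (autFun α) B = A := by
    by_contra h
    by_cases hBB : img (autFun α) B = B
    · apply hAB
      haveI := finite_of_le hA.le
      haveI := finite_of_le hBm.le
      refine Subgroup.eq_of_le_of_card_ge (fun y hy => ?_) (by rw [hA.card hs, hBm.card hs])
      obtain ⟨w, hw, hwe⟩ := (hαm.mono hBm.le).mem_img.1 (hBB.symm.le (mem_img_of_mem (f := autFun α) hy))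
      exact hαm.inj (hBm.le hw) (hA.le hy) hwe ▸ hw
    · exact no_third hs hd hBm (hBm.img hαm) hAB (Ne.symm h) (Ne.symm hBB) hBi (invol_img α hα B hBm hBi)
  have hstep : ∀ k : ℕ, img (autFun (α ^ (2 * k))) A = A ∧ img (autFun (α ^ (2 * k + 1))) A = B := by
    have hcomp : ∀ n : ℕ, img (autFun (α ^ (n + 1))) A = img (autFun α) (img (autFun (α ^ n)) A) := fun n => by
      have hn : IsMap F A (autFun (α ^ n)) :=
        ((mem_autGroup le_rfl).1 ((F.autGroup S).pow_mem hα n)).mono hA.le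
      rw [← hn.img_comp]
      exact img_congr fun y hy => by rw [pow_succ', Function.comp_apply, autFun_mul _ _ (hA.le hy)]
    intro k
    induction k with
    | zero =>
      have h0 : img (autFun (α ^ 0)) A = A := by
        rw [pow_zero]; exact (img_congr (g := id) fun y hy => autFun_one (hA.le hy)).trans (img_id A)
      exact ⟨h0, by rw [hcomp, h0]⟩
    | succ k ih =>
      have h0 : img (autFun (α ^ (2 * k + 1 + 1))) A = A := by rw [hcomp, ih.2, hBA]
      exact ⟨h0, by rw [hcomp]; rw [show 2 * (k + 1) = 2 * k + 1 + 1 by ring, h0]⟩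
  obtain ⟨⟨-, R, hR⟩, -⟩ := fullyNormalized_spec hs.pg hs.sat (fullyNormalized_top (F := F))
  rw [← inn_eq_autInducedBy] at hR
  haveI := inn_subgroupOf_autGroup_normal (F := F) S
  obtain ⟨k, hk⟩ : Odd (((Inn ↥S).subgroupOf (F.autGroup S)).index) := by
    rw [← Nat.not_even_iff_odd, even_iff_two_dvd, ← hR]; exact R.not_dvd_index
  have h := Subgroup.pow_index_mem ((Inn ↥S).subgroupOf (F.autGroup S)) (⟨α, hα⟩ : F.autGroup S)
  rw [Subgroup.mem_subgroupOf, Subgroup.coe_pow, hk, inn_eq_autInducedBy] at h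
  obtain ⟨c, hc, hce⟩ := mem_autInducedBy.1 h
  refine hAB ?_
  haveI := finite_of_le hA.le
  rw [← (hstep k).2]
  refine (Subgroup.eq_of_le_of_card_ge (img_le_iff.2 fun y hy => ?_) ?_).symm
  · rw [hce y (hA.le hy)]; exact hA.conj_mem hs.derived hc hy
  · rw [(hstep k).2, hA.card hs, hBm.card hs]

theorem cinv_all [Finite S] (hs : Small 2 F) {A C W : Subgroup Ω} (hd : TwoData F A C W)
    {f : Ω → Ω} (hf : IsMap F S f) : (∀ c ∈ C, f c ∈ C) ∧ (∀ w ∈ W, f w ∈ W) ∧ ∀ a ∈ A, f a ∈ A := by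
  haveI : Fact (Nat.Prime 2) := ⟨Nat.prime_two⟩
  obtain ⟨α, hα, hαe⟩ := exists_aut hf (Subgroup.eq_of_le_of_card_ge hf.img_le hf.card_img.ge)
  have hA := hd.mid
  have hfA : ∀ a ∈ A, f a ∈ A := fun a ha => hαe a (hA.le ha) ▸ aut_fix hs hd α hα a ha
  haveI := finite_of_le hA.le
  obtain ⟨γ, hγ, hγe⟩ := exists_aut (hf.mono hA.le)
    (Subgroup.eq_of_le_of_card_ge (img_le_iff.2 hfA) (hf.mono hA.le).card_img.ge)
  refine ⟨fun c hc => ?_, fun w hw => ?_, hfA⟩
  · rw [← hγe c (hA.gt.le (hd.cle hc))]; exact hd.cinv γ hγ c hc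
  · rw [← hγe w (hd.wle hw)]; exact hd.winv γ hγ w hw

theorem TwoData.card_center [Finite S] {A C W : Subgroup Ω} (hs : Small 2 F) (hd : TwoData F A C W)
    (hc : Nat.card ↥⁅S, S⁆ = 2) : Nat.card ↥(Zc S) = 2 * Nat.card C := by
  haveI : Finite C := finite_of_le (hd.cle.trans Zc_le)
  haveI : Finite ↥⁅S, S⁆ := finite_of_le (hs.derived.trans Zc_le)
  let φ : ↥⁅S, S⁆ × C → ↥(Zc S) := fun x => ⟨x.1 * x.2, mul_mem (hs.derived x.1.2) (hd.cle x.2.2)⟩
  have hb : Function.Bijective φ := by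
    refine ⟨fun x y h => ?_, fun z => ?_⟩
    · have h' : (x.1 : Ω) * x.2 = y.1 * y.2 := congrArg Subtype.val h
      have h2 : (y.1 : Ω)⁻¹ * x.1 = y.2 * (x.2 : Ω)⁻¹ := by
        rw [eq_mul_inv_iff_mul_eq, mul_assoc, h', inv_mul_cancel_left]
      have h3 := hd.disj _ (C.mul_mem y.2.2 (C.inv_mem x.2.2)) (h2 ▸ mul_mem (inv_mem y.1.2) x.1.2)
      rw [h3, inv_mul_eq_one] at h2
      exact Prod.ext (Subtype.ext h2.symm) (Subtype.ext (mul_inv_eq_one.1 h3).symm)
    · obtain ⟨s, hsd, c, hc', he⟩ := hd.zdec z z.2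
      exact ⟨(⟨s, hsd⟩, ⟨c, hc'⟩), Subtype.ext he.symm⟩
  rw [← Nat.card_congr (Equiv.ofBijective φ hb), Nat.card_prod, hc]

theorem two_case [Finite S] (hs : Small 2 F) (hS1 : S ≠ ⊥) (hcore : F.core = ⊥)
    (hhyp : F.hyperfocalSubgroup 2 = S) :
    Zc S = ⁅S, S⁆ ∧ Nat.card ↥(Zc S) = 2 ∧
      ∃ a b : Ω, a ∈ S ∧ b ∈ S ∧ a * a = 1 ∧ b * b = 1 ∧ a * b ≠ b * a := by
  haveI : Fact (Nat.Prime 2) := ⟨Nat.prime_two⟩
  obtain ⟨A, hA⟩ := exists_essential hs.pg hs.sat hS1 hcore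
  obtain ⟨C₁, W₁, hd₁⟩ := ess_two hs hA
  have hm := hd₁.mid
  obtain ⟨B, hB, hne⟩ : ∃ B, F.IsEssential 2 B ∧ A ≠ B := by
    by_contra hno
    push Not at hno
    have hn : F.IsNormal A := normal_criterion hs.pg hs.sat fun P hP => by
      rcases hP with rfl | hP
      · exact ⟨hm.le, fun α hα x hx => aut_fix hs hd₁ α hα x hx⟩
      · obtain rfl := hno P hP
        exact ⟨le_rfl, fun α _ x hx => autFun_mem α hx⟩
    have hbot : A ≤ ⊥ := hcore ▸ le_sSup hn
    exact absurd (bot_le.trans_lt hm.gt) (le_bot_iff.1 hbot ▸ lt_irrefl _)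
  obtain ⟨C₂, W₂, hd₂⟩ := ess_two hs hB
  have honly : ∀ P, F.IsEssential 2 P → P = A ∨ P = B := fun P hP => by
    by_contra h
    push Not at h
    obtain ⟨C₃, W₃, hd₃⟩ := ess_two hs hP
    obtain ⟨b, hb, hbZ⟩ := hd₂.invol
    obtain ⟨d, hd, hdZ⟩ := hd₃.invol
    exact no_third hs hd₁ hd₂.mid hd₃.mid hne (Ne.symm h.1) (Ne.symm h.2)
      ⟨b, hd₂.wle hb, hbZ, hd₂.wsq b hb⟩ ⟨d, hd₃.wle hd, hdZ, hd₃.wsq d hd⟩
  -- the intersection of the two complements is normal
  set K := C₁ ⊓ C₂ with hK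
  have hKn : F.IsNormal K := normal_criterion hs.pg hs.sat fun P hP => by
    refine ⟨fun x hx => Zc_le_centric (crit_cases hs.pg hs.sat hP).1 (hd₁.cle hx.1), fun α hα x hx => ?_⟩
    rcases hP with rfl | hP
    · have hαm := (mem_autGroup le_rfl).1 hα
      exact ⟨(cinv_all hs hd₁ hαm).1 x hx.1, (cinv_all hs hd₂ hαm).1 x hx.2⟩
    rcases honly P hP with rfl | rfl
    · refine ⟨hd₁.cinv α hα x hx.1, ?_⟩
      obtain ⟨f, hf, -, hfe⟩ := hd₁.lift α hα
      rw [hfe x hx.1 ((cinv_all hs hd₁ hf).1 x hx.1)]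
      exact (cinv_all hs hd₂ hf).1 x hx.2
    · refine ⟨?_, hd₂.cinv α hα x hx.2⟩
      obtain ⟨f, hf, -, hfe⟩ := hd₂.lift α hα
      rw [hfe x hx.2 ((cinv_all hs hd₂ hf).1 x hx.2)]
      exact (cinv_all hs hd₁ hf).1 x hx.1
  have hKbot : K = ⊥ := le_bot_iff.1 (hcore ▸ le_sSup hKn)
  have hcd : Nat.card ↥⁅S, S⁆ = 2 := card_derived hs hA
  have hc1 := hd₁.card_center hs hcd
  have hc2 := hd₂.card_center hs hcd
  haveI : Finite C₁ := finite_of_le (hd₁.cle.trans Zc_le)
  haveI : Finite C₂ := finite_of_le (hd₂.cle.trans Zc_le)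
  have hsmall : Nat.card C₁ ≤ 2 := by
    let φ : C₁ × C₂ → ↥(Zc S) := fun x => ⟨x.1 * x.2, mul_mem (hd₁.cle x.1.2) (hd₂.cle x.2.2)⟩
    have hinj : Function.Injective φ := fun x y h => by
      have h' : (x.1 : Ω) * x.2 = y.1 * y.2 := congrArg Subtype.val h
      have h2 : (y.1 : Ω)⁻¹ * x.1 = y.2 * (x.2 : Ω)⁻¹ := by
        rw [eq_mul_inv_iff_mul_eq, mul_assoc, h', inv_mul_cancel_left]
      have h3 : (y.1 : Ω)⁻¹ * x.1 ∈ K :=
        ⟨C₁.mul_mem (C₁.inv_mem y.1.2) x.1.2, h2 ▸ C₂.mul_mem y.2.2 (C₂.inv_mem x.2.2)⟩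
      rw [hKbot, Subgroup.mem_bot] at h3
      rw [h3] at h2
      exact Prod.ext (Subtype.ext (inv_mul_eq_one.1 h3).symm) (Subtype.ext (mul_inv_eq_one.1 h2.symm).symm)
    have h1 := Nat.card_le_card_of_injective φ hinj
    rw [Nat.card_prod, hc1] at h1
    have h2 : Nat.card C₂ = Nat.card C₁ := by omega
    rw [h2] at h1
    exact Nat.le_of_mul_le_mul_right h1 Nat.card_pos
  have hC₁ : C₁ = ⊥ := by
    by_contra hne1
    have hC1c : Nat.card C₁ = 2 := le_antisymm hsmall ((Subgroup.one_lt_card_iff_ne_bot _).2 hne1)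
    have hfix : ∀ {A' C' W' : Subgroup Ω}, TwoData F A' C' W' → Nat.card C' = 2 →
        ∀ f, IsMap F A' f → ∀ c ∈ C', f c ∈ C' → f c = c := by
      intro A' C' W' hd' hc' f hf c hc hfc
      haveI : Finite C' := finite_of_le (hd'.cle.trans Zc_le)
      by_cases h : c = 1
      · subst h; exact hf.map_one
      have hfc1 : f c ≠ 1 := fun h' => h ((hf.eq_one_iff (hd'.mid.gt.le (hd'.cle hc))).1 h')
      obtain ⟨u, v, huv, huniv⟩ := Nat.card_eq_two_iff.1 hc'
      have hmem : ∀ w : C', w = u ∨ w = v := fun w => by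
        have : w ∈ ({u, v} : Set C') := huniv ▸ Set.mem_univ w
        simpa using this
      rcases hmem ⟨f c, hfc⟩ with h1 | h1 <;> rcases hmem ⟨c, hc⟩ with h2 | h2 <;>
        rcases hmem 1 with h3 | h3
      all_goals first
        | exact congrArg Subtype.val (h1.trans h2.symm)
        | exact absurd (congrArg Subtype.val (h1.trans h3.symm)) hfc1
        | exact absurd (congrArg Subtype.val (h2.trans h3.symm)) h
    set D := W₁ ⊔ W₂ with hD
    have hWn : ∀ {A' C' W' : Subgroup Ω}, TwoData F A' C' W' → ∀ g ∈ S, ∀ w ∈ W', g * w * g⁻¹ ∈ W' :=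
      fun {A' C' W'} hd' g hg w hw => by
        have h := hd'.dle (Subgroup.commutator_mem_commutator hg (hd'.mid.le (hd'.wle hw)))
        have := W'.mul_mem h hw
        rwa [commutatorElement_def, inv_mul_cancel_right] at this
    have hDS : D ≤ S := sup_le (hd₁.wle.trans hm.le) (hd₂.wle.trans hd₂.mid.le)
    have hDn : ∀ g ∈ S, ∀ x ∈ D, g * x * g⁻¹ ∈ D := by
      intro g hg x hx
      have : D ≤ D.comap (MulAut.conj g).toMonoidHom :=
        sup_le (fun y hy => Subgroup.mem_sup_left (hWn hd₁ g hg y hy))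
          fun y hy => Subgroup.mem_sup_right (hWn hd₂ g hg y hy)
      exact this hx
    let E := subSystem F (fun P f => ∀ x ∈ P, x⁻¹ * f x ∈ D)
      (fun P f g h hf x hx => h x hx ▸ hf x hx)
      (fun P a hP ha x hx => by
        rw [conjF_apply]
        refine Subgroup.mem_sup_left (hd₁.dle ?_)
        have := Subgroup.commutator_mem_commutator (S.inv_mem (hP hx)) ha
        simpa [commutatorElement_def, mul_assoc] using this)
      (fun P R f g hf hg h1 h2 hPR x hx => by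
        have := D.mul_mem (h1 x hx) (h2 _ (hPR x hx))
        rwa [mul_assoc, mul_inv_cancel_left] at this)
      (fun P f g hf h1 hg hgf y hy => by
        obtain ⟨x, hx, rfl⟩ := hf.mem_img.1 hy
        rw [hgf x hx]
        have := D.inv_mem (h1 x hx)
        rwa [mul_inv_rev, inv_inv] at this)
    have hle : F ≤ E := by
      refine alperin hs.pg hs.sat E fun P hP α hα => ?_
      have hPS : P ≤ S := (crit_cases hs.pg hs.sat hP).1.1
      have hαm := (mem_autGroup hPS).1 hα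
      refine (mem_autGroup hPS).2 (isMap_subSystem.2 ⟨hαm, ?_⟩)
      have ess : ∀ {A' C' W' : Subgroup Ω}, TwoData F A' C' W' → Nat.card C' = 2 → W' ≤ D →
          ∀ f, IsMap F A' f → (∀ c ∈ C', f c ∈ C') → (∀ w ∈ W', f w ∈ W') → ∀ x ∈ A', x⁻¹ * f x ∈ D := by
        intro A' C' W' hd' hc' hWD f hf hC hW x hx
        obtain ⟨w, hw, c, hc, rfl⟩ := hd'.full x hx
        rw [hf.map_mul (hd'.wle hw) (hd'.mid.gt.le (hd'.cle hc)), hfix hd' hc' f hf c hc (hC c hc)]
        have hcS := (hd'.cle hc).1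
        rw [show (w * c)⁻¹ * (f w * c) = c⁻¹ * (w⁻¹ * f w) * c⁻¹⁻¹ by simp [mul_assoc]]
        exact hDn _ (S.inv_mem hcS) _ (D.mul_mem (D.inv_mem (hWD hw)) (hWD (hW w hw)))
      rcases hP with rfl | hP
      · let T : Subgroup Ω :=
          { carrier := {x | x ∈ P ∧ x⁻¹ * autFun α x ∈ D}
            one_mem' := ⟨P.one_mem, by rw [hαm.map_one]; simp⟩
            mul_mem' := fun {x y} hx hy => ⟨P.mul_mem hx.1 hy.1, by
              rw [hαm.map_mul hx.1 hy.1,
                show (x * y)⁻¹ * (autFun α x * autFun α y) =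
                  (y⁻¹ * (x⁻¹ * autFun α x) * y⁻¹⁻¹) * (y⁻¹ * autFun α y) by simp [mul_assoc]]
              exact D.mul_mem (hDn _ (P.inv_mem hy.1) _ hx.2) hy.2⟩
            inv_mem' := fun {x} hx => ⟨P.inv_mem hx.1, by
              rw [hαm.map_inv hx.1, show x⁻¹⁻¹ * (autFun α x)⁻¹ = x * (x⁻¹ * autFun α x)⁻¹ * x⁻¹ by simp [mul_assoc]]
              exact hDn _ hx.1 _ (D.inv_mem hx.2)⟩ }
        obtain ⟨i1, i2, i3⟩ := cinv_all hs hd₁ hαm
        obtain ⟨j1, j2, j3⟩ := cinv_all hs hd₂ hαm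
        have hAT : A ≤ T := fun x hx => ⟨hm.le hx, ess hd₁ hC1c le_sup_left _ (hαm.mono hm.le) i1 i2 x hx⟩
        have hC2c : Nat.card C₂ = 2 := by omega
        have hBT : B ≤ T := fun x hx =>
          ⟨hd₂.mid.le hx, ess hd₂ hC2c le_sup_right _ (hαm.mono hd₂.mid.le) j1 j2 x hx⟩
        intro x hx
        exact ((sup_le hAT hBT : A ⊔ B ≤ T) ((hm.sup_eq hs hd₂.mid hne).ge hx)).2
      have hC2c : Nat.card C₂ = 2 := by omega
      rcases honly P hP with rfl | rfl
      · exact ess hd₁ hC1c le_sup_left _ hαm (hd₁.cinv α hα) (hd₁.winv α hα)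
      · exact ess hd₂ hC2c le_sup_right _ hαm (hd₂.cinv α hα) (hd₂.winv α hα)
    have hSD : S ≤ D := hhyp ▸ hyperfocal_le_iff.2 fun P hP α hα _ =>
      (isMap_subSystem.1 (le_iff.1 hle P _ ((mem_autGroup hP).1 hα))).2
    -- counting
    have hcS : Nat.card S = 16 := by rw [hs.card, hc1, hC1c]; norm_num
    haveI := finite_of_le hDS
    haveI : Finite W₁ := finite_of_le (hd₁.wle.trans hm.le)
    haveI : Finite W₂ := finite_of_le (hd₂.wle.trans hd₂.mid.le)
    haveI : Finite ↥⁅S, S⁆ := finite_of_le (hs.derived.trans Zc_le)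
    have hW1 : W₁.subgroupOf S ⊔ W₂.subgroupOf S = ⊤ := by
      rw [eq_top_iff, ← Subgroup.subgroupOf_sup (hd₁.wle.trans hm.le) (hd₂.wle.trans hd₂.mid.le)]
      exact fun x _ => hSD x.2
    haveI : (W₂.subgroupOf S).Normal := ⟨fun n hn g => hWn hd₂ g g.2 _ hn⟩
    have hmul := Subgroup.mul_normal (W₁.subgroupOf S) (W₂.subgroupOf S)
    have hsurj : Function.Surjective
        (fun x : (W₁.subgroupOf S) × (W₂.subgroupOf S) => (x.1 : S) * x.2) := fun s => by
      have : s ∈ ((W₁.subgroupOf S : Set S) * (W₂.subgroupOf S : Set S)) := by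
        rw [← hmul, SetLike.mem_coe, hW1]; exact Subgroup.mem_top _
      obtain ⟨x, hx, y, hy, hxy⟩ := this
      exact ⟨(⟨x, hx⟩, ⟨y, hy⟩), hxy⟩
    have hle16 := Nat.card_le_card_of_surjective _ hsurj
    rw [Nat.card_prod, hcS, Nat.card_congr (Subgroup.subgroupOfEquivOfLe (hd₁.wle.trans hm.le)).toEquiv,
      Nat.card_congr (Subgroup.subgroupOfEquivOfLe (hd₂.wle.trans hd₂.mid.le)).toEquiv] at hle16
    have h4 := hd₁.wcard
    have h4' := hd₂.wcard
    -- the map is not injective: `⁅S, S⁆` lies in both factors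
    obtain ⟨s, hsd, hs1⟩ : ∃ s ∈ ⁅S, S⁆, s ≠ 1 := by
      by_contra h
      push Not at h
      rw [(Subgroup.eq_bot_iff_forall _).2 h, Subgroup.card_bot] at hcd
      omega
    have hbij := (Nat.bijective_iff_surjective_and_card _).2 ⟨hsurj, by
      rw [Nat.card_prod, hcS, Nat.card_congr (Subgroup.subgroupOfEquivOfLe (hd₁.wle.trans hm.le)).toEquiv,
        Nat.card_congr (Subgroup.subgroupOfEquivOfLe (hd₂.wle.trans hd₂.mid.le)).toEquiv]
      have := Nat.mul_le_mul h4 h4'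
      omega⟩
    have hsS : s ∈ S := Zc_le (hs.derived hsd)
    have := hbij.1 (a₁ := (⟨⟨s, hsS⟩, hd₁.dle hsd⟩, 1)) (a₂ := (1, ⟨⟨s, hsS⟩, hd₂.dle hsd⟩)) (by simp)
    exact hs1 (congrArg (fun x => ((x.1 : S) : Ω)) this)
  have hZd : Zc S = ⁅S, S⁆ := le_antisymm (fun z hz => by
    obtain ⟨s, hsd, c, hc, rfl⟩ := hd₁.zdec z hz
    rw [hC₁, Subgroup.mem_bot] at hc
    rwa [hc, mul_one]) hs.derived
  refine ⟨hZd, by rw [hZd, hcd], ?_⟩
  obtain ⟨a, ha, haZ⟩ := hd₁.invol
  obtain ⟨b, hb, hbZ⟩ := hd₂.invol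
  refine ⟨a, b, hm.le (hd₁.wle ha), hd₂.mid.le (hd₂.wle hb), hd₁.wsq a ha, hd₂.wsq b hb, fun h => haZ ?_⟩
  have hbA : b ∉ A := fun hbA => hbZ ((hm.inf_eq hs hd₂.mid hne).le ⟨hbA, hd₂.wle hb⟩)
  have hle : A ⊔ B ≤ Subgroup.centralizer ({a} : Set Ω) := by
    refine sup_le (fun y hy => Subgroup.mem_centralizer_singleton_iff.2 (hm.comm hs hy (hd₁.wle ha)))
      fun y hy => Subgroup.mem_centralizer_singleton_iff.2 ?_
    by_cases hyZ : y ∈ Zc S
    · exact (Zc_comm hyZ (hm.le (hd₁.wle ha))).symm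
    haveI := finite_of_le hd₂.mid.le
    have hz := coset_two hd₂.mid.gt.le (hd₂.mid.card hs) hy
      (hd₂.wle hb) hyZ hbZ
    calc y * a = y * b⁻¹ * (b * a) := by simp [mul_assoc]
      _ = y * b⁻¹ * a * b := by rw [← h]; simp [mul_assoc]
      _ = a * (y * b⁻¹) * b := by rw [Zc_comm hz (hm.le (hd₁.wle ha))]
      _ = a * y := by simp [mul_assoc]
  exact mem_Zc (hm.le (hd₁.wle ha)) fun x hx =>
    Subgroup.mem_centralizer_singleton_iff.1 (hle ((hm.sup_eq hs hd₂.mid hne).ge hx))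

theorem dihedral_of_two {G : Type*} [Group G] [Finite G] (hc : Nat.card G = 8) {a b : G} (ha : a * a = 1)
    (hb : b * b = 1) (hab : a * b ≠ b * a) : Nonempty (G ≃* DihedralGroup 4) := by
  haveI : Fact (Nat.Prime 2) := ⟨Nat.prime_two⟩
  have hai : a⁻¹ = a := inv_eq_of_mul_eq_one_right ha
  have hbi : b⁻¹ = b := inv_eq_of_mul_eq_one_right hb
  set c := a * b with hcdef
  have hconj : a * c * a⁻¹ = c⁻¹ := by
    rw [hcdef, mul_inv_rev, hbi, hai, ← mul_assoc, ha, one_mul]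
  have hc2 : c ^ 2 ≠ 1 := fun h => hab (by
    rw [pow_two] at h
    have := eq_inv_of_mul_eq_one_left h
    rwa [hcdef, mul_inv_rev, hbi, hai] at this)
  have hd : orderOf c ∣ 2 ^ 3 := by
    have := orderOf_dvd_natCard c
    rwa [hc] at this
  obtain ⟨k, hk, hke⟩ := (Nat.dvd_prime_pow Nat.prime_two).1 hd
  have hk2 : k = 2 := by
    rcases (by omega : k = 0 ∨ k = 1 ∨ k = 2 ∨ k = 3) with rfl | rfl | rfl | rfl
    · exact absurd (orderOf_dvd_iff_pow_eq_one.1 (by rw [hke]; norm_num)) hc2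
    · exact absurd (orderOf_dvd_iff_pow_eq_one.1 (by rw [hke]; norm_num)) hc2
    · rfl
    · exfalso
      have htop : Subgroup.zpowers c = ⊤ := Subgroup.eq_top_of_card_eq _ (by rw [Nat.card_zpowers, hke, hc]; norm_num)
      obtain ⟨i, hi⟩ := Subgroup.mem_zpowers_iff.1 (htop.ge (Subgroup.mem_top a))
      obtain ⟨j, hj⟩ := Subgroup.mem_zpowers_iff.1 (htop.ge (Subgroup.mem_top b))
      have h := ((Commute.refl c).zpow_zpow i j)
      rw [hi, hj] at h
      exact hab h.eq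
  subst hk2
  have hord : orderOf c = 4 := by rw [hke]; norm_num
  let P : ZMod 4 → G := fun i => c ^ i.val
  have hP : ∀ i j, P (i + j) = P i * P j := fun i j => by
    simp only [P]
    have h := pow_mod_orderOf c (i.val + j.val)
    rw [hord] at h
    rw [ZMod.val_add, h, pow_add]
  have hP0 : P 0 = 1 := by simp [P]
  have hPn : ∀ i, P (-i) = (P i)⁻¹ := fun i => by
    refine eq_inv_of_mul_eq_one_left ?_
    rw [← hP, neg_add_cancel, hP0]
  have hPa : ∀ i, P i * a = a * P (-i) := fun i => by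
    have h1 : a * (P i)⁻¹ * a⁻¹ = P i := by
      simp only [P]
      rw [← inv_pow, ← conj_pow]
      have : a * c⁻¹ * a⁻¹ = c := by
        have := congrArg Inv.inv hconj
        simpa [mul_assoc] using this
      rw [this]
    rw [hPn]
    nth_rewrite 1 [← h1]
    rw [inv_mul_cancel_right]
  let φ : DihedralGroup 4 →* G :=
    { toFun := fun x => match x with
        | .r i => P i
        | .sr i => a * P i
      map_one' := hP0
      map_mul' := by
        rintro (i | i) (j | j)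
        · exact hP i j
        · show a * P (j - i) = P i * (a * P j)
          rw [← mul_assoc, hPa, mul_assoc, ← hP, neg_add_eq_sub]
        · show a * P (i + j) = a * P i * P j
          rw [mul_assoc, ← hP]
        · show P (j - i) = a * P i * (a * P j)
          rw [← mul_assoc, mul_assoc a, hPa, ← mul_assoc, ha, one_mul, ← hP, neg_add_eq_sub] }
  have hsurj : Function.Surjective φ := by
    rw [← MonoidHom.range_eq_top]
    have hr : φ (.r 1) = c := by
      show c ^ (1 : ZMod 4).val = c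
      rw [show (1 : ZMod 4).val = 1 from rfl, pow_one]
    have hs' : φ (.sr 0) = a := by show a * P 0 = a; rw [hP0, mul_one]
    have hle : Subgroup.zpowers c < φ.range := lt_of_le_not_ge (Subgroup.zpowers_le.2 ⟨_, hr⟩) fun h => by
      obtain ⟨i, hi⟩ := Subgroup.mem_zpowers_iff.1 (h ⟨_, hs'⟩)
      apply hab
      have hca : Commute a c := hi ▸ ((Commute.refl c).zpow_left i)
      have : b = a⁻¹ * c := by rw [hcdef, inv_mul_cancel_left]
      have h := (Commute.refl a).inv_right.mul_right hca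
      rw [← this] at h
      exact h.eq
    refine Subgroup.eq_top_of_card_eq _ ?_
    have h1 := Subgroup.card_dvd_of_le hle.le
    have h2 : Nat.card (Subgroup.zpowers c) < Nat.card φ.range :=
      lt_of_not_ge fun h => hle.ne (Subgroup.eq_of_le_of_card_ge hle.le h)
    have h3 := Subgroup.card_subgroup_dvd_card φ.range
    rw [Nat.card_zpowers, hord] at h1 h2
    rw [hc] at h3 ⊢
    have h4 := Nat.le_of_dvd (by norm_num) h3
    interval_cases hn : Nat.card φ.range <;> omega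
  exact ⟨(MulEquiv.ofBijective φ ((Nat.bijective_iff_surjective_and_card φ).2
    ⟨hsurj, by rw [DihedralGroup.nat_card, hc]⟩)).symm⟩

theorem small_extraspecial [Finite S] {p : ℕ} [hp : Fact p.Prime] (hS : IsPGroup p ↥S) (hF : F.IsSaturated p)
    (hS1 : S ≠ ⊥) (hcore : F.core = ⊥) (hhyp : F.hyperfocalSubgroup p = S)
    (hZ : (Subgroup.center ↥S).index ≤ p ^ 2) :
    IsExtraspecial p ↥S ∧ Nat.card S = p ^ 3 ∧ (p ≠ 2 → Monoid.exponent ↥S = p) ∧
      (p = 2 → Nonempty (↥S ≃* DihedralGroup 4)) := by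
  have hs := small_of_core hS hF hS1 hcore hZ
  have key : Zc S = ⁅S, S⁆ ∧ Nat.card ↥(Zc S) = p ∧ (p ≠ 2 → Monoid.exponent ↥S = p) ∧
      (p = 2 → Nonempty (↥S ≃* DihedralGroup 4)) := by
    by_cases hp2 : p = 2
    · subst hp2
      obtain ⟨h1, h2, a, b, ha, hb, ha2, hb2, hab⟩ := two_case hs hS1 hcore hhyp
      refine ⟨h1, h2, fun h => absurd rfl h, fun _ => ?_⟩
      exact dihedral_of_two (a := (⟨a, ha⟩ : S)) (b := ⟨b, hb⟩) (by rw [hs.card, h2]; norm_num)
        (Subtype.ext ha2) (Subtype.ext hb2) fun h => hab (congrArg Subtype.val h)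
    · obtain ⟨h1, h2, h3⟩ := odd_case hp2 hs hS1 hcore
      exact ⟨h1, h2, fun _ => h3, fun h => absurd h hp2⟩
  obtain ⟨hZd, hZc, hexp, hdih⟩ := key
  have hcenter : Nat.card (Subgroup.center ↥S) = p := by
    rw [← hZc, Zc_eq_map, Subgroup.card_map_of_injective Subtype.val_injective]
  have hcomm : commutator ↥S = Subgroup.center ↥S := by
    apply Subgroup.map_injective S.subtype_injective
    rw [map_commutator_subtype, ← Zc_eq_map, hZd]
  refine ⟨⟨⟨hS, ?_, hcomm⟩, hcenter⟩, by rw [hs.card, hZc]; ring, hexp, hdih⟩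
  refine le_antisymm ?_ ?_
  · -- two maximal subgroups meet in the centre
    intro x hx
    obtain ⟨A, hA⟩ := exists_essential hS hF hS1 hcore
    have hm := essential_mid hs hA
    obtain ⟨g, hg, hgA⟩ := SetLike.exists_of_lt hm.lt
    have hzg : g ∉ Zc S := fun h => hgA (hm.gt.le h)
    set B := Zc S ⊔ Subgroup.zpowers g with hB
    have hgt : Zc S < B := lt_of_le_not_ge le_sup_left fun h =>
      hzg (h (Subgroup.mem_sup_right (Subgroup.mem_zpowers g)))
    have hBS : B ≠ S := fun h => hzg (mem_Zc hg fun y hy => by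
      have hle : B ≤ Subgroup.centralizer ({g} : Set Ω) := sup_le
        (fun z hz => Subgroup.mem_centralizer_singleton_iff.2 (Zc_comm hz hg).symm)
        (Subgroup.zpowers_le.2 (Subgroup.mem_centralizer_singleton_iff.2 rfl))
      exact Subgroup.mem_centralizer_singleton_iff.1 (hle (h.ge hy)))
    have hBm : Mid S B := ⟨hgt, lt_of_le_of_ne (sup_le Zc_le (Subgroup.zpowers_le.2 hg)) hBS⟩
    have hco : ∀ {X : Subgroup Ω}, Mid S X → IsCoatom (X.subgroupOf S) := fun {X} hX => by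
      refine ⟨fun h => hX.lt.not_ge (Subgroup.subgroupOf_eq_top.1 h), fun Y hY => ?_⟩
      by_contra hne
      have hXY : X < Y.map S.subtype := by
        have := (Subgroup.map_lt_map_iff_of_injective S.subtype_injective).2 hY
        rwa [Subgroup.subgroupOf_map_subtype, inf_eq_left.2 hX.le] at this
      have hYm : Mid S (Y.map S.subtype) := ⟨hX.gt.trans hXY, by
        have := (Subgroup.map_lt_map_iff_of_injective S.subtype_injective).2 (lt_top_iff_ne_top.2 hne)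
        rwa [← MonoidHom.range_eq_map, Subgroup.range_subtype] at this⟩
      have := card_lt_of_lt hYm.le hXY
      rw [hX.card hs, hYm.card hs] at this
      exact lt_irrefl _ this
    have h1 : (x : Ω) ∈ A := frattini_le_coatom (hco hm) hx
    have h2 : (x : Ω) ∈ B := frattini_le_coatom (hco hBm) hx
    have hne : A ≠ B := fun h => hgA (h.ge (Subgroup.mem_sup_right (Subgroup.mem_zpowers g)))
    obtain ⟨c, hc, hce⟩ := Zc_eq_map.le ((hm.inf_eq hs hBm hne).le ⟨h1, h2⟩)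
    rwa [← Subtype.ext hce]
  · rw [← hcomm]
    intro x hx
    obtain ⟨y, hy, hye⟩ := commutator_le_frattini_map hS (p := p)
      ((map_commutator_subtype S).le ⟨x, hx, rfl⟩)
    rwa [← S.subtype_injective hye]

end CfsgLib.Fus
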