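import Mathlib.Algebra.Group.Shrink
import Cfsg.Agent.Solv.ClassTwo
import Cfsg.Agent.Inv.QdSylow
import Cfsg.Agent.Fus.SmallCenterTwo

/-!
Splitting a group with derived subgroup of order `p` as a product of a group of order `p ^ 3` and an abelian group.
-/

set_option autoImplicit false
set_option linter.style.haveILetI false

open scoped commutatorElement

namespace CfsgLib.Fus.GenExtra

universe u

/-- A finite group has an isomorphic copy on a type of the lowest universe. -/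
theorem exists_small (H : Type u) [Group H] [Finite H] : ∃ (H₀ : Type) (_ : Group H₀), Nonempty (H ≃* H₀) := by
  exact ⟨Shrink.{0} H, inferInstance, ⟨Shrink.mulEquiv.symm⟩⟩

variable {P : Type u} [Group P] [Finite P] {p : ℕ} [hp : Fact p.Prime]

/-- The splitting. -/
theorem split {z w y : P} (hz : ∀ g : P, g * z = z * g) (hzo : orderOf z = p)
    (hcom : ∀ a b : P, ⁅a, b⁆ ∈ Subgroup.zpowers z) (hy : y ^ p = 1) (hw : w ^ p = 1)
    (hwy : w * y * w⁻¹ = y * z)
    (hC : ∀ c d : P, c * y = y * c → d * y = y * d → c * d = d * c)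
    (hCp : ∀ c : P, c * y = y * c → c ^ p = 1) :
    ∃ (E : Type) (_ : Group E) (A : Type) (_ : CommGroup A),
      Nat.card E = p ^ 3 ∧ (∀ a : A, a ^ p = 1) ∧ (p ≠ 2 → Cfsg.IsExtraspecial p E ∧ Monoid.exponent E = p) ∧
      (p = 2 → Nonempty (E ≃* DihedralGroup 4)) ∧ Nonempty (P ≃* E × A) := by
  classical
  have hzp : z ^ p = 1 := hzo ▸ pow_orderOf_eq_one z
  have hzc : z ∈ Subgroup.center P := Subgroup.mem_center_iff.2 hz
  have hwy' : ∀ i : ℕ, w ^ i * y * (w ^ i)⁻¹ = y * z ^ i := by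
    intro i
    induction i with
    | zero => simp
    | succ i ih =>
      calc w ^ (i + 1) * y * (w ^ (i + 1))⁻¹ = w * (w ^ i * y * (w ^ i)⁻¹) * w⁻¹ := by rw [pow_succ']; group
        _ = w * y * w⁻¹ * (w * z ^ i * w⁻¹) := by rw [ih]; group
        _ = y * z ^ (i + 1) := by
          rw [hwy, show w * z ^ i = z ^ i * w from ((show Commute w z from hz w).pow_right i).eq,
            mul_inv_cancel_right, mul_assoc, ← pow_succ']
  have hyw : ∀ j : ℕ, w * y ^ j * w⁻¹ = y ^ j * z ^ j := by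
    intro j
    rw [← conj_pow, hwy, (show Commute y z from hz y).mul_pow]
  have hnat : ∀ a : P, a ∈ Subgroup.zpowers z → ∃ i : ℕ, z ^ i = a := fun a ha =>
    (mem_powers_iff_mem_zpowers.2 ha : a ∈ Submonoid.powers z)
  have hcz : ∀ i : ℕ, z ^ i = 1 → i % p = 0 := fun i h =>
    Nat.mod_eq_zero_of_dvd (hzo ▸ orderOf_dvd_of_pow_eq_one h)
  have hyz : Commute y z := hz y
  -- decomposition
  have hdec : ∀ g : P, ∃ i j : ℕ, ∃ c ∈ Subgroup.center P, g = w ^ i * y ^ j * c := by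
    intro g
    obtain ⟨i, hi⟩ := hnat _ (hcom g y)
    have hg : g * y * g⁻¹ = y * z ^ i := by
      rw [CfsgLib.Solv.conj_eq_commutator_mul, ← hi, (hyz.pow_right i).eq]
    set c₁ := (w ^ i)⁻¹ * g with hc₁
    have hc₁y : c₁ * y = y * c₁ := by
      rw [hc₁]
      calc (w ^ i)⁻¹ * g * y = (w ^ i)⁻¹ * (g * y * g⁻¹) * g := by group
        _ = (w ^ i)⁻¹ * (w ^ i * y * (w ^ i)⁻¹) * g := by rw [hg, hwy' i]
        _ = y * ((w ^ i)⁻¹ * g) := by group
    obtain ⟨j, hj⟩ := hnat _ (hcom w c₁)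
    set c := (y ^ j)⁻¹ * c₁ with hc
    have hyjy : y ^ j * y = y * y ^ j := ((Commute.refl y).pow_left j).eq
    have hcy : c * y = y * c :=
      ((show Commute (y ^ j) y from hyjy).inv_left.mul_left hc₁y).eq
    have hwc₁ : w * c₁ * w⁻¹ = c₁ * z ^ j := by
      rw [CfsgLib.Solv.conj_eq_commutator_mul, ← hj, ((show Commute c₁ z from hz c₁).pow_right j).eq]
    have hcw : w * c = c * w := by
      have h : w * c * w⁻¹ = c := by
        rw [hc]
        calc w * ((y ^ j)⁻¹ * c₁) * w⁻¹ = (w * y ^ j * w⁻¹)⁻¹ * (w * c₁ * w⁻¹) := by group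
          _ = (z ^ j)⁻¹ * ((y ^ j)⁻¹ * c₁) * z ^ j := by rw [hyw, hwc₁]; group
          _ = _ := by
            have h3 : Commute ((y ^ j)⁻¹ * c₁) (z ^ j) := (show Commute _ z from hz _).pow_right j
            rw [h3.inv_right.eq.symm, inv_mul_cancel_right]
      exact mul_inv_eq_iff_eq_mul.1 h
    refine ⟨i, j, c, Subgroup.mem_center_iff.2 fun d => ?_, by rw [hc, hc₁]; group⟩
    obtain ⟨i', hi'⟩ := hnat _ (hcom d y)
    have hd : d * y * d⁻¹ = y * z ^ i' := by
      rw [CfsgLib.Solv.conj_eq_commutator_mul, ← hi', (hyz.pow_right i').eq]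
    have hd' : (w ^ i')⁻¹ * d * y = y * ((w ^ i')⁻¹ * d) := by
      calc (w ^ i')⁻¹ * d * y = (w ^ i')⁻¹ * (d * y * d⁻¹) * d := by group
        _ = (w ^ i')⁻¹ * (w ^ i' * y * (w ^ i')⁻¹) * d := by rw [hd, hwy' i']
        _ = y * ((w ^ i')⁻¹ * d) := by group
    have h := (((show Commute w c from hcw).pow_left i').symm.mul_right (hC c _ hcy hd')).eq
    rw [mul_inv_cancel_left] at h
    exact h.symm
  have hcyZ : ∀ c ∈ Subgroup.center P, c * y = y * c := fun c hc => (Subgroup.mem_center_iff.1 hc y).symm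
  -- a complement of `z` in the centre
  obtain ⟨A₀, hA₀, hmax⟩ := Set.exists_max_image {A : Subgroup P | A ≤ Subgroup.center P ∧ z ∉ A}
    (fun A => Nat.card A) (Set.toFinite _) ⟨⊥, bot_le, fun h => hp.out.ne_one (by
      rw [Subgroup.mem_bot] at h; rw [← hzo, h, orderOf_one])⟩
  have hZA : ∀ c ∈ Subgroup.center P, ∃ k : ℕ, ∃ a ∈ A₀, c = z ^ k * a := by
    intro c hc
    haveI : A₀.Normal := ⟨fun a ha g => by
      rw [Subgroup.mem_center_iff.1 (hA₀.1 ha) g, mul_inv_cancel_right]; exact ha⟩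
    by_cases hzm : z ∈ A₀ ⊔ Subgroup.zpowers c
    · obtain ⟨a, ha, b, hb, hab⟩ := Subgroup.mem_sup_of_normal_left.1 hzm
      obtain ⟨i, rfl⟩ := (mem_powers_iff_mem_zpowers.2 hb : b ∈ Submonoid.powers c)
      have hcp : c ^ p = 1 := hCp c (hcyZ c hc)
      have hip : ¬ p ∣ i := fun ⟨m, hm⟩ => hA₀.2 (by
        rw [← hab]
        simp only [hm, pow_mul, hcp, one_pow, mul_one]
        exact ha)
      obtain ⟨m, hm⟩ : ∃ m : ℕ, (c ^ i) ^ m = c := by
        obtain ⟨m, -, hm⟩ := Nat.exists_mul_mod_eq_one_of_coprime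
          ((hp.out.coprime_iff_not_dvd.2 hip).symm) hp.out.one_lt
        exact ⟨m, by rw [← pow_mul, ← pow_mod_orderOf]
                     rcases eq_or_ne c 1 with rfl | hc1
                     · simp
                     · rw [orderOf_eq_prime hcp hc1, hm, pow_one]⟩
      refine ⟨m, (a ^ m)⁻¹, A₀.inv_mem (A₀.pow_mem ha m), ?_⟩
      have hac : Commute a (c ^ i) :=
        (show Commute a c from (Subgroup.mem_center_iff.1 hc a)).pow_right i
      rw [← hab, hac.mul_pow, hm]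
      rw [(show Commute (a ^ m) c from (Subgroup.mem_center_iff.1 hc _)).eq, mul_inv_cancel_right]
    · have hle : A₀ ⊔ Subgroup.zpowers c ≤ Subgroup.center P := sup_le hA₀.1 (Subgroup.zpowers_le.2 hc)
      have he := Subgroup.eq_of_le_of_card_ge le_sup_left (hmax _ ⟨hle, hzm⟩)
      refine ⟨0, c, he.ge (Subgroup.mem_sup_right (Subgroup.mem_zpowers c)), by simp⟩
  set E := Subgroup.closure ({w, y} : Set P) with hE
  have hwE : w ∈ E := Subgroup.subset_closure (by simp)
  have hyE : y ∈ E := Subgroup.subset_closure (by simp)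
  have hzE : z ∈ E := by
    have : z = y⁻¹ * (w * y * w⁻¹) := by rw [hwy, inv_mul_cancel_left]
    rw [this]
    exact E.mul_mem (E.inv_mem hyE) (E.mul_mem (E.mul_mem hwE hyE) (E.inv_mem hwE))
  set K := Subgroup.zpowers y ⊔ Subgroup.zpowers z with hK
  haveI hKn : K.Normal := ⟨fun k hk g => by
    rw [CfsgLib.Solv.conj_eq_commutator_mul]
    exact K.mul_mem (Subgroup.mem_sup_right (hcom g k)) hk⟩
  haveI hzn : (Subgroup.zpowers z).Normal := ⟨fun k hk g => by
    rw [CfsgLib.Solv.conj_eq_commutator_mul]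
    exact mul_mem (hcom g k) hk⟩
  have hEset : ∀ e ∈ E, ∃ i j k : ℕ, e = w ^ i * y ^ j * z ^ k := by
    intro e he
    have he' : e ∈ Subgroup.zpowers w ⊔ K := by
      refine (Subgroup.closure_le _).2 ?_ he
      rintro x (rfl | rfl)
      exacts [Subgroup.mem_sup_left (Subgroup.mem_zpowers _),
        Subgroup.mem_sup_right (Subgroup.mem_sup_left (Subgroup.mem_zpowers _))]
    obtain ⟨a, ha, b, hb, rfl⟩ := Subgroup.mem_sup_of_normal_right.1 he'
    obtain ⟨i, rfl⟩ := (mem_powers_iff_mem_zpowers.2 ha : a ∈ Submonoid.powers w)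
    obtain ⟨c, hc, d, hd, rfl⟩ := Subgroup.mem_sup_of_normal_right.1 hb
    obtain ⟨j, rfl⟩ := (mem_powers_iff_mem_zpowers.2 hc : c ∈ Submonoid.powers y)
    obtain ⟨k, rfl⟩ := hnat d hd
    exact ⟨i, j, k, (mul_assoc _ _ _).symm⟩
  -- the exponents are unique
  have hcent : ∀ i j : ℕ, w ^ i * y ^ j ∈ Subgroup.center P → i % p = 0 ∧ j % p = 0 := by
    intro i j h
    have hi : w ^ i * y = y * w ^ i := by
      have := (Subgroup.mem_center_iff.1 h y).symm
      rw [mul_assoc, ((Commute.refl y).pow_left j).eq, ← mul_assoc, ← mul_assoc] at this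
      exact mul_right_cancel this
    have hi' : z ^ i = 1 := by
      have := hwy' i
      rw [hi, mul_inv_cancel_right] at this
      exact left_eq_mul.1 this
    have hi0 := hcz i hi'
    refine ⟨hi0, ?_⟩
    rw [show w ^ i = 1 from by rw [pow_eq_pow_mod i hw, hi0, pow_zero], one_mul] at h
    have := hyw j
    rw [Subgroup.mem_center_iff.1 h w, mul_inv_cancel_right] at this
    exact hcz j (left_eq_mul.1 this)
  have huniq : ∀ i i' j j' c c', c ∈ Subgroup.center P → c' ∈ Subgroup.center P →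
      w ^ i * y ^ j * c = w ^ i' * y ^ j' * c' → i % p = i' % p ∧ j % p = j' % p := by
    intro i i' j j' c c' hc hc' h
    have hb : ∀ d ∈ Subgroup.center P, ∀ g : P, g * d * g⁻¹ = d := fun d hd g => by
      rw [Subgroup.mem_center_iff.1 hd g, mul_inv_cancel_right]
    obtain ⟨m, hm⟩ : ∃ m, m = (p - 1) * i' := ⟨_, rfl⟩
    have hwi : w ^ m * w ^ i' = 1 := by
      rw [← pow_add, hm, show (p - 1) * i' + i' = p * i' by
        rw [Nat.sub_one_mul, Nat.sub_add_cancel (Nat.le_mul_of_pos_left i' hp.out.pos)], pow_mul, hw, one_pow]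
    obtain ⟨n, hn⟩ : ∃ n, n = (p - 1) * j' := ⟨_, rfl⟩
    have hyj : y ^ j' * y ^ n = 1 := by
      rw [← pow_add, hn, add_comm, show (p - 1) * j' + j' = p * j' by
        rw [Nat.sub_one_mul, Nat.sub_add_cancel (Nat.le_mul_of_pos_left j' hp.out.pos)], pow_mul, hy, one_pow]
    have hmem : w ^ (m + i) * y ^ (j + n) ∈ Subgroup.center P := by
      have e : w ^ (m + i) * y ^ (j + n) = c' * c⁻¹ := by
        have h1 : c' * y ^ n = y ^ n * c' := (Subgroup.mem_center_iff.1 hc' (y ^ n)).symm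
        have h2 : c⁻¹ * y ^ n = y ^ n * c⁻¹ := (Subgroup.mem_center_iff.1 (Subgroup.inv_mem _ hc) (y ^ n)).symm
        calc w ^ (m + i) * y ^ (j + n) = w ^ m * (w ^ i * y ^ j * c) * (c⁻¹ * y ^ n) := by
              rw [pow_add, pow_add]; group
          _ = w ^ m * (w ^ i' * y ^ j' * c') * (y ^ n * c⁻¹) := by rw [h, h2]
          _ = (w ^ m * w ^ i') * y ^ j' * (c' * y ^ n) * c⁻¹ := by group
          _ = (y ^ j' * y ^ n) * c' * c⁻¹ := by rw [hwi, h1]; group
          _ = _ := by rw [hyj, one_mul]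
      rw [e]
      exact mul_mem hc' (Subgroup.inv_mem _ hc)
    obtain ⟨h1, h2⟩ := hcent _ _ hmem
    constructor
    · have : (m + i + i') % p = (0 + i') % p := by rw [Nat.add_mod, h1]; simp
      rw [show m + i + i' = p * i' + i by
        rw [hm, Nat.sub_one_mul]; have := Nat.le_mul_of_pos_left i' hp.out.pos; omega,
        Nat.mul_add_mod, zero_add] at this
      exact this
    · have : (j + n + j') % p = (0 + j') % p := by rw [Nat.add_mod, h2]; simp
      rw [show j + n + j' = p * j' + j by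
        rw [hn, Nat.sub_one_mul]; have := Nat.le_mul_of_pos_left j' hp.out.pos; omega,
        Nat.mul_add_mod, zero_add] at this
      exact this
  -- the order of `E`
  let f : Fin p × Fin p × Fin p → ↥E := fun t =>
    ⟨w ^ (t.1 : ℕ) * y ^ (t.2.1 : ℕ) * z ^ (t.2.2 : ℕ), mul_mem (mul_mem (pow_mem hwE _) (pow_mem hyE _)) (pow_mem hzE _)⟩
  have hfb : Function.Bijective f := by
    refine ⟨fun s t h => ?_, fun e => ?_⟩
    · have h' := congrArg Subtype.val h
      obtain ⟨h1, h2⟩ := huniq _ _ _ _ _ _ (pow_mem hzc _) (pow_mem hzc _) h'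
      rw [Nat.mod_eq_of_lt s.1.2, Nat.mod_eq_of_lt t.1.2] at h1
      rw [Nat.mod_eq_of_lt s.2.1.2, Nat.mod_eq_of_lt t.2.1.2] at h2
      have h3 : z ^ (s.2.2 : ℕ) = z ^ (t.2.2 : ℕ) := by
        simp only [f, h1, h2] at h'
        exact mul_left_cancel h'
      have h4 : (s.2.2 : ℕ) = t.2.2 :=
        pow_injOn_Iio_orderOf (hzo.symm ▸ s.2.2.2) (hzo.symm ▸ t.2.2.2) h3
      exact Prod.ext (Fin.ext h1) (Prod.ext (Fin.ext h2) (Fin.ext h4))
    · obtain ⟨i, j, k, he⟩ := hEset e e.2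
      refine ⟨(⟨i % p, Nat.mod_lt _ hp.out.pos⟩, ⟨j % p, Nat.mod_lt _ hp.out.pos⟩, ⟨k % p, Nat.mod_lt _ hp.out.pos⟩),
        Subtype.ext ?_⟩
      show w ^ (i % p) * y ^ (j % p) * z ^ (k % p) = e
      rw [he, ← pow_eq_pow_mod i hw, ← pow_eq_pow_mod j hy, ← pow_eq_pow_mod k hzp]
  have hcard : Nat.card ↥E = p ^ 3 := by
    rw [← Nat.card_congr (Equiv.ofBijective f hfb)]
    simp [Nat.card_prod]
    ring
  -- the product
  letI : CommGroup ↥A₀ :=
    { (inferInstance : Group ↥A₀) with mul_comm := fun a b => Subtype.ext (Subgroup.mem_center_iff.1 (hA₀.1 b.2) a) }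
  let φ : ↥E × ↥A₀ →* P := MonoidHom.noncommCoprod E.subtype A₀.subtype
    fun e a => Subgroup.mem_center_iff.1 (hA₀.1 a.2) e
  have hφ : Function.Bijective φ := by
    refine ⟨(injective_iff_map_eq_one φ).2 ?_, fun g => ?_⟩
    · rintro ⟨e, a⟩ h
      have h' : (e : P) * (a : P) = 1 := h
      obtain ⟨i, j, k, he⟩ := hEset e e.2
      have hec : (e : P) ∈ Subgroup.center P := by
        rw [eq_inv_of_mul_eq_one_left h']; exact Subgroup.inv_mem _ (hA₀.1 a.2)
      obtain ⟨hi, hj⟩ := huniq i 0 j 0 (z ^ k) (e : P) (pow_mem hzc k) hec (by simp [← he])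
      rw [Nat.zero_mod] at hi hj
      have he' : (e : P) = z ^ k := by
        rw [he, pow_eq_pow_mod i hw, pow_eq_pow_mod j hy, hi, hj]; simp
      have hk : z ^ k = 1 := by
        by_contra hk1
        have hzk : z ^ k ∈ A₀ := by
          rw [← he', eq_inv_of_mul_eq_one_left h']; exact A₀.inv_mem a.2
        obtain ⟨m, -, hm⟩ := Nat.exists_mul_mod_eq_one_of_coprime (n := k) (k := p)
          ((hp.out.coprime_iff_not_dvd.2 fun ⟨d, hd⟩ => hk1 (by rw [hd, pow_mul, hzp, one_pow])).symm) hp.out.one_lt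
        refine hA₀.2 ?_
        have := A₀.pow_mem hzk m
        rwa [← pow_mul, pow_eq_pow_mod (k * m) hzp, hm, pow_one] at this
      have he1 : e = 1 := Subtype.ext (he'.trans hk)
      have ha1 : a = 1 := Subtype.ext (by rw [he1] at h'; simpa using h')
      rw [he1, ha1]; rfl
    · obtain ⟨i, j, c, hc, rfl⟩ := hdec g
      obtain ⟨k, a, ha, rfl⟩ := hZA c hc
      exact ⟨(⟨w ^ i * y ^ j * z ^ k, mul_mem (mul_mem (pow_mem hwE _) (pow_mem hyE _)) (pow_mem hzE _)⟩, ⟨a, ha⟩),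
        mul_assoc _ _ _⟩
  have hne : ¬ ∀ a b : ↥E, a * b = b * a := fun h => hp.out.ne_one (by
    have h1 := congrArg Subtype.val (h ⟨w, hwE⟩ ⟨y, hyE⟩)
    change w * y = y * w at h1
    rw [h1, mul_inv_cancel_right] at hwy
    rw [← hzo, left_eq_mul.1 hwy, orderOf_one])
  obtain ⟨E₀, hE₀, ⟨eE⟩⟩ := exists_small ↥E
  obtain ⟨A₁, hA₁, ⟨eA⟩⟩ := exists_small ↥A₀
  letI : CommGroup A₁ := { hA₁ with mul_comm := fun a b => eA.symm.injective (by rw [map_mul, map_mul, mul_comm]) }
  haveI : Finite E₀ := Finite.of_equiv _ eE.toEquiv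
  refine ⟨E₀, hE₀, A₁, inferInstance, (Nat.card_congr eE.toEquiv).symm.trans hcard, fun a => ?_, fun hp2 => ?_, fun hp2 => ?_,
    ⟨(MulEquiv.ofBijective φ hφ).symm.trans (MulEquiv.prodCongr eE eA)⟩⟩
  · refine eA.symm.injective ?_
    rw [map_pow, map_one]
    exact Subtype.ext (hCp _ (hcyZ _ (hA₀.1 (eA.symm a).2)))
  · have hexp : ∀ e : ↥E, e ^ p = 1 := by
      intro e
      obtain ⟨i, j, k, he⟩ := hEset e e.2
      refine Subtype.ext ?_
      rw [Subgroup.coe_pow, he, OneMemClass.coe_one,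
        (show Commute (w ^ i * y ^ j) (z ^ k) from ((show Commute _ z from hz _).pow_right k)).mul_pow]
      have hd : ∀ a b c : P, Commute ⁅a, b⁆ c := fun a b c => by
        obtain ⟨l, hl⟩ := hnat _ (hcom a b)
        rw [← hl]; exact ((show Commute c z from hz c).pow_right l).symm
      have hdp : ⁅y ^ j, w ^ i⁆ ^ p = 1 := by
        obtain ⟨l, hl⟩ := hnat _ (hcom (y ^ j) (w ^ i))
        rw [← hl, ← pow_mul, mul_comm, pow_mul, hzp, one_pow]
      rw [CfsgLib.Solv.mul_pow_prime hp2 (hd _ _ _) (hd _ _ _) hdp, ← pow_mul, mul_comm i, pow_mul, hw, ← pow_mul,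
        mul_comm j, pow_mul, hy, ← pow_mul, mul_comm k, pow_mul, hzp]
      simp
    have hexp' : ∀ e : E₀, e ^ p = 1 := fun e => by
      rw [← eE.apply_symm_apply e, ← map_pow, hexp, map_one]
    refine ⟨CfsgLib.Inv.QdSylow.extraspecial_of_cube ((Nat.card_congr eE.toEquiv).symm.trans hcard) hexp'
      (fun h => hne fun a b => eE.injective (by rw [map_mul, map_mul, h])), ?_⟩
    haveI : Nontrivial E₀ := Finite.one_lt_card_iff_nontrivial.1
      ((Nat.card_congr eE.toEquiv).symm.trans hcard ▸ Nat.one_lt_pow (by norm_num) hp.out.one_lt)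
    rcases (Nat.dvd_prime hp.out).1 (Monoid.exponent_dvd_of_forall_pow_eq_one hexp') with h | h
    · exact absurd (Monoid.exp_eq_one_iff.1 h) (not_subsingleton E₀)
    · exact h
  · obtain ⟨eD⟩ := dihedral_of_two (G := ↥E) (by rw [hcard, hp2]; norm_num) (a := ⟨w, hwE⟩) (b := ⟨y, hyE⟩)
      (Subtype.ext (by rw [Subgroup.coe_mul, ← sq, ← hp2]; exact hw))
      (Subtype.ext (by rw [Subgroup.coe_mul, ← sq, ← hp2]; exact hy)) fun h => by
        have h1 := congrArg Subtype.val h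
        change w * y = y * w at h1
        rw [h1, mul_inv_cancel_right] at hwy
        exact hp.out.ne_one (by rw [← hzo, left_eq_mul.1 hwy, orderOf_one])
    exact ⟨eE.symm.trans eD⟩

end CfsgLib.Fus.GenExtra
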