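import Cfsg.Agent.Fus.QdPair
import Cfsg.Agent.Fus.InnerCriteria
import Cfsg.Prelude.Def_FusionReduction
import Cfsg.Prelude.Def_FusionComponents

/-!
Being free of `qd p` in terms of the automorphism groups of the system: inheritance by normalizer and factor systems, and
reduction to centric radical subgroups.
-/

set_option autoImplicit false
set_option linter.style.haveILetI false

open Cfsg Cfsg.FusionSystem

namespace CfsgLib.Fus

universe u v

variable {Ω : Type u} [Group Ω] {S : Subgroup Ω} {F : FusionSystem S} {p : ℕ}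

/-- No two maps of the system give a section `qd p` on a subgroup. -/
def NoQdPair (F : FusionSystem S) (p : ℕ) : Prop :=
  ∀ A : Subgroup Ω, A ≤ S → ∀ α ∈ F.autGroup A, ∀ β ∈ F.autGroup A, ¬ QdPair p ↥A α β

/-- A system without such pairs is free of `qd p`. -/
theorem NoQdPair.isSectionFree [Finite S] [Fact p.Prime] (h : NoQdPair F p) :
    F.IsSectionFree p ↥(Cfsg.qd p) := by
  intro Q hQ _ N hN L _ ι hL hinv
  obtain ⟨hfin, hι, ⟨T, hT⟩, -⟩ := hL
  haveI := hfin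
  obtain ⟨A, x, y, α, β, hA, hx, hy, hpair⟩ := exists_pair (p := p) hinv
  obtain ⟨c, -, hc⟩ := (CfsgLib.Glau.syl_top T).exists_conj_le le_top hA
  rw [hT] at hc
  choose a₀ ha₀ using fun a : ↥A => hc (CfsgLib.Glau.conj_mem_cj (g := c) a.2)
  let j : ↥A →* Ω :=
    { toFun := fun a => (a₀ a : Ω)
      map_one' := by rw [show a₀ 1 = 1 from hι.1 (by rw [ha₀, map_one]; simp)]; rfl
      map_mul' := fun a b => by
        rw [show a₀ (a * b) = a₀ a * a₀ b from hι.1 (by rw [map_mul, ha₀, ha₀, ha₀]; simp [mul_assoc])]; rfl }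
  have hj : Function.Injective j := fun a b h => by
    have h2 := congrArg ι (show a₀ a = a₀ b from Subtype.ext h)
    rw [ha₀, ha₀] at h2
    exact Subtype.ext (mul_left_cancel (mul_right_cancel h2))
  let e : ↥A ≃* ↥j.range := MonoidHom.ofInjective hj
  have hjR : j.range ≤ normalizerIn S Q := by rintro _ ⟨a, rfl⟩; exact (a₀ a).2
  have hAS : j.range ≤ S := hjR.trans (normalizerIn_le Q)
  have key : ∀ (w : L) (γ : MulAut ↥A), (∀ a : ↥A, w * a * w⁻¹ = γ a) → MulAut.congr e γ ∈ F.autGroup j.range := by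
    intro w γ hw
    set φ : ↥j.range →* Ω := j.range.subtype.comp (MulAut.congr e γ).toMonoidHom with hφ
    have hval : ∀ a, φ (e a) = j (γ a) := fun a => by
      show ((e (γ (e.symm (e a))) : ↥j.range) : Ω) = _
      rw [e.symm_apply_apply]
      rfl
    have hmem : φ ∈ N.Hom j.range := by
      refine (hι.2 j.range hjR φ fun z => hjR (MulAut.congr e γ z).2).2 ⟨c * w * c⁻¹, fun z => ?_⟩
      obtain ⟨a, rfl⟩ := e.surjective z
      rw [show (⟨φ (e a), hjR (MulAut.congr e γ (e a)).2⟩ : ↥(normalizerIn S Q)) = a₀ (γ a) from Subtype.ext (hval a),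
        show (⟨((e a : ↥j.range) : Ω), hjR (e a).2⟩ : ↥(normalizerIn S Q)) = a₀ a from Subtype.ext rfl, ha₀, ha₀]
      rw [← hw]
      simp [mul_assoc]
    refine (mem_autGroup hAS).2 (isMap_of_normalizerSystem hN ⟨φ, hmem, fun z => ?_⟩).1
    exact (autFun_apply (MulAut.congr e γ) z).symm
  refine h j.range hAS _ (key x α hx) _ (key y β hy)
    (hpair.comap (f := e.symm.toMonoidHom) e.symm.surjective (fun a => ?_) fun a => ?_)
  · exact e.symm_apply_apply _
  · exact e.symm_apply_apply _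

/-- A pair of maps on a centric subgroup restricting to a section `qd p` is seen in the model of a centric radical subgroup. -/
theorem no_pair_on_centric [Finite S] [Fact p.Prime] (hS : IsPGroup p S) (hF : F.IsSaturated p)
    (h : ∀ Q : Subgroup Ω, F.IsFullyNormalized Q → F.IsCentric Q → F.IsRadical p Q →
      ∀ N : FusionSystem (normalizerIn S Q), F.IsNormalizerSystem Q N →
        ∀ (L : Type u) [Group L] (ι : ↥(normalizerIn S Q) →* L), N.IsModel p L ι → ¬ Involves ↥(Cfsg.qd p) L) :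
    ∀ (Q A : Subgroup Ω), F.IsCentric Q → A ≤ Q → ∀ f g, IsMap F Q f → IsMap F Q g → img f Q = Q → img g Q = Q →
      ∀ α β : MulAut ↥A, (∀ x ∈ A, f x = autFun α x) → (∀ x ∈ A, g x = autFun β x) → ¬ QdPair p ↥A α β := by
  suffices key : ∀ (n : ℕ) (Q A : Subgroup Ω), Nat.card S - Nat.card ↥Q = n → F.IsCentric Q → A ≤ Q →
      ∀ f g, IsMap F Q f → IsMap F Q g → img f Q = Q → img g Q = Q →
      ∀ α β : MulAut ↥A, (∀ x ∈ A, f x = autFun α x) → (∀ x ∈ A, g x = autFun β x) → ¬ QdPair p ↥A α β from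
    fun Q A => key _ Q A rfl
  intro n
  induction n using Nat.strong_induction_on with
  | _ n ih =>
  intro Q A hn hQc hAQ f g hf hg hfQ hgQ α β hα hβ hpair
  have hQS := hQc.1
  haveI := finite_of_le hQS
  -- move to a fully normalized conjugate
  obtain ⟨Q', hQQ', hQ'⟩ := exists_fullyNormalized (F := F) hQS
  obtain ⟨ψ, hψ, hψi⟩ := isConj_iff.1 hQQ'
  obtain ⟨k, hk, hkl, hkr, hki⟩ := hψ.inv
  rw [hψi] at hk hki
  have hQ'c := centric_of_isConj hQc hQQ'
  set A' := img ψ A with hA'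
  have hA'Q : A' ≤ Q' := (img_mono hAQ).trans hψi.le
  obtain ⟨e, he⟩ := (hψ.mono hAQ).equiv (rfl : img ψ A = A')
  set α' := MulAut.congr e α with hα'd
  set β' := MulAut.congr e β with hβ'd
  have hpair' : QdPair p ↥A' α' β' :=
    hpair.comap (f := e.symm.toMonoidHom) e.symm.surjective (fun a => e.symm_apply_apply _) fun a => e.symm_apply_apply _
  set f' := ψ ∘ f ∘ k with hf'd
  set g' := ψ ∘ g ∘ k with hg'd
  have hkQ : ∀ y ∈ Q', k y ∈ Q := fun y hy => hki.le (mem_img_of_mem hy)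
  have hmapf : IsMap F Q' f' :=
    (hk.comp hf hkQ).comp hψ fun y hy => hfQ.le (mem_img_of_mem (hkQ y hy))
  have hmapg : IsMap F Q' g' :=
    (hk.comp hg hkQ).comp hψ fun y hy => hgQ.le (mem_img_of_mem (hkQ y hy))
  haveI := finite_of_le hQ'.1
  have hf'Q : img f' Q' = Q' := Subgroup.eq_of_le_of_card_ge (img_le_iff.2 fun y hy =>
    hψi.le (mem_img_of_mem (hfQ.le (mem_img_of_mem (hkQ y hy))))) hmapf.card_img.ge
  have hg'Q : img g' Q' = Q' := Subgroup.eq_of_le_of_card_ge (img_le_iff.2 fun y hy =>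
    hψi.le (mem_img_of_mem (hgQ.le (mem_img_of_mem (hkQ y hy))))) hmapg.card_img.ge
  have hres : ∀ (u : Ω → Ω) (γ : MulAut ↥A), (∀ x ∈ A, u x = autFun γ x) → ∀ y ∈ A',
      ψ (u (k y)) = autFun (MulAut.congr e γ) y := by
    intro u γ hu y hy
    obtain ⟨x, hx, rfl⟩ := (hψ.mono hAQ).mem_img.1 hy
    rw [hkl x (hAQ hx), hu x hx, autFun_congr he γ hx]
  have hfA : ∀ y ∈ A', f' y = autFun α' y := hres f α hα
  have hgA : ∀ y ∈ A', g' y = autFun β' y := hres g β hβ
  obtain ⟨L, _, _, ι, θ, hmodel, hθs, hθι, hker, hconj⟩ := exists_model_aut hS hF hQ' hQ'c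
  obtain ⟨N, hN⟩ := exists_normalizerSystem F hQ'.1
  have hM := hmodel N hN
  obtain ⟨-, hι, ⟨T, hT⟩, -⟩ := hmodel N hN
  have hQR : Q' ≤ normalizerIn S Q' := le_normalizerIn hQ'.1
  have hlift : ∀ (u : Ω → Ω), IsMap F Q' u → img u Q' = Q' → ∃ l : L, ∀ x ∈ Q', autFun (θ l : MulAut Q') x = u x := by
    intro u hu hui
    obtain ⟨γ, hγ, hγe⟩ := exists_aut hu hui
    obtain ⟨l, hl⟩ := hθs ⟨γ, hγ⟩
    exact ⟨l, fun x hx => by rw [hl]; exact hγe x hx⟩
  obtain ⟨lf, hlf⟩ := hlift f' hmapf hf'Q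
  obtain ⟨lg, hlg⟩ := hlift g' hmapg hg'Q
  set P := pCore p L with hP
  haveI := CfsgLib.Solv.pCore_normal L p
  have hPT : P ≤ ι.range := hT ▸ CfsgLib.Solv.pCore_le_sylow T
  set Q₁ := (P.comap ι).map (normalizerIn S Q').subtype with hQ₁
  have hQ₁R : Q₁ ≤ normalizerIn S Q' := Subgroup.map_subtype_le _
  have hιQ : (Q'.subgroupOf (normalizerIn S Q')).map ι ≤ P := by
    haveI : ((Q'.subgroupOf (normalizerIn S Q')).map ι).Normal := by
      refine ⟨fun w hw l => ?_⟩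
      obtain ⟨q, hq, rfl⟩ := hw
      obtain ⟨q', hq'c, hq'⟩ := hconj l q hq
      refine ⟨q', ?_, hq'.symm⟩
      show (q' : Ω) ∈ Q'
      rw [hq'c]
      exact autFun_mem _ hq
    exact CfsgLib.Solv.le_pCore (((hS.to_le (normalizerIn_le Q')).to_subgroup _).map ι)
  have hQQ₁ : Q' ≤ Q₁ := fun x hx => ⟨⟨x, hQR hx⟩, hιQ ⟨⟨x, hQR hx⟩, hx, rfl⟩, rfl⟩
  rcases hQQ₁.eq_or_lt with heq | hlt
  · -- radical: the model itself involves the section
    have hQA : (Q'.subgroupOf (normalizerIn S Q')).map ι = P := by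
      refine le_antisymm hιQ fun w hw => ?_
      obtain ⟨r, rfl⟩ := hPT hw
      exact ⟨r, heq.ge ⟨r, hw, rfl⟩, rfl⟩
    have hrad : F.IsRadical p Q' := by
      refine ⟨hQ'.1, ?_⟩
      haveI := finite_mulAut (S := S) hQ'.1
      set C := pCore p ↥(F.autGroup Q') with hC
      haveI := CfsgLib.Solv.pCore_normal ↥(F.autGroup Q') p
      have hkp : IsPGroup p θ.ker := by
        rw [hker]
        exact ((hS.to_le (normalizerIn_le Q')).to_subgroup _).map ι
      have hU : C.comap θ ≤ P := CfsgLib.Solv.le_pCore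
        ((CfsgLib.Solv.pCore_isPGroup ↥(F.autGroup Q') p).comap_of_ker_isPGroup θ hkp)
      refine le_antisymm ?_ ?_
      · rintro _ ⟨c, hc, rfl⟩
        obtain ⟨l, rfl⟩ := hθs c
        obtain ⟨r, hr, rfl⟩ := hQA.ge (hU hc)
        refine ⟨⟨r, hr⟩, aut_ext fun x hx => ?_⟩
        show _ = autFun (θ (ι r) : MulAut Q') x
        rw [hθι r x hx, autFun_of_mem _ hx]
        rfl
      · rintro _ ⟨q, rfl⟩
        haveI : (P.map θ).Normal := (inferInstance : P.Normal).map θ hθs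
        have hPC : P.map θ ≤ C := CfsgLib.Solv.le_pCore ((CfsgLib.Solv.pCore_isPGroup L p).map θ)
        refine ⟨θ (ι ⟨q, hQR q.2⟩), hPC ⟨_, hιQ ⟨_, q.2, rfl⟩, rfl⟩, aut_ext fun x hx => ?_⟩
        show autFun (θ (ι ⟨q, hQR q.2⟩) : MulAut Q') x = _
        rw [hθι _ x hx, autFun_of_mem _ hx]
        rfl
    refine h Q' hQ' hQ'c hrad N hN L ι hM ?_
    have hA'R : A' ≤ normalizerIn S Q' := hA'Q.trans hQR
    have hemb : ∀ (l : L) (γ : MulAut ↥A') (u : Ω → Ω), (∀ x ∈ Q', autFun (θ l : MulAut Q') x = u x) →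
        (∀ y ∈ A', u y = autFun γ y) → ∀ a : ↥A',
        l * ι.comp (Subgroup.inclusion hA'R) a * l⁻¹ = ι.comp (Subgroup.inclusion hA'R) (γ a) := by
      intro l γ u hl hu a
      obtain ⟨q', hq'c, hq'⟩ := hconj l (Subgroup.inclusion hA'R a) (hA'Q a.2)
      show l * ι _ * l⁻¹ = ι _
      rw [hq']
      refine congrArg ι (Subtype.ext ?_)
      show (q' : Ω) = ((γ a : ↥A') : Ω)
      rw [hq'c, ← autFun_apply γ a, ← hu a a.2]
      exact hl _ (hA'Q a.2)
    exact hpair'.involves ((hS.to_le (hA'Q.trans hQ'.1))) (hι.1.comp (Subgroup.inclusion_injective hA'R))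
      (hemb lf α' f' hlf hfA) (hemb lg β' g' hlg hgA)
  · -- pass to the larger subgroup
    have hQ₁S : Q₁ ≤ S := hQ₁R.trans (normalizerIn_le Q')
    have hup : ∀ (l : L) (u : Ω → Ω), (∀ x ∈ Q', autFun (θ l : MulAut Q') x = u x) →
        ∃ v, IsMap F Q₁ v ∧ img v Q₁ = Q₁ ∧ ∀ x ∈ Q', v x = u x := by
      intro l u hl
      have hlY : ∀ r : ↥(normalizerIn S Q'), (r : Ω) ∈ Q₁ →
          ∃ r' : ↥(normalizerIn S Q'), (r' : Ω) ∈ Q₁ ∧ l * ι r * l⁻¹ = ι r' := by
        rintro r ⟨r₀, hr₀, he⟩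
        obtain rfl : r₀ = r := Subtype.ext he
        have hc := (inferInstance : P.Normal).conj_mem _ hr₀ l
        obtain ⟨r', hr'⟩ := hPT hc
        exact ⟨r', ⟨r', (show ι r' ∈ P from hr'.symm ▸ hc), rfl⟩, hr'.symm⟩
      obtain ⟨v, hv, hvi, hvX, -⟩ := exists_char_map hN hι θ hconj hQ'.1 hQ₁R hlY
      exact ⟨v, hv.mono le_sup_right, hvi, fun x hx => (hvX x hx).trans (hl x hx)⟩
    obtain ⟨vf, hvf, hvfi, hvfe⟩ := hup lf f' hlf
    obtain ⟨vg, hvg, hvgi, hvge⟩ := hup lg g' hlg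
    have hlt' : Nat.card ↥Q < Nat.card ↥Q₁ := by
      rw [← card_eq_of_isConj hQQ']
      haveI := finite_of_le hQ₁S
      exact card_lt_of_lt hQ₁S hlt
    have hle : Nat.card ↥Q₁ ≤ Nat.card S := Subgroup.card_le_of_le hQ₁S
    exact ih (Nat.card S - Nat.card ↥Q₁) (by omega) Q₁ A' rfl (centric_mono hQ'c hQQ₁ hQ₁S) (hA'Q.trans hQQ₁)
      vf vg hvf hvg hvfi hvgi α' β' (fun y hy => (hvfe y (hA'Q hy)).trans (hfA y hy))
      (fun y hy => (hvge y (hA'Q hy)).trans (hgA y hy)) hpair'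

/-- It is enough that the models of the centric radical subgroups are free of `qd p`. -/
theorem noQdPair_of_radical [Finite S] [Fact p.Prime] (hS : IsPGroup p S) (hF : F.IsSaturated p)
    (h : ∀ Q : Subgroup Ω, F.IsFullyNormalized Q → F.IsCentric Q → F.IsRadical p Q →
      ∀ N : FusionSystem (normalizerIn S Q), F.IsNormalizerSystem Q N →
        ∀ (L : Type u) [Group L] (ι : ↥(normalizerIn S Q) →* L), N.IsModel p L ι → ¬ Involves ↥(Cfsg.qd p) L) :
    NoQdPair F p := by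
  intro A hA α hα β hβ hpair
  obtain ⟨A', hAA', hA'⟩ := exists_fullyNormalized (F := F) hA
  obtain ⟨ψ, hψ, hψi⟩ := isConj_iff.1 hAA'
  obtain ⟨e, he⟩ := hψ.equiv hψi
  have hpair' : QdPair p ↥A' (MulAut.congr e α) (MulAut.congr e β) :=
    hpair.comap (f := e.symm.toMonoidHom) e.symm.surjective (fun a => e.symm_apply_apply _) fun a => e.symm_apply_apply _
  obtain ⟨-, hrec⟩ := fullyNormalized_spec hS hF hA'
  set Q := A' ⊔ centralizerIn S A' with hQ
  have hQS : Q ≤ S := sup_le hA'.1 (centralizerIn_le A')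
  haveI := finite_of_le hQS
  have hQc : F.IsCentric Q :=
    centric_of_centralizer_le (fullyCentralized_of_fullyNormalized hS hF hA') le_sup_left hQS le_sup_right
  have hext : ∀ γ ∈ F.autGroup A', ∃ u, IsMap F Q u ∧ img u Q = Q ∧ ∀ x ∈ A', u x = autFun γ x := by
    intro γ hγ
    obtain ⟨u, hu, hue⟩ := extend_aut hrec hγ (N := centralizerIn S A') (centralizerIn_le_normalizerIn A')
      fun r hr δ hδ => by
        have hδ1 : δ = 1 := aut_ext fun x hx => by
          rw [hδ x hx, autFun_one hx, ← hr.2 x hx, mul_inv_cancel_right]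
        rw [hδ1, mul_one, mul_inv_cancel]
        exact one_mem _
    have huA : img u A' = A' := (img_congr hue).trans (img_autFun _)
    refine ⟨u, hu, Subgroup.eq_of_le_of_card_ge ?_ hu.card_img.ge, hue⟩
    rw [hQ, hu.img_sup le_sup_left le_sup_right, huA]
    refine sup_le le_sup_left (le_sup_of_le_right ?_)
    have := hu.img_centralizerIn_le (P := A') le_sup_left le_sup_right
    rwa [huA] at this
  obtain ⟨u, hu, hui, hue⟩ := hext _ (congr_mem_autGroup hψ hψi he hα)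
  obtain ⟨w, hw, hwi, hwe⟩ := hext _ (congr_mem_autGroup hψ hψi he hβ)
  exact no_pair_on_centric hS hF h Q A' hQc le_sup_left u w hu hw hui hwi _ _ hue hwe hpair'

/-- In a saturated system free of `qd p` there is no pair. -/
theorem noQdPair_of_sectionFree [Finite S] [Fact p.Prime] (hS : IsPGroup p S) (hF : F.IsSaturated p)
    (h : F.IsSectionFree p ↥(Cfsg.qd p)) : NoQdPair F p :=
  noQdPair_of_radical hS hF fun Q hQ hQc _ => h Q hQ hQc

/-- Normalizer systems inherit it. -/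
theorem NoQdPair.normalizer (h : NoQdPair F p) {Q : Subgroup Ω} {N : FusionSystem (normalizerIn S Q)}
    (hN : F.IsNormalizerSystem Q N) : NoQdPair N p := by
  intro A hA α hα β hβ
  have hAS : A ≤ S := hA.trans (normalizerIn_le Q)
  have key : ∀ γ ∈ N.autGroup A, γ ∈ F.autGroup A := fun γ hγ =>
    (mem_autGroup hAS).2 (isMap_of_normalizerSystem hN ((mem_autGroup hA).1 hγ)).1
  exact h A hAS α (key α hα) β (key β hβ)

/-- Factor systems inherit it. -/
theorem NoQdPair.factor [Finite S] {Ω' : Type v} [Group Ω'] {S' : Subgroup Ω'} {θ : ↥S →* Ω'} {Q : Subgroup Ω}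
    {E : FusionSystem S'} (hE : F.IsFactorSystem Q θ E) (h : NoQdPair F p) : NoQdPair E p := by
  obtain ⟨-, -, hrange, hhom⟩ := hE
  intro A' hA' α' hα' β' hβ' hpair
  set A := preimageAlong θ A' with hA
  have hAS : A ≤ S := Subgroup.map_subtype_le _
  haveI := finite_of_le hAS
  have hmem : ∀ x : ↥A, θ ⟨x, hAS x.2⟩ ∈ A' := by
    rintro ⟨_, s, hs, rfl⟩
    exact hs
  let f : ↥A →* ↥A' :=
    { toFun := fun x => ⟨θ ⟨x, hAS x.2⟩, hmem x⟩
      map_one' := Subtype.ext (map_one θ)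
      map_mul' := fun x y => Subtype.ext (map_mul θ ⟨(x : Ω), hAS x.2⟩ ⟨(y : Ω), hAS y.2⟩) }
  have hf : Function.Surjective f := fun a => by
    obtain ⟨s, hs⟩ : (a : Ω') ∈ θ.range := hrange.ge (hA' a.2)
    exact ⟨⟨s, s, (show θ s ∈ A' from hs.symm ▸ a.2), rfl⟩, Subtype.ext hs⟩
  have key : ∀ γ' ∈ E.autGroup A', ∃ γ ∈ F.autGroup A, ∀ x, f (γ x) = γ' (f x) := by
    intro γ' hγ'
    obtain ⟨φ', hφ', hφ'e⟩ := (mem_autGroup hA').1 hγ'
    obtain ⟨-, φ, hφ, hP, hφS, hPA, he⟩ := (hhom A' φ').1 hφ'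
    have hev : IsMap F A (ev φ) := IsMap.of_hom hφ
    have hθφ : ∀ x : ↥A, θ ⟨φ x, hφS x⟩ = ((γ' (f x) : ↥A') : Ω') := fun x => by
      rw [← autFun_apply γ' (f x), ← hφ'e (f x), ← he x]
      exact congrArg φ' (Subtype.ext rfl)
    have hφA : ∀ x : ↥A, φ x ∈ A := fun x =>
      ⟨⟨φ x, hφS x⟩, (show θ ⟨φ x, hφS x⟩ ∈ A' by rw [hθφ]; exact (γ' (f x)).2), rfl⟩
    obtain ⟨γ, hγ, hγe⟩ := exists_aut hev (Subgroup.eq_of_le_of_card_ge
      (img_le_iff.2 fun x hx => by rw [ev_of_mem φ hx]; exact hφA ⟨x, hx⟩) hev.card_img.ge)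
    refine ⟨γ, hγ, fun x => Subtype.ext ?_⟩
    rw [← hθφ x]
    refine congrArg θ (Subtype.ext ?_)
    rw [← autFun_apply γ x, hγe x x.2, ev_apply φ x]
  obtain ⟨α, hα, hαe⟩ := key α' hα'
  obtain ⟨β, hβ, hβe⟩ := key β' hβ'
  exact h A hAS α hα β hβ (hpair.comap hf hαe hβe)

end CfsgLib.Fus
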