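import Cfsg.Agent.Fus.SystemMaps
import Cfsg.Agent.Fus.Normal

/-!
Saturation of normalizer and centralizer systems of suitably placed subgroups of a saturated fusion system.
-/

set_option autoImplicit false
set_option linter.style.haveILetI false

open Cfsg Cfsg.FusionSystem

namespace CfsgLib.Fus

variable {Ω : Type*} [Group Ω] {S : Subgroup Ω} {F : FusionSystem S} {p : ℕ}

/-- Everything moved by `u` that stabilizes the class can be moved back into `T`. -/
def FullFor (F : FusionSystem S) (Q T : Subgroup Ω) (C : (Ω → Ω) → Prop) : Prop :=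
  ∀ u, IsMap F Q u → ∃ (M : Subgroup Ω) (χ : Ω → Ω), IsMap F M χ ∧ img u Q ≤ M ∧ C (χ ∘ u) ∧
    ∀ s ∈ S, s ∈ Subgroup.normalizer (img u Q : Set Ω) →
      (∃ c, IsMap F Q c ∧ C c ∧ ∀ x ∈ Q, s * u x * s⁻¹ = u (c x)) → s ∈ M ∧ χ s ∈ T

/-- A system cut out by a class of maps on a suitably placed subgroup is saturated. -/
theorem saturated_of_full [Finite S] [Fact p.Prime] (hS : IsPGroup p S) (hF : F.IsSaturated p)
    {Q T : Subgroup Ω} (hQS : Q ≤ S) (hTS : T ≤ S) {C : (Ω → Ω) → Prop} (hC : ExtCond F Q T C)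
    (hTQ : ∀ s ∈ T, s ∈ Subgroup.normalizer (Q : Set Ω))
    (hT : ∀ s ∈ S, s ∈ Subgroup.normalizer (Q : Set Ω) → C (conjF s) → s ∈ T)
    (hfull : FullFor F Q T C) {E : FusionSystem T}
    (hE : ∀ P f, IsMap E P f ↔ IsMap F P f ∧ P ≤ T ∧ (∀ x ∈ P, f x ∈ T) ∧
      ∃ g, IsMap F (P ⊔ Q) g ∧ (∀ x ∈ P, g x = f x) ∧ C g) :
    E.IsSaturated p := by
  haveI : Finite ↥T := finite_of_le hTS
  have hTp : IsPGroup p ↥T := hS.to_le hTS
  intro P hP
  obtain ⟨P', hPP', hmax⟩ := exists_max_conj (F := E) hP fun R => Nat.card ↥(normalizerIn T R)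
  refine ⟨P', hPP', ?_⟩
  have hP'T : P' ≤ T := (isConj_le hPP').2
  set R := P' ⊔ Q with hR
  have hRS : R ≤ S := sup_le (hP'T.trans hTS) hQS
  haveI := finite_of_le hRS
  haveI := finite_mulAut (S := S) hRS
  haveI := finite_of_le (hP'T.trans hTS)
  haveI := finite_mulAut (S := T) hP'T
  set N := normalizerIn T P' with hNdef
  haveI : Finite ↥N := finite_of_le ((normalizerIn_le P').trans hTS)
  -- the automorphisms of `R` in the class
  let A : Subgroup (MulAut R) :=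
    { carrier := {α | IsMap F R (autFun α) ∧ img (autFun α) P' = P' ∧ C (autFun α)}
      one_mem' := ⟨(IsMap.id' F hRS).congr fun x hx => (autFun_one hx).symm,
        (img_congr fun x hx => autFun_one (le_sup_left (b := Q) hx)).trans (img_id P'),
        hC.congr (fun x hx => by rw [autFun_one (le_sup_right (a := P') hx)]; simp [conjF]) (hC.conj 1 T.one_mem)⟩
      mul_mem' := fun {a b} ha hb => by
        have hab : IsMap F R (autFun (a * b)) :=
          (hb.1.comp ha.1 fun x hx => autFun_mem b hx).congr fun x hx => (autFun_mul a b hx).symm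
        refine ⟨hab, ?_, hC.congr (fun x hx => (autFun_mul a b (le_sup_right (a := P') hx)).symm)
          (hC.comp (hb.1.mono le_sup_right) hb.2.2 ha.2.2)⟩
        rw [img_congr (g := autFun a ∘ autFun b) fun x hx => autFun_mul a b (le_sup_left (b := Q) hx),
          (hb.1.mono le_sup_left).img_comp, hb.2.1, ha.2.1]
      inv_mem' := fun {a} ha => by
        have hm : IsMap F R (autFun a⁻¹) :=
          (mem_autGroup hRS).1 ((F.autGroup R).inv_mem ((mem_autGroup hRS).2 ha.1))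
        refine ⟨hm, ?_, hC.inv (ha.1.mono le_sup_right) ha.2.2 fun x hx =>
          autFun_inv_apply' a (le_sup_right (a := P') hx)⟩
        calc img (autFun a⁻¹) P' = img (autFun a⁻¹) (img (autFun a) P') := by rw [ha.2.1]
          _ = img (autFun a⁻¹ ∘ autFun a) P' := ((ha.1.mono le_sup_left).img_comp _).symm
          _ = P' := (img_congr (g := id) fun x hx => autFun_inv_apply' a (le_sup_left (b := Q) hx)).trans (img_id P') }
  have hAF : A ≤ F.autGroup R := fun α hα => (mem_autGroup hRS).2 hα.1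
  have hNR : ∀ n ∈ N, n ∈ Subgroup.normalizer (R : Set Ω) := by
    intro n hn
    have hmem : ∀ n ∈ N, ∀ y ∈ R, n * y * n⁻¹ ∈ R := by
      intro n hn y hy
      have hle : R ≤ R.comap (MulAut.conj n).toMonoidHom := sup_le
        (fun x hx => Subgroup.mem_sup_left (conj_mem_of_normalizer hn.2 hx))
        (fun x hx => Subgroup.mem_sup_right (conj_mem_of_normalizer (hTQ n hn.1) hx))
      exact hle hy
    exact mem_normalizer_of_conj (hmem n hn) fun y hy => by simpa using hmem n⁻¹ (N.inv_mem hn) y hy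
  set Ab := autInducedBy N R with hAb
  have hAbA : Ab ≤ A := by
    intro α hα
    obtain ⟨n, hn, hne⟩ := mem_autInducedBy.1 hα
    refine ⟨(IsMap.conj F hRS (hTS hn.1)).congr fun x hx => (hne x hx).symm, ?_,
      hC.congr (fun x hx => (hne x (le_sup_right (a := P') hx)).symm) (hC.conj n hn.1)⟩
    rw [img_congr (g := conjF n) fun x hx => hne x (le_sup_left (b := Q) hx)]
    refine Subgroup.eq_of_le_of_card_ge (img_le_iff.2 fun x hx => conj_mem_of_normalizer hn.2 hx)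
      (IsMap.conj F (hP'T.trans hTS) (hTS hn.1)).card_img.ge
  have hAbp : IsPGroup p ↥Ab := by
    rw [hAb, ← range_inducedHom]
    exact ((hTp.to_le (normalizerIn_le P')).to_le (normalizerIn_le R)).of_surjective _
      (inducedHom N R).rangeRestrict_surjective
  obtain ⟨Pa, hPa⟩ := (hAbp.comap_of_injective A.subtype A.subtype_injective).exists_le_sylow
  -- a map to a fully normalized conjugate carrying `Pa` into the Sylow subgroup
  obtain ⟨R₁, hRR₁, hR₁⟩ := exists_fullyNormalized (F := F) hRS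
  obtain ⟨hfa, hrec⟩ := fullyNormalized_spec hS hF hR₁
  obtain ⟨ψ₁, hψ₁, hψ₁i⟩ := isConj_iff.1 hRR₁
  obtain ⟨e, he⟩ := hψ₁.equiv hψ₁i
  haveI := finite_mulAut (S := S) hR₁.1
  obtain ⟨T₁, hT₁⟩ : ∃ T₁ : Sylow p ↥(F.autGroup R₁),
      (T₁ : Subgroup (F.autGroup R₁)) = (autInducedBy S R₁).subgroupOf (F.autGroup R₁) := hfa.2
  have hB : IsPGroup p ↥((((Pa : Subgroup A).map A.subtype).map (MulAut.congr e).toMonoidHom).subgroupOf
      (F.autGroup R₁)) :=
    ((Pa.isPGroup'.map _).map _).comap_of_injective _ (Subgroup.subtype_injective _)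
  obtain ⟨B', hB'⟩ := hB.exists_le_sylow
  obtain ⟨⟨β, hβF⟩, hβ⟩ := MulAction.exists_smul_eq ↥(F.autGroup R₁) B' T₁
  set ψ := autFun β ∘ ψ₁ with hψdef
  have hψ₁R : ∀ x ∈ R, ψ₁ x ∈ R₁ := fun x hx => hψ₁i ▸ mem_img_of_mem hx
  have hψ : IsMap F R ψ := hψ₁.comp ((mem_autGroup hR₁.1).1 hβF) hψ₁R
  have hψi : img ψ R = R₁ := by rw [hψdef, hψ₁.img_comp, hψ₁i, img_autFun]
  have hψR : ∀ x ∈ R, ψ x ∈ R₁ := fun x hx => hψi ▸ mem_img_of_mem hx
  -- elements of `Pa` are carried to inner automorphisms of `R₁`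
  have hPaS : ∀ γ : ↥A, γ ∈ (Pa : Subgroup A) →
      ∃ s ∈ S, s ∈ Subgroup.normalizer (R₁ : Set Ω) ∧ ∀ x ∈ R, s * ψ x * s⁻¹ = ψ (autFun (γ : MulAut R) x) := by
    intro γ hγ
    have hm : MulAut.congr e (γ : MulAut R) ∈ F.autGroup R₁ := congr_mem_autGroup hψ₁ hψ₁i he (hAF γ.2)
    have h3 : (⟨β, hβF⟩ * ⟨_, hm⟩ * ⟨β, hβF⟩⁻¹ : ↥(F.autGroup R₁)) ∈ (T₁ : Subgroup ↥(F.autGroup R₁)) := by
      rw [← hβ, Sylow.coe_subgroup_smul]
      exact Subgroup.smul_mem_pointwise_smul _ _ _ (hB' ⟨_, ⟨γ, hγ, rfl⟩, rfl⟩)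
    rw [hT₁] at h3
    obtain ⟨s, hs, hse⟩ := mem_autInducedBy.1 h3
    refine ⟨s, hs, mem_normalizer_of_aut hse, fun x hx => ?_⟩
    have h4 := hse _ (hψR x hx)
    simp only [Subgroup.coe_subtype, Subgroup.coe_mul, Subgroup.coe_inv, hψdef, Function.comp_apply] at h4
    rw [autFun_conj _ _ (autFun_mem β (hψ₁R x hx)), autFun_inv_apply' β (hψ₁R x hx), autFun_congr he _ hx] at h4
    exact h4.symm
  -- extend `ψ` over `N`
  obtain ⟨g, hg, hge⟩ := extend hrec hψ hψi (N := N) fun n hn => by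
    obtain ⟨γ, hγ, hγe⟩ := exists_autInducedBy (K := N) hn (hNR n hn)
    obtain ⟨s, hs, -, hse⟩ := hPaS ⟨γ, hAbA hγ⟩ (hPa hγ)
    refine ⟨hTS hn.1, hNR n hn, s, hs, fun x hx => ?_⟩
    rw [hse x hx]
    exact congrArg ψ (hγe x hx).symm
  -- the elements that may be moved back
  set Q₁ := img ψ Q with hQ₁
  set P₁ := img ψ P' with hP₁
  let Vset : Set Ω := {s | s ∈ S ∧ s ∈ Subgroup.normalizer (Q₁ : Set Ω) ∧ s ∈ Subgroup.normalizer (P₁ : Set Ω) ∧
    ∃ c, IsMap F Q c ∧ C c ∧ ∀ x ∈ Q, s * ψ x * s⁻¹ = ψ (c x)}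
  set V := Subgroup.closure Vset with hV
  have hVin : ∀ s ∈ S, ∀ γ : MulAut R, γ ∈ A → (∀ x ∈ R, s * ψ x * s⁻¹ = ψ (autFun γ x)) → s ∈ Vset := by
    intro s hs γ hγ hse
    have hnorm : ∀ Y : Subgroup Ω, Y ≤ R → img (autFun γ) Y = Y → s ∈ Subgroup.normalizer (img ψ Y : Set Ω) := by
      intro Y hY hYi
      haveI := finite_of_le (img_le_iff.2 fun x hx => hψ.mem (hY hx) : img ψ Y ≤ S)
      refine Subgroup.mem_normalizer_fintype fun y hy => ?_
      obtain ⟨x, hx, rfl⟩ := (hψ.mono hY).mem_img.1 hy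
      rw [hse x (hY hx)]
      exact mem_img_of_mem (hYi.le (mem_img_of_mem hx))
    exact ⟨hs, hnorm Q le_sup_right (hC.img_eq hγ.2.2), hnorm P' le_sup_left hγ.2.1,
      autFun γ, hγ.1.mono le_sup_right, hγ.2.2, fun x hx => hse x (le_sup_right (a := P') hx)⟩
  have hgn : ∀ n ∈ N, ∀ x ∈ R, g n * ψ x * (g n)⁻¹ = ψ (n * x * n⁻¹) := by
    intro n hn x hx
    have h := hg.map_conj (le_sup_right (a := R) hn) (le_sup_left (b := N) hx)
    rw [hge x hx, hge _ (conj_mem_of_normalizer (hNR n hn) hx)] at h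
    exact h.symm
  have hgV : ∀ n ∈ N, g n ∈ Vset := by
    intro n hn
    obtain ⟨γ, hγ, hγe⟩ := exists_autInducedBy (K := N) hn (hNR n hn)
    exact hVin _ (hg.mem (le_sup_right (a := R) hn)) γ (hAbA hγ) fun x hx => by rw [hgn n hn x hx, hγe x hx]
  -- move back
  obtain ⟨M, χ, hχ, hQ₁M, hχC, hχT⟩ := hfull ψ (hψ.mono le_sup_right)
  have hVM : V ≤ M := (Subgroup.closure_le M).2 fun s hs => (hχT s hs.1 hs.2.1 hs.2.2.2).1
  have hP'N : P' ≤ N := le_normalizerIn hP'T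
  have hP₁V : P₁ ≤ V := img_le_iff.2 fun x hx => by
    rw [← hge x (le_sup_left (b := Q) hx)]
    exact Subgroup.subset_closure (hgV x (hP'N hx))
  set P'' := img χ P₁ with hP''
  have hχV : ∀ v ∈ V, χ v ∈ T := by
    intro v hv
    induction hv using Subgroup.closure_induction with
    | mem s hs => exact (hχT s hs.1 hs.2.1 hs.2.2.2).2
    | one => rw [hχ.map_one]; exact T.one_mem
    | mul a b ha hb iha ihb => rw [hχ.map_mul (hVM ha) (hVM hb)]; exact T.mul_mem iha ihb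
    | inv a ha iha => rw [hχ.map_inv (hVM ha)]; exact T.inv_mem iha
  have hRM : R₁ ≤ M := by
    rw [← hψi, hψ.img_sup le_sup_left le_sup_right]
    exact sup_le (hP₁V.trans hVM) hQ₁M
  have hk : IsMap F R (χ ∘ ψ) := hψ.comp hχ fun x hx => hRM (hψR x hx)
  have hP''eq : img (χ ∘ ψ) P' = P'' := by rw [(hψ.mono le_sup_left).img_comp]
  have hconj : E.IsConj P' P'' := isConj_iff.2 ⟨χ ∘ ψ, (hE _ _).2
    ⟨hk.mono le_sup_left, hP'T, fun x hx => hχV _ (hP₁V (mem_img_of_mem hx)),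
      χ ∘ ψ, hk, fun _ _ => rfl, hχC⟩, hP''eq⟩
  have hP''T : P'' ≤ T := (isConj_le hconj).2
  have hVS : V ≤ S := (Subgroup.closure_le S).2 fun s hs => hs.1
  haveI := finite_of_le hVS
  have hVP : ∀ v ∈ V, v ∈ Subgroup.normalizer (P₁ : Set Ω) := fun v hv =>
    (Subgroup.closure_le (Subgroup.normalizer (P₁ : Set Ω))).2 (fun s hs => hs.2.2.1) hv
  have hχN : img χ V ≤ normalizerIn T P'' := img_le_iff.2 fun v hv =>
    ⟨hχV v hv, hχ.map_normalizer (hP₁V.trans hVM) (hVM hv) (hVP v hv)⟩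
  haveI := finite_of_le (normalizerIn_le (S := T) P'')
  have hcard : Nat.card ↥V ≤ Nat.card ↥N := by
    rw [← (hχ.mono hVM).card_img]
    exact (Subgroup.card_le_of_le hχN).trans (hmax P'' (isConj_trans hPP' hconj))
  have hgN : img g N = V := Subgroup.eq_of_le_of_card_ge
    (img_le_iff.2 fun n hn => Subgroup.subset_closure (hgV n hn))
    ((hg.mono le_sup_right).card_img.symm ▸ hcard)
  have hVs : ∀ s ∈ Vset, ∃ n ∈ N, g n = s := fun s hs =>
    (hg.mono (le_sup_right (a := R))).mem_img.1 (hgN.ge (Subgroup.subset_closure hs))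
  -- the Sylow subgroup of the class
  have hPaN : ∀ γ : ↥A, γ ∈ (Pa : Subgroup A) → (γ : MulAut R) ∈ Ab := by
    intro γ hγ
    obtain ⟨s, hs, -, hse⟩ := hPaS γ hγ
    obtain ⟨n, hn, rfl⟩ := hVs s (hVin s hs γ γ.2 hse)
    refine mem_autInducedBy.2 ⟨n, hn, fun x hx => ?_⟩
    have h := hse x hx
    rw [hgn n hn x hx] at h
    exact (hψ.inj (autFun_mem _ hx) (conj_mem_of_normalizer (hNR n hn) hx) h.symm)
  -- restriction to `P'`
  have hres : ∀ α : ↥A, ∃ β : MulAut P', β ∈ E.autGroup P' ∧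
      ∀ x ∈ P', autFun β x = autFun (α : MulAut R) x := fun α => by
    have hm : IsMap E P' (autFun (α : MulAut R)) := (hE _ _).2
      ⟨α.2.1.mono le_sup_left, hP'T, fun x hx => hP'T (α.2.2.1.le (mem_img_of_mem hx)),
        autFun (α : MulAut R), α.2.1, fun _ _ => rfl, α.2.2.2⟩
    exact exists_aut hm α.2.2.1
  choose res hresE hres using hres
  let r : ↥A →* ↥(E.autGroup P') := MonoidHom.mk' (fun α => ⟨res α, hresE α⟩) fun a b =>
    Subtype.ext (aut_ext fun x hx => by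
      show autFun (res (a * b)) x = autFun (res a * res b) x
      rw [autFun_mul _ _ hx, hres _ x hx, hres a _ (autFun_mem _ hx), hres b x hx, Subgroup.coe_mul,
        autFun_mul _ _ (le_sup_left (b := Q) hx)])
  have hrs : Function.Surjective r := by
    rintro ⟨β, hβ⟩
    obtain ⟨-, -, -, f, hf, hfe, hfC⟩ := (hE _ _).1 ((mem_autGroup hP'T).1 hβ)
    have hfP : img f P' = P' := (img_congr hfe).trans (img_autFun β)
    have hfR : img f R = R := by rw [hf.img_sup le_sup_left le_sup_right, hfP, hC.img_eq hfC]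
    obtain ⟨α, hα, hαe⟩ := exists_aut hf hfR
    have hαA : α ∈ A := ⟨(mem_autGroup hRS).1 hα,
      (img_congr fun x hx => hαe x (le_sup_left (b := Q) hx)).trans hfP,
      hC.congr (fun x hx => (hαe x (le_sup_right (a := P') hx)).symm) hfC⟩
    refine ⟨⟨α, hαA⟩, Subtype.ext (aut_ext fun x hx => ?_)⟩
    show autFun (res ⟨α, hαA⟩) x = autFun β x
    rw [hres _ x hx]
    exact (hαe x (le_sup_left (b := Q) hx)).trans (hfe x hx)
  refine ⟨⟨hP'T, Pa.mapSurjective hrs, ?_⟩, isReceptive_of hP'T fun P₀ M₀ f hf hfi hPM hM₀ hM₀f => ?_⟩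
  · rw [Sylow.coe_mapSurjective]
    ext ⟨β, hβE⟩
    constructor
    · rintro ⟨γ, hγ, hγe⟩
      obtain ⟨n, hn, hne⟩ := mem_autInducedBy.1 (hPaN γ hγ)
      refine mem_autInducedBy.2 ⟨n, hn.1, fun x hx => ?_⟩
      have hb : res γ = β := congrArg Subtype.val hγe
      show autFun β x = _
      rw [← hb, hres γ x hx, hne x (le_sup_left (b := Q) hx)]
    · intro h
      obtain ⟨t, ht, hte⟩ := mem_autInducedBy.1 (show β ∈ autInducedBy T P' from h)
      have htN : t ∈ N := ⟨ht, mem_normalizer_of_aut hte⟩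
      obtain ⟨γ, hγ, hγe⟩ := exists_autInducedBy (K := N) htN (hNR t htN)
      refine ⟨⟨γ, hAbA hγ⟩, hPa hγ, Subtype.ext (aut_ext fun x hx => ?_)⟩
      show autFun (res ⟨γ, hAbA hγ⟩) x = autFun β x
      rw [hres _ x hx, hte x hx]
      exact hγe x (le_sup_left (b := Q) hx)
  -- receptivity
  obtain ⟨hfF, hP₀T, -, f₁, hf₁, hf₁e, hf₁C⟩ := (hE _ _).1 hf
  set R₀ := P₀ ⊔ Q with hR₀
  have hf₁R : img f₁ R₀ = R := by
    rw [hf₁.img_sup le_sup_left le_sup_right, img_congr hf₁e, hfi, hC.img_eq hf₁C]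
  have hM₀T : M₀ ≤ T := hM₀.trans (normalizerIn_le P₀)
  have hMR₀ : ∀ n ∈ M₀, n ∈ Subgroup.normalizer (R₀ : Set Ω) := by
    intro n hn
    have hmem : ∀ n ∈ M₀, ∀ y ∈ R₀, n * y * n⁻¹ ∈ R₀ := by
      intro n hn y hy
      have hle : R₀ ≤ R₀.comap (MulAut.conj n).toMonoidHom := sup_le
        (fun x hx => Subgroup.mem_sup_left (conj_mem_of_normalizer (hM₀ hn).2 hx))
        (fun x hx => Subgroup.mem_sup_right (conj_mem_of_normalizer (hTQ n (hM₀T hn)) hx))
      exact hle hy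
    exact mem_normalizer_of_conj (hmem n hn) fun y hy => by simpa using hmem n⁻¹ (M₀.inv_mem hn) y hy
  obtain ⟨e₀, he₀⟩ := hf₁.equiv hf₁R
  let μ : ↥M₀ →* MulAut R := (MulAut.congr e₀).toMonoidHom.comp
    ((inducedHom S R₀).comp (Subgroup.inclusion
      (show M₀ ≤ normalizerIn S R₀ from fun n hn => ⟨hTS (hM₀T hn), hMR₀ n hn⟩)))
  have hμ : ∀ (n : ↥M₀) (x : Ω), x ∈ R₀ → autFun (μ n) (f₁ x) = f₁ ((n : Ω) * x * (n : Ω)⁻¹) := fun n x hx => by
    show autFun (MulAut.congr e₀ _) (f₁ x) = _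
    rw [autFun_congr he₀ _ hx, MonoidHom.comp_apply]
    exact congrArg f₁ (inducedHom_apply S R₀ _ hx)
  have hμA : ∀ n, μ n ∈ A := by
    intro n
    obtain ⟨γ, hγ, hγe⟩ := exists_autInducedBy (K := S) (hTS (hM₀T n.2)) (hMR₀ n n.2)
    have hm : IsMap F R (autFun (μ n)) := by
      refine (mem_autGroup hRS).1 ?_
      have h := congr_mem_autGroup hf₁ hf₁R he₀ (autInducedBy_le_autGroup (F := F) hf₁.le hγ)
      refine (show μ n = MulAut.congr e₀ γ from aut_ext fun y hy => ?_) ▸ h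
      obtain ⟨x, hx, rfl⟩ := hf₁.mem_img.1 (hf₁R.ge hy)
      rw [hμ n x hx, autFun_congr he₀ _ hx, hγe x hx]
    refine ⟨hm, ?_, ?_⟩
    · refine Subgroup.eq_of_le_of_card_ge (img_le_iff.2 fun y hy => ?_) (hm.mono le_sup_left).card_img.ge
      obtain ⟨x, hx, rfl⟩ := hf.mem_img.1 (hfi.ge hy)
      rw [← hf₁e x hx, hμ n x (le_sup_left (b := Q) hx), hf₁e _ (conj_mem_of_normalizer (hM₀ n.2).2 hx)]
      exact hfi.le (mem_img_of_mem (conj_mem_of_normalizer (hM₀ n.2).2 hx))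
    · obtain ⟨k, hk, hkl, -, hki⟩ := hf₁.inv
      rw [hf₁R] at hk hki
      have hkC : C k := hC.inv (hf₁.mono le_sup_right) hf₁C fun x hx => hkl x (le_sup_right (a := P₀) hx)
      have hkQ : IsMap F Q k := hk.mono le_sup_right
      have hcC : C (f₁ ∘ conjF (n : Ω)) :=
        hC.comp (IsMap.conj F hQS (hTS (hM₀T n.2))) (hC.conj _ (hM₀T n.2)) hf₁C
      refine hC.congr (fun y hy => ?_) (hC.comp hkQ hkC hcC)
      obtain ⟨x, hx, rfl⟩ := hf₁.mem_img.1 (hf₁R.ge (le_sup_right (a := P') hy))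
      rw [Function.comp_apply, Function.comp_apply, hkl x hx, hμ n x hx]
      rfl
  have hD : IsPGroup p ↥μ.range := (hTp.to_le hM₀T).of_surjective _ μ.rangeRestrict_surjective
  let H : Subgroup ↥A := ((Pa : Subgroup A).map r).comap r
  have hPaH : (Pa : Subgroup A) ≤ H := Subgroup.le_comap_map r _
  have hDH : μ.range.subgroupOf A ≤ H := by
    rintro ⟨-, hαA⟩ ⟨n, rfl⟩
    obtain ⟨t, ht, hte⟩ := hM₀f n n.2
    have htN : t ∈ N := ⟨ht, Subgroup.mem_normalizer_fintype fun y hy => by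
      obtain ⟨x, hx, rfl⟩ := hf.mem_img.1 (hfi.ge hy)
      rw [← hte x hx]
      exact hfi.le (mem_img_of_mem (conj_mem_of_normalizer (hM₀ n.2).2 hx))⟩
    obtain ⟨γ, hγ, hγe⟩ := exists_autInducedBy (K := N) htN (hNR t htN)
    refine ⟨⟨γ, hAbA hγ⟩, hPa hγ, Subtype.ext (aut_ext fun y hy => ?_)⟩
    show autFun (res ⟨γ, hAbA hγ⟩) y = autFun (res ⟨μ n, hαA⟩) y
    rw [hres _ y hy, hres _ y hy]
    obtain ⟨x, hx, rfl⟩ := hf.mem_img.1 (hfi.ge hy)
    show autFun γ (f x) = autFun (μ n) (f x)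
    rw [hγe _ (le_sup_left (b := Q) hy), ← hte x hx]
    rw [← hf₁e x hx, hμ n x (le_sup_left (b := Q) hx), hf₁e _ (conj_mem_of_normalizer (hM₀ n.2).2 hx)]
  -- conjugate inside `H`
  have hDp : IsPGroup p ↥((μ.range.subgroupOf A).subgroupOf H) :=
    (hD.comap_of_injective A.subtype A.subtype_injective).comap_of_injective H.subtype H.subtype_injective
  obtain ⟨D', hD'⟩ := hDp.exists_le_sylow
  obtain ⟨⟨η, hηH⟩, hη⟩ := MulAction.exists_smul_eq ↥H D' (Pa.subtype hPaH)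
  obtain ⟨a, ha, har⟩ := hηH
  set κ := a⁻¹ * η with hκdef
  have hκ1 : r κ = 1 := by rw [map_mul, map_inv, har, inv_mul_cancel]
  have hκP : ∀ x ∈ P', autFun (κ : MulAut R) x = x := fun x hx => by
    rw [← hres κ x hx, show res κ = 1 from congrArg Subtype.val hκ1, autFun_one hx]
  have hκD : ∀ n : ↥M₀, (κ : MulAut R) * μ n * (κ : MulAut R)⁻¹ ∈ Ab := by
    intro n
    have h1 : (⟨μ n, hμA n⟩ : ↥A) ∈ H := hDH ⟨n, rfl⟩
    have h2 : (⟨η, ⟨a, ha, har⟩⟩ : ↥H) * ⟨_, h1⟩ * (⟨η, ⟨a, ha, har⟩⟩ : ↥H)⁻¹ ∈ (Pa.subtype hPaH : Subgroup ↥H) := by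
      rw [← hη, Sylow.coe_subgroup_smul]
      exact Subgroup.smul_mem_pointwise_smul _ _ _ (hD' ⟨n, rfl⟩)
    rw [Sylow.coe_subtype, Subgroup.mem_subgroupOf] at h2
    have h3 := mul_mem (mul_mem (inv_mem ha) h2) ha
    have h4 : a⁻¹ * (η * ⟨μ n, hμA n⟩ * η⁻¹) * a = κ * ⟨μ n, hμA n⟩ * κ⁻¹ := by rw [hκdef]; group
    simp only [Subgroup.coe_mul, Subgroup.coe_inv] at h3
    rw [h4] at h3
    have h5 := hPaN _ h3
    simpa using h5
  have hκf : IsMap F R₀ (autFun (κ : MulAut R) ∘ f₁) :=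
    hf₁.comp κ.2.1 fun x hx => hf₁R.le (mem_img_of_mem hx)
  have hκfR : img (autFun (κ : MulAut R) ∘ f₁) R₀ = R := by rw [hf₁.img_comp, hf₁R, img_autFun]
  have hκC : C (autFun (κ : MulAut R) ∘ f₁) := hC.comp (hf₁.mono le_sup_right) hf₁C κ.2.2.2
  set f₂ := autFun (κ : MulAut R) ∘ f₁ with hf₂
  have hf₂R : ∀ x ∈ R₀, f₂ x ∈ R := fun x hx => hκfR.le (mem_img_of_mem hx)
  -- the conjugations of `M₀` through `f₂`
  have hn' : ∀ n ∈ M₀, ∃ m ∈ N, ∀ x ∈ R₀, f₂ (n * x * n⁻¹) = m * f₂ x * m⁻¹ := by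
    intro n hn
    obtain ⟨m, hm, hme⟩ := mem_autInducedBy.1 (hκD ⟨n, hn⟩)
    refine ⟨m, hm, fun x hx => ?_⟩
    rw [← hme _ (hf₂R x hx), autFun_conj _ _ (hf₂R x hx)]
    show autFun (κ : MulAut R) (f₁ (n * x * n⁻¹)) = _
    rw [show f₂ x = autFun (κ : MulAut R) (f₁ x) from rfl, autFun_inv_apply' _ (hf₁R.le (mem_img_of_mem hx)),
      hμ ⟨n, hn⟩ x hx]
  obtain ⟨h, hh, hhe⟩ := extend hrec (hκf.comp hψ hf₂R)
    (by rw [hκf.img_comp, hκfR, hψi]) (N := M₀) fun n hn => by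
    obtain ⟨m, hm, hme⟩ := hn' n hn
    refine ⟨hTS (hM₀T hn), hMR₀ n hn, g m, hg.mem (le_sup_right (a := R) hm), fun x hx => ?_⟩
    rw [Function.comp_apply, hme x hx, Function.comp_apply]
    exact (hgn m hm _ (hf₂R x hx)).symm
  have hhV : ∀ n ∈ M₀, h n ∈ img g (R ⊔ N) := by
    intro n hn
    obtain ⟨m, hm, hme⟩ := hn' n hn
    obtain ⟨γ, hγ, hγe⟩ := exists_autInducedBy (K := N) hm (hNR m hm)
    refine img_mono le_sup_right (hgN.ge (Subgroup.subset_closure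
      (hVin _ (hh.mem (le_sup_right (a := R₀) hn)) γ (hAbA hγ) fun y hy => ?_)))
    obtain ⟨x, hx, rfl⟩ := hκf.mem_img.1 (hκfR.ge hy)
    have h2 := hh.map_conj (le_sup_right (a := R₀) hn) (le_sup_left (b := M₀) hx)
    rw [hhe x hx, hhe _ (conj_mem_of_normalizer (hMR₀ n hn) hx)] at h2
    simp only [Function.comp_apply] at h2
    rw [← h2, hme x hx, hγe _ hy]
  obtain ⟨g', hg', hgl, -, -⟩ := hg.inv
  have hhimg : ∀ y ∈ R₀ ⊔ M₀, h y ∈ img g (R ⊔ N) := by
    intro y hy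
    have : img h (R₀ ⊔ M₀) ≤ img g (R ⊔ N) := by
      rw [hh.img_sup le_sup_left le_sup_right]
      refine sup_le (img_le_iff.2 fun x hx => ?_) (img_le_iff.2 hhV)
      rw [hhe x hx, Function.comp_apply, ← hge _ (hf₂R x hx)]
      exact mem_img_of_mem (le_sup_left (b := N) (hf₂R x hx))
    exact this (mem_img_of_mem hy)
  have hfin : IsMap F (R₀ ⊔ M₀) (g' ∘ h) := hh.comp hg' hhimg
  have hR₀e : ∀ x ∈ R₀, g' (h x) = f₂ x := fun x hx => by
    rw [hhe x hx, Function.comp_apply, ← hge _ (hf₂R x hx), hgl _ (le_sup_left (b := N) (hf₂R x hx))]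
  have hle : M₀ ⊔ Q ≤ R₀ ⊔ M₀ := sup_le le_sup_right (le_sup_right.trans le_sup_left)
  refine ⟨g' ∘ h, (hE _ _).2 ⟨hfin.mono le_sup_right, hM₀T, fun n hn => ?_, g' ∘ h, hfin.mono hle,
    fun _ _ => rfl, hC.congr (fun x hx => (hR₀e x (le_sup_right (a := P₀) hx)).symm) hκC⟩, fun x hx => ?_⟩
  · obtain ⟨m, hm, he'⟩ : ∃ m ∈ N, g m = h n := by
      obtain ⟨m', hm', hme⟩ := hn' n hn
      obtain ⟨γ, hγ, hγe⟩ := exists_autInducedBy (K := N) hm' (hNR m' hm')
      refine hVs _ (hVin _ (hh.mem (le_sup_right (a := R₀) hn)) γ (hAbA hγ) fun y hy => ?_)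
      obtain ⟨x, hx, rfl⟩ := hκf.mem_img.1 (hκfR.ge hy)
      have h2 := hh.map_conj (le_sup_right (a := R₀) hn) (le_sup_left (b := M₀) hx)
      rw [hhe x hx, hhe _ (conj_mem_of_normalizer (hMR₀ n hn) hx)] at h2
      simp only [Function.comp_apply] at h2
      rw [← h2, hme x hx, hγe _ hy]
    rw [Function.comp_apply, ← he', hgl m (le_sup_right (a := R) hm)]
    exact hm.1
  · rw [Function.comp_apply, hR₀e x (le_sup_left (b := Q) hx)]
    show autFun (κ : MulAut R) (f₁ x) = f x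
    rw [hf₁e x hx, hκP _ (hfi.le (mem_img_of_mem hx))]

/-- Membership in a normalizer system. -/
theorem isMap_normalizerSystem_iff {Q : Subgroup Ω} (hQS : Q ≤ S) {E : FusionSystem (normalizerIn S Q)}
    (hE : F.IsNormalizerSystem Q E) (P : Subgroup Ω) (f : Ω → Ω) :
    IsMap E P f ↔ IsMap F P f ∧ P ≤ normalizerIn S Q ∧ (∀ x ∈ P, f x ∈ normalizerIn S Q) ∧
      ∃ g, IsMap F (P ⊔ Q) g ∧ (∀ x ∈ P, g x = f x) ∧ img g Q = Q := by
  constructor
  · intro h
    obtain ⟨h1, h2, h3⟩ := isMap_of_normalizerSystem hE h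
    exact ⟨h1, h2, fun x hx => h.mem hx, h3⟩
  · rintro ⟨-, hP, -, g, hg, hge, hgQ⟩
    exact ((isMap_normalizerSystem hE hg le_sup_right hgQ (sup_le hP (le_normalizerIn hQS))).mono le_sup_left).congr hge

/-- The normalizer system of a fully normalized subgroup is saturated. -/
theorem normalizerSystem_saturated [Finite S] [Fact p.Prime] (hS : IsPGroup p S) (hF : F.IsSaturated p)
    {Q : Subgroup Ω} (hQ : F.IsFullyNormalized Q) {E : FusionSystem (normalizerIn S Q)}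
    (hE : F.IsNormalizerSystem Q E) : E.IsSaturated p := by
  have hC : ExtCond F Q (normalizerIn S Q) (fun f => img f Q = Q) :=
    { conj := fun a ha => le_antisymm
        (img_le_iff.2 fun x hx => conj_mem_of_normalizer ha.2 hx)
        (fun x hx => by
          have : conjF a (a⁻¹ * x * a) = x := by simp [mul_assoc]
          rw [← this]
          exact mem_img_of_mem (conj_mem_of_normalizer' ha.2 hx))
      congr := fun h hf => (img_congr fun x hx => (h x hx).symm).trans hf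
      img_eq := id
      comp := fun {f g} hm hf hg => by rw [hm.img_comp, hf, hg]
      inv := fun {f g} hm hf h => by
        calc img g Q = img g (img f Q) := by rw [hf]
          _ = img (g ∘ f) Q := (hm.img_comp g).symm
          _ = Q := (img_congr (g := id) h).trans (img_id Q) }
  refine saturated_of_full hS hF hQ.1 (normalizerIn_le Q) hC (fun s hs => hs.2) (fun s hs hn _ => ⟨hs, hn⟩)
    (fun u hu => ?_) (isMap_normalizerSystem_iff hQ.1 hE)
  obtain ⟨χ, hχ, hχi, hχN⟩ :=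
    exists_normalizer_map_fn hS hF hQ (isConj_symm (isConj_iff.2 ⟨u, hu, rfl⟩))
  exact ⟨_, χ, hχ, le_normalizerIn hu.img_le, show img (χ ∘ u) Q = Q by rw [hu.img_comp, hχi],
    fun s hs hn _ => ⟨⟨hs, hn⟩, hχN (mem_img_of_mem ⟨hs, hn⟩)⟩⟩

/-- Membership in a centralizer system. -/
theorem isMap_centralizerSystem_iff {Q : Subgroup Ω} {E : FusionSystem (centralizerIn S Q)}
    (hE : F.IsCentralizerSystem Q E) (P : Subgroup Ω) (f : Ω → Ω) :
    IsMap E P f ↔ IsMap F P f ∧ P ≤ centralizerIn S Q ∧ (∀ x ∈ P, f x ∈ centralizerIn S Q) ∧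
      ∃ g, IsMap F (P ⊔ Q) g ∧ (∀ x ∈ P, g x = f x) ∧ ∀ x ∈ Q, g x = x := by
  constructor
  · intro h
    refine ⟨?_, h.le, fun x hx => h.mem hx, ?_⟩
    all_goals obtain ⟨φ, hφ, hφf⟩ := h
    all_goals rw [hE] at hφ
    · exact ⟨φ, hφ.1, hφf⟩
    · obtain ⟨-, -, -, ψ, hψ, hψe, hψQ⟩ := hφ
      refine ⟨ev ψ, IsMap.of_hom hψ, fun x hx => ?_, fun x hx => ?_⟩
      · rw [← hφf ⟨x, hx⟩, ← hψe ⟨x, hx⟩]
        exact ev_of_mem ψ (le_sup_left (b := Q) hx)
      · exact (ev_of_mem ψ (le_sup_right (a := P) hx)).trans (hψQ ⟨x, hx⟩)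
  · rintro ⟨⟨φ, hφ, hφf⟩, hP, hfT, g, hg, hge, hgQ⟩
    refine ⟨φ, ?_, hφf⟩
    rw [hE]
    obtain ⟨ψ, hψ, hψg⟩ := hg
    exact ⟨hφ, hP, fun x => by rw [hφf]; exact hfT x x.2, ψ, hψ,
      fun x => (hψg _).trans ((hge x x.2).trans (hφf x).symm), fun x => (hψg _).trans (hgQ x x.2)⟩

/-- The centralizer system of a fully centralized subgroup is saturated. -/
theorem centralizerSystem_saturated [Finite S] [Fact p.Prime] (hS : IsPGroup p S) (hF : F.IsSaturated p)
    {Q : Subgroup Ω} (hQ : F.IsFullyCentralized Q) {E : FusionSystem (centralizerIn S Q)}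
    (hE : F.IsCentralizerSystem Q E) : E.IsSaturated p := by
  have hC : ExtCond F Q (centralizerIn S Q) (fun f => ∀ x ∈ Q, f x = x) :=
    { conj := fun a ha x hx => by rw [conjF, ← ha.2 x hx, mul_inv_cancel_right]
      congr := fun h hf x hx => (h x hx).symm.trans (hf x hx)
      img_eq := fun hf => (img_congr (g := id) hf).trans (img_id Q)
      comp := fun {f g} _ hf hg x hx => by rw [Function.comp_apply, hf x hx, hg x hx]
      inv := fun {f g} _ hf h x hx => by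
        conv_lhs => rw [← hf x hx]
        exact h x hx }
  refine saturated_of_full hS hF hQ.1 (centralizerIn_le Q) hC
    (fun s hs => Subgroup.centralizer_le_normalizer _ hs.2)
    (fun s hs hn h => ⟨hs, fun x hx => (mul_inv_eq_iff_eq_mul.1 (h x hx)).symm⟩)
    (fun u hu => ?_) (isMap_centralizerSystem_iff hE)
  have hrec := receptive_of_fullyCentralized hS hF hQ
  obtain ⟨k, hk, hkl, -, hki⟩ := hu.inv
  obtain ⟨χ, hχ, hχe⟩ := extend hrec hk hki (N := centralizerIn S (img u Q)) fun s hs =>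
    ⟨hs.1, Subgroup.centralizer_le_normalizer _ hs.2, 1, S.one_mem, fun x hx => by
      rw [← hs.2 x hx, mul_inv_cancel_right, one_mul, inv_one, mul_one]⟩
  refine ⟨_, χ, hχ, le_sup_left, fun x hx => ?_, fun s hs hn h => ?_⟩
  · rw [Function.comp_apply, hχe _ (mem_img_of_mem hx), hkl x hx]
  obtain ⟨c, -, hc, hce⟩ := h
  have hsC : s ∈ centralizerIn S (img u Q) := by
    refine ⟨hs, fun y hy => ?_⟩
    obtain ⟨x, hx, rfl⟩ := hu.mem_img.1 hy
    exact (mul_inv_eq_iff_eq_mul.1 ((hce x hx).trans (congrArg u (hc x hx)))).symm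
  refine ⟨Subgroup.mem_sup_right hsC, hχ.mem (Subgroup.mem_sup_right hsC), fun x hx => ?_⟩
  have h1 := hsC.2 (u x) (mem_img_of_mem hx)
  have h2 : χ (u x) = x := by rw [hχe _ (mem_img_of_mem hx), hkl x hx]
  have h3 := congrArg χ h1
  rw [hχ.map_mul (Subgroup.mem_sup_left (mem_img_of_mem hx)) (Subgroup.mem_sup_right hsC),
    hχ.map_mul (Subgroup.mem_sup_right hsC) (Subgroup.mem_sup_left (mem_img_of_mem hx)), h2] at h3
  exact h3

end CfsgLib.Fus
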