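import Cfsg.Agent.Fus.FunctorOver
import Cfsg.Agent.Fus.QdSystems
import Cfsg.Agent.Fus.SystemSaturation
import Cfsg.Agent.Fus.ConstrainedSubsystem

/-!
Glauberman functors and saturated systems free of `qd p`: the preimage of the value at `S/Q` is normal when `Q` is normal and
its automizer is a `p`-group.
-/

set_option autoImplicit false
set_option linter.style.haveILetI false

open Cfsg Cfsg.FusionSystem

namespace CfsgLib.Fus

universe u

variable (W : ∀ (Q : Type u) [Group Q], Subgroup Q) {Ω : Type u} [Group Ω] {S : Subgroup Ω} {F : FusionSystem S} {p : ℕ}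

/-- A Glauberman functor. -/
structure GlaubermanFn [Fact p.Prime] : Prop where
  ne_bot : ∀ (Q : Type u) [Group Q] [Finite Q], IsPGroup p Q → Nontrivial Q → W Q ≠ ⊥
  iso : IsoInvariant W p
  normal : ∀ (L : Type u) [Group L] [Finite L] (P : Sylow p L),
    Subgroup.centralizer ((Cfsg.pCore p L : Subgroup L) : Set L) =
      Cfsg.pCore p L ⊓ Subgroup.centralizer ((Cfsg.pCore p L : Subgroup L) : Set L) →
    ¬ Cfsg.Involves ↥(Cfsg.qd p) L → (((W ↥(P : Subgroup L)).map (P : Subgroup L).subtype : Subgroup L)).Normal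

/-- Stabilization of a normal subgroup by all maps. -/
theorem stab_of_normal {Q : Subgroup Ω} (h : F.IsNormal Q) {M : Subgroup Ω} {f : Ω → Ω} (hf : IsMap F M f)
    (hQM : Q ≤ M) : img f Q = Q := by
  obtain ⟨g, -, hge, hgQ⟩ := (isNormal_iff.1 h).2 M f hf
  exact (img_congr fun x hx => (hge x (hQM hx)).symm).trans hgQ

/-- A normal subgroup is normalized by `S`. -/
theorem conj_mem_normal {Q : Subgroup Ω} (h : F.IsNormal Q) {a x : Ω} (ha : a ∈ S) (hx : x ∈ Q) : a * x * a⁻¹ ∈ Q :=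
  (stab_of_normal h (IsMap.conj F h.1 ha) le_rfl).le (mem_img_of_mem hx)

/-- The model normalizes the construction over `Q`. -/
theorem model_fnOver [Finite S] [Fact p.Prime] (hG : GlaubermanFn W (p := p)) (hS : IsPGroup p S)
    {X Q : Subgroup Ω} (hXS : X ≤ S) {L : Type u} [Group L] [Finite L] {ι : ↥(normalizerIn S X) →* L}
    {θ : L →* ↥(F.autGroup X)} {N : FusionSystem (normalizerIn S X)} {T : Sylow p L}
    (hN : F.IsNormalizerSystem X N) (hι : N.IsRealizedBy ι)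
    (hconj : ∀ (l : L) (q : ↥(normalizerIn S X)) (_ : (q : Ω) ∈ X), ∃ q' : ↥(normalizerIn S X),
      (q' : Ω) = autFun (θ l : MulAut X) q ∧ l * ι q * l⁻¹ = ι q')
    (hker : θ.ker = ((Zc X).subgroupOf (normalizerIn S X)).map ι) (hT : (T : Subgroup L) = ι.range)
    (hfree : ¬ Involves ↥(Cfsg.qd p) L) (hQX : Q ≤ X) (hQn : F.IsNormal Q) (hQp : IsPGroup p (F.autGroup Q)) (l : L) :
    ∀ y : ↥(normalizerIn S X), (y : Ω) ∈ fnOver W (normalizerIn S X) Q →
      ∃ y' : ↥(normalizerIn S X), (y' : Ω) ∈ fnOver W (normalizerIn S X) Q ∧ l * ι y * l⁻¹ = ι y' := by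
  classical
  haveI : Finite ↥(normalizerIn S X) := finite_of_le (normalizerIn_le X)
  have hRp : IsPGroup p ↥(normalizerIn S X) := hS.to_le (normalizerIn_le X)
  have hXR : X ≤ normalizerIn S X := le_normalizerIn hXS
  have hQR : Q ≤ normalizerIn S X := hQX.trans hXR
  set QL := (Q.subgroupOf (normalizerIn S X)).map ι with hQL
  set XL := (X.subgroupOf (normalizerIn S X)).map ι with hXL
  have hmove : ∀ (l : L) (q : ↥(normalizerIn S X)), (q : Ω) ∈ Q →
      ∃ q' : ↥(normalizerIn S X), (q' : Ω) ∈ Q ∧ l * ι q * l⁻¹ = ι q' := fun l q hq => by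
    obtain ⟨q', hq'c, hq'⟩ := hconj l q (hQX hq)
    refine ⟨q', hq'c ▸ ?_, hq'⟩
    exact (stab_of_normal hQn ((mem_autGroup hXS).1 (θ l).2) hQX).le (mem_img_of_mem hq)
  haveI hQLn : QL.Normal := ⟨fun w hw l => by
    obtain ⟨q, hq, rfl⟩ := hw
    obtain ⟨q', hq', he⟩ := hmove l q hq
    exact ⟨q', hq', he.symm⟩⟩
  haveI hXLn : XL.Normal := ⟨fun w hw l => by
    obtain ⟨q, hq, rfl⟩ := hw
    obtain ⟨q', hq'c, he⟩ := hconj l q hq
    exact ⟨q', (show (q' : Ω) ∈ X from hq'c ▸ autFun_mem _ hq), he.symm⟩⟩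
  have hQLp : IsPGroup p QL := (hRp.to_subgroup _).map ι
  set π := QuotientGroup.mk' QL with hπ
  let T' : Sylow p (L ⧸ QL) := T.mapSurjective (QuotientGroup.mk'_surjective QL)
  have hT' : (T' : Subgroup (L ⧸ QL)) = ι.range.map π := by rw [Sylow.coe_mapSurjective, hT]
  let ρ : ↥(normalizerIn S X) →* ↥(T' : Subgroup (L ⧸ QL)) :=
    (π.comp ι).codRestrict _ fun r => hT'.ge ⟨ι r, ⟨r, rfl⟩, rfl⟩
  have hρs : Function.Surjective ρ := fun v => by
    obtain ⟨_, ⟨r, rfl⟩, hr⟩ := hT'.le v.2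
    exact ⟨r, Subtype.ext hr⟩
  have hρker : ρ.ker = Q.subgroupOf (normalizerIn S X) := by
    ext r
    rw [MonoidHom.mem_ker, ← OneMemClass.coe_eq_one]
    show π (ι r) = 1 ↔ _
    rw [hπ, QuotientGroup.mk'_apply, QuotientGroup.eq_one_iff]
    exact ⟨fun ⟨q, hq, he⟩ => hι.1 he ▸ hq, fun h => ⟨r, h, rfl⟩⟩
  have hY := fnOver_eq W hG.iso hRp hρs hρker
  -- the centralizer of the largest normal `p`-subgroup of the quotient
  set O := pCore p (L ⧸ QL) with hO
  haveI := CfsgLib.Solv.pCore_normal (L ⧸ QL) p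
  have hXO : XL.map π ≤ O := by
    haveI : (XL.map π).Normal := hXLn.map π (QuotientGroup.mk'_surjective QL)
    exact CfsgLib.Solv.le_pCore (((hRp.to_subgroup _).map ι).map π)
  have hCp : IsPGroup p ↥(Subgroup.centralizer (O : Set (L ⧸ QL))) := by
    refine CfsgLib.Solv.isPGroup_of_forall_coprime fun v hv hco => ?_
    obtain ⟨l₀, rfl⟩ := QuotientGroup.mk'_surjective QL v
    obtain ⟨k, r, hr, hkr⟩ := Nat.exists_eq_pow_mul_and_not_dvd (orderOf_pos l₀).ne' p (Fact.out : p.Prime).ne_one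
    set z := Nat.gcdA (p ^ k) (orderOf (π l₀)) with hz
    set l₁ := (l₀ ^ p ^ k) ^ z with hl₁
    have hπl : π l₁ = π l₀ := by
      have hc : Nat.gcd (p ^ k) (orderOf (π l₀)) = 1 := (hco.symm.pow_left k)
      have h2 := Nat.gcd_eq_gcd_ab (p ^ k) (orderOf (π l₀))
      rw [hc, Nat.cast_one] at h2
      rw [hl₁, map_zpow, map_pow, ← zpow_natCast, ← zpow_mul, hz, eq_sub_of_add_eq h2.symm, zpow_sub, zpow_one,
        zpow_mul, zpow_natCast, pow_orderOf_eq_one, one_zpow, inv_one, mul_one]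
    have hl₁co : (orderOf l₁).Coprime p := by
      have h1 : orderOf l₁ ∣ orderOf (l₀ ^ p ^ k) := orderOf_dvd_of_mem_zpowers ⟨z, rfl⟩
      have h2 : orderOf (l₀ ^ p ^ k) = r := by
        rw [orderOf_pow, hkr, Nat.gcd_mul_right_left, Nat.mul_div_cancel_left _ (pow_pos (Fact.out : p.Prime).pos k)]
      rw [h2] at h1
      exact Nat.Coprime.coprime_dvd_left h1 ((Nat.Prime.coprime_iff_not_dvd Fact.out).2 hr).symm
    -- it centralizes `Q`
    obtain ⟨f, hf, hfQ, -, hfe⟩ := exists_char_map hN hι θ hconj hXS hQR (hmove l₁)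
    have hcQ := centralize_of_autP hQR hQp hf le_sup_right hfQ hl₁co hfe (hmove l₁)
    -- it centralizes `X` modulo `Q`, so centralizes `X`
    have hcX : ∀ x : ↥(normalizerIn S X), (x : Ω) ∈ X → l₁ * ι x * l₁⁻¹ = ι x := by
      intro x hx
      have hcomm := hv (π (ι x)) (hXO ⟨ι x, ⟨x, hx, rfl⟩, rfl⟩)
      rw [← hπl, ← map_mul, ← map_mul] at hcomm
      obtain ⟨q, hq, hqe⟩ : (ι x)⁻¹ * (l₁ * ι x * l₁⁻¹) ∈ QL := by
        refine (QuotientGroup.eq_one_iff _).1 ?_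
        show π _ = 1
        rw [map_mul, map_inv, map_mul, map_inv, map_mul]
        rw [map_mul, map_mul] at hcomm
        rw [← hcomm]; group
      have hstep : ∀ j : ℕ, l₁ ^ j * ι x * (l₁ ^ j)⁻¹ = ι x * ι q ^ j := by
        intro j
        induction j with
        | zero => simp
        | succ j ih =>
          calc l₁ ^ (j + 1) * ι x * (l₁ ^ (j + 1))⁻¹ = l₁ * (l₁ ^ j * ι x * (l₁ ^ j)⁻¹) * l₁⁻¹ := by
                rw [pow_succ']; group
            _ = l₁ * ι x * (ι q ^ j * l₁⁻¹) := by rw [ih]; group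
            _ = l₁ * ι x * (l₁⁻¹ * ι q ^ j) := by
                rw [((show Commute l₁ (ι q) from hcQ q hq).inv_left.pow_right j).eq]
            _ = ι x * (ι x)⁻¹ * (l₁ * ι x * l₁⁻¹) * ι q ^ j := by group
            _ = _ := by rw [mul_assoc (ι x), ← hqe, pow_succ', mul_assoc]
      have h1 := hstep (orderOf l₁)
      rw [pow_orderOf_eq_one, one_mul, inv_one, mul_one, left_eq_mul] at h1
      obtain ⟨j, hj⟩ := hRp q
      have hq1 : ι q = 1 := orderOf_eq_one_iff.1 (Nat.eq_one_of_dvd_coprimes (hl₁co.pow_right j)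
        (orderOf_dvd_of_pow_eq_one h1) (orderOf_dvd_of_pow_eq_one (by rw [← map_pow, hj, map_one])))
      rw [hq1, eq_comm, inv_mul_eq_one] at hqe
      exact hqe.symm
    have hθ1 : θ l₁ = 1 := Subtype.ext (aut_ext fun x hx => by
      obtain ⟨q', hq'c, hq'⟩ := hconj l₁ ⟨x, hXR hx⟩ hx
      rw [hcX _ hx] at hq'
      rw [OneMemClass.coe_one, autFun_one hx, ← hq'c, ← hι.1 hq'])
    have hl1 : l₁ = 1 := by
      refine CfsgLib.Solv.eq_one_of_isPGroup_coprime (H := θ.ker) ?_ hθ1 hl₁co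
      rw [hker]
      exact (hRp.to_subgroup _).map ι
    rw [← hπl, hl1, map_one]
  have hCO : Subgroup.centralizer (O : Set (L ⧸ QL)) ≤ O := by
    haveI : (Subgroup.centralizer (O : Set (L ⧸ QL))).Normal := inferInstance
    exact CfsgLib.Solv.le_pCore hCp
  have hfree' : ¬ Involves ↥(Cfsg.qd p) (L ⧸ QL) := fun h => hfree (CfsgLib.Dickson.involves_of_isSec
    (CfsgLib.Dickson.isSec_trans ⟨⊤, π.comp (⊤ : Subgroup L).subtype,
      (QuotientGroup.mk'_surjective QL).comp fun x => ⟨⟨x, Subgroup.mem_top x⟩, rfl⟩⟩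
      (CfsgLib.Dickson.isSec_of_involves h)))
  have hWn := hG.normal (L ⧸ QL) T' (inf_eq_right.2 hCO).symm hfree'
  intro y hy
  rw [hY] at hy
  obtain ⟨y₀, hy₀, he⟩ := hy
  obtain rfl : y₀ = y := Subtype.ext he
  obtain ⟨v, hv, hve⟩ := hWn.conj_mem _ ⟨ρ y₀, hy₀, rfl⟩ (π l)
  have hm : l * ι y₀ * l⁻¹ ∈ ι.range := by
    obtain ⟨_, ⟨r, rfl⟩, hr⟩ := hT'.le v.2
    have hr' : (ι r)⁻¹ * (l * ι y₀ * l⁻¹) ∈ QL := by
      refine QuotientGroup.eq.1 (?_ : π (ι r) = π (l * ι y₀ * l⁻¹))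
      rw [hr, map_mul, map_mul, map_inv]
      exact hve
    have : l * ι y₀ * l⁻¹ = ι r * ((ι r)⁻¹ * (l * ι y₀ * l⁻¹)) := by group
    rw [this]
    exact mul_mem ⟨r, rfl⟩ (Subgroup.map_le_range ι _ hr')
  obtain ⟨y', hy'⟩ := hm
  refine ⟨y', hY.ge ⟨y', ?_, rfl⟩, hy'.symm⟩
  show ρ y' ∈ W _
  have : v = ρ y' := Subtype.ext (by
    show ((v : ↥(T' : Subgroup (L ⧸ QL))) : L ⧸ QL) = π (ι y')
    rw [hy', map_mul, map_mul, map_inv]
    exact hve)
  exact this ▸ hv

/-- The statement to be proved for the systems preceding a given one. -/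
def Below (p : ℕ) (T : Subgroup Ω) (c : ℕ) : Prop :=
  ∀ (T' : Subgroup Ω) (F' : FusionSystem T'), T' ≤ T → F'.IsSaturated p → NoQdPair F' p →
    (T' < T ∨ (T' = T ∧ c < Nat.card ↥F'.core)) →
    ∀ Q, F'.IsNormal Q → IsPGroup p (F'.autGroup Q) → F'.IsNormal (fnOver W T' Q)

/-- The maps extending over `W₀` stabilizing it, as a system. -/
theorem exists_stab_system {W₀ : Subgroup Ω} (hW₀S : W₀ ≤ S) (hW₀ : normalizerIn S W₀ = S) :
    ∃ E : FusionSystem S, ∀ P f, IsMap E P f ↔ IsMap F P f ∧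
      ∃ g, IsMap F (P ⊔ W₀) g ∧ (∀ x ∈ P, g x = f x) ∧ img g W₀ = W₀ := by
  have hnorm : ∀ a ∈ S, a ∈ Subgroup.normalizer (W₀ : Set Ω) := fun a ha => (hW₀.ge ha).2
  have hC : ExtCond F W₀ S (fun f => img f W₀ = W₀) :=
    { conj := fun a ha => le_antisymm
        (img_le_iff.2 fun x hx => conj_mem_of_normalizer (hnorm a ha) hx)
        (fun x hx => by
          have : conjF a (a⁻¹ * x * a) = x := by simp [mul_assoc]
          rw [← this]
          exact mem_img_of_mem (conj_mem_of_normalizer' (hnorm a ha) hx))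
      congr := fun h hf => (img_congr fun x hx => (h x hx).symm).trans hf
      img_eq := id
      comp := fun {f g} hm hf hg => by rw [hm.img_comp, hf, hg]
      inv := fun {f g} hm hf h => by
        calc img g W₀ = img g (img f W₀) := by rw [hf]
          _ = img (g ∘ f) W₀ := (hm.img_comp g).symm
          _ = W₀ := (img_congr (g := id) h).trans (img_id W₀) }
  refine ⟨extSystem F W₀ S hW₀S le_rfl _ hC, fun P f => (isMap_extSystem_iff P f).trans ?_⟩
  exact ⟨fun ⟨h1, _, _, h4⟩ => ⟨h1, h4⟩, fun ⟨h1, h4⟩ => ⟨h1, h1.le, fun x hx => h1.mem hx, h4⟩⟩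

/-- Restriction to a normalizer system of a normal subgroup and its automizer. -/
theorem normalizer_inherit [Finite S] {Q Y : Subgroup Ω} (hQn : F.IsNormal Q) (hQY : Q ≤ Y) (hYS : Y ≤ S)
    (hQp : IsPGroup p (F.autGroup Q)) {N : FusionSystem (normalizerIn S Y)} (hN : F.IsNormalizerSystem Y N) :
    N.IsNormal Q ∧ IsPGroup p (N.autGroup Q) := by
  have hQT : Q ≤ normalizerIn S Y := hQY.trans (le_normalizerIn hYS)
  refine ⟨isNormal_iff.2 ⟨hQT, fun P f hf => ?_⟩, hQp.to_le fun α hα => ?_⟩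
  · obtain ⟨-, hP, g, hg, hge, hgY⟩ := isMap_of_normalizerSystem hN hf
    have hle : P ⊔ Q ≤ P ⊔ Y := sup_le_sup_left hQY P
    refine ⟨g, (isMap_normalizerSystem hN hg le_sup_right hgY (sup_le hP (le_normalizerIn hYS))).mono hle,
      hge, stab_of_normal hQn hg (le_sup_of_le_right hQY)⟩
  · exact (mem_autGroup hQn.1).2 (isMap_of_normalizerSystem hN ((mem_autGroup hQT).1 hα)).1

/-- `Y` is normal in its normalizer system. -/
theorem self_normal_normalizer [Finite S] {Y : Subgroup Ω} (hYS : Y ≤ S) {N : FusionSystem (normalizerIn S Y)}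
    (hN : F.IsNormalizerSystem Y N) : N.IsNormal Y := by
  refine isNormal_iff.2 ⟨le_normalizerIn hYS, fun P f hf => ?_⟩
  obtain ⟨-, hP, g, hg, hge, hgY⟩ := isMap_of_normalizerSystem hN hf
  exact ⟨g, isMap_normalizerSystem hN hg le_sup_right hgY (sup_le hP (le_normalizerIn hYS)), hge, hgY⟩

/-- The case of a normal subgroup on which the system acts as a `p`-group. -/
theorem normal_of_acting [Finite S] [Fact p.Prime] (hG : GlaubermanFn W (p := p)) (hS : IsPGroup p S)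
    (hF : F.IsSaturated p) (hfree : NoQdPair F p) {c : ℕ} (hbelow : Below W p S c) {C₀ Q : Subgroup Ω}
    (hc : c ≤ Nat.card ↥C₀) (hC₀ : F.IsNormal C₀) (hC₀p : IsPGroup p (F.autGroup C₀)) (hQC : Q ≤ C₀)
    (hQn : F.IsNormal Q) (hQp : IsPGroup p (F.autGroup Q)) : F.IsNormal (fnOver W S Q) := by
  have hQS := hQn.1
  have hQconj : ∀ t ∈ S, ∀ x ∈ Q, t * x * t⁻¹ ∈ Q := fun t ht x hx => conj_mem_normal hQn ht hx
  have hCconj : ∀ t ∈ S, ∀ x ∈ C₀, t * x * t⁻¹ ∈ C₀ := fun t ht x hx => conj_mem_normal hC₀ ht hx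
  have hnormQ : ∀ t ∈ S, t ∈ Subgroup.normalizer (Q : Set Ω) := fun t ht =>
    mem_normalizer_of_conj (hQconj t ht) fun y hy => by simpa using hQconj t⁻¹ (S.inv_mem ht) y hy
  have hnormC : ∀ t ∈ S, t ∈ Subgroup.normalizer (C₀ : Set Ω) := fun t ht =>
    mem_normalizer_of_conj (hCconj t ht) fun y hy => by simpa using hCconj t⁻¹ (S.inv_mem ht) y hy
  set W₀ := fnOver W S Q with hW₀def
  have hW₀S : W₀ ≤ S := fnOver_le W S Q
  have hW₀ : normalizerIn S W₀ = S := le_antisymm (normalizerIn_le _) fun a ha =>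
    normalizerIn_le_fnOver W hS hG.iso le_rfl hQS hQconj (le_normalizerIn le_rfl ha) (hnormQ a ha)
  obtain ⟨E, hE⟩ := exists_stab_system (F := F) hW₀S hW₀
  suffices hFE : F ≤ E by
    exact isNormal_iff.2 ⟨hW₀S, fun P f hf => ((hE P f).1 (le_iff.1 hFE P f hf)).2⟩
  have key : ∀ (n : ℕ) (X : Subgroup Ω), Nat.card S - Nat.card ↥X = n → F.IsFullyNormalized X → F.IsCentric X →
      F.autGroup X ≤ E.autGroup X := by
    intro n
    induction n using Nat.strong_induction_on with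
    | _ n ih =>
    intro X hn hX hXc
    have hXS := hX.1
    haveI := finite_of_le hXS
    have hbig : ∀ P f, IsMap F P f → Nat.card ↥X < Nat.card ↥P → IsMap E P f := fun P f hf hlt => by
      refine maps_ge hS hF E (Nat.card ↥X + 1) (fun R hR hRc hm => ?_) hf hlt
      have hRle : Nat.card ↥R ≤ Nat.card S := Subgroup.card_le_of_le hR.1
      exact ih (Nat.card S - Nat.card ↥R) (by omega) R rfl hR hRc
    refine (autGroup_le_iff hXS hXS).2 fun f hf hfi => ?_
    by_cases hC₀X : C₀ ≤ X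
    swap
    · obtain ⟨g, hg, hge, -⟩ := (isNormal_iff.1 hC₀).2 X f hf
      haveI := finite_of_le hg.le
      exact ((hbig _ g hg (card_lt_of_lt hg.le (left_lt_sup.2 hC₀X))).mono le_sup_left).congr hge
    haveI : Finite ↥(normalizerIn S X) := finite_of_le (normalizerIn_le X)
    obtain ⟨L, _, _, ι, θ, hmodel, hθs, hθι, hker, hconj⟩ := exists_model_aut hS hF hX hXc
    obtain ⟨N, hN⟩ := exists_normalizerSystem F hXS
    obtain ⟨-, hι, ⟨T, hT⟩, -⟩ := hmodel N hN
    have hLfree : ¬ Involves ↥(Cfsg.qd p) L := hfree.isSectionFree X hX hXc N hN L ι (hmodel N hN)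
    obtain ⟨α, hα, hαe⟩ := exists_aut hf hfi
    obtain ⟨l, hl⟩ := hθs ⟨α, hα⟩
    by_cases hRS : normalizerIn S X = S
    · -- the model reaches `S`
      have hlY := model_fnOver W hG hS hXS hN hι hconj hker hT hLfree (hQC.trans hC₀X) hQn hQp l
      obtain ⟨g, hg, hgY, hgX, -⟩ :=
        exists_char_map hN hι θ hconj hXS (fnOver_le W _ Q) hlY
      have hfn : fnOver W (normalizerIn S X) Q = W₀ := by rw [hRS]
      refine (hE _ _).2 ⟨hf, g, hfn ▸ hg, fun x hx => ?_, hfn ▸ hgY⟩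
      rw [hgX x hx, hl]
      exact hαe x hx
    set R := normalizerIn S X with hR
    have hXR : X < R := lt_normalizerIn hS (lt_of_le_of_ne hXS fun h => hRS (by
      refine le_antisymm (normalizerIn_le X) ?_
      exact h.ge.trans (le_normalizerIn hXS)))
    have hlY := model_fnOver W hG hS hXS hN hι hconj hker hT hLfree hC₀X hC₀ hC₀p l
    obtain ⟨g, hg, hgY, hgX, -⟩ := exists_char_map hN hι θ hconj hXS (fnOver_le W _ C₀) hlY
    set Y := fnOver W (normalizerIn S X) C₀ with hYdef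
    have hYR : Y ≤ normalizerIn S X := fnOver_le W _ C₀
    have hCR : C₀ < normalizerIn S X := hC₀X.trans_lt hXR
    have hconjR : ∀ t ∈ normalizerIn S X, ∀ x ∈ C₀, t * x * t⁻¹ ∈ C₀ := fun t ht => hCconj t (normalizerIn_le X ht)
    have hRN : ∀ a ∈ normalizerIn S (normalizerIn S X), a ∈ normalizerIn S Y := fun a ha =>
      normalizerIn_le_fnOver W hS hG.iso (normalizerIn_le X) hCR.le hconjR ha (hnormC a ha.1)
    have hCY : C₀ < Y := lt_fnOver W hG.iso hG.ne_bot (hS.to_le (normalizerIn_le X)) hCR hconjR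
    have claim : ∀ (m : ℕ) (Y : Subgroup Ω), Nat.card S - Nat.card ↥(normalizerIn S Y) = m → C₀ < Y → Y ≤ S →
        Nat.card ↥X < Nat.card ↥(normalizerIn S Y) →
        ∀ (M : Subgroup Ω) g, IsMap F M g → Y ≤ M → M ≤ normalizerIn S Y → img g Y = Y → IsMap E M g := by
      intro m
      induction m using Nat.strong_induction_on with
      | _ m ihm =>
      intro Y hm hCY hYS hXY M g hg hYM hMN hgY
      haveI := finite_of_le hYS
      obtain ⟨Y', hYY', hY'⟩ := exists_fullyNormalized (F := F) hYS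
      refine stab_of_conj hS hF E hY' hYY' (fun u hu => hbig _ u hu hXY) (fun M g hg hYM hMN hgY => ?_) hg hYM hMN hgY
      haveI := finite_of_le hY'.1
      haveI : Finite ↥(normalizerIn S Y') := finite_of_le (normalizerIn_le Y')
      have hCY' : C₀ < Y' := by
        obtain ⟨u, hu, hui⟩ := isConj_iff.1 hYY'
        refine lt_of_le_of_ne ?_ fun h => ?_
        · rw [← stab_of_normal hC₀ hu hCY.le, ← hui]
          exact img_mono hCY.le
        · have h1 := card_lt_of_lt hYS hCY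
          rw [← card_eq_of_isConj hYY', ← h] at h1
          exact lt_irrefl _ h1
      obtain ⟨N', hN'⟩ := exists_normalizerSystem F hY'.1
      have hsat := normalizerSystem_saturated hS hF hY' hN'
      have hgN : IsMap N' M g := isMap_normalizerSystem hN' hg hYM hgY hMN
      obtain ⟨hCn', hCp'⟩ := normalizer_inherit hC₀ hCY'.le hY'.1 hC₀p hN'
      by_cases hTS : normalizerIn S Y' = S
      · obtain ⟨hQn', hQp'⟩ := normalizer_inherit hQn (hQC.trans hCY'.le) hY'.1 hQp hN'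
        have hcore : c < Nat.card ↥N'.core := by
          refine hc.trans_lt ((card_lt_of_lt hY'.1 hCY').trans_le ?_)
          haveI : Finite ↥N'.core := finite_of_le ((isNormal_core (F := N')).1.trans (normalizerIn_le Y'))
          exact Subgroup.card_le_of_le (le_core (self_normal_normalizer hY'.1 hN'))
        have hW := hbelow _ N' (normalizerIn_le Y') hsat (hfree.normalizer hN') (Or.inr ⟨hTS, hcore⟩) Q hQn' hQp'
        obtain ⟨g₁, hg₁, hg₁e, hg₁W⟩ := (isNormal_iff.1 hW).2 M g hgN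
        have hfn : fnOver W (normalizerIn S Y') Q = W₀ := by rw [hTS]
        exact (hE _ _).2 ⟨hg, g₁, hfn ▸ (isMap_of_normalizerSystem hN' hg₁).1, hg₁e, hfn ▸ hg₁W⟩
      · have hlt : normalizerIn S Y' < S := lt_of_le_of_ne (normalizerIn_le Y') hTS
        have hW := hbelow _ N' (normalizerIn_le Y') hsat (hfree.normalizer hN') (Or.inl hlt) C₀ hCn' hCp'
        obtain ⟨g₁, hg₁, hg₁e, hg₁W⟩ := (isNormal_iff.1 hW).2 M g hgN
        have hCT : C₀ < normalizerIn S Y' := hCY'.trans_le (le_normalizerIn hY'.1)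
        have hconjT : ∀ t ∈ normalizerIn S Y', ∀ x ∈ C₀, t * x * t⁻¹ ∈ C₀ := fun t ht =>
          hCconj t (normalizerIn_le Y' ht)
        set Y₂ := fnOver W (normalizerIn S Y') C₀ with hY₂def
        have hY₂T : Y₂ ≤ normalizerIn S Y' := fnOver_le W _ C₀
        have hTN : normalizerIn S (normalizerIn S Y') ≤ normalizerIn S Y₂ := fun a ha =>
          normalizerIn_le_fnOver W hS hG.iso (normalizerIn_le Y') hCT.le hconjT ha (hnormC a ha.1)
        have hTT : normalizerIn S Y' < normalizerIn S Y₂ := (lt_normalizerIn hS hlt).trans_le hTN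
        have h1 : Nat.card ↥(normalizerIn S Y') < Nat.card ↥(normalizerIn S Y₂) :=
          card_lt_of_lt (normalizerIn_le Y₂) hTT
        have h2 : Nat.card ↥(normalizerIn S Y) ≤ Nat.card ↥(normalizerIn S Y') := hY'.2 _ (isConj_symm hYY')
        have h3 : Nat.card ↥(normalizerIn S Y₂) ≤ Nat.card S := Subgroup.card_le_of_le (normalizerIn_le Y₂)
        have hle : M ⊔ Y₂ ≤ normalizerIn S Y₂ :=
          sup_le (hMN.trans hTT.le) (hY₂T.trans hTT.le)
        exact ((ihm (Nat.card S - Nat.card ↥(normalizerIn S Y₂)) (by omega) Y₂ rfl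
          (lt_fnOver W hG.iso hG.ne_bot (hS.to_le (normalizerIn_le Y')) hCT hconjT) (hY₂T.trans (normalizerIn_le Y'))
          (by omega) (M ⊔ Y₂) g₁ (isMap_of_normalizerSystem hN' hg₁).1 le_sup_right hle hg₁W).mono
          le_sup_left).congr hg₁e
    have hRR : normalizerIn S X < normalizerIn S (normalizerIn S X) :=
      lt_normalizerIn hS (lt_of_le_of_ne (normalizerIn_le X) hRS)
    have hXcard : Nat.card ↥X < Nat.card ↥(normalizerIn S Y) := by
      refine card_lt_of_lt (normalizerIn_le Y) (lt_of_lt_of_le (hXR.trans hRR) ?_)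
      exact hRN
    have hle : X ⊔ Y ≤ normalizerIn S Y := sup_le ((hXR.le.trans hRR.le).trans hRN) ((hYR.trans hRR.le).trans hRN)
    refine ((claim _ Y rfl hCY (hYR.trans (normalizerIn_le X)) hXcard _ g hg le_sup_right hle hgY).mono
      le_sup_left).congr fun x hx => ?_
    rw [hgX x hx, hl]
    exact hαe x hx
  refine le_iff.2 fun P f hf => maps_ge hS hF E 0 (fun R hR hRc _ => key _ R rfl hR hRc) hf (Nat.zero_le _)

/-- The step: the case of an arbitrary system, given the preceding ones. -/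
theorem normal_of_below [Finite S] [Fact p.Prime] (hG : GlaubermanFn W (p := p)) (hS : IsPGroup p S)
    (hF : F.IsSaturated p) (hfree : NoQdPair F p) (hbelow : Below W p S (Nat.card ↥F.core)) {Q : Subgroup Ω}
    (hQn : F.IsNormal Q) (hQp : IsPGroup p (F.autGroup Q)) : F.IsNormal (fnOver W S Q) := by
  have hQS := hQn.1
  have hQconj : ∀ t ∈ S, ∀ x ∈ Q, t * x * t⁻¹ ∈ Q := fun t ht x hx => conj_mem_normal hQn ht hx
  have hnormQ : ∀ t ∈ S, t ∈ Subgroup.normalizer (Q : Set Ω) := fun t ht =>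
    mem_normalizer_of_conj (hQconj t ht) fun y hy => by simpa using hQconj t⁻¹ (S.inv_mem ht) y hy
  set W₀ := fnOver W S Q with hW₀def
  have hW₀S : W₀ ≤ S := fnOver_le W S Q
  set C₀ := F.core with hC₀def
  have hC₀ : F.IsNormal C₀ := isNormal_core
  have hC₀S := hC₀.1
  haveI := finite_of_le hC₀S
  haveI := finite_mulAut (S := S) hC₀S
  have hQC : Q ≤ C₀ := le_core hQn
  have hnormC : ∀ t ∈ S, t ∈ Subgroup.normalizer (C₀ : Set Ω) := fun t ht =>
    mem_normalizer_of_conj (fun y hy => conj_mem_normal hC₀ ht hy) fun y hy => by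
      simpa using conj_mem_normal hC₀ (S.inv_mem ht) hy
  have hNC : normalizerIn S C₀ = S := le_antisymm (normalizerIn_le _) fun a ha => ⟨ha, hnormC a ha⟩
  have hC₀fn : F.IsFullyNormalized C₀ := ⟨hC₀S, fun R _ => hNC.symm ▸ Subgroup.card_le_of_le (normalizerIn_le R)⟩
  refine isNormal_iff.2 ⟨hW₀S, fun P f hf => ?_⟩
  obtain ⟨g, hg, hge, hgC⟩ := (isNormal_iff.1 hC₀).2 P f hf
  by_cases hC : centralizerIn S C₀ ≤ C₀
  · -- constrained: use the model
    have hC₀c : F.IsCentric C₀ := centric_of_fc (fullyCentralized_of_fullyNormalized hS hF hC₀fn) hC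
    obtain ⟨L, _, _, ι, θ, hmodel, hθs, hθι, hker, hconj⟩ := exists_model_aut hS hF hC₀fn hC₀c
    obtain ⟨N, hN⟩ := exists_normalizerSystem F hC₀S
    obtain ⟨-, hι, ⟨T, hT⟩, -⟩ := hmodel N hN
    have hLfree : ¬ Involves ↥(Cfsg.qd p) L := hfree.isSectionFree C₀ hC₀fn hC₀c N hN L ι (hmodel N hN)
    have hle : P ⊔ C₀ ≤ normalizerIn S C₀ := hg.le.trans hNC.ge
    obtain ⟨φ, hφ, hφg⟩ := isMap_normalizerSystem hN hg le_sup_right hgC hle
    obtain ⟨l, hl⟩ := (hι.2 (P ⊔ C₀) hle φ (fun x => (N.le_of_mem hφ).2 x)).1 hφ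
    have hfn : fnOver W (normalizerIn S C₀) Q = W₀ := by rw [hNC]
    have hlY := model_fnOver W hG hS hC₀S hN hι hconj hker hT hLfree hQC hQn hQp l
    rw [hfn] at hlY
    have hrange : P ⊔ C₀ ⊔ W₀ ≤ (ι.range.comap ((MulAut.conj l).toMonoidHom.comp ι)).map
        (normalizerIn S C₀).subtype := by
      refine sup_le (fun x hx => ⟨⟨x, hle hx⟩, ⟨_, hl ⟨x, hx⟩⟩, rfl⟩) fun y hy => ⟨⟨y, hNC.ge (hW₀S hy)⟩, ?_, rfl⟩
      obtain ⟨y', -, hy'⟩ := hlY ⟨y, hNC.ge (hW₀S hy)⟩ hy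
      exact ⟨y', hy'.symm⟩
    have hD : P ⊔ C₀ ⊔ W₀ ≤ normalizerIn S C₀ := sup_le hle (hW₀S.trans hNC.ge)
    obtain ⟨g₁, hg₁, hg₁e⟩ := exists_model_map hN hι hD fun r hr => by
      obtain ⟨r₀, hr₀, he⟩ := hrange hr
      obtain rfl : r₀ = r := Subtype.ext he
      exact hr₀
    refine ⟨g₁, hg₁.mono (sup_le (le_sup_left.trans le_sup_left) le_sup_right), fun x hx => ?_, ?_⟩
    · have hxD : x ∈ P ⊔ C₀ := Subgroup.mem_sup_left hx
      have h1 := hg₁e ⟨x, hle hxD⟩ (Subgroup.mem_sup_left hxD) ⟨φ ⟨x, hxD⟩, (N.le_of_mem hφ).2 _⟩ (hl ⟨x, hxD⟩).symm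
      rw [h1, ← hge x hx]
      exact hφg ⟨x, hxD⟩
    · haveI := finite_of_le hW₀S
      refine Subgroup.eq_of_le_of_card_ge (img_le_iff.2 fun y hy => ?_) (hg₁.mono le_sup_right).card_img.ge
      obtain ⟨y', hy'W, hy'⟩ := hlY ⟨y, hNC.ge (hW₀S hy)⟩ hy
      rw [hg₁e ⟨y, hNC.ge (hW₀S hy)⟩ (Subgroup.mem_sup_right hy) y' hy']
      exact hy'W
  -- not constrained: the two generating subsystems
  set C := centralizerIn S C₀ with hCdef
  set C₁ := C₀ ⊔ C with hC₁def
  have hC₁S : C₁ ≤ S := sup_le hC₀S (centralizerIn_le C₀)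
  haveI := finite_of_le hC₁S
  have hC₀₁ : C₀ < C₁ := left_lt_sup.2 hC
  have hNC₁ : normalizerIn S C₁ = S := by
    refine le_antisymm (normalizerIn_le _) fun a ha => ⟨ha, ?_⟩
    have hconj : ∀ a ∈ S, ∀ y ∈ C₁, a * y * a⁻¹ ∈ C₁ := by
      intro a ha y hy
      have hle : C₁ ≤ C₁.comap (MulAut.conj a).toMonoidHom := sup_le
        (fun x hx => Subgroup.mem_sup_left (conj_mem_normal hC₀ ha hx))
        (fun x hx => Subgroup.mem_sup_right ⟨S.mul_mem (S.mul_mem ha hx.1) (S.inv_mem ha),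
          conj_mem_of_normalizer (CfsgLib.Glau.centralizer_normalizer (hnormC a ha)) hx.2⟩)
      exact hle hy
    exact mem_normalizer_of_conj (hconj a ha) fun y hy => by simpa using hconj a⁻¹ (S.inv_mem ha) y hy
  have hC₁fn : F.IsFullyNormalized C₁ := ⟨hC₁S, fun R _ => hNC₁.symm ▸ Subgroup.card_le_of_le (normalizerIn_le R)⟩
  obtain ⟨N₁, hN₁⟩ := exists_normalizerSystem F hC₁S
  haveI : Finite ↥(normalizerIn S C₁) := finite_of_le (normalizerIn_le C₁)
  obtain ⟨hQn₁, hQp₁⟩ := normalizer_inherit hQn (hQC.trans le_sup_left) hC₁S hQp hN₁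
  have hW₁ : N₁.IsNormal W₀ := by
    have h := hbelow _ N₁ (normalizerIn_le C₁) (normalizerSystem_saturated hS hF hC₁fn hN₁) (hfree.normalizer hN₁)
      (Or.inr ⟨hNC₁, (card_lt_of_lt hC₁S hC₀₁).trans_le (by
        haveI : Finite ↥N₁.core := finite_of_le ((isNormal_core (F := N₁)).1.trans (normalizerIn_le C₁))
        exact Subgroup.card_le_of_le (le_core (self_normal_normalizer hC₁S hN₁)))⟩) Q hQn₁ hQp₁
    rwa [show fnOver W (normalizerIn S C₁) Q = W₀ by rw [hNC₁]] at h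
  -- the maps acting on `C₀` as elements of `S`
  have hB : ExtCond F C₀ S (fun u => ∃ s ∈ S, ∀ x ∈ C₀, u x = s * x * s⁻¹) :=
    { conj := fun a ha => ⟨a, ha, fun x _ => rfl⟩
      congr := fun h ⟨s, hs, hse⟩ => ⟨s, hs, fun x hx => (h x hx).symm.trans (hse x hx)⟩
      img_eq := fun {u} ⟨s, hs, hse⟩ => by
        refine le_antisymm (img_le_iff.2 fun x hx => by rw [hse x hx]; exact conj_mem_normal hC₀ hs hx) fun y hy => ?_
        have hy' : s⁻¹ * y * s ∈ C₀ := by simpa using conj_mem_normal hC₀ (S.inv_mem hs) hy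
        have : u (s⁻¹ * y * s) = y := by rw [hse _ hy']; group
        exact this ▸ mem_img_of_mem hy'
      comp := fun {u v} _ ⟨s, hs, hse⟩ ⟨t, ht, hte⟩ => ⟨t * s, S.mul_mem ht hs, fun x hx => by
        rw [Function.comp_apply, hse x hx, hte _ (conj_mem_normal hC₀ hs hx)]; group⟩
      inv := fun {u v} _ ⟨s, hs, hse⟩ h => ⟨s⁻¹, S.inv_mem hs, fun y hy => by
        have hy' : s⁻¹ * y * s ∈ C₀ := by simpa using conj_mem_normal hC₀ (S.inv_mem hs) hy
        have h1 := h _ hy'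
        rw [hse _ hy', show s * (s⁻¹ * y * s) * s⁻¹ = y by group] at h1
        rw [h1]; group⟩ }
  have hiff := fun M u => isMap_extSystem_iff (F := F) (hQ := hC₀S) (hT := le_rfl) (hC := hB) M u
  set B := extSystem F C₀ S hC₀S le_rfl _ hB with hBdef
  have hBsat : B.IsSaturated p := by
    refine saturated_of_full hS hF hC₀S le_rfl hB hnormC (fun s hs _ _ => hs) (fun u hu => ?_) hiff
    obtain ⟨k, hk, hkl, hkr, hki⟩ := hu.inv
    have huC : img u C₀ = C₀ := stab_of_normal hC₀ hu le_rfl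
    have huS : ∀ x ∈ C₀, u x ∈ C₀ := fun x hx => huC.le (mem_img_of_mem hx)
    obtain ⟨-, hrec⟩ := fullyNormalized_spec hS hF hC₀fn
    let M : Subgroup Ω :=
      { carrier := {s | s ∈ S ∧ ∃ t ∈ S, ∀ x ∈ C₀, s * u x * s⁻¹ = u (t * x * t⁻¹)}
        one_mem' := ⟨S.one_mem, 1, S.one_mem, fun x _ => by simp⟩
        mul_mem' := fun {a b} ⟨ha, s, hs, hse⟩ ⟨hb, t, ht, hte⟩ => ⟨S.mul_mem ha hb, s * t, S.mul_mem hs ht,
          fun x hx => by
            rw [show a * b * u x * (a * b)⁻¹ = a * (b * u x * b⁻¹) * a⁻¹ by group, hte x hx,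
              hse _ (conj_mem_normal hC₀ ht hx)]
            congr 1; group⟩
        inv_mem' := fun {a} ⟨ha, s, hs, hse⟩ => ⟨S.inv_mem ha, s⁻¹, S.inv_mem hs, fun x hx => by
          have h1 := hse (s⁻¹ * x * s⁻¹⁻¹) (conj_mem_normal hC₀ (S.inv_mem hs) hx)
          rw [show s * (s⁻¹ * x * s⁻¹⁻¹) * s⁻¹ = x by group] at h1
          rw [← h1]; group⟩ }
    rw [huC] at hk hki
    obtain ⟨χ, hχ, hχe⟩ := extend hrec hk hki (N := M) fun s hs => by
      obtain ⟨hsS, t, ht, hte⟩ := hs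
      refine ⟨hsS, hnormC s hsS, t, ht, fun y hy => ?_⟩
      obtain ⟨x, hx, rfl⟩ := hu.mem_img.1 (huC.ge hy)
      rw [hte x hx, hkl _ (conj_mem_normal hC₀ ht hx), hkl x hx]
    refine ⟨_, χ, hχ, huC.le.trans le_sup_left, ⟨1, S.one_mem, fun x hx => ?_⟩, fun s hs _ ⟨c, _, ⟨t, ht, hte⟩, hce⟩ => ?_⟩
    · rw [Function.comp_apply, hχe _ (huS x hx), hkl x hx]; group
    · have hsM : s ∈ M := ⟨hs, t, ht, fun x hx => (hce x hx).trans (congrArg u (hte x hx))⟩
      exact ⟨Subgroup.mem_sup_right hsM, hχ.mem (Subgroup.mem_sup_right hsM)⟩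
  have hBle : ∀ M u, IsMap B M u → IsMap F M u := fun M u hu => ((hiff M u).1 hu).1
  have hBfree : NoQdPair B p := fun A hA α hα β hβ =>
    hfree A hA α ((mem_autGroup hA).2 (hBle _ _ ((mem_autGroup hA).1 hα))) β
      ((mem_autGroup hA).2 (hBle _ _ ((mem_autGroup hA).1 hβ)))
  have hBC₀ : B.IsNormal C₀ := isNormal_iff.2 ⟨hC₀S, fun M u hu => by
    obtain ⟨-, hM, -, v, hv, hve, hvC⟩ := (hiff M u).1 hu
    exact ⟨v, (hiff _ v).2 ⟨hv, sup_le hM hC₀S, fun x hx => hv.mem hx, v,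
      hv.mono (sup_le le_rfl le_sup_right), fun _ _ => rfl, hvC⟩, hve, hB.img_eq hvC⟩⟩
  have hBQ : B.IsNormal Q := isNormal_iff.2 ⟨hQS, fun M u hu => by
    obtain ⟨v, hv, hve, -⟩ := (isNormal_iff.1 hBC₀).2 M u hu
    exact ⟨v, hv.mono (sup_le_sup_left hQC M), hve, stab_of_normal hQn (hBle _ _ hv) (hQC.trans le_sup_right)⟩⟩
  have hBQp : IsPGroup p (B.autGroup Q) := hQp.to_le fun α hα =>
    (mem_autGroup hQS).2 (hBle _ _ ((mem_autGroup hQS).1 hα))
  have hBC₀p : IsPGroup p (B.autGroup C₀) := by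
    have hle : B.autGroup C₀ ≤ autInducedBy S C₀ := fun α hα => by
      obtain ⟨-, -, -, v, -, hve, s, hs, hse⟩ := (hiff _ _).1 ((mem_autGroup hC₀S).1 hα)
      exact mem_autInducedBy.2 ⟨s, hs, fun x hx => (hve x hx).symm.trans (hse x hx)⟩
    refine IsPGroup.to_le ?_ hle
    rw [← range_inducedHom]
    exact (hS.to_le (normalizerIn_le C₀)).of_surjective _ (inducedHom S C₀).rangeRestrict_surjective
  have hWB : B.IsNormal W₀ := normal_of_acting W hG hS hBsat hBfree hbelow le_rfl hBC₀ hBC₀p hQC hBQ hBQp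
  -- split the map
  obtain ⟨-, hrec⟩ := fullyNormalized_spec hS hF hC₀fn
  have hgC₀ : ∀ x ∈ C₀, g x ∈ C₀ := fun x hx => hgC.le (mem_img_of_mem hx)
  let D : Subgroup Ω :=
    { carrier := {n | n ∈ S ∧ ∃ s ∈ S, ∀ x ∈ C₀, g (n * x * n⁻¹) = s * g x * s⁻¹}
      one_mem' := ⟨S.one_mem, 1, S.one_mem, fun x _ => by simp⟩
      mul_mem' := fun {a b} ⟨ha, s, hs, hse⟩ ⟨hb, t, ht, hte⟩ => ⟨S.mul_mem ha hb, s * t, S.mul_mem hs ht,
        fun x hx => by
          rw [show a * b * x * (a * b)⁻¹ = a * (b * x * b⁻¹) * a⁻¹ by group, hse _ (conj_mem_normal hC₀ hb hx),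
            hte x hx]
          group⟩
      inv_mem' := fun {a} ⟨ha, s, hs, hse⟩ => ⟨S.inv_mem ha, s⁻¹, S.inv_mem hs, fun x hx => by
        have h1 := hse (a⁻¹ * x * a⁻¹⁻¹) (conj_mem_normal hC₀ (S.inv_mem ha) hx)
        rw [show a * (a⁻¹ * x * a⁻¹⁻¹) * a⁻¹ = x by group] at h1
        rw [h1]; group⟩ }
  have hCD : C ≤ D := fun c hc => ⟨hc.1, 1, S.one_mem, fun x hx => by
    rw [← hc.2 x hx, mul_inv_cancel_right]; simp⟩
  have hPD : P ≤ D := fun n hn => ⟨hf.le hn, g n, hg.mem (Subgroup.mem_sup_left hn), fun x hx =>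
    hg.map_conj (Subgroup.mem_sup_left hn) (Subgroup.mem_sup_right hx)⟩
  obtain ⟨h, hh, hhe⟩ := extend hrec (hg.mono le_sup_right) hgC (N := D) fun n hn => by
    obtain ⟨hnS, s, hs, hse⟩ := hn
    exact ⟨hnS, hnormC n hnS, s, hs, hse⟩
  have hhC₀ : img h C₀ = C₀ := (img_congr hhe).trans hgC
  have hhC₁ : img h C₁ = C₁ := by
    refine Subgroup.eq_of_le_of_card_ge ?_ (hh.mono (sup_le le_sup_left (hCD.trans le_sup_right))).card_img.ge
    rw [hC₁def, hh.img_sup le_sup_left (hCD.trans le_sup_right), hhC₀]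
    refine sup_le le_sup_left (le_sup_of_le_right ?_)
    have := hh.img_centralizerIn_le (P := C₀) le_sup_left (hCD.trans le_sup_right)
    rwa [hhC₀] at this
  have hhN₁ : IsMap N₁ (C₀ ⊔ D) h := isMap_normalizerSystem hN₁ hh (sup_le le_sup_left (hCD.trans le_sup_right))
    hhC₁ (hh.le.trans hNC₁.ge)
  obtain ⟨h₁, hh₁, hh₁e, hh₁W⟩ := (isNormal_iff.1 hW₁).2 _ h hhN₁
  have hh₁F := (isMap_of_normalizerSystem hN₁ hh₁).1
  have hPC : P ⊔ C₀ ≤ C₀ ⊔ D := sup_le (hPD.trans le_sup_right) le_sup_left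
  obtain ⟨k, hk, hkl, -, hki⟩ := (hh.mono hPC).inv
  have hkD : ∀ y ∈ img h (P ⊔ C₀), k y ∈ P ⊔ C₀ := fun y hy => hki.le (mem_img_of_mem hy)
  have hγ : IsMap F (img h (P ⊔ C₀)) (g ∘ k) := hk.comp hg hkD
  have hCimg : C₀ ≤ img h (P ⊔ C₀) := hhC₀.symm.le.trans (img_mono le_sup_right)
  have hγB : IsMap B (img h (P ⊔ C₀)) (g ∘ k) := (hiff _ _).2 ⟨hγ, hγ.le, fun x hx => hγ.mem hx,
    g ∘ k, hγ.mono (sup_le le_rfl hCimg), fun _ _ => rfl, 1, S.one_mem, fun y hy => by
      obtain ⟨x, hx, rfl⟩ := (hh.mono le_sup_left).mem_img.1 (hhC₀.ge hy)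
      rw [Function.comp_apply, hkl x (Subgroup.mem_sup_right hx), hhe x hx]
      group⟩
  obtain ⟨γ₁, hγ₁, hγ₁e, hγ₁W⟩ := (isNormal_iff.1 hWB).2 _ _ hγB
  have hdom : P ⊔ W₀ ≤ C₀ ⊔ D ⊔ W₀ := sup_le_sup_right (le_sup_left.trans hPC) W₀
  have hmem : ∀ x ∈ P ⊔ W₀, h₁ x ∈ img h (P ⊔ C₀) ⊔ W₀ := by
    intro x hx
    have hle : img h₁ (P ⊔ W₀) ≤ img h (P ⊔ C₀) ⊔ W₀ := by
      rw [(hh₁F.mono hdom).img_sup le_sup_left le_sup_right, hh₁W]
      refine sup_le_sup_right (img_le_iff.2 fun y hy => ?_) W₀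
      rw [hh₁e y (hPC (Subgroup.mem_sup_left hy))]
      exact mem_img_of_mem (Subgroup.mem_sup_left hy)
    exact hle (mem_img_of_mem hx)
  refine ⟨γ₁ ∘ h₁, (hh₁F.mono hdom).comp (hBle _ _ hγ₁) hmem, fun x hx => ?_, ?_⟩
  · have hxh : h x ∈ img h (P ⊔ C₀) := mem_img_of_mem (Subgroup.mem_sup_left hx)
    rw [Function.comp_apply, hh₁e x (hPC (Subgroup.mem_sup_left hx)), hγ₁e _ hxh, Function.comp_apply,
      hkl x (Subgroup.mem_sup_left hx), hge x hx]
  · rw [(hh₁F.mono le_sup_right).img_comp, hh₁W, hγ₁W]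

/-- A Glauberman functor over a normal subgroup with a `p`-group automizer gives a normal subgroup. -/
theorem fnOver_normal [Fact p.Prime] (hG : GlaubermanFn W (p := p)) :
    ∀ (S : Subgroup Ω) [Finite S], IsPGroup p S → ∀ F : FusionSystem S, F.IsSaturated p → NoQdPair F p →
      ∀ Q, F.IsNormal Q → IsPGroup p (F.autGroup Q) → F.IsNormal (fnOver W S Q) := by
  suffices key : ∀ (n m : ℕ) (S : Subgroup Ω) [Finite S] (F : FusionSystem S), Nat.card S = n →
      Nat.card S - Nat.card ↥F.core = m → IsPGroup p S → F.IsSaturated p → NoQdPair F p →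
      ∀ Q, F.IsNormal Q → IsPGroup p (F.autGroup Q) → F.IsNormal (fnOver W S Q) from
    fun S _ hS F => key _ _ S F rfl rfl hS
  intro n
  induction n using Nat.strong_induction_on with
  | _ n ihn =>
  intro m
  induction m using Nat.strong_induction_on with
  | _ m ihm =>
  intro S _ F hn hm hS hF hfree Q hQn hQp
  refine normal_of_below W hG hS hF hfree (fun T' F' hle hsat hfree' hprec Q' hQ' hQp' => ?_) hQn hQp
  haveI := finite_of_le hle
  rcases hprec with hlt | ⟨rfl, hc⟩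
  · exact ihn _ (hn ▸ card_lt_of_lt le_rfl hlt) _ T' F' rfl rfl (hS.to_le hle) hsat hfree' Q' hQ' hQp'
  · haveI : Finite ↥F'.core := finite_of_le (isNormal_core (F := F')).1
    have : Nat.card ↥F'.core ≤ Nat.card ↥T' := Subgroup.card_le_of_le (isNormal_core (F := F')).1
    exact ihm (Nat.card ↥T' - Nat.card ↥F'.core) (by omega) T' F' hn rfl hS hsat hfree' Q' hQ' hQp'

/-- The value at `S` of a Glauberman functor is normal in a saturated system free of `qd p`. -/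
theorem glauberman_normal [Finite S] [Fact p.Prime] (hG : GlaubermanFn W (p := p)) (hS : IsPGroup p S)
    (hF : F.IsSaturated p) (hfree : F.IsSectionFree p ↥(Cfsg.qd p)) : F.IsNormal (fnAt W S) := by
  rw [← fnOver_bot W hG.iso hS]
  refine fnOver_normal W hG S hS F hF (noQdPair_of_sectionFree hS hF hfree) ⊥ isNormal_bot ?_
  haveI : Subsingleton ↥(F.autGroup (⊥ : Subgroup Ω)) :=
    ⟨fun a b => Subtype.ext (MulEquiv.ext fun x => Subsingleton.elim _ _)⟩
  exact IsPGroup.of_card (n := 0) (by simp)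

end CfsgLib.Fus
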