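import Cfsg.Agent.Fus.Group
import Cfsg.Agent.Fus.FusionCentric
import Cfsg.Agent.Fus.Normal
import Cfsg.Agent.Fus.FusionChain

/-!
A fusion system of a group that is `p`-stable for odd `p` has the lower K-infinity subgroup as a normal centric subgroup.
-/

set_option autoImplicit false
set_option linter.style.haveILetI false

open Cfsg Cfsg.FusionSystem
open scoped commutatorElement

namespace CfsgLib.Fus

universe u

variable {G : Type u} [Group G] [Finite G] {p : ℕ} [hp : Fact p.Prime] (S : Sylow p G)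

/-- `p`-stability of the fusion system gives normalizer `p`-stability of the group. -/
theorem normalizerPStable_of_fusion
    (hst : ∀ Q : Subgroup G, (groupFusionSystem (S : Subgroup G)).IsFullyNormalized Q → ∀ χ : MulAut ↥Q,
      χ ∈ (groupFusionSystem (S : Subgroup G)).autGroup Q → (∀ a : ↥Q, (χ a⁻¹) * a * (χ a⁻¹) * (χ (χ a)) = 1) →
      χ ∈ ((pCore p ↥((groupFusionSystem (S : Subgroup G)).autGroup Q)).map
        ((groupFusionSystem (S : Subgroup G)).autGroup Q).subtype : Subgroup (MulAut ↥Q))) :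
    IsNormalizerPStable p G := by
  intro P hP g hg hq
  obtain ⟨a₁, -, ha₁⟩ := (CfsgLib.Glau.syl_top S).exists_conj_le le_top hP
  obtain ⟨a₂, hQS, hsy⟩ := exists_conj_normalizer_sylow S ha₁
  set a := a₂ * a₁ with ha
  set Q := (P.map (MulAut.conj a₁).toMonoidHom).map (MulAut.conj a₂).toMonoidHom with hQ
  have hQa : Q = CfsgLib.Glau.cj a P := (CfsgLib.Glau.cj_mul a₂ a₁ P).symm
  have hfn := (group_fullyNormalized_iff S hQS).2 hsy
  set A := (groupFusionSystem (S : Subgroup G)).autGroup Q with hA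
  set N := Subgroup.normalizer (P : Set G) with hN
  have hmemN : ∀ n ∈ N, a * n * a⁻¹ ∈ Subgroup.normalizer (Q : Set G) := fun n hn => by
    rw [hQa, ← CfsgLib.Glau.cj_normalizer]; exact CfsgLib.Glau.conj_mem_cj hn
  let θ : ↥N →* MulAut ↥Q :=
    { toFun := fun n => Q.normalizerMonoidHom ⟨a * n * a⁻¹, hmemN n n.2⟩
      map_one' := by
        rw [show (⟨a * ((1 : ↥N) : G) * a⁻¹, hmemN _ (1 : ↥N).2⟩ : ↥(Subgroup.normalizer (Q : Set G))) = 1 from
          Subtype.ext (by simp), map_one]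
      map_mul' := fun n m => by
        rw [← map_mul]; congr 1; exact Subtype.ext (by simp [mul_assoc]) }
  have hθ : ∀ (n : ↥N) (w : ↥Q), ((θ n w : ↥Q) : G) = a * n * a⁻¹ * w * (a * n * a⁻¹)⁻¹ := fun n w => rfl
  have hθA : ∀ n, θ n ∈ A := fun n => by
    rw [hA, autGroup_group hQS]
    exact mem_autInducedBy.2 ⟨a * n * a⁻¹, trivial, fun w hw => by rw [autFun_of_mem _ hw]; exact hθ n ⟨w, hw⟩⟩
  let θA : ↥N →* ↥A := θ.codRestrict A hθA
  haveI := CfsgLib.Solv.pCore_normal ↥A p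
  haveI : ((pCore p ↥A).comap θA).Normal := (inferInstance : (pCore p ↥A).Normal).comap θA
  have hgK : (⟨g, hg⟩ : ↥N) ∈ (pCore p ↥A).comap θA := by
    obtain ⟨κ, hκ, he⟩ := hst Q hfn (θ ⟨g, hg⟩) (hθA _) fun w => Subtype.ext (by
      obtain ⟨b, hb, hbw⟩ : (w : G) ∈ CfsgLib.Glau.cj a P := hQa ▸ w.2
      have hbw' : a * b * a⁻¹ = (w : G) := hbw
      have hd : g * ⁅g, b⁆ * g⁻¹ = ⁅g, b⁆ := by
        have h1 : ⁅g, b⁆ ∈ ⁅P, Subgroup.zpowers g⁆ := by
          rw [← commutatorElement_inv]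
          exact inv_mem (Subgroup.commutator_mem_commutator hb (Subgroup.mem_zpowers g))
        have h2 := (Subgroup.commutator_eq_bot_iff_le_centralizer.1 hq h1) g (Subgroup.mem_zpowers g)
        rw [h2, mul_inv_cancel_right]
      show (((θ ⟨g, hg⟩ w⁻¹) * w * (θ ⟨g, hg⟩ w⁻¹) * (θ ⟨g, hg⟩ (θ ⟨g, hg⟩ w)) : ↥Q) : G) = 1
      simp only [Subgroup.coe_mul, hθ, Subgroup.coe_inv]
      rw [← hbw']
      rw [commutatorElement_def] at hd
      calc a * g * a⁻¹ * (a * b * a⁻¹)⁻¹ * (a * g * a⁻¹)⁻¹ * (a * b * a⁻¹) *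
            (a * g * a⁻¹ * (a * b * a⁻¹)⁻¹ * (a * g * a⁻¹)⁻¹) *
            (a * g * a⁻¹ * (a * g * a⁻¹ * (a * b * a⁻¹) * (a * g * a⁻¹)⁻¹) * (a * g * a⁻¹)⁻¹)
          = a * ((g * b * g⁻¹)⁻¹ * b * (g * b * g⁻¹)⁻¹ * (g * (g * b * g⁻¹ * b⁻¹) * g⁻¹ * (g * b * g⁻¹))) * a⁻¹ := by group
        _ = 1 := by rw [hd]; group)
    show θA ⟨g, hg⟩ ∈ pCore p ↥A
    rwa [show θA ⟨g, hg⟩ = κ from Subtype.ext he.symm]
  refine CfsgLib.Glau.mem_pCore_automizer _ (fun k hk => ?_) hgK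
  obtain ⟨n, hn⟩ := CfsgLib.Solv.pCore_isPGroup ↥A p ⟨θA k, hk⟩
  refine ⟨n, fun b hb => ?_⟩
  have h1 : θ (k ^ p ^ n) = 1 := by
    rw [map_pow]; exact congrArg (fun v : ↥(pCore p ↥A) => ((v : ↥A) : MulAut ↥Q)) hn
  have h2 := congrArg Subtype.val (MulEquiv.congr_fun h1 ⟨a * b * a⁻¹, hQa ▸ CfsgLib.Glau.conj_mem_cj hb⟩)
  rw [hθ, MulAut.one_apply, SubmonoidClass.coe_pow] at h2
  set c := (k : G) ^ p ^ n with hc
  have h3 : a * (c * b * c⁻¹) * a⁻¹ = a * b * a⁻¹ := by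
    refine Eq.trans ?_ h2
    show _ = a * c * a⁻¹ * (a * b * a⁻¹) * (a * c * a⁻¹)⁻¹
    group
  have h4 : c * b * c⁻¹ = b := mul_left_cancel (mul_right_cancel h3)
  exact (mul_inv_eq_iff_eq_mul.1 h4).symm

/-- The lower K-infinity subgroup is normal and centric in a `p`-stable fusion system of a group. -/
theorem kInf_normal_centric (hp2 : p ≠ 2) (hst : IsNormalizerPStable p G) :
    (groupFusionSystem (S : Subgroup G)).IsNormal (inducedFunctor kInfLower (S : Subgroup G)) ∧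
      (groupFusionSystem (S : Subgroup G)).IsCentric (inducedFunctor kInfLower (S : Subgroup G)) := by
  set W := inducedFunctor kInfLower (S : Subgroup G) with hW
  have hWS : W ≤ S := Subgroup.map_subtype_le _
  have hfus := CfsgLib.Glau.fusion_of_stable hp2 G hst S (CfsgLib.Glau.syl_top S)
  refine ⟨isNormal_iff.2 ⟨hWS, fun P f hf => ?_⟩, hWS, fun Q hQ => ?_⟩
  · obtain ⟨hP, g, hg⟩ := isMap_group_iff.1 hf
    obtain ⟨x, hx, hxe⟩ := hfus P hP g trivial (by rintro _ ⟨y, hy, rfl⟩; exact (hg y hy).2)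
    have hxW : CfsgLib.Glau.cj x W = W := CfsgLib.Glau.mem_normalizer_iff_cj.1 hx
    have him : CfsgLib.Glau.cj x (P ⊔ W) ≤ S := by
      rw [CfsgLib.Glau.cj, Subgroup.map_sup]
      refine sup_le ?_ (hxW.le.trans hWS)
      rintro _ ⟨y, hy, rfl⟩
      show x * y * x⁻¹ ∈ (S : Subgroup G)
      rw [hxe y hy]; exact (hg y hy).2
    refine ⟨fun y => x * y * x⁻¹, isMap_group_iff.2 ⟨sup_le hP hWS, x, fun y hy =>
      ⟨rfl, him (CfsgLib.Glau.conj_mem_cj hy)⟩⟩, fun y hy => (hxe y hy).trans (hg y hy).1.symm, ?_⟩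
    show img (conjF x) W = W
    rw [img_conjF]
    exact hxW
  · obtain ⟨-, hQS, g, rfl⟩ := isConj_group_iff.1 hQ
    obtain ⟨x, hx, hxe⟩ := hfus W hWS g trivial hQS
    have he : W.map (MulAut.conj g).toMonoidHom = W :=
      (CfsgLib.Glau.cj_congr hxe).symm.trans (CfsgLib.Glau.mem_normalizer_iff_cj.1 hx)
    rw [he]
    exact CfsgLib.Glau.centralizer_inducedFunctor S.isPGroup'

end CfsgLib.Fus
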