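import Cfsg.Agent.Fus.FactorMorphism
import Cfsg.Agent.Fus.WeakClosureCenter
import Cfsg.Agent.Fus.Tate

/-!
Grün's lemma for fusion systems: in a perfect system the second centre equals the centre.
-/

set_option autoImplicit false
set_option linter.style.haveILetI false

open Cfsg Cfsg.FusionSystem

namespace CfsgLib.Fus

theorem conj_modulo {Ω : Type*} [Group Ω] {S : Subgroup Ω} {g y d e : Ω} (hg : g ∈ S) (hy : y ∈ S)
    (hd : ∀ s ∈ S, s * d = d * s) (he : ∀ s ∈ S, s * e = e * s) (heS : e ∈ S) :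
    (g * e)⁻¹ * (y * d * (g * e) * (y * d)⁻¹) = g⁻¹ * (y * g * y⁻¹) := by
  have h1 : y * d * (g * e) * (y * d)⁻¹ = y * g * y⁻¹ * e := by
    rw [mul_inv_rev, mul_assoc y d, ← hd _ (S.mul_mem hg heS), mul_assoc y, mul_assoc (g * e), mul_inv_cancel_left,
      mul_assoc g, ← he _ (S.inv_mem hy)]
    simp [mul_assoc]
  rw [h1, he _ (S.mul_mem (S.mul_mem hy hg) (S.inv_mem hy)), mul_inv_rev, mul_assoc e⁻¹,
    ← mul_assoc g⁻¹ e, he _ (S.inv_mem hg), mul_assoc e, inv_mul_cancel_left]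

open Factor in
theorem grun_center {Ω : Type*} [Group Ω] {S : Subgroup Ω} [Finite S] {p : ℕ} [Fact p.Prime]
    (hS : IsPGroup p S) {F : FusionSystem S} (hF : F.IsSaturated p) (hperf : F.hyperfocalSubgroup p = S)
    {Ω' : Type*} [Group Ω'] {S' : Subgroup Ω'} {θ : ↥S →* Ω'} {E : FusionSystem S'}
    (hE : F.IsFactorSystem F.center θ E) : E.center = ⊥ := by
  haveI := finite_range hE
  set Z := F.center with hZdef
  have hZS : Z ≤ S := hE.1
  have hfixZ : ∀ (P : Subgroup Ω) f, IsMap F P f → ∀ z ∈ P, z ∈ Z → f z = z := by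
    intro P f hf z hzP hzZ
    obtain ⟨h, -, he, hq⟩ := (isCentral_iff.1 isCentral_center).2 P f hf
    rw [← he z hzP, hq z hzZ]
  have hZ : Z ≤ Zc S := fun z hz => mem_Zc (hZS hz) fun s hs => by
    have := hfixZ S (conjF s) (IsMap.conj F le_rfl hs) z (hZS hz) hz
    simp only [conjF_apply] at this
    exact mul_inv_eq_iff_eq_mul.1 this
  have hT : F.StronglyClosed Z := stronglyClosed_iff.2 ⟨hZS, fun P f hf x hx hxT => by
    rw [hfixZ P f hf x hx hxT]; exact hxT⟩
  let W := preimageAlong θ E.center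
  have hWS : W ≤ S := fun x hx => (mem_pre.1 hx).1
  -- maps move the preimage of the centre only modulo the centre
  have key : ∀ g ∈ W, ∀ (P : Subgroup Ω) f, IsMap F P f → ∃ f₂ : Ω → Ω, ∃ P₂ : Subgroup Ω,
      IsMap F P₂ f₂ ∧ P ≤ P₂ ∧ W ≤ P₂ ∧ (∀ x ∈ P, (f x)⁻¹ * f₂ x ∈ Z) ∧ g⁻¹ * f₂ g ∈ Z := by
    intro g hg P f hf
    obtain ⟨f₁, hf₁, he₁, hq₁⟩ := (isCentral_iff.1 isCentral_center).2 P f hf
    have hP1 : P ⊔ Z ≤ S := hf₁.le
    let P' := imageAlong θ (P ⊔ Z)
    have hP' : P' ≤ S' := fun y hy => by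
      obtain ⟨x, -, hxS, rfl⟩ := mem_imageAlong.1 hy
      exact th_mem hE hxS
    have hpre : preimageAlong θ P' ≤ P ⊔ Z := fun x hx => by
      obtain ⟨hxS, hxP⟩ := mem_pre.1 hx
      obtain ⟨a, ha, haS, hae⟩ := mem_imageAlong.1 hxP
      rw [← mul_inv_cancel_left a x]
      exact mul_mem ha (le_sup_right (a := P) ((th_eq_iff hE haS hxS).1 hae))
    obtain ⟨f', hf', he'⟩ := push hT hE hP' (hf₁.mono hpre)
    obtain ⟨g', hg', hge', hgq'⟩ := (isCentral_iff.1 (isCentral_center (F := E))).2 P' f' hf'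
    obtain ⟨f₂, hf₂, he₂⟩ := lift hE hg'
    have hPin : ∀ x ∈ P, x ∈ preimageAlong θ P' := fun x hx =>
      mem_pre.2 ⟨hf.le hx, mem_imageAlong.2 ⟨x, le_sup_left (b := Z) hx, hf.le hx, rfl⟩⟩
    have hle : preimageAlong θ P' ≤ preimageAlong θ (P' ⊔ E.center) := fun x hx =>
      mem_pre.2 ⟨(mem_pre.1 hx).1, le_sup_left (b := E.center) (mem_pre.1 hx).2⟩
    have hWle : W ≤ preimageAlong θ (P' ⊔ E.center) := fun x hx =>
      mem_pre.2 ⟨(mem_pre.1 hx).1, le_sup_right (a := P') (mem_pre.1 hx).2⟩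
    refine ⟨f₂, _, hf₂, fun x hx => hle (hPin x hx), hWle, fun x hx => ?_, ?_⟩
    · have hx' := hle (hPin x hx)
      refine (th_eq_iff hE (hf.mem hx) (hf₂.mem hx')).1 ?_
      rw [← he₂ x hx', hge' _ (mem_pre.1 (hPin x hx)).2, he' x (hPin x hx), he₁ x hx]
    · refine (th_eq_iff hE (hWS hg) (hf₂.mem (hWle hg))).1 ?_
      rw [← he₂ g (hWle hg), hgq' _ (mem_pre.1 hg).2]
  have hmod : ∀ g ∈ W, ∀ (P : Subgroup Ω) f, IsMap F P f → g ∈ P → g⁻¹ * f g ∈ Z := by
    intro g hg P f hf hgP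
    obtain ⟨f₂, P₂, -, -, -, hd, hc⟩ := key g hg P f hf
    have : g⁻¹ * f g = g⁻¹ * f₂ g * ((f g)⁻¹ * f₂ g)⁻¹ := by simp [mul_assoc]
    rw [this]
    exact Z.mul_mem hc (Z.inv_mem (hd g hgP))
  have hcomZ : ∀ g ∈ W, ∀ x ∈ S, g⁻¹ * (x * g * x⁻¹) ∈ Z := fun g hg x hx =>
    hmod g hg S (conjF x) (IsMap.conj F le_rfl hx) (hWS hg)
  -- the preimage of the centre is central in the Sylow group
  have hcent : ∀ g ∈ W, g ∈ Zc S := by
    intro g hg
    refine mem_Zc (hWS hg) ?_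
    have hle : F.hyperfocalSubgroup p ≤ Subgroup.centralizer ({g} : Set Ω) :=
      hyperfocal_le_iff.2 fun P hP α hα _ x hx => by
        have hf := (mem_autGroup hP).1 hα
        obtain ⟨f₂, P₂, hf₂, hPP, hWP, hd, hc⟩ := key g hg P _ hf
        have hxS := hP hx
        have hc0 := hcomZ g hg x hxS
        let c := g⁻¹ * (x * g * x⁻¹)
        let d := (autFun α x)⁻¹ * f₂ x
        let e := g⁻¹ * f₂ g
        have hcP : c ∈ P₂ := P₂.mul_mem (P₂.inv_mem (hWP hg))
          (P₂.mul_mem (P₂.mul_mem (hPP hx) (hWP hg)) (P₂.inv_mem (hPP hx)))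
        have h1 : f₂ c = c := hfixZ P₂ f₂ hf₂ c hcP hc0
        have h2 : f₂ c = (f₂ g)⁻¹ * (f₂ x * f₂ g * (f₂ x)⁻¹) := by
          show f₂ (g⁻¹ * (x * g * x⁻¹)) = _
          rw [hf₂.map_mul (P₂.inv_mem (hWP hg)) (P₂.mul_mem (P₂.mul_mem (hPP hx) (hWP hg)) (P₂.inv_mem (hPP hx))),
            hf₂.map_inv (hWP hg), hf₂.map_conj (hPP hx) (hWP hg)]
        have hy : autFun α x ∈ S := hP (autFun_mem α hx)
        have hd' : f₂ x = autFun α x * d := (mul_inv_cancel_left _ _).symm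
        have he' : f₂ g = g * e := (mul_inv_cancel_left _ _).symm
        have hdc : ∀ s ∈ S, s * d = d * s := fun s hs => Zc_comm (hZ (hd x hx)) hs
        have hec : ∀ s ∈ S, s * e = e * s := fun s hs => Zc_comm (hZ hc) hs
        have h3 : f₂ c = g⁻¹ * (autFun α x * g * (autFun α x)⁻¹) := by
          rw [h2, hd', he']
          exact conj_modulo (hWS hg) hy hdc hec (hZS hc)
        have h4 : autFun α x * g * (autFun α x)⁻¹ = x * g * x⁻¹ := mul_left_cancel (h3.symm.trans h1)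
        refine Subgroup.mem_centralizer_singleton_iff.2 ?_
        calc x⁻¹ * autFun α x * g = x⁻¹ * (autFun α x * g * (autFun α x)⁻¹) * autFun α x := by simp [mul_assoc]
          _ = g * (x⁻¹ * autFun α x) := by rw [h4]; simp [mul_assoc]
    rw [hperf] at hle
    exact fun s hs => Subgroup.mem_centralizer_singleton_iff.1 (hle hs)
  -- its elements are fixed by every map
  have hfix : ∀ g ∈ W, ∀ (P : Subgroup Ω) f, IsMap F P f → g ∈ P → f g = g := by
    intro g hg
    have hgz := hcent g hg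
    suffices h : F ≤ fixSys F g hgz by
      intro P f hf hgP
      obtain ⟨φ, hφ, hφe⟩ := hf
      have := (isMap_fixSys.1 (IsMap.of_hom (h P hφ))).2.1 hgP
      rw [← hφe ⟨g, hgP⟩, ← ev_of_mem φ hgP]
      exact this
    refine alperin hS hF _ fun P hP α hα => ?_
    have hPS : P ≤ S := hP.elim (fun h => h.le) fun h => h.1.1
    have hgP : g ∈ P := hP.elim (fun h => h ▸ Zc_le hgz) fun h =>
      centric_center h.1 (Zc_le hgz) fun y hy => hgz.2 y (hPS hy)
    haveI := finite_of_le hPS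
    haveI := finite_mulAut (S := S) hPS
    have hfn : F.IsFullyNormalized P := hP.elim
      (fun h => h.symm ▸ ⟨le_rfl, fun R _ => haveI := finite_of_le (normalizerIn_le (S := S) S); Subgroup.card_le_of_le ((normalizerIn_le R).trans (le_normalizerIn le_rfl))⟩)
      fun h => h.2.1
    have hidx := ((fa_iff hS).1 (fullyNormalized_spec hS hF hfn).1).2
    let d : ↥(F.autGroup P) → ↥Z := fun β => ⟨g⁻¹ * autFun (β : MulAut P) g,
      hmod g hg P _ ((mem_autGroup hPS).1 β.2) hgP⟩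
    let D : ↥(F.autGroup P) →* ↥Z := MonoidHom.mk' d fun β γ => by
      refine Subtype.ext ?_
      show g⁻¹ * autFun ((β * γ : ↥(F.autGroup P)) : MulAut P) g = _ * _
      have hd : autFun (γ : MulAut P) g = g * (d γ : Ω) := (mul_inv_cancel_left _ _).symm
      have hdP : (d γ : Ω) ∈ P := P.mul_mem (P.inv_mem hgP) (autFun_mem _ hgP)
      rw [Subgroup.coe_mul, autFun_mul _ _ hgP, hd, autFun_map_mul _ hgP hdP,
        hfixZ P _ ((mem_autGroup hPS).1 β.2) _ hdP (d γ).2, mul_assoc]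
    have hker : (autInducedBy S P).subgroupOf (F.autGroup P) ≤ D.ker := by
      intro β hβ
      obtain ⟨s, hs, hse⟩ := mem_autInducedBy.1 (Subgroup.mem_subgroupOf.1 hβ)
      refine MonoidHom.mem_ker.2 (Subtype.ext ?_)
      show g⁻¹ * autFun _ g = 1
      rw [hse g hgP, Zc_comm hgz hs, mul_inv_cancel_right, inv_mul_cancel]
    have htriv : D.range = ⊥ := by
      haveI := finite_of_le hZS
      obtain ⟨k, hk⟩ := IsPGroup.iff_card.1 ((isPGroup_of_le hS hZS).to_subgroup D.range)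
      refine Subgroup.card_eq_one.1 ?_
      rcases Nat.eq_zero_or_pos k with rfl | hkpos
      · rw [hk, pow_zero]
      · refine absurd (dvd_trans (dvd_pow_self p hkpos.ne') ?_) hidx
        rw [← hk, ← Subgroup.index_ker]
        exact Subgroup.index_dvd_of_le hker
    have hα1 : autFun α g = g := by
      have h : D ⟨α, hα⟩ ∈ D.range := ⟨_, rfl⟩
      rw [htriv, Subgroup.mem_bot] at h
      have h1 : g⁻¹ * autFun α g = 1 := congrArg Subtype.val h
      exact (inv_mul_eq_one.1 h1).symm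
    exact (mem_autGroup hPS).2 (isMap_fixSys_of_mem ((mem_autGroup hPS).1 hα) hgP hα1)
  have hWZ : W ≤ Z := le_center_of_fixed hS hF hWS fun x hx P f hf hxP => hfix x hx P f hf hxP
  refine eq_bot_iff.2 fun y hy => ?_
  obtain ⟨x, hxS, rfl⟩ := th_surj hE ((isCentral_center (F := E)).1 hy)
  exact (th_eq_one hE hxS).2 (hWZ (mem_pre.2 ⟨hxS, hy⟩))

end CfsgLib.Fus
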