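import Cfsg.Agent.Fus.Tate
import Cfsg.Agent.Fus.Quotient

/-!
The action of the hyperfocal subgroup on a strongly closed subgroup.
-/

set_option autoImplicit false
set_option linter.style.haveILetI false

open Cfsg Cfsg.FusionSystem

namespace CfsgLib.Fus

variable {Ω : Type*} [Group Ω] {S : Subgroup Ω} {F : FusionSystem S} {p : ℕ}

theorem hyperfocal_action [Finite S] [hp : Fact p.Prime] (hS : IsPGroup p S) (hF : F.IsSaturated p) {T : Subgroup Ω}
    (hT : F.StronglyClosed T) :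
    ∀ x ∈ F.hyperfocalSubgroup p, ∃ α ∈ ((Cfsg.pResidual p ↥(F.autGroup T)).map (F.autGroup T).subtype ⊔ Cfsg.Inn ↥T :
      Subgroup (MulAut ↥T)), ∀ t : ↥T, ((α t : ↥T) : Ω) = x * (t : Ω) * x⁻¹ := by
  classical
  haveI := finite_of_le hT.1
  haveI := finite_mulAut hT.1
  haveI hres := CfsgLib.Inv.pResidual_normal p ↥(F.autGroup T)
  haveI hinn := inn_subgroupOf_autGroup_normal (F := F) T
  set R := Cfsg.pResidual p ↥(F.autGroup T) ⊔ (Inn T).subgroupOf (F.autGroup T) with hR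
  haveI : R.Normal := Subgroup.sup_normal _ _
  have hRmap : ∀ a : ↥(F.autGroup T), a ∈ R →
      (a : MulAut T) ∈ (Cfsg.pResidual p ↥(F.autGroup T)).map (F.autGroup T).subtype ⊔ Cfsg.Inn ↥T := by
    intro a ha
    have h : R.map (F.autGroup T).subtype ≤ (Cfsg.pResidual p ↥(F.autGroup T)).map (F.autGroup T).subtype ⊔ Cfsg.Inn ↥T := by
      rw [hR, Subgroup.map_sup]
      exact sup_le_sup_left (by rw [Subgroup.subgroupOf_map_subtype]; exact inf_le_left) _
    exact h ⟨a, ha, rfl⟩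
  have hTn : S ≤ Subgroup.normalizer (T : Set Ω) := stronglyClosed_normal hT
  have hcmem : ∀ s : ↥S, T.normalizerMonoidHom ⟨s, hTn s.2⟩ ∈ F.autGroup T := fun s =>
    autInducedBy_le_autGroup hT.1 (mem_autInducedBy.2 ⟨s, s.2, fun x hx => normalizerMonoidHom_autFun _ hx⟩)
  let cS : ↥S →* ↥(F.autGroup T) :=
    (T.normalizerMonoidHom.comp (Subgroup.inclusion hTn)).codRestrict _ hcmem
  have hcS : ∀ (s : ↥S), ∀ y ∈ T, autFun ((cS s : ↥(F.autGroup T)) : MulAut T) y = (s : Ω) * y * (s : Ω)⁻¹ :=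
    fun s y hy => normalizerMonoidHom_autFun (⟨(s : Ω), hTn s.2⟩ : ↥(Subgroup.normalizer (T : Set Ω))) hy
  let π := QuotientGroup.mk' R
  have hfn : F.IsFullyNormalized T := ⟨hT.1, fun Q hQ => by
    obtain ⟨f, hf, hfi⟩ := isConj_iff.1 hQ
    rw [show Q = T by rw [← hfi]; exact (weaklyClosed_iff.1 (stronglyClosed_weaklyClosed hT)).2 f hf]⟩
  obtain ⟨U, hU⟩ := (fullyNormalized_spec hS hF hfn).1.2
  have hquot : ∀ q : ↥(F.autGroup T) ⧸ R, ∃ k : ℕ, q ^ p ^ k = 1 := by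
    intro q
    obtain ⟨a, rfl⟩ := QuotientGroup.mk'_surjective R q
    obtain ⟨s, hs, r, hr, rfl⟩ := Subgroup.mem_sup_of_normal_right.1
      ((CfsgLib.Solv.sylow_sup_pResidual U).ge (Subgroup.mem_top a))
    obtain ⟨k, hk⟩ := U.2 ⟨s, hs⟩
    refine ⟨k, ?_⟩
    rw [map_mul, show QuotientGroup.mk' R r = 1 from (QuotientGroup.eq_one_iff r).2 (Subgroup.mem_sup_left hr), mul_one,
      ← map_pow, show s ^ p ^ k = 1 from congrArg Subtype.val hk, map_one]
  let θ : ↥S →* ↥(F.autGroup T) ⧸ R := π.comp cS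
  have hTker : ∀ t : ↥S, (t : Ω) ∈ T → θ t = 1 := fun t ht => by
    refine (QuotientGroup.eq_one_iff _).2 (Subgroup.mem_sup_right ?_)
    rw [Subgroup.mem_subgroupOf, inn_eq_autInducedBy]
    exact mem_autInducedBy.2 ⟨t, ht, hcS t⟩
  suffices h : F.hyperfocalSubgroup p ≤ θ.ker.map S.subtype by
    intro x hx
    obtain ⟨s, hs, rfl⟩ := h hx
    exact ⟨(cS s : MulAut T), hRmap _ ((QuotientGroup.eq_one_iff _).1 hs), fun t => by
      rw [← autFun_apply, hcS s t t.2]; rfl⟩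
  refine hyperfocal_le_iff.2 fun P hP α hα hc x hx => ?_
  obtain ⟨g, hg, hge⟩ := exists_quot_map hS hF hT ((mem_autGroup hP).1 hα)
  obtain ⟨β, hβ, hβe⟩ := exists_aut (hg.mono le_sup_right)
    ((weaklyClosed_iff.1 (stronglyClosed_weaklyClosed hT)).2 _ (hg.mono le_sup_right))
  set b := π ⟨β, hβ⟩ with hb
  have hstep : ∀ y (hy : y ∈ P), θ ⟨autFun α y, hP (autFun_mem α hy)⟩ = b * θ ⟨y, hP hy⟩ * b⁻¹ := by
    intro y hy
    have hyS := hP hy
    have hgy := hg.mem (Subgroup.mem_sup_left hy)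
    have e1 : θ ⟨autFun α y, hP (autFun_mem α hy)⟩ = θ ⟨g y, hgy⟩ := by
      refine inv_mul_eq_one.1 ?_
      rw [← map_inv, ← map_mul]
      exact hTker _ (hge y hy)
    rw [e1, hb]
    show π (cS ⟨g y, hgy⟩) = π ⟨β, hβ⟩ * π (cS ⟨y, hyS⟩) * (π ⟨β, hβ⟩)⁻¹
    rw [← map_inv, ← map_mul, ← map_mul]
    refine congrArg π (Subtype.ext (aut_ext fun t ht => ?_))
    rw [hcS _ t ht, Subgroup.coe_mul, Subgroup.coe_mul, Subgroup.coe_inv, autFun_conj _ _ ht,
      hcS _ _ (autFun_mem _ ht), hβe _ (conj_mem_of_normalizer (hTn hyS) (autFun_mem _ ht)),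
      hg.map_conj (Subgroup.mem_sup_left hy) (Subgroup.mem_sup_right (autFun_mem _ ht)), ← hβe _ (autFun_mem _ ht),
      autFun_inv_apply β ht]
  have hit : ∀ (n : ℕ) y (hy : y ∈ P),
      θ ⟨autFun (α ^ n) y, hP (autFun_mem _ hy)⟩ = b ^ n * θ ⟨y, hP hy⟩ * (b ^ n)⁻¹ := by
    intro n
    induction n with
    | zero =>
      intro y hy
      rw [pow_zero b, one_mul, inv_one, mul_one]
      exact congrArg θ (Subtype.ext (by show autFun (α ^ 0) y = y; rw [pow_zero, autFun_one hy]))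
    | succ n ih =>
      intro y hy
      have h1 := ih _ (autFun_mem α hy)
      rw [hstep y hy] at h1
      rw [show (⟨autFun (α ^ (n + 1)) y, hP (autFun_mem _ hy)⟩ : ↥S) =
        ⟨autFun (α ^ n) (autFun α y), hP (autFun_mem _ (autFun_mem α hy))⟩ from
          Subtype.ext (by show autFun (α ^ (n + 1)) y = _; rw [pow_succ, autFun_mul _ _ hy]), h1, pow_succ]
      group
  obtain ⟨k, hk⟩ := hquot b
  obtain ⟨j, hj⟩ := exists_pow_eq_self_of_coprime (x := α) (n := p ^ k) (hc.pow_right k).symm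
  have h2 := hit (p ^ k * j) x hx
  rw [pow_mul b, hk, one_pow, one_mul, inv_one, mul_one] at h2
  refine ⟨⟨x, hP hx⟩⁻¹ * ⟨autFun α x, hP (autFun_mem α hx)⟩, ?_, rfl⟩
  rw [SetLike.mem_coe, MonoidHom.mem_ker, map_mul, map_inv, inv_mul_eq_one, ← h2]
  exact congrArg θ (Subtype.ext (by show autFun (α ^ (p ^ k * j)) x = autFun α x; rw [pow_mul, hj]))

end CfsgLib.Fus
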