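import Cfsg.Agent.Fus.Tate
import Cfsg.Agent.Fus.Constructions
import Cfsg.Agent.Fus.Quotient

/-!
The hyperfocal subgroup of a factor system.
-/

set_option autoImplicit false
set_option linter.style.haveILetI false

open Cfsg Cfsg.FusionSystem

namespace CfsgLib.Fus

variable {Ω : Type*} [Group Ω] {S : Subgroup Ω} {F : FusionSystem S} {p : ℕ}

theorem hyperfocal_factor [Finite S] [hp : Fact p.Prime] (hS : IsPGroup p S) (hF : F.IsSaturated p) {T : Subgroup Ω}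
    (hT : F.StronglyClosed T) {Ω' : Type*} [Group Ω'] {S' : Subgroup Ω'} (θ : ↥S →* Ω') (E : FusionSystem S')
    (hE : F.IsFactorSystem T θ E) :
    E.hyperfocalSubgroup p = ((F.hyperfocalSubgroup p).subgroupOf S).map θ := by
  classical
  obtain ⟨hTS, hker, hrange, hhom⟩ := hE
  set H := F.hyperfocalSubgroup p with hH
  set N := (H.subgroupOf S).map θ with hN
  have hHn := hyperfocal_normal (F := F) hS (p := p)
  have hNn : ∀ (a : ↥S), ∀ z ∈ N, θ a * z * (θ a)⁻¹ ∈ N := by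
    rintro a _ ⟨h, hh, rfl⟩
    exact ⟨a * h * a⁻¹, conj_mem_of_normalizer (P := H) (hHn a.2) hh, by rw [map_mul, map_mul, map_inv]⟩
  refine le_antisymm (hyperfocal_le_iff.2 fun P' hP' α hα hc y hy => ?_) ?_
  · obtain ⟨φ', hφ', hφe⟩ := (mem_autGroup hP').1 hα
    obtain ⟨-, φ, hφ, hP, hφS, hPP, he⟩ := (hhom P' φ').1 hφ'
    obtain ⟨c, hc', hce⟩ := conj_mod hS hF hHn (hyperfocal_le_iff.1 le_rfl) (IsMap.of_hom hφ)
    set c' := θ ⟨c, hc'⟩ with hc''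
    have hstep : ∀ y ∈ P', (c' * y * c'⁻¹)⁻¹ * autFun α y ∈ N := by
      intro y hy
      obtain ⟨s, hs⟩ := MonoidHom.mem_range.1 (hrange.ge (hP' hy))
      subst hs
      have hsP : (s : Ω) ∈ preimageAlong θ P' := mem_preimageAlong.2 ⟨s.2, hy⟩
      have h1 := he ⟨s, hsP⟩
      have h2 := hce s hsP
      rw [ev_of_mem φ hsP] at h2
      refine ⟨⟨_, S.mul_mem (S.inv_mem (S.mul_mem (S.mul_mem hc' s.2) (S.inv_mem hc'))) (hφS ⟨s, hsP⟩)⟩, h2, ?_⟩
      rw [show (⟨_, S.mul_mem (S.inv_mem (S.mul_mem (S.mul_mem hc' s.2) (S.inv_mem hc'))) (hφS ⟨s, hsP⟩)⟩ : ↥S) =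
        (⟨c, hc'⟩ * s * ⟨c, hc'⟩⁻¹)⁻¹ * ⟨φ ⟨s, hsP⟩, hφS _⟩ from rfl, map_mul, map_inv, map_mul, map_mul, map_inv,
        ← h1, hφe]
    have hpow : ∀ (n : ℕ), ∀ y ∈ P', (c' ^ n * y * (c' ^ n)⁻¹)⁻¹ * autFun (α ^ n) y ∈ N := by
      intro n
      induction n with
      | zero => intro y hy; simp [autFun_one hy]
      | succ n ih =>
        intro y hy
        rw [pow_succ α, autFun_mul _ _ hy]
        have h1 := hNn (⟨c, hc'⟩ ^ n) _ (hstep y hy)
        rw [map_pow, ← hc''] at h1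
        have h2 := N.mul_mem h1 (ih _ (autFun_mem α hy))
        rw [show c' ^ (n + 1) = c' ^ n * c' from pow_succ _ _]
        simpa [mul_assoc] using h2
    obtain ⟨k, hk⟩ := hS ⟨c, hc'⟩
    have hfix : ∀ y ∈ P', y⁻¹ * autFun (α ^ p ^ k) y ∈ N := fun y hy => by
      have := hpow (p ^ k) y hy
      rw [hc'', ← map_pow, hk, map_one] at this
      simpa using this
    have hfix' : ∀ (j : ℕ), ∀ y ∈ P', y⁻¹ * autFun ((α ^ p ^ k) ^ j) y ∈ N := by
      intro j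
      induction j with
      | zero => intro y hy; simp [autFun_one hy]
      | succ j ih =>
        intro y hy
        rw [pow_succ, autFun_mul _ _ hy]
        have h2 := N.mul_mem (hfix y hy) (ih _ (autFun_mem (α ^ p ^ k) hy))
        simpa [mul_assoc] using h2
    obtain ⟨j, hj⟩ := exists_pow_eq_self_of_coprime (x := α) (n := p ^ k) (hc.pow_right k).symm
    have h3 := hfix' j y hy
    rwa [hj] at h3
  · rw [hN, Subgroup.map_le_iff_le_comap]
    suffices h : H ≤ ((E.hyperfocalSubgroup p).comap θ).map S.subtype by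
      intro s hs
      obtain ⟨s', hs', he⟩ := h hs
      rwa [← show s' = s from Subtype.ext he]
    refine hyperfocal_le_iff.2 fun P hP α hα hc x hx => ?_
    obtain ⟨g, hg, hge⟩ := exists_quot_map hS hF hT ((mem_autGroup hP).1 hα)
    set P' := (P.subgroupOf S).map θ with hP'
    have hpre : ∀ z, z ∈ preimageAlong θ P' → z ∈ P ⊔ T := by
      intro z hz
      obtain ⟨hzS, q, hq, hqe⟩ := mem_preimageAlong.1 hz
      have h1 : ((q⁻¹ * ⟨z, hzS⟩ : ↥S) : Ω) ∈ T := (hker _).1 (by rw [map_mul, map_inv, hqe, inv_mul_cancel])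
      have h2 := Subgroup.mul_mem_sup (show (q : Ω) ∈ P from hq) h1
      simpa using h2
    have hpre' : P ⊔ T ≤ preimageAlong θ P' := sup_le
      (fun z hz => mem_preimageAlong.2 ⟨hP hz, ⟨_, hz, rfl⟩⟩)
      (fun z hz => mem_preimageAlong.2 ⟨hTS hz, by rw [(hker _).2 hz]; exact P'.one_mem⟩)
    have hgeq : preimageAlong θ P' = P ⊔ T := le_antisymm hpre hpre'
    have hval : ∀ (z : ↥S), (z : Ω) ∈ P ⊔ T → ∀ h : g z ∈ S, θ ⟨g z, h⟩ ∈ P' := by
      intro z hz h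
      obtain ⟨_hzS, q, hq, hqe⟩ := mem_preimageAlong.1 (hpre' hz)
      have ht : ((q⁻¹ * z : ↥S) : Ω) ∈ T := (hker _).1 (by rw [map_mul, map_inv, hqe, inv_mul_cancel])
      have hgt : g ((q⁻¹ * z : ↥S) : Ω) ∈ T := (stronglyClosed_iff.1 hT).2 _ g hg _ (Subgroup.mem_sup_right ht) ht
      have hqP : (q : Ω) ∈ P := hq
      refine ⟨⟨autFun α q, hP (autFun_mem α hqP)⟩, autFun_mem α hqP, ?_⟩
      refine inv_mul_eq_one.1 ?_
      rw [← map_inv, ← map_mul]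
      refine (hker _).2 ?_
      show (autFun α (q : Ω))⁻¹ * g z ∈ T
      have h3 : g (z : Ω) = g q * g ((q⁻¹ * z : ↥S) : Ω) := by
        rw [← hg.map_mul (Subgroup.mem_sup_left hqP) (Subgroup.mem_sup_right ht)]
        simp
      rw [h3, ← mul_assoc]
      exact T.mul_mem (hge _ hqP) hgt
    obtain ⟨φ, hφ, hφe⟩ := hg
    obtain ⟨-, hφS⟩ := F.le_of_mem hφ
    choose sec hsec hsecv using fun y : ↥P' => (y.2 : (y : Ω') ∈ (P.subgroupOf S).map θ)
    let φ' : ↥P' →* Ω' := MonoidHom.mk' (fun y => θ ⟨φ ⟨sec y, Subgroup.mem_sup_left (hsec y)⟩, hφS _⟩) fun a b => by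
      rw [← map_mul]
      refine inv_mul_eq_one.1 ?_
      rw [← map_inv, ← map_mul]
      refine (hker _).2 ?_
      have ht : ((sec (a * b) : ↥S) : Ω)⁻¹ * ((sec a : ↥S) * sec b : ↥S) ∈ T := (hker ((sec (a * b))⁻¹ * (sec a * sec b))).1 (by
        rw [map_mul, map_inv, map_mul, hsecv, hsecv, hsecv, Subgroup.coe_mul, inv_mul_cancel])
      show (φ ⟨(sec (a * b) : Ω), Subgroup.mem_sup_left (hsec _)⟩)⁻¹ *
        (φ ⟨(sec a : Ω), Subgroup.mem_sup_left (hsec _)⟩ * φ ⟨(sec b : Ω), Subgroup.mem_sup_left (hsec _)⟩) ∈ T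
      rw [← map_mul, ← map_inv, ← map_mul, hφe]
      exact (stronglyClosed_iff.1 hT).2 _ g ⟨φ, hφ, hφe⟩ _ (Subgroup.mem_sup_right ht) ht
    have hφ'v : ∀ z : ↥S, ∀ hz : (z : Ω) ∈ P ⊔ T, ∀ h : θ z ∈ P', φ' ⟨θ z, h⟩ = θ ⟨φ ⟨z, hz⟩, hφS _⟩ := by
      intro z hz h
      refine inv_mul_eq_one.1 ?_
      show (θ _)⁻¹ * θ _ = 1
      rw [← map_inv, ← map_mul]
      refine (hker _).2 ?_
      have ht : ((sec ⟨θ z, h⟩ : ↥S) : Ω)⁻¹ * z ∈ T :=
        (hker ((sec ⟨θ z, h⟩)⁻¹ * z)).1 (by rw [map_mul, map_inv, hsecv, inv_mul_cancel])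
      show (φ ⟨(sec ⟨θ z, h⟩ : Ω), Subgroup.mem_sup_left (hsec _)⟩)⁻¹ * φ ⟨z, hz⟩ ∈ T
      rw [← map_inv, ← map_mul, hφe]
      exact (stronglyClosed_iff.1 hT).2 _ g ⟨φ, hφ, hφe⟩ _ (Subgroup.mem_sup_right ht) ht
    have hP'S' : P' ≤ S' := by
      rintro _ ⟨s, -, rfl⟩
      exact hrange ▸ ⟨s, rfl⟩
    have hinc : preimageAlong θ P' ≤ P ⊔ T := hgeq.le
    obtain ⟨ψ, hψ, hψe⟩ := IsMap.mono (⟨φ, hφ, hφe⟩ : IsMap F (P ⊔ T) g) hinc
    have hmapE : φ' ∈ E.Hom P' := (hhom P' φ').2 ⟨hP'S', ψ, hψ, preimageAlong_le, (F.le_of_mem hψ).2,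
      fun z => (mem_preimageAlong.1 z.2).2, fun z => by
        rw [hφ'v _ (hinc z.2)]
        exact congrArg θ (Subtype.ext ((hφe _).trans (hψe z).symm))⟩
    -- it is the automorphism induced by `α`
    have hαv : ∀ q : ↥S, ∀ hq : (q : Ω) ∈ P, ev φ' (θ q) = θ ⟨autFun α q, hP (autFun_mem α hq)⟩ := by
      intro q hq
      rw [ev_of_mem φ' (⟨q, hq, rfl⟩ : θ q ∈ P')]
      refine (hφ'v q (Subgroup.mem_sup_left hq) _).trans ?_
      refine (inv_mul_eq_one.1 ?_).symm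
      rw [← map_inv, ← map_mul]
      refine (hker _).2 ?_
      show (autFun α (q : Ω))⁻¹ * φ ⟨q, Subgroup.mem_sup_left hq⟩ ∈ T
      rw [hφe]
      exact hge _ hq
    have himg : img (ev φ') P' = P' := by
      refine le_antisymm (img_le_iff.2 ?_) ?_
      · rintro _ ⟨q, hq, rfl⟩
        rw [hαv q hq]
        exact ⟨_, autFun_mem α hq, rfl⟩
      · rintro _ ⟨q, hq, rfl⟩
        have hy := autFun_mem α⁻¹ (hq : (q : Ω) ∈ P)
        have h1 := mem_img_of_mem (f := ev φ') (P := P') (x := θ ⟨autFun α⁻¹ q, hP hy⟩) ⟨_, hy, rfl⟩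
        rw [hαv _ hy] at h1
        rwa [show (⟨autFun α (autFun α⁻¹ (q : Ω)), hP (autFun_mem α hy)⟩ : ↥S) = q from
          Subtype.ext (autFun_inv_apply α hq)] at h1
    obtain ⟨α', hα', hα'e⟩ := exists_aut (IsMap.of_hom hmapE) himg
    have hpow : ∀ (n : ℕ) (q : ↥S) (hq : (q : Ω) ∈ P),
        autFun (α' ^ n) (θ q) = θ ⟨autFun (α ^ n) q, hP (autFun_mem _ hq)⟩ := by
      intro n
      induction n with
      | zero =>
        intro q hq
        rw [pow_zero, autFun_one (⟨q, hq, rfl⟩ : θ q ∈ P')]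
        exact congrArg θ (Subtype.ext (by show (q : Ω) = autFun (α ^ 0) (q : Ω); rw [pow_zero, autFun_one hq]))
      | succ n ih =>
        intro q hq
        rw [pow_succ, autFun_mul _ _ (⟨q, hq, rfl⟩ : θ q ∈ P'), hα'e _ ⟨q, hq, rfl⟩, hαv q hq,
          ih ⟨_, hP (autFun_mem α hq)⟩ (autFun_mem α hq)]
        exact congrArg θ (Subtype.ext (by show autFun (α ^ n) (autFun α (q : Ω)) = autFun (α ^ (n + 1)) (q : Ω); rw [pow_succ, autFun_mul _ _ hq]))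
    have hord : orderOf α' ∣ orderOf α := orderOf_dvd_of_pow_eq_one (aut_ext fun y hy => by
      obtain ⟨q, hq, rfl⟩ := hy
      rw [hpow _ q hq, autFun_one (⟨q, hq, rfl⟩ : θ q ∈ P')]
      exact congrArg θ (Subtype.ext (by show autFun (α ^ orderOf α) (q : Ω) = q; rw [pow_orderOf_eq_one, autFun_one (show (q : Ω) ∈ P from hq)])))
    have hfin := hyperfocal_le_iff.1 le_rfl P' hP'S' α' hα' (hc.of_dvd_left hord) (θ ⟨x, hP hx⟩) ⟨_, hx, rfl⟩
    rw [hα'e _ ⟨_, hx, rfl⟩, hαv ⟨x, hP hx⟩ hx, ← map_inv, ← map_mul] at hfin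
    exact ⟨_, hfin, rfl⟩

end CfsgLib.Fus
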