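import Cfsg.Agent.Fus.Tate
import Cfsg.Agent.Fus.NormalSubgroupSystem
import Cfsg.Agent.Solv.TransferTools

/-!
The hyperfocal subgroup theorem for groups.
-/

set_option autoImplicit false
set_option linter.style.haveILetI false

open Cfsg Cfsg.FusionSystem
open scoped commutatorElement

namespace CfsgLib.Fus

theorem group_hyperfocal {G : Type*} [Group G] [Finite G] (p : ℕ) [hp : Fact p.Prime] (S : Sylow p G) :
    (groupFusionSystem (S : Subgroup G)).hyperfocalSubgroup p = (S : Subgroup G) ⊓ Cfsg.pResidual p G := by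
  classical
  haveI := CfsgLib.Inv.pResidual_normal p G
  set K := Cfsg.pResidual p G with hK
  set F := groupFusionSystem (S : Subgroup G) with hFdef
  have hHT : F.hyperfocalSubgroup p ≤ (S : Subgroup G) ⊓ K := by
    refine hyperfocal_le_iff.2 fun P hP α hα hc x hx => ?_
    refine Subgroup.mem_inf.2 ⟨Subgroup.mul_mem _ (Subgroup.inv_mem _ (hP hx)) (hP (autFun_mem α hx)), ?_⟩
    rw [autGroup_group hP] at hα
    obtain ⟨g, -, hg⟩ := mem_autInducedBy.1 hα
    obtain ⟨a, b, hb, hn⟩ := Nat.exists_eq_pow_mul_and_not_dvd (orderOf_pos g).ne' p hp.out.ne_one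
    have hk : g ^ p ^ a ∈ K := CfsgLib.Inv.mem_pResidual (by
      rw [orderOf_pow' _ (pow_ne_zero _ hp.out.pos.ne'), hn, Nat.gcd_eq_right (dvd_mul_right _ _),
        Nat.mul_div_cancel_left _ (pow_pos hp.out.pos a)]
      exact (hp.out.coprime_iff_not_dvd.2 hb).symm)
    obtain ⟨j, hj⟩ := exists_pow_eq_self_of_coprime (x := α) (n := p ^ a) (hc.pow_right a).symm
    have hpow : ∀ (n : ℕ), ∀ y ∈ P, autFun (α ^ n) y = g ^ n * y * (g ^ n)⁻¹ := by
      intro n
      induction n with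
      | zero => intro y hy; simp [autFun_one hy]
      | succ n ih =>
        intro y hy
        rw [pow_succ, autFun_mul _ _ hy, ih _ (autFun_mem α hy), hg y hy]
        group
    have h1 := hpow (p ^ a * j) x hx
    rw [pow_mul α, hj, pow_mul g] at h1
    rw [h1, show x⁻¹ * ((g ^ p ^ a) ^ j * x * ((g ^ p ^ a) ^ j)⁻¹) =
      (x⁻¹ * (g ^ p ^ a) ^ j * x⁻¹⁻¹) * ((g ^ p ^ a) ^ j)⁻¹ by group]
    exact K.mul_mem (‹K.Normal›.conj_mem _ (K.pow_mem hk j) _) (K.inv_mem (K.pow_mem hk j))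
  refine le_antisymm hHT ?_
  -- the residual
  set T := (S : Subgroup G) ⊓ K with hT
  have hTS : T ≤ (S : Subgroup G) := inf_le_left
  obtain ⟨R, hR⟩ := sylow_inf_normal_system S K
  set E := fusionSystemOfSubgroup K T inf_le_right with hE
  have hEs : E.IsSaturated p := subgroupSystem_saturated _ ⟨R, hR⟩
  have hTp : IsPGroup p T := S.isPGroup'.to_le hTS
  have hfoc : T ≤ E.focalSubgroup := by
    intro t ht
    have hker : (⟨t, (Subgroup.mem_inf.1 ht).2⟩ : ↥K) ∈ (R : Subgroup ↥K).transferFocal.ker ⊓ (R : Subgroup ↥K) := by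
      refine Subgroup.mem_inf.2 ⟨CfsgLib.Solv.hom_pResidual_eq_one (R.2.to_quotient _)
        (R : Subgroup ↥K).transferFocal _, ?_⟩
      rw [hR]; exact ht
    rw [Subgroup.ker_transferFocal_inf_eq_focalSubgroup, Subgroup.focalSubgroup_def] at hker
    refine (Subgroup.closure_le (E.focalSubgroup.comap K.subtype)).2 ?_ hker
    rintro _ ⟨hg, x, hx, u, rfl⟩
    rw [hR] at hx hg
    have hxT : (x : G)⁻¹ ∈ T := T.inv_mem hx
    have hcj : (u : G) * (x : G)⁻¹ * (u : G)⁻¹ ∈ T := by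
      have h := T.mul_mem (T.inv_mem (show (x : G) ∈ T from hx)) (show ((⁅x, u⁆ : ↥K) : G) ∈ T from hg)
      simpa [commutatorElement_def, mul_assoc] using h
    refine Subgroup.subset_closure ⟨Subgroup.zpowers (x : G)⁻¹, conjHom _ (u : G), ⟨(x : G)⁻¹, Subgroup.mem_zpowers _⟩,
      ⟨Subgroup.zpowers_le.2 hxT, ?_, u, u.2, fun _ => rfl⟩, ?_⟩
    · rintro ⟨y, hy⟩
      obtain ⟨i, rfl⟩ := hy
      show (u : G) * ((x : G)⁻¹) ^ i * (u : G)⁻¹ ∈ T
      rw [← conj_zpow]
      exact T.zpow_mem hcj i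
    · show ((⁅x, u⁆ : ↥K) : G) = ((x : G)⁻¹)⁻¹ * ((u : G) * (x : G)⁻¹ * (u : G)⁻¹)
      simp [commutatorElement_def, mul_assoc]
  set H := F.hyperfocalSubgroup p with hH
  have hHE : E.hyperfocalSubgroup p ≤ H := by
    refine hyperfocal_le_iff.2 fun P hP α hα hc x hx => ?_
    refine hyperfocal_le_iff.1 le_rfl P (hP.trans hTS) α ?_ hc x hx
    obtain ⟨φ, ⟨_hP, hφ, g, -, hg⟩, he⟩ := (mem_autGroup hP).1 hα
    exact (mem_autGroup (hP.trans hTS)).2 ⟨φ, ⟨hP.trans hTS, fun y => hTS (hφ y), g, hg⟩, he⟩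
  have h1 : T ≤ H ⊔ ⁅T, T⁆ :=
    hfoc.trans ((focal_eq hTp hEs).le.trans (sup_le_sup_right hHE _))
  haveI := hTp.isNilpotent
  have h2 : H.subgroupOf T ⊔ frattini ↥T = ⊤ := by
    refine top_unique ?_
    rw [← Subgroup.subgroupOf_self (H := T)]
    refine le_trans (Subgroup.comap_mono h1) ?_
    show (H ⊔ ⁅T, T⁆).subgroupOf T ≤ _
    rw [Subgroup.subgroupOf_sup hHT (Subgroup.commutator_le.2 fun a ha b hb => T.mul_mem (T.mul_mem (T.mul_mem ha hb) (T.inv_mem ha)) (T.inv_mem hb))]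
    refine sup_le_sup_left ?_ _
    intro z hz
    have h3 := commutator_le_frattini_map hTp hz
    obtain ⟨w, hw, hwz⟩ := h3
    rwa [← show w = z from Subtype.ext hwz]
  have h3 := frattini_nongenerating h2
  exact Subgroup.subgroupOf_eq_top.1 h3

end CfsgLib.Fus
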