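import Cfsg.Agent.Fus.RealizedSystem
import Cfsg.Agent.Fus.Control

/-!
The inner system of a normal subgroup is a normal subsystem, and conversely.
-/

set_option autoImplicit false
set_option linter.style.haveILetI false

open Cfsg Cfsg.FusionSystem

namespace CfsgLib.Fus

variable {Ω : Type*} [Group Ω] {S : Subgroup Ω} {F : FusionSystem S} {p : ℕ}

theorem innerSystem_saturated [Fact p.Prime] {Q : Subgroup Ω} [Finite Q] (hQ : IsPGroup p Q) :
    (innerFusionSystem Q).IsSaturated p := by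
  have hid : Function.Injective (MonoidHom.id ↥Q) := fun _ _ h => h
  have e : innerFusionSystem Q = realized (MonoidHom.id ↥Q) hid := by
    refine system_ext fun P => Set.ext fun φ => ?_
    constructor
    · rintro ⟨hP, g, hg, h⟩
      exact ⟨hP, fun x => (h x).symm ▸ Q.mul_mem (Q.mul_mem hg (hP x.2)) (Q.inv_mem hg), ⟨g, hg⟩,
        fun x => Subtype.ext (h x)⟩
    · rintro ⟨hP, hφ, g, hg⟩
      exact ⟨hP, g, g.2, fun x => congrArg Subtype.val (hg x)⟩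
  rw [e]
  obtain ⟨T⟩ : Nonempty (Sylow p ↥Q) := inferInstance
  have hT : (T : Subgroup ↥Q) = ⊤ := (T.is_maximal' (hQ.of_equiv Subgroup.topEquiv.symm) le_top).symm
  refine realized_saturated _ _ T (hT.trans ?_)
  exact (MonoidHom.range_eq_top.2 fun x => ⟨x, rfl⟩).symm

theorem innerSystem_normal_of_normal [Finite S] [Fact p.Prime] (hS : IsPGroup p S) (hF : F.IsSaturated p)
    {Q : Subgroup Ω} (hQ : F.IsNormal Q) : (innerFusionSystem Q).IsNormalIn F p := by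
  have hQS := hQ.1
  haveI := finite_of_le hQS
  have hsat := innerSystem_saturated (p := p) (hS.to_le hQS)
  refine ⟨⟨hsat, hF, ?_, isNormal_stronglyClosed hQ, ?_, ?_⟩, ?_⟩
  · refine isSubsystemOf_iff.2 fun P f hf => ?_
    obtain ⟨hP, g, hg, h⟩ := isMap_inner_iff.1 hf
    exact (IsMap.conj F (hP.trans hQS) (hQS hg)).congr fun x hx => (h x hx).symm
  · rintro P hPQ φ ⟨-, q, hq, hqe⟩ α -
    set q' := ((α ⟨q, hq⟩ : Q) : Ω) with hq'
    refine ⟨conjHom _ q', ⟨?_, q', (α ⟨q, hq⟩).2, fun _ => rfl⟩, fun x hφx hαx => ?_⟩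
    · rintro _ ⟨x, -, rfl⟩
      exact (α x).2
    · show q' * ((α ⟨x, hPQ x.2⟩ : Q) : Ω) * q'⁻¹ = _
      rw [show (⟨φ x, hφx⟩ : ↥Q) = ⟨q, hq⟩ * ⟨x, hPQ x.2⟩ * ⟨q, hq⟩⁻¹ from Subtype.ext (hqe x),
        map_mul, map_mul, map_inv]
      rfl
  · intro P hPQ φ hφ
    obtain ⟨g, hg, hge, hgQ⟩ := (isNormal_iff.1 hQ).2 P (ev φ) (IsMap.of_hom hφ)
    obtain ⟨α, hα, hαe⟩ := exists_aut (hg.mono le_sup_right) hgQ
    refine ⟨α, hα, conjHom P 1, ⟨hPQ, 1, one_mem _, fun _ => rfl⟩, fun x hx => ?_⟩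
    rw [← autFun_of_mem α hx, show conjHom P 1 x = (x : Ω) by show (1 : Ω) * x * 1⁻¹ = x; simp,
      hαe _ (hPQ x.2), hge _ x.2, ev_apply]
  · intro α hα
    obtain ⟨-, q, hq, hqe⟩ := isMap_inner_iff.1 ((mem_autGroup le_rfl).1 hα)
    have hXS : Q ⊔ centralizerIn S Q ≤ S := sup_le hQS (centralizerIn_le Q)
    have hqn : q ∈ Subgroup.normalizer ((Q ⊔ centralizerIn S Q : Subgroup Ω) : Set Ω) :=
      Subgroup.le_normalizer (Subgroup.mem_sup_left hq)
    obtain ⟨β, hβ, hβe⟩ := exists_autInducedBy (K := S) (hQS hq) hqn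
    refine ⟨β, autInducedBy_le_autGroup hXS hβ, fun x => ?_, fun c hc => ?_⟩
    · show ((β ⟨(x : Ω), Subgroup.mem_sup_left x.2⟩ : ↥(Q ⊔ centralizerIn S Q)) : Ω) = _
      rw [← autFun_of_mem β (Subgroup.mem_sup_left x.2), hβe _ (Subgroup.mem_sup_left x.2),
        ← hqe x x.2, autFun_apply]
    · rw [← autFun_apply β c, hβe _ c.2, Subgroup.mem_centralizer_iff.1 hc.2 q hq, mul_inv_cancel_right,
        inv_mul_cancel]
      exact one_mem _

theorem isNormal_of_innerSystem [Finite S] [Fact p.Prime] (hS : IsPGroup p S) {Q : Subgroup Ω}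
    (h : (innerFusionSystem Q).IsWeaklyNormalIn F p) : F.IsNormal Q := by
  obtain ⟨-, hF, -, hsc, -, hfr⟩ := h
  have hQS := hsc.1
  refine normal_of_extend hS hF hQS fun P f hP hf => ?_
  obtain ⟨φ, hφ, hφf⟩ := hf
  obtain ⟨α, hα, φ₀, ⟨-, q, hq, hqe⟩, he⟩ := hfr P hP φ hφ
  obtain ⟨β, hβ, hβe⟩ := exists_autInducedBy (K := Q) (P := Q) hq (Subgroup.le_normalizer hq)
  refine ⟨α * β, mul_mem hα ((autInducedBy_mono hQS).trans (autInducedBy_le_autGroup hQS) hβ), fun x hx => ?_⟩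
  have hmem : φ₀ ⟨x, hx⟩ ∈ Q := by rw [hqe]; exact mul_mem (mul_mem hq (hP hx)) (inv_mem hq)
  rw [autFun_mul _ _ (hP hx), hβe _ (hP hx), ← hqe ⟨x, hx⟩, autFun_of_mem α hmem, ← he ⟨x, hx⟩ hmem]
  exact hφf ⟨x, hx⟩

end CfsgLib.Fus
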