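import Mathlib.GroupTheory.PGroup
import Mathlib.Algebra.Group.Subgroup.Basic
import Mathlib.GroupTheory.Index

/-!
Groups of automorphisms of a finite abelian `p`-group with Sylow subgroups of order `p` generated by
transvections.
-/

set_option autoImplicit false
set_option linter.style.haveILetI false

namespace CfsgLib.Fus.Trans

variable {A : Type*} [CommGroup A]

/-- The map `x ↦ u(x)/x`. -/
def dlt (u : MulAut A) : A →* A := u.toMonoidHom / MonoidHom.id A

theorem dlt_apply (u : MulAut A) (x : A) : dlt u x = u x / x := rfl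

theorem mem_ker {u : MulAut A} {x : A} : x ∈ (dlt u).ker ↔ u x = x := by
  rw [MonoidHom.mem_ker, dlt_apply, div_eq_one]

theorem div_mem_range (u : MulAut A) (x : A) : u x / x ∈ (dlt u).range := ⟨x, rfl⟩

theorem mem_ker_conj {u γ : MulAut A} {x : A} :
    x ∈ (dlt (γ * u * γ⁻¹)).ker ↔ γ⁻¹ x ∈ (dlt u).ker := by
  rw [mem_ker, mem_ker, MulAut.mul_apply, MulAut.mul_apply]
  constructor
  · intro h
    have := congrArg (γ⁻¹ : MulAut A) h
    rwa [← MulAut.mul_apply, inv_mul_cancel, MulAut.one_apply] at this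
  · intro h
    rw [h, ← MulAut.mul_apply, mul_inv_cancel, MulAut.one_apply]

theorem map_mem_range_conj {u γ : MulAut A} {x : A} (h : x ∈ (dlt u).range) :
    γ x ∈ (dlt (γ * u * γ⁻¹)).range := by
  obtain ⟨y, rfl⟩ := h
  refine ⟨γ y, ?_⟩
  rw [dlt_apply, dlt_apply, MulAut.mul_apply, MulAut.mul_apply, MulAut.inv_apply_self,
    map_div]

theorem card_range_conj [Finite A] (u γ : MulAut A) :
    Nat.card (dlt (γ * u * γ⁻¹)).range = Nat.card (dlt u).range := by
  refine le_antisymm ?_ (Nat.card_le_card_of_injective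
    (fun x => ⟨γ x, map_mem_range_conj x.2⟩) fun a b h => Subtype.ext (γ.injective (congrArg Subtype.val h)))
  refine Nat.card_le_card_of_injective (fun x => (⟨γ⁻¹ x, ?_⟩ : (dlt u).range))
    fun a b h => Subtype.ext ((γ⁻¹ : MulAut A).injective (congrArg Subtype.val h))
  have h1 := map_mem_range_conj (γ := γ⁻¹) x.2
  rwa [show γ⁻¹ * (γ * u * γ⁻¹) * γ⁻¹⁻¹ = u by group] at h1

/-- Transvections in `G`. -/
structure Tv (p : ℕ) (G : Subgroup (MulAut A)) (u : MulAut A) : Prop where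
  mem : u ∈ G
  ord : orderOf u = p
  le : (dlt u).range ≤ (dlt u).ker
  card : Nat.card (dlt u).range = p

theorem Tv.conj [Finite A] {p : ℕ} {G : Subgroup (MulAut A)} {u γ : MulAut A} (hu : Tv p G u)
    (hγ : γ ∈ G) : Tv p G (γ * u * γ⁻¹) := by
  refine ⟨G.mul_mem (G.mul_mem hγ hu.mem) (G.inv_mem hγ), ?_, fun x hx => ?_, ?_⟩
  · rw [← hu.ord]; exact (MulAut.conj γ).orderOf_eq u
  · rw [mem_ker_conj]
    refine hu.le ?_
    have h1 := map_mem_range_conj (γ := γ⁻¹) hx
    rwa [show γ⁻¹ * (γ * u * γ⁻¹) * γ⁻¹⁻¹ = u by group] at h1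
  · rw [card_range_conj, hu.card]

/-- Automorphisms fixing `V₁`, and trivial on `V₂/V₁` and on `A/V₂`. -/
def stab (V1 V2 : Subgroup A) : Subgroup (MulAut A) where
  carrier := {γ | (∀ x ∈ V1, γ x = x) ∧ (∀ x ∈ V2, γ x / x ∈ V1) ∧ ∀ x, γ x / x ∈ V2}
  one_mem' := ⟨fun x _ => rfl, fun x _ => by simp, fun x => by simp⟩
  mul_mem' := by
    rintro a b ⟨a1, a2, a3⟩ ⟨b1, b2, b3⟩
    refine ⟨fun x hx => by rw [MulAut.mul_apply, b1 x hx, a1 x hx], fun x hx => ?_, fun x => ?_⟩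
    · have hbx : b x ∈ V2 := by simpa using V2.mul_mem (b3 x) hx
      have := V1.mul_mem (a2 _ hbx) (b2 x hx)
      rwa [div_mul_div_cancel] at this
    · have := V2.mul_mem (a3 (b x)) (b3 x)
      rwa [div_mul_div_cancel] at this
  inv_mem' := by
    rintro a ⟨a1, a2, a3⟩
    have e : ∀ x, a (a⁻¹ x) = x := fun x => by rw [← MulAut.mul_apply, mul_inv_cancel, MulAut.one_apply]
    refine ⟨fun x hx => ?_, fun x hx => ?_, fun x => ?_⟩
    · refine a.injective ?_
      rw [e, a1 x hx]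
    · have h1 : a⁻¹ x ∈ V2 := by
        have := V2.mul_mem (V2.inv_mem (a3 (a⁻¹ x))) hx
        rwa [e, inv_div, div_mul_cancel] at this
      have := V1.inv_mem (a2 _ h1)
      rwa [e, inv_div] at this
    · have := V2.inv_mem (a3 (a⁻¹ x))
      rwa [e, inv_div] at this

theorem isPGroup_stab [Finite A] {p : ℕ} [hp : Fact p.Prime] (hA : IsPGroup p A) (V1 V2 : Subgroup A) :
    IsPGroup p (stab V1 V2) := by
  intro ⟨γ, h1, h2, h3⟩
  obtain ⟨c, hc⟩ := IsPGroup.iff_card.1 hA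
  refine ⟨c + 1, Subtype.ext (MulEquiv.ext fun x => ?_)⟩
  set d := γ x / x with hd
  set e := γ d / d with he
  have hγd : γ d = d * e := by rw [he, mul_div_cancel]
  have hγe : γ e = e := h1 _ (h2 _ (h3 x))
  have hγx : γ x = x * d := by rw [hd, mul_div_cancel]
  have key : ∀ n : ℕ, (γ ^ n) x = x * d ^ n * e ^ n.choose 2 := by
    intro n
    induction n with
    | zero => simp
    | succ n ih =>
      rw [pow_succ', MulAut.mul_apply, ih, map_mul, map_mul, map_pow, map_pow, hγd, hγe, hγx,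
        Nat.choose_succ_succ, Nat.choose_one_right, mul_pow, pow_succ d, pow_add]
      ac_rfl
  show (γ ^ p ^ (c + 1)) x = x
  rw [key]
  have hexp : ∀ a : A, ∀ k : ℕ, p ^ c ∣ k → a ^ k = 1 := fun a k hk => by
    obtain ⟨q, rfl⟩ := hk
    rw [← hc, pow_mul, pow_card_eq_one', one_pow]
  rw [hexp d _ (pow_dvd_pow p (Nat.le_succ c)), hexp e _ ?_, mul_one, mul_one]
  rw [Nat.choose_two_right]
  rcases hp.out.eq_two_or_odd' with rfl | hodd
  · rw [pow_succ, mul_comm (2 ^ c) 2, mul_assoc, Nat.mul_div_cancel_left _ (by norm_num)]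
    exact dvd_mul_right _ _
  · obtain ⟨q, hq⟩ : 2 ∣ p ^ (c + 1) - 1 := by
      obtain ⟨r, hr⟩ := hodd.pow (n := c + 1)
      exact ⟨r, by omega⟩
    rw [hq, mul_left_comm, Nat.mul_div_cancel_left _ (by norm_num), pow_succ, mul_assoc]
    exact dvd_mul_right _ _

section

variable [Finite A] {p : ℕ} [hp : Fact p.Prime] {G : Subgroup (MulAut A)}

/-- `p`-subgroups of `G` have order at most `p`. -/
def SylP (p : ℕ) (G : Subgroup (MulAut A)) : Prop := ∀ Q ≤ G, IsPGroup p Q → Nat.card Q ≤ p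

theorem zpowers_eq_of_le (hA : IsPGroup p A) (hG : SylP p G) {u v : MulAut A} (hu : Tv p G u)
    (hv : Tv p G v) (h : (dlt v).range ≤ (dlt u).ker) : Subgroup.zpowers u = Subgroup.zpowers v := by
  let Q := G ⊓ stab (dlt v).range ((dlt u).range ⊔ (dlt v).range)
  have hQ : Nat.card Q ≤ p := hG Q inf_le_left ((isPGroup_stab hA _ _).to_le inf_le_right)
  have hle : (dlt u).range ⊔ (dlt v).range ≤ (dlt u).ker := sup_le hu.le h
  have huQ : u ∈ Q := ⟨hu.mem, fun x hx => mem_ker.1 (h hx), fun x hx => by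
    rw [mem_ker.1 (hle hx), div_self']; exact Subgroup.one_mem _,
    fun x => Subgroup.mem_sup_left (div_mem_range u x)⟩
  have hvQ : v ∈ Q := ⟨hv.mem, fun x hx => mem_ker.1 (hv.le hx), fun x _ => div_mem_range v x,
    fun x => Subgroup.mem_sup_right (div_mem_range v x)⟩
  rw [Subgroup.eq_of_le_of_card_ge (Subgroup.zpowers_le.2 huQ) (by rw [Nat.card_zpowers, hu.ord]; exact hQ),
    Subgroup.eq_of_le_of_card_ge (Subgroup.zpowers_le.2 hvQ) (by rw [Nat.card_zpowers, hv.ord]; exact hQ)]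

theorem eq_one_of_mem (hA : IsPGroup p A) (hG : SylP p G) {u v : MulAut A} (hu : Tv p G u)
    (hv : Tv p G v) (hne : Subgroup.zpowers u ≠ Subgroup.zpowers v) {x : A}
    (hx : x ∈ (dlt v).range) (hxu : u x = x) : x = 1 := by
  by_contra hx1
  refine hne (zpowers_eq_of_le hA hG hu hv ?_)
  rw [Subgroup.eq_of_le_of_card_ge (Subgroup.zpowers_le.2 hx) ?_ |>.symm]
  · exact Subgroup.zpowers_le.2 (mem_ker.2 hxu)
  rw [hv.card, Nat.card_zpowers]
  have hd : orderOf x ∣ p := by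
    rw [← hv.card]; exact Subgroup.orderOf_dvd_natCard (dlt v).range hx
  rcases (Nat.dvd_prime hp.out).1 hd with h1 | h1
  · exact absurd (orderOf_eq_one_iff.1 h1) hx1
  · exact h1.ge

theorem decomp (hA : IsPGroup p A) (hG : SylP p G) {u v : MulAut A} (hu : Tv p G u) (hv : Tv p G v)
    (hne : Subgroup.zpowers u ≠ Subgroup.zpowers v) (x : A) :
    ∃ c s, c ∈ (dlt u).ker ∧ s ∈ (dlt v).range ∧ x = c * s := by
  let f : (dlt v).range → (dlt u).range := fun s => ⟨dlt u s, s, rfl⟩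
  have hinj : Function.Injective f := fun s t h => Subtype.ext <| by
    have h' : dlt u (s : A) = dlt u (t : A) := congrArg Subtype.val h
    refine div_eq_one.1 (eq_one_of_mem hA hG hu hv hne (Subgroup.div_mem _ s.2 t.2) (mem_ker.1 ?_))
    rw [MonoidHom.mem_ker, map_div, h', div_self']
  haveI : Finite (dlt u).range := inferInstance
  obtain ⟨s, hs⟩ := ((Nat.bijective_iff_injective_and_card f).2 ⟨hinj, hv.card.trans hu.card.symm⟩).2
    ⟨dlt u x, x, rfl⟩
  refine ⟨x / s, s, ?_, s.2, (div_mul_cancel x (s : A)).symm⟩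
  rw [MonoidHom.mem_ker, map_div, div_eq_one]
  exact (congrArg Subtype.val hs).symm

theorem decomp_ker (hA : IsPGroup p A) (hG : SylP p G) {u v : MulAut A} (hu : Tv p G u) (hv : Tv p G v)
    (hne : Subgroup.zpowers u ≠ Subgroup.zpowers v) {x : A} (hx : u x = x) :
    ∃ c s, u c = c ∧ v c = c ∧ s ∈ (dlt u).range ∧ x = s * c := by
  obtain ⟨c, s, hc, hs, rfl⟩ := decomp hA hG hv hu hne.symm x
  refine ⟨c, s, ?_, mem_ker.1 hc, hs, mul_comm c s⟩
  rw [map_mul, mem_ker.1 (hu.le hs)] at hx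
  exact mul_right_cancel hx

theorem decomp_full (hA : IsPGroup p A) (hG : SylP p G) {u v : MulAut A} (hu : Tv p G u) (hv : Tv p G v)
    (hne : Subgroup.zpowers u ≠ Subgroup.zpowers v) (x : A) :
    ∃ c s t, u c = c ∧ v c = c ∧ s ∈ (dlt u).range ∧ t ∈ (dlt v).range ∧ x = s * t * c := by
  obtain ⟨k, t, hk, ht, rfl⟩ := decomp hA hG hu hv hne x
  obtain ⟨c, s, h1, h2, hs, rfl⟩ := decomp_ker hA hG hu hv hne (mem_ker.1 hk)
  exact ⟨c, s, t, h1, h2, hs, ht, mul_right_comm s c t⟩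

theorem exists_pow_eq {H : Subgroup A} (hH : Nat.card H = p) {a y : A} (ha : a ∈ H) (ha1 : a ≠ 1)
    (hy : y ∈ H) : ∃ m : ℕ, a ^ m = y := by
  have h := mem_powers_of_prime_card (g := (⟨a, ha⟩ : H)) (g' := ⟨y, hy⟩) hH
    fun h => ha1 (congrArg Subtype.val h)
  obtain ⟨m, hm⟩ := h
  exact ⟨m, congrArg Subtype.val hm⟩

/-- The central involution of the group generated by two opposite transvections. -/
theorem exists_neg (hA : IsPGroup p A) (hG : SylP p G) {u v : MulAut A} (hu : Tv p G u) (hv : Tv p G v)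
    (hne : Subgroup.zpowers u ≠ Subgroup.zpowers v) :
    ∃ ι ∈ G, ι * u = u * ι ∧ (∀ s ∈ (dlt u).range, ι s = s⁻¹) ∧ ∀ c, u c = c → v c = c → ι c = c := by
  obtain ⟨f, hf, hf1⟩ : ∃ f ∈ (dlt v).range, f ≠ 1 := by
    by_contra h
    push_neg at h
    have := hv.card
    rw [(Subgroup.eq_bot_iff_forall _).2 h, Subgroup.card_bot] at this
    exact hp.out.one_lt.ne this
  have hvf : v f = f := mem_ker.1 (hv.le hf)
  set e1 := u f / f with he1
  have he1m : e1 ∈ (dlt u).range := div_mem_range u f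
  have he11 : e1 ≠ 1 := fun h => hf1 (eq_one_of_mem hA hG hu hv hne hf (div_eq_one.1 h))
  let φ : (dlt u).range → (dlt v).range := fun s => ⟨dlt v s, s, rfl⟩
  have hinj : Function.Injective φ := fun s t h => Subtype.ext <| by
    have h' : dlt v (s : A) = dlt v (t : A) := congrArg Subtype.val h
    refine div_eq_one.1 (eq_one_of_mem hA hG hv hu hne.symm (Subgroup.div_mem _ s.2 t.2) (mem_ker.1 ?_))
    rw [MonoidHom.mem_ker, map_div, h', div_self']
  obtain ⟨⟨e, he⟩, hev⟩ := ((Nat.bijective_iff_injective_and_card φ).2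
    ⟨hinj, hu.card.trans hv.card.symm⟩).2 ⟨f⁻¹, inv_mem hf⟩
  have hve : v e = e * f⁻¹ := by
    have : v e / e = f⁻¹ := congrArg Subtype.val hev
    rw [← this, mul_div_cancel]
  have he0 : e ≠ 1 := fun h => hf1 (by simpa [h] using hve)
  obtain ⟨m, hm⟩ := exists_pow_eq hu.card he1m he11 he
  have hue : ∀ s ∈ (dlt u).range, u s = s := fun s hs => mem_ker.1 (hu.le hs)
  have hupow : ∀ k : ℕ, (u ^ k) f = f * e1 ^ k ∧ ∀ s, u s = s → (u ^ k) s = s := by
    intro k
    induction k with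
    | zero => simp
    | succ k ih =>
      refine ⟨?_, fun s hs => by rw [pow_succ, MulAut.mul_apply, hs, ih.2 s hs]⟩
      rw [pow_succ, MulAut.mul_apply, show u f = f * e1 by rw [he1, mul_div_cancel], map_mul, ih.1,
        ih.2 e1 (hue e1 he1m), pow_succ, mul_assoc]
  set w := u ^ m * v * u ^ m with hw
  have hwe : w e = f⁻¹ := by
    rw [hw, MulAut.mul_apply, MulAut.mul_apply, (hupow m).2 e (hue e he), hve, map_mul, map_inv,
      (hupow m).2 e (hue e he), (hupow m).1, hm]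
    simp
  have hwf : w f = e := by
    rw [hw, MulAut.mul_apply, MulAut.mul_apply, (hupow m).1, hm, map_mul, hvf, hve, mul_comm e,
      mul_inv_cancel_left, (hupow m).2 e (hue e he)]
  have hιe : (w * w) e = e⁻¹ := by rw [MulAut.mul_apply, hwe, map_inv, hwf]
  have hιf : (w * w) f = f⁻¹ := by rw [MulAut.mul_apply, hwf, hwe]
  have hιu : ∀ s ∈ (dlt u).range, (w * w) s = s⁻¹ := fun s hs => by
    obtain ⟨k, rfl⟩ := exists_pow_eq hu.card he he0 hs
    rw [map_pow, hιe, inv_pow]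
  have hιv : ∀ s ∈ (dlt v).range, (w * w) s = s⁻¹ := fun s hs => by
    obtain ⟨k, rfl⟩ := exists_pow_eq hv.card hf hf1 hs
    rw [map_pow, hιf, inv_pow]
  have hιc : ∀ c, u c = c → v c = c → (w * w) c = c := fun c h1 h2 => by
    have : w c = c := by
      rw [hw, MulAut.mul_apply, MulAut.mul_apply, (hupow m).2 c h1, h2, (hupow m).2 c h1]
    rw [MulAut.mul_apply, this, this]
  have hwG : w ∈ G := G.mul_mem (G.mul_mem (G.pow_mem hu.mem m) hv.mem) (G.pow_mem hu.mem m)
  refine ⟨w * w, G.mul_mem hwG hwG, MulEquiv.ext fun x => ?_, hιu, hιc⟩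
  obtain ⟨c, s, t, hc1, hc2, hs, ht, rfl⟩ := decomp_full hA hG hu hv hne x
  have hut : u t = (u t / t) * t := (div_mul_cancel _ _).symm
  have hl : (w * w) (u (s * t * c)) = s⁻¹ * ((u t / t)⁻¹ * t⁻¹) * c := by
    rw [map_mul u, map_mul u, hue s hs, hc1, hut, map_mul, map_mul, map_mul, hιu s hs, hιc c hc1 hc2,
      hιu _ (div_mem_range u t), hιv t ht, mul_div_cancel_right]
  show (w * w) (u (s * t * c)) = u ((w * w) (s * t * c))
  rw [hl, map_mul (w * w), map_mul (w * w), hιu s hs, hιv t ht, hιc c hc1 hc2, map_mul u, map_mul u, map_inv, map_inv,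
    hue s hs, hc1]
  congr 2
  rw [← mul_inv, div_mul_cancel]

end

section Two

variable [Finite A] {G : Subgroup (MulAut A)}

theorem eq_of_zpowers_eq {u v : MulAut A} (hu : Tv 2 G u) (hv : Tv 2 G v)
    (h : Subgroup.zpowers u = Subgroup.zpowers v) : u = v := by
  obtain ⟨k, hk⟩ := Subgroup.mem_zpowers_iff.1 (h.ge (Subgroup.mem_zpowers v))
  have h1 : u ^ (k % (orderOf u : ℤ)) = v := by rw [zpow_mod_orderOf]; exact hk
  rw [hu.ord] at h1
  rcases Int.emod_two_eq k with h2 | h2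
  · rw [Nat.cast_ofNat, h2, zpow_zero] at h1
    have := hv.ord
    rw [← h1, orderOf_one] at this
    omega
  · rwa [Nat.cast_ofNat, h2, zpow_one] at h1

theorem eq_of_mem_two {H : Subgroup A} (hH : Nat.card H = 2) {a b : A} (ha : a ∈ H) (hb : b ∈ H)
    (ha1 : a ≠ 1) (hb1 : b ≠ 1) : a = b := by
  haveI : Fact (Nat.Prime 2) := ⟨Nat.prime_two⟩
  obtain ⟨m, rfl⟩ := exists_pow_eq hH ha ha1 hb
  have h2 : a ^ 2 = 1 := by
    have := congrArg Subtype.val (pow_card_eq_one' (x := (⟨a, ha⟩ : H)))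
    rwa [hH] at this
  rw [← Nat.mod_add_div m 2, pow_add, pow_mul, h2, one_pow, mul_one] at hb1 ⊢
  rcases Nat.mod_two_eq_zero_or_one m with h | h <;> rw [h] at hb1 ⊢
  · exact absurd (pow_zero a) hb1
  · rw [pow_one]

/-- Over `p = 2` there are only three transvections conjugate in `G`. -/
theorem three (hA : IsPGroup 2 A) (hG : SylP 2 G) {u v w : MulAut A} (hu : Tv 2 G u) (hv : Tv 2 G v)
    (hne : u ≠ v) (hw : Tv 2 G w) : w = u ∨ w = v ∨ w = u * v * u := by
  haveI : Fact (Nat.Prime 2) := ⟨Nat.prime_two⟩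
  by_contra hcon
  push_neg at hcon
  obtain ⟨hwu, hwv, hwc⟩ := hcon
  have hzne : ∀ {a b : MulAut A}, Tv 2 G a → Tv 2 G b → a ≠ b → Subgroup.zpowers a ≠ Subgroup.zpowers b :=
    fun ha hb hab h => hab (eq_of_zpowers_eq ha hb h)
  have hinv : ∀ {a : MulAut A}, Tv 2 G a → a⁻¹ = a := fun ha => by
    refine inv_eq_of_mul_eq_one_right ?_
    rw [← pow_two, ← ha.ord, pow_orderOf_eq_one]
  have hex : ∀ {a : MulAut A}, Tv 2 G a → ∃ e ∈ (dlt a).range, e ≠ 1 := fun {a} ha => by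
    by_contra h
    push_neg at h
    have := ha.card
    rw [(Subgroup.eq_bot_iff_forall _).2 h, Subgroup.card_bot] at this
    omega
  obtain ⟨e0, he0, he01⟩ := hex hu
  obtain ⟨e1, he1, he11⟩ := hex hv
  obtain ⟨f, hf, hf1⟩ := hex hw
  have move : ∀ {a b : MulAut A} {e x : A}, Tv 2 G a → Tv 2 G b → a ≠ b → e ∈ (dlt a).range → e ≠ 1 →
      x ∈ (dlt b).range → x ≠ 1 → a x = x * e := by
    intro a b e x ha hb hab he he' hx hx'
    have h1 : a x / x ≠ 1 := fun h => hx' (eq_one_of_mem hA hG ha hb (hzne ha hb hab) hx (div_eq_one.1 h))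
    rw [← eq_of_mem_two ha.card (div_mem_range a x) he h1 he', mul_div_cancel]
  have h1 := move hu hw (Ne.symm hwu) he0 he01 hf hf1
  have h2 := move hv hw (Ne.symm hwv) he1 he11 hf hf1
  have h3 := move hu hv hne he0 he01 he1 he11
  have h4 := move hv hu hne.symm he1 he11 he0 he01
  have sq : ∀ {a : MulAut A} {e : A}, Tv 2 G a → e ∈ (dlt a).range → e * e = 1 := fun {a e} ha he => by
    have := congrArg Subtype.val (pow_card_eq_one' (x := (⟨e, he⟩ : (dlt a).range)))
    rw [ha.card] at this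
    rwa [← pow_two]
  have hfix : (u * v * u⁻¹) f = f := by
    rw [hinv hu, MulAut.mul_apply, MulAut.mul_apply, h1, map_mul, h2, h4, mul_assoc, mul_left_comm e1,
      sq hv he1, mul_one, map_mul, h1, mem_ker.1 (hu.le he0), mul_assoc, sq hu he0, mul_one]
  have hc := hv.conj hu.mem (γ := u)
  have hne' : w ≠ u * v * u⁻¹ := by rwa [hinv hu]
  exact hf1 (eq_one_of_mem hA hG hc hw (hzne hc hw (Ne.symm hne')) hf hfix)

theorem braid (hA : IsPGroup 2 A) (hG : SylP 2 G) {u v : MulAut A} (hu : Tv 2 G u) (hv : Tv 2 G v)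
    (hne : u ≠ v) : v * u * v = u * v * u := by
  haveI : Fact (Nat.Prime 2) := ⟨Nat.prime_two⟩
  have hv2 : v * v = 1 := by rw [← pow_two, ← hv.ord, pow_orderOf_eq_one]
  have hvi : v⁻¹ = v := inv_eq_of_mul_eq_one_right hv2
  have hw : Tv 2 G (v * u * v⁻¹) := hu.conj hv.mem
  rw [hvi] at hw
  rcases three hA hG hu hv hne hw with h | h | h
  · exfalso
    have hne' : Subgroup.zpowers u ≠ Subgroup.zpowers v := fun h => hne (eq_of_zpowers_eq hu hv h)
    obtain ⟨e, he, he1⟩ : ∃ e ∈ (dlt u).range, e ≠ 1 := by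
      by_contra hh
      push_neg at hh
      have := hu.card
      rw [(Subgroup.eq_bot_iff_forall _).2 hh, Subgroup.card_bot] at this
      omega
    have h1 : v e ∈ (dlt u).range := by
      have := map_mem_range_conj (γ := v) he
      rwa [hvi, h] at this
    have h2 : v e / e ∈ (dlt u).range := Subgroup.div_mem _ h1 he
    refine he1 (eq_one_of_mem hA hG hv hu hne'.symm he (div_eq_one.1 ?_))
    exact eq_one_of_mem hA hG hu hv hne' (div_mem_range v e) (mem_ker.1 (hu.le h2))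
  · refine absurd ?_ hne
    calc u = (v * v) * u * (v * v) := by rw [hv2, one_mul, mul_one]
      _ = v * (v * u * v) * v := by group
      _ = v := by rw [h, hv2, one_mul]
  · exact h

/-- Every element of `G` is, modulo `⟨u, v⟩`, an element centralizing `u`. -/
theorem frattini_three (hA : IsPGroup 2 A) (hG : SylP 2 G) {u v : MulAut A} (hu : Tv 2 G u)
    (hv : Tv 2 G v) (hne : u ≠ v) {γ : MulAut A} (hγ : γ ∈ G) :
    ∃ ρ ν : MulAut A, ν ∈ G ∧ γ = ρ * ν ∧ ν * u = u * ν ∧ ∀ c, u c = c → v c = c → ρ c = c := by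
  have hb := braid hA hG hu hv hne
  have hu2 : u * u = 1 := by rw [← pow_two, ← hu.ord, pow_orderOf_eq_one]
  have hv2 : v * v = 1 := by rw [← pow_two, ← hv.ord, pow_orderOf_eq_one]
  have hvi : v⁻¹ = v := inv_eq_of_mul_eq_one_right hv2
  have hui : u⁻¹ = u := inv_eq_of_mul_eq_one_right hu2
  suffices h : ∃ ρ ∈ G, ρ * u * ρ⁻¹ = γ * u * γ⁻¹ ∧ ∀ c, u c = c → v c = c → ρ c = c by
    obtain ⟨ρ, hρ, h1, h2⟩ := h
    refine ⟨ρ, ρ⁻¹ * γ, G.mul_mem (G.inv_mem hρ) hγ, (mul_inv_cancel_left ρ γ).symm, ?_, h2⟩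
    calc ρ⁻¹ * γ * u = ρ⁻¹ * (γ * u * γ⁻¹) * γ := by group
      _ = u * (ρ⁻¹ * γ) := by rw [← h1]; group
  rcases three hA hG hu hv hne (hu.conj hγ) with h | h | h
  · exact ⟨1, one_mem _, by rw [h]; group, fun c _ _ => rfl⟩
  · refine ⟨u * v, G.mul_mem hu.mem hv.mem, ?_, fun c h1 h2 => by rw [MulAut.mul_apply, h2, h1]⟩
    rw [h, mul_inv_rev, hvi, hui]
    calc u * v * u * (v * u) = u * (v * u * v) * u := by group
      _ = (u * u) * v * (u * u) := by rw [hb]; group
      _ = v := by rw [hu2, one_mul, mul_one]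
  · exact ⟨v, hv.mem, by rw [h, hvi, hb], fun c _ h2 => h2⟩

end Two

end CfsgLib.Fus.Trans
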