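import Cfsg.Agent.Fus.Normal
import Cfsg.Agent.Fus.Quotient
import Cfsg.Agent.Fus.Tate
import Cfsg.Agent.Fus.TransAut
import Mathlib.GroupTheory.SpecificGroups.Dihedral

/-!
`p`-groups with centre of index at most `p²`: intermediate subgroups and automizers of the essential ones.
-/

set_option autoImplicit false
set_option linter.style.haveILetI false

open Cfsg Cfsg.FusionSystem
open scoped commutatorElement

namespace CfsgLib.Fus

variable {Ω : Type*} [Group Ω] {S : Subgroup Ω} {F : FusionSystem S} {p : ℕ}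

/-- The centre of `S` inside the ambient group. -/
def Zc (S : Subgroup Ω) : Subgroup Ω := S ⊓ Subgroup.centralizer (S : Set Ω)

theorem Zc_le : Zc S ≤ S := inf_le_left

theorem Zc_comm {z x : Ω} (hz : z ∈ Zc S) (hx : x ∈ S) : x * z = z * x := hz.2 x hx

theorem mem_Zc {z : Ω} (hz : z ∈ S) (h : ∀ x ∈ S, x * z = z * x) : z ∈ Zc S := ⟨hz, h⟩

instance instFiniteZc [Finite S] : Finite ↥(Zc S) := finite_of_le Zc_le

theorem Zc_eq_map : Zc S = (Subgroup.center ↥S).map S.subtype := by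
  ext z
  constructor
  · intro hz
    exact ⟨⟨z, hz.1⟩, Subgroup.mem_center_iff.2 fun g => Subtype.ext (hz.2 g g.2), rfl⟩
  · rintro ⟨c, hc, rfl⟩
    exact ⟨c.2, fun x hx => congrArg Subtype.val (Subgroup.mem_center_iff.1 hc ⟨x, hx⟩)⟩

/-- A centric subgroup contains the centre. -/
theorem Zc_le_centric {P : Subgroup Ω} (hP : F.IsCentric P) : Zc S ≤ P := fun x hx =>
  hP.2 P (isConj_refl hP.1) ⟨hx.1, fun y hy => hx.2 y (hP.1 hy)⟩

/-- Data of a saturated system whose group has centre of index `p²`. -/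
structure Small (p : ℕ) (F : FusionSystem S) : Prop where
  pg : IsPGroup p S
  sat : F.IsSaturated p
  card : Nat.card S = p ^ 2 * Nat.card ↥(Zc S)
  derived : ⁅S, S⁆ ≤ Zc S

theorem small_of_index [Finite S] [hp : Fact p.Prime] (hS : IsPGroup p S) (hF : F.IsSaturated p)
    (hab : ¬ IsMulCommutative ↥S) (hZ : (Subgroup.center ↥S).index ≤ p ^ 2) : Small p F := by
  obtain ⟨k, hk⟩ := hS.index (Subgroup.center ↥S)
  have hnc : ¬ IsCyclic (↥S ⧸ Subgroup.center ↥S) := fun _ => hab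
    ⟨⟨commutative_of_cyclic_center_quotient _ (QuotientGroup.ker_mk' _).le⟩⟩
  have hk2 : k = 2 := by
    rcases Nat.lt_or_ge k 2 with h | h
    · exfalso
      apply hnc
      rcases (by omega : k = 0 ∨ k = 1) with rfl | rfl
      · haveI : Subsingleton (↥S ⧸ Subgroup.center ↥S) :=
          (Nat.card_eq_one_iff_unique.1 (by simpa [Subgroup.index] using hk)).1
        infer_instance
      · exact isCyclic_of_prime_card (p := p) (by simpa [Subgroup.index] using hk)
    · rw [hk] at hZ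
      have := (Nat.pow_le_pow_iff_right hp.out.one_lt).1 hZ
      omega
  subst hk2
  refine ⟨hS, hF, ?_, ?_⟩
  · rw [Zc_eq_map, Subgroup.card_map_of_injective Subtype.val_injective, ← hk, mul_comm,
      Subgroup.card_mul_index]
  · have hq : Nat.card (↥S ⧸ Subgroup.center ↥S) = p ^ 2 := hk
    have hc := IsPGroup.isMulCommutative_of_card_eq_prime_sq hq
    rw [← map_commutator_subtype, Zc_eq_map]
    refine Subgroup.map_mono ?_
    exact Subgroup.Normal.quotient_commutative_iff_commutator_le.1 hc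

theorem comm_mem (hd : ⁅S, S⁆ ≤ Zc S) {x y : Ω} (hx : x ∈ S) (hy : y ∈ S) :
    x * y * x⁻¹ * y⁻¹ ∈ Zc S := by
  rw [← commutatorElement_def]
  exact hd (Subgroup.commutator_mem_commutator hx hy)

/-- Intermediate subgroups. -/
structure Mid (S A : Subgroup Ω) : Prop where
  gt : Zc S < A
  lt : A < S

theorem Mid.le {A : Subgroup Ω} (h : Mid S A) : A ≤ S := h.lt.le

theorem Mid.card [Finite S] [hp : Fact p.Prime] (hs : Small p F) {A : Subgroup Ω} (h : Mid S A) :
    Nat.card A = p * Nat.card ↥(Zc S) := by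
  haveI := finite_of_le h.le
  obtain ⟨a, ha⟩ := IsPGroup.iff_card.1 (hs.pg.to_le h.le)
  obtain ⟨z, hz⟩ := IsPGroup.iff_card.1 (hs.pg.to_le (Zc_le (S := S)))
  have h1 := card_lt_of_lt h.le h.gt
  have h2 := card_lt_of_lt (le_refl S) h.lt
  rw [ha, hz] at h1
  rw [ha, hs.card, hz, ← pow_add] at h2
  have h1' := (Nat.pow_lt_pow_iff_right hp.out.one_lt).1 h1
  have h2' := (Nat.pow_lt_pow_iff_right hp.out.one_lt).1 h2
  rw [ha, hz, show a = 1 + z by omega, pow_add, pow_one]

theorem Mid.comm [Finite S] [Fact p.Prime] (hs : Small p F) {A : Subgroup Ω} (h : Mid S A) {a b : Ω}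
    (ha : a ∈ A) (hb : b ∈ A) : a * b = b * a := by
  by_cases haZ : a ∈ Zc S
  · exact (Zc_comm haZ (h.le hb)).symm
  set M := A ⊓ Subgroup.centralizer ({a} : Set Ω) with hM
  have haM : a ∈ M := ⟨ha, Subgroup.mem_centralizer_singleton_iff.2 rfl⟩
  have hgt : Zc S < M := by
    refine lt_of_le_not_ge (fun z hz => ⟨h.gt.le hz, Subgroup.mem_centralizer_singleton_iff.2
      (Zc_comm hz (h.le ha)).symm⟩) fun hle => haZ (hle haM)
  have hmid : Mid S M := ⟨hgt, lt_of_le_of_lt inf_le_left h.lt⟩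
  haveI := finite_of_le h.le
  have : M = A := Subgroup.eq_of_le_of_card_ge inf_le_left (by rw [h.card hs, hmid.card hs])
  exact (Subgroup.mem_centralizer_singleton_iff.1 (this.ge hb).2).symm

theorem Mid.conj_mem {A : Subgroup Ω} (hd : ⁅S, S⁆ ≤ Zc S) (h : Mid S A) {g a : Ω} (hg : g ∈ S)
    (ha : a ∈ A) : g * a * g⁻¹ ∈ A := by
  have := A.mul_mem (h.gt.le (comm_mem hd hg (h.le ha))) ha
  rwa [inv_mul_cancel_right] at this

theorem Mid.normalizerIn_eq {A : Subgroup Ω} (hd : ⁅S, S⁆ ≤ Zc S) (h : Mid S A) : normalizerIn S A = S :=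
  le_antisymm (normalizerIn_le A) fun g hg => ⟨hg, mem_normalizer_of_conj (fun a ha => h.conj_mem hd hg ha)
    fun a ha => by simpa using h.conj_mem hd (S.inv_mem hg) ha⟩

theorem Mid.centralizerIn_eq [Finite S] [Fact p.Prime] (hs : Small p F) {A : Subgroup Ω} (h : Mid S A) :
    centralizerIn S A = A := by
  refine le_antisymm (fun g hg => ?_) fun a ha => ⟨h.le ha, fun b hb => h.comm hs hb ha⟩
  by_contra hgA
  obtain ⟨a, ha, haZ⟩ := SetLike.exists_of_lt h.gt
  set M := S ⊓ Subgroup.centralizer ({a} : Set Ω) with hM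
  have hAM : A < M := lt_of_le_not_ge (fun b hb => ⟨h.le hb, Subgroup.mem_centralizer_singleton_iff.2
    (h.comm hs hb ha)⟩) fun hle => hgA (hle ⟨hg.1, Subgroup.mem_centralizer_singleton_iff.2 (hg.2 a ha).symm⟩)
  haveI := finite_of_le h.le
  have hMS : M = S := by
    by_contra hne
    have hm : Mid S M := ⟨h.gt.trans hAM, lt_of_le_of_ne inf_le_left hne⟩
    have := card_lt_of_lt hm.le hAM
    rw [h.card hs, hm.card hs] at this
    exact lt_irrefl _ this
  refine haZ (mem_Zc (h.le ha) fun x hx => ?_)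
  exact Subgroup.mem_centralizer_singleton_iff.1 (hMS.ge hx).2

theorem Mid.sup_eq [Finite S] [Fact p.Prime] (hs : Small p F) {A B : Subgroup Ω} (hA : Mid S A)
    (hB : Mid S B) (hne : A ≠ B) : A ⊔ B = S := by
  by_contra h
  have hm : Mid S (A ⊔ B) := ⟨lt_of_lt_of_le hA.gt le_sup_left, lt_of_le_of_ne (sup_le hA.le hB.le) h⟩
  haveI := finite_of_le hm.le
  have h1 : A = A ⊔ B := Subgroup.eq_of_le_of_card_ge le_sup_left (by rw [hA.card hs, hm.card hs])
  have h2 : B = A ⊔ B := Subgroup.eq_of_le_of_card_ge le_sup_right (by rw [hB.card hs, hm.card hs])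
  exact hne (h1.trans h2.symm)

theorem Mid.inf_eq [Finite S] [Fact p.Prime] (hs : Small p F) {A B : Subgroup Ω} (hA : Mid S A)
    (hB : Mid S B) (hne : A ≠ B) : A ⊓ B = Zc S := by
  by_contra h
  have hm : Mid S (A ⊓ B) :=
    ⟨lt_of_le_of_ne (le_inf hA.gt.le hB.gt.le) (Ne.symm h), lt_of_le_of_lt inf_le_left hA.lt⟩
  haveI := finite_of_le hA.le
  haveI := finite_of_le hB.le
  have h1 : A ⊓ B = A := Subgroup.eq_of_le_of_card_ge inf_le_left (by rw [hA.card hs, hm.card hs])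
  have h2 : A ⊓ B = B := Subgroup.eq_of_le_of_card_ge inf_le_right (by rw [hB.card hs, hm.card hs])
  exact hne (h1.symm.trans h2)

/-- The image of an intermediate subgroup under a map on `S`. -/
theorem Mid.img [Finite S] {A : Subgroup Ω} (h : Mid S A) {f : Ω → Ω} (hf : IsMap F S f) :
    Mid S (img f A) := by
  have hi : CfsgLib.Fus.img f S = S := Subgroup.eq_of_le_of_card_ge hf.img_le hf.card_img.ge
  have hz : CfsgLib.Fus.img f (Zc S) = Zc S := by
    haveI := finite_of_le (Zc_le (S := S))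
    refine Subgroup.eq_of_le_of_card_ge (img_le_iff.2 fun z hz => mem_Zc (hf.mem hz.1) fun x hx => ?_)
      ((hf.mono Zc_le).card_img.ge)
    obtain ⟨y, hy, rfl⟩ := hf.mem_img.1 (hi.ge hx)
    rw [← hf.map_mul hy hz.1, Zc_comm hz hy, hf.map_mul hz.1 hy]
  refine ⟨?_, ?_⟩
  · refine lt_of_le_of_ne (hz ▸ img_mono h.gt.le) fun he => ?_
    obtain ⟨a, ha, haZ⟩ := SetLike.exists_of_lt h.gt
    obtain ⟨z, hz', hze⟩ := (hf.mono Zc_le).mem_img.1 (hz.ge (he.ge (mem_img_of_mem (f := f) ha)))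
    exact haZ (hf.inj hz'.1 (h.le ha) hze ▸ hz')
  · refine lt_of_le_of_ne ((hf.mono h.le).img_le) fun he => ?_
    have h1 := (hf.mono h.le).card_img
    rw [he] at h1
    exact absurd h1 (card_lt_of_lt le_rfl h.lt).ne'

theorem derived_map (f : Ω → Ω) (hf : IsMap F S f) {x : Ω} (hx : x ∈ ⁅S, S⁆) : f x ∈ ⁅S, S⁆ := by
  let T : Subgroup Ω :=
    { carrier := {x | x ∈ S ∧ f x ∈ ⁅S, S⁆}
      one_mem' := ⟨S.one_mem, by rw [hf.map_one]; exact one_mem _⟩
      mul_mem' := fun {a b} ha hb => ⟨S.mul_mem ha.1 hb.1, by rw [hf.map_mul ha.1 hb.1]; exact mul_mem ha.2 hb.2⟩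
      inv_mem' := fun {a} ha => ⟨S.inv_mem ha.1, by rw [hf.map_inv ha.1]; exact inv_mem ha.2⟩ }
  suffices h : ⁅S, S⁆ ≤ T from (h hx).2
  refine Subgroup.commutator_le.2 fun a ha b hb => ⟨?_, ?_⟩
  · rw [commutatorElement_def]
    exact S.mul_mem (S.mul_mem (S.mul_mem ha hb) (S.inv_mem ha)) (S.inv_mem hb)
  · rw [commutatorElement_def, hf.map_mul (S.mul_mem (S.mul_mem ha hb) (S.inv_mem ha)) (S.inv_mem hb),
      hf.map_mul (S.mul_mem ha hb) (S.inv_mem ha), hf.map_mul ha hb, hf.map_inv ha, hf.map_inv hb,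
      ← commutatorElement_def]
    exact Subgroup.commutator_mem_commutator (hf.mem ha) (hf.mem hb)

theorem exists_essential [Finite S] [Fact p.Prime] (hS : IsPGroup p S) (hF : F.IsSaturated p)
    (hS1 : S ≠ ⊥) (hcore : F.core = ⊥) : ∃ P, F.IsEssential p P := by
  by_contra h
  push Not at h
  have hn : F.IsNormal S := normal_criterion hS hF fun P hP => by
    rcases hP with rfl | hP
    · exact ⟨le_rfl, fun α _ x hx => autFun_mem α hx⟩
    · exact absurd hP (h P)
  exact hS1 (le_bot_iff.1 (hcore ▸ le_sSup hn))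

theorem small_of_core [Finite S] [hp : Fact p.Prime] (hS : IsPGroup p S) (hF : F.IsSaturated p)
    (hS1 : S ≠ ⊥) (hcore : F.core = ⊥) (hZ : (Subgroup.center ↥S).index ≤ p ^ 2) : Small p F := by
  refine small_of_index hS hF (fun hab => ?_) hZ
  obtain ⟨P, hP⟩ := exists_essential hS hF hS1 hcore
  refine (essential_lt hS hF hP).not_ge fun x hx => hP.1.2 P (isConj_refl hP.1.1) ⟨hx, fun y hy => ?_⟩
  exact congrArg Subtype.val (hab.is_comm.comm ⟨y, hP.1.1 hy⟩ ⟨x, hx⟩)

theorem essential_mid [Finite S] [Fact p.Prime] (hs : Small p F) {P : Subgroup Ω} (hP : F.IsEssential p P) :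
    Mid S P := by
  refine ⟨lt_of_le_of_ne (Zc_le_centric hP.1) fun h => ?_, essential_lt hs.pg hs.sat hP⟩
  have hlt := essential_lt hs.pg hs.sat hP
  refine hlt.not_ge fun x hx => hP.1.2 P (isConj_refl hP.1.1) ⟨hx, fun y hy => ?_⟩
  rw [← h] at hy
  exact (Zc_comm hy hx).symm

/-- The commutative group structure of an abelian subgroup. -/
@[reducible] def commOf {A : Subgroup Ω} (h : ∀ a ∈ A, ∀ b ∈ A, a * b = b * a) : CommGroup ↥A :=
  { (inferInstance : Group ↥A) with mul_comm := fun a b => Subtype.ext (h a a.2 b b.2) }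

/-- The automizer of an essential subgroup. -/
theorem ess_aut [Finite S] [hp : Fact p.Prime] (hs : Small p F) {A : Subgroup Ω} (hA : F.IsEssential p A) :
    letI := commOf (fun _ ha _ hb => (essential_mid hs hA).comm hs ha hb)
    ∃ u : MulAut ↥A, Trans.Tv p (F.autGroup A) u ∧ Trans.SylP p (F.autGroup A) ∧
      (∀ x : A, u x = x ↔ (x : Ω) ∈ Zc S) ∧
      (∀ x : A, x ∈ (Trans.dlt u).range ↔ (x : Ω) ∈ ⁅S, S⁆) ∧
      (∃ γ ∈ F.autGroup A, Subgroup.zpowers (γ * u * γ⁻¹) ≠ Subgroup.zpowers u) ∧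
      ∀ ν ∈ F.autGroup A, ν * u = u * ν → ∃ f, IsMap F S f ∧ ∀ x ∈ A, f x = autFun ν x := by
  letI := commOf (fun _ ha _ hb => (essential_mid hs hA).comm hs ha hb)
  have hm := essential_mid hs hA
  haveI := finite_of_le hm.le
  haveI := finite_mulAut hm.le
  obtain ⟨g, hg, hgA⟩ := SetLike.exists_of_lt hm.lt
  have hcT : Nat.card ↥(autInducedBy S A) = p := by
    have := card_autInducedBy_mul S A
    rw [hm.normalizerIn_eq hs.derived, hm.centralizerIn_eq hs, hs.card, hm.card hs, pow_two, mul_assoc] at this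
    exact Nat.eq_of_mul_eq_mul_right (Nat.mul_pos hp.out.pos Nat.card_pos) this
  have hgn : g ∈ Subgroup.normalizer (A : Set Ω) := ((hm.normalizerIn_eq hs.derived).ge hg).2
  obtain ⟨u, huT, hue⟩ := exists_autInducedBy (K := S) hg hgn
  have hue' : ∀ x : A, ((u x : A) : Ω) = g * x * g⁻¹ := fun x => by
    rw [← autFun_apply u x]; exact hue x x.2
  have hSgen : A ⊔ Subgroup.zpowers g = S := by
    by_contra h
    have hlt : A < A ⊔ Subgroup.zpowers g := lt_of_le_not_ge le_sup_left fun hle =>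
      hgA (hle (Subgroup.mem_sup_right (Subgroup.mem_zpowers g)))
    have hm2 : Mid S (A ⊔ Subgroup.zpowers g) := ⟨hm.gt.trans hlt,
      lt_of_le_of_ne (sup_le hm.le (Subgroup.zpowers_le.2 hg)) h⟩
    have := card_lt_of_lt hm2.le hlt
    rw [hm.card hs, hm2.card hs] at this
    exact lt_irrefl _ this
  have hker : ∀ x : A, u x = x ↔ (x : Ω) ∈ Zc S := fun x => by
    rw [Subtype.ext_iff, hue']
    constructor
    · intro hx
      refine mem_Zc (hm.le x.2) fun y hy => ?_
      have hy' : y ∈ Subgroup.centralizer ({(x : Ω)} : Set Ω) := by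
        refine (sup_le (fun b hb => ?_) (Subgroup.zpowers_le.2 ?_) : A ⊔ Subgroup.zpowers g ≤ _) (hSgen.ge hy)
        · exact Subgroup.mem_centralizer_singleton_iff.2 (hm.comm hs hb x.2)
        · exact Subgroup.mem_centralizer_singleton_iff.2 (mul_inv_eq_iff_eq_mul.1 hx)
      exact Subgroup.mem_centralizer_singleton_iff.1 hy'
    · intro hx
      rw [mul_inv_eq_iff_eq_mul]
      exact Zc_comm hx hg
  have hu1 : u ≠ 1 := fun h => by
    obtain ⟨a, ha, haZ⟩ := SetLike.exists_of_lt hm.gt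
    exact haZ ((hker ⟨a, ha⟩).1 (by rw [h]; rfl))
  have hord : orderOf u = p := by
    have hd : orderOf u ∣ p := hcT ▸ Subgroup.orderOf_dvd_natCard _ huT
    exact ((Nat.dvd_prime hp.out).1 hd).resolve_left fun h => hu1 (orderOf_eq_one_iff.1 h)
  have hdlt : ∀ x : A, ((Trans.dlt u x : A) : Ω) = g * x * g⁻¹ * (x : Ω)⁻¹ := fun x => by
    rw [Trans.dlt_apply, div_eq_mul_inv, Subgroup.coe_mul, hue', Subgroup.coe_inv]
  have hcard : Nat.card (Trans.dlt u).range = p := by
    have h1 := (Trans.dlt u).ker.card_mul_index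
    rw [Subgroup.index_ker] at h1
    have h2 : Nat.card (Trans.dlt u).ker = Nat.card ↥(Zc S) := by
      refine Nat.card_congr
        { toFun := fun x => ⟨(x.1 : Ω), (hker x.1).1 (Trans.mem_ker.1 x.2)⟩
          invFun := fun z => ⟨⟨z, hm.gt.le z.2⟩, Trans.mem_ker.2 ((hker _).2 z.2)⟩
          left_inv := fun x => rfl
          right_inv := fun z => rfl }
    rw [h2, hm.card hs, mul_comm p] at h1
    exact Nat.eq_of_mul_eq_mul_left Nat.card_pos h1
  have hle : (Trans.dlt u).range ≤ (Trans.dlt u).ker := by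
    rintro _ ⟨x, rfl⟩
    rw [Trans.mem_ker, hker, hdlt]
    exact comm_mem hs.derived hg (hm.le x.2)
  have hu : Trans.Tv p (F.autGroup A) u := ⟨autInducedBy_le_autGroup hm.le huT, hord, hle, hcard⟩
  obtain ⟨⟨-, R, hR⟩, hrec⟩ := fullyNormalized_spec hs.pg hs.sat hA.2.1
  have hsyl : Trans.SylP p (F.autGroup A) := fun Q hQ hQp => by
    have h1 : IsPGroup p ↥(Q.subgroupOf (F.autGroup A)) := hQp.of_equiv (Subgroup.subgroupOfEquivOfLe hQ).symm
    obtain ⟨T, hT⟩ := h1.exists_le_sylow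
    have h2 := Subgroup.card_le_of_le hT
    rw [Nat.card_congr (Subgroup.subgroupOfEquivOfLe hQ).toEquiv, T.card_eq_multiplicity, ← R.card_eq_multiplicity,
      hR, Nat.card_congr (Subgroup.subgroupOfEquivOfLe (autInducedBy_le_autGroup hm.le)).toEquiv, hcT] at h2
    exact h2
  have hrange : ∀ x : A, x ∈ (Trans.dlt u).range ↔ (x : Ω) ∈ ⁅S, S⁆ := by
    intro x
    constructor
    · rintro ⟨y, rfl⟩
      rw [hdlt, ← commutatorElement_def]
      exact Subgroup.commutator_mem_commutator hg (hm.le y.2)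
    · intro hx
      set K := (Trans.dlt u).range.map A.subtype with hK
      have hKZ : K ≤ Zc S := by
        rintro _ ⟨w, hw, rfl⟩
        exact (hker w).1 (Trans.mem_ker.1 (hle hw))
      let T : Ω → Subgroup Ω := fun y =>
        { carrier := {s | s ∈ S ∧ ⁅s, y⁆ ∈ K}
          one_mem' := ⟨S.one_mem, by rw [commutatorElement_one_left]; exact one_mem _⟩
          mul_mem' := fun {a b} ha hb => ⟨S.mul_mem ha.1 hb.1, by
            rw [show ⁅a * b, y⁆ = a * ⁅b, y⁆ * a⁻¹ * ⁅a, y⁆ by simp [commutatorElement_def, mul_assoc],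
              Zc_comm (hKZ hb.2) ha.1, mul_inv_cancel_right]
            exact mul_mem hb.2 ha.2⟩
          inv_mem' := fun {a} ha => ⟨S.inv_mem ha.1, by
            rw [show ⁅a⁻¹, y⁆ = a⁻¹ * ⁅a, y⁆⁻¹ * a by simp [commutatorElement_def, mul_assoc],
              Zc_comm (inv_mem (hKZ ha.2)) (S.inv_mem ha.1), inv_mul_cancel_right]
            exact inv_mem ha.2⟩ }
      have hgens : ∀ y, y ∈ S → ⁅g, y⁆ ∈ K → (∀ a ∈ A, ⁅a, y⁆ ∈ K) → S ≤ T y := fun y hy h1 h2 => by
        intro s hs'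
        exact (sup_le (fun a ha => ⟨hm.le ha, h2 a ha⟩) (Subgroup.zpowers_le.2 ⟨hg, h1⟩) :
          A ⊔ Subgroup.zpowers g ≤ T y) (hSgen.ge hs')
      have hgA' : ∀ a ∈ A, ⁅g, a⁆ ∈ K := fun a ha =>
        ⟨_, ⟨⟨a, ha⟩, rfl⟩, by rw [Subgroup.coe_subtype, hdlt, commutatorElement_def]⟩
      have hAg : ∀ a ∈ A, ⁅a, g⁆ ∈ K := fun a ha => by
        rw [← commutatorElement_inv]; exact inv_mem (hgA' a ha)
      have h1 : S ≤ T g := hgens g hg (by rw [commutatorElement_self]; exact one_mem _) hAg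
      have h2 : ∀ a ∈ A, S ≤ T a := fun a ha => hgens a (hm.le ha) (hgA' a ha) fun b hb => by
        rw [commutatorElement_eq_one_iff_commute.2 (hm.comm hs hb ha)]; exact one_mem _
      have h3 : ⁅S, S⁆ ≤ K := Subgroup.commutator_le.2 fun s hs' t ht => by
        refine ((hgens s hs' ?_ fun a ha => ?_) ht).2 |> fun h => by
          rw [← commutatorElement_inv]; exact inv_mem h
        · rw [← commutatorElement_inv]; exact inv_mem (h1 hs').2
        · rw [← commutatorElement_inv]; exact inv_mem (h2 a ha hs').2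
      obtain ⟨w, hw, hwx⟩ := h3 hx
      rwa [← Subtype.ext hwx]
  refine ⟨u, hu, hsyl, hker, hrange, ?_, fun ν hν hcomm => ?_⟩
  · by_contra hall
    push Not at hall
    set U := (Subgroup.zpowers u).subgroupOf (F.autGroup A) with hU
    haveI : U.Normal := ⟨fun n hn γ => by
      rw [hU, Subgroup.mem_subgroupOf] at hn ⊢
      rw [← hall γ γ.2]
      obtain ⟨k, hk⟩ := Subgroup.mem_zpowers_iff.1 hn
      exact ⟨k, by simp [← hk, conj_zpow]⟩⟩
    have hUp : IsPGroup p U :=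
      (IsPGroup.of_card (n := 1) (by rw [Nat.card_zpowers, hord, pow_one])).of_equiv
        (Subgroup.subgroupOfEquivOfLe (Subgroup.zpowers_le.2 hu.mem)).symm
    have h1 := essential_le_inn hA hUp (x := ⟨u, hu.mem⟩) (Subgroup.mem_subgroupOf.2 (Subgroup.mem_zpowers u))
    rw [Subgroup.mem_subgroupOf, inn_eq_autInducedBy] at h1
    obtain ⟨a, ha, hae⟩ := mem_autInducedBy.1 h1
    refine hu1 (aut_ext fun x hx => ?_)
    rw [hae x hx, autFun_one hx, hm.comm hs ha hx, mul_inv_cancel_right]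
  · obtain ⟨f, hf, hfe⟩ := extend_aut hrec hν (N := Subgroup.zpowers g)
      (Subgroup.zpowers_le.2 ((hm.normalizerIn_eq hs.derived).ge hg)) fun g' hg' γ hγ => by
        obtain ⟨k, rfl⟩ := Subgroup.mem_zpowers_iff.1 hg'
        have hγu : γ ∈ Subgroup.zpowers u := by
          have : γ ∈ autInducedBy S A := mem_autInducedBy.2 ⟨_, S.zpow_mem hg k, hγ⟩
          rwa [Subgroup.eq_of_le_of_card_ge (Subgroup.zpowers_le.2 huT) (by rw [Nat.card_zpowers, hord, hcT])]
        obtain ⟨l, rfl⟩ := Subgroup.mem_zpowers_iff.1 hγu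
        rw [((show Commute ν u from hcomm).zpow_right l).eq, mul_inv_cancel_right]
        exact (autInducedBy S A).zpow_mem huT l
    exact ⟨f, hSgen ▸ hf, hfe⟩

/-- Two automorphisms of `S` agreeing on `⁅S, S⁆` and modulo it agree on the centre. -/
theorem agree_Zc [Finite S] [hp : Fact p.Prime] (hs : Small p F) {f f' : Ω → Ω} (hf : IsMap F S f)
    (hf' : IsMap F S f') (h1 : ∀ s ∈ ⁅S, S⁆, f s = f' s)
    (h2 : ∀ z ∈ Zc S, z⁻¹ * f z ∈ ⁅S, S⁆) (h2' : ∀ z ∈ Zc S, z⁻¹ * f' z ∈ ⁅S, S⁆) :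
    ∀ z ∈ Zc S, f z = f' z := by
  haveI := finite_mulAut (le_refl S)
  have himg : ∀ h : Ω → Ω, IsMap F S h → img h S = S := fun h hh =>
    Subgroup.eq_of_le_of_card_ge hh.img_le hh.card_img.ge
  obtain ⟨α, hα, hαe⟩ := exists_aut hf (himg f hf)
  obtain ⟨β, hβ, hβe⟩ := exists_aut hf' (himg f' hf')
  set j := β⁻¹ * α with hj
  have hDS : ⁅S, S⁆ ≤ S := hs.derived.trans Zc_le
  have hjfix : ∀ s ∈ ⁅S, S⁆, autFun j s = s := fun s hsd => by
    rw [hj, autFun_mul _ _ (hDS hsd), hαe _ (hDS hsd), h1 s hsd, ← hβe _ (hDS hsd),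
      autFun_inv_apply' β (hDS hsd)]
  have hjZ : ∀ z ∈ Zc S, z⁻¹ * autFun j z ∈ ⁅S, S⁆ := fun z hz => by
    have ht : (z⁻¹ * f' z)⁻¹ * (z⁻¹ * f z) ∈ ⁅S, S⁆ := mul_mem (inv_mem (h2' z hz)) (h2 z hz)
    obtain ⟨w, hw, hwe⟩ : ∃ w ∈ ⁅S, S⁆, f' w = (z⁻¹ * f' z)⁻¹ * (z⁻¹ * f z) := by
      haveI := finite_of_le hDS
      have he : img f' ⁅S, S⁆ = ⁅S, S⁆ := Subgroup.eq_of_le_of_card_ge
        (img_le_iff.2 fun x hx => derived_map f' hf' hx) (hf'.mono hDS).card_img.ge
      exact (hf'.mono hDS).mem_img.1 (he.ge ht)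
    have he : f' (z * w) = f z := by
      rw [hf'.map_mul hz.1 (hDS hw), hwe]
      simp [mul_assoc]
    have hjz : autFun j z = z * w := by
      rw [hj, autFun_mul _ _ hz.1, hαe _ hz.1, ← he, ← hβe _ (S.mul_mem hz.1 (hDS hw)),
        autFun_inv_apply' β (S.mul_mem hz.1 (hDS hw))]
    rw [hjz, inv_mul_cancel_left]; exact hw
  let K : Subgroup (MulAut S) :=
    { carrier := {γ | ∀ z ∈ Zc S, autFun γ z = z}
      one_mem' := fun z hz => autFun_one hz.1
      mul_mem' := fun {a b} ha hb z hz => by rw [autFun_mul _ _ hz.1, hb z hz, ha z hz]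
      inv_mem' := fun {a} ha z hz => by
        conv_lhs => rw [← ha z hz]
        rw [autFun_inv_apply' a hz.1] }
  have hn : j ^ Nat.card S ∈ K := fun z hz => by
    have key : ∀ n : ℕ, autFun (j ^ n) z = z * (z⁻¹ * autFun j z) ^ n := by
      intro n
      induction n with
      | zero => simp [autFun_one hz.1]
      | succ n ih =>
        rw [pow_succ', autFun_mul _ _ hz.1, ih,
          autFun_map_mul j hz.1 (hDS (pow_mem (hjZ z hz) n)), hjfix _ (pow_mem (hjZ z hz) n), pow_succ',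
          ← mul_assoc, ← mul_assoc, mul_inv_cancel, one_mul]
    rw [key, show (z⁻¹ * autFun j z) ^ Nat.card S = 1 from
      congrArg Subtype.val (pow_card_eq_one' (x := (⟨_, hDS (hjZ z hz)⟩ : S))), mul_one]
  obtain ⟨⟨-, R, hR⟩, -⟩ := fullyNormalized_spec hs.pg hs.sat (fullyNormalized_top (F := F))
  rw [← inn_eq_autInducedBy] at hR
  haveI := inn_subgroupOf_autGroup_normal (F := F) S
  set m := ((Inn ↥S).subgroupOf (F.autGroup S)).index with hmdef
  have hjm : j ^ m ∈ K := fun z hz => by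
    have h := Subgroup.pow_index_mem ((Inn ↥S).subgroupOf (F.autGroup S))
      (⟨j, (F.autGroup S).mul_mem ((F.autGroup S).inv_mem hβ) hα⟩ : F.autGroup S)
    rw [Subgroup.mem_subgroupOf, inn_eq_autInducedBy, Subgroup.coe_pow] at h
    obtain ⟨c, hc, hce⟩ := mem_autInducedBy.1 h
    rw [hmdef, inn_eq_autInducedBy]
    refine (hce z hz.1).trans ?_
    rw [hz.2 c hc, mul_inv_cancel_right]
  have hcop : (Nat.card S).Coprime m := by
    obtain ⟨k, hk⟩ := IsPGroup.iff_card.1 hs.pg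
    rw [hk, hmdef, ← hR]
    exact Nat.Coprime.pow_left k (hp.out.coprime_iff_not_dvd.2 R.not_dvd_index)
  have hjK : j ∈ K := by
    have h := Nat.gcd_eq_gcd_ab (Nat.card S) m
    rw [hcop] at h
    have : j ^ (((Nat.card S : ℕ) : ℤ) * Nat.gcdA (Nat.card S) m + (m : ℤ) * Nat.gcdB (Nat.card S) m) ∈ K := by
      rw [zpow_add, zpow_mul, zpow_mul, zpow_natCast, zpow_natCast]
      exact K.mul_mem (K.zpow_mem hn _) (K.zpow_mem hjm _)
    rw [← h] at this
    simpa using this
  intro z hz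
  have := congrArg (autFun β) (hjK z hz)
  rwa [hj, autFun_mul _ _ hz.1, autFun_inv_apply β (autFun_mem α hz.1), hαe _ hz.1, hβe _ hz.1] at this

end CfsgLib.Fus
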