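import Cfsg.Agent.Fus.Centric
import Cfsg.Agent.Fus.Quotient
import Cfsg.Agent.Fus.Generation
import Cfsg.Agent.Fus.Normal
import Cfsg.Agent.Fus.SmallCenterBasic
import Cfsg.Agent.Fus.FunctorCore
import Cfsg.Agent.Inv.DStar
import Cfsg.Prelude.Def_PLocal

/-!
An induction over stabilizers of fully normalized subgroups in a saturated fusion system, bottoming out at the
stabilizer of the Thompson subgroup `J(S)`; the Frattini splitting of a map stabilizing a fully normalized subgroup; quadratic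
elements outside the centralizer of an abelian normal subgroup from Thompson replacement.
-/

set_option autoImplicit false
set_option linter.style.haveILetI false

open Cfsg Cfsg.FusionSystem

namespace CfsgLib.Fus

/-! ### The abelian Thompson subgroup -/

section Thompson

variable {R R' : Type*} [Group R] [Group R']

theorem exists_maxAbelian [Finite R] : ∃ A, A ∈ maxAbelianSubgroups R := by
  obtain ⟨A, hA, hmax⟩ := Set.exists_max_image {A : Subgroup R | IsMulCommutative A} (fun A => Nat.card A)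
    (Set.toFinite _) ⟨⊥, ⟨⟨fun a b => Subsingleton.elim _ _⟩⟩⟩
  exact ⟨A, hA, hmax⟩

/-- An element commuting with an abelian subgroup of maximal order lies in it. -/
theorem mem_maxAbelian [Finite R] {A : Subgroup R} (hA : A ∈ maxAbelianSubgroups R) {z : R}
    (hz : ∀ a ∈ A, a * z = z * a) : z ∈ A := by
  set B := A ⊔ Subgroup.zpowers z with hB
  have hBc : IsMulCommutative B := by
    have hA' : A ≤ Subgroup.centralizer (A : Set R) := fun a ha b hb =>
      congrArg Subtype.val (hA.1.is_comm.comm (⟨b, hb⟩ : A) ⟨a, ha⟩)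
    have h1 : A ≤ Subgroup.centralizer (B : Set R) := Subgroup.le_centralizer_iff.1 (sup_le hA'
      (Subgroup.zpowers_le.2 fun a ha => hz a ha))
    have h2 : Subgroup.zpowers z ≤ Subgroup.centralizer (B : Set R) := by
      refine Subgroup.zpowers_le.2 fun b hb => ?_
      have h : B ≤ Subgroup.centralizer ({z} : Set R) := sup_le
        (fun a ha => Subgroup.mem_centralizer_singleton_iff.2 (hz a ha))
        (Subgroup.zpowers_le.2 (Subgroup.mem_centralizer_singleton_iff.2 rfl))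
      exact Subgroup.mem_centralizer_singleton_iff.1 (h hb)
    exact ⟨⟨fun a b => Subtype.ext ((sup_le h1 h2 : B ≤ _) b.2 a a.2)⟩⟩
  have h := Subgroup.eq_of_le_of_card_ge (le_sup_left : A ≤ B) (hA.2 B hBc)
  exact h ▸ Subgroup.mem_sup_right (Subgroup.mem_zpowers z)

theorem center_le_thompsonA [Finite R] : Subgroup.center R ≤ thompsonSubgroupA R := by
  obtain ⟨A, hA⟩ := exists_maxAbelian (R := R)
  exact fun z hz => le_sSup hA (mem_maxAbelian hA fun a _ => Subgroup.mem_center_iff.1 hz a)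

theorem maxAbelian_map (e : R ≃* R') {A : Subgroup R} (hA : A ∈ maxAbelianSubgroups R) :
    A.map e.toMonoidHom ∈ maxAbelianSubgroups R' := by
  haveI := hA.1
  refine ⟨inferInstance, fun B hB => ?_⟩
  haveI := hB
  rw [Subgroup.card_map_of_injective (f := e.toMonoidHom) e.injective,
    ← Subgroup.card_map_of_injective (f := e.symm.toMonoidHom) e.symm.injective (K := B)]
  exact hA.2 _ inferInstance

theorem thompsonA_map (e : R ≃* R') :
    (thompsonSubgroupA R).map e.toMonoidHom = thompsonSubgroupA R' := by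
  refine le_antisymm ?_ (sSup_le fun B hB => ?_)
  · rw [thompsonSubgroupA, (Subgroup.gc_map_comap _).l_sSup]
    exact iSup₂_le fun A hA => le_sSup (maxAbelian_map e hA)
  · intro b hb
    exact ⟨e.symm b, le_sSup (maxAbelian_map e.symm hB) ⟨b, hb, rfl⟩, e.apply_symm_apply b⟩

end Thompson

variable {Ω : Type*} [Group Ω] {S : Subgroup Ω} {F : FusionSystem S} {p : ℕ}

theorem thompsonAOf_le (R : Subgroup Ω) : thompsonSubgroupAOf R ≤ R := Subgroup.map_subtype_le _

/-- Maps carry Thompson subgroups to Thompson subgroups. -/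
theorem img_thompsonA {X : Subgroup Ω} {f : Ω → Ω} (hf : IsMap F X f) :
    img f (thompsonSubgroupAOf X) = thompsonSubgroupAOf (img f X) := by
  obtain ⟨e, he⟩ := hf.equiv rfl
  have h := thompsonA_map e
  refine le_antisymm (img_le_iff.2 ?_) ?_
  · rintro _ ⟨x, hx, rfl⟩
    exact ⟨e x, h.le ⟨x, hx, rfl⟩, he x⟩
  · rintro _ ⟨y, hy, rfl⟩
    obtain ⟨x, hx, rfl⟩ := h.ge hy
    show ((e x : ↥(img f X)) : Ω) ∈ img f (thompsonSubgroupAOf X)
    rw [he]
    exact mem_img_of_mem ⟨x, hx, rfl⟩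

theorem img_thompsonA_eq {P X : Subgroup Ω} {f : Ω → Ω} (hf : IsMap F P f) (hXP : X ≤ P)
    (hX : img f X = X) : img f (thompsonSubgroupAOf X) = thompsonSubgroupAOf X := by
  rw [img_thompsonA (hf.mono hXP), hX]

/-- If every abelian subgroup of maximal order of `R` lies in `X ≤ R`, the Thompson subgroups agree. -/
theorem thompsonAOf_eq {R X : Subgroup Ω} [Finite R] (hXR : X ≤ R)
    (h : ∀ A ∈ maxAbelianSubgroups R, A.map R.subtype ≤ X) :
    thompsonSubgroupAOf X = thompsonSubgroupAOf R := by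
  haveI : Finite X := Finite.of_injective _ (Subgroup.inclusion_injective hXR)
  obtain ⟨A₀, hA₀⟩ := exists_maxAbelian (R := ↥R)
  have key : ∀ A : Subgroup R, A.map R.subtype ≤ X → ∀ hA : IsMulCommutative A,
      ∃ B : Subgroup X, IsMulCommutative B ∧ Nat.card B = Nat.card A ∧ B.map X.subtype = A.map R.subtype := by
    intro A hAX hA
    haveI := hA
    refine ⟨(A.map R.subtype).subgroupOf X, Subgroup.comap_injective_isMulCommutative _ X.subtype_injective, ?_,
      by rw [Subgroup.subgroupOf_map_subtype, inf_eq_left.2 hAX]⟩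
    rw [Nat.card_congr (Subgroup.subgroupOfEquivOfLe hAX).toEquiv,
        Subgroup.card_map_of_injective R.subtype_injective]
  have up : ∀ B : Subgroup X, IsMulCommutative B →
      ∃ A : Subgroup R, IsMulCommutative A ∧ Nat.card A = Nat.card B ∧ A.map R.subtype = B.map X.subtype := by
    intro B hB
    haveI := hB
    refine ⟨B.map (Subgroup.inclusion hXR), inferInstance,
      Subgroup.card_map_of_injective (Subgroup.inclusion_injective hXR), ?_⟩
    rw [Subgroup.map_map]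
    rfl
  obtain ⟨B₀, hB₀, hB₀c, -⟩ := key A₀ (h A₀ hA₀) hA₀.1
  refine le_antisymm ?_ ?_
  · rintro _ ⟨x, hx, rfl⟩
    have hle : thompsonSubgroupA X ≤ (thompsonSubgroupAOf R).comap X.subtype := sSup_le fun B hB => by
      obtain ⟨A, hA, hAc, hAm⟩ := up B hB.1
      rw [← Subgroup.map_le_iff_le_comap, ← hAm]
      refine Subgroup.map_mono (le_sSup ⟨hA, fun C hC => ?_⟩)
      calc Nat.card C ≤ Nat.card A₀ := hA₀.2 C hC
        _ = Nat.card B₀ := hB₀c.symm
        _ ≤ Nat.card B := hB.2 _ hB₀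
        _ = Nat.card A := hAc.symm
    exact hle hx
  · rintro _ ⟨x, hx, rfl⟩
    have hle : thompsonSubgroupA R ≤ (thompsonSubgroupAOf X).comap R.subtype := sSup_le fun A hA => by
      obtain ⟨B, hB, hBc, hBm⟩ := key A (h A hA) hA.1
      rw [← Subgroup.map_le_iff_le_comap, ← hBm]
      refine Subgroup.map_mono (le_sSup ⟨hB, fun C hC => ?_⟩)
      obtain ⟨C', hC', hC'c, -⟩ := up C hC
      calc Nat.card C = Nat.card C' := hC'c.symm
        _ ≤ Nat.card A := hA.2 _ hC'
        _ = Nat.card B := hBc.symm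
    exact hle hx

/-- An element acting quadratically, outside the centralizer of a normal abelian subgroup `W`, when some abelian subgroup of
maximal order does not centralize `W`: it acts with `p`-th power trivial, so it fixes the `p`-th powers. -/
theorem exists_quadratic [hp : Fact p.Prime] {R W : Subgroup Ω} [Finite R] (hR : IsPGroup p R) (hWR : W ≤ R)
    (hWn : R ≤ Subgroup.normalizer (W : Set Ω)) (hWc : ∀ a ∈ W, ∀ b ∈ W, a * b = b * a)
    {A : Subgroup R} (hA : A ∈ maxAbelianSubgroups R)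
    (hAW : ¬ A.map R.subtype ≤ Subgroup.centralizer (W : Set Ω)) :
    ∃ g ∈ R, g ∉ Subgroup.centralizer (W : Set Ω) ∧ (∀ w ∈ W, g ^ p * w * (g ^ p)⁻¹ = w) ∧
      (∀ w ∈ W, Commute (g * w * g⁻¹ * w⁻¹) g) ∧ ∀ w ∈ W, g * w ^ p * g⁻¹ = w ^ p := by
  set D := W.subgroupOf R with hD
  haveI hDn : D.Normal := (Subgroup.normal_subgroupOf_iff_le_normalizer hWR).2 hWn
  have hDc : IsMulCommutative D := ⟨⟨fun a b => Subtype.ext (Subtype.ext (hWc _ a.2 _ b.2))⟩⟩
  let bad : Set (Subgroup R) :=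
    {B | B ∈ maxAbelianSubgroups R ∧ ¬ B.map R.subtype ≤ Subgroup.centralizer (W : Set Ω)}
  obtain ⟨B, ⟨hB, hBW⟩, hBmax⟩ := Set.exists_max_image bad (fun B => Nat.card ↥(B ⊓ D)) (Set.toFinite _)
    ⟨A, hA, hAW⟩
  have hDB : D ≤ Subgroup.normalizer (B : Set R) := by
    by_contra hn
    obtain ⟨B', hB', hB'n, -, hlt⟩ := CfsgLib.Inv.replacement hR hDn hDc hB hn
    have hB'W : B'.map R.subtype ≤ Subgroup.centralizer (W : Set Ω) := by
      by_contra h'
      exact (lt_of_not_ge fun hle => hlt.ne (Subgroup.eq_of_le_of_card_ge hlt.le hle)).not_ge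
        (hBmax B' ⟨hB', h'⟩)
    refine hn (le_trans (fun d hd => mem_maxAbelian hB' fun b hb => Subtype.ext ?_) hB'n)
    exact ((hB'W ⟨b, hb, rfl⟩) _ hd).symm
  obtain ⟨_, ⟨g₀, hg₀, rfl⟩, hg₀W⟩ := SetLike.not_le_iff_exists.1 hBW
  -- the commutators with `g₀` are fixed by `g₀`
  have hquad : ∀ w ∈ W, Commute ((g₀ : Ω) * w * (g₀ : Ω)⁻¹ * w⁻¹) g₀ := by
    intro w hw
    have h1 : g₀ * (⟨w, hWR hw⟩ : R) * g₀⁻¹ * (⟨w, hWR hw⟩ : R)⁻¹ ∈ B := by
      have h2 := (Subgroup.mem_normalizer_iff.1 (hDB (show (⟨w, hWR hw⟩ : R) ∈ D from hw)) _).1 (B.inv_mem hg₀)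
      rw [mul_assoc g₀, mul_assoc g₀]
      exact B.mul_mem hg₀ h2
    exact congrArg Subtype.val (congrArg Subtype.val (hB.1.is_comm.comm (⟨_, h1⟩ : B) ⟨g₀, hg₀⟩))
  have hmemW : ∀ x ∈ R, ∀ w ∈ W, x * w * x⁻¹ ∈ W := fun x hx w hw => conj_mem_of_normalizer (hWn hx) hw
  -- the powers of `g₀`
  have hpow : ∀ (k : ℕ) (w : Ω), w ∈ W →
      (g₀ : Ω) ^ k * w * ((g₀ : Ω) ^ k)⁻¹ = ((g₀ : Ω) * w * (g₀ : Ω)⁻¹ * w⁻¹) ^ k * w := by
    intro k w hw
    set c := (g₀ : Ω) * w * (g₀ : Ω)⁻¹ * w⁻¹ with hc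
    induction k with
    | zero => simp
    | succ k ih =>
      have h3 : (g₀ : Ω) * c ^ k = c ^ k * g₀ := ((hquad w hw).pow_left k).eq.symm
      calc (g₀ : Ω) ^ (k + 1) * w * ((g₀ : Ω) ^ (k + 1))⁻¹
          = g₀ * ((g₀ : Ω) ^ k * w * ((g₀ : Ω) ^ k)⁻¹) * (g₀ : Ω)⁻¹ := by rw [pow_succ']; group
        _ = g₀ * c ^ k * w * (g₀ : Ω)⁻¹ := by rw [ih]; group
        _ = c ^ k * (g₀ * w * (g₀ : Ω)⁻¹) := by rw [h3]; group
        _ = c ^ k * (c * w) := by rw [hc]; group
        _ = c ^ (k + 1) * w := by rw [← mul_assoc, pow_succ]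
  -- the last power moving `W`
  obtain ⟨n, hn⟩ := hR g₀
  have hn' : (g₀ : Ω) ^ p ^ n = 1 := congrArg Subtype.val hn
  obtain ⟨k, hk, hk'⟩ : ∃ k, (g₀ : Ω) ^ k ∉ Subgroup.centralizer (W : Set Ω) ∧
      ((g₀ : Ω) ^ k) ^ p ∈ Subgroup.centralizer (W : Set Ω) := by
    have h : (g₀ : Ω) ^ p ^ n ∈ Subgroup.centralizer (W : Set Ω) := by rw [hn']; exact one_mem _
    clear hn hn'
    induction n with
    | zero => exact absurd (by simpa using h) hg₀W
    | succ n ih =>
      by_cases h' : (g₀ : Ω) ^ p ^ n ∈ Subgroup.centralizer (W : Set Ω)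
      · exact ih h'
      · exact ⟨_, h', by rw [← pow_mul, ← pow_succ]; exact h⟩
  have hfix : ∀ w ∈ W, ((g₀ : Ω) ^ k) ^ p * w * (((g₀ : Ω) ^ k) ^ p)⁻¹ = w := fun w hw => by
    rw [← hk' w hw, mul_inv_cancel_right]
  refine ⟨(g₀ : Ω) ^ k, R.pow_mem g₀.2 k, hk, hfix, fun w hw => ?_, fun w hw => ?_⟩
  · rw [hpow k w hw, mul_inv_cancel_right]
    exact ((hquad w hw).pow_pow k k)
  · set c := (g₀ : Ω) * w * (g₀ : Ω)⁻¹ * w⁻¹ with hc
    have hcW : c ∈ W := W.mul_mem (hmemW _ g₀.2 w hw) (W.inv_mem hw)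
    have h1 : (c ^ k) ^ p = 1 := by
      have h := hfix w hw
      rw [← pow_mul, hpow (k * p) w hw, pow_mul] at h
      exact mul_eq_right.1 h
    rw [← conj_pow, hpow k w hw, (show Commute (c ^ k) w from hWc _ (W.pow_mem hcW k) _ hw).mul_pow, h1, one_mul]

/-! ### Powers -/

theorem powerClosure_le {W : Subgroup Ω} : powerClosure p 1 W ≤ W :=
  (Subgroup.closure_le _).2 (by rintro _ ⟨x, hx, rfl⟩; exact W.pow_mem hx _)

theorem pow_mem_powerClosure {W : Subgroup Ω} {x : Ω} (hx : x ∈ W) : x ^ p ∈ powerClosure p 1 W :=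
  Subgroup.subset_closure ⟨x, hx, by rw [pow_one]⟩

theorem map_powerClosure {X W W' : Subgroup Ω} {f : Ω → Ω} (hf : IsMap F X f) (hW : W ≤ X)
    (h : ∀ w ∈ W, f w ∈ W') {y : Ω} (hy : y ∈ powerClosure p 1 W) : f y ∈ powerClosure p 1 W' := by
  induction hy using Subgroup.closure_induction with
  | mem y hy =>
    obtain ⟨w, hw, rfl⟩ := hy
    rw [hf.map_pow (hW hw)]
    exact Subgroup.subset_closure ⟨_, h w hw, rfl⟩
  | one => rw [hf.map_one]; exact one_mem _
  | mul a b ha hb iha ihb =>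
    rw [hf.map_mul (hW (powerClosure_le ha)) (hW (powerClosure_le hb))]; exact mul_mem iha ihb
  | inv a ha iha => rw [hf.map_inv (hW (powerClosure_le ha))]; exact InvMemClass.inv_mem iha

/-! ### Splitting a map at a fully normalized subgroup -/

/-- A Sylow subgroup, a normal subgroup and an element: the element is a member of the normal subgroup times a normalizer
element moving a given subgroup into the Sylow subgroup. -/
theorem split_normalizing {G : Type*} [Group G] [Finite G] [Fact p.Prime] (T : Sylow p G) (K : Subgroup G) [K.Normal]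
    {P : Subgroup G} (hP : P ≤ (T : Subgroup G)) {a : G} (ha : ∀ x ∈ P, a * x * a⁻¹ ∈ (T : Subgroup G)) :
    ∃ κ ∈ K, ∃ β : G, a = κ * β ∧ β ∈ Subgroup.normalizer (((T : Subgroup G) ⊓ K : Subgroup G) : Set G) ∧
      ∀ x ∈ P, β * x * β⁻¹ ∈ (T : Subgroup G) := by
  obtain ⟨n, hn, k, hk, hak⟩ := CfsgLib.Glau.frattini (CfsgLib.Glau.syl_top T) (N := K)
    (by rw [Subgroup.normalizer_eq_top_iff.2 inferInstance]) (Subgroup.mem_top a⁻¹)
  set N := Subgroup.normalizer (((T : Subgroup G) ⊓ K : Subgroup G) : Set G) with hN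
  have hTN : (T : Subgroup G) ≤ N := fun t ht => Subgroup.mem_normalizer_fintype fun x hx =>
    ⟨mul_mem (mul_mem ht hx.1) (Subgroup.inv_mem _ ht), ‹K.Normal›.conj_mem x hx.2 t⟩
  set β₀ := k⁻¹ with hβ₀
  set κ₀ := k⁻¹ * n⁻¹ * k with hκ₀
  have hκ₀K : κ₀ ∈ K := by simpa [hκ₀] using ‹K.Normal›.conj_mem n⁻¹ (InvMemClass.inv_mem hn.2) k⁻¹
  have e : a = κ₀ * β₀ := by rw [← inv_inv a, hak, hκ₀, hβ₀]; group
  set M := ((T : Subgroup G) ⊔ K) ⊓ N with hM
  have hQM : P.map (MulAut.conj β₀).toMonoidHom ≤ M := by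
    rintro _ ⟨x, hx, rfl⟩
    refine ⟨?_, N.mul_mem (N.mul_mem (N.inv_mem hk.2) (hTN (hP hx))) (N.inv_mem (N.inv_mem hk.2))⟩
    show β₀ * x * β₀⁻¹ ∈ (T : Subgroup G) ⊔ K
    rw [show β₀ * x * β₀⁻¹ = κ₀⁻¹ * (a * x * a⁻¹) * κ₀ by rw [e]; group]
    exact mul_mem (mul_mem (InvMemClass.inv_mem (Subgroup.mem_sup_right hκ₀K)) (Subgroup.mem_sup_left (ha x hx)))
      (Subgroup.mem_sup_right hκ₀K)
  have hTM : CfsgLib.Glau.Syl p (T : Subgroup G) M :=
    (CfsgLib.Glau.syl_top T).mono (le_inf le_sup_left hTN) le_top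
  obtain ⟨c, hc, hcle⟩ := hTM.exists_conj_le hQM ((T.2.to_le hP).map _)
  obtain ⟨t, ht, k₁, hk₁, htk⟩ := Subgroup.mem_sup_of_normal_right.1 hc.1
  refine ⟨κ₀ * k₁⁻¹, mul_mem hκ₀K (InvMemClass.inv_mem hk₁), k₁ * β₀, by rw [e]; group,
    mul_mem ?_ (InvMemClass.inv_mem hk.2), fun x hx => ?_⟩
  · rw [show k₁ = t⁻¹ * c by rw [← htk]; group]
    exact mul_mem (InvMemClass.inv_mem (hTN ht)) hc.2
  · have h : c * (β₀ * x * β₀⁻¹) * c⁻¹ ∈ (T : Subgroup G) := hcle ⟨_, ⟨x, hx, rfl⟩, rfl⟩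
    rw [show k₁ * β₀ * x * (k₁ * β₀)⁻¹ = t⁻¹ * (c * (β₀ * x * β₀⁻¹) * c⁻¹) * t by rw [← htk]; group]
    exact mul_mem (mul_mem (InvMemClass.inv_mem ht) h) ht

variable [Finite S] [Fact p.Prime]

/-- A map stabilizing a fully normalized `X` is, on `X`, a member of a normal set of automorphisms after a map on a
subgroup also containing the elements inducing members of that set. -/
theorem split_stab (hS : IsPGroup p S) (hF : F.IsSaturated p) {X : Subgroup Ω} (hX : F.IsFullyNormalized X)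
    (K : Subgroup (MulAut X)) (hK : ∀ α ∈ F.autGroup X, ∀ κ ∈ K, α * κ * α⁻¹ ∈ K)
    {P : Subgroup Ω} {f : Ω → Ω} (hf : IsMap F P f) (hXP : X ≤ P) (hPN : P ≤ normalizerIn S X)
    (hfX : img f X = X) {R₁ : Subgroup Ω} (hR₁ : R₁ ≤ normalizerIn S X)
    (hRK : ∀ r ∈ normalizerIn S X, r ∈ R₁ ↔ ∀ γ : MulAut X, (∀ x ∈ X, autFun γ x = r * x * r⁻¹) → γ ∈ K) :
    ∃ g, IsMap F (P ⊔ R₁) g ∧ img g X = X ∧ img g R₁ = R₁ ∧
      ∃ κ ∈ K, κ ∈ F.autGroup X ∧ ∀ x ∈ X, f x = autFun κ (g x) := by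
  obtain ⟨hA, hrec⟩ := fullyNormalized_spec hS hF hX
  haveI := finite_mulAut hX.1
  set A := F.autGroup X with hAdef
  obtain ⟨T, hT⟩ : ∃ T : Sylow p ↥A, (T : Subgroup A) = (autInducedBy S X).subgroupOf A := hA.2
  haveI : (K.subgroupOf A).Normal := ⟨fun a ha b => hK b b.2 a ha⟩
  obtain ⟨α, hαA, hαe⟩ := exists_aut (hf.mono hXP) hfX
  set Pbar := (autInducedBy P X).subgroupOf A
  have hPT : Pbar ≤ (T : Subgroup A) := by
    rw [hT]; exact Subgroup.comap_mono (autInducedBy_mono (hPN.trans inf_le_left))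
  have hαT : ∀ γ ∈ Pbar, (⟨α, hαA⟩ : A) * γ * (⟨α, hαA⟩ : A)⁻¹ ∈ (T : Subgroup A) := by
    intro γ hγ
    rw [hT]
    obtain ⟨r, hr, hre⟩ := mem_autInducedBy.1 hγ
    refine mem_autInducedBy.2 ⟨f r, hf.mem hr, fun x hx => ?_⟩
    show autFun (α * (γ : MulAut X) * α⁻¹) x = _
    simp only [Subgroup.coe_subtype] at hre
    rw [autFun_conj _ _ hx, hre _ (autFun_mem _ hx),
      hαe _ (conj_mem_of_normalizer (hPN hr).2 (autFun_mem _ hx)), hf.map_conj hr (hXP (autFun_mem _ hx)),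
      ← hαe _ (autFun_mem _ hx), autFun_inv_apply α hx]
  obtain ⟨κ, hκ, β, hab, hβN, hβP⟩ := split_normalizing T (K.subgroupOf A) hPT hαT
  -- the elements whose action is carried into `Aut_S(X)`
  set H := ((T : Subgroup A).map A.subtype).comap ((MulAut.conj (β : MulAut X)).toMonoidHom.comp (inducedHom S X))
    with hH
  have hTe : ∀ γ : MulAut X, γ ∈ (T : Subgroup A).map A.subtype ↔ γ ∈ autInducedBy S X := by
    intro γ
    rw [hT, Subgroup.subgroupOf_map_subtype, inf_eq_left.2 (autInducedBy_le_autGroup hX.1)]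
  have hind : ∀ (r : Ω) (hr : r ∈ normalizerIn S X) (γ : MulAut X), (∀ x ∈ X, autFun γ x = r * x * r⁻¹) →
      inducedHom S X ⟨r, hr⟩ = γ := fun r hr γ hγ => aut_ext fun x hx => by
    rw [inducedHom_apply S X _ hx, hγ x hx]
  have hH' : ∀ (r : Ω) (hr : r ∈ normalizerIn S X), (⟨r, hr⟩ : normalizerIn S X) ∈ H ↔
      (β : MulAut X) * inducedHom S X ⟨r, hr⟩ * (β : MulAut X)⁻¹ ∈ autInducedBy S X := by
    intro r hr
    rw [← hTe]
    rfl
  have hR₁H : ∀ r ∈ R₁, ∀ hr : r ∈ normalizerIn S X, (⟨r, hr⟩ : normalizerIn S X) ∈ H := by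
    intro r hr₁ hr
    rw [hH' r hr]
    obtain ⟨γ, hγ, hγe⟩ := exists_autInducedBy (K := S) hr.1 hr.2
    rw [hind r hr γ hγe]
    have hγK := (hRK r hr).1 hr₁ γ hγe
    have hmem : (⟨γ, autInducedBy_le_autGroup hX.1 hγ⟩ : A) ∈ (T : Subgroup A) ⊓ K.subgroupOf A :=
      ⟨hT ▸ hγ, hγK⟩
    have h := ((Subgroup.mem_normalizer_iff.1 hβN _).1 hmem).1
    rw [hT] at h
    exact h
  have hPH : ∀ r ∈ P, ∀ hr : r ∈ normalizerIn S X, (⟨r, hr⟩ : normalizerIn S X) ∈ H := by
    intro r hrP hr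
    rw [hH' r hr]
    obtain ⟨γ, hγ, hγe⟩ := exists_autInducedBy (K := P) hrP hr.2
    rw [hind r hr γ hγe]
    have hmem : (⟨γ, autInducedBy_le_autGroup hX.1 (autInducedBy_mono (hPN.trans inf_le_left) hγ)⟩ : A) ∈ Pbar := hγ
    have h := hβP _ hmem
    rw [hT] at h
    exact h
  have hle : P ⊔ R₁ ≤ H.map (normalizerIn S X).subtype := sup_le
    (fun r hr => ⟨⟨r, hPN hr⟩, hPH r hr _, rfl⟩) (fun r hr => ⟨⟨r, hR₁ hr⟩, hR₁H r hr _, rfl⟩)
  obtain ⟨g, hg, hge⟩ := extend_aut hrec β.2 (sup_le hPN hR₁) fun r hr γ hγ => by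
    obtain ⟨⟨r', hr'⟩, hrH, hre⟩ := hle hr
    simp only [Subgroup.coe_subtype] at hre
    subst hre
    rw [← hind r' hr' γ hγ]
    exact (hH' r' hr').1 hrH
  rw [sup_eq_right.2 (le_sup_of_le_left hXP)] at hg
  have hgX : img g X = X := (img_congr hge).trans (img_autFun _)
  have hgR : img g R₁ = R₁ := by
    haveI := finite_of_le (hR₁.trans inf_le_left)
    refine Subgroup.eq_of_le_of_card_ge (img_le_iff.2 fun r hr => ?_) ((hg.mono le_sup_right).card_img.ge)
    have hgr : g r ∈ normalizerIn S X := by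
      have := hg.map_normalizerIn (le_sup_of_le_left hXP) (le_sup_right (a := P) hr) (hR₁ hr)
      rwa [hgX] at this
    refine (hRK _ hgr).2 fun γ hγ => ?_
    obtain ⟨γ₀, hγ₀, hγ₀e⟩ := exists_autInducedBy (K := S) (hR₁ hr).1 (hR₁ hr).2
    have hγe : γ = (β : MulAut X) * γ₀ * (β : MulAut X)⁻¹ := aut_ext fun x hx => by
      rw [hγ x hx, autFun_conj _ _ hx, hγ₀e _ (autFun_mem _ hx)]
      have hy := autFun_mem (β : MulAut X)⁻¹ hx
      rw [← hge _ (conj_mem_of_normalizer (hR₁ hr).2 hy),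
        hg.map_conj (le_sup_right (a := P) hr) (le_sup_of_le_left hXP hy), hge _ hy,
        autFun_inv_apply (β : MulAut X) hx]
    rw [hγe]
    exact hK _ β.2 _ ((hRK r (hR₁ hr)).1 hr γ₀ hγ₀e)
  refine ⟨g, hg, hgX, hgR, κ, hκ, (κ : A).2, fun x hx => ?_⟩
  rw [← hαe x hx, show α = ((⟨α, hαA⟩ : A) : MulAut X) from rfl, hab, Subgroup.coe_mul, autFun_mul _ _ hx,
    ← hge x hx]

omit [Fact p.Prime] in
/-- Subgroups above a fully centralized subgroup together with its centralizer are centric. -/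
theorem centric_of_centralizer_le {X Y : Subgroup Ω} (hX : F.IsFullyCentralized X) (hXY : X ≤ Y) (hY : Y ≤ S)
    (hC : centralizerIn S X ≤ Y) : F.IsCentric Y := by
  refine ⟨hY, fun Q hQ => ?_⟩
  obtain ⟨h, hh, rfl⟩ := isConj_iff.1 hQ
  haveI := finite_of_le (centralizerIn_le (S := S) (img h X))
  have heq : img h (centralizerIn S X) = centralizerIn S (img h X) :=
    Subgroup.eq_of_le_of_card_ge (hh.img_centralizerIn_le hXY hC)
      ((hh.mono hC).card_img.symm ▸ hX.2 _ (isConj_iff.2 ⟨h, hh.mono hXY, rfl⟩))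
  intro y hy
  have : y ∈ centralizerIn S (img h X) := ⟨hy.1, fun q hq => hy.2 q (img_mono hXY hq)⟩
  rw [← heq] at this
  exact img_mono hC this

omit [Fact p.Prime] in
theorem Zc_le_of_isConj_center {X Y : Subgroup Ω} {f : Ω → Ω} (hX : F.IsCentric X) (hf : IsMap F X f)
    (hY : img f (thompsonSubgroupAOf X) = Y) : Zc S ≤ Y := by
  intro z hz
  have hzX : z ∈ img f X := Zc_le_centric (centric_of_isConj hX (isConj_iff.2 ⟨f, hf, rfl⟩)) hz
  obtain ⟨x, hx, rfl⟩ := hf.mem_img.1 hzX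
  haveI := finite_of_le hX.1
  rw [← hY]
  refine mem_img_of_mem ⟨⟨x, hx⟩, center_le_thompsonA (Subgroup.mem_center_iff.2 fun y => Subtype.ext ?_), rfl⟩
  refine hf.inj (X.mul_mem y.2 hx) (X.mul_mem hx y.2) ?_
  show f ((y : Ω) * x) = f (x * (y : Ω))
  rw [hf.map_mul y.2 hx, hf.map_mul hx y.2]
  exact Zc_comm hz (hf.mem y.2)

omit [Fact p.Prime] in
/-- From automorphism groups of large fully normalized centric subgroups to all maps on large subgroups. -/
theorem maps_ge [Fact p.Prime] (hS : IsPGroup p S) (hF : F.IsSaturated p) (E : FusionSystem S) (m : ℕ)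
    (h : ∀ Q : Subgroup Ω, F.IsFullyNormalized Q → F.IsCentric Q → m ≤ Nat.card ↥Q → F.autGroup Q ≤ E.autGroup Q)
    {P : Subgroup Ω} {f : Ω → Ω} (hf : IsMap F P f) (hP : m ≤ Nat.card ↥P) : IsMap E P f := by
  let E' := subSystem F (fun P f => m ≤ Nat.card ↥P → IsMap E P f)
    (fun P f g hfg hf hm => (hf hm).congr hfg)
    (fun P a hP ha _ => IsMap.conj E hP ha)
    (fun P R f g hf hg h1 h2 hPR hm => (h1 hm).comp (h2 (hm.trans (by
      haveI := finite_of_le hg.le
      rw [← hf.card_img]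
      exact Subgroup.card_le_of_le (img_le_iff.2 hPR)))) hPR)
    (fun P f g hf h1 hg hgf hm => by
      have hfE := h1 (hf.card_img ▸ hm)
      obtain ⟨k, hk, hkl, -, -⟩ := hfE.inv
      exact hk.congr fun y hy => by obtain ⟨x, hx, rfl⟩ := hfE.mem_img.1 hy; rw [hkl x hx, hgf x hx])
  have hle : F ≤ E' := fusion_induction hS hF E' fun R hR big α hα => by
    refine (mem_autGroup hR.1).2 (isMap_subSystem.2 ⟨(mem_autGroup hR.1).1 hα, fun hm => ?_⟩)
    by_cases hc : centralizerIn S R ≤ R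
    · exact (mem_autGroup hR.1).1
        (h R hR (centric_of_fc (fullyCentralized_of_fullyNormalized hS hF hR) hc) hm hα)
    obtain ⟨g, hg, hge⟩ := extend_aut (fullyNormalized_spec hS hF hR).2 hα (N := centralizerIn S R)
      (centralizerIn_le_normalizerIn R) fun r hr γ hγ => by
        have hγ1 : γ = 1 := aut_ext fun x hx => by
          rw [hγ x hx, autFun_one hx, ← hr.2 x hx, mul_inv_cancel_right]
        rw [hγ1, mul_one, mul_inv_cancel]
        exact one_mem _
    have hlt : R < R ⊔ centralizerIn S R :=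
      lt_of_le_of_ne le_sup_left fun h => hc (h.ge.trans' le_sup_right)
    have hg' := (isMap_subSystem.1 (big _ hg.le (card_lt_of_lt hg.le hlt) g hg)).2
      (hm.trans (card_lt_of_lt hg.le hlt).le)
    exact (hg'.mono le_sup_left).congr hge
  exact (isMap_subSystem.1 (le_iff.1 hle P f hf)).2 hP

/-- A map stabilizing `R₁` lies in `E` when the maps stabilizing a fully normalized conjugate do, together with the maps on
subgroups as large as its normalizer. -/
theorem stab_of_conj (hS : IsPGroup p S) (hF : F.IsSaturated p) (E : FusionSystem S) {R₁ Y : Subgroup Ω}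
    (hY : F.IsFullyNormalized Y) (hc : F.IsConj R₁ Y)
    (hbig : ∀ f, IsMap F (normalizerIn S R₁) f → IsMap E (normalizerIn S R₁) f)
    (hclaim : ∀ (P : Subgroup Ω) f, IsMap F P f → Y ≤ P → P ≤ normalizerIn S Y → img f Y = Y → IsMap E P f)
    {M : Subgroup Ω} {g : Ω → Ω} (hg : IsMap F M g) (hRM : R₁ ≤ M) (hMN : M ≤ normalizerIn S R₁)
    (hgR : img g R₁ = R₁) : IsMap E M g := by
  obtain ⟨ψ, hψ, hψi, hψN⟩ := exists_normalizer_map_fn hS hF hY hc
  have hψE := hbig ψ hψ
  obtain ⟨χ, hχ, hχl, -, -⟩ := hψE.inv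
  obtain ⟨χ₀, hχ₀, hχ₀l, -, hχ₀i⟩ := (hψ.mono hMN).inv
  have hgM : ∀ x ∈ M, g x ∈ normalizerIn S R₁ := fun x hx => by
    have := hg.map_normalizerIn hRM hx (hMN hx)
    rwa [hgR] at this
  have h1 : ∀ y ∈ img ψ M, χ₀ y ∈ M := fun y hy => hχ₀i.le (mem_img_of_mem hy)
  have hm : IsMap F (img ψ M) ((ψ ∘ g) ∘ χ₀) := hχ₀.comp (hg.comp hψ hgM) h1
  have hmY : img ((ψ ∘ g) ∘ χ₀) Y = Y := by
    have hχY : img χ₀ Y = R₁ := by
      conv_lhs => rw [← hψi]
      rw [← ((hψ.mono hMN).mono hRM).img_comp, img_congr (f := χ₀ ∘ ψ) (g := id) fun x hx => hχ₀l x (hRM hx), img_id]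
    rw [(hχ₀.mono (hψi ▸ img_mono hRM)).img_comp, hχY, (hg.mono hRM).img_comp, hgR, hψi]
  have hmE := hclaim _ _ hm (hψi ▸ img_mono hRM) ((img_mono hMN).trans hψN) hmY
  have himg : ∀ y ∈ img ψ M, ((ψ ∘ g) ∘ χ₀) y ∈ img ψ (normalizerIn S R₁) := fun y hy =>
    mem_img_of_mem (hgM _ (h1 y hy))
  refine (((hψE.mono hMN).comp hmE fun x hx => mem_img_of_mem hx).comp hχ
    fun x hx => himg _ (mem_img_of_mem hx)).congr fun x hx => ?_
  simp only [Function.comp_apply]
  rw [hχ₀l x hx, hχl _ (hgM x hx)]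

/-- `E` contains the maps stabilizing `X` whose sources lie between `X` and its normalizer. -/
def StabIn (F E : FusionSystem S) (X : Subgroup Ω) : Prop :=
  ∀ (P : Subgroup Ω) f, IsMap F P f → X ≤ P → P ≤ normalizerIn S X → img f X = X → IsMap E P f

/-- To get every map into `E` it is enough to have the stabilizer of `J(S)` in `E` and to deduce the stabilizer of each fully
normalized `X ≥ Z(S)` from the maps stabilizing a strictly larger subgroup normalized by `N_S(X)` and from the maps stabilizing a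
centric `X` containing every abelian subgroup of maximal order of `N_S(X)`. -/
theorem stab_induction (hS : IsPGroup p S) (hF : F.IsSaturated p) (E : FusionSystem S)
    (hJ : ∀ (P : Subgroup Ω) f, IsMap F P f → thompsonSubgroupAOf S ≤ P →
      img f (thompsonSubgroupAOf S) = thompsonSubgroupAOf S → IsMap E P f)
    (step : ∀ X : Subgroup Ω, F.IsFullyNormalized X → Zc S ≤ X →
      (∀ R₁ : Subgroup Ω, X < R₁ → R₁ ≤ normalizerIn S X → centralizerIn S X ≤ R₁ →
        normalizerIn S X ≤ normalizerIn S R₁ → ∀ (M : Subgroup Ω) g, IsMap F M g → R₁ ≤ M →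
          M ≤ normalizerIn S X → img g R₁ = R₁ → IsMap E M g) →
      ((∀ A ∈ maxAbelianSubgroups (normalizerIn S X), A.map (normalizerIn S X).subtype ≤ X) →
        centralizerIn S X ≤ X → StabIn F E X) →
      StabIn F E X) : F ≤ E := by
  have key : ∀ (n : ℕ) (X : Subgroup Ω),
      (Nat.card S - Nat.card ↥(normalizerIn S X)) * (Nat.card S + 1) + (Nat.card S - Nat.card ↥X) = n →
      F.IsFullyNormalized X → Zc S ≤ X → StabIn F E X := by
    intro n
    induction n using Nat.strong_induction_on with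
    | _ n ih =>
    intro X hn hX hZX
    have hXS := hX.1
    haveI := finite_of_le hXS
    haveI := finite_of_le (normalizerIn_le (S := S) X)
    have hXR : Nat.card ↥X ≤ Nat.card ↥(normalizerIn S X) := Subgroup.card_le_of_le (le_normalizerIn hXS)
    have hRS : ∀ Y : Subgroup Ω, Nat.card ↥(normalizerIn S Y) ≤ Nat.card S := fun Y =>
      Subgroup.card_le_of_le (normalizerIn_le Y)
    have lex : ∀ Y : Subgroup Ω, Y ≤ S → (Nat.card ↥(normalizerIn S X) < Nat.card ↥(normalizerIn S Y) ∨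
        (Nat.card ↥(normalizerIn S X) ≤ Nat.card ↥(normalizerIn S Y) ∧ Nat.card ↥X < Nat.card ↥Y)) →
        F.IsFullyNormalized Y → Zc S ≤ Y → StabIn F E Y := by
      intro Y hY hlt
      refine ih _ ?_ Y rfl
      rw [← hn]
      have h1 := hRS Y
      have h2 : Nat.card ↥Y ≤ Nat.card S := Subgroup.card_le_of_le hY
      rcases hlt with h | ⟨h, h'⟩
      · have : (Nat.card S - Nat.card ↥(normalizerIn S Y) + 1) * (Nat.card S + 1) ≤
            (Nat.card S - Nat.card ↥(normalizerIn S X)) * (Nat.card S + 1) :=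
          Nat.mul_le_mul_right _ (by omega)
        rw [Nat.add_mul, one_mul] at this
        omega
      · have : (Nat.card S - Nat.card ↥(normalizerIn S Y)) * (Nat.card S + 1) ≤
            (Nat.card S - Nat.card ↥(normalizerIn S X)) * (Nat.card S + 1) :=
          Nat.mul_le_mul_right _ (by omega)
        omega
    have hbig : ∀ P f, IsMap F P f → Nat.card ↥X < Nat.card ↥P →
        Nat.card ↥(normalizerIn S X) ≤ Nat.card ↥P → IsMap E P f := fun P f hf h1 h2 => by
      refine maps_ge hS hF E (max (Nat.card ↥X + 1) (Nat.card ↥(normalizerIn S X))) (fun Q hQ hQc hm => ?_) hf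
        (max_le h1 h2)
      haveI := finite_of_le (normalizerIn_le (S := S) Q)
      have hQN : Nat.card ↥Q ≤ Nat.card ↥(normalizerIn S Q) := Subgroup.card_le_of_le (le_normalizerIn hQ.1)
      have hst := lex Q hQ.1 (Or.inr ⟨((le_max_right _ _).trans hm).trans hQN, (le_max_left _ _).trans hm⟩) hQ
        (Zc_le_centric hQc)
      exact (autGroup_le_iff hQ.1 hQ.1).2 fun f hf hfi => hst Q f hf le_rfl (le_normalizerIn hQ.1) hfi
    refine step X hX hZX (fun R₁ hlt hR₁ hC hNN M g hg hRM hMN hgR => ?_) fun hA hC => ?_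
    · haveI := finite_of_le (normalizerIn_le (S := S) R₁)
      have hR₁S : R₁ ≤ S := hR₁.trans inf_le_left
      have hR₁c : F.IsCentric R₁ := centric_of_centralizer_le
        (fullyCentralized_of_fullyNormalized hS hF hX) hlt.le hR₁S hC
      obtain ⟨Y, hXY, hY⟩ := exists_fullyNormalized (F := F) hR₁S
      have hN1 : Nat.card ↥(normalizerIn S X) ≤ Nat.card ↥(normalizerIn S R₁) := Subgroup.card_le_of_le hNN
      have hN2 : Nat.card ↥(normalizerIn S R₁) ≤ Nat.card ↥(normalizerIn S Y) :=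
        hY.2 _ (isConj_symm hXY)
      have hcard : Nat.card ↥X < Nat.card ↥Y := by
        rw [card_eq_of_isConj hXY]; exact card_lt_of_lt hR₁S hlt
      refine stab_of_conj hS hF E hY hXY (fun f hf => hbig _ f hf ?_ hN1)
        (lex Y hY.1 (Or.inr ⟨hN1.trans hN2, hcard⟩) hY (Zc_le_centric (centric_of_isConj hR₁c hXY))) hg hRM
        (hMN.trans hNN) hgR
      exact lt_of_lt_of_le (card_lt_of_lt hR₁S hlt) (Subgroup.card_le_of_le (le_normalizerIn hR₁S))
    · intro P f hf hXP hPN hfX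
      set R := normalizerIn S X with hR
      set J := thompsonSubgroupAOf X with hJdef
      have hJR : J = thompsonSubgroupAOf R := thompsonAOf_eq (le_normalizerIn hXS) hA
      have hJP : J ≤ P := (thompsonAOf_le X).trans hXP
      have hfJ : img f J = J := img_thompsonA_eq hf hXP hfX
      by_cases hRS' : R = S
      · rw [hJR, hRS'] at hJP hfJ
        exact hJ P f hf hJP hfJ
      have hXc : F.IsCentric X := centric_of_fc (fullyCentralized_of_fullyNormalized hS hF hX) hC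
      have hJS : J ≤ S := (thompsonAOf_le X).trans hXS
      have hlt : R < normalizerIn S R := lt_normalizerIn hS (lt_of_le_of_ne inf_le_left hRS')
      have hNJ : normalizerIn S R ≤ normalizerIn S J := by
        have hmem : ∀ a ∈ normalizerIn S R, ∀ y ∈ J, a * y * a⁻¹ ∈ J := by
          intro a ha y hy
          have hm : IsMap F R (conjF a) := IsMap.conj F (normalizerIn_le X) ha.1
          have hRi : img (conjF a) R = R := Subgroup.eq_of_le_of_card_ge
            (img_le_iff.2 fun x hx => conj_mem_of_normalizer ha.2 hx) hm.card_img.ge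
          have h := img_thompsonA_eq hm le_rfl hRi
          rw [← hJR] at h
          exact h.le (mem_img_of_mem hy)
        refine fun a ha => ⟨ha.1, mem_normalizer_of_conj (hmem a ha) fun y hy => ?_⟩
        simpa using hmem a⁻¹ (InvMemClass.inv_mem ha) y hy
      have hRJ : R ≤ normalizerIn S J := hlt.le.trans hNJ
      haveI := finite_of_le (normalizerIn_le (S := S) J)
      have hcardlt : Nat.card ↥R < Nat.card ↥(normalizerIn S J) :=
        (card_lt_of_lt (normalizerIn_le R) hlt).trans_le (Subgroup.card_le_of_le hNJ)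
      obtain ⟨Y, hJY, hY⟩ := exists_fullyNormalized (F := F) hJS
      have hZY : Zc S ≤ Y := by
        obtain ⟨ψ, hψ, hψi, -⟩ := exists_normalizer_map_fn hS hF hY hJY
        exact Zc_le_of_isConj_center hXc (hψ.mono ((le_normalizerIn hXS).trans hRJ)) hψi
      exact stab_of_conj hS hF E hY hJY
        (fun f hf => hbig _ f hf (hXR.trans_lt hcardlt) hcardlt.le)
        (lex Y hY.1 (Or.inl (hcardlt.trans_le (hY.2 _ (isConj_symm hJY)))) hY hZY) hf hJP
        (hPN.trans hRJ) hfJ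
  refine le_iff.2 fun P f hf => maps_ge hS hF E 0 (fun Q hQ hQc _ => ?_) hf (Nat.zero_le _)
  exact (autGroup_le_iff hQ.1 hQ.1).2 fun f hf hfi =>
    key _ Q rfl hQ (Zc_le_centric hQc) Q f hf le_rfl (le_normalizerIn hQ.1) hfi

/-- A saturated system is generated by the maps fixing the `p`-th powers of `Z(S)` and the maps stabilizing `J(S)`. -/
theorem le_of_power_thompson (hS : IsPGroup p S) (hF : F.IsSaturated p) (E : FusionSystem S)
    (hV : ∀ (P : Subgroup Ω) f, IsMap F P f → powerClosure p 1 (Zc S) ≤ P →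
      (∀ v ∈ powerClosure p 1 (Zc S), f v = v) → IsMap E P f)
    (hJ : ∀ (P : Subgroup Ω) f, IsMap F P f → thompsonSubgroupAOf S ≤ P →
      img f (thompsonSubgroupAOf S) = thompsonSubgroupAOf S → IsMap E P f) : F ≤ E := by
  refine stab_induction hS hF E hJ fun X hX hZX big jbase => ?_
  have hXS := hX.1
  haveI := finite_of_le hXS
  set R := normalizerIn S X with hR
  haveI := finite_of_le (normalizerIn_le (S := S) X)
  set W := Zc X with hW
  set V' := powerClosure p 1 W with hV'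
  have hWc : ∀ a ∈ W, ∀ b ∈ W, a * b = b * a := fun a ha b hb => hb.2 a ha.1
  have hV'X : V' ≤ X := powerClosure_le.trans Zc_le
  have hVV : powerClosure p 1 (Zc S) ≤ V' := Subgroup.closure_mono fun y ⟨x, hx, he⟩ =>
    ⟨x, mem_Zc (hZX hx) fun a ha => Zc_comm hx (hXS ha), he⟩
  have haut : ∀ α : MulAut X, α ∈ F.autGroup X → ∀ v ∈ V', autFun α v ∈ V' := by
    intro α hα v hv
    refine map_powerClosure ((mem_autGroup hXS).1 hα) Zc_le (fun w hw => mem_Zc (autFun_mem α hw.1) ?_) hv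
    intro x hx
    rw [← autFun_inv_apply α hx, ← autFun_map_mul α (autFun_mem _ hx) hw.1,
      ← autFun_map_mul α hw.1 (autFun_mem _ hx), Zc_comm hw (autFun_mem _ hx)]
  let K : Subgroup (MulAut X) :=
    { carrier := {κ | ∀ v ∈ V', autFun κ v = v}
      one_mem' := fun v hv => autFun_one (hV'X hv)
      mul_mem' := fun {a b} ha hb v hv => by rw [autFun_mul _ _ (hV'X hv), hb v hv, ha v hv]
      inv_mem' := fun {a} ha v hv => by
        conv_lhs => rw [← ha v hv]
        rw [← autFun_mul _ _ (hV'X hv), inv_mul_cancel, autFun_one (hV'X hv)] }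
  have hK : ∀ α ∈ F.autGroup X, ∀ κ ∈ K, α * κ * α⁻¹ ∈ K := fun α hα κ hκ v hv => by
    rw [autFun_conj _ _ (hV'X hv), hκ _ (haut _ ((F.autGroup X).inv_mem hα) v hv), autFun_inv_apply α (hV'X hv)]
  set R₁ := R ⊓ Subgroup.centralizer (V' : Set Ω) with hR₁
  have hXR₁ : X ≤ R₁ := le_inf (le_normalizerIn hXS) fun x hx v hv =>
    ((powerClosure_le hv).2 x hx).symm
  have hRK : ∀ r ∈ R, r ∈ R₁ ↔ ∀ γ : MulAut X, (∀ x ∈ X, autFun γ x = r * x * r⁻¹) → γ ∈ K := by
    refine fun r hr => ⟨fun h γ hγ v hv => ?_, fun h => ⟨hr, fun v hv => ?_⟩⟩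
    · rw [hγ v (hV'X hv), ← h.2 v hv, mul_inv_cancel_right]
    · obtain ⟨γ, -, hγ⟩ := exists_autInducedBy (K := S) hr.1 hr.2
      have := h γ hγ v hv
      rw [hγ v (hV'X hv), mul_inv_eq_iff_eq_mul] at this
      exact this.symm
  by_cases hlt : X < R₁
  · intro P f hf hXP hPN hfX
    obtain ⟨g, hg, hgX, hgR, κ, hκ, -, hκe⟩ := split_stab hS hF hX K hK hf hXP hPN hfX inf_le_left hRK
    have hNN : R ≤ normalizerIn S R₁ := by
      intro a ha
      have hconj : ∀ a ∈ R, ∀ r ∈ R₁, a * r * a⁻¹ ∈ R₁ := by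
        intro a ha r hr
        refine ⟨R.mul_mem (R.mul_mem ha hr.1) (R.inv_mem ha), fun v hv => ?_⟩
        obtain ⟨γ, hγT, hγ⟩ := exists_autInducedBy (K := S) ha.1 ha.2
        have hv' := haut γ⁻¹ ((F.autGroup X).inv_mem (autInducedBy_le_autGroup hXS hγT)) v hv
        have e : a * autFun γ⁻¹ v * a⁻¹ = v := by
          rw [← hγ _ (hV'X hv'), autFun_inv_apply γ (hV'X hv)]
        have h := hr.2 _ hv'
        calc v * (a * r * a⁻¹) = a * autFun γ⁻¹ v * a⁻¹ * (a * r * a⁻¹) := by rw [e]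
          _ = a * (autFun γ⁻¹ v * r) * a⁻¹ := by group
          _ = a * (r * autFun γ⁻¹ v) * a⁻¹ := by rw [h]
          _ = a * r * a⁻¹ * (a * autFun γ⁻¹ v * a⁻¹) := by group
          _ = a * r * a⁻¹ * v := by rw [e]
      exact ⟨ha.1, mem_normalizer_of_conj (hconj a ha) fun r hr => by simpa using hconj a⁻¹ (InvMemClass.inv_mem ha) r hr⟩
    have hC : centralizerIn S X ≤ R₁ := le_inf (centralizerIn_le_normalizerIn X) fun x hx v hv => hx.2 v (hV'X hv)
    have hgE := (big R₁ hlt inf_le_left hC hNN _ g hg le_sup_right (sup_le hPN inf_le_left) hgR).mono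
      (le_sup_left (b := R₁))
    obtain ⟨k, hk, hkl, -, hki⟩ := (hg.mono (le_sup_left (b := R₁))).inv
    have hγ : IsMap F (img g P) (f ∘ k) := hk.comp hf fun y hy => hki.le (mem_img_of_mem hy)
    have hXg : X ≤ img g P := hgX.symm.le.trans (img_mono hXP)
    have hγE : IsMap E (img g P) (f ∘ k) := hV _ _ hγ ((hVV.trans hV'X).trans hXg) fun v hv => by
      obtain ⟨x, hx, rfl⟩ := ((hg.mono (le_sup_left (b := R₁))).mono hXP).mem_img.1 (hgX.ge (hV'X (hVV hv)))
      rw [Function.comp_apply, hkl x (hXP hx), hκe x hx, hκ _ (hVV hv)]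
    exact (hgE.comp hγE fun x hx => mem_img_of_mem hx).congr fun x hx => by
      rw [Function.comp_apply, Function.comp_apply, hkl x hx]
  · have hR₁X : R₁ ≤ X := (hXR₁.eq_or_lt.resolve_right hlt).ge
    refine jbase (fun A hA => ?_) fun x hx => hR₁X ⟨centralizerIn_le_normalizerIn X hx, fun v hv => hx.2 v (hV'X hv)⟩
    by_cases hAW : A.map R.subtype ≤ Subgroup.centralizer (W : Set Ω)
    · intro a ha
      exact hR₁X ⟨Subgroup.map_subtype_le _ ha, fun v hv => hAW ha v (powerClosure_le hv)⟩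
    exfalso
    have hWR : W ≤ R := Zc_le.trans (le_normalizerIn hXS)
    have hWn : R ≤ Subgroup.normalizer (W : Set Ω) := fun a ha =>
      (inf_le_inf le_rfl le_rfl : Subgroup.normalizer (X : Set Ω) ⊓
        Subgroup.normalizer (Subgroup.centralizer (X : Set Ω) : Set Ω) ≤ _).trans Subgroup.inf_normalizer_le_normalizer_inf
        ⟨ha.2, CfsgLib.Glau.centralizer_normalizer ha.2⟩
    obtain ⟨g, hgR, hgW, -, -, hgfix⟩ := exists_quadratic (hS.to_le (normalizerIn_le X)) hWR hWn hWc hA hAW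
    have hg₁ : g ∈ R₁ := ⟨hgR, fun v hv => by
      have hle : V' ≤ Subgroup.centralizer ({g} : Set Ω) := (Subgroup.closure_le _).2 (by
        rintro _ ⟨w, hw, rfl⟩
        rw [pow_one]
        exact Subgroup.mem_centralizer_singleton_iff.2 (mul_inv_eq_iff_eq_mul.1 (hgfix w hw)).symm)
      exact Subgroup.mem_centralizer_singleton_iff.1 (hle hv)⟩
    exact hgW fun w hw => (Zc_comm hw (hR₁X hg₁)).symm

end CfsgLib.Fus
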