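import Mathlib

/-!
A group of order `2p³` with trivial centralizer in arbitrarily large `PSL(n, p)`.
-/

set_option autoImplicit false
set_option linter.style.haveILetI false
set_option linter.unusedSectionVars false

namespace CfsgLib.Fus.KroneckerBrick

open Matrix

variable (p : ℕ) [hp : Fact p.Prime]

/-- Generalized dihedral group on three copies of `ZMod p`. -/
@[ext] structure GD where
  /-- translation part -/
  v : Fin 3 → ZMod p
  /-- sign -/
  s : ℤˣ

variable {p}

instance : Mul (GD p) := ⟨fun a b => ⟨a.v + ((a.s : ℤ) : ZMod p) • b.v, a.s * b.s⟩⟩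
instance : One (GD p) := ⟨⟨0, 1⟩⟩
instance : Inv (GD p) := ⟨fun a => ⟨-(((a.s : ℤ) : ZMod p) • a.v), a.s⟩⟩

theorem mul_v (a b : GD p) : (a * b).v = a.v + ((a.s : ℤ) : ZMod p) • b.v := rfl
theorem mul_s (a b : GD p) : (a * b).s = a.s * b.s := rfl
theorem one_v : (1 : GD p).v = 0 := rfl
theorem one_s : (1 : GD p).s = 1 := rfl

instance : Group (GD p) where
  mul_assoc a b c := by
    ext1
    · simp only [mul_v, mul_s, Units.val_mul, Int.cast_mul, smul_add, mul_smul, add_assoc]
    · simp only [mul_s, mul_assoc]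
  one_mul a := by ext1 <;> simp [mul_v, mul_s, one_v, one_s]
  mul_one a := by ext1 <;> simp [mul_v, mul_s, one_v, one_s]
  inv_mul_cancel a := by
    ext1
    · show -(((a.s : ℤ) : ZMod p) • a.v) + ((a.s : ℤ) : ZMod p) • a.v = 0
      exact neg_add_cancel _
    · show a.s * a.s = 1
      exact Int.units_mul_self a.s

/-- Underlying pairs. -/
def toPair : GD p ≃ (Fin 3 → ZMod p) × ℤˣ where
  toFun a := (a.v, a.s)
  invFun a := ⟨a.1, a.2⟩
  left_inv _ := rfl
  right_inv _ := rfl

instance : Finite (GD p) := Finite.of_equiv _ (toPair (p := p)).symm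

theorem card_GD : Nat.card (GD p) = 2 * p ^ 3 := by
  rw [Nat.card_congr (toPair (p := p)), Nat.card_prod, Nat.card_fun, Nat.card_zmod, Nat.card_fin,
    Nat.card_eq_fintype_card, Fintype.card_units_int, mul_comm]

variable {d : ℕ}

/-- The shift. -/
def shift (d : ℕ) : Matrix (Fin d) (Fin d) (ZMod p) := fun i j => if (j : ℕ) = i + 1 then 1 else 0

/-- The pencil. -/
def pencil (d : ℕ) (v : Fin 3 → ZMod p) : Matrix (Fin d) (Fin d) (ZMod p) :=
  v 0 • 1 + v 1 • shift d + v 2 • (shift d)ᵀ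

/-- The representation in block form. -/
def rep (d : ℕ) (a : GD p) : Matrix (Fin d ⊕ Fin d) (Fin d ⊕ Fin d) (ZMod p) :=
  fromBlocks 1 0 (pencil d a.v) (((a.s : ℤ) : ZMod p) • 1)

theorem rep_mul (a b : GD p) : rep d (a * b) = rep d a * rep d b := by
  simp only [rep, fromBlocks_multiply, Matrix.one_mul, Matrix.mul_one, Matrix.zero_mul, Matrix.mul_zero,
    add_zero, zero_add, Matrix.smul_mul, mul_v, mul_s, Units.val_mul, Int.cast_mul, smul_smul]
  congr 1
  simp only [pencil, Pi.add_apply, Pi.smul_apply, smul_eq_mul, add_smul, smul_add, smul_smul]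
  abel

theorem det_rep (hd : Even d) (a : GD p) : (rep d a).det = 1 := by
  rw [rep, det_fromBlocks_zero₁₂, det_one, one_mul, det_smul, det_one, mul_one, Fintype.card_fin]
  obtain ⟨k, rfl⟩ := hd
  rw [← two_mul, pow_mul, sq, ← Int.cast_mul, ← Units.val_mul, Int.units_mul_self]
  simp

theorem commutant {P : Matrix (Fin d) (Fin d) (ZMod p)} (h1 : P * shift d = shift d * P)
    (h2 : P * (shift d)ᵀ = (shift d)ᵀ * P) (hd : 0 < d) : P = P ⟨0, hd⟩ ⟨0, hd⟩ • 1 := by
  have e1 : ∀ i j : Fin d, ∀ (hi : (i : ℕ) + 1 < d), ((shift d : Matrix (Fin d) (Fin d) (ZMod p)) * P) i j = P ⟨i + 1, hi⟩ j := by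
    intro i j hi
    rw [mul_apply, Finset.sum_eq_single ⟨i + 1, hi⟩]
    · simp [shift]
    · intro k _ hk; simp [shift, Fin.ext_iff] at hk ⊢; simp [hk]
    · simp
  have e2 : ∀ i j : Fin d, ∀ (hj : 1 ≤ (j : ℕ)), (P * shift (p := p) d) i j = P i ⟨j - 1, by omega⟩ := by
    intro i j hj
    rw [mul_apply, Finset.sum_eq_single ⟨j - 1, by omega⟩]
    · simp only [shift]; rw [if_pos (by omega), mul_one]
    · intro k _ hk
      simp only [shift]
      rw [if_neg, mul_zero]
      exact fun h => hk (Fin.ext (by simp only; omega))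
    · simp
  have e2' : ∀ i j : Fin d, (j : ℕ) = 0 → (P * shift (p := p) d) i j = 0 := by
    intro i j hj
    rw [mul_apply]
    exact Finset.sum_eq_zero fun k _ => by simp [shift, hj]
  have e3 : ∀ i j : Fin d, ∀ (hj : (j : ℕ) + 1 < d), (P * (shift (p := p) d)ᵀ) i j = P i ⟨j + 1, hj⟩ := by
    intro i j hj
    rw [mul_apply, Finset.sum_eq_single ⟨j + 1, hj⟩]
    · simp [shift]
    · intro k _ hk; simp [shift, Fin.ext_iff] at hk ⊢; simp [hk]
    · simp
  have e3' : ∀ i j : Fin d, (i : ℕ) = 0 → ((shift d : Matrix (Fin d) (Fin d) (ZMod p))ᵀ * P) i j = 0 := by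
    intro i j hi
    rw [mul_apply]
    exact Finset.sum_eq_zero fun k _ => by simp [shift, hi]
  ext i j
  obtain ⟨i, hi⟩ := i
  obtain ⟨j, hj⟩ := j
  simp only [Matrix.smul_apply, one_apply, Fin.ext_iff, smul_eq_mul, mul_ite, mul_one, mul_zero]
  induction i generalizing j with
  | zero =>
    rcases j with _ | j
    · simp
    · have h := congrFun (congrFun h2 ⟨0, hi⟩) ⟨j, by omega⟩
      rw [e3 _ _ (show ((⟨j, by omega⟩ : Fin d) : ℕ) + 1 < d from hj), e3' _ _ rfl] at h
      simp [h]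
  | succ i ih =>
    have h := congrFun (congrFun h1 ⟨i, by omega⟩) ⟨j, hj⟩
    rw [e1 _ _ hi] at h
    rcases j with _ | j
    · rw [e2' _ _ rfl] at h; simp [← h]
    · rw [e2 _ _ (by simp)] at h
      rw [← h]
      simpa using ih (by omega) j (by omega)

theorem brick (hp2 : p ≠ 2) (hd : 2 ≤ d) (S : Matrix (Fin d ⊕ Fin d) (Fin d ⊕ Fin d) (ZMod p))
    (hS : S.det ≠ 0) (hc : ∀ a : GD p, ∃ r : ZMod p, S * rep d a = r • (rep d a * S)) :
    ∃ c : ZMod p, S = c • 1 := by
  have h2 : (2 : ZMod p) ≠ 0 := by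
    intro h
    have : ((2 : ℕ) : ZMod p) = 0 := by exact_mod_cast h
    rw [ZMod.natCast_eq_zero_iff] at this
    exact hp2 ((Nat.prime_dvd_prime_iff_eq hp.out Nat.prime_two).1 this)
  haveI : Nonempty (Fin d) := ⟨⟨0, by omega⟩⟩
  obtain ⟨P, Q, R, T, rfl⟩ : ∃ P Q R T, S = fromBlocks P Q R T :=
    ⟨_, _, _, _, (fromBlocks_toBlocks S).symm⟩
  have hM : ∀ v : Fin 3 → ZMod p, ∃ r : ZMod p, P + Q * pencil d v = r • P ∧ R + T * pencil d v = r • (pencil d v * P + R) := by
    intro v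
    obtain ⟨r, hr⟩ := hc ⟨v, 1⟩
    refine ⟨r, ?_⟩
    simp only [rep, Units.val_one, Int.cast_one, one_smul, fromBlocks_multiply, fromBlocks_smul, Matrix.mul_one, Matrix.one_mul,
      Matrix.mul_zero, Matrix.zero_mul, add_zero, zero_add] at hr
    obtain ⟨e1, -, e3, -⟩ := fromBlocks_inj.1 hr
    exact ⟨e1, e3⟩
  have hpen0 : pencil d ![(1 : ZMod p), 0, 0] = 1 := by simp [pencil]
  have hpen1 : pencil d ![(0 : ZMod p), 1, 0] = shift d := by simp [pencil]
  have hpen2 : pencil d ![(0 : ZMod p), 0, 1] = (shift d)ᵀ := by simp [pencil]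
  have hP : P ≠ 0 := by
    intro hP
    obtain ⟨r, e1, -⟩ := hM ![1, 0, 0]
    rw [hP, hpen0, zero_add, Matrix.mul_one, smul_zero] at e1
    refine hS (det_eq_zero_of_row_eq_zero (Sum.inl (Classical.arbitrary (Fin d))) fun j => ?_)
    rcases j with j | j <;> simp [hP, e1]
  obtain ⟨r, hr⟩ := hc ⟨0, -1⟩
  have hp0 : pencil d (0 : Fin 3 → ZMod p) = 0 := by simp [pencil]
  simp only [rep, hp0, Units.val_neg, Units.val_one, Int.cast_neg, Int.cast_one, fromBlocks_multiply, fromBlocks_smul, neg_smul, one_smul,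
    Matrix.mul_neg, Matrix.neg_mul, Matrix.mul_one, Matrix.one_mul, Matrix.mul_zero, Matrix.zero_mul, add_zero, zero_add] at hr
  obtain ⟨e1, e2, e3, -⟩ := fromBlocks_inj.1 hr
  have hr1 : r = 1 := by
    by_contra h
    exact hP ((smul_eq_zero.1 (show (r - 1) • P = 0 by rw [sub_smul, one_smul, ← e1, sub_self])).resolve_left (sub_ne_zero.2 h))
  have hzero : ∀ A : Matrix (Fin d) (Fin d) (ZMod p), A = -A → A = 0 := fun A h => by
    have : (2 : ZMod p) • A = 0 := by rw [two_smul]; nth_rewrite 1 [h]; exact neg_add_cancel A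
    exact (smul_eq_zero.1 this).resolve_left h2
  have hQ : Q = 0 := by rw [hr1, one_smul] at e2; exact hzero Q e2.symm
  have hR : R = 0 := by rw [hr1, one_smul] at e3; exact hzero R e3
  have hTM : ∀ v, T * pencil d v = pencil d v * P := by
    intro v
    obtain ⟨r, e1, e3⟩ := hM v
    rw [hQ, Matrix.zero_mul, add_zero] at e1
    have hr : r = 1 := by
      by_contra h
      exact hP ((smul_eq_zero.1 (show (r - 1) • P = 0 by rw [sub_smul, one_smul, ← e1, sub_self])).resolve_left (sub_ne_zero.2 h))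
    simpa [hR, hr] using e3
  have hT : T = P := by simpa [hpen0] using hTM ![1, 0, 0]
  have h1 := hTM ![0, 1, 0]
  have h3 := hTM ![0, 0, 1]
  rw [hpen1, hT] at h1
  rw [hpen2, hT] at h3
  have hsc := commutant h1 h3 (by omega)
  refine ⟨P ⟨0, by omega⟩ ⟨0, by omega⟩, ?_⟩
  rw [hT, hQ, hR, ← fromBlocks_one, fromBlocks_smul, smul_zero, ← hsc]

theorem rep_scalar (hd : 2 ≤ d) {a : GD p} {c : ZMod p} (hp2 : p ≠ 2) (h : rep d a = c • 1) : a = 1 := by
  rw [rep, ← fromBlocks_one, fromBlocks_smul, smul_zero] at h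
  obtain ⟨e1, -, e3, e4⟩ := fromBlocks_inj.1 h
  have hc : c = 1 := by simpa using (congrFun (congrFun e1 ⟨0, by omega⟩) ⟨0, by omega⟩).symm
  have e00 := congrFun (congrFun e3 ⟨0, by omega⟩) ⟨0, by omega⟩
  have e01 := congrFun (congrFun e3 ⟨0, by omega⟩) ⟨1, by omega⟩
  have e10 := congrFun (congrFun e3 ⟨1, by omega⟩) ⟨0, by omega⟩
  simp [pencil, shift] at e00 e01 e10
  ext1
  · funext i; fin_cases i <;> simp [one_v, e00, e01, e10]
  · have hs := congrFun (congrFun e4 ⟨0, by omega⟩) ⟨0, by omega⟩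
    simp [hc] at hs
    rcases Int.units_eq_one_or a.s with h' | h'
    · exact h'
    · exfalso
      rw [h'] at hs
      simp at hs
      have h2 : ((2 : ℕ) : ZMod p) = 0 := by push_cast; linear_combination -hs
      rw [ZMod.natCast_eq_zero_iff] at h2
      exact hp2 ((Nat.prime_dvd_prime_iff_eq hp.out Nat.prime_two).1 h2)

/-- The map to the special linear group. -/
def hom (d : ℕ) (hd : Even d) : GD p →* SpecialLinearGroup (Fin (d + d)) (ZMod p) :=
  MonoidHom.mk' (fun a => ⟨reindex finSumFinEquiv finSumFinEquiv (rep d a), by rw [det_reindex_self, det_rep hd]⟩)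
    (fun a b => Subtype.ext (by
      show reindex _ _ _ = reindex _ _ _ * reindex _ _ _
      rw [rep_mul]; exact (map_mul (reindexAlgEquiv (ZMod p) (ZMod p) finSumFinEquiv) _ _)))

theorem main (hp2 : p ≠ 2) (N : ℕ) :
    ∃ n, N ≤ n ∧ ∃ φ : GD p →* ProjectiveSpecialLinearGroup (Fin n) (ZMod p),
      Function.Injective φ ∧ Subgroup.centralizer (φ.range : Set (ProjectiveSpecialLinearGroup (Fin n) (ZMod p))) = ⊥ := by
  set d := 2 * N + 2 with hd
  have hde : Even d := ⟨N + 1, by omega⟩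
  have hd2 : 2 ≤ d := by omega
  set π := QuotientGroup.mk' (Subgroup.center (SpecialLinearGroup (Fin (d + d)) (ZMod p)))
  set e := reindexAlgEquiv (ZMod p) (ZMod p) (finSumFinEquiv : Fin d ⊕ Fin d ≃ Fin (d + d))
  have hval : ∀ a, ((hom (p := p) d hde a : SpecialLinearGroup (Fin (d + d)) (ZMod p)) : Matrix _ _ _) = e (rep d a) := fun a => rfl
  refine ⟨d + d, by omega, π.comp (hom d hde), ?_, ?_⟩
  · rw [injective_iff_map_eq_one]
    intro a ha
    obtain ⟨r, -, hr⟩ := Matrix.SpecialLinearGroup.mem_center_iff.1 ((QuotientGroup.eq_one_iff (hom d hde a)).1 ha)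
    refine rep_scalar hd2 hp2 (c := r) (e.injective ?_)
    rw [← hval, map_smul, map_one, ← hr, smul_one_eq_diagonal, scalar_apply]
  · rw [eq_bot_iff]
    intro g hg
    obtain ⟨S, rfl⟩ := QuotientGroup.mk'_surjective _ g
    have hS0 : (e.symm (S : Matrix (Fin (d + d)) (Fin (d + d)) (ZMod p))).det ≠ 0 := by
      simp [e, det_reindexAlgEquiv, S.det_coe]
    obtain ⟨c, hc⟩ := brick hp2 hd2 (e.symm (S : Matrix (Fin (d + d)) (Fin (d + d)) (ZMod p))) hS0 (by
      intro a
      have h := Subgroup.mem_centralizer_iff.1 hg (π (hom d hde a)) ⟨a, rfl⟩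
      rw [← map_mul, ← map_mul] at h
      obtain ⟨z, hz, hz'⟩ := (QuotientGroup.mk'_eq_mk' _).1 h
      obtain ⟨r, -, hr⟩ := Matrix.SpecialLinearGroup.mem_center_iff.1 hz
      refine ⟨r, e.injective ?_⟩
      have h' := congrArg (fun M : SpecialLinearGroup (Fin (d + d)) (ZMod p) => (M : Matrix (Fin (d + d)) (Fin (d + d)) (ZMod p))) hz'
      simp only [Matrix.SpecialLinearGroup.coe_mul, hval, ← hr, scalar_apply, ← smul_one_eq_diagonal, Matrix.mul_smul, Matrix.mul_one] at h'
      rw [map_smul, map_mul, map_mul, e.apply_symm_apply]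
      exact h'.symm)
    rw [Subgroup.mem_bot]
    refine (QuotientGroup.eq_one_iff _).2 (Matrix.SpecialLinearGroup.mem_center_iff.2 ⟨c, ?_, ?_⟩)
    all_goals
      have hc' : (S : Matrix (Fin (d + d)) (Fin (d + d)) (ZMod p)) = c • 1 := by
        rw [← e.apply_symm_apply (S : Matrix (Fin (d + d)) (Fin (d + d)) (ZMod p)), hc, map_smul, map_one]
    · have hdet : (S : Matrix (Fin (d + d)) (Fin (d + d)) (ZMod p)).det = 1 := S.det_coe
      rw [hc', det_smul, det_one, mul_one] at hdet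
      exact hdet
    · rw [hc', scalar_apply, smul_one_eq_diagonal]

end CfsgLib.Fus.KroneckerBrick
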