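import Cfsg.Agent.Fus.StronglyEmbedded
import Cfsg.Agent.Fus.Saturation
import Cfsg.Agent.Solv.FittingBasic
import Cfsg.Agent.Perm.MinClass
import Mathlib.GroupTheory.Nilpotent

/-!
The centralizer of the second centre in a p-group of maximal class is essential when the centre moves.
-/

set_option autoImplicit false
set_option linter.style.haveILetI false
set_option linter.deprecated false

open Cfsg Cfsg.FusionSystem
open scoped commutatorElement

namespace CfsgLib.Fus.MaxClassCent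

section Group

variable {P : Type*} [Group P] [Finite P] {p : ℕ} [hp : Fact p.Prime]

theorem center_mul (hP : IsPGroup p P) {n : ℕ} (hn : Nat.card P = p ^ n) (hn3 : 3 ≤ n)
    (hmax : Subgroup.upperCentralSeries P (n - 2) ≠ ⊤) :
    ∀ i ≤ n - 2, Nat.card (Subgroup.upperCentralSeries P i) = p ^ i := by
  set Z := fun i => Subgroup.upperCentralSeries P i with hZ
  have hne : ∀ i ≤ n - 2, Z i ≠ ⊤ := fun i hi h =>
    hmax (top_le_iff.1 (h.ge.trans (Subgroup.upperCentralSeries_mono P hi)))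
  have hpow : ∀ i, ∃ a, Nat.card (Z i) = p ^ a := fun i => (hP.to_subgroup (Z i)).exists_card_eq
  have hlt : ∀ i, Z i ≠ ⊤ → Nat.card (Z i) * p ≤ Nat.card (Z (i + 1)) := by
    intro i hi
    obtain ⟨a, ha⟩ := hpow i
    obtain ⟨b, hb⟩ := hpow (i + 1)
    have hle : Z i ≤ Z (i + 1) := Subgroup.upperCentralSeries_mono P (Nat.le_succ i)
    have hne' : Z i ≠ Z (i + 1) := by
      intro e
      haveI := Subgroup.nontrivial_iff_ne_bot (⊤ : Subgroup P)
      obtain ⟨g, hg⟩ : ∃ g : P, g ∉ Z i := by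
        by_contra h; push Not at h; exact hi (Subgroup.eq_top_iff' _ |>.2 h)
      haveI : Nontrivial (P ⧸ Z i) := ⟨⟨QuotientGroup.mk g, 1, fun h => hg ((QuotientGroup.eq_one_iff g).1 h)⟩⟩
      haveI := (hP.to_quotient (Z i)).center_nontrivial
      obtain ⟨⟨q, hq⟩, hq1⟩ := exists_ne (1 : Subgroup.center (P ⧸ Z i))
      obtain ⟨x, rfl⟩ := QuotientGroup.mk_surjective q
      refine hq1 (Subtype.ext ((QuotientGroup.eq_one_iff x).2 ?_))
      rw [e]
      refine Subgroup.mem_upperCentralSeries_succ_iff.2 fun y => (QuotientGroup.eq_one_iff _).1 ?_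
      show QuotientGroup.mk' (Z i) ⁅x, y⁆ = 1
      rw [map_commutatorElement, commutatorElement_eq_one_iff_mul_comm]
      exact (Subgroup.mem_center_iff.1 hq _).symm
    have hlt' : Nat.card (Z i) < Nat.card (Z (i + 1)) := lt_of_not_ge fun h =>
      hne' (Subgroup.eq_of_le_of_card_ge hle h)
    rw [ha, hb] at hlt' ⊢
    rw [← pow_succ]
    exact Nat.pow_le_pow_right hp.out.pos ((Nat.pow_lt_pow_iff_right hp.out.one_lt).1 hlt')
  have hlow : ∀ i ≤ n - 2, p ^ i ≤ Nat.card (Z i) := by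
    intro i
    induction i with
    | zero => intro _; simp [hZ]
    | succ i ih =>
      intro hi
      rw [pow_succ]
      exact (Nat.mul_le_mul_right p (ih (by omega))).trans (hlt i (hne i (by omega)))
  have htop : Nat.card (Z (n - 2)) * p ^ 2 ≤ p ^ n := by
    obtain ⟨a, ha⟩ := hpow (n - 2)
    have hidx : Nat.card (Z (n - 2)) * (Z (n - 2)).index = p ^ n := by rw [Subgroup.card_mul_index, hn]
    have h0 : 0 < n - 2 := by omega
    by_contra hlt2
    ·
      have hidx' : (Z (n - 2)).index < p ^ 2 := lt_of_not_ge fun h =>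
        hlt2 (hidx ▸ Nat.mul_le_mul_left _ h)
      have hd : (Z (n - 2)).index ∣ p ^ n := hidx ▸ dvd_mul_left _ _
      obtain ⟨j, -, hj⟩ := (Nat.dvd_prime_pow hp.out).1 hd
      have hj1 : j ≤ 1 := by
        rw [hj] at hidx'
        have := (Nat.pow_lt_pow_iff_right hp.out.one_lt).1 hidx'; omega
      haveI : IsCyclic (P ⧸ Z (n - 2)) := by
        rcases Nat.le_one_iff_eq_zero_or_eq_one.1 hj1 with rfl | rfl
        · haveI : Subsingleton (P ⧸ Z (n - 2)) := Finite.card_le_one_iff_subsingleton.1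
            (by rw [← Subgroup.index_eq_card, hj, pow_zero])
          infer_instance
        · exact isCyclic_of_prime_card (p := p) (by rw [← Subgroup.index_eq_card, hj, pow_one])
      have hk : n - 2 = (n - 3) + 1 := by omega
      have hker : (QuotientGroup.map (Z (n - 3)) (Z (n - 2)) (MonoidHom.id P)
          (Subgroup.upperCentralSeries_mono P (by omega))).ker ≤ Subgroup.center (P ⧸ Z (n - 3)) := by
        intro q hq
        obtain ⟨x, rfl⟩ := QuotientGroup.mk_surjective q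
        have hx : x ∈ Z (n - 2) := (QuotientGroup.eq_one_iff x).1 hq
        rw [Subgroup.mem_center_iff]
        intro r
        obtain ⟨y, rfl⟩ := QuotientGroup.mk_surjective r
        refine ((commutatorElement_eq_one_iff_mul_comm).1 ?_).symm
        show ⁅QuotientGroup.mk' (Z (n - 3)) x, QuotientGroup.mk' (Z (n - 3)) y⁆ = 1
        rw [← map_commutatorElement]
        rw [hk] at hx
        exact (QuotientGroup.eq_one_iff _).2 (Subgroup.mem_upperCentralSeries_succ_iff.1 hx y)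
      have hcomm : ∀ a b : P ⧸ Z (n - 3), a * b = b * a :=
        commutative_of_cyclic_center_quotient _ hker
      refine hne (n - 2) le_rfl ((Subgroup.eq_top_iff' _).2 fun x => ?_)
      rw [hk]
      refine Subgroup.mem_upperCentralSeries_succ_iff.2 fun y => (QuotientGroup.eq_one_iff _).1 ?_
      show QuotientGroup.mk' (Z (n - 3)) ⁅x, y⁆ = 1
      rw [map_commutatorElement, commutatorElement_eq_one_iff_mul_comm]
      exact hcomm _ _
  intro i hi
  refine le_antisymm ?_ (hlow i hi)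
  have hchain : ∀ j, i + j ≤ n - 2 → Nat.card (Z i) * p ^ j ≤ Nat.card (Z (i + j)) := by
    intro j
    induction j with
    | zero => intro _; simp
    | succ j ih =>
      intro hj
      rw [pow_succ, ← mul_assoc, ← add_assoc]
      exact (Nat.mul_le_mul_right p (ih (by omega))).trans (hlt _ (hne _ (by omega)))
  have h1 := hchain (n - 2 - i) (by omega)
  rw [show i + (n - 2 - i) = n - 2 by omega] at h1
  rcases le_or_gt 2 n with hn2 | hn2
  · have h2 : Nat.card (Z i) * p ^ (n - 2 - i) * p ^ 2 ≤ p ^ n := (Nat.mul_le_mul_right _ h1).trans htop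
    rw [mul_assoc, ← pow_add] at h2
    have h3 : p ^ n = p ^ i * p ^ (n - 2 - i + 2) := by rw [← pow_add]; congr 1; omega
    rw [h3] at h2
    exact Nat.le_of_mul_le_mul_right h2 (pow_pos hp.out.pos _)
  · have : i = 0 := by omega
    subst this
    simp [hZ]

end Group

variable {Ω : Type*} [Group Ω] {S : Subgroup Ω} [Finite S] {p : ℕ} [hp : Fact p.Prime]

theorem main (hS : IsPGroup p S) (n : ℕ) (hn : Nat.card S = p ^ n) (h4 : 4 ≤ n)
    (hmax : Subgroup.lowerCentralSeries S (n - 2) ≠ ⊥) (F : FusionSystem S) (hF : F.IsSaturated p)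
    (Z₂ : Subgroup Ω) (hZ₂ : Z₂ = (Subgroup.upperCentralSeries ↥S 2).map S.subtype)
    (φ : ↥Z₂ →* Ω) (hφ : φ ∈ F.Hom Z₂) (hφZ : φ.range = Z₂)
    (hmove : ∃ (z : Ω) (hz : z ∈ Z₂), z ∈ (Subgroup.center ↥S).map S.subtype ∧
      φ ⟨z, hz⟩ ∉ (Subgroup.center ↥S).map S.subtype) :
    F.IsEssential p (S ⊓ Subgroup.centralizer (Z₂ : Set Ω)) := by
  classical
  set Zs := (Subgroup.center ↥S).map S.subtype with hZs
  set A := S ⊓ Subgroup.centralizer (Z₂ : Set Ω) with hA
  have hlow : Subgroup.upperCentralSeries ↥S (n - 2) ≠ ⊤ := by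
    intro h
    refine hmax ?_
    rw [← Subgroup.top_subtype_lowerCentralSeries,
      Subgroup.lowerCentralSeries_eq_bot_iff_upperCentralSeries_eq_top.2 h, Subgroup.map_bot]
  have hZcard : Nat.card Zs = p := by
    rw [hZs, Subgroup.card_map_of_injective S.subtype_injective, ← Subgroup.upperCentralSeries_one,
      center_mul hS hn (by omega) hlow 1 (by omega), pow_one]
  have hZ2card : Nat.card Z₂ = p ^ 2 := by
    rw [hZ₂, Subgroup.card_map_of_injective S.subtype_injective, center_mul hS hn (by omega) hlow 2 (by omega)]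
  have hZ2S : Z₂ ≤ S := hZ₂ ▸ Subgroup.map_subtype_le _
  have hZ2comm : ∀ s ∈ S, ∀ z ∈ Z₂, ⁅s, z⁆ ∈ Zs := by
    intro s hs z hz
    rw [hZ₂] at hz
    obtain ⟨w, hw, rfl⟩ := hz
    have h1 : ⁅w, (⟨s, hs⟩ : S)⁆ ∈ Subgroup.center ↥S := by
      rw [← Subgroup.upperCentralSeries_one]
      exact Subgroup.mem_upperCentralSeries_succ_iff.1 hw _
    refine ⟨⁅(⟨s, hs⟩ : S), w⁆, ?_, map_commutatorElement S.subtype _ _⟩
    rw [← commutatorElement_inv]
    exact inv_mem h1
  have hZcomm : ∀ z ∈ Zs, ∀ s ∈ S, s * z = z * s := by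
    rintro _ ⟨w, hw, rfl⟩ s hs
    exact congrArg Subtype.val (Subgroup.mem_center_iff.1 hw ⟨s, hs⟩)
  have hZ2ab : ∀ a ∈ Z₂, ∀ b ∈ Z₂, a * b = b * a := by
    rw [hZ₂]
    rintro _ ⟨a, ha, rfl⟩ _ ⟨b, hb, rfl⟩
    have hc2 := IsPGroup.commutative_of_card_eq_prime_sq (G := ↥(Subgroup.upperCentralSeries ↥S 2))
      (center_mul hS hn (by omega) hlow 2 (by omega))
    exact congrArg (fun t : ↥(Subgroup.upperCentralSeries ↥S 2) => ((t : S) : Ω))
      (hc2 ⟨a, ha⟩ ⟨b, hb⟩)
  have hZ2A : Z₂ ≤ A := fun z hz => ⟨hZ2S hz, Subgroup.mem_centralizer_iff.2 fun y hy => hZ2ab y hy z hz⟩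
  obtain ⟨z, hz, hzZ, hzmove⟩ := hmove
  have hAS : A < S := by
    refine lt_of_le_of_ne inf_le_left fun h => hzmove ?_
    have hw : φ ⟨z, hz⟩ ∈ Z₂ := hφZ.le ⟨_, rfl⟩
    refine ⟨⟨_, hZ2S hw⟩, Subgroup.mem_center_iff.2 fun s => Subtype.ext ?_, rfl⟩
    exact (Subgroup.mem_centralizer_iff.1 (h.ge s.2).2 _ hw).symm
  have hidx : A.relIndex S = p := by
    obtain ⟨z₂, hz₂, hz₂Z⟩ : ∃ z₂ ∈ Z₂, z₂ ∉ Zs := ⟨_, hφZ.le ⟨⟨z, hz⟩, rfl⟩, hzmove⟩
    have hZle : Zs ≤ Z₂ := by
      rw [hZs, hZ₂, ← Subgroup.upperCentralSeries_one]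
      exact Subgroup.map_mono (Subgroup.upperCentralSeries_mono _ (by omega))
    have hgen : ∀ y ∈ Z₂, y ∈ Zs ⊔ Subgroup.zpowers z₂ := by
      intro y hy
      have hlt : Zs < Zs ⊔ Subgroup.zpowers z₂ := lt_of_le_of_ne le_sup_left fun e =>
        hz₂Z (e ▸ Subgroup.mem_sup_right (Subgroup.mem_zpowers _))
      have hle : Zs ⊔ Subgroup.zpowers z₂ ≤ Z₂ := sup_le hZle (Subgroup.zpowers_le.2 hz₂)
      haveI := CfsgLib.Fus.finite_of_le hZ2S
      haveI := CfsgLib.Fus.finite_of_le (hle.trans hZ2S)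
      have h1 : Nat.card Zs < Nat.card ↥(Zs ⊔ Subgroup.zpowers z₂) := lt_of_not_ge fun h =>
        hlt.ne (Subgroup.eq_of_le_of_card_ge hlt.le h)
      obtain ⟨j, hj, hj'⟩ := (Nat.dvd_prime_pow hp.out).1 (hZ2card ▸ Subgroup.card_dvd_of_le hle)
      rw [hZcard, hj'] at h1
      have : j = 2 := by
        rcases Nat.lt_or_ge j 2 with h | h
        · rcases Nat.le_one_iff_eq_zero_or_eq_one.1 (show j ≤ 1 by omega) with rfl | rfl
          · rw [pow_zero] at h1; have := hp.out.one_lt; omega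
          · rw [pow_one] at h1; omega
        · omega
      rw [Subgroup.eq_of_le_of_card_ge hle (by rw [hZ2card, hj', this])]
      exact hy
    let c : ↥S →* Ω :=
      { toFun := fun s => ⁅(s : Ω), z₂⁆
        map_one' := by simp
        map_mul' := fun s t => by
          have h1 := hZcomm _ (hZ2comm t t.2 z₂ hz₂) s s.2
          have h2 := hZcomm _ (hZ2comm t t.2 z₂ hz₂) ⁅(s : Ω), z₂⁆ (Subgroup.map_subtype_le _ (hZ2comm s s.2 z₂ hz₂))
          rw [h2]
          calc ⁅(s : Ω) * t, z₂⁆ = (s : Ω) * ⁅(t : Ω), z₂⁆ * (s : Ω)⁻¹ * ⁅(s : Ω), z₂⁆ := by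
                simp [commutatorElement_def, mul_assoc]
            _ = _ := by rw [h1, mul_inv_cancel_right] }
    have hker : c.ker = A.subgroupOf S := by
      ext s
      show ⁅(s : Ω), z₂⁆ = 1 ↔ (s : Ω) ∈ A
      rw [commutatorElement_eq_one_iff_mul_comm]
      refine ⟨fun h => ⟨s.2, Subgroup.mem_centralizer_iff.2 fun y hy => ?_⟩, fun h => (Subgroup.mem_centralizer_iff.1 h.2 _ hz₂).symm⟩
      have hle : Zs ⊔ Subgroup.zpowers z₂ ≤ Subgroup.centralizer {(s : Ω)} :=
        sup_le (fun w hw => Subgroup.mem_centralizer_singleton_iff.2 (hZcomm w hw s s.2).symm)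
          (Subgroup.zpowers_le.2 (Subgroup.mem_centralizer_singleton_iff.2 h.symm))
      exact Subgroup.mem_centralizer_singleton_iff.1 (hle (hgen y hy))
    have hne1 : A.relIndex S ≠ 1 := fun h => hAS.not_ge (Subgroup.relIndex_eq_one.1 h)
    have hdvd : A.relIndex S ∣ p := by
      rw [Subgroup.relIndex, ← hker, Subgroup.index_ker, ← hZcard]
      refine Subgroup.card_dvd_of_le ?_
      rintro _ ⟨s, rfl⟩
      exact hZ2comm s s.2 z₂ hz₂
    exact ((Nat.dvd_prime hp.out).1 hdvd).resolve_left hne1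
  have hnormA : S ≤ Subgroup.normalizer (A : Set Ω) := by
    intro s hs
    haveI : (A.subgroupOf S).Normal := Subgroup.normal_of_index_eq_minFac_card (by
      rw [show (A.subgroupOf S).index = p from hidx, hn, Nat.pow_minFac (by omega), hp.out.minFac_eq])
    exact Subgroup.le_normalizer_of_normal_subgroupOf (show A ≤ S from hAS.le) hs
  have hcent : F.IsCentric A := by
    refine ⟨hAS.le, fun Q hQ c hc => ?_⟩
    by_contra hcQ
    obtain ⟨ψ, hψ, rfl⟩ := hQ
    have hQS : ψ.range ≤ S := by rintro _ ⟨x, rfl⟩; exact (F.le_of_mem hψ).2 x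
    haveI := CfsgLib.Fus.finite_of_le hAS.le
    haveI := CfsgLib.Fus.finite_of_le hQS
    have hcardQ : Nat.card ψ.range = Nat.card A :=
      (Nat.card_congr (MonoidHom.ofInjective (F.injective_of_mem hψ)).toEquiv).symm
    set Q := ψ.range with hQdef
    have hQi : (Q.subgroupOf S).index = p := by
      have h1 := Subgroup.card_mul_index (Q.subgroupOf S)
      have h2 := Subgroup.card_mul_index (A.subgroupOf S)
      rw [Nat.card_congr (Subgroup.subgroupOfEquivOfLe hQS).toEquiv, hcardQ] at h1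
      rw [Nat.card_congr (Subgroup.subgroupOfEquivOfLe hAS.le).toEquiv, show (A.subgroupOf S).index = p from hidx] at h2
      exact Nat.eq_of_mul_eq_mul_left Nat.card_pos (h1.trans h2.symm)
    haveI hQn : (Q.subgroupOf S).Normal := Subgroup.normal_of_index_eq_minFac_card (by
      rw [hQi, hn, Nat.pow_minFac (by omega), hp.out.minFac_eq])
    have hcoatom : IsCoatom (Q.subgroupOf S) := by
      refine ⟨fun h => ?_, fun L hL => ?_⟩
      · rw [h, Subgroup.index_top] at hQi; exact hp.out.one_lt.ne hQi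
      · have h1 := Subgroup.relIndex_mul_index hL.le
        rw [hQi] at h1
        rcases (Nat.dvd_prime hp.out).1 ⟨_, (mul_comm _ _).trans h1 |>.symm⟩ with h | h
        · exact Subgroup.index_eq_one.1 h
        · rw [h] at h1
          have : (Q.subgroupOf S).relIndex L = 1 := by
            have := hp.out.pos; nlinarith
          exact absurd (Subgroup.relIndex_eq_one.1 this) hL.not_ge
    have hcS : (⟨c, hc.1⟩ : S) ∈ Subgroup.center ↥S := by
      have htop : (Q.subgroupOf S) ⊔ Subgroup.zpowers (⟨c, hc.1⟩ : S) = ⊤ := by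
        refine hcoatom.2 _ (lt_of_le_of_ne le_sup_left fun e => hcQ ?_)
        have : (⟨c, hc.1⟩ : S) ∈ Q.subgroupOf S := e.ge (Subgroup.mem_sup_right (Subgroup.mem_zpowers _))
        exact this
      have hle : (⊤ : Subgroup S) ≤ Subgroup.centralizer {(⟨c, hc.1⟩ : S)} := by
        rw [← htop]
        refine sup_le (fun q hq => Subgroup.mem_centralizer_singleton_iff.2 (Subtype.ext ?_))
          (Subgroup.zpowers_le.2 (Subgroup.mem_centralizer_singleton_iff.2 rfl))
        exact Subgroup.mem_centralizer_iff.1 hc.2 _ hq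
      exact Subgroup.mem_center_iff.2 fun s => Subgroup.mem_centralizer_singleton_iff.1 (hle (Subgroup.mem_top s))
    -- the centre lies in the last nontrivial term
    set γ := Subgroup.lowerCentralSeries (⊤ : Subgroup ↥S) (n - 2) with hγ
    have hγne : γ ≠ ⊥ := fun h => hmax (by rw [← Subgroup.top_subtype_lowerCentralSeries, ← hγ, h, Subgroup.map_bot])
    have hcenter : Nat.card (Subgroup.center ↥S) = p := by
      rw [← Subgroup.upperCentralSeries_one, center_mul hS hn (by omega) hlow 1 (by omega), pow_one]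
    have hZγ : Subgroup.center ↥S ≤ γ := by
      have h1 := CfsgLib.Perm.inf_center_ne_bot hS γ hγne
      have h2 : Nat.card ↥(γ ⊓ Subgroup.center ↥S) = p := by
        rcases (Nat.dvd_prime hp.out).1 (hcenter ▸ Subgroup.card_dvd_of_le (inf_le_right : γ ⊓ Subgroup.center ↥S ≤ _)) with h | h
        · exact absurd (Subgroup.eq_bot_of_card_eq _ h) h1
        · exact h
      intro x hx
      have := Subgroup.eq_of_le_of_card_ge (inf_le_right : γ ⊓ Subgroup.center ↥S ≤ _) (by rw [hcenter, h2])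
      exact (this.ge hx).1
    refine hcQ (show (⟨c, hc.1⟩ : S) ∈ Q.subgroupOf S from ?_)
    have h1 : γ ≤ commutator ↥S := by
      rw [← Subgroup.top_lowerCentralSeries_one]
      exact Subgroup.lowerCentralSeries_antitone _ (by omega)
    haveI : IsCyclic (↥S ⧸ Q.subgroupOf S) := isCyclic_of_prime_card (p := p) (by rw [← Subgroup.index_eq_card, hQi])
    letI := IsCyclic.commGroup (α := ↥S ⧸ Q.subgroupOf S)
    have h2 := Abelianization.commutator_subset_ker (QuotientGroup.mk' (Q.subgroupOf S))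
    rw [QuotientGroup.ker_mk'] at h2
    exact h2 (h1 (hZγ hcS))
  have hNA : normalizerIn S A = S := inf_eq_left.2 hnormA
  have hfn : F.IsFullyNormalized A := ⟨hAS.le, fun Q _ => by
    rw [hNA]; exact Subgroup.card_le_of_le inf_le_left⟩
  haveI hInn : ((Inn A).subgroupOf (F.autGroup A)).Normal := by
    haveI := CfsgLib.Fus.inn_normal (G := ↥A)
    infer_instance
  refine ⟨hcent, hfn, hInn, ?_⟩
  set N := (Inn A).subgroupOf (F.autGroup A)
  haveI := CfsgLib.Fus.finite_mulAut hAS.le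
  obtain ⟨⟨-, R, hR⟩, -⟩ := CfsgLib.Fus.fullyNormalized_spec hS hF hfn
  set π := QuotientGroup.mk' N
  let Rb := R.mapSurjective (QuotientGroup.mk'_surjective N)
  -- an automorphism moving the centre
  have hrec : F.IsReceptive Z₂ := by
    refine CfsgLib.Fus.receptive_of_fullyCentralized hS hF ⟨hZ2S, fun Q hQ => ?_⟩
    have hcz : centralizerIn S Z₂ = A := rfl
    rw [hcz]
    by_contra hlt
    obtain ⟨ψ, hψ, rfl⟩ := hQ
    have hsub : centralizerIn S ψ.range = S := by
      haveI := CfsgLib.Fus.finite_of_le (inf_le_left : centralizerIn S ψ.range ≤ S)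
      refine Subgroup.eq_of_le_of_card_ge inf_le_left ?_
      have hd : Nat.card ↥(centralizerIn S ψ.range) ∣ Nat.card S := Subgroup.card_dvd_of_le inf_le_left
      have hA' := Subgroup.card_mul_index (A.subgroupOf S)
      rw [Nat.card_congr (Subgroup.subgroupOfEquivOfLe hAS.le).toEquiv, show (A.subgroupOf S).index = p from hidx, hn] at hA'
      rw [hn] at hd ⊢
      obtain ⟨j, hj, hj'⟩ := (Nat.dvd_prime_pow hp.out).1 hd
      haveI := CfsgLib.Fus.finite_of_le hAS.le
      obtain ⟨k, hk⟩ := (hS.to_le hAS.le).exists_card_eq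
      rw [hj'] at hlt ⊢
      rw [hk, ← pow_succ] at hA'
      rw [hk] at hlt
      have := Nat.pow_right_injective hp.out.two_le hA'
      have := (Nat.pow_lt_pow_iff_right hp.out.one_lt).1 (not_le.1 hlt)
      exact Nat.pow_le_pow_right hp.out.pos (by omega)
    have hle : ψ.range ≤ Zs := by
      rintro _ ⟨x, rfl⟩
      refine ⟨⟨_, (F.le_of_mem hψ).2 x⟩, Subgroup.mem_center_iff.2 fun s => Subtype.ext ?_, rfl⟩
      exact (Subgroup.mem_centralizer_iff.1 (hsub.ge s.2).2 _ ⟨x, rfl⟩).symm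
    haveI := CfsgLib.Fus.finite_of_le ((Subgroup.map_subtype_le _ : Zs ≤ S))
    have h1 := Subgroup.card_le_of_le hle
    rw [← Nat.card_congr (MonoidHom.ofInjective (F.injective_of_mem hψ)).toEquiv, hZ2card, hZcard] at h1
    have := hp.out.two_le
    nlinarith
  obtain ⟨ψ, hψ, hψe⟩ := hrec.2 Z₂ φ hφ hφZ
  have hAext : A ≤ extender S Z₂ φ := by
    intro a ha
    have hfix : ∀ x ∈ Z₂, a * x * a⁻¹ = x := fun x hx => by
      rw [(Subgroup.mem_centralizer_iff.1 ha.2 x hx).symm, mul_inv_cancel_right]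
    refine Subgroup.subset_closure ⟨ha.1, CfsgLib.Fus.mem_normalizer_of_conj
      (fun x hx => by rw [hfix x hx]; exact hx) (fun x hx => ?_), 1, S.one_mem, fun x hx => ?_⟩
    · have h1 : a⁻¹ * x * a = x := by
        conv_lhs => rw [← hfix x hx]
        group
      rw [h1]; exact hx
    · simp only [hfix x x.2, Subtype.coe_eta, one_mul, inv_one, mul_one]
  have hψA : ∀ a : A, ψ ⟨a, hAext a.2⟩ ∈ A := fun a => by
    refine ⟨(F.le_of_mem hψ).2 _, Subgroup.mem_centralizer_iff.2 fun w hw => ?_⟩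
    obtain ⟨⟨w₀, hw₀⟩, rfl⟩ := hφZ.ge hw
    have h1 : (w₀ : Ω) * a = a * w₀ := Subgroup.mem_centralizer_iff.1 a.2.2 _ hw₀
    have h2 := hψe w₀ hw₀ (hAext (hZ2A hw₀))
    rw [← h2, ← map_mul, ← map_mul]
    exact congrArg ψ (Subtype.ext h1)
  have hψm : CfsgLib.Fus.IsMap F A (CfsgLib.Fus.ev ψ) :=
    (CfsgLib.Fus.IsMap.of_hom hψ).mono hAext
  have hψimg : CfsgLib.Fus.img (CfsgLib.Fus.ev ψ) A = A := by
    haveI := CfsgLib.Fus.finite_of_le hAS.le
    refine Subgroup.eq_of_le_of_card_ge (CfsgLib.Fus.img_le_iff.2 fun a ha => ?_) hψm.card_img.ge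
    rw [CfsgLib.Fus.ev_of_mem ψ (hAext ha)]
    exact hψA ⟨a, ha⟩
  obtain ⟨β, hβ, hβe⟩ := CfsgLib.Fus.exists_aut hψm hψimg
  refine ⟨Subgroup.normalizer ((Rb : Subgroup (↥(F.autGroup A) ⧸ N)) : Set (F.autGroup A ⧸ N)), ?_⟩
  -- an element of `S` outside `A`
  obtain ⟨x, hxS, hxA⟩ := SetLike.exists_of_lt hAS
  obtain ⟨cx, hcx, hcxe⟩ := CfsgLib.Fus.exists_autInducedBy (K := S) hxS (hnormA hxS)
  have hcxR : (⟨cx, CfsgLib.Fus.autInducedBy_le_autGroup hAS.le hcx⟩ : F.autGroup A) ∈ (R : Subgroup _) := by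
    rw [hR]; exact hcx
  have hAutS : ∀ α ∈ (R : Subgroup (F.autGroup A)), ∀ w ∈ Zs, autFun (α : MulAut A) w = w := by
    intro α hα w hw
    rw [hR] at hα
    obtain ⟨g, hg, hge⟩ := CfsgLib.Fus.mem_autInducedBy.1 hα
    have hwA : w ∈ A := hZ2A (by
      rw [hZs, ← Subgroup.upperCentralSeries_one] at hw
      rw [hZ₂]
      exact Subgroup.map_mono (Subgroup.upperCentralSeries_mono _ (by omega)) hw)
    refine (hge w hwA).trans ?_
    rw [hZcomm w hw g hg, mul_inv_cancel_right]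
  have hzA : z ∈ A := hZ2A hz
  have hβz : autFun β z = φ ⟨z, hz⟩ := by
    rw [hβe z hzA, CfsgLib.Fus.ev_of_mem ψ (hAext hzA)]
    exact hψe z hz _
  -- the Sylow subgroup of the outer group is not normal
  have hnotnormal : Subgroup.normalizer ((Rb : Subgroup (↥(F.autGroup A) ⧸ N)) : Set (F.autGroup A ⧸ N)) ≠ ⊤ := by
    intro htop
    haveI : (Rb : Subgroup (↥(F.autGroup A) ⧸ N)).Normal := Subgroup.normalizer_eq_top_iff.1 htop
    have hNR : N ≤ (R : Subgroup (F.autGroup A)) := by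
      rw [hR]
      exact Subgroup.comap_mono (CfsgLib.Fus.inn_le_autInducedBy hAS.le)
    have hRn : (R : Subgroup (F.autGroup A)).Normal := by
      have h1 : ((R : Subgroup (F.autGroup A)).map π).comap π = R := by
        rw [Subgroup.comap_map_eq, QuotientGroup.ker_mk', sup_eq_left.2 hNR]
      rw [← h1]
      exact Subgroup.Normal.comap (show ((R : Subgroup (F.autGroup A)).map π).Normal from ‹(Rb : Subgroup (↥(F.autGroup A) ⧸ N)).Normal›) π
    have hconj := hRn.conj_mem _ hcxR (⟨β, hβ⟩ : F.autGroup A)⁻¹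
    rw [inv_inv] at hconj
    have h1 := hAutS _ hconj z hzZ
    have hw : φ ⟨z, hz⟩ ∈ Z₂ := hφZ.le ⟨_, rfl⟩
    have h2 : autFun (β⁻¹ * cx * β) z = z := h1
    rw [CfsgLib.Fus.autFun_mul _ _ hzA, hβz, CfsgLib.Fus.autFun_mul _ _ (hZ2A hw), hcxe _ (hZ2A hw)] at h2
    have hxw : x * φ ⟨z, hz⟩ * x⁻¹ ∈ A := CfsgLib.Fus.conj_mem_of_normalizer (hnormA hxS) (hZ2A hw)
    have h3 := congrArg (autFun β) h2
    rw [← CfsgLib.Fus.autFun_mul _ _ hxw, mul_inv_cancel, CfsgLib.Fus.autFun_one hxw, hβz] at h3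
    -- then the moved element is central
    refine hzmove ⟨⟨_, hZ2S hw⟩, Subgroup.mem_center_iff.2 fun s => Subtype.ext ?_, rfl⟩
    have hle : A ⊔ Subgroup.zpowers x ≤ Subgroup.centralizer {φ ⟨z, hz⟩} :=
      sup_le (fun a ha => Subgroup.mem_centralizer_singleton_iff.2 (Subgroup.mem_centralizer_iff.1 ha.2 _ hw).symm)
        (Subgroup.zpowers_le.2 (Subgroup.mem_centralizer_singleton_iff.2 (mul_inv_eq_iff_eq_mul.1 h3)))
    have htopS : A ⊔ Subgroup.zpowers x = S := by
      have hle' : A ⊔ Subgroup.zpowers x ≤ S := sup_le hAS.le (Subgroup.zpowers_le.2 hxS)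
      have h1 := Subgroup.relIndex_mul_relIndex _ _ _ (le_sup_left : A ≤ A ⊔ Subgroup.zpowers x) hle'
      rw [hidx] at h1
      rcases (Nat.dvd_prime hp.out).1 (Dvd.intro_left _ h1) with h | h
      · exact le_antisymm hle' (Subgroup.relIndex_eq_one.1 h)
      · rw [h] at h1
        have : A.relIndex (A ⊔ Subgroup.zpowers x) = 1 := by
          have := hp.out.pos; nlinarith
        exact absurd (Subgroup.relIndex_eq_one.1 this (Subgroup.mem_sup_right (Subgroup.mem_zpowers x))) hxA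
    exact Subgroup.mem_centralizer_singleton_iff.1 (hle (htopS.ge s.2))
  have hRcard : Nat.card (Rb : Subgroup (↥(F.autGroup A) ⧸ N)) ∣ p := by
    set M := (A.subgroupOf (normalizerIn S A)) with hM
    have hmap : ∀ α ∈ (R : Subgroup (F.autGroup A)), π α ∈ Subgroup.zpowers (π ⟨cx, CfsgLib.Fus.autInducedBy_le_autGroup hAS.le hcx⟩) := by
      intro α hα
      rw [hR] at hα
      obtain ⟨g, hg, hge⟩ := CfsgLib.Fus.mem_autInducedBy.1 hα
      haveI hAn : (A.subgroupOf S).Normal := Subgroup.normal_subgroupOf_of_le_normalizer hnormA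
      have hq : (QuotientGroup.mk (⟨g, hg⟩ : S) : ↥S ⧸ A.subgroupOf S) ∈
          Subgroup.zpowers (QuotientGroup.mk (⟨x, hxS⟩ : S) : ↥S ⧸ A.subgroupOf S) := by
        exact mem_zpowers_of_prime_card (p := p) (by rw [← Subgroup.index_eq_card]; exact hidx)
          (fun h => hxA ((QuotientGroup.eq_one_iff (⟨x, hxS⟩ : S)).1 h))
      obtain ⟨i, hi⟩ := Subgroup.mem_zpowers_iff.1 hq
      rw [← QuotientGroup.mk_zpow] at hi
      have ha : ((x : Ω) ^ i)⁻¹ * g ∈ A := by
        have := Subgroup.mem_subgroupOf.1 (QuotientGroup.eq.1 hi)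
        simpa using this
      refine ⟨i, ?_⟩
      show π _ ^ i = π α
      rw [← map_zpow]
      refine QuotientGroup.eq.2 ?_
      show ((cx ^ i)⁻¹ * (α : MulAut A)) ∈ Inn A
      rw [CfsgLib.Fus.inn_eq_autInducedBy]
      refine CfsgLib.Fus.mem_autInducedBy.2 ⟨((x : Ω) ^ i)⁻¹ * g, ha, fun y hy => ?_⟩
      have hci : ∀ y ∈ A, autFun (cx ^ i) y = x ^ i * y * (x ^ i)⁻¹ := by
        let φN := Subgroup.normalizerMonoidHom A
        have hcxeq : φN ⟨x, hnormA hxS⟩ = cx := CfsgLib.Fus.aut_ext fun y hy => by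
          rw [hcxe y hy, CfsgLib.Fus.autFun_of_mem _ hy]; rfl
        intro y hy
        rw [← hcxeq, ← map_zpow, CfsgLib.Fus.autFun_of_mem _ hy]
        rfl
      have hgy : g * y * g⁻¹ ∈ A := CfsgLib.Fus.conj_mem_of_normalizer (hnormA hg) hy
      rw [CfsgLib.Fus.autFun_mul _ _ hy, show autFun (α : MulAut A) y = g * y * g⁻¹ from hge y hy]
      have hback : x ^ (-i) * (g * y * g⁻¹) * (x ^ (-i))⁻¹ ∈ A :=
        CfsgLib.Fus.conj_mem_of_normalizer (Subgroup.zpow_mem _ (hnormA hxS) _) hgy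
      have h5 := hci _ hback
      rw [show x ^ i * (x ^ (-i) * (g * y * g⁻¹) * (x ^ (-i))⁻¹) * (x ^ i)⁻¹ = g * y * g⁻¹ by group] at h5
      conv_lhs => rw [← h5, ← CfsgLib.Fus.autFun_mul _ _ hback, inv_mul_cancel, CfsgLib.Fus.autFun_one hback]
      group
    have hle : (Rb : Subgroup (↥(F.autGroup A) ⧸ N)) ≤
        Subgroup.zpowers (π ⟨cx, CfsgLib.Fus.autInducedBy_le_autGroup hAS.le hcx⟩) := by
      rintro _ ⟨α, hα, rfl⟩
      exact hmap α hα
    refine (Subgroup.card_dvd_of_le hle).trans ?_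
    rw [Nat.card_zpowers]
    refine orderOf_dvd_of_pow_eq_one ?_
    rw [← map_pow]
    refine (QuotientGroup.eq_one_iff _).2 ?_
    show cx ^ p ∈ Inn A
    rw [CfsgLib.Fus.inn_eq_autInducedBy]
    refine CfsgLib.Fus.mem_autInducedBy.2 ⟨x ^ p, ?_, fun y hy => ?_⟩
    · haveI hAn : (A.subgroupOf S).Normal := Subgroup.normal_subgroupOf_of_le_normalizer hnormA
      have := Subgroup.pow_index_mem (A.subgroupOf S) (⟨x, hxS⟩ : S)
      rw [show (A.subgroupOf S).index = p from hidx] at this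
      exact this
    · have hcxeq : Subgroup.normalizerMonoidHom A ⟨x, hnormA hxS⟩ = cx := CfsgLib.Fus.aut_ext fun y hy => by
        rw [hcxe y hy, CfsgLib.Fus.autFun_of_mem _ hy]; rfl
      rw [← hcxeq, ← map_pow, CfsgLib.Fus.autFun_of_mem _ hy]
      rfl
  have hne : (Rb : Subgroup (↥(F.autGroup A) ⧸ N)) ≠ ⊥ := by
    intro h
    haveI : (Rb : Subgroup (↥(F.autGroup A) ⧸ N)).Normal := h ▸ inferInstance
    exact hnotnormal (Subgroup.normalizer_eq_top_iff.2 inferInstance)
  have hcardp : Nat.card (Rb : Subgroup (↥(F.autGroup A) ⧸ N)) = p :=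
    ((Nat.dvd_prime hp.out).1 hRcard).resolve_left fun h => hne (Subgroup.eq_bot_of_card_eq _ h)
  refine CfsgLib.Fus.spe_of Rb Subgroup.le_normalizer (hcardp ▸ Subgroup.card_subgroup_dvd_card _) hnotnormal ?_
  intro u v hu hu1 hup hv
  have hinR : ∀ w ∈ Subgroup.normalizer ((Rb : Subgroup (↥(F.autGroup A) ⧸ N)) : Set (F.autGroup A ⧸ N)),
      IsPGroup p ↥(Subgroup.zpowers w) → w ∈ (Rb : Subgroup (↥(F.autGroup A) ⧸ N)) := by
    intro w hw hwp
    have hle : Subgroup.zpowers w ≤ Subgroup.normalizer ((Rb : Subgroup (↥(F.autGroup A) ⧸ N)) : Set (F.autGroup A ⧸ N)) :=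
      Subgroup.zpowers_le.2 hw
    have h1 := hwp.to_sup_of_normal_right' Rb.isPGroup' hle
    have h2 : (Rb : Subgroup (↥(F.autGroup A) ⧸ N)) = Subgroup.zpowers w ⊔ Rb := Rb.3 h1 le_sup_right |>.symm
    rw [h2]
    exact Subgroup.mem_sup_left (Subgroup.mem_zpowers w)
  have huR := hinR u hu hup
  have hvR : v⁻¹ * u * v ∈ (Rb : Subgroup (↥(F.autGroup A) ⧸ N)) := by
    refine hinR _ hv ?_
    have := hup.map (MulAut.conj v⁻¹).toMonoidHom
    rw [MonoidHom.map_zpowers] at this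
    rw [show v⁻¹ * u * v = (MulAut.conj v⁻¹).toMonoidHom u by show _ = v⁻¹ * u * v⁻¹⁻¹; group]
    exact this
  have hgen : (Rb : Subgroup (↥(F.autGroup A) ⧸ N)) = Subgroup.zpowers u := by
    refine (Subgroup.eq_of_le_of_card_ge (Subgroup.zpowers_le.2 huR) ?_).symm
    rcases (Nat.dvd_prime hp.out).1 (hcardp ▸ (Subgroup.card_dvd_of_le (Subgroup.zpowers_le.2 huR))) with h | h
    · exact absurd (Subgroup.eq_bot_of_card_eq _ h) (fun e => hu1 (Subgroup.zpowers_eq_bot.1 e))
    · rw [hcardp, h]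
  have hsub : ∀ r ∈ (Rb : Subgroup (↥(F.autGroup A) ⧸ N)), v⁻¹ * r * v ∈ (Rb : Subgroup (↥(F.autGroup A) ⧸ N)) := by
    intro r hr
    rw [hgen] at hr
    obtain ⟨i, rfl⟩ := hr
    rw [show v⁻¹ * u ^ i * v = (v⁻¹ * u * v⁻¹⁻¹) ^ i by rw [conj_zpow, inv_inv], inv_inv]
    exact Subgroup.zpow_mem _ hvR i
  have hv' : v⁻¹ ∈ Subgroup.normalizer ((Rb : Subgroup (↥(F.autGroup A) ⧸ N)) : Set (F.autGroup A ⧸ N)) :=
    Subgroup.mem_normalizer_fintype (fun r hr => by
      rw [show v⁻¹ * r * v⁻¹⁻¹ = v⁻¹ * r * v by group]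
      exact hsub r hr)
  simpa using Subgroup.inv_mem _ hv'

end CfsgLib.Fus.MaxClassCent
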