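import Cfsg.Agent.S0662
import Cfsg.Agent.S4209
import Cfsg.Agent.S4225
import Cfsg.Agent.Perm.RegularP
import Cfsg.Agent.Solv.IterComm

/-!
p-groups of maximal class of small sectional rank have small order.
-/

set_option autoImplicit false
set_option linter.style.haveILetI false

namespace CfsgLib.Fus.MaxClassRank

open scoped commutatorElement

universe u

variable {G : Type u} [Group G] [Finite G] {p : ℕ} [hp : Fact p.Prime]

local notation "L" => fun i => Subgroup.lowerCentralSeries (⊤ : Subgroup G) i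

theorem regular_of_card (hG : IsPGroup p G) (hc : Nat.card G ≤ p ^ p) : Cfsg.IsRegularPGroup p G := by
  refine Cfsg.Agent.S4209.result hG ?_
  by_contra h
  obtain ⟨i, hi⟩ : ∃ i, p - 1 = i + 1 := ⟨p - 2, by have := hp.out.two_le; omega⟩
  rw [hi] at h
  have h1 := Nat.le_of_dvd Nat.card_pos (Cfsg.Agent.S0662.card_lcs_dvd hG i h)
  have h2 : 1 < Nat.card ↥((⊤ : Subgroup G).lowerCentralSeries (i + 1)) :=
    Finite.one_lt_card_iff_nontrivial.2 ((Subgroup.nontrivial_iff_ne_bot _).2 h)
  rw [show i + 2 = p by omega] at h1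
  nlinarith [pow_pos hp.out.pos p]

theorem not_covered (hG : IsPGroup p G) {ι : Type*} (s : Finset ι) (hs : s.card ≤ p) (C : ι → Subgroup G)
    (hC : ∀ i ∈ s, C i ≠ ⊤) (hne : s.Nonempty) : ∃ g : G, ∀ i ∈ s, g ∉ C i := by
  classical
  haveI := Fintype.ofFinite G
  obtain ⟨n, hn⟩ := IsPGroup.iff_card.1 hG
  by_contra hcon
  push Not at hcon
  have hsub : (Finset.univ : Finset G).erase 1 ⊆ s.biUnion fun i => ((C i : Set G).toFinset).erase 1 := by
    intro g hg
    obtain ⟨i, hi, hgi⟩ := hcon g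
    exact Finset.mem_biUnion.2 ⟨i, hi, Finset.mem_erase.2 ⟨Finset.ne_of_mem_erase hg, Set.mem_toFinset.2 hgi⟩⟩
  have hi : ∀ i ∈ s, p * (((C i : Set G).toFinset).erase 1).card + p ≤ Nat.card G := by
    intro i hi
    rw [Finset.card_erase_of_mem (Set.mem_toFinset.2 (one_mem _)), Set.toFinset_card, ← Nat.card_eq_fintype_card]
    have h1 := (C i).card_mul_index
    obtain ⟨a, ha⟩ := hG.index (C i)
    have ha0 : a ≠ 0 := fun e => hC i hi (Subgroup.index_eq_one.1 (by rw [ha, e, pow_zero]))
    have h2 : p ≤ (C i).index := ha ▸ Nat.le_self_pow ha0 p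
    have h3 : 0 < Nat.card (C i) := Nat.card_pos
    obtain ⟨c, hc⟩ : ∃ c, Nat.card (C i) = c + 1 := ⟨_, (Nat.succ_pred_eq_of_pos h3).symm⟩
    show p * (Nat.card (C i) - 1) + p ≤ _
    rw [← h1, hc, Nat.add_sub_cancel]
    nlinarith
  have h1 := (Finset.card_le_card hsub).trans Finset.card_biUnion_le
  rw [Finset.card_erase_of_mem (Finset.mem_univ _), Finset.card_univ, ← Nat.card_eq_fintype_card] at h1
  have h2 := Finset.sum_le_sum hi
  rw [Finset.sum_add_distrib, ← Finset.mul_sum, Finset.sum_const, Finset.sum_const, smul_eq_mul, smul_eq_mul] at h2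
  have h4 : 0 < Nat.card G := Nat.card_pos
  have h5 := hne.card_pos
  obtain ⟨N, hN⟩ : ∃ N, Nat.card G = N + 1 := ⟨_, (Nat.succ_pred_eq_of_pos h4).symm⟩
  rw [hN, Nat.add_sub_cancel] at h1
  rw [hN] at h2
  nlinarith [hp.out.two_le]

variable (p) in
/-- `G` is of maximal class of order `p ^ n`. -/
def Setting (n : ℕ) (G : Type u) [Group G] : Prop :=
  3 ≤ n ∧ Nat.card G = p ^ n ∧ Subgroup.lowerCentralSeries (⊤ : Subgroup G) (n - 2) ≠ ⊥

variable {n : ℕ}

theorem lcs_antitone {i j : ℕ} (h : i ≤ j) : L j ≤ L i :=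
  Subgroup.lowerCentralSeries_antitone (⊤ : Subgroup G) h

theorem Setting.isPGroup (hS : Setting p n G) : IsPGroup p G := IsPGroup.of_card hS.2.1

theorem Setting.card_lcs (hS : Setting p n G) :
    ∀ i, 1 ≤ i → i ≤ n - 1 → Nat.card ↥(L i) = p ^ (n - 1 - i) := by
  obtain ⟨hn, hc, hne⟩ := hS
  have hG : IsPGroup p G := IsPGroup.of_card hc
  haveI := hG.isNilpotent
  have hlow : ∀ d i, i + d = n - 2 → ∃ a, Nat.card ↥(L i) = p ^ a ∧ d + 1 ≤ a := by
    intro d
    induction d with
    | zero =>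
      intro i hi
      obtain ⟨a, ha⟩ := (hG.to_subgroup (L i)).exists_card_eq
      refine ⟨a, ha, Nat.pos_of_ne_zero fun e => hne ?_⟩
      rw [e, pow_zero] at ha
      rw [← hi, Nat.add_zero]
      exact Subgroup.eq_bot_of_card_eq _ ha
    | succ d ih =>
      intro i hi
      obtain ⟨b, hb, hbd⟩ := ih (i + 1) (by omega)
      obtain ⟨a, ha⟩ := (hG.to_subgroup (L i)).exists_card_eq
      refine ⟨a, ha, ?_⟩
      by_contra hab
      have he : L (i + 1) = L i := Subgroup.eq_of_le_of_card_ge (lcs_antitone i.le_succ) (by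
        rw [ha, hb]; exact Nat.pow_le_pow_right hp.out.pos (by omega))
      exact hne (le_bot_iff.1 ((lcs_antitone (by omega : i ≤ n - 2)).trans (Cfsg.Agent.S0662.lcs_stationary he).le))
  have hlast : L (n - 1) = ⊥ := by
    by_contra h
    obtain ⟨j, hj⟩ : ∃ j, n - 1 = j + 1 := ⟨n - 2, by omega⟩
    have h1 := Nat.le_of_dvd Nat.card_pos (Cfsg.Agent.S0662.card_lcs_dvd hG j (hj ▸ h))
    have h2 : 1 < Nat.card ↥((⊤ : Subgroup G).lowerCentralSeries (j + 1)) :=
      Finite.one_lt_card_iff_nontrivial.2 ((Subgroup.nontrivial_iff_ne_bot _).2 (hj ▸ h))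
    rw [hc, show j + 2 = n by omega] at h1
    nlinarith [pow_pos hp.out.pos n]
  intro i h1 h2
  rcases eq_or_lt_of_le h2 with rfl | h3
  · rw [hlast, Subgroup.card_bot, Nat.sub_self, pow_zero]
  obtain ⟨a, ha, had⟩ := hlow (n - 2 - i) i (by omega)
  obtain ⟨j, rfl⟩ : ∃ j, i = j + 1 := ⟨i - 1, by omega⟩
  have h4 := Cfsg.Agent.S0662.card_lcs_dvd hG j (fun e => hne (le_bot_iff.1 ((lcs_antitone (by omega : j + 1 ≤ n - 2)).trans e.le)))
  rw [show (⊤ : Subgroup G).lowerCentralSeries (j + 1) = L (j + 1) from rfl, ha, hc, ← pow_add] at h4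
  have := (Nat.pow_dvd_pow_iff_le_right hp.out.one_lt).1 h4
  rw [ha, show a = n - 1 - (j + 1) by omega]

theorem Setting.lcs_last (hS : Setting p n G) : L (n - 1) = ⊥ := by
  refine Subgroup.eq_bot_of_card_eq _ ?_
  rw [hS.card_lcs _ (by have := hS.1; omega) le_rfl, Nat.sub_self, pow_zero]

theorem Setting.index_lcs (hS : Setting p n G) (i : ℕ) (h1 : 1 ≤ i) (h2 : i ≤ n - 1) :
    (L i).index = p ^ (i + 1) := by
  have h := (L i).card_mul_index
  rw [hS.card_lcs i h1 h2, hS.2.1] at h
  refine Nat.eq_of_mul_eq_mul_left (pow_pos hp.out.pos (n - 1 - i)) (h.trans ?_)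
  rw [← pow_add]; congr 1; omega

/-- Elements acting trivially on the `i`-th layer. -/
def layerCent (i : ℕ) : Subgroup G :=
  haveI : ((⊤ : Subgroup G).lowerCentralSeries (i + 2)).Normal := Subgroup.normal_of_characteristic _
  (Subgroup.centralizer (((L i).map (QuotientGroup.mk' ((⊤ : Subgroup G).lowerCentralSeries (i + 2)))) : Set (G ⧸ (⊤ : Subgroup G).lowerCentralSeries (i + 2)))).comap
    (QuotientGroup.mk' _)

theorem mem_layerCent {i : ℕ} {g : G} : g ∈ layerCent i ↔ ∀ a ∈ L i, ⁅a, g⁆ ∈ L (i + 2) := by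
  haveI : ((⊤ : Subgroup G).lowerCentralSeries (i + 2)).Normal := Subgroup.normal_of_characteristic _
  rw [layerCent, Subgroup.mem_comap, Subgroup.mem_centralizer_iff]
  constructor
  · intro h a ha
    refine (QuotientGroup.eq_one_iff _).1 ?_
    show QuotientGroup.mk' _ ⁅a, g⁆ = 1
    rw [map_commutatorElement, commutatorElement_eq_one_iff_mul_comm]
    exact h _ ⟨a, ha, rfl⟩
  · rintro h _ ⟨a, ha, rfl⟩
    rw [← commutatorElement_eq_one_iff_mul_comm, ← map_commutatorElement]
    exact (QuotientGroup.eq_one_iff _).2 (h a ha)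

theorem Setting.layerCent_ne_top (hS : Setting p n G) {i : ℕ} (hi : i + 1 ≤ n - 2) : layerCent (G := G) i ≠ ⊤ := by
  intro h
  haveI := hS.isPGroup.isNilpotent
  have h1 : L (i + 1) ≤ L (i + 2) := by
    show (⊤ : Subgroup G).lowerCentralSeries (i + 1) ≤ _
    rw [Subgroup.lowerCentralSeries_succ, Subgroup.commutator_le]
    exact fun a ha b _ => mem_layerCent.1 (h ▸ Subgroup.mem_top b) a ha
  have h2 := Cfsg.Agent.S0662.lcs_stationary (le_antisymm (lcs_antitone (i + 1).le_succ) h1)
  exact hS.2.2 (le_bot_iff.1 ((lcs_antitone hi).trans h2.le))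

/-- An element of `L i` outside `L (i+1)` generates the layer, so its centraliser acts trivially there. -/
theorem Setting.mem_layerCent_of_commute (hS : Setting p n G) {i : ℕ} (h1 : 1 ≤ i) (h2 : i + 1 ≤ n - 1)
    {b g : G} (hb : b ∈ L i) (hb' : b ∉ L (i + 1)) (hc : Commute b g) : g ∈ layerCent i := by
  haveI : ((⊤ : Subgroup G).lowerCentralSeries (i + 2)).Normal := Subgroup.normal_of_characteristic _
  rw [mem_layerCent]
  have hspan : L (i + 1) ⊔ Subgroup.zpowers b = L i := by
    have hle : L (i + 1) ⊔ Subgroup.zpowers b ≤ L i := sup_le (lcs_antitone i.le_succ) (Subgroup.zpowers_le.2 hb)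
    refine Subgroup.eq_of_le_of_card_ge hle ?_
    obtain ⟨a, ha⟩ := (hS.isPGroup.to_subgroup (L (i + 1) ⊔ Subgroup.zpowers b)).exists_card_eq
    rw [hS.card_lcs i h1 (by omega), ha]
    refine Nat.pow_le_pow_right hp.out.pos ?_
    by_contra hlt
    refine hb' ?_
    rw [Subgroup.eq_of_le_of_card_ge (le_sup_left (a := L (i + 1)) (b := Subgroup.zpowers b)) (by
      rw [ha, hS.card_lcs (i + 1) (by omega) h2]; exact Nat.pow_le_pow_right hp.out.pos (by omega))]
    exact Subgroup.mem_sup_right (Subgroup.mem_zpowers b)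
  have hle : L (i + 1) ⊔ Subgroup.zpowers b ≤
      (Subgroup.centralizer {QuotientGroup.mk' ((⊤ : Subgroup G).lowerCentralSeries (i + 2)) g}).comap (QuotientGroup.mk' _) := by
    refine sup_le ?_ (Subgroup.zpowers_le.2 ?_)
    · intro c hcm
      rw [Subgroup.mem_comap, Subgroup.mem_centralizer_singleton_iff, ← commutatorElement_eq_one_iff_mul_comm,
        ← map_commutatorElement]
      refine (QuotientGroup.eq_one_iff _).2 ?_
      show ⁅c, g⁆ ∈ (⊤ : Subgroup G).lowerCentralSeries (i + 1 + 1)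
      rw [Subgroup.lowerCentralSeries_succ]
      exact Subgroup.commutator_mem_commutator hcm (Subgroup.mem_top g)
    · rw [Subgroup.mem_comap, Subgroup.mem_centralizer_singleton_iff, ← map_mul, ← map_mul, hc.eq]
  intro a ha
  have := hle (hspan.ge ha)
  rw [Subgroup.mem_comap, Subgroup.mem_centralizer_singleton_iff, ← commutatorElement_eq_one_iff_mul_comm,
    ← map_commutatorElement] at this
  exact (QuotientGroup.eq_one_iff _).1 this

theorem Setting.pow_mem (hS : Setting p n G) :
    ∀ j, 1 ≤ j → j ≤ n - 2 → j ≤ p - 1 → ∀ g : G, g ^ p ∈ L j := by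
  intro j hj
  induction j, hj using Nat.le_induction with
  | base =>
    intro _ _ g
    have hL1 : L 1 = commutator G := by
      show (⊤ : Subgroup G).lowerCentralSeries 1 = _
      rw [Subgroup.lowerCentralSeries_succ, Subgroup.lowerCentralSeries_zero]; rfl
    haveI := hS.isPGroup.isNilpotent
    have hnc := Cfsg.Agent.S0662.not_cyclic_abelianization (G := G)
      (fun e => hS.2.2 (le_bot_iff.1 ((lcs_antitone (show 1 ≤ n - 2 by have := hS.1; omega)).trans e.le)))
    have hq : Nat.card (G ⧸ commutator G) = p ^ 2 := by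
      rw [← Subgroup.index_eq_card, ← hL1, hS.index_lcs 1 le_rfl (by have := hS.1; omega)]
    rw [hL1, ← QuotientGroup.eq_one_iff, QuotientGroup.mk_pow]
    by_contra hv
    exact hnc (isCyclic_of_orderOf_eq_card (g : G ⧸ commutator G) (by
      rw [hq]
      exact orderOf_eq_prime_pow (n := 1) (by rwa [pow_one]) (by
        rw [show (1 : ℕ) + 1 = 2 from rfl, ← hq]; exact pow_card_eq_one')))
  | succ j hj ih =>
    intro h1 h2
    have ih' := ih (by omega) (by omega)
    haveI : ((⊤ : Subgroup G).lowerCentralSeries (j + 1)).Normal := Subgroup.normal_of_characteristic _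
    set π := QuotientGroup.mk' ((⊤ : Subgroup G).lowerCentralSeries (j + 1))
    have hreg : Cfsg.IsRegularPGroup p (G ⧸ (⊤ : Subgroup G).lowerCentralSeries (j + 1)) := by
      refine regular_of_card (hS.isPGroup.to_quotient _) ?_
      rw [← Subgroup.index_eq_card, show (⊤ : Subgroup G).lowerCentralSeries (j + 1) = L (j + 1) from rfl,
        hS.index_lcs _ (by omega) (by omega)]
      exact Nat.pow_le_pow_right hp.out.pos (by omega)
    obtain ⟨M, -, hM⟩ := Cfsg.Agent.S4225.result hreg 1
    have hM' : ∀ x, x ∈ M.comap π ↔ x ^ p ∈ L (j + 1) := by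
      intro x
      rw [Subgroup.mem_comap, ← SetLike.mem_coe, hM]
      show (π x) ^ p ^ 1 = 1 ↔ _
      rw [pow_one, ← map_pow]
      exact QuotientGroup.eq_one_iff _
    intro g
    rw [← hM']
    by_contra hg
    have hout : ∀ x : G, x ∉ M.comap π → x ∈ layerCent j := fun x hx =>
      hS.mem_layerCent_of_commute hj (by omega) (ih' x) (fun h => hx ((hM' x).2 h)) (Commute.pow_self x p)
    refine hS.layerCent_ne_top (i := j) h1 ((Subgroup.eq_top_iff' _).2 fun x => ?_)
    by_cases hx : x ∈ M.comap π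
    · have h3 := hout (x * g) fun h => hg ((Subgroup.mul_mem_cancel_left _ hx).1 h)
      simpa using mul_mem h3 (inv_mem (hout g hg))
    · exact hout x hx

theorem commutator_le (i : ℕ) : ∀ j, ⁅L i, L j⁆ ≤ L (i + j + 1) := by
  intro j
  haveI : ((⊤ : Subgroup G).lowerCentralSeries i).Normal := Subgroup.normal_of_characteristic _
  refine (CfsgLib.Solv.IterComm.commutator_lowerCentralSeries_le j (L i) inferInstance).trans ?_
  have h : ∀ m, Cfsg.iterCommutator (L i) (⊤ : Subgroup G) m = L (i + m) := by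
    intro m
    induction m with
    | zero => rfl
    | succ m ihm =>
      show ⁅Cfsg.iterCommutator (L i) (⊤ : Subgroup G) m, (⊤ : Subgroup G)⁆ = _
      rw [ihm]
      exact ((⊤ : Subgroup G).lowerCentralSeries_succ (i + m)).symm
  exact (h _).le

theorem exists_elementary {k : ℕ} (hk : 2 ≤ k) (hpk : k + 2 ≤ p) (hS : Setting p (2 * k + 1) G) :
    ∃ A : Subgroup G, IsMulCommutative A ∧ (∀ a ∈ A, a ^ p = 1) ∧ Nat.card A = p ^ (k + 1) := by
  classical
  have hbot : L (2 * k) = ⊥ := by simpa using hS.lcs_last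
  set A := L (k - 1) with hA
  haveI : A.Normal := Subgroup.normal_of_characteristic _
  have hcardA : Nat.card A = p ^ (k + 1) := by
    rw [hA, hS.card_lcs _ (by omega) (by omega)]; congr 1; omega
  -- the element acting without fixed layers
  obtain ⟨g, hg⟩ := not_covered (p := p) hS.isPGroup (insert (k - 2) (Finset.Icc (k + 1) (2 * k - 2)))
    (by refine (Finset.card_insert_le _ _).trans ?_; rw [Nat.card_Icc]; omega) layerCent (by
      intro i hi
      refine hS.layerCent_ne_top ?_
      rcases Finset.mem_insert.1 hi with rfl | hi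
      · omega
      · rw [Finset.mem_Icc] at hi; omega) (Finset.insert_nonempty _ _)
  have hgp : ∀ j, k + 1 ≤ j → j ≤ 2 * k - 1 → g ^ p ∈ L j := by
    intro j hj
    induction j, hj using Nat.le_induction with
    | base => intro h; exact hS.pow_mem (k + 1) (by omega) (by omega) (by omega) g
    | succ j hj ih =>
      intro h
      by_contra h'
      exact hg j (Finset.mem_insert.2 (Or.inr (Finset.mem_Icc.2 ⟨hj, by omega⟩)))
        (hS.mem_layerCent_of_commute (by omega) (by omega) (ih (by omega)) h' (Commute.pow_self g p).symm.symm)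
  have hgpA : g ^ p ∈ A := lcs_antitone (by omega) (hgp (2 * k - 1) (by omega) le_rfl)
  have hcen : ∀ y : G, y * g ^ p = g ^ p * y := by
    intro y
    rw [eq_comm, ← commutatorElement_eq_one_iff_mul_comm, ← Subgroup.mem_bot, ← hbot]
    show ⁅g ^ p, y⁆ ∈ (⊤ : Subgroup G).lowerCentralSeries (2 * k)
    rw [show 2 * k = 2 * k - 1 + 1 by omega, Subgroup.lowerCentralSeries_succ]
    exact Subgroup.commutator_mem_commutator (hgp _ (by omega) le_rfl) (Subgroup.mem_top y)
  have hlk := hg (k - 2) (Finset.mem_insert_self _ _)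
  rw [mem_layerCent] at hlk
  push Not at hlk
  obtain ⟨y, hy, hyg⟩ := hlk
  rw [show k - 2 + 2 = k by omega] at hyg
  set a := ⁅y, g⁆ with ha
  have haA : a ∈ A := by
    show a ∈ (⊤ : Subgroup G).lowerCentralSeries (k - 1)
    rw [show k - 1 = k - 2 + 1 by omega, Subgroup.lowerCentralSeries_succ]
    exact Subgroup.commutator_mem_commutator hy (Subgroup.mem_top g)
  set T := A ⊔ Subgroup.zpowers g
  have hT : Cfsg.IsRegularPGroup p T := by
    refine regular_of_card (hS.isPGroup.to_subgroup T) ?_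
    have h1 : Nat.card T = Nat.card A * Nat.card (T.map (QuotientGroup.mk' A)) := by
      have := Subgroup.relIndex_ker (QuotientGroup.mk' A) (K := T)
      rw [QuotientGroup.ker_mk'] at this
      rw [← this, ← Subgroup.relIndex_bot_left, ← Subgroup.relIndex_bot_left]
      exact (Subgroup.relIndex_mul_relIndex ⊥ A T bot_le le_sup_left).symm
    have h2 : Nat.card (T.map (QuotientGroup.mk' A)) ≤ p := by
      rw [Subgroup.map_sup, MonoidHom.map_zpowers, show A.map (QuotientGroup.mk' A) = ⊥ from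
        (Subgroup.map_eq_bot_iff _).2 (QuotientGroup.ker_mk' A).ge, bot_sup_eq, Nat.card_zpowers]
      refine Nat.le_of_dvd hp.out.pos (orderOf_dvd_of_pow_eq_one ?_)
      rw [← map_pow]
      exact (QuotientGroup.eq_one_iff _).2 hgpA
    rw [h1, hcardA]
    calc p ^ (k + 1) * Nat.card (T.map (QuotientGroup.mk' A)) ≤ p ^ (k + 1) * p := Nat.mul_le_mul_left _ h2
      _ ≤ p ^ p := by rw [← pow_succ]; exact Nat.pow_le_pow_right hp.out.pos (by omega)
  have hap : a ^ p = 1 := by
    have hgT : g ∈ T := Subgroup.mem_sup_right (Subgroup.mem_zpowers g)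
    have haT : a ∈ T := Subgroup.mem_sup_left haA
    have h := (CfsgLib.Perm.RegularP.pow_eq_pow_iff hT 1 ⟨a * g, mul_mem haT hgT⟩ ⟨g, hgT⟩).1 (Subtype.ext (by
      rw [Subgroup.coe_pow, Subgroup.coe_pow, pow_one]
      show (a * g) ^ p = g ^ p
      rw [show a * g = y * g * y⁻¹ by rw [ha, commutatorElement_def]; group, conj_pow, hcen, mul_inv_cancel_right]))
    have h' := congrArg Subtype.val h
    simpa using h'
  have hcomm : IsMulCommutative A := by
    have hak : a ∉ L k := hyg
    have hspan : A = L k ⊔ Subgroup.zpowers a := by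
      refine (Subgroup.eq_of_le_of_card_ge (sup_le (lcs_antitone (by omega)) (Subgroup.zpowers_le.2 haA)) ?_).symm
      obtain ⟨c, hc⟩ := (hS.isPGroup.to_subgroup (L k ⊔ Subgroup.zpowers a)).exists_card_eq
      rw [hcardA, hc]
      refine Nat.pow_le_pow_right hp.out.pos ?_
      by_contra hlt
      refine hak ?_
      rw [Subgroup.eq_of_le_of_card_ge (le_sup_left (a := L k) (b := Subgroup.zpowers a)) (by
        rw [hc, hS.card_lcs k (by omega) (by omega)]; exact Nat.pow_le_pow_right hp.out.pos (by omega))]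
      exact Subgroup.mem_sup_right (Subgroup.mem_zpowers a)
    have hcz : ∀ x ∈ A, ∀ z ∈ L k, x * z = z * x := by
      intro x hx z hz
      rw [← commutatorElement_eq_one_iff_mul_comm, ← Subgroup.mem_bot, ← hbot,
        show 2 * k = k - 1 + k + 1 by omega]
      exact commutator_le _ _ (Subgroup.commutator_mem_commutator hx hz)
    have hle : A ≤ Subgroup.centralizer (A : Set G) := by
      conv_lhs => rw [hspan]
      refine sup_le (fun z hz x hx => hcz x hx z hz) (Subgroup.zpowers_le.2 ?_)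
      rw [Subgroup.mem_centralizer_iff]
      intro x hx
      have : A ≤ Subgroup.centralizer {a} := by
        rw [hspan]
        refine sup_le (fun z hz => Subgroup.mem_centralizer_singleton_iff.2 (hcz a haA z hz).symm) (Subgroup.zpowers_le.2 (Subgroup.mem_centralizer_singleton_iff.2 rfl))
      exact Subgroup.mem_centralizer_singleton_iff.1 (this hx)
    exact Subgroup.le_centralizer_iff_isMulCommutative.1 hle
  refine ⟨A, hcomm, ?_, hcardA⟩
  -- the elements of order dividing `p` of `A` form a normal subgroup not inside `L k`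
  let Ω₁ : Subgroup G :=
    { carrier := {x | x ∈ A ∧ x ^ p = 1}
      one_mem' := ⟨one_mem _, one_pow _⟩
      mul_mem' := fun {x z} hx hz => ⟨mul_mem hx.1 hz.1, by
        rw [Commute.mul_pow (congrArg Subtype.val (hcomm.is_comm.comm ⟨x, hx.1⟩ ⟨z, hz.1⟩)), hx.2, hz.2, one_mul]⟩
      inv_mem' := fun {x} hx => ⟨inv_mem hx.1, by rw [inv_pow, hx.2, inv_one]⟩ }
  haveI : Ω₁.Normal := ⟨fun x hx z => ⟨(inferInstance : A.Normal).conj_mem x hx.1 z, by
    rw [conj_pow, hx.2, mul_one, mul_inv_cancel]⟩⟩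
  obtain ⟨r, hr⟩ := hS.isPGroup.index Ω₁
  have hle : Ω₁ ≤ A := fun x hx => hx.1
  have hr2 : k ≤ r := by
    have h1 := Subgroup.index_dvd_of_le hle
    rw [hA, hS.index_lcs _ (by omega) (by omega), hr] at h1
    have := (Nat.pow_dvd_pow_iff_le_right hp.out.one_lt).1 h1
    omega
  haveI := hS.isPGroup.isNilpotent
  have hcl : Group.nilpotencyClass G = 2 * k + 1 - 1 := by
    refine le_antisymm (Subgroup.lowerCentralSeries_eq_bot_iff_nilpotencyClass_le.1 hS.lcs_last) ?_
    by_contra hlt
    exact hS.2.2 (Subgroup.lowerCentralSeries_eq_bot_iff_nilpotencyClass_le.2 (by omega))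
  have hΩ := (Cfsg.Agent.S0662.result (2 * k + 1) hS.2.1 hcl hS.1).1 Ω₁ r (by omega) hr
  intro x hx
  have hxΩ : x ∈ Ω₁ := by
    rcases eq_or_lt_of_le hr2 with rfl | hlt
    · rw [hΩ]; exact hx
    · exfalso
      have haΩ : a ∈ Ω₁ := ⟨haA, hap⟩
      rw [hΩ] at haΩ
      exact hyg (lcs_antitone (by omega) haΩ)
  exact hxΩ.2

theorem card_le {k : ℕ} (hG : IsPGroup p G) [Group.IsNilpotent G] (n : ℕ) (hn : 2 ≤ n) (hcard : Nat.card G = p ^ n)
    (hmax : Group.nilpotencyClass G = n - 1) (hk : 1 ≤ k) (hsr : Cfsg.SectionalPRankLE p k G) (hpk : k + 2 ≤ p) :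
    Nat.card G ≤ p ^ (2 * k) := by
  classical
  rw [hcard]
  refine Nat.pow_le_pow_right hp.out.pos ?_
  by_contra hlt
  have hS : Setting p n G := ⟨by omega, hcard, fun h => by
    have := Subgroup.lowerCentralSeries_eq_bot_iff_nilpotencyClass_le.1 h
    omega⟩
  have hsec : ∀ (m : ℕ) (_ : 1 ≤ m) (_ : m ≤ n - 1) (B : Subgroup (G ⧸ L m)), IsMulCommutative B →
      (∀ b ∈ B, b ^ p = 1) → Nat.card B ≤ p ^ k := by
    intro m _ _ B hB hBp
    haveI : (((L m)).subgroupOf (⊤ : Subgroup G)).Normal := Subgroup.normal_subgroupOf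
    let φ : G ⧸ L m →* (⊤ : Subgroup G) ⧸ (L m).subgroupOf ⊤ :=
      QuotientGroup.map (L m) ((L m).subgroupOf ⊤) (Subgroup.topEquiv (G := G)).symm.toMonoidHom
        (fun x hx => Subgroup.mem_comap.2 (Subgroup.mem_subgroupOf.2 hx))
    have hinj : Function.Injective φ := by
      rw [injective_iff_map_eq_one]
      intro q hq
      obtain ⟨x, rfl⟩ := QuotientGroup.mk_surjective q
      exact (QuotientGroup.eq_one_iff x).2 (Subgroup.mem_subgroupOf.1 ((QuotientGroup.eq_one_iff _).1 hq))
    rw [← Subgroup.card_map_of_injective (K := B) hinj]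
    refine hsr ⊤ ((L m).subgroupOf ⊤) (B.map φ) ⟨⟨?_⟩⟩ ?_
    · rintro ⟨_, b, hb, rfl⟩ ⟨_, c, hc, rfl⟩
      refine Subtype.ext ?_
      show φ b * φ c = φ c * φ b
      have e : b * c = c * b := congrArg Subtype.val (hB.is_comm.comm ⟨b, hb⟩ ⟨c, hc⟩)
      rw [← map_mul, ← map_mul, e]
    · rintro _ ⟨b, hb, rfl⟩
      rw [← map_pow, hBp b hb, map_one]
  rcases Nat.lt_or_ge k 2 with h1 | h2
  · obtain rfl : k = 1 := by omega
    have hL1 : L 1 = commutator G := by
      show (⊤ : Subgroup G).lowerCentralSeries 1 = _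
      rw [Subgroup.lowerCentralSeries_succ, Subgroup.lowerCentralSeries_zero]; rfl
    have h := hsec 1 le_rfl (by omega) ⊤ ⟨⟨fun x y => Subtype.ext (by
      obtain ⟨u, hu⟩ := QuotientGroup.mk'_surjective (L 1) x.1
      obtain ⟨v, hv⟩ := QuotientGroup.mk'_surjective (L 1) y.1
      show x.1 * y.1 = y.1 * x.1
      rw [← hu, ← hv, ← commutatorElement_eq_one_iff_mul_comm, ← map_commutatorElement]
      refine (QuotientGroup.eq_one_iff _).2 ?_
      rw [hL1]
      exact Subgroup.commutator_mem_commutator (Subgroup.mem_top u) (Subgroup.mem_top v))⟩⟩ (by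
      intro b _
      obtain ⟨x, rfl⟩ := QuotientGroup.mk_surjective b
      rw [← QuotientGroup.mk_pow]
      exact (QuotientGroup.eq_one_iff _).2 (hS.pow_mem 1 le_rfl (by omega) (by omega) x))
    rw [Subgroup.card_top, ← Subgroup.index_eq_card, hS.index_lcs 1 le_rfl (by omega)] at h
    have := (Nat.pow_le_pow_iff_right hp.out.one_lt).1 h
    omega
  · haveI : ((⊤ : Subgroup G).lowerCentralSeries (2 * k)).Normal := Subgroup.normal_of_characteristic _
    have hQ : Setting p (2 * k + 1) (G ⧸ L (2 * k)) := by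
      refine ⟨by omega, ?_, fun h => ?_⟩
      · rw [← Subgroup.index_eq_card, hS.index_lcs _ (by omega) (by omega)]
      · rw [show (2 * k + 1 - 2) = 2 * k - 1 by omega,
          ← Subgroup.map_top_of_surjective (QuotientGroup.mk' ((⊤ : Subgroup G).lowerCentralSeries (2 * k))) (QuotientGroup.mk'_surjective _),
          ← Subgroup.map_lowerCentralSeries, Subgroup.map_eq_bot_iff, QuotientGroup.ker_mk'] at h
        have h1 := Subgroup.card_le_of_le h
        rw [hS.card_lcs (2 * k) (by omega) (by omega), hS.card_lcs (2 * k - 1) (by omega) (by omega)] at h1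
        have := (Nat.pow_le_pow_iff_right hp.out.one_lt).1 h1
        omega
    obtain ⟨B, hB, hBp, hBc⟩ := exists_elementary (by omega) hpk hQ
    have h := hsec (2 * k) (by omega) (by omega) B hB hBp
    rw [hBc] at h
    have := (Nat.pow_le_pow_iff_right hp.out.one_lt).1 h
    omega

end CfsgLib.Fus.MaxClassRank
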