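import Cfsg.Agent.Fus.GenExtraNormal
import Cfsg.Agent.Solv.RankTwoNormal

/-!
Strongly closed metacyclic subgroups are normal for odd primes.  A chain of strongly closed subgroups with central
factors is built from the bottom; the only nontrivial step is a factor `Ω₁` of order `p ^ 2` that is not central, where a
map inverting it would extend to the whole subgroup and fix a nontrivial element.
-/

set_option autoImplicit false
set_option linter.style.haveILetI false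
set_option linter.unusedSectionVars false

open Cfsg Cfsg.FusionSystem
open scoped commutatorElement

namespace CfsgLib.Fus.MetaOdd

universe u v

variable {Ω : Type u} [Group Ω] {S : Subgroup Ω} {F : FusionSystem S} {p : ℕ}

/-- A conjugate under `L` moves the image of `L ∩ Aut_S(R)` back into `Aut_S(R)`. -/
theorem exists_normalizing [Finite S] [Fact p.Prime] {R : Subgroup Ω} (hA : F.IsFullyAutomized p R)
    {L : Subgroup (MulAut R)} (hLA : L ≤ F.autGroup R) {β : MulAut R} (hβ : β ∈ F.autGroup R)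
    (hLS : ∀ γ ∈ autInducedBy S R, ∀ κ ∈ L, γ * κ * γ⁻¹ ∈ L) (hLβ : ∀ κ ∈ L, β * κ * β⁻¹ ∈ L) :
    ∃ κ ∈ L, ∀ γ ∈ autInducedBy S R, γ ∈ L → κ * β * γ * (κ * β)⁻¹ ∈ autInducedBy S R := by
  classical
  haveI := finite_mulAut hA.1
  obtain ⟨Rs, hRs⟩ := hA.2
  let A := F.autGroup R
  set LA := L.subgroupOf A with hLA'
  set H := Subgroup.normalizer (LA : Set ↥A) with hH
  have hRH : (Rs : Subgroup ↥A) ≤ H := fun g hg => Subgroup.mem_normalizer_fintype fun k hk => by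
    rw [SetLike.mem_coe, Subgroup.mem_subgroupOf]
    exact hLS g (Subgroup.mem_subgroupOf.1 (hRs.le hg)) k hk
  have hsyl : SylowIn p (Rs : Subgroup ↥A) H :=
    (sylowIn_iff Rs.isPGroup' hRH).2 fun h => Rs.not_dvd_index (h.trans (Subgroup.relIndex_dvd_index_of_le hRH))
  obtain ⟨U, hU⟩ := sylowIn_inf hsyl hRH (C := LA) Subgroup.le_normalizer le_rfl
  let b : ↥A := ⟨β, hβ⟩
  let X : Subgroup ↥LA :=
    (((Rs : Subgroup ↥A) ⊓ LA).map (MulAut.conj b).toMonoidHom).comap LA.subtype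
  have hXp : IsPGroup p ↥X :=
    ((Rs.isPGroup'.to_le inf_le_left).map _).comap_of_injective LA.subtype LA.subtype_injective
  obtain ⟨Y, hY⟩ := hXp.exists_le_sylow
  obtain ⟨κ, hκ⟩ := MulAction.exists_smul_eq ↥LA Y U
  refine ⟨κ.1.1, κ.2, fun γ hγ hγL => ?_⟩
  have h1 : (⟨γ, autInducedBy_le_autGroup hA.1 hγ⟩ : ↥A) ∈ (Rs : Subgroup ↥A) ⊓ LA :=
    ⟨hRs.ge hγ, hγL⟩
  have h2 : b * ⟨γ, autInducedBy_le_autGroup hA.1 hγ⟩ * b⁻¹ ∈ LA := hLβ γ hγL
  have h3 : MulAut.conj κ • (⟨_, h2⟩ : ↥LA) ∈ (U : Subgroup ↥LA) := by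
    rw [← hκ, Sylow.coe_subgroup_smul]
    exact Subgroup.smul_mem_pointwise_smul _ _ _ (hY ⟨_, h1, rfl⟩)
  rw [hU] at h3
  have h4 := (Subgroup.mem_subgroupOf.1 h3).1
  replace h4 := Subgroup.mem_subgroupOf.1 (hRs.le h4)
  show κ.1.1 * β * γ * (κ.1.1 * β)⁻¹ ∈ _
  rw [show κ.1.1 * β * γ * (κ.1.1 * β)⁻¹ = κ.1.1 * (β * γ * β⁻¹) * (κ.1.1)⁻¹ by group]
  exact h4

/-- `Ω₁` of a metacyclic `p`-group of odd order: either central, or of order `p ^ 2` meeting the centre in order `p`. -/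
theorem omega_data {Q : Type*} [Group Q] [Finite Q] [Fact p.Prime] (hp : p ≠ 2) (hQ : IsPGroup p Q)
    (hm : Cfsg.IsMetacyclic Q) [Nontrivial Q] : ∃ E : Subgroup Q, E ≠ ⊥ ∧ (∀ x, x ∈ E ↔ x ^ p = 1) ∧
      (∀ a ∈ E, ∀ b ∈ E, a * b = b * a) ∧
      (E ≤ Subgroup.center Q ∨ (Nat.card E = p ^ 2 ∧ Nat.card ↥(E ⊓ Subgroup.center Q) = p ∧
        ∀ q : Q, ∀ e ∈ E, ⁅e, q⁆ ∈ E ⊓ Subgroup.center Q)) := by
  classical
  have hpp : p.Prime := Fact.out
  obtain ⟨k, hk⟩ := IsPGroup.iff_card.1 hQ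
  have hk0 : k ≠ 0 := fun h => by
    have := Finite.one_lt_card (α := Q)
    simp [hk, h] at this
  obtain ⟨x₀, hx₀⟩ := exists_prime_orderOf_dvd_card' (G := Q) p (hk ▸ dvd_pow_self p hk0)
  have hx₁ : x₀ ≠ 1 := fun h => hpp.ne_one (by rw [← hx₀, h, orderOf_one])
  have hx₂ : x₀ ^ p = 1 := hx₀ ▸ pow_orderOf_eq_one x₀
  by_cases hc : IsCyclic Q
  · letI := hc.commGroup
    refine ⟨(powMonoidHom p : Q →* Q).ker, fun h => hx₁ ?_, fun x => MonoidHom.mem_ker, fun a _ b _ => mul_comm a b,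
      Or.inl fun a _ => Subgroup.mem_center_iff.2 fun b => mul_comm b a⟩
    have : x₀ ∈ (powMonoidHom p : Q →* Q).ker := MonoidHom.mem_ker.2 hx₂
    rwa [h, Subgroup.mem_bot] at this
  obtain ⟨hEe, hEc⟩ := CfsgLib.Solv.omegaOne_metacyclic hp hQ hm hc
  set E := Cfsg.omegaOne p (⊤ : Subgroup Q) with hE
  have hmem : ∀ x, x ∈ E ↔ x ^ p = 1 := fun x =>
    ⟨fun h => hEe.2 x h, fun h => Subgroup.subset_closure ⟨trivial, h⟩⟩
  have hab : ∀ a ∈ E, ∀ b ∈ E, a * b = b * a := fun a ha b hb => by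
    haveI := hEe.1
    exact congrArg Subtype.val (mul_comm' (⟨a, ha⟩ : E) ⟨b, hb⟩)
  refine ⟨E, fun h => hx₁ (Subgroup.mem_bot.1 (h ▸ (hmem x₀).2 hx₂)), hmem, hab, ?_⟩
  by_cases hcen : E ≤ Subgroup.center Q
  · exact Or.inl hcen
  haveI : E.Normal := ⟨fun e he g => (hmem _).2 (by rw [conj_pow, (hmem e).1 he, mul_one, mul_inv_cancel])⟩
  have hcomm : ∀ q : Q, ∀ e ∈ E, ⁅e, q⁆ ∈ E ⊓ Subgroup.center Q := fun q e he => by
    refine ⟨?_, CfsgLib.Solv.commutator_mem_center_of_card_sq hQ hEc he q⟩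
    rw [commutatorElement_def, show e * q * e⁻¹ * q⁻¹ = e * (q * e⁻¹ * q⁻¹) by group]
    exact E.mul_mem he (Subgroup.Normal.conj_mem inferInstance _ (E.inv_mem he) q)
  refine Or.inr ⟨hEc, ?_, hcomm⟩
  obtain ⟨j, hj, hj'⟩ := (Nat.dvd_prime_pow hpp).1
    (hEc ▸ Subgroup.card_dvd_of_le (inf_le_left : E ⊓ Subgroup.center Q ≤ E))
  rcases j with _ | _ | _ | j
  · exfalso
    rw [pow_zero] at hj'
    have hb := Subgroup.eq_bot_of_card_eq _ hj'
    refine hcen fun e he => Subgroup.mem_center_iff.2 fun q => ?_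
    have h := hcomm q e he
    rw [hb, Subgroup.mem_bot, commutatorElement_eq_one_iff_mul_comm] at h
    exact h.symm
  · rw [hj', pow_one]
  · exact absurd ((Subgroup.eq_of_le_of_card_ge (inf_le_left : E ⊓ Subgroup.center Q ≤ E)
      (by rw [hEc, hj'])).ge.trans inf_le_right) hcen
  · omega

/-- The key step: a noncentral `Ω₁` of order `p ^ 2` has an invariant line. -/
theorem line_invariant [Finite S] [Fact p.Prime] (hp : p ≠ 2) (hS : IsPGroup p S) (hF : F.IsSaturated p)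
    {P T U : Subgroup Ω} (hP : F.StronglyClosed P) (hT : F.StronglyClosed T) (hU : F.IsNormal U) (hUP : U ≤ P)
    (hTU : T ≤ U) {Q : Type v} [Group Q] (π : ↥P →* Q) (hπs : Function.Surjective π)
    (hπk : ∀ x : ↥P, π x = 1 ↔ (x : Ω) ∈ T) {E : Subgroup Q} (hEmem : ∀ x, x ∈ E ↔ x ^ p = 1)
    (hEU : ∀ x : ↥P, (x : Ω) ∈ U ↔ π x ∈ E) (hEab : ∀ a ∈ E, ∀ b ∈ E, a * b = b * a) (hEc : Nat.card E = p ^ 2)
    (hZc : Nat.card ↥(E ⊓ Subgroup.center Q) = p) (hcomm : ∀ q : Q, ∀ e ∈ E, ⁅e, q⁆ ∈ E ⊓ Subgroup.center Q) :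
    ∀ α ∈ F.autGroup U, ∀ x : ↥P, (x : Ω) ∈ U → π x ∈ Subgroup.center Q →
      ∀ x' : ↥P, (x' : Ω) = autFun α x → π x' ∈ Subgroup.center Q := by
  classical
  intro α hα x₀ hx₀U hx₀Z x₀' hx₀' 
  by_contra hne
  have hpp : p.Prime := Fact.out
  have hPS : P ≤ S := hP.1
  have hUS : U ≤ S := hU.1
  haveI := finite_of_le hPS
  haveI : Finite Q := Finite.of_surjective π hπs
  haveI := finite_of_le hUS
  haveI := finite_mulAut (S := S) hUS
  set Zb := E ⊓ Subgroup.center Q with hZb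
  let π' : Ω → Q := fun g => if h : g ∈ P then π ⟨g, h⟩ else 1
  have πm : ∀ g, ∀ hg : g ∈ P, π' g = π ⟨g, hg⟩ := fun g hg => dif_pos hg
  have πmul : ∀ a ∈ P, ∀ b ∈ P, π' (a * b) = π' a * π' b := fun a ha b hb => by
    rw [πm a ha, πm b hb, πm _ (P.mul_mem ha hb), ← map_mul]; rfl
  have πinv : ∀ a ∈ P, π' a⁻¹ = (π' a)⁻¹ := fun a ha => by
    rw [πm a ha, πm _ (P.inv_mem ha), ← map_inv]; rfl
  have πpow : ∀ a ∈ P, ∀ n : ℕ, π' (a ^ n) = π' a ^ n := fun a ha n => by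
    rw [πm a ha, πm _ (P.pow_mem ha n), ← map_pow]; rfl
  have π1 : π' 1 = 1 := by rw [πm 1 P.one_mem]; exact map_one π
  have πU : ∀ u ∈ U, π' u ∈ E := fun u hu => by rw [πm u (hUP hu)]; exact (hEU _).1 hu
  have πlift : ∀ e ∈ E, ∃ u ∈ U, π' u = e := fun e he => by
    obtain ⟨⟨u, hu⟩, rfl⟩ := hπs e
    exact ⟨u, (hEU ⟨u, hu⟩).2 he, πm u hu⟩
  have hAU : ∀ γ : MulAut U, ∀ u ∈ U, autFun γ u ∈ P := fun γ u hu => hUP (autFun_mem γ hu)
  have hcong : ∀ γ ∈ F.autGroup U, ∀ a ∈ U, ∀ b ∈ U, π' a = π' b → π' (autFun γ a) = π' (autFun γ b) := by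
    intro γ hγ a ha b hb h
    have haP := hUP ha
    have hbP := hUP hb
    have hT' : a⁻¹ * b ∈ T := (hπk ⟨_, P.mul_mem (P.inv_mem haP) hbP⟩).1 (by
      rw [← πm, πmul _ (P.inv_mem haP) _ hbP, πinv a haP, h, inv_mul_cancel])
    have h1 := autFun_mem_of_stronglyClosed hT hUS hγ (U.mul_mem (U.inv_mem ha) hb) hT'
    rw [autFun_map_mul γ (U.inv_mem ha) hb, autFun_map_inv γ ha] at h1
    have h2 : π' ((autFun γ a)⁻¹ * autFun γ b) = 1 := by
      rw [πm _ (P.mul_mem (P.inv_mem (hAU γ a ha)) (hAU γ b hb))]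
      exact (hπk _).2 h1
    rw [πmul _ (P.inv_mem (hAU γ a ha)) _ (hAU γ b hb), πinv _ (hAU γ a ha)] at h2
    exact inv_mul_eq_one.1 h2
  have hact : ∀ γ : MulAut U, ∀ a ∈ U, ∀ b ∈ U, π' (autFun γ (a * b)) = π' (autFun γ a) * π' (autFun γ b) :=
    fun γ a ha b hb => by rw [autFun_map_mul γ ha hb, πmul _ (hAU γ a ha) _ (hAU γ b hb)]
  have hactp : ∀ γ : MulAut U, ∀ a ∈ U, ∀ n : ℕ, π' (autFun γ (a ^ n)) = π' (autFun γ a) ^ n :=
    fun γ a ha n => by rw [GenExtra.autFun_pow_mem γ ha, πpow _ (hAU γ a ha)]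
  have hEp : ∀ e ∈ E, e ^ p = 1 := fun e he => (hEmem e).1 he
  have hZcen : ∀ e ∈ Zb, ∀ q : Q, q * e = e * q := fun e he q => Subgroup.mem_center_iff.1 he.2 q
  -- the moved line
  set x : Ω := (x₀ : Ω) with hx
  set y : Ω := autFun α x with hy
  have hxU : x ∈ U := hx₀U
  have hyU : y ∈ U := autFun_mem α hxU
  have hyZ : π' y ∉ Zb := fun h => hne (by
    have h' := h.2
    rw [πm y (hUP hyU)] at h'
    rwa [show x₀' = ⟨y, hUP hyU⟩ from Subtype.ext hx₀'])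
  have hxZ : π' x ∈ Zb := ⟨πU x hxU, by rw [πm x x₀.2]; exact hx₀Z⟩
  have hx1 : π' x ≠ 1 := fun h => hyZ (by
    rw [hy, hcong α hα x hxU 1 U.one_mem (h.trans π1.symm), autFun_of_mem α U.one_mem,
      show ((α ⟨1, U.one_mem⟩ : U) : Ω) = 1 from congrArg Subtype.val (map_one α), π1]
    exact Zb.one_mem)
  obtain ⟨w, hwP, hw⟩ : ∃ w ∈ P, π' w * π' y * (π' w)⁻¹ = π' y * π' x := by
    have hnc : π' y ∉ Subgroup.center Q := fun h => hyZ ⟨πU y hyU, h⟩
    rw [Subgroup.mem_center_iff] at hnc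
    push Not at hnc
    obtain ⟨q, hq⟩ := hnc
    set e := π' y
    have heE : e ∈ E := πU y hyU
    set ζ := ⁅e⁻¹, q⁆ with hζ
    have hζZ : ζ ∈ Zb := hcomm q _ (E.inv_mem heE)
    have hζ1 : ζ ≠ 1 := fun h => hq (by
      have h' := commutatorElement_eq_one_iff_mul_comm.1 h
      calc q * e = e * (e⁻¹ * q) * e := by group
        _ = e * q := by rw [h']; group)
    obtain ⟨m, -, hm⟩ := CfsgLib.Solv.exists_pow_eq_of_mem hZc hζZ hζ1 hxZ
    have hit : ∀ n : ℕ, q ^ n * e * (q ^ n)⁻¹ = e * ζ ^ n := by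
      intro n
      induction n with
      | zero => simp
      | succ n ih =>
        have h1 : q * e * q⁻¹ = e * ζ := by rw [hζ, commutatorElement_def]; group
        rw [show q ^ (n + 1) * e * (q ^ (n + 1))⁻¹ = q * (q ^ n * e * (q ^ n)⁻¹) * q⁻¹ by rw [pow_succ']; group, ih,
          show q * (e * ζ ^ n) * q⁻¹ = q * e * q⁻¹ * (q * ζ ^ n * q⁻¹) by group, h1,
          hZcen _ (Zb.pow_mem hζZ n) q, mul_inv_cancel_right, mul_assoc, ← pow_succ']
    obtain ⟨⟨w, hwP⟩, hwq⟩ := hπs (q ^ m)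
    exact ⟨w, hwP, by rw [πm w hwP, hwq, hit m, hm]⟩
  have hgen : ∀ u ∈ U, ∃ i j : ℕ, π' u = π' y ^ i * π' x ^ j := by
    intro u hu
    have hye : π' y ∈ E := πU y hyU
    have hle : Subgroup.zpowers (π' y) ⊔ Subgroup.zpowers (π' x) ≤ E :=
      sup_le (Subgroup.zpowers_le.2 hye) (Subgroup.zpowers_le.2 hxZ.1)
    have hzx : Subgroup.zpowers (π' x) = Zb := by
      refine Subgroup.eq_of_le_of_card_ge (Subgroup.zpowers_le.2 hxZ) ?_
      rw [hZc, Nat.card_zpowers, orderOf_eq_prime (hEp _ hxZ.1) hx1]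
    have hlt : Zb < Subgroup.zpowers (π' y) ⊔ Subgroup.zpowers (π' x) :=
      lt_of_le_of_ne (hzx ▸ le_sup_right) fun h => hyZ (h ▸ Subgroup.mem_sup_left (Subgroup.mem_zpowers _))
    obtain ⟨k, hk2, hk⟩ := (Nat.dvd_prime_pow hpp).1 (hEc ▸ Subgroup.card_dvd_of_le hle)
    have hk' : k = 2 := by
      have h1 := CfsgLib.Fus.card_lt_of_lt hle hlt
      rw [hZc, hk] at h1
      rcases k with _ | _ | k
      · simp at h1; have := hpp.two_le; omega
      · simp at h1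
      · omega
    have heq := Subgroup.eq_of_le_of_card_ge hle (by rw [hk, hk', hEc])
    obtain ⟨a, ha, b, hb, hab⟩ := GenExtra.exists_mul_of_mem_sup_zpowers (hEab _ hye _ hxZ.1)
      (heq.ge (πU u hu))
    obtain ⟨i, hi⟩ := GenExtra.exists_pow_eq_of_zpowers hpp.pos (hEp _ hye) ha
    obtain ⟨j, hj⟩ := GenExtra.exists_pow_eq_of_zpowers hpp.pos (hEp _ hxZ.1) hb
    exact ⟨i, j, by rw [← hab, hi, hj]⟩
  have hext : ∀ γ ∈ F.autGroup U, ∀ u ∈ U, ∀ i j : ℕ, π' u = π' y ^ i * π' x ^ j →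
      π' (autFun γ u) = π' (autFun γ y) ^ i * π' (autFun γ x) ^ j := by
    intro γ hγ u hu i j h
    rw [hcong γ hγ u hu (y ^ i * x ^ j) (U.mul_mem (U.pow_mem hyU i) (U.pow_mem hxU j)) (by
      rw [h, πmul _ (P.pow_mem (hUP hyU) i) _ (P.pow_mem (hUP hxU) j), πpow _ (hUP hyU), πpow _ (hUP hxU)]),
      hact γ _ (U.pow_mem hyU i) _ (U.pow_mem hxU j), hactp γ y hyU, hactp γ x hxU]
  have hxy : Commute (π' y) (π' x) := hEab _ (πU y hyU) _ hxZ.1
  -- the transvection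
  have hUn : ∀ g ∈ S, g ∈ Subgroup.normalizer (U : Set Ω) := fun g hg => stronglyClosed_normal (isNormal_stronglyClosed hU) hg
  obtain ⟨τ, hτS, hτ⟩ := exists_autInducedBy (K := S) (P := U) (hPS hwP) (hUn w (hPS hwP))
  have hτA : τ ∈ F.autGroup U := autInducedBy_le_autGroup hUS hτS
  have hτπ : ∀ u ∈ U, π' (autFun τ u) = π' w * π' u * (π' w)⁻¹ := fun u hu => by
    rw [hτ u hu, πmul _ (P.mul_mem hwP (hUP hu)) _ (P.inv_mem hwP), πmul _ hwP _ (hUP hu), πinv w hwP]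
  have hτx : π' (autFun τ x) = π' x := by rw [hτπ x hxU, hZcen _ hxZ, mul_inv_cancel_right]
  have hτy : π' (autFun τ y) = π' y * π' x := by rw [hτπ y hyU, hw]
  set τ' := α * τ * α⁻¹ with hτ'
  have hτ'A : τ' ∈ F.autGroup U :=
    Subgroup.mul_mem _ (Subgroup.mul_mem _ hα hτA) (Subgroup.inv_mem _ hα)
  have hτ'u : ∀ u ∈ U, ∃ k : ℕ, π' (autFun τ' u) = π' u * π' y ^ k := by
    intro u hu
    have hd := autFun_mem α⁻¹ hu
    obtain ⟨i, j, hij⟩ := hgen _ hd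
    refine ⟨i, ?_⟩
    have h1 : π' (autFun τ (autFun α⁻¹ u)) = π' (autFun α⁻¹ u * x ^ i) := by
      rw [hext τ hτA _ hd i j hij, hτy, hτx, πmul _ (hUP hd) _ (P.pow_mem (hUP hxU) i), πpow _ (hUP hxU), hij,
        hxy.mul_pow, mul_assoc, mul_assoc, (Commute.pow_pow (Commute.refl (π' x)) i j).eq]
    rw [hτ', autFun_conj _ _ hu, hcong α hα _ (autFun_mem τ hd) _ (U.mul_mem hd (U.pow_mem hxU i)) h1,
      hact α _ hd _ (U.pow_mem hxU i), hactp α x hxU, autFun_inv_apply α hu]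
  have hτ'y : π' (autFun τ' y) = π' y := by
    rw [hτ', autFun_conj _ _ hyU, hy, autFun_inv_apply' α hxU]
    exact hcong α hα _ (autFun_mem τ hxU) _ hxU hτx
  obtain ⟨b, hb⟩ := hτ'u x hxU
  have hyp : π' y ^ p = 1 := hEp _ (πU y hyU)
  have hxp : π' x ^ p = 1 := hEp _ hxZ.1
  have hb0 : ¬ p ∣ b := by
    rintro ⟨m, rfl⟩
    rw [pow_mul, hyp, one_pow, mul_one] at hb
    have hid : ∀ u ∈ U, π' (autFun τ' u) = π' u := fun u hu => by
      obtain ⟨i, j, hij⟩ := hgen u hu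
      rw [hext τ' hτ'A u hu i j hij, hτ'y, hb, hij]
    have h1 := hid _ (autFun_mem α hyU)
    rw [hτ', autFun_conj _ _ (autFun_mem α hyU), autFun_inv_apply' α hyU] at h1
    have h2 := hcong α⁻¹ (Subgroup.inv_mem _ hα) _ (autFun_mem α (autFun_mem τ hyU)) _ (autFun_mem α hyU) h1
    rw [autFun_inv_apply' α (autFun_mem τ hyU), autFun_inv_apply' α hyU, hτy, mul_eq_left] at h2
    exact hx1 h2
  obtain ⟨m, -, hm⟩ := Nat.exists_mul_mod_eq_one_of_coprime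
    ((hpp.coprime_iff_not_dvd.2 hb0).symm) hpp.one_lt
  set σ := τ' ^ (m * (p - 1)) with hσ
  have hσA : σ ∈ F.autGroup U := Subgroup.pow_mem _ hτ'A _
  have hit' : ∀ n : ℕ, π' (autFun (τ' ^ n) x) = π' x * π' y ^ (b * n) ∧ π' (autFun (τ' ^ n) y) = π' y := by
    intro n
    induction n with
    | zero => exact ⟨by rw [pow_zero, autFun_one hxU, Nat.mul_zero, pow_zero, mul_one],
        by rw [pow_zero, autFun_one hyU]⟩
    | succ n ih =>
      refine ⟨?_, ?_⟩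
      · rw [pow_succ', autFun_mul _ _ hxU, hcong τ' hτ'A _ (autFun_mem _ hxU) (x * y ^ (b * n))
          (U.mul_mem hxU (U.pow_mem hyU _)) (by rw [ih.1, πmul _ (hUP hxU) _ (P.pow_mem (hUP hyU) _),
            πpow _ (hUP hyU)]), hact τ' _ hxU _ (U.pow_mem hyU _), hactp τ' y hyU, hτ'y, hb, mul_assoc, ← pow_add,
          Nat.mul_succ, add_comm b]
      · rw [pow_succ', autFun_mul _ _ hyU, hcong τ' hτ'A _ (autFun_mem _ hyU) y hyU ih.2, hτ'y]
  have hσx : π' (autFun σ x) = π' x * (π' y)⁻¹ := by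
    rw [hσ, (hit' _).1]
    congr 1
    refine eq_inv_of_mul_eq_one_left ?_
    rw [pow_eq_pow_mod (b * (m * (p - 1))) hyp, ← mul_assoc, Nat.mul_mod, hm, one_mul, Nat.mod_mod,
      ← pow_eq_pow_mod (p - 1) hyp, ← pow_succ, Nat.sub_add_cancel hpp.one_le, hyp]
  have hσy : π' (autFun σ y) = π' y := (hit' _).2
  set J := τ * σ * τ with hJ
  have hJA : J ∈ F.autGroup U := Subgroup.mul_mem _ (Subgroup.mul_mem _ hτA hσA) hτA
  have hJx : π' (autFun J x) = (π' y)⁻¹ := by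
    rw [hJ, autFun_mul _ _ hxU, autFun_mul _ _ (autFun_mem τ hxU),
      hcong τ hτA _ (autFun_mem σ (autFun_mem τ hxU)) (x * y⁻¹) (U.mul_mem hxU (U.inv_mem hyU)) (by
        rw [hcong σ hσA _ (autFun_mem τ hxU) x hxU hτx, hσx, πmul _ (hUP hxU) _ (P.inv_mem (hUP hyU)),
          πinv _ (hUP hyU)]),
      hact τ _ hxU _ (U.inv_mem hyU), autFun_map_inv τ hyU, πinv _ (hAU τ y hyU), hτx, hτy, mul_inv_rev,
      mul_inv_cancel_left]
  have hJy : π' (autFun J y) = π' x := by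
    rw [hJ, autFun_mul _ _ hyU, autFun_mul _ _ (autFun_mem τ hyU),
      hcong τ hτA _ (autFun_mem σ (autFun_mem τ hyU)) x hxU (by
        rw [hcong σ hσA _ (autFun_mem τ hyU) (y * x) (U.mul_mem hyU hxU)
          (by rw [hτy, πmul _ (hUP hyU) _ (hUP hxU)]), hact σ _ hyU _ hxU, hσy, hσx, ← mul_assoc, hxy.eq,
          mul_inv_cancel_right]), hτx]
  set β := J * J with hβ
  have hβA : β ∈ F.autGroup U := Subgroup.mul_mem _ hJA hJA
  have hβinv : ∀ u ∈ U, π' (autFun β u) = (π' u)⁻¹ := by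
    have hβx : π' (autFun β x) = (π' x)⁻¹ := by
      rw [hβ, autFun_mul _ _ hxU, hcong J hJA _ (autFun_mem J hxU) y⁻¹ (U.inv_mem hyU)
        (by rw [hJx, πinv _ (hUP hyU)]), autFun_map_inv J hyU, πinv _ (hAU J y hyU), hJy]
    have hβy : π' (autFun β y) = (π' y)⁻¹ := by
      rw [hβ, autFun_mul _ _ hyU, hcong J hJA _ (autFun_mem J hyU) x hxU hJy, hJx]
    intro u hu
    obtain ⟨i, j, hij⟩ := hgen u hu
    rw [hext β hβA u hu i j hij, hβx, hβy, hij, mul_inv_rev, inv_pow, inv_pow,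
      (((hxy.pow_pow i j).inv_inv).eq)]
  -- the stabilizer of the flag
  let L : Subgroup (MulAut U) :=
    { carrier := {κ | κ ∈ F.autGroup U ∧ ∀ u ∈ U, (π' u)⁻¹ * π' (autFun κ u) ∈ Zb ∧
        (π' u ∈ Zb → π' (autFun κ u) = π' u)}
      one_mem' := ⟨Subgroup.one_mem _, fun u hu =>
        ⟨by rw [autFun_one hu, inv_mul_cancel]; exact Zb.one_mem, fun _ => by rw [autFun_one hu]⟩⟩
      mul_mem' := by
        rintro κ κ' ⟨hκA, hκ⟩ ⟨hκA', hκ'⟩
        refine ⟨Subgroup.mul_mem _ hκA hκA', fun u hu => ?_⟩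
        have hu' := autFun_mem κ' hu
        rw [autFun_mul _ _ hu]
        refine ⟨?_, fun h => ?_⟩
        · have := Zb.mul_mem (hκ' u hu).1 (hκ _ hu').1
          rwa [mul_assoc, mul_inv_cancel_left] at this
        · have h1 := (hκ' u hu).2 h
          rw [(hκ _ hu').2 (h1.symm ▸ h), h1]
      inv_mem' := by
        rintro κ ⟨hκA, hκ⟩
        refine ⟨Subgroup.inv_mem _ hκA, fun u hu => ?_⟩
        have hu' := autFun_mem κ⁻¹ hu
        have h1 := hκ _ hu'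
        rw [autFun_inv_apply κ hu] at h1
        refine ⟨?_, fun h => ?_⟩
        · have := Zb.inv_mem h1.1
          rwa [mul_inv_rev, inv_inv] at this
        · refine (h1.2 ?_).symm
          have := Zb.mul_mem h (Zb.inv_mem h1.1)
          rwa [mul_inv_rev, inv_inv, mul_inv_cancel_left] at this }
  have hLS : ∀ γ ∈ autInducedBy S U, ∀ κ ∈ L, γ * κ * γ⁻¹ ∈ L := by
    intro γ hγ κ hκ
    have hγA : γ ∈ F.autGroup U := autInducedBy_le_autGroup hUS hγ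
    obtain ⟨g, hgS, hg⟩ := mem_autInducedBy.1 hγ
    have hPn := stronglyClosed_normal hP hgS
    -- conjugation by `g` preserves centrality modulo `T`
    have hZinv : ∀ γ' : MulAut U, ∀ g' ∈ S, (∀ u ∈ U, autFun γ' u = g' * u * g'⁻¹) → γ' ∈ F.autGroup U →
        ∀ u ∈ U, π' u ∈ Zb → π' (autFun γ' u) ∈ Zb := by
      intro γ' g' hg' hγ' hγA' u hu huZ
      refine ⟨πU _ (autFun_mem γ' hu), Subgroup.mem_center_iff.2 fun q => ?_⟩
      obtain ⟨⟨r, hr⟩, rfl⟩ := hπs q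
      set r' := g'⁻¹ * r * g'
      have hn' := stronglyClosed_normal hP hg'
      have hr' : r' ∈ P := conj_mem_of_normalizer' hn' hr
      have hc := hZcen _ huZ (π' r')
      rw [← πm r hr]
      have hru : π' (r' * u * r'⁻¹) = π' u := by
        rw [πmul _ (P.mul_mem hr' (hUP hu)) _ (P.inv_mem hr'), πmul _ hr' _ (hUP hu), πinv _ hr', hc,
          mul_inv_cancel_right]
      have hr'U : r' * u * r'⁻¹ ∈ U := conj_mem_of_normalizer (hUn r' (hPS hr')) hu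
      have h1 := hcong γ' hγA' _ hr'U _ hu hru
      rw [hγ' _ hr'U, show g' * (r' * u * r'⁻¹) * g'⁻¹ = r * autFun γ' u * r⁻¹ by rw [hγ' u hu]; simp only [r']; group,
        πmul _ (P.mul_mem hr (hAU γ' u hu)) _ (P.inv_mem hr), πmul _ hr _ (hAU γ' u hu), πinv _ hr] at h1
      exact mul_inv_eq_iff_eq_mul.1 h1
    refine ⟨Subgroup.mul_mem _ (Subgroup.mul_mem _ hγA hκ.1) (Subgroup.inv_mem _ hγA), fun u hu => ?_⟩
    have hu' := autFun_mem γ⁻¹ hu
    have hku := autFun_mem κ hu'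
    rw [autFun_conj _ _ hu]
    have hγi := mem_autInducedBy.1 (Subgroup.inv_mem _ hγ)
    obtain ⟨g₂, hg₂S, hg₂⟩ := hγi
    refine ⟨?_, fun h => ?_⟩
    · have h1 : π' ((autFun γ⁻¹ u)⁻¹ * autFun κ (autFun γ⁻¹ u)) ∈ Zb := by
        rw [πmul _ (P.inv_mem (hUP hu')) _ (hUP hku), πinv _ (hUP hu')]
        exact (hκ.2 _ hu').1
      have h2 := hZinv γ g hgS hg hγA _ (U.mul_mem (U.inv_mem hu') hku) h1
      rw [hact γ _ (U.inv_mem hu') _ hku, autFun_map_inv γ hu', autFun_inv_apply γ hu, πinv _ (hUP hu)] at h2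
      exact h2
    · have h1 := (hκ.2 _ hu').2 (hZinv γ⁻¹ g₂ hg₂S hg₂ (Subgroup.inv_mem _ hγA) u hu h)
      rw [hcong γ hγA _ hku _ hu' h1, autFun_inv_apply γ hu]
  have hLβ : ∀ κ ∈ L, β * κ * β⁻¹ ∈ L := by
    intro κ hκ
    refine ⟨Subgroup.mul_mem _ (Subgroup.mul_mem _ hβA hκ.1) (Subgroup.inv_mem _ hβA), fun u hu => ?_⟩
    have hu' := autFun_mem β⁻¹ hu
    have h0 : π' (autFun β⁻¹ u) = (π' u)⁻¹ := by
      have := hβinv _ hu'
      rw [autFun_inv_apply β hu] at this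
      rw [this, inv_inv]
    rw [autFun_conj _ _ hu, hβinv _ (autFun_mem κ hu')]
    obtain ⟨h1, h2⟩ := hκ.2 _ hu'
    rw [h0, inv_inv] at h1
    refine ⟨?_, fun h => ?_⟩
    · have h3 : π' u * π' (autFun κ (autFun β⁻¹ u)) ∈ Zb := h1
      have h4 := Zb.inv_mem h3
      rw [mul_inv_rev] at h4
      rwa [hEab _ (E.inv_mem (πU u hu)) _ (E.inv_mem (πU _ (autFun_mem κ hu')))]
    · rw [h2 (h0.symm ▸ Zb.inv_mem h), h0, inv_inv]
  have hfn : F.IsFullyNormalized U := ⟨hUS, fun R _ => by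
    have he : normalizerIn S U = S := le_antisymm (normalizerIn_le U) fun s hs => ⟨hs, hUn s hs⟩
    exact he.symm ▸ Subgroup.card_le_of_le (normalizerIn_le R)⟩
  obtain ⟨hfa, hrec⟩ := fullyNormalized_spec hS hF hfn
  obtain ⟨κ, hκ, hκc⟩ := exists_normalizing hfa (L := L) (fun γ hγ => hγ.1) hβA hLS hLβ
  obtain ⟨f, hf, hfe⟩ := extend_aut hrec (Subgroup.mul_mem _ hκ.1 hβA) (N := P)
    (fun g hg => ⟨hPS hg, hUn g (hPS hg)⟩) fun g hg γ hγ => by
      have hγS : γ ∈ autInducedBy S U := mem_autInducedBy.2 ⟨g, hPS hg, hγ⟩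
      refine hκc γ hγS ⟨autInducedBy_le_autGroup hUS hγS, fun u hu => ?_⟩
      have e : π' (autFun γ u) = π' g * π' u * (π' g)⁻¹ := by
        rw [hγ u hu, πmul _ (P.mul_mem hg (hUP hu)) _ (P.inv_mem hg), πmul _ hg _ (hUP hu), πinv g hg]
      rw [e]
      refine ⟨?_, fun h => by rw [hZcen _ h, mul_inv_cancel_right]⟩
      have h := hcomm (π' g) _ (E.inv_mem (πU u hu))
      rw [commutatorElement_def, inv_inv] at h
      rw [show (π' u)⁻¹ * (π' g * π' u * (π' g)⁻¹) = (π' u)⁻¹ * π' g * π' u * (π' g)⁻¹ by group]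
      exact h
  have hfP : img f P = P := Subgroup.eq_of_le_of_card_ge
    (img_le_iff.2 fun g hg => (stronglyClosed_iff.1 hP).2 _ f hf g (Subgroup.mem_sup_right hg) hg)
    (hf.mono le_sup_right).card_img.ge
  obtain ⟨φ, -, hφ⟩ := exists_aut (hf.mono (le_sup_right (a := U))) hfP
  have hφu : ∀ u ∈ U, π' u * π' (autFun φ u) ∈ Zb ∧ (π' u ∈ Zb → π' (autFun φ u) = (π' u)⁻¹) := by
    intro u hu
    rw [hφ u (hUP hu), hfe u hu, autFun_mul _ _ hu]
    obtain ⟨h1, h2⟩ := hκ.2 _ (autFun_mem β hu)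
    rw [hβinv u hu, inv_inv] at h1
    exact ⟨h1, fun h => by rw [h2 ((hβinv u hu).symm ▸ Zb.inv_mem h), hβinv u hu]⟩
  set ζ := π' x
  let W : Set ↥P := {g | π' (g : Ω) * π' y * (π' (g : Ω))⁻¹ = π' y * ζ}
  have hφW : ∀ g : ↥P, g ∈ W → φ g ∈ W := by
    intro g hg
    have hgU : (g : Ω) * y * (g : Ω)⁻¹ ∈ U := conj_mem_of_normalizer (hUn g (hPS g.2)) hyU
    have hgP := hUP hgU
    have h0 : π' ((g : Ω) * y * (g : Ω)⁻¹) = π' y * ζ := by
      rw [πmul _ (P.mul_mem g.2 (hUP hyU)) _ (P.inv_mem g.2), πmul _ g.2 _ (hUP hyU), πinv _ g.2]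
      exact hg
    obtain ⟨hy1, -⟩ := hφu y hyU
    obtain ⟨-, hx2⟩ := hφu x hxU
    have hyx : π' (autFun φ (y * x)) = π' (autFun φ y) * ζ⁻¹ := by
      rw [autFun_map_mul φ (hUP hyU) (hUP hxU), πmul _ (autFun_mem φ (hUP hyU)) _ (autFun_mem φ (hUP hxU)),
        hx2 hxZ]
    have hsame : π' (autFun φ ((g : Ω) * y * (g : Ω)⁻¹)) = π' (autFun φ (y * x)) := by
      rw [hφ _ hgP, hφ _ (P.mul_mem (hUP hyU) (hUP hxU)), hfe _ hgU, hfe _ (U.mul_mem hyU hxU)]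
      exact hcong _ (Subgroup.mul_mem _ hκ.1 hβA) _ hgU _ (U.mul_mem hyU hxU)
        (h0.trans (πmul _ (hUP hyU) _ (hUP hxU)).symm)
    set G' := π' (autFun φ (g : Ω)) with hG'
    set Y' := π' (autFun φ y) with hY'
    have hG : G' * Y' * G'⁻¹ = Y' * ζ⁻¹ := by
      rw [← hyx, ← hsame, autFun_map_mul φ (P.mul_mem g.2 (hUP hyU)) (P.inv_mem g.2),
        autFun_map_mul φ g.2 (hUP hyU), autFun_map_inv φ g.2,
        πmul _ (P.mul_mem (autFun_mem φ g.2) (autFun_mem φ (hUP hyU))) _ (P.inv_mem (autFun_mem φ g.2)),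
        πmul _ (autFun_mem φ g.2) _ (autFun_mem φ (hUP hyU)), πinv _ (autFun_mem φ g.2)]
    show π' ((φ g : ↥P) : Ω) * π' y * (π' ((φ g : ↥P) : Ω))⁻¹ = π' y * ζ
    rw [← autFun_apply φ g, ← hG']
    set c := π' y * Y' with hc
    have hcZ : c ∈ Zb := hy1
    have hζc := hZcen c hcZ ζ⁻¹
    have h2 : G' * (π' y)⁻¹ * G'⁻¹ = (π' y)⁻¹ * ζ⁻¹ := by
      apply mul_right_cancel (b := c)
      calc G' * (π' y)⁻¹ * G'⁻¹ * c = G' * (π' y)⁻¹ * (G'⁻¹ * c) := by group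
        _ = G' * Y' * G'⁻¹ := by rw [hZcen c hcZ G'⁻¹, hc]; group
        _ = Y' * ζ⁻¹ := hG
        _ = (π' y)⁻¹ * (c * ζ⁻¹) := by rw [hc]; group
        _ = (π' y)⁻¹ * ζ⁻¹ * c := by rw [← hζc, mul_assoc]
    have h3 := congrArg (·⁻¹) h2
    simp only [mul_inv_rev, inv_inv] at h3
    rw [mul_assoc, h3]
    exact (hZcen _ hxZ _).symm
  obtain ⟨a, n, hn, hord⟩ := Nat.exists_eq_two_pow_mul_odd (orderOf_pos φ).ne'
  set ψ := φ ^ n with hψ
  have hψu : ∀ k : ℕ, ∀ u ∈ U, autFun (φ ^ k) u ∈ U ∧ (π' u ∈ Zb → π' (autFun (φ ^ k) u) = if Even k then π' u else (π' u)⁻¹) ∧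
      (if Even k then (π' u)⁻¹ * π' (autFun (φ ^ k) u) ∈ Zb else π' u * π' (autFun (φ ^ k) u) ∈ Zb) := by
    intro k
    induction k with
    | zero =>
      intro u hu
      rw [pow_zero, autFun_one (hUP hu)]
      exact ⟨hu, fun _ => by simp, by simp [Zb.one_mem]⟩
    | succ k ih =>
      intro u hu
      obtain ⟨h1, h2, h3⟩ := ih u hu
      obtain ⟨h4, h5⟩ := hφu _ h1
      rw [pow_succ', autFun_mul _ _ (hUP hu)]
      have hfU : autFun φ (autFun (φ ^ k) u) ∈ U := by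
        rw [hφ _ (hUP h1), hfe _ h1]; exact autFun_mem _ h1
      refine ⟨hfU, fun h => ?_, ?_⟩
      · have h6 : π' (autFun (φ ^ k) u) ∈ Zb := by
          rw [h2 h]; split_ifs
          exacts [h, Zb.inv_mem h]
        rw [h5 h6, h2 h]
        by_cases he : Even k <;> simp [he, Nat.even_add_one]
      · by_cases he : Even k
        · simp only [he, Nat.even_add_one, not_true_eq_false, if_true, if_false] at h3 ⊢
          have := Zb.mul_mem (Zb.inv_mem h3) h4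
          rw [mul_inv_rev, inv_inv] at this
          have e := hEab _ (E.inv_mem (πU _ h1)) _ (πU u hu)
          rw [e, mul_assoc, inv_mul_cancel_left] at this
          exact this
        · simp only [he, Nat.even_add_one, not_false_eq_true, if_true, if_false] at h3 ⊢
          have := Zb.mul_mem (Zb.inv_mem h3) h4
          rw [mul_inv_rev, mul_assoc, ← mul_assoc (π' u)⁻¹, hEab _ (E.inv_mem (πU u hu)) _ (πU _ h1), mul_assoc,
            inv_mul_cancel_left] at this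
          exact this
  have hψW : ∀ g : ↥P, g ∈ W → ψ g ∈ W := by
    have : ∀ k : ℕ, ∀ g : ↥P, g ∈ W → (φ ^ k) g ∈ W := by
      intro k
      induction k with
      | zero => intro g hg; simpa using hg
      | succ k ih => intro g hg; rw [pow_succ', MulAut.mul_apply]; exact hφW _ (ih g hg)
    exact this n
  haveI := finite_mulAut (S := S) hPS
  let G : Subgroup (MulAut ↥P) := Subgroup.zpowers ψ
  have hψk : ∀ k : ℕ, ∀ g : ↥P, g ∈ W → (ψ ^ k) g ∈ W := by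
    intro k
    induction k with
    | zero => intro g hg; simpa using hg
    | succ k ih => intro g hg; rw [pow_succ', MulAut.mul_apply]; exact hψW _ (ih g hg)
  have hGW : ∀ γ ∈ G, ∀ g : ↥P, g ∈ W → γ g ∈ W := by
    intro γ hγ
    obtain ⟨k, rfl⟩ := (mem_powers_iff_mem_zpowers (x := ψ) (y := γ)).2 hγ
    exact hψk k
  letI : MulAction ↥G ↥W :=
    { smul := fun γ g => ⟨(γ : MulAut ↥P) g, hGW γ γ.2 g g.2⟩
      one_smul := fun g => rfl
      mul_smul := fun γ δ g => rfl }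
  haveI : Fact (Nat.Prime 2) := ⟨Nat.prime_two⟩
  have hG2 : IsPGroup 2 ↥G := IsPGroup.of_card (n := a) (by
    rw [Nat.card_zpowers, hψ, orderOf_pow, hord, Nat.gcd_comm, Nat.gcd_mul_left_right, Nat.mul_div_cancel _ hn.pos])
  have hWodd : ¬ 2 ∣ Nat.card ↥W := by
    let C : Subgroup ↥P := (Subgroup.centralizer ({π' y} : Set Q)).comap π
    let e : ↥C ≃ ↥W :=
      { toFun := fun c => ⟨⟨w, hwP⟩ * c, by
          show π' (w * (c : Ω)) * π' y * (π' (w * (c : Ω)))⁻¹ = _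
          rw [πmul _ hwP _ (c : ↥P).2, show π' w * π' (c : Ω) * π' y * (π' w * π' (c : Ω))⁻¹ =
            π' w * (π' (c : Ω) * π' y * (π' (c : Ω))⁻¹) * (π' w)⁻¹ by group]
          have hc : π' (c : Ω) * π' y = π' y * π' (c : Ω) := by
            rw [πm _ (c : ↥P).2]; exact Subgroup.mem_centralizer_singleton_iff.1 c.2
          rw [hc, mul_inv_cancel_right, hw]⟩
        invFun := fun g => ⟨(⟨w, hwP⟩ : ↥P)⁻¹ * g, by
          show π _ ∈ Subgroup.centralizer _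
          rw [Subgroup.mem_centralizer_singleton_iff, map_mul, map_inv]
          have hg : π' ((g : ↥P) : Ω) * π' y * (π' ((g : ↥P) : Ω))⁻¹ = π' y * ζ := g.2
          rw [πm _ (g : ↥P).2] at hg
          rw [πm w hwP] at hw
          calc (π ⟨w, hwP⟩)⁻¹ * π (g : ↥P) * π' y
              = (π ⟨w, hwP⟩)⁻¹ * (π (g : ↥P) * π' y * (π (g : ↥P))⁻¹) * π (g : ↥P) := by group
            _ = (π ⟨w, hwP⟩)⁻¹ * (π ⟨w, hwP⟩ * π' y * (π ⟨w, hwP⟩)⁻¹) * π (g : ↥P) := by rw [hg, hw]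
            _ = π' y * ((π ⟨w, hwP⟩)⁻¹ * π (g : ↥P)) := by group⟩
        left_inv := fun c => Subtype.ext (inv_mul_cancel_left _ _)
        right_inv := fun g => Subtype.ext (mul_inv_cancel_left _ _) }
    obtain ⟨k, hk⟩ := IsPGroup.iff_card.1 ((hS.to_le hPS).to_subgroup C)
    rw [← Nat.card_congr e, hk]
    exact fun h => hp ((Nat.prime_dvd_prime_iff_eq Nat.prime_two hpp).1 (Nat.prime_two.dvd_of_dvd_pow h)).symm
  obtain ⟨⟨v, hvW⟩, hvfix⟩ := hG2.nonempty_fixed_point_of_prime_not_dvd_card ↥W hWodd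
  have hv : ψ v = v := congrArg Subtype.val (hvfix ⟨ψ, Subgroup.mem_zpowers ψ⟩)
  have hv1 : π' (v : Ω) ≠ 1 := fun h => hx1 (by
    have h' : π' (v : Ω) * π' y * (π' (v : Ω))⁻¹ = π' y * ζ := hvW
    rw [h, one_mul, inv_one, mul_one] at h'
    exact left_eq_mul.1 h')
  obtain ⟨k, hk⟩ := hS.to_le hPS v
  have hex : ∃ k, π' (v : Ω) ^ p ^ k = 1 := ⟨k, by
    rw [← πpow _ v.2, ← Subgroup.coe_pow, hk, Subgroup.coe_one, π1]⟩
  obtain ⟨j, hj⟩ : ∃ j, Nat.find hex = j + 1 := Nat.exists_eq_succ_of_ne_zero fun h => hv1 (by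
    have := Nat.find_spec hex
    rwa [h, pow_zero, pow_one] at this)
  set e := π' (v : Ω) ^ p ^ j with he
  have he1 : e ≠ 1 := Nat.find_min hex (by omega)
  have heE : e ∈ E := (hEmem e).2 (by
    have := Nat.find_spec hex
    rwa [hj, pow_succ, pow_mul] at this)
  set u := (v : Ω) ^ p ^ j with hu
  have huP : u ∈ P := P.pow_mem v.2 _
  have huπ : π' u = e := πpow _ v.2 _
  have huU : u ∈ U := by
    rw [show u = ((⟨u, huP⟩ : ↥P) : Ω) from rfl, hEU, ← πm u huP, huπ]; exact heE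
  have hufix : autFun ψ u = u := by
    rw [hu, ← Subgroup.coe_pow, autFun_apply, map_pow, hv]
  obtain ⟨-, h2, h3⟩ := hψu n u huU
  rw [← hψ, hufix] at h2 h3
  rw [if_neg (Nat.not_even_iff_odd.2 hn), huπ] at h3
  have heZ : e ∈ Zb := by
    have h4 : (e * e) ^ ((p + 1) / 2) = e := by
      obtain ⟨c, hc⟩ := hpp.odd_of_ne_two hp
      rw [← pow_two, ← pow_mul, show 2 * ((p + 1) / 2) = p + 1 by omega, pow_succ, hEp e heE, one_mul]
    rw [← h4]
    exact Zb.pow_mem h3 _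
  rw [huπ] at h2
  have h5 : e * e = 1 := by
    have := h2 heZ
    rw [if_neg (Nat.not_even_iff_odd.2 hn)] at this
    nth_rewrite 2 [this]
    exact mul_inv_cancel e
  refine he1 ?_
  obtain ⟨c, hc⟩ := hpp.odd_of_ne_two hp
  have := hEp e heE
  rwa [hc, pow_succ, pow_mul, pow_two, h5, one_pow, one_mul] at this

theorem isMetacyclic_quotient {G : Type*} [Group G] (h : Cfsg.IsMetacyclic G) (N : Subgroup G) [N.Normal] :
    Cfsg.IsMetacyclic (G ⧸ N) := by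
  obtain ⟨A, hAn, hA, hGA⟩ := h
  haveI := hAn
  haveI := hA
  haveI := hGA
  have hs := QuotientGroup.mk'_surjective N
  haveI hn' : (A.map (QuotientGroup.mk' N)).Normal := hAn.map _ hs
  refine ⟨A.map (QuotientGroup.mk' N), hn', isCyclic_of_surjective ((QuotientGroup.mk' N).subgroupMap A)
    ((QuotientGroup.mk' N).subgroupMap_surjective A), ?_⟩
  refine isCyclic_of_surjective (QuotientGroup.map A (A.map (QuotientGroup.mk' N)) (QuotientGroup.mk' N)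
    (Subgroup.le_comap_map _ _)) ?_
  intro q
  obtain ⟨g, rfl⟩ := QuotientGroup.mk'_surjective _ q
  obtain ⟨a, rfl⟩ := hs g
  exact ⟨QuotientGroup.mk a, rfl⟩

/-- The theorem. -/
theorem normal_of_metacyclic [Finite S] [Fact p.Prime] (hS : IsPGroup p S) (hF : F.IsSaturated p) {P : Subgroup Ω}
    (hP : F.StronglyClosed P) (hp : p ≠ 2) (hm : Cfsg.IsMetacyclic ↥P) : F.IsNormal P := by
  classical
  have hpp : p.Prime := Fact.out
  have hPS : P ≤ S := hP.1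
  haveI := finite_of_le hPS
  let Chain : Subgroup Ω → Prop := fun T => ∃ (n : ℕ) (C : ℕ → Subgroup Ω), C 0 = ⊥ ∧ C n = T ∧
    (∀ i ≤ n, C i ≤ T) ∧ (∀ i ≤ n, F.StronglyClosed (C i)) ∧ ∀ i < n, ⁅C (i + 1), P⁆ ≤ C i
  have hbot : Chain ⊥ := ⟨0, fun _ => ⊥, rfl, rfl, fun _ _ => le_rfl, fun _ _ => stronglyClosed_iff.2
    ⟨bot_le, fun R f hf x hxR hx => by rw [Subgroup.mem_bot] at hx ⊢; rw [hx, hf.map_one]⟩,
    fun i hi => absurd hi (by omega)⟩
  obtain ⟨T, ⟨hT, hTP⟩, hmax⟩ : ∃ T, (Chain T ∧ T ≤ P) ∧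
      ∀ T' : Subgroup Ω, Chain T' → T' ≤ P → Nat.card T' ≤ Nat.card T := by
    let Pr : ℕ → Prop := fun m => ∃ T, Chain T ∧ T ≤ P ∧ Nat.card T = m
    obtain ⟨m, ⟨T, h1, h2, h3⟩, hm'⟩ : ∃ m, Pr m ∧ ∀ m', Pr m' → m' ≤ m :=
      ⟨Nat.findGreatest Pr (Nat.card P), Nat.findGreatest_spec (P := Pr) (m := 1) (Nat.card_pos) ⟨⊥, hbot, bot_le,
        Subgroup.card_bot⟩, fun m' ⟨T', h1, h2, h3⟩ => Nat.le_findGreatest (h3 ▸ Subgroup.card_le_of_le h2)
        ⟨T', h1, h2, h3⟩⟩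
    exact ⟨T, ⟨h1, h2⟩, fun T' h4 h5 => h3 ▸ hm' _ ⟨T', h4, h5, rfl⟩⟩
  obtain ⟨n, C, h0, hn, hle, hsc, hc⟩ := hT
  have hTsc : F.StronglyClosed T := hn ▸ hsc n le_rfl
  by_cases hTeq : T = P
  · subst hTeq
    exact normal_of_series hS hF hP n C h0 hn hle hc fun i hi => stronglyClosed_weaklyClosed (hsc i hi.le)
  exfalso
  have hTn : T ≤ P := hTP
  have hTnorm : ∀ g ∈ S, g ∈ Subgroup.normalizer (T : Set Ω) := fun g hg => stronglyClosed_normal hTsc hg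
  haveI hNn : (T.subgroupOf P).Normal := ⟨fun t ht g => by
    rw [Subgroup.mem_subgroupOf] at ht ⊢
    exact conj_mem_of_normalizer (hTnorm g (hPS g.2)) ht⟩
  let π := QuotientGroup.mk' (T.subgroupOf P)
  have hπk : ∀ x : ↥P, π x = 1 ↔ (x : Ω) ∈ T := fun x =>
    (QuotientGroup.eq_one_iff x).trans Subgroup.mem_subgroupOf
  haveI : Nontrivial (↥P ⧸ T.subgroupOf P) := by
    by_contra h
    rw [not_nontrivial_iff_subsingleton] at h
    exact hTeq (le_antisymm hTP fun x hx => (hπk ⟨x, hx⟩).1 (Subsingleton.elim _ _))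
  have hQ : IsPGroup p (↥P ⧸ T.subgroupOf P) := (hS.to_le hPS).to_quotient _
  obtain ⟨E, hE1, hEmem, hEab, hcase⟩ := omega_data hp hQ (isMetacyclic_quotient hm _)
  set U := (E.comap π).map P.subtype with hUdef
  have hUP : U ≤ P := Subgroup.map_subtype_le _
  have hEU : ∀ x : ↥P, (x : Ω) ∈ U ↔ π x ∈ E := fun x =>
    ⟨fun ⟨y, hy, hyx⟩ => (Subtype.ext hyx : y = x) ▸ hy, fun h => ⟨x, h, rfl⟩⟩
  have hTU : T ≤ U := fun t ht => (hEU ⟨t, hTP ht⟩).2 (by rw [(hπk _).2 ht]; exact E.one_mem)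
  have hUp : ∀ x : ↥P, (x : Ω) ∈ U ↔ (x : Ω) ^ p ∈ T := fun x => by
    rw [hEU, hEmem, ← map_pow, hπk, Subgroup.coe_pow]
  have hUsc : F.StronglyClosed U := stronglyClosed_iff.2 ⟨hUP.trans hPS, fun R f hf x hxR hx => by
    have hfx := (stronglyClosed_iff.1 hP).2 R f hf x hxR (hUP hx)
    refine (hUp ⟨_, hfx⟩).2 ?_
    rw [← hf.map_pow hxR]
    exact (stronglyClosed_iff.1 hTsc).2 R f hf _ (R.pow_mem hxR p) ((hUp ⟨x, hUP hx⟩).1 hx)⟩
  -- appending a step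
  have happ : ∀ T' : Subgroup Ω, T ≤ T' → F.StronglyClosed T' → ⁅T', P⁆ ≤ T →
      ∃ C' : ℕ → Subgroup Ω, C' 0 = ⊥ ∧ C' (n + 1) = T' ∧ (∀ i ≤ n + 1, C' i ≤ T') ∧
        (∀ i ≤ n + 1, F.StronglyClosed (C' i)) ∧ (∀ i < n + 1, ⁅C' (i + 1), P⁆ ≤ C' i) := by
    intro T' hTT' hT's hT'c
    refine ⟨fun i => if i ≤ n then C i else T', by simp [h0], by simp, fun i hi => ?_, fun i hi => ?_,
      fun i hi => ?_⟩
    · by_cases h : i ≤ n <;> simp [h, (fun h => (hle i h).trans hTT' : i ≤ n → C i ≤ T')]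
    · by_cases h : i ≤ n <;> simp [h, hT's, (hsc i : i ≤ n → _)]
    · by_cases h : i + 1 ≤ n
      · simp [h, show i ≤ n by omega, hc i (by omega)]
      · obtain rfl : i = n := by omega
        simp [hn, hT'c]
  have hgrow : ∀ T' : Subgroup Ω, T ≤ T' → T' ≤ P → F.StronglyClosed T' → ⁅T', P⁆ ≤ T → T' ≤ T := by
    intro T' h1 h2 h3 h4
    obtain ⟨C', hC'⟩ := happ T' h1 h3 h4
    haveI := finite_of_le (h2.trans hPS)
    exact (Subgroup.eq_of_le_of_card_ge h1 (hmax T' ⟨n + 1, C', hC'⟩ h2)).ge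
  have hπc : ∀ a b : ↥P, (⁅(a : Ω), (b : Ω)⁆ ∈ T ↔ ⁅π a, π b⁆ = 1) := fun a b => by
    rw [← map_commutatorElement, hπk]; rfl
  rcases hcase with hcen | ⟨hEc, hZc, hcomm⟩
  · refine hE1 (eq_bot_iff.2 fun e he => ?_)
    obtain ⟨x, rfl⟩ := QuotientGroup.mk'_surjective _ e
    rw [Subgroup.mem_bot, hπk]
    refine hgrow U hTU hUP hUsc (Subgroup.commutator_le.2 fun a ha b hb => ?_) ((hEU x).2 he)
    rw [hπc ⟨a, hUP ha⟩ ⟨b, hb⟩, commutatorElement_eq_one_iff_mul_comm]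
    exact (Subgroup.mem_center_iff.1 (hcen ((hEU ⟨a, hUP ha⟩).1 ha)) _).symm
  · set Z := ((E ⊓ Subgroup.center _).comap π).map P.subtype with hZdef
    have hZP : Z ≤ P := Subgroup.map_subtype_le _
    have hZm : ∀ x : ↥P, (x : Ω) ∈ Z ↔ π x ∈ E ⊓ Subgroup.center _ := fun x =>
      ⟨fun ⟨y, hy, hyx⟩ => (Subtype.ext hyx : y = x) ▸ hy, fun h => ⟨x, h, rfl⟩⟩
    have hTZ : T ≤ Z := fun t ht => (hZm ⟨t, hTP ht⟩).2 (by rw [(hπk _).2 ht]; exact Subgroup.one_mem _)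
    have hUnorm : F.IsNormal U := by
      have hUab : ⁅U, U⁆ ≤ T := Subgroup.commutator_le.2 fun a ha b hb => by
        rw [hπc ⟨a, hUP ha⟩ ⟨b, hUP hb⟩, commutatorElement_eq_one_iff_mul_comm]
        exact hEab _ ((hEU _).1 ha) _ ((hEU _).1 hb)
      refine normal_of_series hS hF hUsc (n + 1) (fun i => if i ≤ n then C i else U) (by simp [h0]) (by simp)
        (fun i hi => ?_) (fun i hi => ?_) fun i hi => ?_
      · by_cases h : i ≤ n <;> simp [h, (fun h => (hle i h).trans hTU : i ≤ n → C i ≤ U)]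
      · by_cases h : i + 1 ≤ n
        · simp only [h, show i ≤ n by omega, if_true]
          exact (Subgroup.commutator_mono le_rfl hUP).trans (hc i (by omega))
        · obtain rfl : i = n := by omega
          simp [hn, hUab]
      · simp only [show i ≤ n by omega, if_true]
        exact stronglyClosed_weaklyClosed (hsc i (by omega))
    have hZsc : F.StronglyClosed Z := stronglyClosed_iff.2 ⟨hZP.trans hPS, fun R f hf x hxR hx => by
      obtain ⟨g, hg, hge, hgU⟩ := (isNormal_iff.1 hUnorm).2 R f hf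
      obtain ⟨α, hα, hαe⟩ := exists_aut (hg.mono le_sup_right) hgU
      have hxP := hZP hx
      have hxU : x ∈ U := (hEU ⟨x, hxP⟩).2 ((hZm ⟨x, hxP⟩).1 hx).1
      have hfU : f x ∈ U := (stronglyClosed_iff.1 hUsc).2 R f hf x hxR hxU
      refine (hZm ⟨f x, hUP hfU⟩).2 ⟨(hEU ⟨f x, hUP hfU⟩).1 hfU, ?_⟩
      exact line_invariant hp hS hF hP hTsc hUnorm hUP hTU π (QuotientGroup.mk'_surjective _) hπk hEmem hEU hEab hEc
        hZc hcomm α hα ⟨x, hxP⟩ hxU ((hZm ⟨x, hxP⟩).1 hx).2 ⟨f x, hUP hfU⟩ (by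
          show f x = autFun α x
          rw [hαe x hxU, hge x hxR])⟩
    have hsmall := hgrow Z hTZ hZP hZsc (Subgroup.commutator_le.2 fun a ha b hb => by
      rw [hπc ⟨a, hZP ha⟩ ⟨b, hb⟩, commutatorElement_eq_one_iff_mul_comm]
      exact (Subgroup.mem_center_iff.1 ((hZm ⟨a, hZP ha⟩).1 ha).2 _).symm)
    have hbot' : E ⊓ Subgroup.center (↥P ⧸ T.subgroupOf P) = ⊥ := eq_bot_iff.2 fun e he => by
      obtain ⟨x, rfl⟩ := QuotientGroup.mk'_surjective _ e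
      rw [Subgroup.mem_bot, hπk]
      exact hsmall ((hZm x).2 he)
    rw [hbot', Subgroup.card_bot] at hZc
    exact hpp.ne_one hZc.symm

end CfsgLib.Fus.MetaOdd
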