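import Cfsg.Agent.Fus.Normal
import Cfsg.Agent.Fus.Stabilizer
import Cfsg.Agent.Fus.MetacyclicTwoGroup

/-!
Strongly closed metacyclic `2`-subgroups other than dihedral, semidihedral and quaternion groups are normal.
-/

set_option autoImplicit false
set_option linter.style.haveILetI false

open Cfsg Cfsg.FusionSystem

namespace CfsgLib.Fus.MetaTwo

universe u

variable {Ω : Type u} [Group Ω] {S : Subgroup Ω} {F : FusionSystem S}

/-- The theorem. -/
theorem normal_of_metacyclic [Finite S] (hS : IsPGroup 2 S) (hF : F.IsSaturated 2) {P : Subgroup Ω}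
    (hP : F.StronglyClosed P) (hm : Cfsg.IsMetacyclic ↥P) (hd : ¬ ∃ m : ℕ, Nonempty (↥P ≃* DihedralGroup m))
    (hq : ¬ ∃ m : ℕ, Nonempty (↥P ≃* QuaternionGroup m)) (hsd : ¬ Cfsg.IsQuasiDihedral ↥P) : F.IsNormal P := by
  classical
  haveI : Fact (Nat.Prime 2) := ⟨Nat.prime_two⟩
  have hPS : P ≤ S := hP.1
  haveI := finite_of_le hPS
  have hPn : S ≤ Subgroup.normalizer (P : Set Ω) := stronglyClosed_normal hP
  refine normal_of_closed hS hF hP fun R hc hr => le_of_normalizer_le hS hc.1 hPS hPn fun x hxP hxn => ?_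
  by_contra hxR
  have hex : ∃ k, x ^ 2 ^ k ∈ R := by
    obtain ⟨k, hk⟩ := hS ⟨x, hPS hxP⟩
    exact ⟨k, (show x ^ 2 ^ k = 1 from congrArg Subtype.val hk) ▸ R.one_mem⟩
  obtain ⟨k, hk⟩ : ∃ k, Nat.find hex = k + 1 := Nat.exists_eq_succ_of_ne_zero fun h => hxR (by
    have := Nat.find_spec hex
    rwa [h, pow_zero, pow_one] at this)
  set g := x ^ 2 ^ k with hg
  have hgR : g ∉ R := Nat.find_min hex (by omega)
  have hggR : g * g ∈ R := by
    have := Nat.find_spec hex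
    rwa [hk, pow_succ, pow_mul, pow_two] at this
  have hgP : g ∈ P := P.pow_mem hxP _
  have hgn : g ∈ Subgroup.normalizer (R : Set Ω) := Subgroup.pow_mem _ hxn _
  have hRS : R ≤ S := hc.1
  haveI := finite_of_le hRS
  haveI := finite_mulAut (S := S) hRS
  -- automorphisms restricted to `P ⊓ R`
  let A : Subgroup ↥P := R.subgroupOf P
  have hres : ∀ γ ∈ F.autGroup R, ∀ a : ↥A, autFun γ ((a : ↥P) : Ω) ∈ P := fun γ hγ a =>
    autFun_mem_of_stronglyClosed hP hRS hγ (Subgroup.mem_subgroupOf.1 a.2) (a : ↥P).2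
  have hresR : ∀ (γ : MulAut R) (a : ↥A), autFun γ ((a : ↥P) : Ω) ∈ R := fun γ a =>
    autFun_mem γ (Subgroup.mem_subgroupOf.1 a.2)
  let rfun : ↥(F.autGroup R) → ↥A → ↥A := fun γ a =>
    ⟨⟨autFun (γ : MulAut R) ((a : ↥P) : Ω), hres γ γ.2 a⟩, Subgroup.mem_subgroupOf.2 (hresR γ a)⟩
  have hrmul : ∀ γ δ a, rfun (γ * δ) a = rfun γ (rfun δ a) := fun γ δ a => Subtype.ext (Subtype.ext
    (autFun_mul (γ : MulAut R) δ (Subgroup.mem_subgroupOf.1 a.2)))
  have hrone : ∀ a, rfun 1 a = a := fun a => Subtype.ext (Subtype.ext (autFun_one (Subgroup.mem_subgroupOf.1 a.2)))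
  let res : ↥(F.autGroup R) →* MulAut ↥A := MonoidHom.mk'
    (fun γ =>
      { toFun := rfun γ
        invFun := rfun γ⁻¹
        left_inv := fun a => by rw [← hrmul, inv_mul_cancel, hrone]
        right_inv := fun a => by rw [← hrmul, mul_inv_cancel, hrone]
        map_mul' := fun a b => Subtype.ext (Subtype.ext (autFun_map_mul (γ : MulAut R)
          (Subgroup.mem_subgroupOf.1 a.2) (Subgroup.mem_subgroupOf.1 b.2))) })
    fun γ δ => MulEquiv.ext fun a => hrmul γ δ a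
  have hresv : ∀ γ a, ((res γ a : ↥P) : Ω) = autFun (γ : MulAut R) ((a : ↥P) : Ω) := fun γ a => rfl
  let T : Subgroup (MulAut ↥A) :=
    { carrier := {β | ∀ a, a⁻¹ * β a ∈ frattini ↥A}
      one_mem' := fun a => by rw [MulAut.one_apply, inv_mul_cancel]; exact one_mem _
      mul_mem' := fun {β δ} hβ hδ a => by
        have := Subgroup.mul_mem _ (hδ a) (hβ (δ a))
        simpa [mul_assoc] using this
      inv_mem' := fun {β} hβ a => by
        have := Subgroup.inv_mem _ (hβ (β⁻¹ a))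
        simpa using this }
  have hTn : T.Normal := ⟨fun β hβ δ a => by
    have h1 := (Subgroup.characteristic_iff_map_eq.1 (inferInstance : (frattini ↥A).Characteristic) δ).le
      ⟨_, hβ (δ⁻¹ a), rfl⟩
    simpa [MulAut.mul_apply] using h1⟩
  let L : Subgroup ↥(F.autGroup R) :=
    { carrier := {γ | ∀ y ∈ R, y⁻¹ * autFun (γ : MulAut R) y ∈ P}
      one_mem' := fun y hy => by
        show y⁻¹ * autFun (1 : MulAut R) y ∈ P
        rw [autFun_one hy, inv_mul_cancel]; exact P.one_mem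
      mul_mem' := fun {γ δ} hγ hδ y hy => by
        have := P.mul_mem (hδ y hy) (hγ _ (autFun_mem (δ : MulAut R) hy))
        rw [Subgroup.coe_mul, autFun_mul _ _ hy]
        simpa [mul_assoc] using this
      inv_mem' := fun {γ} hγ y hy => by
        have := P.inv_mem (hγ _ (autFun_mem ((γ : MulAut R))⁻¹ hy))
        rw [autFun_inv_apply _ hy] at this
        rw [Subgroup.coe_inv]
        simpa using this }
  have hLn : L.Normal := ⟨fun γ hγ δ y hy => by
    have hy' := autFun_mem ((δ : MulAut R))⁻¹ hy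
    have h1 := hγ _ hy'
    have h2 : autFun (δ : MulAut R) ((autFun ((δ : MulAut R))⁻¹ y)⁻¹ * autFun (γ : MulAut R) (autFun ((δ : MulAut R))⁻¹ y)) ∈ P :=
      autFun_mem_of_stronglyClosed hP hRS δ.2 (R.mul_mem (R.inv_mem hy') (autFun_mem _ hy')) h1
    rw [autFun_map_mul _ (R.inv_mem hy') (autFun_mem _ hy'), autFun_map_inv _ hy', autFun_inv_apply _ hy] at h2
    rw [Subgroup.coe_mul, Subgroup.coe_mul, Subgroup.coe_inv, autFun_conj _ _ hy]
    exact h2⟩
  let K : Subgroup ↥(F.autGroup R) := L ⊓ T.comap res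
  haveI hKn : K.Normal := Subgroup.normal_inf_normal L (T.comap res)
  have hKpow : ∀ γ ∈ K, ∃ j : ℕ, (γ : MulAut R) ^ 2 ^ j = 1 := by
    rintro γ ⟨hγL, hγT⟩
    obtain ⟨j, hj⟩ := ppow_of_trivial_mod_frattini ((hS.to_le hPS).to_subgroup A) (res γ) hγT
    refine ppow_eq_one_of_series (isPGroup_of_le hS hRS) (γ : MulAut R) 1
      (fun i => if i = 0 then ((P ⊓ R : Subgroup Ω) : Set Ω) else Set.univ) (fun y _ => trivial)
      ⟨j, fun y hyR hy => ?_⟩ fun i hi y hyR _ => ?_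
    · rw [if_pos rfl] at hy
      have h1 := congrArg (fun β : MulAut ↥A => ((β ⟨⟨y, hy.1⟩, Subgroup.mem_subgroupOf.2 hy.2⟩ : ↥P) : Ω)) hj
      simp only [← map_pow, MulAut.one_apply] at h1
      rw [hresv, Subgroup.coe_pow] at h1
      exact h1
    · obtain rfl : i = 0 := by omega
      rw [if_pos rfl]
      exact ⟨hγL y hyR, R.mul_mem (R.inv_mem hyR) (autFun_mem _ hyR)⟩
  have hKp : IsPGroup 2 ↥(K.map (F.autGroup R).subtype) := isPGroup_of_ppow _ (by
    rintro _ ⟨γ, hγ, rfl⟩; exact hKpow γ hγ)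
  obtain ⟨κ, hκ, hκe⟩ := exists_autInducedBy (K := S) (P := R) (hPS hgP) hgn
  have hκA : κ ∈ F.autGroup R := autInducedBy_le_autGroup hRS hκ
  let κ' : ↥(F.autGroup R) := ⟨κ, hκA⟩
  have hκL : κ' ∈ L := fun y hy => by
    show y⁻¹ * autFun κ y ∈ P
    rw [hκe y hy, show y⁻¹ * (g * y * g⁻¹) = y⁻¹ * g * y⁻¹⁻¹ * g⁻¹ by group]
    exact P.mul_mem (conj_mem_of_normalizer (hPn (S.inv_mem (hRS hy))) hgP) (P.inv_mem hgP)
  have hnot : ∀ (N : Subgroup ↥(F.autGroup R)), N.Normal → IsPGroup 2 ↥(N.map (F.autGroup R).subtype) →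
      κ' ∉ N := fun N hN hNp h => hgR (mem_of_centric_radical hc hr (N.map (F.autGroup R).subtype)
    (Subgroup.map_subtype_le _) hNp (by
      rintro δ hδ _ ⟨γ, hγ, rfl⟩
      exact ⟨⟨δ, hδ⟩ * γ * ⟨δ, hδ⟩⁻¹, hN.conj_mem γ hγ ⟨δ, hδ⟩, rfl⟩) (hPS hgP) ⟨κ', h, rfl⟩ hκe)
  have hκT : res κ' ∉ T := fun h => hnot K hKn hKp ⟨hκL, h⟩
  obtain ⟨γ, hγL, q, hqp, hq2, hγq⟩ : ∃ γ ∈ L, ∃ q, q.Prime ∧ q ≠ 2 ∧ orderOf γ = q := by
    by_contra hall
    push Not at hall
    refine hnot L hLn ((IsPGroup.of_card (n := (Nat.card ↥L).primeFactorsList.length) ?_).map _) hκL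
    refine Nat.eq_prime_pow_of_unique_prime_dvd Nat.card_pos.ne' fun {d} hd hdd => ?_
    by_contra hd2
    haveI : Fact d.Prime := ⟨hd⟩
    obtain ⟨γ, hγ⟩ := exists_prime_orderOf_dvd_card' (G := ↥L) d hdd
    exact hall γ γ.2 d hd hd2 (by rw [Subgroup.orderOf_coe, hγ])
  have hγT : res γ ∉ T := fun h => by
    obtain ⟨j, hj⟩ := hKpow γ ⟨hγL, h⟩
    have h1 : orderOf γ ∣ 2 ^ j := orderOf_dvd_of_pow_eq_one (Subtype.ext hj)
    rw [hγq] at h1
    exact hq2 ((Nat.prime_dvd_prime_iff_eq hqp Nat.prime_two).1 (hqp.dvd_of_dvd_pow h1))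
  have hodd : Odd (orderOf (res γ)) := by
    rcases (Nat.dvd_prime hqp).1 (hγq ▸ orderOf_map_dvd res γ) with h | h
    · rw [h]; exact odd_one
    · rw [h]; exact hqp.odd_of_ne_two hq2
  have hgA : (⟨g, hgP⟩ : ↥P) ∉ A := fun h => hgR (Subgroup.mem_subgroupOf.1 h)
  have hgnA : (⟨g, hgP⟩ : ↥P) ∈ Subgroup.normalizer (A : Set ↥P) := Subgroup.mem_normalizer_iff.2 fun y =>
    ⟨fun h => Subgroup.mem_subgroupOf.2 (conj_mem_of_normalizer hgn (Subgroup.mem_subgroupOf.1 h)), fun h =>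
      Subgroup.mem_subgroupOf.2 (by simpa [mul_assoc] using conj_mem_of_normalizer' hgn (Subgroup.mem_subgroupOf.1 h))⟩
  have hmove : ∃ y : ↥A, y⁻¹ * (A.normalizerMonoidHom ⟨⟨g, hgP⟩, hgnA⟩) y ∉ frattini ↥A := by
    by_contra hall
    push Not at hall
    refine hκT fun a => ?_
    have e : res κ' a = A.normalizerMonoidHom ⟨⟨g, hgP⟩, hgnA⟩ a := Subtype.ext (Subtype.ext
      (hκe _ (Subgroup.mem_subgroupOf.1 a.2)))
    rw [e]
    exact hall a
  have hα : ∃ y : ↥A, y⁻¹ * res γ y ∉ frattini ↥A := by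
    by_contra hall
    push Not at hall
    exact hγT hall
  obtain ⟨a, v, m, hn, hcy, h4, hva, ⟨t, ht, hmt⟩, hvv⟩ := pattern_of_moved (hS.to_le hPS) hm A hgA hgnA
    (Subgroup.mem_subgroupOf.2 hggR) hmove (res γ) hodd hα
  rcases shape_of_pattern (hS.to_le hPS) hn hcy h4 hva ht hmt hvv with h | h | h
  · exact hd h
  · exact hq h
  · exact hsd h

end CfsgLib.Fus.MetaTwo
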