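import Cfsg.Agent.Fus.MetacyclicTwoGroup
import Mathlib.Data.ZMod.Basic
import Mathlib.Data.Nat.Choose.Basic

/-!
The automorphism group of a metacyclic `2`-group that is not homocyclic, dihedral, semidihedral or quaternion is a
`2`-group.
-/

set_option autoImplicit false
set_option linter.style.haveILetI false

open Cfsg
open scoped commutatorElement

namespace CfsgLib.Fus.MetaTwo

variable {G : Type*} [Group G]

/-- An endomorphism of odd period of a group of order at most four fixing a nontrivial element is trivial. -/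
theorem fixed_of_four {V : Type*} [Group V] [Finite V] (hV : Nat.card V ≤ 4) (β : MulAut V) {n : ℕ} (hn : Odd n)
    (hβ : β ^ n = 1) {c : V} (hc1 : c ≠ 1) (hc : β c = c) (y : V) : β y = y := by
  classical
  haveI := Fintype.ofFinite V
  by_contra hy
  have h1 : y ≠ 1 := fun h => hy (by rw [h, map_one])
  have h2 : y ≠ c := fun h => hy (by rw [h, hc])
  have h3 : β y ≠ 1 := fun h => h1 (β.injective (h.trans (map_one β).symm))
  have h4 : β y ≠ c := fun h => h2 (β.injective (h.trans hc.symm))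
  have h5 : β (β y) = y := by
    by_contra h
    have a1 : β (β y) ≠ 1 := fun e => h3 (β.injective (e.trans (map_one β).symm))
    have a2 : β (β y) ≠ c := fun e => h4 (β.injective (e.trans hc.symm))
    have a3 : β (β y) ≠ β y := fun e => hy (β.injective e)
    have hcard : ({1, c, y, β y, β (β y)} : Finset V).card = 5 := by
      simp [Finset.card_insert_of_notMem, hc1.symm, h1.symm, h2.symm, h3.symm, h4.symm, Ne.symm hy, a1.symm,
        a2.symm, a3.symm, Ne.symm h]
    have := Finset.card_le_univ ({1, c, y, β y, β (β y)} : Finset V)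
    rw [hcard, ← Nat.card_eq_fintype_card] at this
    omega
  have hit : ∀ k : ℕ, (β ^ (2 * k)) y = y := by
    intro k
    induction k with
    | zero => rw [Nat.mul_zero, pow_zero, MulAut.one_apply]
    | succ k ih =>
      rw [show 2 * (k + 1) = 1 + 1 + 2 * k by ring, pow_add, pow_add, pow_one, MulAut.mul_apply, MulAut.mul_apply,
        ih, h5]
  obtain ⟨k, rfl⟩ := hn
  rw [pow_succ'] at hβ
  have h6 := congrArg (fun γ : MulAut V => γ y) hβ
  simp only [MulAut.mul_apply, MulAut.one_apply, hit k] at h6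
  exact hy h6

theorem exists_two_pow_mul_odd {k : ℤ} (hk : k ≠ 0) : ∃ (s : ℕ) (u : ℤ), Odd u ∧ k = 2 ^ s * u := by
  obtain ⟨s, u, hu, he⟩ := Nat.exists_eq_pow_mul_and_not_dvd (n := k.natAbs) (Int.natAbs_ne_zero.2 hk) 2 (by norm_num)
  have hu' : Odd (u : ℤ) := by
    rw [Int.odd_coe_nat, ← Nat.not_even_iff_odd, even_iff_two_dvd]; exact hu
  rcases Int.natAbs_eq k with h | h
  · exact ⟨s, u, hu', by rw [h, he]; push_cast; ring⟩
  · exact ⟨s, -u, hu'.neg, by rw [h, he]; push_cast; ring⟩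

theorem mem_of_odd_zpow [Finite G] (hG : IsPGroup 2 G) {x : G} {j : ℤ} (hj : Odd j) {H : Subgroup G}
    (h : x ^ j ∈ H) : x ∈ H := by
  obtain ⟨k, hk⟩ := hG x
  obtain ⟨j', rfl⟩ := hj
  have hcop : IsCoprime (2 * j' + 1) ((2 : ℤ) ^ k) := IsCoprime.pow_right ⟨1, -j', by ring⟩
  obtain ⟨a, b, hab⟩ := hcop
  have : x = (x ^ (2 * j' + 1)) ^ a * (x ^ ((2 : ℤ) ^ k)) ^ b := by
    rw [← zpow_mul, ← zpow_mul, ← zpow_add, show (2 * j' + 1) * a + 2 ^ k * b = 1 by linarith [hab], zpow_one]
  rw [this, show ((2 : ℤ) ^ k) = ((2 ^ k : ℕ) : ℤ) by push_cast; rfl, zpow_natCast, hk, one_zpow, mul_one]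
  exact H.zpow_mem h a

theorem mul_pow_of_central {y z : G} (hc : ∀ x : G, Commute ⁅z, y⁆ x) (k : ℕ) :
    (y * z) ^ k = y ^ k * z ^ k * ⁅z, y⁆ ^ k.choose 2 := by
  have h0 : z * y = ⁅z, y⁆ * (y * z) := by rw [commutatorElement_def]; group
  revert hc h0
  generalize ⁅z, y⁆ = c
  intro hc h1
  rw [(hc (y * z)).eq] at h1
  have hzy : ∀ i : ℕ, z ^ i * y = y * z ^ i * c ^ i := by
    intro i
    induction i with
    | zero => simp
    | succ i ih =>
      calc z ^ (i + 1) * y = z * (z ^ i * y) := by rw [pow_succ', mul_assoc]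
        _ = z * y * z ^ i * c ^ i := by rw [ih]; group
        _ = y * z * (c * z ^ i) * c ^ i := by rw [h1]; group
        _ = y * z * (z ^ i * c) * c ^ i := by rw [(hc (z ^ i)).eq]
        _ = y * z ^ (i + 1) * c ^ (i + 1) := by rw [pow_succ' z, pow_succ' c]; group
  induction k with
  | zero => simp
  | succ k ih =>
    calc (y * z) ^ (k + 1) = y ^ k * z ^ k * (c ^ k.choose 2 * (y * z)) := by rw [pow_succ, ih]; group
      _ = y ^ k * (z ^ k * y) * (z * c ^ k.choose 2) := by rw [((hc (y * z)).pow_left (k.choose 2)).eq]; group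
      _ = y ^ k * y * z ^ k * (c ^ k * z) * c ^ k.choose 2 := by rw [hzy]; group
      _ = y ^ k * y * (z ^ k * z) * (c ^ k * c ^ k.choose 2) := by rw [((hc z).pow_left k).eq]; group
      _ = y ^ (k + 1) * z ^ (k + 1) * c ^ (k + 1).choose 2 := by
        rw [pow_succ, pow_succ, ← pow_add, Nat.choose_succ_succ, Nat.choose_one_right]

/-- A nontrivial automorphism of odd order forces a homocyclic group of rank two or the quaternion group. -/
theorem shape_of_odd_aut [Finite G] (hG : IsPGroup 2 G) (hm : IsMetacyclic G) (α : MulAut G)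
    (hodd : Odd (orderOf α)) (hα1 : α ≠ 1) :
    (∃ e : ℕ, Nonempty (G ≃* Multiplicative (Fin 2 → ZMod (2 ^ e)))) ∨ Nonempty (G ≃* QuaternionGroup 2) := by
  classical
  haveI : Fact (Nat.Prime 2) := ⟨Nat.prime_two⟩
  haveI : Finite (MulAut G) := inferInstanceAs (Finite (G ≃* G))
  set Φ := frattini G with hΦdef
  obtain ⟨y₀, hy₀⟩ : ∃ x : G, x⁻¹ * α x ∉ Φ := by
    by_contra hall
    push Not at hall
    obtain ⟨k, hk⟩ := ppow_of_trivial_mod_frattini hG α hall
    refine hα1 (orderOf_eq_one_iff.1 (Nat.eq_one_of_dvd_coprimes (a := orderOf α) (b := 2 ^ k) ?_ dvd_rfl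
      (orderOf_dvd_of_pow_eq_one hk)))
    exact Nat.Coprime.pow_right k (Nat.coprime_two_right.2 hodd)
  obtain ⟨N, hN, hNc, hQc⟩ := hm
  haveI := hN
  obtain ⟨⟨r, hrN⟩, hr⟩ := hNc.exists_generator
  have hNr : N = Subgroup.zpowers r := le_antisymm (fun x hx => by
    obtain ⟨k, hk⟩ := Subgroup.mem_zpowers_iff.1 (hr ⟨x, hx⟩)
    exact ⟨k, congrArg Subtype.val hk⟩) (Subgroup.zpowers_le.2 hrN)
  subst hNr
  let π := QuotientGroup.mk' (Subgroup.zpowers r)
  have hπ : ∀ x : G, π x = 1 ↔ x ∈ Subgroup.zpowers r := fun x => QuotientGroup.eq_one_iff x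
  obtain ⟨w0, hw0⟩ := hQc.exists_generator
  obtain ⟨w, rfl⟩ := QuotientGroup.mk'_surjective (Subgroup.zpowers r) w0
  have hgen : ∀ x : G, ∃ i j : ℤ, x = r ^ i * w ^ j := fun x => by
    obtain ⟨j, hj⟩ := Subgroup.mem_zpowers_iff.1 (hw0 (π x))
    obtain ⟨i, hi⟩ := Subgroup.mem_zpowers_iff.1 ((hπ (x * (w ^ j)⁻¹)).1 (by
      rw [map_mul, map_inv, map_zpow, hj, mul_inv_cancel]))
    exact ⟨i, j, by rw [hi, inv_mul_cancel_right]⟩
  -- classes modulo Frattini
  let κ := QuotientGroup.mk' Φ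
  have hκ : ∀ x : G, κ x = 1 ↔ x ∈ Φ := fun x => QuotientGroup.eq_one_iff x
  have hsq : ∀ x : G, κ x * κ x = 1 := fun x => by
    rw [← map_mul, hκ, ← pow_two]; exact CfsgLib.Solv.pow_mem_frattini hG x
  have hpar : ∀ (x : G) (i : ℤ), κ (x ^ i) = if Even i then 1 else κ x := fun x i => by
    rw [map_zpow]
    split_ifs with h
    · obtain ⟨k, rfl⟩ := h
      rw [← two_mul, zpow_mul, zpow_two, hsq, one_zpow]
    · obtain ⟨k, rfl⟩ := Int.not_even_iff_odd.1 h
      rw [zpow_add, zpow_mul, zpow_two, hsq, one_zpow, one_mul, zpow_one]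
  haveI : Fintype (G ⧸ Φ) := Fintype.ofFinite _
  have hsub : (Finset.univ : Finset (G ⧸ Φ)) ⊆ {1, κ r, κ w, κ r * κ w} := fun q _ => by
    obtain ⟨x, rfl⟩ := QuotientGroup.mk'_surjective Φ q
    obtain ⟨i, j, rfl⟩ := hgen x
    show κ (r ^ i * w ^ j) ∈ ({1, κ r, κ w, κ r * κ w} : Finset (G ⧸ Φ))
    rw [map_mul, hpar, hpar]
    split_ifs <;> simp
  have hcard4 : Nat.card (G ⧸ Φ) ≤ 4 := by
    rw [Nat.card_eq_fintype_card, ← Finset.card_univ]
    refine (Finset.card_le_card hsub).trans ?_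
    exact (Finset.card_insert_le _ _).trans (Nat.succ_le_succ ((Finset.card_insert_le _ _).trans
      (Nat.succ_le_succ ((Finset.card_insert_le _ _).trans (by rw [Finset.card_singleton])))))
  have hΦα : Φ.map α.toMonoidHom = Φ := Subgroup.characteristic_iff_map_eq.1 inferInstance α
  let αb : MulAut (G ⧸ Φ) := QuotientGroup.congr Φ Φ α hΦα
  have hαb : ∀ x, αb (κ x) = κ (α x) := fun x => rfl
  have hαbn : αb ^ orderOf α = 1 := by
    have hit : ∀ (k : ℕ) (x : G), (αb ^ k) (κ x) = κ ((α ^ k) x) := by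
      intro k
      induction k with
      | zero => exact fun x => rfl
      | succ k ih => intro x; rw [pow_succ', pow_succ', MulAut.mul_apply, MulAut.mul_apply, ih, hαb]
    refine MulEquiv.ext fun q => ?_
    obtain ⟨x, rfl⟩ := QuotientGroup.mk'_surjective Φ q
    show (αb ^ orderOf α) (κ x) = _
    rw [hit, pow_orderOf_eq_one, MulAut.one_apply, MulAut.one_apply]
  have hfpf : ∀ x : G, κ (α x) = κ x → κ x = 1 := fun x hx => by
    by_contra h1
    refine hy₀ ((hκ _).1 ?_)
    rw [map_mul, map_inv, ← hαb, fixed_of_four hcard4 αb hodd hαbn h1 ((hαb x).trans hx), inv_mul_cancel]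
  have hsurj : ∀ x : G, ∃ y : G, κ (y⁻¹ * α y) = κ x := by
    let f : G ⧸ Φ → G ⧸ Φ := fun q => q⁻¹ * αb q
    have hcm : ∀ a b : G ⧸ Φ, a * b = b * a := fun a b => by
      obtain ⟨a, rfl⟩ := QuotientGroup.mk'_surjective Φ a
      obtain ⟨b, rfl⟩ := QuotientGroup.mk'_surjective Φ b
      show κ a * κ b = κ b * κ a
      rw [← commutatorElement_eq_one_iff_mul_comm, ← map_commutatorElement, hκ]
      exact CfsgLib.Solv.commutator_le_frattini hG
        (Subgroup.commutator_mem_commutator (Subgroup.mem_top _) (Subgroup.mem_top _))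
    have hf : Function.Injective f := fun a b hab => by
      have h1 : αb (a * b⁻¹) = a * b⁻¹ := by
        have h2 : αb a = a * (b⁻¹ * αb b) := by
          have h3 : a⁻¹ * αb a = b⁻¹ * αb b := hab
          rw [← h3, mul_inv_cancel_left]
        rw [map_mul, map_inv, h2, ← mul_assoc, mul_inv_cancel_right]
      obtain ⟨c, hc⟩ := QuotientGroup.mk'_surjective Φ (a * b⁻¹)
      have := hfpf c (by rw [← hαb, show κ c = a * b⁻¹ from hc, h1])
      rw [show κ c = a * b⁻¹ from hc, mul_inv_eq_one] at this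
      exact this
    intro x
    obtain ⟨q, hq⟩ := (Finite.injective_iff_surjective.1 hf) (κ x)
    obtain ⟨y, rfl⟩ := QuotientGroup.mk'_surjective Φ q
    exact ⟨y, by rw [map_mul, map_inv, ← hαb]; exact hq⟩
  have hr1 : κ r ≠ 1 := fun h => by
    have h2 : ∀ q : G ⧸ Φ, q = 1 ∨ q = κ w := fun q => by
      have := hsub (Finset.mem_univ q)
      simp only [Finset.mem_insert, Finset.mem_singleton, h, one_mul] at this
      tauto
    rcases h2 (κ y₀) with e | e
    · exact hy₀ ((hκ _).1 (by rw [map_mul, map_inv, ← hαb, e, map_one, inv_one, one_mul]))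
    · rcases h2 (κ (α y₀)) with e' | e'
      · rw [← hαb, ← map_one αb] at e'
        exact hy₀ ((hκ _).1 (by rw [map_mul, map_inv, αb.injective e', ← hαb, αb.injective e', map_one, inv_one, one_mul]))
      · exact hy₀ ((hκ _).1 (by rw [map_mul, map_inv, e, e', inv_mul_cancel]))
  obtain ⟨i₀, j₀, hαr⟩ := hgen (α r)
  have hj₀ : Odd j₀ := by
    rw [← Int.not_even_iff_odd]
    intro hje
    have h2 := congrArg κ hαr
    rw [map_mul, hpar, hpar, if_pos hje, mul_one] at h2
    split_ifs at h2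
    · rw [← hαb, ← map_one αb] at h2
      exact hr1 (αb.injective h2)
    · exact hr1 (hfpf r h2)
  -- conjugation by `w`
  obtain ⟨m, hm⟩ := exists_exponent hN w
  have hmr := hm r (Subgroup.mem_zpowers r)
  by_cases hab : r ^ (m - 1) = 1
  · -- abelian
    have hwr : Commute w r := by
      rw [zpow_sub, zpow_one, mul_inv_eq_one] at hab
      rw [hab] at hmr
      exact mul_inv_eq_iff_eq_mul.1 hmr
    have hcomm : ∀ a b : G, a * b = b * a := fun a b => by
      obtain ⟨i, j, rfl⟩ := hgen a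
      obtain ⟨i', j', rfl⟩ := hgen b
      exact Commute.eq (Commute.mul_left
        (Commute.mul_right ((Commute.refl r).zpow_zpow i i') (hwr.symm.zpow_zpow i j'))
        (Commute.mul_right (hwr.zpow_zpow j i') ((Commute.refl w).zpow_zpow j j')))
    obtain ⟨b, hb⟩ := hG r
    obtain ⟨e, -, he⟩ := (Nat.dvd_prime_pow Nat.prime_two).1 (orderOf_dvd_of_pow_eq_one hb)
    set x := α r with hx
    have hxo : orderOf x = 2 ^ e := by rw [hx, MulEquiv.orderOf_eq, he]
    haveI : NeZero (2 ^ e) := ⟨by positivity⟩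
    let P : G → ZMod (2 ^ e) → G := fun z i => z ^ i.val
    have hP : ∀ z, orderOf z = 2 ^ e → ∀ i j, P z (i + j) = P z i * P z j := fun z hz i j => by
      show z ^ (i + j).val = z ^ i.val * z ^ j.val
      rw [← pow_add, pow_eq_pow_iff_modEq, hz, ZMod.val_add]
      exact Nat.mod_modEq _ _
    let φ : Multiplicative (Fin 2 → ZMod (2 ^ e)) →* G := MonoidHom.mk'
      (fun v => P r (Multiplicative.toAdd v 0) * P x (Multiplicative.toAdd v 1)) fun u v => by
        simp only [toAdd_mul, Pi.add_apply, hP r he, hP x hxo]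
        rw [mul_assoc, ← mul_assoc (P r (Multiplicative.toAdd v 0)), hcomm (P r (Multiplicative.toAdd v 0)),
          mul_assoc, mul_assoc]
    refine Or.inl ⟨e, ⟨(MulEquiv.ofBijective φ ⟨?_, ?_⟩).symm⟩⟩
    · rw [injective_iff_map_eq_one]
      intro v hv
      set a := (Multiplicative.toAdd v 0).val
      set c := (Multiplicative.toAdd v 1).val
      have hrel : r ^ a * x ^ c = 1 := hv
      suffices hboth : 2 ^ e ∣ a ∧ 2 ^ e ∣ c by
        refine Multiplicative.toAdd.injective (funext fun i => ?_)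
        have hz : ∀ q : ZMod (2 ^ e), 2 ^ e ∣ q.val → q = 0 := fun q hq =>
          (ZMod.val_eq_zero q).1 (Nat.eq_zero_of_dvd_of_lt hq (ZMod.val_lt q))
        rw [toAdd_one, Pi.zero_apply]
        match i with
        | 0 => exact hz _ hboth.1
        | 1 => exact hz _ hboth.2
      by_contra hne
      obtain ⟨d, hd, hnot⟩ : ∃ d, (2 ^ d ∣ a ∧ 2 ^ d ∣ c) ∧ ¬ (2 ^ (d + 1) ∣ a ∧ 2 ^ (d + 1) ∣ c) ∧ d < e := by
        have hex : ∃ d, ¬ (2 ^ d ∣ a ∧ 2 ^ d ∣ c) := ⟨e, hne⟩
        obtain ⟨d, hd⟩ : ∃ d, Nat.find hex = d + 1 := Nat.exists_eq_succ_of_ne_zero fun h => by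
          have := Nat.find_spec hex
          rw [h] at this
          simp at this
        have h1 : Nat.find hex ≤ e := Nat.find_min' hex hne
        refine ⟨d, ?_, hd ▸ Nat.find_spec hex, by omega⟩
        by_contra h
        exact Nat.find_min hex (by omega) h
      obtain ⟨⟨a', ha'⟩, c', hc'⟩ := hd
      let M : Subgroup G :=
        { carrier := {z | z ^ 2 ^ d = 1}
          one_mem' := one_pow _
          mul_mem' := fun {a b} ha hb => by
            show (a * b) ^ _ = 1
            rw [Commute.mul_pow (hcomm a b), (ha : a ^ _ = 1), (hb : b ^ _ = 1), mul_one]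
          inv_mem' := fun {a} ha => by show a⁻¹ ^ _ = 1; rw [inv_pow, (ha : a ^ _ = 1), inv_one] }
      set z := r ^ a' * x ^ c' with hz
      have hzM : z ∈ M := by
        show z ^ 2 ^ d = 1
        rw [hz, Commute.mul_pow (hcomm _ _), ← pow_mul, ← pow_mul, mul_comm a', mul_comm c', ← ha', ← hc', hrel]
      have hzΦ : κ z ≠ 1 := fun h => by
        have hr' : κ x ≠ κ r := fun h' => hr1 (hfpf r h')
        have hx1 : κ x ≠ 1 := fun h' => by rw [hx, ← hαb, ← map_one αb] at h'; exact hr1 (αb.injective h')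
        rw [hz, map_mul, ← zpow_natCast r, ← zpow_natCast x, hpar, hpar] at h
        split_ifs at h with h1 h2 h2
        · refine hnot.1 ⟨?_, ?_⟩
          · rw [ha', pow_succ]; exact Nat.mul_dvd_mul_left _ (even_iff_two_dvd.1 (Int.even_coe_nat _ |>.1 h1))
          · rw [hc', pow_succ]; exact Nat.mul_dvd_mul_left _ (even_iff_two_dvd.1 (Int.even_coe_nat _ |>.1 h2))
        · exact hx1 (by simpa using h)
        · exact hr1 (by simpa using h)
        · exact hr' (mul_left_cancel (h.trans (hsq r).symm))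
      have hMtop : M = ⊤ := by
        refine frattini_nongenerating (eq_top_iff.2 fun u _ => ?_)
        have hz2 : κ (α z) ≠ κ z := fun h => hzΦ (hfpf z h)
        have hz3 : κ (α z) ≠ 1 := fun h => hzΦ (by rw [← hαb, ← map_one αb] at h; exact αb.injective h)
        have hαM : α z ∈ M := show (α z) ^ 2 ^ d = 1 by rw [← map_pow, (hzM : z ^ _ = 1), map_one]
        have hsubV : ({1, κ z, κ (α z), κ z * κ (α z)} : Finset (G ⧸ Φ)) = Finset.univ := by
          refine Finset.eq_univ_of_card _ (le_antisymm (Finset.card_le_univ _) ?_)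
          have h4 : κ z * κ (α z) ≠ 1 := fun h => hz2 (mul_left_cancel (h.trans (hsq z).symm))
          have h5 : κ z * κ (α z) ≠ κ z := fun h => hz3 (mul_eq_left.1 h)
          have h6 : κ z * κ (α z) ≠ κ (α z) := fun h => hzΦ (mul_eq_right.1 h)
          rw [Finset.card_insert_of_notMem (by simp [hzΦ.symm, hz3.symm, h4.symm]),
            Finset.card_insert_of_notMem (by simp [hz2.symm, h5.symm]),
            Finset.card_insert_of_notMem (by simp [h6.symm]), Finset.card_singleton, ← Nat.card_eq_fintype_card]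
          exact hcard4
        have hu := hsubV.ge (Finset.mem_univ (κ u))
        have key : ∀ m ∈ M, κ u = κ m → u ∈ M ⊔ Φ := fun m hm h => by
          have := Subgroup.mul_mem_sup hm ((hκ (m⁻¹ * u)).1 (by rw [map_mul, map_inv, h, inv_mul_cancel]))
          rwa [mul_inv_cancel_left] at this
        simp only [Finset.mem_insert, Finset.mem_singleton] at hu
        rcases hu with h | h | h | h
        · exact key 1 M.one_mem (h.trans (map_one κ).symm)
        · exact key z hzM h
        · exact key _ hαM h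
        · exact key _ (M.mul_mem hzM hαM) (h.trans (map_mul κ _ _).symm)
      have hr2 : r ^ 2 ^ d = 1 := (hMtop.ge (Subgroup.mem_top r) : r ∈ M)
      have := orderOf_dvd_of_pow_eq_one hr2
      rw [he, Nat.pow_dvd_pow_iff_le_right (by norm_num)] at this
      omega
    · intro u
      suffices htop : φ.range = ⊤ from htop.ge (Subgroup.mem_top u)
      have hrmem : ∀ (z : G), orderOf z = 2 ^ e → ∀ k : ℕ, P z (k : ZMod (2 ^ e)) = z ^ k := fun z hz k => by
        show z ^ (k : ZMod (2 ^ e)).val = z ^ k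
        rw [pow_eq_pow_iff_modEq, hz, ZMod.val_natCast]
        exact Nat.mod_modEq _ _
      refine frattini_nongenerating (eq_top_iff.2 fun u _ => ?_)
      have hmem : ∀ a c : ℕ, r ^ a * x ^ c ∈ φ.range := fun a c =>
        ⟨Multiplicative.ofAdd ![(a : ZMod (2 ^ e)), (c : ZMod (2 ^ e))], by
          show P r (![(a : ZMod (2 ^ e)), (c : ZMod (2 ^ e))] 0) * P x (![(a : ZMod (2 ^ e)), (c : ZMod (2 ^ e))] 1) = _
          simp [hrmem r he, hrmem x hxo]⟩
      obtain ⟨i, j, rfl⟩ := hgen u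
      have hw' : κ w ∈ φ.range.map κ := by
        have h := congrArg κ hαr
        rw [map_mul, hpar, hpar, if_neg (Int.not_even_iff_odd.2 hj₀)] at h
        split_ifs at h
        · exact ⟨r ^ 0 * x ^ 1, hmem 0 1, by rw [pow_zero, one_mul, pow_one, h, one_mul]⟩
        · exact ⟨r ^ 1 * x ^ 1, hmem 1 1, by rw [pow_one, pow_one, map_mul, h, ← mul_assoc, hsq, one_mul]⟩
      have hr' : κ r ∈ φ.range.map κ := ⟨r ^ 1 * x ^ 0, hmem 1 0, by rw [pow_one, pow_zero, mul_one]⟩
      have h := Subgroup.mul_mem _ (Subgroup.zpow_mem _ hr' i) (Subgroup.zpow_mem _ hw' j)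
      rw [← map_zpow, ← map_zpow, ← map_mul] at h
      have h' : r ^ i * w ^ j ∈ (φ.range.map κ).comap κ := h
      rwa [Subgroup.comap_map_eq, QuotientGroup.ker_mk'] at h'
  -- nonabelian
  obtain ⟨s, u, hu, hmu⟩ := exists_two_pow_mul_odd (k := m - 1) fun h => hab (by rw [h, zpow_zero])
  have hmodd : Odd m := by
    rw [← Int.not_even_iff_odd]
    intro hme
    have h := congrArg κ hmr
    rw [hpar, if_pos hme, map_mul, map_mul, map_inv] at h
    have hc : κ w * κ r = κ r * κ w := by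
      rw [← commutatorElement_eq_one_iff_mul_comm, ← map_commutatorElement, hκ]
      exact CfsgLib.Solv.commutator_le_frattini hG
        (Subgroup.commutator_mem_commutator (Subgroup.mem_top _) (Subgroup.mem_top _))
    rw [hc, mul_inv_cancel_right] at h
    exact hr1 h
  have hs : 1 ≤ s := by
    by_contra h
    obtain rfl : s = 0 := by omega
    rw [pow_zero, one_mul] at hmu
    obtain ⟨a, rfl⟩ := hmodd
    exact (Int.not_even_iff_odd.2 hu) ⟨a, by linear_combination -hmu⟩
  set n := 2 ^ s with hn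
  let D : Subgroup G := Subgroup.zpowers (r ^ n)
  have hDr : D ≤ Subgroup.zpowers r := Subgroup.zpowers_le.2 (Subgroup.npow_mem_zpowers r n)
  haveI hDn : D.Normal := ⟨fun z hz v => by
    obtain ⟨mv, hmv⟩ := exists_exponent hN v
    rw [hmv z (hDr hz)]
    exact Subgroup.zpow_mem _ hz mv⟩
  let δ := QuotientGroup.mk' D
  have hδ : ∀ z : G, δ z = 1 ↔ z ∈ D := fun z => QuotientGroup.eq_one_iff z
  have hwr : ⁅w, r⁆ = (r ^ n) ^ u := by
    rw [commutatorElement_def, hmr, ← zpow_natCast, ← zpow_mul, hn]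
    push_cast
    rw [← hmu, zpow_sub, zpow_one]
  have hδc : ∀ a b : G, Commute (δ a) (δ b) := by
    have h0 : Commute (δ w) (δ r) := by
      rw [← commutatorElement_eq_one_iff_commute, ← map_commutatorElement, hδ, hwr]
      exact Subgroup.zpow_mem _ (Subgroup.mem_zpowers _) u
    intro a b
    obtain ⟨i, j, rfl⟩ := hgen a
    obtain ⟨i', j', rfl⟩ := hgen b
    simp only [map_mul, map_zpow]
    exact Commute.mul_left
      (Commute.mul_right ((Commute.refl (δ r)).zpow_zpow i i') (h0.symm.zpow_zpow i j'))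
      (Commute.mul_right (h0.zpow_zpow j i') ((Commute.refl (δ w)).zpow_zpow j j'))
  have hcD : ∀ a b : G, ⁅a, b⁆ ∈ D := fun a b => by
    rw [← hδ, map_commutatorElement, commutatorElement_eq_one_iff_commute]; exact hδc a b
  have hrnD : r ^ n ∈ D := Subgroup.mem_zpowers _
  have hgenD : ∀ z ∈ D, ∀ l : G, Commute (r ^ n) l → Commute z l := fun z hz l hl => by
    obtain ⟨k, rfl⟩ := Subgroup.mem_zpowers_iff.1 hz
    exact hl.zpow_left k
  have hαD : D.map α.toMonoidHom = D := by
    refine Subgroup.eq_of_le_of_card_ge ?_ (Subgroup.card_map_of_injective α.injective).ge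
    rw [MonoidHom.map_zpowers, Subgroup.zpowers_le]
    refine mem_of_odd_zpow hG hu ?_
    show (α (r ^ n)) ^ u ∈ D
    rw [← map_zpow, ← hwr, map_commutatorElement]
    exact hcD _ _
  have hxD : α (r ^ n) ∈ D := hαD.le ⟨_, hrnD, rfl⟩
  have hwn : w ^ n ∈ D := by
    refine mem_of_odd_zpow hG hj₀ ?_
    rw [← hδ, map_zpow, map_pow]
    have h : (δ (α r)) ^ n = 1 := by rw [← map_pow, ← map_pow, hδ]; exact hxD
    rw [hαr, map_mul, (hδc _ _).mul_pow, ← map_pow δ, ← zpow_natCast (r ^ i₀), ← zpow_mul, mul_comm i₀, zpow_mul,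
      zpow_natCast, (hδ _).2 (Subgroup.zpow_mem _ hrnD i₀), one_mul, map_zpow, ← zpow_natCast (δ w ^ j₀), ← zpow_mul,
      mul_comm j₀, zpow_mul, zpow_natCast] at h
    exact h
  rcases (show s = 1 ∨ 2 ≤ s by omega) with rfl | hs2
  · -- order eight
    refine Or.inr ?_
    have hww : w * w ∈ Subgroup.zpowers r := by
      rw [← pow_two]
      rw [hn, pow_one] at hwn
      exact hDr hwn
    set x := α r with hx
    have hx2 : α (r ^ n) = x * x := by rw [hn, pow_one, pow_two, map_mul]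
    rw [hx2] at hxD
    have hxw : Commute (x * x) w := by
      have hxr : Commute (x * x) r := by
        obtain ⟨k, hk⟩ := Subgroup.mem_zpowers_iff.1 (hDr hxD)
        rw [← hk]; exact (Commute.refl r).zpow_left k
      have h1 : Commute (x * x) x := (Commute.refl x).mul_left (Commute.refl x)
      have h2 := (hxr.zpow_right (-i₀)).mul_right h1
      nth_rewrite 3 [hαr] at h2
      rw [← mul_assoc, ← zpow_add, neg_add_cancel, zpow_zero, one_mul] at h2
      have h3 : w ^ j₀ ∈ Subgroup.centralizer ({x * x} : Set G) :=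
        Subgroup.mem_centralizer_singleton_iff.2 h2.symm
      exact (Subgroup.mem_centralizer_singleton_iff.1 (mem_of_odd_zpow hG hj₀ h3) : Commute w _).symm
    have hfix : ∀ z ∈ Subgroup.zpowers r, Commute z w → z * z = 1 := fun z hz hzw => by
      have h1 := hm z hz
      rw [← hzw.eq, mul_inv_cancel_right] at h1
      have h2 : z ^ (2 * u) = 1 := by
        rw [show (2 : ℤ) * u = m - 1 by rw [hmu, pow_one], zpow_sub, zpow_one, ← h1, mul_inv_cancel]
      rw [zpow_mul, zpow_two] at h2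
      exact two_group_odd_pow hG hu h2
    have hr4 : orderOf r = 2 * 2 := by
      have h1 : x ^ 4 = 1 := by
        rw [show (4 : ℕ) = 2 * 2 by norm_num, pow_mul, pow_two, pow_two]; exact hfix _ (hDr hxD) hxw
      obtain ⟨e, he4, he⟩ := (Nat.dvd_prime_pow Nat.prime_two (m := 2)).1 (show orderOf r ∣ 2 ^ 2 from
        orderOf_dvd_of_pow_eq_one (α.injective (by rw [map_pow, map_one]; exact h1)))
      rcases (show e ≤ 1 ∨ e = 2 by omega) with h | rfl
      · refine absurd ?_ hab
        have h2 : r ^ 2 = 1 := orderOf_dvd_iff_pow_eq_one.1 (by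
          rw [he]
          calc 2 ^ e ∣ 2 ^ 1 := pow_dvd_pow 2 h
            _ = 2 := pow_one 2)
        rw [hmu, pow_one, zpow_mul, zpow_two, ← pow_two, h2, one_zpow]
      · rw [he]; rfl
    have hm4 : (4 : ℤ) ∣ m + 1 := by
      obtain ⟨b, rfl⟩ := hu
      exact ⟨b + 1, by rw [pow_one] at hmu; linear_combination hmu⟩
    have hz : ∀ k : ℤ, r ^ k = 1 ↔ (4 : ℤ) ∣ k := fun k => by
      rw [← orderOf_dvd_iff_zpow_eq_one, hr4]; norm_num
    have hinv : w * r * w⁻¹ = r⁻¹ := by
      rw [hmr, ← mul_inv_eq_one, inv_inv, ← zpow_add_one, hz]; exact hm4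
    have hwN : w ∉ Subgroup.zpowers r := fun h => by
      obtain ⟨k, hk⟩ := Subgroup.mem_zpowers_iff.1 h
      have h1 : Commute r w := hk ▸ (Commute.refl r).zpow_right k
      rw [← h1.eq, mul_inv_cancel_right] at hinv
      have := (hz 2).1 (by rw [zpow_two]; exact mul_eq_one_iff_eq_inv.2 hinv)
      norm_num at this
    have hall : ∀ y : G, y ∈ Subgroup.zpowers r ∨ w⁻¹ * y ∈ Subgroup.zpowers r := fun y => by
      obtain ⟨i, j, rfl⟩ := hgen y
      have hw2 : π w * π w = 1 := by rw [← map_mul, hπ]; exact hww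
      rcases Int.even_or_odd j with ⟨l, rfl⟩ | ⟨l, rfl⟩
      · left
        rw [← hπ, map_mul, map_zpow, map_zpow, ← two_mul, zpow_mul (π w), zpow_two, hw2, one_zpow, mul_one,
          (hπ r).2 (Subgroup.mem_zpowers r), one_zpow]
      · right
        rw [← hπ, map_mul, map_inv, map_mul, map_zpow, map_zpow, zpow_add, zpow_mul (π w), zpow_two, hw2, one_zpow,
          one_mul, zpow_one, (hπ r).2 (Subgroup.mem_zpowers r), one_zpow, one_mul, inv_mul_cancel]
    obtain ⟨k, hk⟩ := Subgroup.mem_zpowers_iff.1 hww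
    rcases Int.even_or_odd k with ⟨l, rfl⟩ | ⟨l, rfl⟩
    · rcases Int.even_or_odd l with ⟨l', rfl⟩ | ⟨l', rfl⟩
      · exfalso
        have hw2 : w * w = 1 := by rw [← hk, hz]; exact ⟨l', by ring⟩
        have hwj : w ^ j₀ = w := by
          obtain ⟨b, rfl⟩ := hj₀
          rw [zpow_add, zpow_mul, zpow_two, hw2, one_zpow, one_mul, zpow_one]
        have h1 : x * x = 1 := by
          rw [hαr, hwj]
          calc r ^ i₀ * w * (r ^ i₀ * w) = r ^ i₀ * (w * r * w⁻¹) ^ i₀ * (w * w) := by rw [conj_zpow]; group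
            _ = 1 := by rw [hinv, hw2, inv_zpow, mul_inv_cancel, one_mul]
        rw [← map_mul, ← map_one α] at h1
        have h2 := (hz 2).1 (by rw [zpow_two]; exact α.injective h1)
        norm_num at h2
      · refine CfsgLib.Solv.quaternion_of_inverting (m := 2) hr4 hinv ?_ hwN hall
        rw [← hk, ← zpow_natCast, ← mul_inv_eq_one, ← zpow_neg, ← zpow_add, hz]
        exact ⟨l', by push_cast; ring⟩
    · exfalso
      have h0 : Commute (r ^ (2 * l + 1)) w := by rw [hk]; exact (Commute.refl w).mul_left (Commute.refl w)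
      have h1 := hfix _ (Subgroup.zpow_mem _ (Subgroup.mem_zpowers r) _) h0
      rw [← zpow_add, hz] at h1
      omega
  -- class two with a large quotient
  have hcen : ∀ z ∈ D, ∀ l : G, Commute z l := by
    have hD' : ∀ z ∈ D, ∃ k : ℤ, (α (r ^ n)) ^ k = z := fun z hz => by
      obtain ⟨y, hy, rfl⟩ := hαD.ge hz
      obtain ⟨k, rfl⟩ := Subgroup.mem_zpowers_iff.1 hy
      exact ⟨k, (map_zpow α _ k).symm⟩
    have hxr : Commute (α (r ^ n)) r := by
      obtain ⟨k, hk⟩ := Subgroup.mem_zpowers_iff.1 (hDr hxD)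
      rw [← hk]; exact (Commute.refl r).zpow_left k
    have hxw : Commute (α (r ^ n)) w := by
      have h1 : Commute (α (r ^ n)) (α r) := by rw [map_pow]; exact (Commute.refl _).pow_left n
      rw [hαr] at h1
      have h2 : Commute (α (r ^ n)) (w ^ j₀) := by
        have := (hxr.zpow_right (-i₀)).mul_right h1
        rwa [← mul_assoc, ← zpow_add, neg_add_cancel, zpow_zero, one_mul] at this
      have h3 : w ^ j₀ ∈ Subgroup.centralizer ({α (r ^ n)} : Set G) :=
        Subgroup.mem_centralizer_singleton_iff.2 h2.symm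
      exact (Subgroup.mem_centralizer_singleton_iff.1 (mem_of_odd_zpow hG hj₀ h3) : Commute w _).symm
    intro z hz l
    obtain ⟨k, rfl⟩ := hD' z hz
    obtain ⟨i, j, rfl⟩ := hgen l
    exact ((hxr.zpow_right i).mul_right (hxw.zpow_right j)).zpow_left k
  have hpowD : ∀ z : G, z ^ n ∈ D := fun z => by
    obtain ⟨i, j, rfl⟩ := hgen z
    rw [← hδ, map_pow, map_mul, (hδc _ _).mul_pow, map_zpow, map_zpow, ← zpow_natCast (δ r ^ i), ← zpow_mul,
      mul_comm i, zpow_mul, zpow_natCast, ← zpow_natCast (δ w ^ j), ← zpow_mul, mul_comm j, zpow_mul, zpow_natCast,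
      ← map_pow, ← map_pow, (hδ _).2 hrnD, (hδ _).2 hwn, one_zpow, one_zpow, one_mul]
  let D2 : Subgroup G := Subgroup.zpowers ((r ^ n) ^ 2)
  have heven : ∀ z ∈ D, ∀ k : ℕ, Even k → z ^ k ∈ D2 := fun z hz k ⟨l, hl⟩ => by
    obtain ⟨i, rfl⟩ := Subgroup.mem_zpowers_iff.1 hz
    refine ⟨i * l, ?_⟩
    show ((r ^ n) ^ 2) ^ (i * (l : ℤ)) = _
    rw [← zpow_natCast (r ^ n) 2, ← zpow_mul, ← zpow_natCast _ k, ← zpow_mul, hl]
    congr 1; push_cast; ring
  have hne : Even n := by rw [hn]; exact even_two.pow_of_ne_zero (by omega)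
  have hch : Even (n.choose 2) := by
    rw [Nat.choose_two_right]
    obtain ⟨s', rfl⟩ : ∃ s', s = s' + 2 := ⟨s - 2, by omega⟩
    have e : n * (n - 1) / 2 = 2 ^ (s' + 1) * (n - 1) := by
      rw [hn, show 2 ^ (s' + 2) * (2 ^ (s' + 2) - 1) = 2 * (2 ^ (s' + 1) * (2 ^ (s' + 2) - 1)) by
        rw [show (2 : ℕ) ^ (s' + 2) = 2 * 2 ^ (s' + 1) by ring]; ring, Nat.mul_div_cancel_left _ (by norm_num)]
    rw [e]
    exact (even_two.pow_of_ne_zero (by omega)).mul_right _
  let M : Subgroup G :=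
    { carrier := {z | z ^ n ∈ D2}
      one_mem' := by show (1 : G) ^ n ∈ D2; rw [one_pow]; exact D2.one_mem
      mul_mem' := fun {a b} ha hb => by
        show (a * b) ^ n ∈ D2
        rw [mul_pow_of_central (fun l => hcen _ (hcD b a) l)]
        exact D2.mul_mem (D2.mul_mem ha hb) (heven _ (hcD b a) _ hch)
      inv_mem' := fun {a} ha => by show a⁻¹ ^ n ∈ D2; rw [inv_pow]; exact D2.inv_mem ha }
  have hΦM : Φ ≤ M := by
    refine CfsgLib.Solv.frattini_le_of_elementary (p := 2) M (Subgroup.commutator_le.2 fun a _ b _ =>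
      heven _ (hcD a b) n hne) fun z => ?_
    show (z ^ 2) ^ n ∈ D2
    rw [← pow_mul, mul_comm, pow_mul]
    exact heven _ (hpowD z) 2 even_two
  have hrM : r ∉ M := fun h => by
    obtain ⟨k, hk⟩ := Subgroup.mem_zpowers_iff.1 (h : r ^ n ∈ D2)
    have h1 : (r ^ n) ^ (2 * k - 1) = 1 := by
      rw [zpow_sub, zpow_one, zpow_mul, zpow_two, ← pow_two, hk, mul_inv_cancel]
    have h2 : r ^ n = 1 := two_group_odd_pow hG ⟨k - 1, by ring⟩ h1
    refine hab ?_
    rw [hmu, zpow_mul, show (2 : ℤ) ^ s = ((n : ℕ) : ℤ) by rw [hn]; push_cast; rfl, zpow_natCast, h2, one_zpow]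
  exfalso
  obtain ⟨y, hy⟩ := hsurj r
  refine hrM ?_
  have hyM : y⁻¹ * α y ∈ M := by
    show (y⁻¹ * α y) ^ n ∈ D2
    rw [mul_pow_of_central (fun l => hcen _ (hcD (α y) y⁻¹) l)]
    refine D2.mul_mem ?_ (heven _ (hcD _ _) _ hch)
    obtain ⟨k, hk⟩ := Subgroup.mem_zpowers_iff.1 (hpowD y)
    obtain ⟨l, hl⟩ := Subgroup.mem_zpowers_iff.1 hxD
    have hlodd : Odd l := by
      rw [← Int.not_even_iff_odd]
      rintro ⟨l', rfl⟩
      have hDD : D ≤ D2 := fun z hz => by
        obtain ⟨z', hz', rfl⟩ := hαD.ge hz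
        obtain ⟨i, rfl⟩ := Subgroup.mem_zpowers_iff.1 hz'
        show α ((r ^ n) ^ i) ∈ D2
        rw [map_zpow, ← hl, ← two_mul, zpow_mul, zpow_two, ← pow_two]
        exact Subgroup.zpow_mem _ (Subgroup.zpow_mem _ (Subgroup.mem_zpowers _) l') i
      exact hrM (show r ^ n ∈ D2 from hDD hrnD)
    rw [inv_pow, ← map_pow, ← hk, map_zpow, ← hl, ← zpow_mul, ← zpow_neg, ← zpow_add]
    obtain ⟨l', rfl⟩ := hlodd
    refine ⟨l' * k, ?_⟩
    show ((r ^ n) ^ 2) ^ (l' * k) = _
    rw [← zpow_natCast (r ^ n) 2, ← zpow_mul]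
    congr 1; push_cast; ring
  have h := M.mul_mem hyM (hΦM ((hκ ((y⁻¹ * α y)⁻¹ * r)).1 (by rw [map_mul, map_inv, hy, inv_mul_cancel])))
  rwa [mul_inv_cancel_left] at h

/-- No nontrivial automorphisms of odd order. -/
theorem aut_trivial [Finite G] (hG : IsPGroup 2 G) (hm : IsMetacyclic G)
    (hh : ¬ ∃ n k : ℕ, Nonempty (G ≃* Multiplicative (Fin k → ZMod (2 ^ n))))
    (hq : ¬ ∃ m : ℕ, Nonempty (G ≃* QuaternionGroup m)) (α : MulAut G) (hodd : Odd (orderOf α)) : α = 1 := by
  by_contra hα1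
  rcases shape_of_odd_aut hG hm α hodd hα1 with ⟨e, he⟩ | h
  · exact hh ⟨e, 2, he⟩
  · exact hq ⟨2, h⟩

end CfsgLib.Fus.MetaTwo
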