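import Cfsg.Agent.Fus.Normal
import Cfsg.Agent.Fus.NormalizerSystem

/-!
Membership of maps in normalizer and centralizer systems, in the language of functions.
-/

set_option autoImplicit false

open Cfsg Cfsg.FusionSystem

namespace CfsgLib.Fus

variable {Ω : Type*} [Group Ω] {S : Subgroup Ω} {F : FusionSystem S}

/-- A map stabilizing `Q`, defined on a subgroup of `N_S(Q)` containing `Q`, is a map of the normalizer system. -/
theorem isMap_normalizerSystem {Q : Subgroup Ω} {N : FusionSystem (normalizerIn S Q)} (hN : F.IsNormalizerSystem Q N)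
    {P : Subgroup Ω} {f : Ω → Ω} (hf : IsMap F P f) (hQP : Q ≤ P) (hQ : img f Q = Q)
    (hPN : P ≤ normalizerIn S Q) : IsMap N P f := by
  obtain ⟨φ, hφ, hφf⟩ := hf
  have hf : IsMap F P f := ⟨φ, hφ, hφf⟩
  refine ⟨φ, ?_, hφf⟩
  rw [hN]
  obtain ⟨ψ, hψ, hψf⟩ := hf.mono (sup_le le_rfl hQP)
  refine ⟨hφ, hPN, fun x => ?_, ψ, hψ, fun x => (hψf _).trans (hφf x).symm, ?_⟩
  · rw [hφf]
    have := hf.map_normalizerIn hQP x.2 (hPN x.2)
    rwa [hQ] at this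
  · rw [map_subgroupOf_eq_img ψ le_sup_right]
    exact (img_congr fun x hx => (ev_of_mem ψ (le_sup_right (a := P) hx)).trans (hψf _)).trans hQ

/-- The maps of a normalizer system. -/
theorem isMap_of_normalizerSystem {Q : Subgroup Ω} {N : FusionSystem (normalizerIn S Q)} (hN : F.IsNormalizerSystem Q N)
    {P : Subgroup Ω} {f : Ω → Ω} (h : IsMap N P f) :
    IsMap F P f ∧ P ≤ normalizerIn S Q ∧ ∃ g, IsMap F (P ⊔ Q) g ∧ (∀ x ∈ P, g x = f x) ∧ img g Q = Q := by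
  obtain ⟨φ, hφ, hφf⟩ := h
  rw [hN] at hφ
  obtain ⟨hφF, hP, -, ψ, hψ, hψe, hψQ⟩ := hφ
  rw [map_subgroupOf_eq_img ψ le_sup_right] at hψQ
  refine ⟨⟨φ, hφF, hφf⟩, hP, ev ψ, IsMap.of_hom hψ, fun x hx => ?_, hψQ⟩
  rw [← hφf ⟨x, hx⟩, ← hψe ⟨x, hx⟩]
  exact ev_of_mem ψ (le_sup_left (b := Q) hx)

/-- A map fixing `Q`, defined on a subgroup of `C_S(Q)` containing `Q`, is a map of the centralizer system. -/
theorem isMap_centralizerSystem {Q : Subgroup Ω} {C : FusionSystem (centralizerIn S Q)}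
    (hC : F.IsCentralizerSystem Q C) {P : Subgroup Ω} {f : Ω → Ω} (hf : IsMap F P f) (hQP : Q ≤ P)
    (hQ : ∀ x ∈ Q, f x = x) (hPC : P ≤ centralizerIn S Q) : IsMap C P f := by
  obtain ⟨φ, hφ, hφf⟩ := hf
  have hf : IsMap F P f := ⟨φ, hφ, hφf⟩
  refine ⟨φ, ?_, hφf⟩
  rw [hC]
  obtain ⟨ψ, hψ, hψf⟩ := hf.mono (sup_le le_rfl hQP)
  refine ⟨hφ, hPC, fun x => ?_, ψ, hψ, fun x => (hψf _).trans (hφf x).symm, fun x => (hψf _).trans (hQ x x.2)⟩
  rw [hφf]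
  refine ⟨hf.mem x.2, fun q hq => ?_⟩
  have h := (hPC x.2).2 q hq
  rw [← hQ q hq, ← hf.map_mul (hQP hq) x.2, h, hf.map_mul x.2 (hQP hq)]

end CfsgLib.Fus
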