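import Cfsg.Agent.Fus.ExtensionNorm
import Cfsg.Agent.Fus.Centric
import Cfsg.Agent.Fus.Quotient
import Cfsg.Agent.Fus.SystemMaps
import Cfsg.Agent.Fus.SmallCenterBasic
import Cfsg.Agent.Solv.Basic

/-!
The model theorem: the normalizer system of a fully normalized centric subgroup of a saturated fusion system is the
fusion system of a finite group of characteristic `p`.
-/

set_option autoImplicit false
set_option linter.style.haveILetI false

open Cfsg Cfsg.FusionSystem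

namespace CfsgLib.Fus

universe u

variable {Ω : Type u} [Group Ω] {S : Subgroup Ω} [Finite S] {F : FusionSystem S} {p : ℕ} [Fact p.Prime]

/-- The extension attached to the data of a fully normalized centric subgroup is a model. -/
theorem model_of_data (hS : IsPGroup p S) (hF : F.IsSaturated p) {Q : Subgroup Ω} (hQn : F.IsFullyNormalized Q)
    (hQc : F.IsCentric Q) (hrec : F.IsReceptive Q) [Finite ↥(normalizerIn S Q)] [Finite ↥(F.autGroup Q)]
    (D : CfsgLib.ExtNorm.Data p ↥(normalizerIn S Q) ↥(F.autGroup Q))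
    (hπ : ∀ (r : ↥(normalizerIn S Q)) (x : Ω), x ∈ Q → autFun (D.π r : MulAut Q) x = (r : Ω) * x * (r : Ω)⁻¹)
    (hQD : ∀ r : ↥(normalizerIn S Q), r ∈ D.Q ↔ (r : Ω) ∈ Q)
    (hρ : ∀ (a : ↥(F.autGroup Q)) (q : ↥D.Q), (((D.ρ a q : ↥D.Q) : ↥(normalizerIn S Q)) : Ω) =
      autFun (a : MulAut Q) ((q : ↥(normalizerIn S Q)) : Ω))
    (fA : ↥(F.autGroup Q) → Ω → Ω) (Da : ↥(F.autGroup Q) → Subgroup ↥(normalizerIn S Q))
    (hDa : ∀ a r, r ∈ Da a ↔ a⁻¹ * D.π r * a ∈ D.π.range)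
    (hfA : ∀ a, IsMap F (Q ⊔ (Da a).map (normalizerIn S Q).subtype) (fA a))
    (hΨ : ∀ a r, r ∈ Da a → ((D.Ψ a r : ↥(normalizerIn S Q)) : Ω) = fA a (r : Ω)) :
    ∃ (L : Type u) (_ : Group L) (_ : Finite L) (ι : ↥(normalizerIn S Q) →* L) (θ : L →* ↥(F.autGroup Q)),
      (∀ N : FusionSystem (normalizerIn S Q), F.IsNormalizerSystem Q N → N.IsModel p L ι) ∧
      Function.Surjective θ ∧
      (∀ (r : ↥(normalizerIn S Q)) (x : Ω), x ∈ Q → autFun (θ (ι r) : MulAut Q) x = (r : Ω) * x * (r : Ω)⁻¹) ∧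
      θ.ker = ((Zc Q).subgroupOf (normalizerIn S Q)).map ι ∧
      ∀ (l : L) (q : ↥(normalizerIn S Q)) (hq : (q : Ω) ∈ Q), ∃ q' : ↥(normalizerIn S Q),
        (q' : Ω) = autFun (θ l : MulAut Q) q ∧ l * ι q * l⁻¹ = ι q' := by
  classical
  have hQS := hQn.1
  have hQR : Q ≤ (normalizerIn S Q) := le_normalizerIn hQS
  have hker : ∀ r : ↥(normalizerIn S Q), D.π r = 1 ↔ (r : Ω) ∈ Zc Q := by
    intro r
    constructor
    · intro h
      have hc : ∀ y ∈ Q, y * (r : Ω) = r * y := fun y hy => by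
        have := hπ r y hy
        rw [h, OneMemClass.coe_one, autFun_one hy] at this
        exact eq_mul_inv_iff_mul_eq.1 this
      exact mem_Zc (centric_center hQc r.2.1 hc) hc
    · exact fun h => Subtype.ext (aut_ext fun x hx => by
        rw [hπ r x hx, OneMemClass.coe_one, autFun_one hx, ← Zc_comm h hx, mul_inv_cancel_right])
  letI : Fintype D.C := Fintype.ofFinite _
  haveI : Finite D.L := inferInstance
  have hQker : ∀ z : D.Z, ((z : ↥(normalizerIn S Q)) : Ω) ∈ Zc Q := fun z => (hker _).1 z.2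
  -- conjugation in the extension is given by maps of `F`
  have key : ∀ (l : D.L) (P : Subgroup Ω) (f : Ω → Ω), Q ≤ P → P ≤ (normalizerIn S Q) → IsMap F P f →
      (∀ x ∈ Q, f x = autFun (D.toA l : MulAut Q) x) →
      ∃ z : D.Z, ∀ (r : ↥(normalizerIn S Q)) (hr : (r : Ω) ∈ P), ∃ hfr : f r ∈ (normalizerIn S Q),
        l * D.ι r * l⁻¹ = D.ι ((z : ↥(normalizerIn S Q)) * ⟨f r, hfr⟩ * (z : ↥(normalizerIn S Q))⁻¹) := by
    intro l P f hQP hPR hf hfQ
    have hfimg : img f Q = Q := (img_congr hfQ).trans (img_autFun _)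
    have hfR : ∀ x ∈ P, f x ∈ (normalizerIn S Q) := fun x hx => by
      have := hf.map_normalizerIn hQP hx (hPR hx)
      rwa [hfimg] at this
    let fR : ↥(normalizerIn S Q) → ↥(normalizerIn S Q) := fun r => if h : f (r : Ω) ∈ (normalizerIn S Q) then ⟨_, h⟩ else 1
    have hfRe : ∀ r : ↥(normalizerIn S Q), (r : Ω) ∈ P → ((fR r : ↥(normalizerIn S Q)) : Ω) = f r := fun r hr => by
      simp only [fR, dif_pos (hfR _ hr)]
    set P' : Subgroup ↥(normalizerIn S Q) := P.subgroupOf (normalizerIn S Q) with hP'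
    have hπf : ∀ r : ↥(normalizerIn S Q), (r : Ω) ∈ P → D.π (fR r) = D.toA l * D.π r * (D.toA l)⁻¹ := fun r hr =>
      Subtype.ext (aut_ext fun x hx => by
        have hy := autFun_mem (D.toA l : MulAut Q)⁻¹ hx
        rw [hπ _ x hx, hfRe r hr, Subgroup.coe_mul, Subgroup.coe_mul, Subgroup.coe_inv, autFun_conj _ _ hx,
          hπ r _ hy, ← hfQ _ (conj_mem_of_normalizer r.2.2 hy), hf.map_conj hr (hQP hy), hfQ _ hy,
          autFun_inv_apply (D.toA l : MulAut Q) hx])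
    obtain ⟨z, hz⟩ := D.conj_eq_map l P' fR (fun r hr => hQP ((hQD r).1 hr))
      (fun r hr r' hr' => Subtype.ext (by
        rw [hfRe _ (P.mul_mem hr hr'), Subgroup.coe_mul, Subgroup.coe_mul, hfRe r hr, hfRe r' hr',
          ]
        exact hf.map_mul hr hr'))
      hπf
      (fun q => Subtype.ext (by
        rw [hfRe _ (hQP ((hQD _).1 q.2)), hfQ _ ((hQD _).1 q.2)]
        exact (hρ _ q).symm))
      (fun c g hg => by
        set b := D.toA l with hb
        set d := b⁻¹ • c with hd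
        -- the points fixed
        let Pc : Subgroup ↥(normalizerIn S Q) :=
          { carrier := {r | r ∈ P' ∧ D.π (fR r) • c = c}
            one_mem' := ⟨P'.one_mem, by
              rw [hπf 1 P.one_mem, map_one, mul_one, mul_inv_cancel, one_smul]⟩
            mul_mem' := fun {r r'} hr hr' => ⟨P'.mul_mem hr.1 hr'.1, by
              have h1 : D.π (fR (r * r')) = D.π (fR r) * D.π (fR r') := by
                rw [hπf _ (P.mul_mem hr.1 hr'.1), hπf r hr.1, hπf r' hr'.1, map_mul]; group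
              rw [h1, mul_smul, hr'.2, hr.2]⟩
            inv_mem' := fun {r} hr => ⟨P'.inv_mem hr.1, by
              have h1 : D.π (fR r⁻¹) = (D.π (fR r))⁻¹ := by
                rw [hπf _ (P.inv_mem hr.1), hπf r hr.1, map_inv]; group
              rw [h1, inv_smul_eq_iff, hr.2]⟩ }
        have hPd : ∀ r ∈ Pc, (D.π r)⁻¹ • d = d := by
          intro r hr
          have h := hr.2
          rw [hπf r hr.1] at h
          show (D.π r)⁻¹ • d = d
          rw [hd, inv_smul_eq_iff, inv_smul_eq_iff, ← mul_smul, ← mul_smul]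
          exact h.symm
        have hPc : ∀ r ∈ Pc, (D.π (fR r))⁻¹ • c = c := fun r hr => by
          show (D.π (fR r))⁻¹ • c = c
          rw [inv_smul_eq_iff, hr.2]
        set Pm := Pc.map (normalizerIn S Q).subtype with hPm
        have hPmP : Pm ≤ P := by rintro _ ⟨r, hr, rfl⟩; exact hr.1
        let ud : ↥(normalizerIn S Q) := D.u d
        let uc : ↥(normalizerIn S Q) := D.u c
        have hmemd : ∀ r ∈ Pc, ud⁻¹ * r * ud ∈ Da (D.a d) := fun r hr => by
          have h := D.u_mem r d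
          rw [hPd r hr] at h
          exact (hDa _ _).2 h
        have hmemc : ∀ r ∈ Pc, uc⁻¹ * fR r * uc ∈ Da (D.a c) := fun r hr => by
          have h := D.u_mem (fR r) c
          rw [hPc r hr] at h
          exact (hDa _ _).2 h
        have hj1 : ∀ r ∈ Pc, ((D.jfun r d : ↥(normalizerIn S Q)) : Ω) = fA (D.a d) ((ud : Ω)⁻¹ * r * ((ud : Ω)⁻¹)⁻¹) := by
          intro r hr
          have e : D.jfun r d = D.Ψ (D.a d) (ud⁻¹ * r * ud) := by
            show D.Ψ _ _ = _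
            rw [hPd r hr]
          rw [e, hΨ _ _ (hmemd r hr)]
          simp
        have hj2 : ∀ r ∈ Pc, ((D.jfun (fR r) c : ↥(normalizerIn S Q)) : Ω) = fA (D.a c) ((uc : Ω)⁻¹ * f r * ((uc : Ω)⁻¹)⁻¹) := by
          intro r hr
          have e : D.jfun (fR r) c = D.Ψ (D.a c) (uc⁻¹ * fR r * uc) := by
            show D.Ψ _ _ = _
            rw [hPc r hr]
          rw [e, hΨ _ _ (hmemc r hr)]
          simp [hfRe r hr.1]
        let θ₁ : Ω → Ω := conjF (g : Ω) ∘ fA (D.a d) ∘ conjF (ud : Ω)⁻¹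
        let θ₂ : Ω → Ω := fA (D.a c) ∘ conjF (uc : Ω)⁻¹ ∘ f
        have hm1 : IsMap F Pm θ₁ := by
          refine (((IsMap.conj F (hPmP.trans hf.le) (S.inv_mem ud.2.1)).comp (hfA _) ?_).comp
            (IsMap.conj F (le_refl S) g.2.1) fun x hx => ?_).congr fun x _ => rfl
          · rintro _ ⟨r, hr, rfl⟩
            exact le_sup_right (a := Q) ⟨ud⁻¹ * r * ud, hmemd r hr, by simp⟩
          · obtain ⟨r, hr, rfl⟩ := hx
            exact (hfA _).mem (le_sup_right (a := Q) ⟨ud⁻¹ * r * ud, hmemd r hr, by simp⟩)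
        have hm2 : IsMap F Pm θ₂ := by
          refine ((hf.mono hPmP).comp (IsMap.conj F (le_refl S) (S.inv_mem uc.2.1))
            fun x hx => hf.mem (hPmP hx)).comp (hfA _) ?_
          rintro _ ⟨r, hr, rfl⟩
          exact le_sup_right (a := Q) ⟨uc⁻¹ * fR r * uc, hmemc r hr, by simp [hfRe r hr.1]⟩
        have hQPc : ∀ q : ↥D.Q, (q : ↥(normalizerIn S Q)) ∈ Pc := fun q => ⟨hQP ((hQD _).1 q.2), by
          have e : fR (q : ↥(normalizerIn S Q)) = (D.ρ b q : ↥(normalizerIn S Q)) := Subtype.ext (by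
            rw [hfRe _ (hQP ((hQD _).1 q.2)), hfQ _ ((hQD _).1 q.2)]; exact (hρ b q).symm)
          rw [e]
          exact D.range_smul (D.ρ b q) c⟩
        have h12 : ∀ x ∈ Q, θ₂ x = θ₁ x := by
          intro x hx
          let q : ↥D.Q := ⟨⟨x, hQR hx⟩, (hQD _).2 hx⟩
          have e1 : θ₁ x = ((g * D.jfun (q : ↥(normalizerIn S Q)) d * g⁻¹ : ↥(normalizerIn S Q)) : Ω) := by
            rw [Subgroup.coe_mul, Subgroup.coe_mul, Subgroup.coe_inv, hj1 _ (hQPc q)]
            rfl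
          have e2 : θ₂ x = ((D.jfun (fR (q : ↥(normalizerIn S Q))) c : ↥(normalizerIn S Q)) : Ω) := by
            rw [hj2 _ (hQPc q)]; rfl
          have e3 : fR (q : ↥(normalizerIn S Q)) = (D.ρ b q : ↥(normalizerIn S Q)) := Subtype.ext (by
            rw [hfRe _ (hQP hx), hfQ x hx]; exact (hρ b q).symm)
          rw [e1, e2, e3, D.jfun_q, D.jfun_q, ← D.conj_eq, hg, ← MulAut.mul_apply, ← map_mul,
            ← MulAut.mul_apply, ← map_mul]
          rw [show (D.s c)⁻¹ * b * D.s (b⁻¹ • c) * (D.s d)⁻¹ = (D.s c)⁻¹ * b by rw [hd]; group]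
        obtain ⟨z, hz, hzc, hzθ⟩ := centric_agree hS hF (P := Pm) (fun x hx => ⟨⟨x, hQR hx⟩, hQPc ⟨⟨x, hQR hx⟩, (hQD _).2 hx⟩, rfl⟩) hQc
          hm2 hm1 h12
        have hzk : (⟨z, hQR hz⟩ : ↥(normalizerIn S Q)) ∈ D.π.ker := (hker _).2 (mem_Zc hz hzc)
        refine ⟨⟨⟨z, hQR hz⟩, hzk⟩, fun r hr hfix => Subtype.ext ?_⟩
        have hrc : r ∈ Pc := ⟨hr, hfix⟩
        have hzr : (⟨z, hQR hz⟩ : ↥(normalizerIn S Q)) * r * (⟨z, hQR hz⟩ : ↥(normalizerIn S Q))⁻¹ ∈ Pc :=
          mul_mem (mul_mem (hQPc ⟨⟨z, hQR hz⟩, (hQD _).2 hz⟩) hrc) (Subgroup.inv_mem _ (hQPc ⟨⟨z, hQR hz⟩, (hQD _).2 hz⟩))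
        rw [Subgroup.coe_mul, Subgroup.coe_mul, Subgroup.coe_inv, hj1 r hrc]
        refine (hzθ _ ⟨r, hrc, rfl⟩).trans ?_
        rw [hj2 _ hzr]
        rfl)
    exact ⟨z, fun r hr => ⟨hfR _ hr, by
      rw [hz r hr]
      congr
      exact Subtype.ext (hfRe r hr)⟩⟩
  refine ⟨D.L, inferInstance, inferInstance, D.ι, D.toA, fun N hN => ⟨inferInstance, ⟨D.ι_injective,
    fun P hP φ hφ => ?_⟩, ?_, ?_⟩, D.toA_surjective, fun r x hx => hπ r x hx, ?_, fun l q hq => ?_⟩
  · -- the realization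
    constructor
    · intro hmemN
      obtain ⟨hFm, hPN, g, hg, hge, hgQ⟩ := isMap_of_normalizerSystem hN (IsMap.of_hom hmemN)
      obtain ⟨β, hβ, hβe⟩ := exists_aut (hg.mono le_sup_right) hgQ
      obtain ⟨l, hl⟩ := D.toA_surjective ⟨β, hβ⟩
      obtain ⟨z, hz⟩ := key l (P ⊔ Q) g le_sup_right (sup_le hP hQR) hg fun x hx => by
        rw [hl]; exact (hβe x hx).symm
      refine ⟨(D.ι (z : ↥(normalizerIn S Q)))⁻¹ * l, fun x => ?_⟩
      obtain ⟨hfr, hx⟩ := hz ⟨x, hP x.2⟩ (le_sup_left (b := Q) x.2)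
      have e : (⟨φ x, hφ x⟩ : ↥(normalizerIn S Q)) = ⟨g x, hfr⟩ := Subtype.ext (by
        show φ x = g x
        rw [hge x x.2, ev_apply])
      rw [e, mul_inv_rev, inv_inv]
      calc D.ι ⟨g x, hfr⟩ = (D.ι (z : ↥(normalizerIn S Q)))⁻¹ * D.ι ((z : ↥(normalizerIn S Q)) * ⟨g x, hfr⟩ * (z : ↥(normalizerIn S Q))⁻¹) * D.ι (z : ↥(normalizerIn S Q)) := by
            rw [map_mul, map_mul, map_inv]; group
        _ = _ := by rw [← hx]; group
    · rintro ⟨l, hl⟩
      set β := D.toA l with hβdef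
      have hπφ : ∀ x : P, D.π ⟨φ x, hφ x⟩ = β * D.π ⟨x, hP x.2⟩ * β⁻¹ := fun x => by
        have := congrArg D.toA (hl x)
        rw [map_mul, map_mul, map_inv, D.toA_ι, D.toA_ι] at this
        exact this
      obtain ⟨g, hg, hge⟩ := extend_aut hrec β.2 (N := P) hP fun r hr γ hγ => by
        have hγ' : γ = (D.π ⟨r, hP hr⟩ : MulAut Q) := aut_ext fun x hx => by rw [hγ x hx, hπ _ x hx]
        rw [hγ', show (β : MulAut Q) * (D.π ⟨r, hP hr⟩ : MulAut Q) * (β : MulAut Q)⁻¹ =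
          (D.π ⟨φ ⟨r, hr⟩, hφ _⟩ : MulAut Q) by rw [hπφ ⟨r, hr⟩]; simp]
        exact mem_autInducedBy.2 ⟨φ ⟨r, hr⟩, (hφ _).1, fun x hx => hπ _ x hx⟩
      obtain ⟨z, hz⟩ := key l (Q ⊔ P) g le_sup_left (sup_le hQR hP) hg hge
      have hgQ : img g Q = Q := (img_congr hge).trans (img_autFun _)
      have hgR : ∀ x ∈ Q ⊔ P, g x ∈ S := fun x hx => hg.mem hx
      have hm : IsMap N (Q ⊔ P) (conjF ((z : ↥(normalizerIn S Q)) : Ω) ∘ g) := by
        refine isMap_normalizerSystem hN (hg.comp (IsMap.conj F le_rfl (z : ↥(normalizerIn S Q)).2.1) hgR) le_sup_left ?_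
          (sup_le hQR hP)
        rw [(hg.mono le_sup_left).img_comp, hgQ]
        exact (img_congr (g := id) fun x hx => by
          rw [conjF_apply, ← Zc_comm (hQker z) hx, mul_inv_cancel_right]; rfl).trans (img_id Q)
      refine (hm.mono le_sup_right).hom_mem fun x => ?_
      obtain ⟨hfr, hx⟩ := hz ⟨x, hP x.2⟩ (le_sup_right (a := Q) x.2)
      have e := D.ι_injective ((hl x).trans hx)
      exact congrArg Subtype.val e
  · have hp' : IsPGroup p D.ι.range := by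
      have h := (hS.to_le (normalizerIn_le Q) : IsPGroup p ↥(normalizerIn S Q))
      exact h.of_surjective D.ι.rangeRestrict D.ι.rangeRestrict_surjective
    exact ⟨hp'.toSylow D.index_range, IsPGroup.toSylow_coe _ _⟩
  · -- the centralizer of `O_p`
    have hnorm : (D.Q.map D.ι).Normal := ⟨fun x hx l => by
      obtain ⟨q, hq, rfl⟩ := hx
      rw [D.conj_ι l ⟨q, hq⟩]
      exact ⟨_, SetLike.coe_mem _, rfl⟩⟩
    haveI := hnorm
    have hle : D.Q.map D.ι ≤ pCore p D.L :=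
      CfsgLib.Solv.le_pCore (((hS.to_le (normalizerIn_le Q)).to_subgroup D.Q).map _)
    refine (Subgroup.centralizer_le hle).trans (le_trans (fun l hl => ?_) hle)
    have hA1 : D.toA l = 1 := Subtype.ext (aut_ext fun x hx => by
      let q : ↥D.Q := ⟨⟨x, hQR hx⟩, (hQD _).2 hx⟩
      have h := hl (D.ι q) ⟨q, q.2, rfl⟩
      have h2 := D.conj_ι l q
      rw [← h, mul_inv_cancel_right] at h2
      have h3 : ((q : ↥(normalizerIn S Q)) : Ω) = ((D.ρ (D.toA l) q : ↥(normalizerIn S Q)) : Ω) := congrArg Subtype.val (D.ι_injective h2)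
      rw [OneMemClass.coe_one, autFun_one hx]
      exact ((h3.trans (hρ (D.toA l) q)).symm : _))
    obtain ⟨z, rfl⟩ := D.ker_toA l hA1
    exact ⟨z, D.ker_le z.2, rfl⟩
  · ext l
    constructor
    · intro hl
      obtain ⟨z, rfl⟩ := D.ker_toA l hl
      exact ⟨z, hQker z, rfl⟩
    · rintro ⟨z, hz, rfl⟩
      exact (hker z).2 hz
  · refine ⟨(D.ρ (D.toA l) ⟨q, (hQD q).2 hq⟩ : ↥(normalizerIn S Q)), hρ (D.toA l) ⟨q, (hQD q).2 hq⟩, D.conj_ι l ⟨q, (hQD q).2 hq⟩⟩

/-- The model theorem: a group realizing the normalizer system of a fully normalized centric `Q`, projecting onto `Aut_F(Q)`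
with kernel the centre of `Q`, compatibly with conjugation on `Q`. -/
theorem exists_model_aut (hS : IsPGroup p S) (hF : F.IsSaturated p) {Q : Subgroup Ω} (hQn : F.IsFullyNormalized Q)
    (hQc : F.IsCentric Q) :
    ∃ (L : Type u) (_ : Group L) (_ : Finite L) (ι : ↥(normalizerIn S Q) →* L) (θ : L →* ↥(F.autGroup Q)),
      (∀ N : FusionSystem (normalizerIn S Q), F.IsNormalizerSystem Q N → N.IsModel p L ι) ∧
      Function.Surjective θ ∧
      (∀ (r : ↥(normalizerIn S Q)) (x : Ω), x ∈ Q → autFun (θ (ι r) : MulAut Q) x = (r : Ω) * x * (r : Ω)⁻¹) ∧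
      θ.ker = ((Zc Q).subgroupOf (normalizerIn S Q)).map ι ∧
      ∀ (l : L) (q : ↥(normalizerIn S Q)) (hq : (q : Ω) ∈ Q), ∃ q' : ↥(normalizerIn S Q),
        (q' : Ω) = autFun (θ l : MulAut Q) q ∧ l * ι q * l⁻¹ = ι q' := by
  classical
  have hQS := hQn.1
  obtain ⟨hfa, hrec⟩ := fullyNormalized_spec hS hF hQn
  set R := normalizerIn S Q with hR
  set A := F.autGroup Q with hA
  obtain ⟨T, hT⟩ : ∃ T : Sylow p ↥A, (T : Subgroup A) = (autInducedBy S Q).subgroupOf A := hfa.2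
  haveI := finite_mulAut hQS
  haveI : Finite ↥R := finite_of_le (normalizerIn_le Q)
  have hQR : Q ≤ R := le_normalizerIn hQS
  have hmem : ∀ r : ↥R, inducedHom S Q r ∈ A := fun r =>
    autInducedBy_le_autGroup hQS (range_inducedHom S Q ▸ ⟨r, rfl⟩)
  let π : ↥R →* ↥A := (inducedHom S Q).codRestrict A hmem
  have hπ : ∀ (r : ↥R) (x : Ω), x ∈ Q → autFun (π r : MulAut Q) x = (r : Ω) * x * (r : Ω)⁻¹ :=
    fun r x hx => inducedHom_apply S Q r hx
  have hrange : π.range = (T : Subgroup A) := by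
    rw [hT, ← range_inducedHom S Q]
    ext a
    constructor
    · rintro ⟨r, rfl⟩; exact ⟨r, rfl⟩
    · rintro ⟨r, hr⟩; exact ⟨r, Subtype.ext hr⟩
  have hker : ∀ r : ↥R, π r = 1 ↔ (r : Ω) ∈ Zc Q := by
    intro r
    constructor
    · intro h
      have hc : ∀ y ∈ Q, y * (r : Ω) = r * y := fun y hy => by
        have := hπ r y hy
        rw [h, OneMemClass.coe_one, autFun_one hy] at this
        exact eq_mul_inv_iff_mul_eq.1 this
      exact mem_Zc (centric_center hQc r.2.1 hc) hc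
    · exact fun h => Subtype.ext (aut_ext fun x hx => by
        rw [hπ r x hx, OneMemClass.coe_one, autFun_one hx, ← Zc_comm h hx, mul_inv_cancel_right])
  set QR : Subgroup ↥R := Q.subgroupOf R with hQRdef
  let ρ : ↥A →* MulAut ↥QR :=
    (MulAut.congr (Subgroup.subgroupOfEquivOfLe hQR).symm).toMonoidHom.comp A.subtype
  have hρ : ∀ (a : ↥A) (q : ↥QR), (((ρ a q : ↥QR) : ↥R) : Ω) = autFun (a : MulAut Q) ((q : ↥R) : Ω) := by
    intro a q
    rw [autFun_of_mem _ (show ((q : ↥R) : Ω) ∈ Q from q.2)]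
    rfl
  have hρπ : ∀ (a : ↥A) (q : ↥QR), π (ρ a q : ↥R) = a * π q * a⁻¹ := fun a q =>
    Subtype.ext (aut_ext fun x hx => by
      rw [hπ _ x hx, hρ, Subgroup.coe_mul, Subgroup.coe_mul, Subgroup.coe_inv, autFun_conj _ _ hx,
        hπ _ _ (autFun_mem _ hx)]
      have hq : ((q : ↥R) : Ω) ∈ Q := q.2
      have hy := autFun_mem (a : MulAut Q)⁻¹ hx
      rw [autFun_map_mul _ (Q.mul_mem hq hy) (Q.inv_mem hq), autFun_map_mul _ hq hy, autFun_map_inv _ hq,
        autFun_inv_apply (a : MulAut Q) hx])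
  -- the partial maps
  let Da : ↥A → Subgroup ↥R := fun a => π.range.comap ((MulAut.conj a⁻¹).toMonoidHom.comp π)
  have hDa : ∀ a r, r ∈ Da a ↔ a⁻¹ * π r * a ∈ π.range := fun a r => by
    show a⁻¹ * π r * a⁻¹⁻¹ ∈ π.range ↔ _
    rw [inv_inv]
  have hext : ∀ a : ↥A, ∃ f, IsMap F (Q ⊔ (Da a).map R.subtype) f ∧
      ∀ x ∈ Q, f x = autFun ((a⁻¹ : ↥A) : MulAut Q) x := by
    intro a
    refine extend_aut hrec (a⁻¹).2 (Subgroup.map_subtype_le _) fun g hg γ hγ => ?_
    obtain ⟨r, hr, rfl⟩ := hg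
    obtain ⟨t, ht⟩ := (hDa a r).1 hr
    have hγ' : γ = (π r : MulAut Q) := aut_ext fun x hx => by rw [hγ x hx, hπ r x hx]; rfl
    rw [hγ', show ((a⁻¹ : ↥A) : MulAut Q) * (π r : MulAut Q) * ((a⁻¹ : ↥A) : MulAut Q)⁻¹ =
      ((a⁻¹ * π r * a : ↥A) : MulAut Q) by simp, ← ht, ← range_inducedHom S Q]
    exact ⟨t, rfl⟩
  choose fA hfA hfAQ using hext
  have hfAimg : ∀ a : ↥A, img (fA a) Q = Q := fun a => (img_congr (hfAQ a)).trans (img_autFun _)
  have hfAR : ∀ a r, r ∈ Da a → fA a (r : Ω) ∈ R := fun a r hr => by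
    have := (hfA a).map_normalizerIn le_sup_left (le_sup_right (a := Q) (show (r : Ω) ∈ (Da a).map R.subtype from ⟨r, hr, rfl⟩)) r.2
    rwa [hfAimg] at this
  let Ψ : ↥A → ↥R → ↥R := fun a r => if h : fA a (r : Ω) ∈ R then ⟨_, h⟩ else 1
  have hΨ : ∀ a r, r ∈ Da a → ((Ψ a r : ↥R) : Ω) = fA a (r : Ω) := fun a r hr => by
    simp only [Ψ, dif_pos (hfAR a r hr)]
  have hQD : ∀ a (q : ↥QR), (q : ↥R) ∈ Da a := fun a q => by
    rw [hDa]
    exact ⟨(ρ a⁻¹ q : ↥R), by rw [hρπ, inv_inv]⟩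
  let D : CfsgLib.ExtNorm.Data p ↥R ↥A :=
    { π := π
      Q := QR
      ρ := ρ
      conj_eq := fun r q => Subtype.ext ((hρ _ q).trans (hπ r _ q.2))
      pi_rho := hρπ
      ker_le := fun r hr => ((hker r).1 hr).1
      hp := Fact.out
      isPGroup := hS.to_le (normalizerIn_le Q)
      index_coprime := by rw [hrange]; exact T.not_dvd_index
      Ψ := Ψ
      psi_mul := fun a r r' hr hr' => Subtype.ext (by
        have hr := (hDa a r).2 hr
        have hr' := (hDa a r').2 hr'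
        rw [hΨ a _ (mul_mem hr hr'), Subgroup.coe_mul, Subgroup.coe_mul, hΨ a r hr, hΨ a r' hr']
        exact (hfA a).map_mul (le_sup_right (a := Q) ⟨r, hr, rfl⟩) (le_sup_right (a := Q) ⟨r', hr', rfl⟩))
      psi_pi := fun a r hr => by
        have hr := (hDa a r).2 hr
        refine Subtype.ext (aut_ext fun x hx => ?_)
        have hy : autFun (a : MulAut Q) x ∈ Q := autFun_mem _ hx
        have hx' : x = fA a (autFun (a : MulAut Q) x) := by
          rw [hfAQ a _ hy, ← autFun_mul _ _ hx, Subgroup.coe_inv, inv_mul_cancel, autFun_one hx]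
        rw [hπ _ x hx, hΨ a r hr]
        conv_lhs => rw [hx']
        rw [← (hfA a).map_conj (x := (r : Ω)) (le_sup_right (a := Q) ⟨r, hr, rfl⟩) (le_sup_left (b := (Da a).map R.subtype) hy),
          ← hπ r _ hy, hfAQ a _ (autFun_mem _ hy), Subgroup.coe_mul, Subgroup.coe_mul, autFun_mul _ _ hx,
          autFun_mul _ _ hy]
      psi_q := fun a q => Subtype.ext (by
        rw [hΨ a _ (hQD a q), hρ]
        exact hfAQ a _ q.2) }
  exact model_of_data hS hF hQn hQc hrec D hπ (fun r => Iff.rfl) hρ fA Da hDa hfA hΨ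

/-- The model theorem. -/
theorem exists_normalizer_model (hS : IsPGroup p S) (hF : F.IsSaturated p) {Q : Subgroup Ω}
    (hQn : F.IsFullyNormalized Q) (hQc : F.IsCentric Q) (N : FusionSystem (normalizerIn S Q))
    (hN : F.IsNormalizerSystem Q N) :
    ∃ (L : Type u) (_ : Group L) (ι : ↥(normalizerIn S Q) →* L), N.IsModel p L ι := by
  obtain ⟨L, hL, -, ι, -, h, -⟩ := exists_model_aut hS hF hQn hQc
  exact ⟨L, hL, ι, h N hN⟩

end CfsgLib.Fus
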