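import Cfsg.Agent.Fus.RealizedNormal
import Cfsg.Agent.Fus.CoreBasic

/-!
A system with a model is constrained.
-/

set_option autoImplicit false
set_option linter.style.haveILetI false

open Cfsg Cfsg.FusionSystem

namespace CfsgLib.Fus

variable {Ω : Type*} [Group Ω] {S : Subgroup Ω} {G : Type*} [Group G]

theorem normal_le_sylow [Finite G] {p : ℕ} [Fact p.Prime] {N : Subgroup G} (hN : N.Normal) (hp : IsPGroup p N)
    (T : Sylow p G) : N ≤ (T : Subgroup G) := by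
  obtain ⟨U, hU⟩ := hp.exists_le_sylow
  obtain ⟨g, hg⟩ := MulAction.exists_smul_eq G U T
  intro x hx
  rw [← hg, Sylow.coe_subgroup_smul, Subgroup.mem_pointwise_smul_iff_inv_smul_mem]
  refine hU ?_
  rw [← map_inv]
  show g⁻¹ * x * g⁻¹⁻¹ ∈ N
  exact hN.conj_mem x hx g⁻¹

/-- The preimage of `O_p(G)` in `S`. -/
def coreIn (p : ℕ) (ι : ↥S →* G) : Subgroup Ω := ((Cfsg.pCore p G).comap ι).map S.subtype

theorem mem_coreIn {p : ℕ} {ι : ↥S →* G} {x : Ω} :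
    x ∈ coreIn p ι ↔ ∃ h : x ∈ S, ι ⟨x, h⟩ ∈ Cfsg.pCore p G :=
  ⟨by rintro ⟨s, hs, rfl⟩; exact ⟨s.2, hs⟩, fun ⟨h, hx⟩ => ⟨⟨x, h⟩, hx, rfl⟩⟩

theorem coreIn_le {p : ℕ} {ι : ↥S →* G} : coreIn p ι ≤ S := Subgroup.map_subtype_le _

theorem coreIn_normal [Finite G] {p : ℕ} [Fact p.Prime] {F : FusionSystem S} {ι : ↥S →* G}
    (hr : F.IsRealizedBy ι) (T : Sylow p G) (hT : (T : Subgroup G) = ι.range) : F.IsNormal (coreIn p ι) := by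
  haveI := normal_pCore (G := G) p
  have hcr : Cfsg.pCore p G ≤ ι.range := hT ▸ normal_le_sylow inferInstance isPGroup_pCore T
  refine ⟨coreIn_le, fun P φ hφm => ?_⟩
  obtain ⟨hP, hφ⟩ := F.le_of_mem hφm
  obtain ⟨g, hg⟩ := (hr.2 P hP φ hφ).1 hφm
  set R := P ⊔ coreIn p ι with hR
  have hRS : R ≤ S := sup_le hP coreIn_le
  have hle : R.subgroupOf S ≤ ι.range.comap ((MulAut.conj g).toMonoidHom.comp ι) := by
    rw [hR, Subgroup.subgroupOf_sup hP coreIn_le]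
    refine sup_le (fun s hs => ?_) fun s hs => ?_
    · show g * ι s * g⁻¹ ∈ ι.range
      exact ⟨_, hg ⟨s, hs⟩⟩
    · show g * ι s * g⁻¹ ∈ ι.range
      obtain ⟨_h0, hs'⟩ := mem_coreIn.1 hs
      exact hcr (‹(Cfsg.pCore p G).Normal›.conj_mem _ hs' g)
  obtain ⟨ψ, hψ, hψv⟩ := exists_realized_map hr.1 hRS (g := g) (fun x => hle (x := ⟨x, hRS x.2⟩) x.2)
  rw [← eq_realized hr] at hψ
  refine ⟨ψ, hψ, fun x => ?_, le_antisymm ?_ ?_⟩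
  · obtain ⟨h, he⟩ := hψv (Subgroup.inclusion le_sup_left x)
    exact congrArg (fun s : ↥S => (s : Ω)) (hr.1 (a₁ := ⟨_, h⟩) (a₂ := ⟨_, hφ x⟩) (he.trans (hg x).symm))
  · rintro _ ⟨x, hx, rfl⟩
    obtain ⟨h, he⟩ := hψv x
    obtain ⟨_h0, hx'⟩ := mem_coreIn.1 hx
    exact mem_coreIn.2 ⟨h, he ▸ ‹(Cfsg.pCore p G).Normal›.conj_mem _ hx' g⟩
  · intro y hy
    obtain ⟨hyS, hy'⟩ := mem_coreIn.1 hy
    have h1 := ‹(Cfsg.pCore p G).Normal›.conj_mem _ hy' g⁻¹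
    obtain ⟨s, hs⟩ := hcr h1
    have hsQ : (s : Ω) ∈ coreIn p ι := mem_coreIn.2 ⟨s.2, hs ▸ h1⟩
    obtain ⟨h, he⟩ := hψv ⟨s, Subgroup.mem_sup_right hsQ⟩
    refine ⟨⟨s, Subgroup.mem_sup_right hsQ⟩, hsQ, congrArg (fun s : ↥S => (s : Ω))
      (hr.1 (a₁ := ⟨_, h⟩) (a₂ := ⟨y, hyS⟩) ?_)⟩
    rw [he, hs]
    group

theorem coreIn_centric {p : ℕ} [Fact p.Prime] {F : FusionSystem S} {ι : ↥S →* G}
    (hm : F.IsModel p G ι) : F.IsCentric (coreIn p ι) := by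
  obtain ⟨hfin, hr, ⟨T, hT⟩, hc⟩ := hm
  haveI := hfin
  haveI := normal_pCore (G := G) p
  have hcr : Cfsg.pCore p G ≤ ι.range := hT ▸ normal_le_sylow inferInstance isPGroup_pCore T
  refine ⟨coreIn_le, fun R hR => ?_⟩
  obtain ⟨φ, hφm, hφR⟩ := hR
  obtain ⟨hP, hφ⟩ := F.le_of_mem hφm
  obtain ⟨g, hg⟩ := (hr.2 _ hP φ hφ).1 hφm
  have hRQ : ∀ y, y ∈ R ↔ y ∈ coreIn p ι := by
    intro y
    rw [← hφR]
    constructor
    · rintro ⟨x, rfl⟩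
      obtain ⟨_h0, hx'⟩ := mem_coreIn.1 x.2
      exact mem_coreIn.2 ⟨hφ x, hg x ▸ ‹(Cfsg.pCore p G).Normal›.conj_mem _ hx' g⟩
    · intro hy
      obtain ⟨hyS, hy'⟩ := mem_coreIn.1 hy
      have h1 := ‹(Cfsg.pCore p G).Normal›.conj_mem _ hy' g⁻¹
      obtain ⟨s, hs⟩ := hcr h1
      have hsQ : (s : Ω) ∈ coreIn p ι := mem_coreIn.2 ⟨s.2, hs ▸ h1⟩
      refine ⟨⟨s, hsQ⟩, congrArg (fun s : ↥S => (s : Ω)) (hr.1 (a₁ := ⟨_, hφ ⟨s, hsQ⟩⟩) (a₂ := ⟨y, hyS⟩) ?_)⟩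
      rw [hg, hs]
      group
  intro c hcc
  rw [hRQ]
  refine mem_coreIn.2 ⟨hcc.1, hc (Subgroup.mem_centralizer_iff.2 fun y hy => ?_)⟩
  obtain ⟨s, rfl⟩ := MonoidHom.mem_range.1 (hcr hy)
  rw [← map_mul, ← map_mul]
  exact congrArg ι (Subtype.ext (Subgroup.mem_centralizer_iff.1 (Subgroup.mem_inf.1 hcc).2 _
    ((hRQ _).2 (mem_coreIn.2 ⟨s.2, hy⟩))))

theorem constrained_of_model [Finite S] {p : ℕ} [Fact p.Prime] {F : FusionSystem S} {ι : ↥S →* G}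
    (hm : F.IsModel p G ι) : F.IsConstrained p := by
  obtain ⟨hfin, hr, ⟨T, hT⟩, hc⟩ := id hm
  haveI := hfin
  refine ⟨?_, coreIn p ι, coreIn_normal hr T hT, coreIn_centric hm⟩
  rw [eq_realized hr]
  exact realized_saturated ι hr.1 T hT

end CfsgLib.Fus
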