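import Cfsg.Agent.Fus.ModelConstrained

/-!
Automorphisms of a model fixing the Sylow subgroup.
-/

set_option autoImplicit false
set_option linter.style.haveILetI false

open Cfsg Cfsg.FusionSystem
open scoped IsMulCommutative

namespace CfsgLib.Fus

theorem automorphism_fixing_sylow {G : Type*} [Group G] [Finite G] {p : ℕ} [hp : Fact p.Prime] (T : Sylow p G)
    (hc : Subgroup.centralizer ((Cfsg.pCore p G : Subgroup G) : Set G) ≤ Cfsg.pCore p G) (ψ : G ≃* G)
    (hψ : ∀ x ∈ (T : Subgroup G), ψ x = x) :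
    ∃ e ∈ (T : Subgroup G), (∀ x ∈ (T : Subgroup G), e * x = x * e) ∧ ∀ g, ψ g = e * g * e⁻¹ := by
  classical
  haveI := normal_pCore (G := G) p
  set O := Cfsg.pCore p G with hO
  have hOT : O ≤ (T : Subgroup G) := normal_le_sylow inferInstance isPGroup_pCore T
  set Z := Subgroup.centralizer (O : Set G) with hZ
  haveI hZn : Z.Normal := ⟨fun z hz g => Subgroup.mem_centralizer_iff.2 fun y hy => by
    have h := Subgroup.mem_centralizer_iff.1 hz _ (‹O.Normal›.conj_mem y hy g⁻¹)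
    calc y * (g * z * g⁻¹) = g * ((g⁻¹ * y * g⁻¹⁻¹) * z) * g⁻¹ := by group
      _ = g * (z * (g⁻¹ * y * g⁻¹⁻¹)) * g⁻¹ := by rw [h]
      _ = g * z * g⁻¹ * y := by group⟩
  haveI : IsMulCommutative ↥Z := ⟨⟨fun a b => Subtype.ext (Subgroup.mem_centralizer_iff.1 b.2 _ (hc a.2))⟩⟩
  -- the cocycle
  have hfmem : ∀ g, ψ g * g⁻¹ ∈ Z := fun g => Subgroup.mem_centralizer_iff.2 fun y hy => by
    have hy' := ‹O.Normal›.conj_mem y hy g⁻¹
    have h1 : ψ (g * (g⁻¹ * y * g⁻¹⁻¹) * g⁻¹) = ψ g * (g⁻¹ * y * g⁻¹⁻¹) * (ψ g)⁻¹ := by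
      rw [map_mul, map_mul, map_inv, hψ _ (hOT hy')]
    rw [show g * (g⁻¹ * y * g⁻¹⁻¹) * g⁻¹ = y by group, hψ _ (hOT hy)] at h1
    conv_lhs => rw [h1]
    group
  let f : G → Z := fun g => ⟨ψ g * g⁻¹, hfmem g⟩
  let act : G → Z →* Z := fun g => ((MulAut.conj g).toMonoidHom.comp Z.subtype).codRestrict Z
    fun z => hZn.conj_mem z z.2 g
  have hmul : ∀ g h, f (g * h) = f g * act g (f h) := fun g h => Subtype.ext (by
    show ψ (g * h) * (g * h)⁻¹ = ψ g * g⁻¹ * (g * (ψ h * h⁻¹) * g⁻¹)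
    rw [map_mul]; group)
  have hfs : ∀ g, ∀ s ∈ (T : Subgroup G), f (g * s) = f g := fun g s hs => Subtype.ext (by
    show ψ (g * s) * (g * s)⁻¹ = ψ g * g⁻¹
    rw [map_mul, hψ s hs]; group)
  haveI : Fintype (G ⧸ (T : Subgroup G)) := Fintype.ofFinite _
  set D : Z := ∏ q : G ⧸ (T : Subgroup G), f q.out with hD
  set m := Fintype.card (G ⧸ (T : Subgroup G)) with hm
  have hkey : ∀ g, D = f g ^ m * act g D := by
    intro g
    rw [hD, map_prod, hm, ← Finset.card_univ, ← Finset.prod_const, ← Finset.prod_mul_distrib]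
    refine (Fintype.prod_equiv (MulAction.toPerm g) _ _ fun q => ?_).symm
    show f g * act g (f q.out) = f (g • q).out
    obtain ⟨t, ht⟩ := QuotientGroup.mk_out_eq_mul (T : Subgroup G) (g * q.out)
    have hq : g • q = ((g * q.out : G) : G ⧸ (T : Subgroup G)) := by
      conv_lhs => rw [← QuotientGroup.out_eq' q]
      rfl
    rw [hq, ht, hfs _ _ t.2, hmul]
  have hZp : IsPGroup p Z := (isPGroup_pCore (p := p)).to_le hc
  have hcop : ∀ y : Z, m.Coprime (orderOf y) := fun y => by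
    obtain ⟨k, hk⟩ := hZp y
    obtain ⟨j, -, hj⟩ := (Nat.dvd_prime_pow hp.out).1 (orderOf_dvd_of_pow_eq_one hk)
    rw [hj]
    refine (Nat.coprime_comm.1 (hp.out.coprime_iff_not_dvd.2 ?_)).pow_right j
    rw [hm, ← Nat.card_eq_fintype_card, ← Subgroup.index_eq_card]
    exact T.not_dvd_index
  have hroot : ∀ y : Z, y ^ m = 1 → y = 1 := fun y hy => by
    obtain ⟨j, hj⟩ := exists_pow_eq_self_of_coprime (hcop y)
    rw [← hj, hy, one_pow]
  obtain ⟨j, hj⟩ := exists_pow_eq_self_of_coprime (hcop D)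
  set E : Z := D ^ j with hE
  have hEm : E ^ m = D := by rw [hE, ← pow_mul, mul_comm, pow_mul, hj]
  have hfE : ∀ g, f g = E * (act g E)⁻¹ := fun g => by
    refine eq_of_mul_inv_eq_one (hroot _ ?_)
    rw [mul_inv_rev, inv_inv, mul_pow, mul_pow, inv_pow, ← map_pow, hEm]
    conv_lhs => rw [← mul_assoc, hkey g]
    rw [← hkey g]
    conv_lhs => arg 2; rw [hkey g]
    group
  have hψE : ∀ g, ψ g = (E : G) * g * (E : G)⁻¹ := fun g => by
    have h := congrArg Subtype.val (hfE g)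
    change ψ g * g⁻¹ = (E : G) * (g * (E : G) * g⁻¹)⁻¹ at h
    rw [mul_inv_eq_iff_eq_mul] at h
    rw [h]; group
  refine ⟨E, hOT (hc E.2), fun x hx => ?_, hψE⟩
  have h := hψE x
  rw [hψ x hx] at h
  conv_rhs => rw [h]
  group

end CfsgLib.Fus
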