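import Mathlib.GroupTheory.GroupAction.Quotient
import Mathlib.GroupTheory.Index
import Mathlib.GroupTheory.OrderOfElement
import Mathlib.Tactic.Group

/-!
An abelian normal subgroup has a complement containing a stable complement over a subgroup of coprime index.
-/

set_option autoImplicit false
set_option linter.style.haveILetI false

open scoped IsMulCommutative

namespace CfsgLib.Fus

theorem exists_complement_ge {E : Type*} [Group E] [Finite E] (Z T : Subgroup E) [hZ : Z.Normal]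
    (hab : ∀ a ∈ Z, ∀ b ∈ Z, a * b = b * a) (hTZ : T ⊓ Z = ⊥) (hco : (Nat.card Z).Coprime (T ⊔ Z).index)
    (hstab : ∀ e : E, ∃ w ∈ Z, ∀ s ∈ T, (e * w)⁻¹ * s * (e * w) ∈ T ⊔ Z → (e * w)⁻¹ * s * (e * w) ∈ T) :
    ∃ H : Subgroup E, T ≤ H ∧ H ⊓ Z = ⊥ ∧ H ⊔ Z = ⊤ := by
  classical
  haveI : IsMulCommutative ↥Z := ⟨⟨fun a b => Subtype.ext (hab a a.2 b b.2)⟩⟩
  set U := T ⊔ Z with hU
  have hdec : ∀ x ∈ U, ∃ z ∈ Z, z⁻¹ * x ∈ T := by
    intro x hx
    rw [hU, sup_comm, ← SetLike.mem_coe, Subgroup.normal_mul] at hx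
    obtain ⟨z, hz, t, ht, rfl⟩ := hx
    exact ⟨z, hz, by simpa using ht⟩
  have huniq : ∀ (x z z' : E), z ∈ Z → z' ∈ Z → z⁻¹ * x ∈ T → z'⁻¹ * x ∈ T → z = z' := by
    intro x z z' hz hz' h h'
    have h1 : z'⁻¹ * z ∈ T ⊓ Z := by
      refine Subgroup.mem_inf.2 ⟨?_, Z.mul_mem (Z.inv_mem hz') hz⟩
      have := T.mul_mem h' (T.inv_mem h)
      simpa [mul_assoc] using this
    rw [hTZ, Subgroup.mem_bot, inv_mul_eq_one] at h1
    exact h1.symm
  choose! ζ hζZ hζT using hdec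
  -- representatives of the cosets
  let orb : Setoid (E ⧸ U) :=
    { r := fun c d => ∃ t ∈ T, t • c = d
      iseqv := ⟨fun c => ⟨1, T.one_mem, one_smul _ _⟩,
        fun {c d} ⟨t, ht, h⟩ => ⟨t⁻¹, T.inv_mem ht, by rw [← h, inv_smul_smul]⟩,
        fun {c d e} ⟨t, ht, h⟩ ⟨t', ht', h'⟩ => ⟨t' * t, T.mul_mem ht' ht, by rw [mul_smul, h, h']⟩⟩ }
  let rep : E ⧸ U → E ⧸ U := fun c => (Quotient.mk orb c).out
  have hu : ∀ c, ∃ t ∈ T, t • rep c = c := fun c => Quotient.mk_out (s := orb) c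
  choose u huT hu using hu
  choose w hwZ hw using fun c : E ⧸ U => hstab c.out
  let r : E ⧸ U → E := fun c => u c * ((rep c).out * w (rep c))
  have hmk0 : ∀ d : E ⧸ U, (QuotientGroup.mk (d.out * w d) : E ⧸ U) = d := fun d => by
    rw [QuotientGroup.mk_mul_of_mem d.out (Subgroup.mem_sup_right (hwZ d)), QuotientGroup.out_eq']
  have hr : ∀ c, (QuotientGroup.mk (r c) : E ⧸ U) = c := fun c => by
    show u c • (QuotientGroup.mk ((rep c).out * w (rep c)) : E ⧸ U) = c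
    rw [hmk0, hu]
  have hrU : ∀ (e : E) (c : E ⧸ U), (r (e • c))⁻¹ * (e * r c) ∈ U := fun e c => by
    refine QuotientGroup.eq.1 ((hr _).trans ?_)
    show e • c = e • (QuotientGroup.mk (r c) : E ⧸ U)
    rw [hr]
  have hrep : ∀ t ∈ T, ∀ c, rep (t • c) = rep c := fun t ht c => by
    show (Quotient.mk orb (t • c)).out = (Quotient.mk orb c).out
    rw [Quotient.sound (show orb.r c (t • c) from ⟨t, ht, rfl⟩)]
  have hrT : ∀ t ∈ T, ∀ c, (r (t • c))⁻¹ * (t * r c) ∈ T := fun t ht c => by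
    have h1 := hrU t c
    have e1 : (r (t • c))⁻¹ * (t * r c) =
        ((rep c).out * w (rep c))⁻¹ * ((u (t • c))⁻¹ * t * u c) * ((rep c).out * w (rep c)) := by
      show (u (t • c) * ((rep (t • c)).out * w (rep (t • c))))⁻¹ * (t * (u c * ((rep c).out * w (rep c)))) = _
      rw [hrep t ht c]
      group
    rw [e1] at h1 ⊢
    exact hw _ _ (T.mul_mem (T.mul_mem (T.inv_mem (huT _)) ht) (huT c)) h1
  let Φ : E → E ⧸ U → Z := fun e c =>
    ⟨r (e • c) * ζ ((r (e • c))⁻¹ * (e * r c)) * (r (e • c))⁻¹, hZ.conj_mem _ (hζZ _ (hrU e c)) _⟩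
  haveI : Fintype (E ⧸ U) := Fintype.ofFinite _
  let act : E → Z →* Z := fun e => ((MulAut.conj e).toMonoidHom.comp Z.subtype).codRestrict Z
    fun z => hZ.conj_mem z z.2 e
  have hΦmul : ∀ a b c, Φ (a * b) c = Φ a (b • c) * act a (Φ b c) := by
    intro a b c
    apply Subtype.ext
    set x := (r (a • b • c))⁻¹ * (a * r (b • c)) with hx
    set y := (r (b • c))⁻¹ * (b * r c) with hy
    have hxy : (r ((a * b) • c))⁻¹ * (a * b * r c) = x * y := by rw [mul_smul, hx, hy]; group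
    have hζ : ζ (x * y) = ζ x * (x * ζ y * x⁻¹) := by
      have hxU := hrU a (b • c)
      have hyU := hrU b c
      refine huniq (x * y) _ _ (hζZ _ (U.mul_mem hxU hyU)) (Z.mul_mem (hζZ _ hxU) (hZ.conj_mem _ (hζZ _ hyU) x))
        (hζT _ (U.mul_mem hxU hyU)) ?_
      have h1 := T.mul_mem (hζT _ hxU) (hζT _ hyU)
      have h2 : (ζ x * (x * ζ y * x⁻¹))⁻¹ * (x * y) = (ζ x)⁻¹ * x * ((ζ y)⁻¹ * y) := by
        have alg : ∀ i j k l : E, (k * j * k⁻¹ * i)⁻¹ * (k * l) = i⁻¹ * k * (j⁻¹ * l) := fun i j k l => by group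
        rw [hab (ζ x) (hζZ _ hxU) _ (hZ.conj_mem _ (hζZ _ hyU) x)]
        exact alg _ _ _ _
      rw [h2]; exact h1
    show r ((a * b) • c) * ζ ((r ((a * b) • c))⁻¹ * (a * b * r c)) * (r ((a * b) • c))⁻¹ =
      r (a • b • c) * ζ x * (r (a • b • c))⁻¹ * (a * (r (b • c) * ζ y * (r (b • c))⁻¹) * a⁻¹)
    rw [hxy, hζ, mul_smul, hx]
    group
  let f : E → Z := fun e => ∏ c, Φ e c
  have hfmul : ∀ a b, f (a * b) = f a * act a (f b) := by
    intro a b
    show ∏ c, Φ (a * b) c = (∏ c, Φ a c) * act a (∏ c, Φ b c)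
    rw [map_prod, Finset.prod_congr rfl fun c _ => hΦmul a b c, Finset.prod_mul_distrib]
    congr 1
    exact Fintype.prod_equiv (MulAction.toPerm b) _ _ fun _ => rfl
  set m := Fintype.card (E ⧸ U) with hm
  have hfZ : ∀ z : Z, f (z : E) = z ^ m := by
    intro z
    show ∏ c, Φ (z : E) c = _
    rw [hm, ← Finset.card_univ, ← Finset.prod_const]
    refine Finset.prod_congr rfl fun c _ => Subtype.ext ?_
    have hzc : (z : E) • c = c := by
      conv_lhs => rw [← hr c]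
      show (QuotientGroup.mk ((z : E) * r c) : E ⧸ U) = c
      rw [show (z : E) * r c = r c * ((r c)⁻¹ * (z : E) * (r c)⁻¹⁻¹) by group,
        QuotientGroup.mk_mul_of_mem (r c) (Subgroup.mem_sup_right (hZ.conj_mem _ z.2 _)), hr]
    show r ((z : E) • c) * ζ ((r ((z : E) • c))⁻¹ * ((z : E) * r c)) * (r ((z : E) • c))⁻¹ = z
    rw [hzc]
    have hmem : (r c)⁻¹ * ((z : E) * r c) ∈ Z := by
      have := hZ.conj_mem _ z.2 (r c)⁻¹
      simpa [mul_assoc] using this
    rw [huniq _ _ _ (hζZ _ (Subgroup.mem_sup_right hmem)) hmem (hζT _ (Subgroup.mem_sup_right hmem))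
      (by rw [inv_mul_cancel]; exact T.one_mem)]
    group
  have hfT : ∀ t ∈ T, f t = 1 := fun t ht => Finset.prod_eq_one fun c _ => Subtype.ext (by
    show r (t • c) * ζ ((r (t • c))⁻¹ * (t * r c)) * (r (t • c))⁻¹ = 1
    have hmem := hrT t ht c
    rw [huniq _ _ 1 (hζZ _ (Subgroup.mem_sup_left hmem)) Z.one_mem (hζT _ (Subgroup.mem_sup_left hmem))
      (by rw [inv_one, one_mul]; exact hmem)]
    group)
  have hone : f 1 = 1 := hfT 1 T.one_mem
  let H : Subgroup E :=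
    { carrier := {e | f e = 1}
      one_mem' := hone
      mul_mem' := fun {a b} (ha : f a = 1) (hb : f b = 1) => by
        show f (a * b) = 1
        rw [hfmul, ha, hb, map_one, one_mul]
      inv_mem' := fun {a} (ha : f a = 1) => by
        show f a⁻¹ = 1
        have h := hfmul a⁻¹ a
        rw [inv_mul_cancel, hone, ha, map_one, mul_one] at h
        exact h.symm }
  have hcop : ∀ y : Z, m.Coprime (orderOf y) := fun y => by
    rw [hm, ← Nat.card_eq_fintype_card, ← Subgroup.index_eq_card]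
    exact hco.symm.coprime_dvd_right (orderOf_dvd_natCard y)
  refine ⟨H, fun t ht => hfT t ht, (Subgroup.eq_bot_iff_forall _).2 fun z hz => ?_, top_unique fun e _ => ?_⟩
  · obtain ⟨hzH, hzZ⟩ := Subgroup.mem_inf.1 hz
    have h1 : (⟨z, hzZ⟩ : Z) ^ m = 1 := (hfZ _).symm.trans hzH
    obtain ⟨j, hj⟩ := exists_pow_eq_self_of_coprime (hcop ⟨z, hzZ⟩)
    rw [h1, one_pow] at hj
    exact congrArg Subtype.val hj.symm
  · obtain ⟨j, hj⟩ := exists_pow_eq_self_of_coprime (hcop (f e))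
    set z : Z := f e ^ j with hz
    have hzm : z ^ m = f e := by rw [hz, ← pow_mul, mul_comm, pow_mul, hj]
    have hact : act ((z⁻¹ : Z) : E) (f e) = f e := Subtype.ext (by
      show ((z⁻¹ : Z) : E) * (f e : E) * ((z⁻¹ : Z) : E)⁻¹ = f e
      rw [hab _ (z⁻¹).2 _ (f e).2, mul_inv_cancel_right])
    have h1 : ((z⁻¹ : Z) : E) * e ∈ H := by
      show f _ = 1
      rw [hfmul, hfZ, hact, inv_pow, hzm, inv_mul_cancel]
    have h2 := Subgroup.mul_mem_sup (SetLike.coe_mem z) h1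
    rw [sup_comm]
    simpa using h2

end CfsgLib.Fus
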