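import Cfsg.Agent.Fus.ModelConstrained
import Cfsg.Agent.Fus.StableComplement
import Cfsg.Agent.Fus.Centric

/-!
Two models of a constrained system are isomorphic over `S`.
-/

set_option autoImplicit false
set_option linter.style.haveILetI false

open Cfsg Cfsg.FusionSystem

namespace CfsgLib.Fus

section one

variable {Ω : Type*} [Group Ω] {S : Subgroup Ω} {F : FusionSystem S} {p : ℕ} {G : Type*} [Group G] {ι : ↥S →* G}

/-- A normal subgroup of the system is invariant in a model. -/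
theorem normal_invariant_model [hp : Fact p.Prime] (hm : F.IsModel p G ι) {Q : Subgroup Ω} (hQ : F.IsNormal Q)
    (g : G) (q : ↥S) (hq : (q : Ω) ∈ Q) : ∃ q' : ↥S, (q' : Ω) ∈ Q ∧ g * ι q * g⁻¹ = ι q' := by
  obtain ⟨hfin, hr, ⟨T, hT⟩, hc⟩ := id hm
  haveI := hfin
  haveI := normal_pCore (G := G) p
  have hcr : Cfsg.pCore p G ≤ ι.range := hT ▸ normal_le_sylow inferInstance isPGroup_pCore T
  obtain ⟨φ, hφ, hφv⟩ := exists_realized_map hr.1 (coreIn_le (p := p) (ι := ι)) (g := g) (fun x => by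
    obtain ⟨_h0, hx⟩ := mem_coreIn.1 x.2
    exact hcr (‹(Cfsg.pCore p G).Normal›.conj_mem _ hx g))
  rw [← eq_realized hr] at hφ
  obtain ⟨ψ, hψ, hψe, hψQ⟩ := hQ.2 _ φ hφ
  obtain ⟨hPS, hψS⟩ := F.le_of_mem hψ
  obtain ⟨h, hh⟩ := (hr.2 _ hPS ψ hψS).1 hψ
  have hgh : h⁻¹ * g ∈ Cfsg.pCore p G := hc (Subgroup.mem_centralizer_iff.2 fun y hy => by
    obtain ⟨s, rfl⟩ := MonoidHom.mem_range.1 (hcr hy)
    have hsQ : (s : Ω) ∈ coreIn p ι := mem_coreIn.2 ⟨s.2, hy⟩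
    obtain ⟨hv, hve⟩ := hφv ⟨s, hsQ⟩
    have h1 := hh (Subgroup.inclusion le_sup_left ⟨s, hsQ⟩)
    have e : (⟨ψ (Subgroup.inclusion le_sup_left ⟨s, hsQ⟩), hψS _⟩ : ↥S) = ⟨_, hv⟩ := Subtype.ext (hψe ⟨s, hsQ⟩)
    rw [e, hve] at h1
    calc ι s * (h⁻¹ * g) = h⁻¹ * (h * ι s * h⁻¹) * g := by group
      _ = h⁻¹ * (g * ι s * g⁻¹) * g := by rw [h1]; rfl
      _ = h⁻¹ * g * ι s := by group)
  obtain ⟨n, hn⟩ := MonoidHom.mem_range.1 (hcr hgh)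
  have hnq : ((n * q * n⁻¹ : ↥S) : Ω) ∈ Q := by
    obtain ⟨ψ', hψ', hψe', hψQ'⟩ := hQ.2 Q (conjHom Q (n : Ω)) (F.conj_mem hQ.1 n.2)
    have h1 := hψQ'.le ⟨Subgroup.inclusion le_sup_left ⟨q, hq⟩, hq, rfl⟩
    rw [hψe'] at h1
    exact h1
  refine ⟨⟨ψ ⟨(n * q * n⁻¹ : ↥S), Subgroup.mem_sup_right hnq⟩, hψS _⟩, ?_, ?_⟩
  · exact hψQ.le ⟨⟨_, Subgroup.mem_sup_right hnq⟩, hnq, rfl⟩
  · rw [hh]
    show g * ι q * g⁻¹ = h * ι (n * q * n⁻¹) * h⁻¹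
    rw [map_mul, map_mul, map_inv, hn]
    group

/-- The centralizer in a model of a normal centric subgroup. -/
theorem centralizer_normal_centric_model [hp : Fact p.Prime] (hm : F.IsModel p G ι) {Q : Subgroup Ω} (hQ : F.IsNormal Q)
    (hQc : F.IsCentric Q) (g : G) (hg : ∀ q : ↥S, (q : Ω) ∈ Q → g * ι q = ι q * g) :
    ∃ z : ↥S, (z : Ω) ∈ Q ∧ (∀ q ∈ Q, q * (z : Ω) = z * q) ∧ ι z = g := by
  obtain ⟨hfin, hr, ⟨T, hT⟩, hc⟩ := id hm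
  haveI := hfin
  haveI := normal_pCore (G := G) p
  set O := Cfsg.pCore p G with hO
  have hcr : O ≤ ι.range := hT ▸ normal_le_sylow inferInstance isPGroup_pCore T
  set C := Subgroup.centralizer (((Q.subgroupOf S).map ι : Subgroup G) : Set G) with hC
  have hCmem : ∀ c, c ∈ C ↔ ∀ q : ↥S, (q : Ω) ∈ Q → c * ι q = ι q * c := fun c => by
    rw [Subgroup.mem_centralizer_iff]
    exact ⟨fun h q hq => (h _ ⟨q, hq, rfl⟩).symm, fun h _ ⟨q, hq, he⟩ => he ▸ (h q hq).symm⟩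
  have hCn : C.Normal := ⟨fun c hc' k => (hCmem _).2 fun q hq => by
    obtain ⟨q', hq', he⟩ := normal_invariant_model hm hQ k⁻¹ q hq
    have := (hCmem c).1 hc' q' hq'
    rw [← he] at this
    calc k * c * k⁻¹ * ι q = k * (c * (k⁻¹ * ι q * k⁻¹⁻¹)) * k⁻¹ := by group
      _ = k * ((k⁻¹ * ι q * k⁻¹⁻¹) * c) * k⁻¹ := by rw [this]
      _ = ι q * (k * c * k⁻¹) := by group⟩
  have hCr : ∀ c ∈ C, c ∈ ι.range → ∃ z : ↥S, (z : Ω) ∈ Q ∧ (∀ q ∈ Q, q * (z : Ω) = z * q) ∧ ι z = c := by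
    rintro c hc' ⟨z, rfl⟩
    have hz : ∀ q ∈ Q, q * (z : Ω) = z * q := fun q hq => by
      have h := (hCmem _).1 hc' ⟨q, hQ.1 hq⟩ hq
      rw [← map_mul, ← map_mul] at h
      exact congrArg (fun s : ↥S => (s : Ω)) (hr.1 h).symm
    exact ⟨z, centric_center hQc z.2 hz, hz, rfl⟩
  -- an element of order prime to `p` centralizes the core
  have hp' : ∀ y ∈ C, (orderOf y).Coprime p → y = 1 := by
    intro y hy hco
    have hyO : y ∈ O := hc (Subgroup.mem_centralizer_iff.2 fun x hx => by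
      have hzC : y * x * y⁻¹ * x⁻¹ ∈ C := by
        rw [show y * x * y⁻¹ * x⁻¹ = y * (x * y⁻¹ * x⁻¹) by group]
        exact C.mul_mem hy (hCn.conj_mem _ (C.inv_mem hy) x)
      have hzO : y * x * y⁻¹ * x⁻¹ ∈ O := O.mul_mem (‹O.Normal›.conj_mem x hx y) (O.inv_mem hx)
      set z := y * x * y⁻¹ * x⁻¹ with hz
      obtain ⟨z', hz'Q, -, hz'e⟩ := hCr z hzC (hcr hzO)
      have hyz : Commute y z := by
        rw [← hz'e]
        exact (hCmem y).1 hy z' hz'Q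
      have hit : ∀ n : ℕ, y ^ n * x * (y ^ n)⁻¹ = z ^ n * x := by
        intro n
        induction n with
        | zero => simp
        | succ n ih =>
          calc y ^ (n + 1) * x * (y ^ (n + 1))⁻¹ = y * (y ^ n * x * (y ^ n)⁻¹) * y⁻¹ := by rw [pow_succ']; group
            _ = y * z ^ n * y⁻¹ * (y * x * y⁻¹) := by rw [ih]; group
            _ = z ^ n * (z * x) := by
              rw [(hyz.pow_right n).eq, mul_inv_cancel_right, show z * x = y * x * y⁻¹ from inv_mul_cancel_right _ _]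
            _ = z ^ (n + 1) * x := by rw [pow_succ]; exact (mul_assoc _ _ _).symm
      have h1 := hit (orderOf y)
      rw [pow_orderOf_eq_one, one_mul, inv_one, mul_one, right_eq_mul] at h1
      obtain ⟨k, hk⟩ := isPGroup_pCore (p := p) ⟨z, hzO⟩
      have hz1 : z = 1 := orderOf_eq_one_iff.1 (Nat.eq_one_of_dvd_coprimes (hco.pow_right k)
        (orderOf_dvd_of_pow_eq_one h1) (orderOf_dvd_of_pow_eq_one (congrArg Subtype.val hk)))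
      rw [hz, mul_inv_eq_one, mul_inv_eq_iff_eq_mul] at hz1
      exact hz1.symm)
    obtain ⟨k, hk⟩ := isPGroup_pCore (p := p) ⟨y, hyO⟩
    exact orderOf_eq_one_iff.1 (Nat.eq_one_of_dvd_coprimes (hco.pow_right k) dvd_rfl
      (orderOf_dvd_of_pow_eq_one (congrArg Subtype.val hk)))
  have hCp : IsPGroup p C := by
    intro c
    obtain ⟨k, m, hm', hn⟩ := Nat.exists_eq_pow_mul_and_not_dvd (orderOf_pos (c : G)).ne' p hp.out.ne_one
    refine ⟨k, Subtype.ext ((C.coe_pow c _).trans (hp' _ (C.pow_mem c.2 _) ?_))⟩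
    rw [orderOf_pow' _ (pow_ne_zero _ hp.out.pos.ne'), hn,
      Nat.gcd_eq_right (dvd_mul_right (p ^ k) m), Nat.mul_div_cancel_left _ (pow_pos hp.out.pos k)]
    exact (hp.out.coprime_iff_not_dvd.2 hm').symm
  have hgC : g ∈ C := (hCmem g).2 hg
  exact hCr g hgC (hT ▸ normal_le_sylow hCn hCp T hgC)

/-- Every element of a model induces a map of the system on a normal subgroup. -/
theorem exists_map_on_normal [hp : Fact p.Prime] (hm : F.IsModel p G ι) {Q : Subgroup Ω} (hQ : F.IsNormal Q) (g : G) :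
    ∃ φ ∈ F.Hom Q, ∀ x : Q, φ x ∈ Q ∧ ∃ h : φ x ∈ S, ι ⟨φ x, h⟩ = g * ι ⟨x, hQ.1 x.2⟩ * g⁻¹ := by
  obtain ⟨φ, hφ, hφv⟩ := exists_realized_map hm.2.1.1 hQ.1 (g := g) (fun x => by
    obtain ⟨q', -, he⟩ := normal_invariant_model hm hQ g ⟨x, hQ.1 x.2⟩ x.2
    exact ⟨q', he.symm⟩)
  rw [← eq_realized hm.2.1] at hφ
  refine ⟨φ, hφ, fun x => ⟨?_, hφv x⟩⟩
  obtain ⟨q', hq', he⟩ := normal_invariant_model hm hQ g ⟨x, hQ.1 x.2⟩ x.2
  obtain ⟨h, hve⟩ := hφv x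
  rw [show φ x = (q' : Ω) from congrArg (fun s : ↥S => (s : Ω)) (hm.2.1.1 (a₁ := ⟨_, h⟩) (hve.trans he))]
  exact hq'

end one

theorem model_unique {Ω : Type*} [Group Ω] {S : Subgroup Ω} [Finite S] {F : FusionSystem S} {p : ℕ} [hp : Fact p.Prime]
    {G₁ G₂ : Type*} [Group G₁] [Group G₂] {ι₁ : ↥S →* G₁} {ι₂ : ↥S →* G₂}
    (hF : F.IsConstrained p) (h₁ : F.IsModel p G₁ ι₁) (h₂ : F.IsModel p G₂ ι₂) :
    ∃ φ : G₁ ≃* G₂, ∀ x : ↥S, φ (ι₁ x) = ι₂ x := by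
  classical
  obtain ⟨-, Q, hQn, hQc⟩ := hF
  haveI := h₁.1
  haveI := h₂.1
  -- pairs inducing the same map on `Q`
  let M : Submonoid (G₁ × G₂) :=
    { carrier := {e | ∀ q : ↥S, (q : Ω) ∈ Q → ∃ s : ↥S, (s : Ω) ∈ Q ∧
        e.1 * ι₁ q * e.1⁻¹ = ι₁ s ∧ e.2 * ι₂ q * e.2⁻¹ = ι₂ s}
      one_mem' := fun q hq => ⟨q, hq, by simp, by simp⟩
      mul_mem' := fun {a b} ha hb q hq => by
        obtain ⟨s, hs, h1, h2⟩ := hb q hq
        obtain ⟨t, ht, k1, k2⟩ := ha s hs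
        refine ⟨t, ht, ?_, ?_⟩
        · rw [← k1, ← h1, Prod.fst_mul]; group
        · rw [← k2, ← h2, Prod.snd_mul]; group }
  let P : Subgroup (G₁ × G₂) :=
    { M with
      inv_mem' := fun {a} ha => by
        show a⁻¹ ∈ M
        rw [inv_eq_of_mul_eq_one_right (show a * a ^ (orderOf a - 1) = 1 by
          rw [← pow_succ', Nat.sub_add_cancel (orderOf_pos a), pow_orderOf_eq_one])]
        exact M.pow_mem ha _ }
  have hPmem : ∀ e : G₁ × G₂, e ∈ P ↔ ∀ q : ↥S, (q : Ω) ∈ Q → ∃ s : ↥S, (s : Ω) ∈ Q ∧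
      e.1 * ι₁ q * e.1⁻¹ = ι₁ s ∧ e.2 * ι₂ q * e.2⁻¹ = ι₂ s := fun e => Iff.rfl
  have hΔ : ∀ x : ↥S, (ι₁ x, ι₂ x) ∈ P := fun x => (hPmem _).2 fun q hq => by
    obtain ⟨q', hq', he⟩ := normal_invariant_model h₁ hQn (ι₁ x) q hq
    refine ⟨q', hq', he, ?_⟩
    have h := h₁.2.1.1 (show ι₁ (x * q * x⁻¹) = ι₁ q' by rw [map_mul, map_mul, map_inv]; exact he)
    rw [← h, map_mul, map_mul, map_inv]
  have hlift₁ : ∀ g : G₁, ∃ g' : G₂, (g, g') ∈ P := fun g => by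
    obtain ⟨φ, hφ, hφv⟩ := exists_map_on_normal h₁ hQn g
    obtain ⟨hQS, hφS⟩ := F.le_of_mem hφ
    obtain ⟨g', hg'⟩ := (h₂.2.1.2 Q hQS φ hφS).1 hφ
    refine ⟨g', (hPmem _).2 fun q hq => ?_⟩
    obtain ⟨hφq, h, he⟩ := hφv ⟨q, hq⟩
    exact ⟨⟨_, h⟩, hφq, he.symm, (hg' ⟨q, hq⟩).symm⟩
  have hlift₂ : ∀ g' : G₂, ∃ g : G₁, (g, g') ∈ P := fun g' => by
    obtain ⟨φ, hφ, hφv⟩ := exists_map_on_normal h₂ hQn g'
    obtain ⟨hQS, hφS⟩ := F.le_of_mem hφ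
    obtain ⟨g, hg⟩ := (h₁.2.1.2 Q hQS φ hφS).1 hφ
    refine ⟨g, (hPmem _).2 fun q hq => ?_⟩
    obtain ⟨hφq, h, he⟩ := hφv ⟨q, hq⟩
    exact ⟨⟨_, h⟩, hφq, (hg ⟨q, hq⟩).symm, he.symm⟩
  have hker₂ : ∀ g' : G₂, (1, g') ∈ P →
      ∃ z : ↥S, (z : Ω) ∈ Q ∧ (∀ q ∈ Q, q * (z : Ω) = z * q) ∧ ι₂ z = g' := fun g' hg' => by
    refine centralizer_normal_centric_model h₂ hQn hQc g' fun q hq => ?_
    obtain ⟨s, -, h1, h2⟩ := (hPmem _).1 hg' q hq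
    have hsq : q = s := h₁.2.1.1 (by simpa using h1)
    rw [← hsq] at h2
    exact mul_inv_eq_iff_eq_mul.1 h2
  have hker₁ : ∀ g : G₁, (g, 1) ∈ P →
      ∃ z : ↥S, (z : Ω) ∈ Q ∧ (∀ q ∈ Q, q * (z : Ω) = z * q) ∧ ι₁ z = g := fun g hg => by
    refine centralizer_normal_centric_model h₁ hQn hQc g fun q hq => ?_
    obtain ⟨s, -, h1, h2⟩ := (hPmem _).1 hg q hq
    have hsq : q = s := h₂.2.1.1 (by simpa using h2)
    rw [← hsq] at h1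
    exact mul_inv_eq_iff_eq_mul.1 h1
  let π : ↥P →* G₁ := (MonoidHom.fst G₁ G₂).comp P.subtype
  have hπ : Function.Surjective π := fun g => by
    obtain ⟨g', hg'⟩ := hlift₁ g
    exact ⟨⟨_, hg'⟩, rfl⟩
  let δ : ↥S →* ↥P := (ι₁.prod ι₂).codRestrict P hΔ
  set K := π.ker with hK
  have hKv : ∀ e ∈ K, ∃ z : ↥S, (z : Ω) ∈ Q ∧ (∀ q ∈ Q, q * (z : Ω) = z * q) ∧
      (e : G₁ × G₂) = (1, ι₂ z) := by
    intro e he
    have he1 : (e : G₁ × G₂).1 = 1 := he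
    obtain ⟨z, hz, hzc, hze⟩ := hker₂ (e : G₁ × G₂).2 (by rw [← he1]; exact e.2)
    exact ⟨z, hz, hzc, Prod.ext he1 hze.symm⟩
  have hab : ∀ a ∈ K, ∀ b ∈ K, a * b = b * a := fun a ha b hb => by
    obtain ⟨z, hz, -, hze⟩ := hKv a ha
    obtain ⟨w, -, hwc, hwe⟩ := hKv b hb
    refine Subtype.ext ?_
    rw [Subgroup.coe_mul, Subgroup.coe_mul, hze, hwe, Prod.mk_mul_mk, Prod.mk_mul_mk, ← map_mul, ← map_mul,
      show z * w = w * z from Subtype.ext (hwc z hz)]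
  have hTK : δ.range ⊓ K = ⊥ := (Subgroup.eq_bot_iff_forall _).2 fun e he => by
    obtain ⟨⟨x, rfl⟩, hx⟩ := Subgroup.mem_inf.1 he
    have h1 : ι₁ x = 1 := hx
    rw [show x = 1 from h₁.2.1.1 (h1.trans ι₁.map_one.symm), map_one]
  have hco : (Nat.card K).Coprime (δ.range ⊔ K).index := by
    obtain ⟨T, hT⟩ := h₁.2.2.1
    have hidx : (δ.range ⊔ K).index = ι₁.range.index := by
      rw [hK, ← Subgroup.comap_map_eq, Subgroup.index_comap_of_surjective _ hπ, MonoidHom.map_range]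
      rfl
    have hKp : IsPGroup p K := by
      intro e
      obtain ⟨z, -, -, hze⟩ := hKv e e.2
      obtain ⟨T2, hT2⟩ := h₂.2.2.1
      obtain ⟨k, hk⟩ := T2.2 ⟨ι₂ z, hT2 ▸ ⟨z, rfl⟩⟩
      refine ⟨k, Subtype.ext (Subtype.ext ?_)⟩
      have hk' : ι₂ z ^ p ^ k = 1 := congrArg Subtype.val hk
      simp only [Subgroup.coe_pow, Subgroup.coe_one, hze, Prod.pow_mk, one_pow, hk', Prod.mk_one_one]
    obtain ⟨k, hk⟩ := IsPGroup.iff_card.1 hKp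
    rw [hidx, hk, ← hT]
    exact (hp.out.coprime_iff_not_dvd.2 T.not_dvd_index).pow_left k
  have hKn : K.Normal := inferInstance
  obtain ⟨H, hTH, hHK, hHK'⟩ := exists_complement_ge K δ.range hab hTK hco (by
    intro e
    set a := (e : G₁ × G₂).1 with ha
    let D : Subgroup Ω := (ι₁.range.comap ((MulAut.conj a⁻¹).toMonoidHom.comp ι₁)).map S.subtype
    have hDS : D ≤ S := Subgroup.map_subtype_le _
    obtain ⟨φ, hφ, hφv⟩ := exists_realized_map h₁.2.1.1 hDS (g := a⁻¹) (by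
      rintro ⟨_, s, hs, rfl⟩
      exact hs)
    rw [← eq_realized h₁.2.1] at hφ
    obtain ⟨_, hφS⟩ := F.le_of_mem hφ
    obtain ⟨b, hb⟩ := (h₂.2.1.2 D hDS φ hφS).1 hφ
    have hinv := (hPmem _).1 (P.inv_mem e.2)
    have hQD : ∀ q : ↥S, (q : Ω) ∈ Q → (q : Ω) ∈ D := fun q hq => by
      obtain ⟨s, -, h1, -⟩ := hinv q hq
      exact ⟨q, ⟨s, h1.symm⟩, rfl⟩
    have hab' : ((a⁻¹ : G₁), b) ∈ P := (hPmem _).2 fun q hq => by
      obtain ⟨s, hs, h1, -⟩ := hinv q hq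
      refine ⟨s, hs, h1, ?_⟩
      have h := hb ⟨q, hQD q hq⟩
      obtain ⟨hv, hve⟩ := hφv ⟨q, hQD q hq⟩
      rw [show (⟨φ ⟨q, hQD q hq⟩, hφS _⟩ : ↥S) = s from h₁.2.1.1 (hve.trans h1)] at h
      exact h.symm
    let e' : ↥P := (⟨_, hab'⟩ : ↥P)⁻¹
    have he'1 : π e' = a := by
      show (a⁻¹)⁻¹ = a
      rw [inv_inv]
    refine ⟨e⁻¹ * e', ?_, ?_⟩
    · show π (e⁻¹ * e') = 1
      rw [map_mul, he'1, map_inv]
      exact inv_mul_cancel a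
    rintro _ ⟨x, rfl⟩ hx
    rw [mul_inv_cancel_left] at hx ⊢
    have hx1 : a⁻¹ * ι₁ x * a⁻¹⁻¹ ∈ ι₁.range := by
      have h1 := Subgroup.mem_map_of_mem π hx
      rw [Subgroup.map_sup, hK, (Subgroup.map_eq_bot_iff _).2 le_rfl, sup_bot_eq, MonoidHom.map_range] at h1
      obtain ⟨y, hy⟩ := MonoidHom.mem_range.1 h1
      rw [map_mul, map_mul, map_inv, he'1] at hy
      rw [inv_inv]
      exact ⟨y, hy⟩
    have hxD : (x : Ω) ∈ D := ⟨x, hx1, rfl⟩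
    obtain ⟨hv, hve⟩ := hφv ⟨x, hxD⟩
    refine ⟨⟨_, hv⟩, Subtype.ext ?_⟩
    show (ι₁ ⟨_, hv⟩, ι₂ ⟨_, hv⟩) = ((a⁻¹, b)⁻¹)⁻¹ * (ι₁ x, ι₂ x) * (a⁻¹, b)⁻¹
    rw [inv_inv, Prod.inv_mk, Prod.mk_mul_mk, Prod.mk_mul_mk, hve, hb ⟨x, hxD⟩])
  let π₁ : ↥H →* G₁ := π.comp H.subtype
  let π₂ : ↥H →* G₂ := ((MonoidHom.snd G₁ G₂).comp P.subtype).comp H.subtype
  have hb₁ : Function.Bijective π₁ := by
    refine ⟨(injective_iff_map_eq_one _).2 fun h hh => Subtype.ext ?_, fun g => ?_⟩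
    · have : (h : ↥P) ∈ H ⊓ K := Subgroup.mem_inf.2 ⟨h.2, hh⟩
      rwa [hHK, Subgroup.mem_bot] at this
    · obtain ⟨e, rfl⟩ := hπ g
      have he : e ∈ H ⊔ K := hHK'.symm ▸ Subgroup.mem_top e
      rw [← SetLike.mem_coe, Subgroup.mul_normal] at he
      obtain ⟨h, hh, k, hk, rfl⟩ := he
      refine ⟨⟨h, hh⟩, ?_⟩
      show π h = π (h * k)
      rw [map_mul, show π k = 1 from hk, mul_one]
  have hb₂ : Function.Bijective π₂ := by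
    refine ⟨(injective_iff_map_eq_one _).2 fun h hh => Subtype.ext ?_, fun g' => ?_⟩
    · have h2 : ((h : ↥P) : G₁ × G₂).2 = 1 := hh
      obtain ⟨z, -, -, hze⟩ := hker₁ ((h : ↥P) : G₁ × G₂).1 (by rw [← h2]; exact (h : ↥P).2)
      have hm : (δ z)⁻¹ * (h : ↥P) ∈ H ⊓ K := Subgroup.mem_inf.2 ⟨H.mul_mem (H.inv_mem (hTH ⟨z, rfl⟩)) h.2, by
        show π ((δ z)⁻¹ * (h : ↥P)) = 1
        rw [map_mul, map_inv, inv_mul_eq_one]
        exact hze⟩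
      rw [hHK, Subgroup.mem_bot, inv_mul_eq_one] at hm
      have hz2 : ι₂ z = 1 := by rw [← h2, ← hm]; rfl
      rw [← hm, show z = 1 from h₂.2.1.1 (hz2.trans ι₂.map_one.symm), map_one]
      rfl
    · obtain ⟨g, hg⟩ := hlift₂ g'
      have he : (⟨_, hg⟩ : ↥P) ∈ H ⊔ K := hHK'.symm ▸ Subgroup.mem_top _
      rw [← SetLike.mem_coe, Subgroup.mul_normal] at he
      obtain ⟨h, hh, k, hk, hhk⟩ := he
      obtain ⟨z, -, -, hze⟩ := hKv k hk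
      refine ⟨⟨h * δ z, H.mul_mem hh (hTH ⟨z, rfl⟩)⟩, ?_⟩
      have h3 := congrArg (fun e : ↥P => (e : G₁ × G₂).2) hhk
      simp only [Subgroup.coe_mul, Prod.snd_mul, hze] at h3
      exact h3
  refine ⟨(MulEquiv.ofBijective π₁ hb₁).symm.trans (MulEquiv.ofBijective π₂ hb₂), fun x => ?_⟩
  have h1 : (MulEquiv.ofBijective π₁ hb₁).symm (ι₁ x) = ⟨δ x, hTH ⟨x, rfl⟩⟩ :=
    (MulEquiv.symm_apply_eq _).2 rfl
  rw [MulEquiv.trans_apply, h1]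
  rfl

end CfsgLib.Fus
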