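import Cfsg.Agent.Fus.NormProduct

/-!
Norm products along subgroups all of whose large subgroups fix no more than they do: a fixed point criterion that also works
for the prime two.
-/

set_option autoImplicit false
set_option linter.style.haveILetI false

open scoped commutatorElement

namespace CfsgLib.Norm

variable {Γ X A : Type*} [Group Γ] [Finite Γ] [MulAction Γ X] [CommGroup A] {p : ℕ} [hp : Fact p.Prime]

/-- An equivariant product over a set stable under a `p`-group vanishes if every point is trivial or is moved by a subgroup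
`B` in which norms vanish on what is fixed by its subgroups of index at most `p` containing the pointwise stabilizer. -/
theorem prod_eq_one_of_moved (ρ : Γ →* MulAut A) (φ : X → A) :
    ∀ (n : ℕ) (K : Subgroup Γ) (s : Finset X), Nat.card K + s.card = n → IsPGroup p K →
      (∀ k ∈ K, ∀ y ∈ s, k • y ∈ s) → (∀ k ∈ K, ∀ y ∈ s, φ (k • y) = ρ k (φ y)) →
      (∀ y ∈ s, φ y = 1 ∨ ∃ B : Subgroup Γ, B ≤ K ∧ (∃ t ∈ B, t • y ≠ y) ∧
        ∀ B₀ : Subgroup Γ, B₀ ≤ B → (∀ b ∈ B, (∀ z : X, b • z = z) → b ∈ B₀) → Nat.card B ≤ p * Nat.card B₀ →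
          ∀ t ∈ B, t ∉ B₀ → ∀ a : A, (∀ b ∈ B₀, ρ b a = a) → ∏ j ∈ Finset.range p, ρ (t ^ j) a = 1) →
      ∏ y ∈ s, φ y = 1 := by
  classical
  intro n
  induction n using Nat.strong_induction_on with
  | _ n ih =>
  intro K s hn hK hst heq hc
  by_cases hs : s = ∅
  · simp [hs]
  obtain ⟨x, hx⟩ := Finset.nonempty_of_ne_empty hs
  let O := s.filter fun y => ∃ k ∈ K, k • x = y
  by_cases hO : O = s
  swap
  · have hsub : O ⊆ s := Finset.filter_subset _ _
    have hxO : x ∈ O := Finset.mem_filter.2 ⟨hx, 1, K.one_mem, one_smul Γ x⟩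
    have main : ∀ v ⊆ s, v.card < s.card → (∀ k ∈ K, ∀ y ∈ v, k • y ∈ v) → ∏ y ∈ v, φ y = 1 :=
      fun v hv hlt hv' => ih _ (by omega) K v rfl hK hv' (fun k hk y hy => heq k hk y (hv hy))
        fun y hy => hc y (hv hy)
    rw [← Finset.prod_sdiff hsub, main O hsub ?_ ?_, main (s \ O) Finset.sdiff_subset ?_ ?_, mul_one]
    · exact Finset.card_lt_card (Finset.sdiff_ssubset hsub ⟨x, hxO⟩)
    · intro k hk y hy
      rw [Finset.mem_sdiff] at hy ⊢
      refine ⟨hst k hk y hy.1, fun hky => hy.2 ?_⟩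
      obtain ⟨-, k', hk', e⟩ := Finset.mem_filter.1 hky
      exact Finset.mem_filter.2 ⟨hy.1, k⁻¹ * k', K.mul_mem (K.inv_mem hk) hk', by rw [mul_smul, e, inv_smul_smul]⟩
    · exact Finset.card_lt_card (lt_of_le_of_ne hsub hO)
    · intro k hk y hy
      obtain ⟨hys, k', hk', e⟩ := Finset.mem_filter.1 hy
      exact Finset.mem_filter.2 ⟨hst k hk y hys, k * k', K.mul_mem hk hk', by rw [mul_smul, e]⟩
  have htr : ∀ y ∈ s, ∃ k ∈ K, k • x = y := fun y hy => (Finset.mem_filter.1 (hO.symm ▸ hy : y ∈ O)).2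
  by_cases hR : ∀ k ∈ K, k • x = x
  · have hs1 : s = {x} := Finset.eq_singleton_iff_unique_mem.2
      ⟨hx, fun y hy => by obtain ⟨k, hk, rfl⟩ := htr y hy; exact hR k hk⟩
    rw [hs1, Finset.prod_singleton]
    exact (hc x hx).resolve_right fun ⟨B, hB, ⟨t, ht, htx⟩, _⟩ => htx (hR t (hB ht))
  -- a maximal subgroup of `K` containing the stabilizer
  let R : Subgroup ↥K := (MulAction.stabilizer Γ x).comap K.subtype
  obtain ⟨M, hM, hRM⟩ := (eq_top_or_exists_le_coatom R).resolve_left fun he => hR fun k hk =>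
    (he ▸ Subgroup.mem_top (⟨k, hk⟩ : ↥K) : (⟨k, hk⟩ : ↥K) ∈ R)
  obtain ⟨hMn, hMc⟩ := coatom_zpowers hK hM
  have hkey : ∀ k k' : ↥K, (k : Γ) • x = (k' : Γ) • x → (QuotientGroup.mk k : ↥K ⧸ M) = QuotientGroup.mk k' := by
    intro k k' he
    refine QuotientGroup.eq.2 (hRM ?_)
    show ((k : Γ)⁻¹ * (k' : Γ)) • x = x
    rw [mul_smul, ← he, inv_smul_smul]
  -- the fibres
  let π : X → ↥K ⧸ M := fun y =>
    if h : ∃ k : ↥K, (k : Γ) • x = y then QuotientGroup.mk h.choose else QuotientGroup.mk 1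
  have hπ : ∀ k : ↥K, π ((k : Γ) • x) = QuotientGroup.mk k := fun k => by
    have h : ∃ k' : ↥K, (k' : Γ) • x = (k : Γ) • x := ⟨k, rfl⟩
    simp only [π, dif_pos h]
    exact hkey _ _ h.choose_spec
  let fib : ↥K ⧸ M → Finset X := fun c => s.filter fun y => π y = c
  have hF : ∀ (k : ↥K) (c : ↥K ⧸ M), ∏ y ∈ fib (QuotientGroup.mk k * c), φ y = ρ k (∏ y ∈ fib c, φ y) := by
    intro k c
    rw [map_prod]
    symm
    refine Finset.prod_bij' (fun y _ => (k : Γ) • y) (fun y _ => (k : Γ)⁻¹ • y) ?_ ?_ ?_ ?_ ?_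
    · intro y hy
      obtain ⟨hys, hyc⟩ := Finset.mem_filter.1 hy
      obtain ⟨k', hk', rfl⟩ := htr y hys
      refine Finset.mem_filter.2 ⟨hst _ k.2 _ hys, ?_⟩
      have e : π (k' • x) = QuotientGroup.mk (⟨k', hk'⟩ : ↥K) := hπ ⟨k', hk'⟩
      rw [← mul_smul, show (k : Γ) * k' = ((k * ⟨k', hk'⟩ : ↥K) : Γ) from rfl, hπ, QuotientGroup.mk_mul, ← hyc, e]
    · intro y hy
      obtain ⟨hys, hyc⟩ := Finset.mem_filter.1 hy
      obtain ⟨k', hk', rfl⟩ := htr y hys
      refine Finset.mem_filter.2 ⟨hst _ (K.inv_mem k.2) _ hys, ?_⟩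
      rw [show k' = ((⟨k', hk'⟩ : ↥K) : Γ) from rfl, hπ] at hyc
      rw [← mul_smul, show (k : Γ)⁻¹ * k' = ((k⁻¹ * ⟨k', hk'⟩ : ↥K) : Γ) from rfl, hπ, QuotientGroup.mk_mul, hyc,
        QuotientGroup.mk_inv, inv_mul_cancel_left]
    · intro y _; exact inv_smul_smul _ _
    · intro y _; exact smul_inv_smul _ _
    · intro y hy
      exact (heq _ k.2 y (Finset.mem_filter.1 hy).1).symm
  haveI : Fintype (↥K ⧸ M) := Fintype.ofFinite _
  rw [← Finset.prod_fiberwise s π φ]
  rcases hc x hx with hx1 | ⟨B, hBK, ⟨t₀, ht₀, htx⟩, hBa⟩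
  · refine Finset.prod_eq_one fun c _ => Finset.prod_eq_one fun y hy => ?_
    obtain ⟨k, hk, rfl⟩ := htr y (Finset.mem_filter.1 hy).1
    rw [heq k hk x hx, hx1, map_one]
  by_cases hBM : B.subgroupOf K ≤ M
  · have h1 : ∏ y ∈ fib 1, φ y = 1 := by
      refine ih _ ?_ (M.map K.subtype) (fib 1) rfl ((hK.to_subgroup M).map _) ?_
        (fun k hk y hy => heq k (Subgroup.map_subtype_le M hk) y (Finset.mem_filter.1 hy).1) ?_
      · have a1 : Nat.card ↥(M.map K.subtype) < Nat.card ↥K := by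
          rw [Subgroup.card_map_of_injective K.subtype_injective]
          refine lt_of_le_of_ne (Nat.card_le_card_of_injective _ M.subtype_injective) fun he => hM.1 ?_
          exact Subgroup.eq_top_of_card_eq _ he
        have a2 : (fib 1).card ≤ s.card := Finset.card_filter_le _ _
        omega
      · rintro _ ⟨k, hk, rfl⟩ y hy
        obtain ⟨hys, hyc⟩ := Finset.mem_filter.1 hy
        obtain ⟨k', hk', rfl⟩ := htr y hys
        refine Finset.mem_filter.2 ⟨hst _ k.2 _ hys, ?_⟩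
        rw [show k' = ((⟨k', hk'⟩ : ↥K) : Γ) from rfl, hπ] at hyc
        rw [← mul_smul, show K.subtype k * k' = ((k * ⟨k', hk'⟩ : ↥K) : Γ) from rfl, hπ, QuotientGroup.mk_mul, hyc,
          mul_one, (QuotientGroup.eq_one_iff k).2 hk]
      · intro y hy
        obtain ⟨hys, hyc⟩ := Finset.mem_filter.1 hy
        obtain ⟨k', hk', rfl⟩ := htr y hys
        rw [show k' = ((⟨k', hk'⟩ : ↥K) : Γ) from rfl, hπ] at hyc
        have hk'M : (⟨k', hk'⟩ : ↥K) ∈ M := (QuotientGroup.eq_one_iff _).1 hyc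
        let c := (MulAut.conj k').toMonoidHom
        refine Or.inr ⟨B.map c, ?_, ⟨k' * t₀ * k'⁻¹, ⟨t₀, ht₀, rfl⟩, ?_⟩, ?_⟩
        · rintro _ ⟨b, hb, rfl⟩
          exact ⟨⟨k', hk'⟩ * ⟨b, hBK hb⟩ * ⟨k', hk'⟩⁻¹,
            mul_mem (mul_mem hk'M (hBM (show (⟨b, hBK hb⟩ : ↥K) ∈ B.subgroupOf K from hb))) (inv_mem hk'M), rfl⟩
        · rw [mul_smul, mul_smul, inv_smul_smul]
          exact fun he => htx (smul_left_cancel k' he)
        intro B₀ hB₀ hker hcard t ht htB₀ a ha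
        obtain ⟨t', ht', rfl⟩ := ht
        have hB₀' : B₀.comap c ≤ B := fun b hb => by
          obtain ⟨b', hb', he⟩ := hB₀ hb
          exact (MulAut.conj k').injective he ▸ hb'
        have h2 := hBa (B₀.comap c) hB₀' (fun b hb hfix => hker _ ⟨b, hb, rfl⟩ fun z => by
          show (k' * b * k'⁻¹) • z = z
          rw [mul_smul, mul_smul, hfix, smul_inv_smul]) ?_ t' ht' htB₀ ((ρ k').symm a) fun b hb => ?_
        · have h3 := congrArg (ρ k') h2
          rw [map_prod, map_one] at h3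
          refine Eq.trans (Finset.prod_congr rfl fun j _ => ?_) h3
          show ρ ((k' * t' * k'⁻¹) ^ j) a = _
          rw [conj_pow, map_mul, map_mul, map_inv]
          rfl
        · have h3 : Nat.card ↥(B₀.comap c) = Nat.card ↥B₀ := by
            rw [← Subgroup.card_map_of_injective (f := c) (MulAut.conj k').injective,
              Subgroup.map_comap_eq_self_of_surjective (MulAut.conj k').surjective]
          rw [h3, ← Subgroup.card_map_of_injective (f := c) (MulAut.conj k').injective (K := B)]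
          exact hcard
        · have h3 := ha _ hb
          change ρ (k' * b * k'⁻¹) a = a at h3
          rw [map_mul, map_mul, map_inv] at h3
          refine (ρ k').injective ?_
          rw [MulEquiv.apply_symm_apply]
          exact h3
    refine Finset.prod_eq_one fun c _ => ?_
    obtain ⟨k, rfl⟩ := QuotientGroup.mk_surjective c
    show ∏ y ∈ fib (QuotientGroup.mk k), φ y = 1
    rw [show (QuotientGroup.mk k : ↥K ⧸ M) = QuotientGroup.mk k * 1 from (mul_one _).symm, hF, h1, map_one]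
  -- the subgroup covers the cyclic quotient
  obtain ⟨⟨t, htK⟩, ht, htM⟩ := SetLike.not_le_iff_exists.1 hBM
  set T : ↥K ⧸ M := QuotientGroup.mk (⟨t, htK⟩ : ↥K)
  have hTo : orderOf T = p := orderOf_eq_prime (by rw [← hMc]; exact pow_card_eq_one') fun h =>
    htM ((QuotientGroup.eq_one_iff _).1 h)
  show ∏ c, ∏ y ∈ fib c, φ y = 1
  have hbij : ∏ j ∈ Finset.range p, ∏ y ∈ fib (T ^ j), φ y = ∏ c, ∏ y ∈ fib c, φ y := by
    refine Finset.prod_bij (fun j _ => T ^ j) (fun j _ => Finset.mem_univ _) ?_ ?_ fun _ _ => rfl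
    · intro i hi j hj hij
      exact pow_injOn_Iio_orderOf (by simpa [hTo] using Finset.mem_range.1 hi)
        (by simpa [hTo] using Finset.mem_range.1 hj) hij
    · intro c _
      have : c ∈ Subgroup.zpowers T := by
        rw [Subgroup.eq_top_of_card_eq (Subgroup.zpowers T) (by rw [Nat.card_zpowers, hTo, hMc])]; trivial
      obtain ⟨j, hj, rfl⟩ := (mem_zpowers_iff_mem_range_orderOf).1 this |> Finset.mem_image.1
      exact ⟨j, by rwa [hTo] at hj, rfl⟩
  rw [← hbij]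
  -- the part of `B` in `M`
  let B₀ : Subgroup Γ := B ⊓ M.map K.subtype
  let q : ↥B →* ↥K ⧸ M := (QuotientGroup.mk' M).comp (Subgroup.inclusion hBK)
  have hqker : q.ker.map B.subtype ≤ B₀ := by
    rintro _ ⟨b, hb, rfl⟩
    exact ⟨b.2, _, (QuotientGroup.eq_one_iff _).1 hb, rfl⟩
  have hcard : Nat.card B ≤ p * Nat.card B₀ := by
    rw [← q.ker.card_mul_index, Subgroup.index_ker, mul_comm]
    refine Nat.mul_le_mul ?_ ?_
    · rw [← hMc]; exact Subgroup.card_le_card_group _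
    · rw [← Subgroup.card_map_of_injective B.subtype_injective (K := q.ker)]
      exact Subgroup.card_le_of_le hqker
  have hfixed : ∀ b ∈ B₀, ρ b (∏ y ∈ fib 1, φ y) = ∏ y ∈ fib 1, φ y := by
    rintro _ ⟨-, m, hm, rfl⟩
    show ρ (m : Γ) _ = _
    rw [← hF, mul_one, (QuotientGroup.eq_one_iff m).2 hm]
  refine Eq.trans (Finset.prod_congr rfl fun j _ => ?_)
    (hBa B₀ inf_le_left (fun b hb hfix => ⟨hb, ⟨b, hBK hb⟩, hRM (hfix x), rfl⟩) hcard t ht
      (fun h => htM (by obtain ⟨-, m, hm, he⟩ := h; exact (Subtype.ext he : m = ⟨t, htK⟩) ▸ hm)) _ hfixed)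
  rw [show T ^ j = QuotientGroup.mk ((⟨t, htK⟩ : ↥K) ^ j) * 1 by rw [mul_one]; rfl, hF]
  rfl

/-- The fixed point criterion along moving subgroups. -/
theorem fixed_of_moved {Q : Type*} [Group Q] [Finite Q] {U M S : Subgroup Q} [U.Normal]
    (hUc : ∀ a ∈ U, ∀ b ∈ U, a * b = b * a) (hexp : ∀ a ∈ U, a ^ p = 1) (hS : IsPGroup p S) (hSM : S ≤ M)
    (hidx : ¬ p ∣ M.index) {x : Q} (hxU : ∀ h : Q, ⁅h, x⁆ ∈ U) (hMx : ∀ m ∈ M, m * x = x * m)
    (hmove : ∀ h, h ∉ M → ∃ B : Subgroup Q, B ≤ S ∧ (∃ t ∈ B, h⁻¹ * t * h ∉ M) ∧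
      ∀ B₀ : Subgroup Q, B₀ ≤ B → (∀ b ∈ B, (∀ g : Q, g⁻¹ * b * g ∈ M) → b ∈ B₀) → Nat.card B ≤ p * Nat.card B₀ →
        ∀ t ∈ B, t ∉ B₀ → ∀ u ∈ U, (∀ b ∈ B₀, b * u = u * b) → (fun a => ⁅t, a⁆)^[p - 1] u = 1) :
    x ∈ Subgroup.center Q := by
  classical
  letI : CommGroup ↥U :=
    { (inferInstance : Group ↥U) with mul_comm := fun a b => Subtype.ext (hUc a a.2 b b.2) }
  let ρ : Q →* MulAut ↥U := MulAut.conjNormal
  let δ : Q → ↥U := fun h => ⟨⁅h, x⁆, hxU h⟩
  have hmul : ∀ a b : Q, δ (a * b) = ρ a (δ b) * δ a := fun a b =>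
    Subtype.ext (by
      show ⁅a * b, x⁆ = ((ρ a (δ b) : ↥U) : Q) * ⁅a, x⁆
      rw [commutatorElement_mul_left_eq_conj_mul, MulAut.conjNormal_apply])
  have hM1 : ∀ m ∈ M, δ m = 1 := fun m hm => Subtype.ext (commutatorElement_eq_one_iff_commute.2 (hMx m hm))
  let φ : Q ⧸ M → ↥U := fun c => Quotient.liftOn' c δ fun a b h => by
    have h' : a⁻¹ * b ∈ M := (QuotientGroup.leftRel_apply).1 h
    conv_rhs => rw [show b = a * (a⁻¹ * b) by group, hmul, hM1 _ h', map_one, one_mul]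
  have hsmul : ∀ g a : Q, g • (QuotientGroup.mk a : Q ⧸ M) = QuotientGroup.mk a ↔ a⁻¹ * g * a ∈ M := fun g a => by
    rw [MulAction.Quotient.smul_mk, eq_comm, QuotientGroup.eq, mul_assoc]
    rfl
  haveI : Fintype (Q ⧸ M) := Fintype.ofFinite _
  have h0 : ∏ c : Q ⧸ M, φ c = 1 := by
    refine prod_eq_one_of_moved ρ φ _ S Finset.univ rfl hS (fun _ _ _ _ => Finset.mem_univ _) ?_ ?_
    · intro s hs y _
      obtain ⟨a, rfl⟩ := QuotientGroup.mk_surjective y
      show δ (s * a) = ρ s (δ a)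
      rw [hmul, hM1 s (hSM hs), mul_one]
    · intro y _
      obtain ⟨a, rfl⟩ := QuotientGroup.mk_surjective y
      by_cases ha : a ∈ M
      · exact Or.inl (hM1 a ha)
      obtain ⟨B, hB, ⟨t₀, ht₀, htM⟩, hBU⟩ := hmove a ha
      refine Or.inr ⟨B, hB, ⟨t₀, ht₀, fun he => htM ((hsmul _ _).1 he)⟩, fun B₀ hB₀ hker hcard t ht htB₀ b hb => ?_⟩
      have hit : ∀ j : ℕ, ρ (t ^ j) b = (⇑(ρ t).toMonoidHom)^[j] b := by
        intro j
        induction j with
        | zero => simp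
        | succ j ih => rw [Function.iterate_succ_apply', ← ih, pow_succ', map_mul]; rfl
      rw [Finset.prod_congr rfl fun j _ => hit j]
      refine prod_iterate (fun c => Subtype.ext (by simpa using hexp c c.2)) _
        (fun c => ρ t c / c) (fun _ => rfl) b (Subtype.ext ?_)
      have hD : ∀ (j : ℕ) (c : ↥U), (((fun c => ρ t c / c)^[j] c : ↥U) : Q) = (fun a => ⁅t, a⁆)^[j] (c : Q) := by
        intro j
        induction j with
        | zero => intro c; rfl
        | succ j ih =>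
          intro c
          rw [Function.iterate_succ_apply', Function.iterate_succ_apply', ← ih]
          simp [div_eq_mul_inv, commutatorElement_def, ρ]
      rw [hD, hBU B₀ hB₀ (fun g hg hgM => hker g hg fun z => by
          obtain ⟨w, rfl⟩ := QuotientGroup.mk_surjective z
          exact (hsmul _ _).2 (hgM w)) hcard t ht htB₀ _ b.2 fun g hg => ?_]
      · rfl
      · have h := congrArg Subtype.val (hb g hg)
        rw [MulAut.conjNormal_apply] at h
        exact mul_inv_eq_iff_eq_mul.1 h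
  refine Subgroup.mem_center_iff.2 fun q => ?_
  have h1 : ∏ c : Q ⧸ M, φ (q • c) = 1 :=
    (Fintype.prod_equiv (MulAction.toPerm q) _ φ fun _ => rfl).trans h0
  have h2 : ∀ c : Q ⧸ M, φ (q • c) = ρ q (φ c) * δ q := fun c => by
    obtain ⟨a, rfl⟩ := QuotientGroup.mk_surjective c
    exact hmul q a
  simp only [h2] at h1
  rw [Finset.prod_mul_distrib, ← map_prod, h0, map_one, one_mul, Finset.prod_const, Finset.card_univ,
    ← Nat.card_eq_fintype_card, ← Subgroup.index_eq_card] at h1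
  have h3 : δ q ^ p = 1 := Subtype.ext (by simpa using hexp _ (δ q).2)
  have h4 : δ q ^ Nat.gcd p M.index = 1 := pow_gcd_eq_one.2 ⟨h3, h1⟩
  rw [(hp.out.coprime_iff_not_dvd.2 hidx).gcd_eq_one, pow_one] at h4
  exact commutatorElement_eq_one_iff_commute.1 (congrArg Subtype.val h4 : ⁅q, x⁆ = 1)

end CfsgLib.Norm
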