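import Cfsg.Agent.Solv.MaximalClass
import Cfsg.Agent.Solv.RankTwoNormal
import Cfsg.Agent.Inv.Dihedral
import Cfsg.Agent.Perm.MinClass
import Cfsg.Prelude.Def_CaseTheorems
import Mathlib.GroupTheory.SpecificGroups.Dihedral
import Mathlib.GroupTheory.SpecificGroups.Quaternion

/-!
p-groups in which every normal abelian subgroup is cyclic.
-/

set_option autoImplicit false
set_option linter.style.haveILetI false

namespace CfsgLib.Fus.NormalAbelianCyclic

variable {P : Type*} [Group P] [Finite P]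

theorem not_isCyclic_four {V : Subgroup P} {z t : P} (hzV : z ∈ V) (htV : t ∈ V) (hz : orderOf z = 2)
    (ht : orderOf t = 2) (hne : t ≠ z) : ¬ IsCyclic V := by
  intro hc
  classical
  haveI := Fintype.ofFinite ↥V
  have hz' : orderOf (⟨z, hzV⟩ : V) = 2 := by rw [Subgroup.orderOf_mk, hz]
  have ht' : orderOf (⟨t, htV⟩ : V) = 2 := by rw [Subgroup.orderOf_mk, ht]
  obtain ⟨w, hw⟩ := Finset.card_eq_one.1 ((IsCyclic.card_orderOf_eq_totient (α := ↥V) (hz' ▸ orderOf_dvd_card)).trans (by decide : Nat.totient 2 = 1))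
  have h1 : (⟨z, hzV⟩ : V) = w := Finset.mem_singleton.1 (hw ▸ Finset.mem_filter.2 ⟨Finset.mem_univ _, hz'⟩)
  have h2 : (⟨t, htV⟩ : V) = w := Finset.mem_singleton.1 (hw ▸ Finset.mem_filter.2 ⟨Finset.mem_univ _, ht'⟩)
  exact hne (congrArg Subtype.val (h2.trans h1.symm))

/-- A four-group `{1, z, t, tz}` that is normal contradicts the hypothesis. -/
theorem no_four (hn : ∀ A : Subgroup P, A.Normal → IsMulCommutative A → IsCyclic A) {z t : P}
    (hz : orderOf z = 2) (ht : orderOf t = 2) (hne : t ≠ z) (hc : Commute z t)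
    (hzn : ∀ u, u * z * u⁻¹ = z) (htn : ∀ u, u * t * u⁻¹ ∈ Subgroup.closure ({z, t} : Set P)) : False := by
  refine not_isCyclic_four (Subgroup.subset_closure (by simp)) (Subgroup.subset_closure (by simp)) hz ht hne
    (hn (Subgroup.closure ({z, t} : Set P)) ⟨fun v hv u => ?_⟩ (Subgroup.isMulCommutative_closure (by
      rintro a (rfl | rfl) b (rfl | rfl)
      exacts [rfl, hc, hc.symm, rfl])))
  induction hv using Subgroup.closure_induction with
  | mem s hs =>
    rcases hs with rfl | rfl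
    · rw [hzn]; exact Subgroup.subset_closure (by simp)
    · exact htn u
  | one => simp
  | mul a b _ _ ha hb =>
    rw [show u * (a * b) * u⁻¹ = (u * a * u⁻¹) * (u * b * u⁻¹) by group]
    exact mul_mem ha hb
  | inv a _ ha =>
    rw [show u * a⁻¹ * u⁻¹ = (u * a * u⁻¹)⁻¹ by group]
    exact inv_mem ha

theorem zpow_conj {u a : P} {s : ℤ} (h : u * a * u⁻¹ = a ^ s) (i : ℤ) : u * a ^ i * u⁻¹ = a ^ (s * i) := by
  rw [← conj_zpow, h, zpow_mul]

/-- No element acts on a normal cyclic subgroup as `a ↦ a ^ (1 + 2 ^ (k - 1))`. -/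
theorem no_modular (hn : ∀ A : Subgroup P, A.Normal → IsMulCommutative A → IsCyclic A) {a g : P} {k : ℕ}
    (ha : orderOf a = 2 ^ (k + 3)) (hg : g ∉ Subgroup.zpowers a)
    (hs : g * a * g⁻¹ = a ^ (1 + (2 : ℤ) ^ (k + 2))) (hg2 : g * g ∈ Subgroup.zpowers a)
    (hA : ∀ u : P, ∃ s : ℤ, u * a * u⁻¹ = a ^ s) (hq : ∀ u : P, u * g * u⁻¹ * g⁻¹ ∈ Subgroup.zpowers a) : False := by
  have heq : ∀ i j : ℤ, a ^ i = a ^ j ↔ (2 : ℤ) ^ (k + 3) ∣ i - j := fun i j => by
    rw [← mul_inv_eq_one, ← zpow_sub, ← orderOf_dvd_iff_zpow_eq_one, ha]; push_cast; rfl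
  set h : ℤ := (2 : ℤ) ^ (k + 2) with hh
  have hN : (2 : ℤ) ^ (k + 3) = 2 * h := by rw [hh]; ring
  set e : ℤ := (2 : ℤ) ^ (k + 1) with he
  have hhe : h = 2 * e := by rw [hh, he]; ring
  have he2 : e = 2 * (2 : ℤ) ^ k := by rw [he]; ring
  obtain ⟨i, hi⟩ := Subgroup.mem_zpowers_iff.1 hg2
  -- `i` is even
  obtain ⟨i', rfl⟩ : Even i := by
    have h1 : a ^ ((1 + h) * i) = a ^ i := by rw [← zpow_conj hs, hi]; group
    rw [heq, hN, show (1 + h) * i - i = h * i by ring, mul_comm 2 h, mul_dvd_mul_iff_left (by positivity)] at h1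
    exact even_iff_two_dvd.2 h1
  have hsq : ∀ j : ℤ, (a ^ j * g) * (a ^ j * g) = a ^ (j + (1 + h) * j + (i' + i')) := fun j => by
    rw [zpow_add, zpow_add, ← zpow_conj hs, hi]; group
  have hcop : IsCoprime (1 + e) h := by
    rw [hh]
    exact IsCoprime.pow_right ⟨1, -(2 : ℤ) ^ k, by rw [he2]; ring⟩
  -- choose an involution in the coset
  obtain ⟨c, hc⟩ : ∃ c : ℤ, 2 * h ∣ c + (1 + h) * c + (i' + i') := by
    obtain ⟨u, v, huv⟩ := hcop
    refine ⟨-i' * u, i' * v, ?_⟩
    linear_combination (-2 * i') * huv + (-i' * u) * hhe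
  set t := a ^ c * g with ht
  have htt : t * t = 1 := by rw [ht, hsq, ← zpow_zero a, heq, sub_zero, hN]; exact hc
  have ht1 : t ∉ Subgroup.zpowers a := fun hm => hg (by
    have := mul_mem (inv_mem (zpow_mem (Subgroup.mem_zpowers a) c)) hm
    rwa [ht, inv_mul_cancel_left] at this)
  set z := a ^ h with hz
  have hzz : z * z = 1 := by rw [hz, ← zpow_add, ← zpow_zero a, heq, sub_zero, hN]; exact ⟨1, by ring⟩
  have hz1 : z ≠ 1 := fun e' => by
    rw [hz, ← zpow_zero a, heq, sub_zero, hN] at e'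
    have h1 := Int.le_of_dvd (by positivity) e'
    have h2 : (0 : ℤ) < h := by positivity
    omega
  have hzn : ∀ u : P, u * z * u⁻¹ = z := fun u => by
    obtain ⟨r, hr⟩ := hA u
    rcases Int.even_or_odd r with ⟨m, rfl⟩ | ⟨m, rfl⟩
    · refine absurd (conj_eq_one_iff.1 (?_ : u * z * u⁻¹ = 1)) hz1
      rw [hz, zpow_conj hr, ← zpow_zero a, heq, hN]; exact ⟨m, by ring⟩
    · rw [hz, zpow_conj hr, heq, hN]; exact ⟨m, by ring⟩
  have hzt : Commute z t := (mul_inv_eq_iff_eq_mul.1 (hzn t)).symm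
  have ho : ∀ x : P, x * x = 1 → x ≠ 1 → orderOf x = 2 := fun x hx hx1 => by
    refine orderOf_eq_prime ?_ hx1
    rw [pow_two]; exact hx
  refine no_four hn (ho z hzz hz1) (ho t htt fun e' => ht1 (e' ▸ one_mem _))
    (fun e' => ht1 (e' ▸ zpow_mem (Subgroup.mem_zpowers a) h)) hzt hzn fun u => ?_
  obtain ⟨r, hr⟩ := hA u
  obtain ⟨m', hm'⟩ := Subgroup.mem_zpowers_iff.1 (hq u)
  have hut : u * t * u⁻¹ = a ^ (r * c + m') * g := by
    rw [ht, show u * (a ^ c * g) * u⁻¹ = (u * a ^ c * u⁻¹) * (u * g * u⁻¹ * g⁻¹) * g by group, zpow_conj hr, ← hm',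
      ← zpow_add]
  have hu2 : (a ^ (r * c + m') * g) * (a ^ (r * c + m') * g) = 1 := by
    rw [← hut, show u * t * u⁻¹ * (u * t * u⁻¹) = u * (t * t) * u⁻¹ by group, htt]; simp
  rw [hsq, ← zpow_zero a, heq, sub_zero, hN] at hu2
  have hm : h ∣ r * c + m' - c := by
    refine hcop.symm.dvd_of_dvd_mul_left ?_
    obtain ⟨q1, hq1⟩ := hu2
    obtain ⟨q2, hq2⟩ := hc
    refine ⟨q1 - q2, ?_⟩
    have h3 : (2 + h) * (r * c + m' - c) = 2 * (h * (q1 - q2)) := by linear_combination hq1 - hq2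
    have h4 : 2 * ((1 + e) * (r * c + m' - c)) = 2 * (h * (q1 - q2)) := by
      linear_combination h3 - (r * c + m' - c) * hhe
    exact mul_left_cancel₀ two_ne_zero h4
  obtain ⟨w, hw⟩ := hm
  rw [hut, show r * c + m' = w * h + c by linear_combination hw, zpow_add, mul_assoc, ← ht, mul_comm w h, zpow_mul, ← hz]
  exact mul_mem (zpow_mem (Subgroup.subset_closure (by simp)) w) (Subgroup.subset_closure (by simp))

theorem classify_main {p : ℕ} [hp : Fact p.Prime] (hP : IsPGroup p P)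
    (hn : ∀ A : Subgroup P, A.Normal → IsMulCommutative A → IsCyclic A)
    (hm : ∃ B : Subgroup P, IsMulCommutative B ∧ ¬ IsCyclic B) :
    p = 2 ∧ ((∃ n : ℕ, Nonempty (P ≃* QuaternionGroup n)) ∨ (∃ n : ℕ, 8 ≤ n ∧ Nonempty (P ≃* DihedralGroup n)) ∨
      Cfsg.IsQuasiDihedral P) := by
  obtain ⟨B, hBa, hBnc⟩ := hm
  have hnc : ¬ IsCyclic P := fun _ => hBnc inferInstance
  have hp2 : p = 2 := by
    by_contra hp2
    obtain ⟨A, -, hAn, hAe, hAc⟩ := CfsgLib.Solv.exists_normal_rank_two_le hp2 hP (⊤ : Subgroup P)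
      (fun h => hnc (Subgroup.topEquiv.isCyclic.1 h))
    haveI := hn A hAn hAe.1
    obtain ⟨g, hg⟩ := IsCyclic.exists_generator (α := A)
    have h1 : orderOf g ∣ p := orderOf_dvd_of_pow_eq_one (Subtype.ext (hAe.2 g g.2))
    rw [orderOf_eq_card_of_forall_mem_zpowers hg, hAc] at h1
    have := Nat.le_of_dvd hp.out.pos h1
    nlinarith [hp.out.two_le]
  subst hp2
  refine ⟨rfl, ?_⟩
  -- a self-centralizing normal cyclic subgroup
  obtain ⟨A, ⟨hAn, hAc⟩, hAmax⟩ := (Set.toFinite {A : Subgroup P | A.Normal ∧ IsMulCommutative A}).exists_maximal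
    ⟨⊥, inferInstance, inferInstance⟩
  haveI := hn A hAn hAc
  obtain ⟨⟨a, haA⟩, hag⟩ := IsCyclic.exists_generator (α := A)
  have hAz : A = Subgroup.zpowers a := le_antisymm (fun x hx => by
    obtain ⟨i, hi⟩ := Subgroup.mem_zpowers_iff.1 (hag ⟨x, hx⟩)
    exact ⟨i, congrArg Subtype.val hi⟩) (Subgroup.zpowers_le.2 haA)
  have hexp : ∀ u : P, ∃ s : ℤ, u * a * u⁻¹ = a ^ s := fun u => by
    obtain ⟨s, hs⟩ := Subgroup.mem_zpowers_iff.1 (hAz ▸ hAn.conj_mem a haA u)
    exact ⟨s, hs.symm⟩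
  haveI hP' := hP.isNilpotent
  set C := Subgroup.centralizer (A : Set P) with hC
  have hCA : C ≤ A := by
    by_contra hno
    haveI : C.Normal := by rw [hC]; haveI := hAn; infer_instance
    haveI := hAn
    -- a central element of `C / A`
    set π := QuotientGroup.mk' A
    have hne : C.map π ≠ ⊥ := by rw [Ne, Subgroup.map_eq_bot_iff, QuotientGroup.ker_mk']; exact hno
    haveI : (C.map π).Normal := Subgroup.Normal.map inferInstance π (QuotientGroup.mk'_surjective A)
    obtain ⟨w, hw, hw1⟩ := ((C.map π) ⊓ Subgroup.center (P ⧸ A)).bot_or_exists_ne_one.resolve_left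
      (CfsgLib.Perm.inf_center_ne_bot (hP.to_quotient A) _ hne)
    obtain ⟨⟨x, hxC, rfl⟩, hwc⟩ := Subgroup.mem_inf.1 hw
    set A' := A ⊔ Subgroup.zpowers x
    have hA'n : A'.Normal := ⟨fun v hv u => by
      have : A' ≤ A'.comap (MulAut.conj u).toMonoidHom := by
        refine sup_le (fun v hv => Subgroup.mem_sup_left (hAn.conj_mem v hv u)) (Subgroup.zpowers_le.2 ?_)
        show u * x * u⁻¹ ∈ A'
        have h1 : u * x * u⁻¹ * x⁻¹ ∈ A := by
          rw [← QuotientGroup.eq_one_iff]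
          show π (u * x * u⁻¹ * x⁻¹) = 1
          rw [map_mul, map_mul, map_mul, map_inv, map_inv, Subgroup.mem_center_iff.1 hwc (π u)]
          group
        have := mul_mem (Subgroup.mem_sup_left (T := Subgroup.zpowers x) h1) (Subgroup.mem_sup_right (S := A) (Subgroup.mem_zpowers x))
        rwa [inv_mul_cancel_right] at this
      exact this hv⟩
    have hA'c : IsMulCommutative A' := by
      show IsMulCommutative (A ⊔ Subgroup.zpowers x : Subgroup P)
      rw [hAz, Subgroup.zpowers_eq_closure, Subgroup.zpowers_eq_closure, ← Subgroup.closure_union]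
      refine Subgroup.isMulCommutative_closure ?_
      have hax : a * x = x * a := Subgroup.mem_centralizer_iff.1 hxC a haA
      rintro u (rfl | rfl) v (rfl | rfl)
      exacts [rfl, hax, hax.symm, rfl]
    have hle : A' ≤ A := hAmax ⟨hA'n, hA'c⟩ le_sup_left
    exact hw1 ((QuotientGroup.eq_one_iff x).2 (hle (Subgroup.mem_sup_right (Subgroup.mem_zpowers x))))
  have hmemC : ∀ x : P, x * a = a * x → x ∈ A := fun x hx => hCA (by
    rw [hC, hAz, Subgroup.zpowers_eq_closure, Subgroup.centralizer_closure]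
    exact Subgroup.mem_centralizer_singleton_iff.2 hx)
  obtain ⟨N, hN⟩ := (Nat.dvd_prime_pow Nat.prime_two).1 (show orderOf a ∣ 2 ^ (Nat.card P).factorization 2 by
    obtain ⟨n, hn'⟩ := IsPGroup.iff_card.1 hP
    rw [hn', Nat.Prime.factorization_pow Nat.prime_two, Finsupp.single_eq_same, ← hn']; exact orderOf_dvd_natCard a)
  replace hN := hN.2
  -- commutators lie in `A`
  have hder : ∀ u v : P, u * v * u⁻¹ * v⁻¹ ∈ A := fun u v => hmemC _ (by
    obtain ⟨s, hs⟩ := hexp u
    obtain ⟨r, hr⟩ := hexp v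
    have e1 : (u * v) * a * (u * v)⁻¹ = a ^ (s * r) := by
      rw [show (u * v) * a * (u * v)⁻¹ = u * (v * a * v⁻¹) * u⁻¹ by group, hr, zpow_conj hs]
    have e2 : (v * u) * a * (v * u)⁻¹ = a ^ (s * r) := by
      rw [show (v * u) * a * (v * u)⁻¹ = v * (u * a * u⁻¹) * v⁻¹ by group, hs, zpow_conj hr, mul_comm]
    set m := v * u
    have : (u * v) * a * (u * v)⁻¹ = m * a * m⁻¹ := e1.trans e2.symm
    have h2 : (m⁻¹ * (u * v)) * a * (m⁻¹ * (u * v))⁻¹ = a := by
      rw [show (m⁻¹ * (u * v)) * a * (m⁻¹ * (u * v))⁻¹ = m⁻¹ * ((u * v) * a * (u * v)⁻¹) * m by group, this]; group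
    have e3 : u * v * u⁻¹ * v⁻¹ = m * (m⁻¹ * (u * v)) * m⁻¹ := by simp only [m]; group
    have hmem : m⁻¹ * (u * v) ∈ A := hmemC _ (mul_inv_eq_iff_eq_mul.1 h2)
    have hmem' : u * v * u⁻¹ * v⁻¹ ∈ A := e3 ▸ hAn.conj_mem _ hmem m
    obtain ⟨i, hi⟩ := Subgroup.mem_zpowers_iff.1 (hAz ▸ hmem')
    rw [← hi]; exact ((Commute.refl a).zpow_left i).eq)
  have hmod : ∀ {i j : ℤ}, (2 : ℤ) ^ N ∣ i - j → a ^ i = a ^ j := fun {i j} h => by
    refine CfsgLib.Solv.MaxClass.zpow_eq_of_dvd ?_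
    rw [hN]; push_cast; exact h
  -- the index of `A` is two
  have hodd : ∀ (u : P) (s : ℤ), u * a * u⁻¹ = a ^ s → 1 ≤ N → Odd s := by
    intro u s hs h1
    by_contra he
    obtain ⟨m, rfl⟩ := Int.not_odd_iff_even.1 he
    have h2 : u * a ^ ((2 : ℤ) ^ (N - 1)) * u⁻¹ = 1 := by
      rw [zpow_conj hs, ← zpow_zero a]
      exact hmod ⟨m, by rw [sub_zero, show N = N - 1 + 1 by omega, pow_succ]; simp only [Nat.add_sub_cancel]; ring⟩
    rw [conj_eq_one_iff, ← orderOf_dvd_iff_zpow_eq_one, hN] at h2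
    push_cast at h2
    have h4 := Int.le_of_dvd (by positivity) h2
    have h5 : (2 : ℤ) ^ (N - 1) < 2 ^ N := pow_lt_pow_right₀ (by norm_num) (by omega)
    omega
  have hsmall : ∀ (u : P) (s : ℤ), u * a * u⁻¹ = a ^ s → (4 : ℤ) ∣ s - 1 → u ∈ A := by
    intro u s hs h4
    by_contra hu
    by_cases hN3 : N < 3
    · refine hu (hmemC u (mul_inv_eq_iff_eq_mul.1 (hs.trans ?_)))
      conv_rhs => rw [← zpow_one a]
      refine hmod (dvd_trans ?_ h4)
      rw [show (4 : ℤ) = 2 ^ 2 by norm_num]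
      exact pow_dvd_pow 2 (by omega)
    obtain ⟨k, rfl⟩ : ∃ k, N = k + 3 := ⟨N - 3, by omega⟩
    -- a power of `u` acting as `1 + 2 ^ (k + 2)`
    have hstep : ∀ (j : ℕ) (v : P) (r : ℤ), v * a * v⁻¹ = a ^ r → v ∉ A → (4 : ℤ) ∣ r - 1 → v ^ 2 ^ j ∈ A → False := by
      intro j
      induction j with
      | zero => intro v r _ hv _ hj; exact hv (by simpa using hj)
      | succ j ih =>
        intro v r hr hv h4 hj
        by_cases hv2 : v * v ∈ A
        · have h2 : a ^ (r * r) = a ^ (1 : ℤ) := by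
            rw [zpow_one, ← zpow_conj hr r, ← hr]
            obtain ⟨i, hi⟩ := Subgroup.mem_zpowers_iff.1 (hAz ▸ hv2)
            calc v * (v * a * v⁻¹) * v⁻¹ = (v * v) * a * (v * v)⁻¹ := by group
              _ = a := by rw [← hi]; group
          have h2' := CfsgLib.Solv.MaxClass.dvd_of_zpow_eq h2
          rw [hN] at h2'
          push_cast at h2'
          obtain ⟨q, hq⟩ := h4
          have h3 : (2 : ℤ) ^ (k + 2) ∣ r - 1 := by
            have h5 : (2 : ℤ) ^ (k + 3) ∣ (2 * (r - 1)) * (1 + 2 * q) := by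
              have : r * r - 1 = (2 * (r - 1)) * (1 + 2 * q) := by linear_combination (r - 1) * hq
              rwa [this] at h2'
            have hcop : IsCoprime ((2 : ℤ) ^ (k + 3)) (1 + 2 * q) :=
              IsCoprime.pow_left ⟨-q, 1, by ring⟩
            have h6 := hcop.dvd_of_dvd_mul_right h5
            rw [pow_succ' (2 : ℤ) (k + 2)] at h6
            exact (mul_dvd_mul_iff_left two_ne_zero).1 h6
          obtain ⟨w, hw⟩ := h3
          rcases Int.even_or_odd w with ⟨w', rfl⟩ | ⟨w', rfl⟩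
          · refine hv (hmemC v (mul_inv_eq_iff_eq_mul.1 (hr.trans ?_)))
            conv_rhs => rw [← zpow_one a]
            exact hmod ⟨w', by rw [hw, pow_succ (2 : ℤ) (k + 2)]; ring⟩
          · refine no_modular hn hN (hAz ▸ hv) (hr.trans (hmod ⟨w', ?_⟩)) (hAz ▸ hv2) hexp (fun t => hAz ▸ hder t v)
            rw [show r = 1 + 2 ^ (k + 2) * (2 * w' + 1) by linear_combination hw, pow_succ (2 : ℤ) (k + 2)]; ring
        · refine ih (v * v) (r * r) ?_ hv2 ?_ (by rw [← pow_two, ← pow_mul, ← pow_succ']; exact hj)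
          · rw [show v * v * a * (v * v)⁻¹ = v * (v * a * v⁻¹) * v⁻¹ by group, hr, zpow_conj hr]
          · exact h4.trans ⟨r + 1, by ring⟩
    obtain ⟨j, hj⟩ := hP u
    exact hstep j u s hs hu h4 (hj ▸ one_mem _)
  have hAne : A ≠ ⊤ := fun e => hnc (by
    haveI := hn A hAn hAc
    exact (MulEquiv.subgroupCongr e).trans Subgroup.topEquiv |>.isCyclic.1 inferInstance)
  obtain ⟨g, hg⟩ : ∃ g, g ∉ A := by
    by_contra hall
    push Not at hall
    exact hAne (eq_top_iff.2 fun x _ => hall x)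
  have hindex : A.index = 2 := by
    refine Subgroup.index_eq_two_iff.2 ⟨g, fun u => ?_⟩
    by_cases hu : u ∈ A
    · refine Or.inr ⟨hu, fun h' => hg ?_⟩
      have := mul_mem (inv_mem hu) h'
      rwa [inv_mul_cancel_left] at this
    · refine Or.inl ⟨?_, hu⟩
      obtain ⟨s, hs⟩ := hexp g
      obtain ⟨r, hr⟩ := hexp u
      have h1 : 1 ≤ N := by
        by_contra h0
        rw [show N = 0 by omega, pow_zero, orderOf_eq_one_iff] at hN
        exact hg (hmemC g (by rw [hN, mul_one, one_mul]))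
      have hs2 := hodd g s hs h1
      have hr2 := hodd u r hr h1
      have hs4 : ¬ (4 : ℤ) ∣ s - 1 := fun h => hg (hsmall g s hs h)
      have hr4 : ¬ (4 : ℤ) ∣ r - 1 := fun h => hu (hsmall u r hr h)
      refine hsmall (u * g) (r * s) ?_ ?_
      · rw [show u * g * a * (u * g)⁻¹ = u * (g * a * g⁻¹) * u⁻¹ by group, hs, zpow_conj hr]
      · obtain ⟨x, rfl⟩ := hs2
        obtain ⟨y, rfl⟩ := hr2
        rcases Int.even_or_odd x with ⟨x', rfl⟩ | ⟨x', rfl⟩
        · exact absurd ⟨x', by ring⟩ hs4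
        rcases Int.even_or_odd y with ⟨y', rfl⟩ | ⟨y', rfl⟩
        · exact absurd ⟨y', by ring⟩ hr4
        exact ⟨4 * y' * x' + 3 * y' + 3 * x' + 2, by ring⟩
  obtain ⟨n, hn'⟩ := IsPGroup.iff_card.1 hP
  have hna : ∃ u v : P, u * v ≠ v * u := by
    by_contra h'
    push Not at h'
    haveI := hn ⊤ inferInstance ⟨⟨fun x y => Subtype.ext (h' x y)⟩⟩
    exact hnc (Subgroup.topEquiv.isCyclic.1 inferInstance)
  have hn3 : 3 ≤ n := by
    by_contra hlt
    obtain ⟨u, v, huv⟩ := hna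
    rcases (show n = 0 ∨ n = 1 ∨ n = 2 by omega) with rfl | rfl | rfl
    · haveI : Subsingleton P := (Nat.card_eq_one_iff_unique.1 (by simpa using hn')).1
      exact huv (Subsingleton.elim _ _)
    · haveI := isCyclic_of_prime_card (hn'.trans (pow_one 2))
      exact hnc inferInstance
    · haveI := IsPGroup.isMulCommutative_of_card_eq_prime_sq (G := P) hn'
      exact huv (mul_comm' u v)
  obtain ⟨c, b, hc, hb, hcase⟩ := CfsgLib.Solv.MaxClass.classify_two hn3 hn' A inferInstance hindex hna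
  have hci : (Subgroup.zpowers c).index = 2 := by
    have h' := Subgroup.card_mul_index (Subgroup.zpowers c)
    rw [Nat.card_zpowers, hc, hn', show 2 ^ n = 2 ^ (n - 1) * 2 by rw [← pow_succ]; congr 1; omega] at h'
    exact Nat.eq_of_mul_eq_mul_left (by positivity) h'
  have hcase' : ∀ u, u ∈ Subgroup.zpowers c ∨ b⁻¹ * u ∈ Subgroup.zpowers c := fun u => by
    by_cases hu : u ∈ Subgroup.zpowers c
    · exact Or.inl hu
    · refine Or.inr ((Subgroup.mul_mem_iff_of_index_two hci).2 ?_)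
      simp [hu, hb]
  have hgen : Subgroup.closure ({c, b} : Set P) = ⊤ := by
    have hz : Subgroup.zpowers c ≤ Subgroup.closure ({c, b} : Set P) :=
      Subgroup.zpowers_le.2 (Subgroup.subset_closure (by simp))
    rw [eq_top_iff]
    intro u _
    rcases hcase' u with hu | hu
    · exact hz hu
    · have := mul_mem (Subgroup.subset_closure (by simp : b ∈ ({c, b} : Set P))) (hz hu)
      rwa [mul_inv_cancel_left] at this
  rcases hcase with ⟨hb2, hbc⟩ | ⟨hb2, hbc⟩ | ⟨hn4, hb2, hbc⟩ | ⟨hn4, hb2, hbc⟩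
  · right; left
    have hconj : ∀ i : ℤ, b * c ^ i * b⁻¹ = c ^ (-i) := fun i => by
      rw [← conj_zpow, hbc, inv_zpow, zpow_neg]
    have hb1 : b ≠ 1 := fun e => hb (e ▸ one_mem _)
    have hbo : orderOf b = 2 := orderOf_eq_prime hb2 hb1
    have hbb : b * b = 1 := by rw [← pow_two]; exact hb2
    refine ⟨2 ^ (n - 1), ?_, ?_⟩
    · by_contra hlt
      rcases (show n = 3 ∨ 4 ≤ n by omega) with rfl | h4
      · -- the dihedral group of order eight has a normal four-group
        have hc4 : orderOf c = 4 := hc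
        set z := c ^ (2 : ℤ) with hz
        have hzo : orderOf z = 2 := by
          rw [hz, zpow_ofNat, orderOf_pow' c two_ne_zero, hc4]; rfl
        have hz4 : ∀ i : ℤ, c ^ (4 * i) = 1 := fun i => by
          rw [← orderOf_dvd_iff_zpow_eq_one, hc4]; exact ⟨i, rfl⟩
        have hzb : b * z * b⁻¹ = z := by
          rw [hz, hconj, show (-2 : ℤ) = 2 + 4 * (-1) by norm_num, zpow_add, hz4, mul_one]
        refine no_four hn hzo hbo (fun e => hb (e ▸ zpow_mem (Subgroup.mem_zpowers c) 2))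
          (mul_inv_eq_iff_eq_mul.1 hzb).symm (fun u => ?_) (fun u => ?_)
        · rcases hcase' u with ⟨i, hi⟩ | ⟨i, hi⟩
          · rw [← hi, hz]; group
          · rw [show u = b * c ^ i by rw [show c ^ i = b⁻¹ * u from hi]; group, show b * c ^ i * z * (b * c ^ i)⁻¹ = b * (c ^ i * z * (c ^ i)⁻¹) * b⁻¹ by group,
              show c ^ i * z * (c ^ i)⁻¹ = z by rw [hz]; group, hzb]
        · have hb' : ∀ i : ℤ, c ^ i * b * (c ^ i)⁻¹ = z ^ i * b := fun i => by
            have : b * (c ^ i)⁻¹ = c ^ i * b := by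
              rw [← zpow_neg, ← mul_inv_eq_iff_eq_mul, hconj, neg_neg]
            rw [mul_assoc, this, ← mul_assoc, hz, ← zpow_mul, ← zpow_add, two_mul]
          rcases hcase' u with ⟨i, hi⟩ | ⟨i, hi⟩
          · rw [← hi, hb']
            exact mul_mem (zpow_mem (Subgroup.subset_closure (by simp)) i) (Subgroup.subset_closure (by simp))
          · rw [show u = b * c ^ i by rw [show c ^ i = b⁻¹ * u from hi]; group, show b * c ^ i * b * (b * c ^ i)⁻¹ = b * (c ^ i * b * (c ^ i)⁻¹) * b⁻¹ by group, hb']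
            exact mul_mem (mul_mem (Subgroup.subset_closure (by simp)) (mul_mem (zpow_mem (Subgroup.subset_closure (by simp)) i)
              (Subgroup.subset_closure (by simp)))) (inv_mem (Subgroup.subset_closure (by simp)))
      · exact hlt (le_trans (by norm_num : 8 ≤ 2 ^ 3) (Nat.pow_le_pow_right two_pos (by omega)))
    have hx2 : (c * b) * (c * b) = 1 := by
      have := hconj 1
      rw [zpow_one] at this
      calc c * b * (c * b) = c * (b * c * b⁻¹) * (b * b) := by group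
        _ = 1 := by rw [this, hbb, zpow_neg, zpow_one, mul_inv_cancel, one_mul]
    have hxo : orderOf (c * b) = 2 := orderOf_eq_prime (by rw [pow_two]; exact hx2) (fun e => hb (by
      rw [show b = c⁻¹ * (c * b) by group, e, mul_one]; exact inv_mem (Subgroup.mem_zpowers c)))
    obtain ⟨e⟩ := CfsgLib.Inv.dihedral_equiv hxo hbo
    rw [mul_assoc, hbb, mul_one, hc] at e
    have htop : Subgroup.closure ({c * b, b} : Set P) = ⊤ := by
      rw [eq_top_iff, ← hgen, Subgroup.closure_le]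
      rintro w (rfl | rfl)
      · have := mul_mem (Subgroup.subset_closure (by simp : w * b ∈ ({w * b, b} : Set P))) (Subgroup.subset_closure (by simp : b ∈ ({w * b, b} : Set P)))
        rwa [mul_assoc, hbb, mul_one] at this
      · exact Subgroup.subset_closure (by simp)
    exact ⟨Subgroup.topEquiv.symm.trans ((MulEquiv.subgroupCongr htop.symm).trans e)⟩
  · -- generalized quaternion: no noncyclic abelian subgroup
    exfalso
    set z := c ^ (2 ^ (n - 2)) with hz
    have hconj : ∀ i : ℤ, b * c ^ i * b⁻¹ = c ^ (-i) := fun i => by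
      rw [← conj_zpow, hbc, inv_zpow, zpow_neg]
    have hout : ∀ u, u ∉ Subgroup.zpowers c → (∀ i : ℤ, u * c ^ i * u⁻¹ = c ^ (-i)) ∧ u * u = z := fun u hu => by
      obtain ⟨i, hi⟩ := (hcase' u).resolve_left hu
      have hu' : u = b * c ^ i := by rw [show c ^ i = b⁻¹ * u from hi]; group
      subst hu'
      refine ⟨fun j => ?_, ?_⟩
      · rw [show b * c ^ i * c ^ j * (b * c ^ i)⁻¹ = b * c ^ j * b⁻¹ by group, hconj]
      · calc b * c ^ i * (b * c ^ i) = (b * c ^ i * b⁻¹) * (b * b) * c ^ i := by group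
          _ = c ^ (-i) * z * c ^ i := by rw [hconj, ← pow_two, hb2]
          _ = z := by rw [hz]; group
    refine hBnc ?_
    by_cases hBc : B ≤ Subgroup.zpowers c
    · exact isCyclic_of_injective (Subgroup.inclusion hBc) (Subgroup.inclusion_injective hBc)
    obtain ⟨u, huB, hu⟩ := SetLike.not_le_iff_exists.1 hBc
    obtain ⟨huc, huu⟩ := hout u hu
    have hzu : z ∈ Subgroup.zpowers u := huu ▸ mul_mem (Subgroup.mem_zpowers u) (Subgroup.mem_zpowers u)
    have hin : ∀ w ∈ B, w ∈ Subgroup.zpowers c → w ∈ Subgroup.zpowers u := fun w hw hwc => by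
      obtain ⟨i, rfl⟩ := Subgroup.mem_zpowers_iff.1 hwc
      have h1 : u * c ^ i * u⁻¹ = c ^ i := mul_inv_eq_iff_eq_mul.2 (congrArg Subtype.val (hBa.is_comm.comm ⟨u, huB⟩ ⟨c ^ i, hw⟩))
      rw [huc] at h1
      have h1' := CfsgLib.Solv.MaxClass.dvd_of_zpow_eq h1
      rw [hc] at h1'
      push_cast at h1'
      obtain ⟨q, hq⟩ := h1'
      have hiq : i = (2 : ℤ) ^ (n - 2) * (-q) := by
        refine mul_left_cancel₀ (show (2 : ℤ) ≠ 0 by norm_num) ?_
        rw [show n - 1 = n - 2 + 1 by omega, pow_succ] at hq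
        linear_combination -hq
      rw [hiq, zpow_mul, show c ^ ((2 : ℤ) ^ (n - 2)) = z by rw [hz, ← zpow_natCast]; push_cast; rfl]
      exact zpow_mem hzu _
    have hle : B ≤ Subgroup.zpowers u := fun v hv => by
      by_cases hvc : v ∈ Subgroup.zpowers c
      · exact hin v hv hvc
      · have h1 := hin (u⁻¹ * v) (mul_mem (inv_mem huB) hv) ((Subgroup.mul_mem_iff_of_index_two hci).2 (by simp [hu, hvc]))
        have := mul_mem (Subgroup.mem_zpowers u) h1
        rwa [mul_inv_cancel_left] at this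
    exact isCyclic_of_injective (Subgroup.inclusion hle) (Subgroup.inclusion_injective hle)
  · exfalso
    obtain ⟨k, rfl⟩ : ∃ k, n = k + 4 := ⟨n - 4, by omega⟩
    haveI hcn : (Subgroup.zpowers c).Normal := Subgroup.normal_of_index_eq_two hci
    refine no_modular hn (a := c) (g := b) (k := k) hc hb ?_ ?_ (fun u => ?_) fun u => ?_
    · rw [hbc, ← zpow_natCast]; congr 1
    · rw [← pow_two, hb2]; exact one_mem _
    · obtain ⟨s, hs⟩ := Subgroup.mem_zpowers_iff.1 (hcn.conj_mem c (Subgroup.mem_zpowers c) u)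
      exact ⟨s, hs.symm⟩
    · refine (Subgroup.mul_mem_iff_of_index_two hci).2 ?_
      have : u * b * u⁻¹ ∉ Subgroup.zpowers c := fun h' => hb (by
        have := hcn.conj_mem _ h' u⁻¹
        simpa [mul_assoc] using this)
      simp [this, hb]
  · right; right
    refine ⟨n - 1, by omega, ?_, c, b, hc, orderOf_eq_prime hb2 (fun e => hb (e ▸ one_mem _)), ?_⟩
    · rw [hn']; congr 1; omega
    · rw [hbc]; congr 1

end CfsgLib.Fus.NormalAbelianCyclic
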