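import Cfsg.Agent.Fus.Normal
import Cfsg.Agent.Fus.Centric

/-!
Centric subgroups meeting a strongly closed subgroup in a subgroup that is not centric there.
-/

set_option autoImplicit false
set_option linter.style.haveILetI false

open Cfsg Cfsg.FusionSystem

namespace CfsgLib.Fus.CentricMeet

variable {Ω : Type*} [Group Ω] {S : Subgroup Ω} {F : FusionSystem S} {p : ℕ} [Finite S] [hp : Fact p.Prime]

/-- A conjugate with an outer element of `T` acting in a normal `p`-subgroup of the automizer. -/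
theorem exists_outer (hS : IsPGroup p S) (hF : F.IsSaturated p) {T : Subgroup Ω} (hT : F.StronglyClosed T)
    {P R : Subgroup Ω} (hP : F.IsCentric P) (hR : F.IsConj (P ⊓ T) R) (hRT : ¬ centralizerIn T R ≤ R) :
    ∃ f, IsMap F P f ∧ ∃ K : Subgroup (MulAut ↥(img f P)), K ≤ F.autGroup (img f P) ∧ IsPGroup p K ∧
      (∀ α ∈ F.autGroup (img f P), ∀ κ ∈ K, α * κ * α⁻¹ ∈ K) ∧
      ∃ x ∈ S, x ∈ Subgroup.normalizer (img f P : Set Ω) ∧ x ∉ img f P ∧
        ∃ κ ∈ K, ∀ y ∈ img f P, autFun κ y = x * y * x⁻¹ := by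
  have hTc := (stronglyClosed_iff.1 hT).2
  have hTn : S ≤ Subgroup.normalizer (T : Set Ω) := stronglyClosed_normal hT
  obtain ⟨h0, hh0, hR0⟩ := isConj_iff.1 hR
  obtain ⟨Q, hQ, hQn⟩ := exists_fullyNormalized (F := F) ((inf_le_left : P ⊓ T ≤ P).trans hP.1)
  obtain ⟨g, hg, hgi, -⟩ := exists_normalizer_map_fn hS hF hQn hQ
  have hPN : P ≤ normalizerIn S (P ⊓ T) := fun u hu => ⟨hP.1 hu, mem_normalizer_of_conj
    (fun z hz => ⟨P.mul_mem (P.mul_mem hu hz.1) (P.inv_mem hu), conj_mem_of_normalizer (hTn (hP.1 hu)) hz.2⟩)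
    (fun z hz => ⟨P.mul_mem (P.mul_mem (P.inv_mem hu) hz.1) hu, conj_mem_of_normalizer' (hTn (hP.1 hu)) hz.2⟩)⟩
  have hgP := hg.mono hPN
  refine ⟨g, hgP, ?_⟩
  set P1 := img g P with hP1
  have hP1S : P1 ≤ S := hgP.img_le
  haveI := finite_of_le hP1S
  have hQ1 : Q ≤ P1 := hgi ▸ img_mono inf_le_left
  have hQT : Q ≤ T := hgi ▸ img_le_iff.2 fun z hz => hTc _ g (hgP.mono inf_le_left) z hz hz.2
  obtain ⟨g', hg', hgl, hgr, hgi'⟩ := hgP.inv
  have hQeq : ∀ y ∈ P1, y ∈ T → y ∈ Q := fun y hy hyT => by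
    rw [← hgr y hy]
    exact hgi ▸ mem_img_of_mem ⟨hgi' ▸ mem_img_of_mem hy, hTc _ g' hg' y hy hyT⟩
  -- the centralizer of `Q` in `T` is not contained in `Q`
  have hCQ : ¬ centralizerIn T Q ≤ Q := by
    obtain ⟨k, hk, hki, -⟩ := exists_normalizer_map_fn hS hF hQn (isConj_trans (isConj_symm hR) hQ)
    obtain ⟨z, hz, hzR⟩ := SetLike.not_le_iff_exists.1 hRT
    have hzN : z ∈ normalizerIn S R := ⟨hT.1 hz.1, Subgroup.centralizer_le_normalizer _ hz.2⟩
    have hRN : R ≤ normalizerIn S R := le_normalizerIn (isConj_le hR).2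
    intro hle
    have hkz : k z ∈ Q := hle ⟨hTc _ k hk z hzN hz.1, Subgroup.mem_centralizer_iff.2 fun q hq => by
      obtain ⟨r, hr, rfl⟩ := (hk.mono hRN).mem_img.1 (hki.ge hq)
      rw [← hk.map_mul (hRN hr) hzN, ← hk.map_mul hzN (hRN hr), Subgroup.mem_centralizer_iff.1 hz.2 r hr]⟩
    obtain ⟨r, hr, hre⟩ := (hk.mono hRN).mem_img.1 (hki.ge hkz)
    exact hzR (hk.inj (hRN hr) hzN hre ▸ hr)
  -- an element normalizing `P1`
  have hP1N : P1 ≤ normalizerIn S Q := fun u hu => ⟨hP1S hu, mem_normalizer_of_conj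
    (fun z hz => hQeq _ (P1.mul_mem (P1.mul_mem hu (hQ1 hz)) (P1.inv_mem hu))
      (conj_mem_of_normalizer (hTn (hP1S hu)) (hQT hz)))
    (fun z hz => hQeq _ (P1.mul_mem (P1.mul_mem (P1.inv_mem hu) (hQ1 hz)) hu)
      (conj_mem_of_normalizer' (hTn (hP1S hu)) (hQT hz)))⟩
  obtain ⟨x, hxC, hxN, hxP⟩ : ∃ x, x ∈ centralizerIn T Q ∧ x ∈ Subgroup.normalizer (P1 : Set Ω) ∧ x ∉ P1 := by
    by_contra hall
    push Not at hall
    haveI := finite_of_le (normalizerIn_le (S := S) Q)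
    have hle : centralizerIn T Q ≤ P1 := by
      refine le_of_normalizer_le (S := normalizerIn S Q) (isPGroup_of_le hS (normalizerIn_le Q)) hP1N
        (fun z hz => ⟨hT.1 hz.1, Subgroup.centralizer_le_normalizer _ hz.2⟩) (fun u hu => ?_) hall
      have key : ∀ u ∈ normalizerIn S Q, ∀ z ∈ centralizerIn T Q, u * z * u⁻¹ ∈ centralizerIn T Q := by
        intro u hu z hz
        refine ⟨conj_mem_of_normalizer (hTn hu.1) hz.1, Subgroup.mem_centralizer_iff.2 fun d hd => ?_⟩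
        have h := congrArg (fun w => u * w * u⁻¹)
          (Subgroup.mem_centralizer_iff.1 hz.2 _ (conj_mem_of_normalizer' hu.2 hd))
        simpa [mul_assoc] using h
      exact mem_normalizer_of_conj (key u hu) fun z hz => by
        simpa using key u⁻¹ ((normalizerIn S Q).inv_mem hu) z hz
    exact hCQ fun z hz => hQeq z (hle hz) hz.1
  -- the stabilizer of the series `1 ≤ Q ≤ P1`
  have hinv : ∀ γ ∈ F.autGroup P1, ∀ z ∈ Q, autFun γ z ∈ Q := fun γ hγ z hz =>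
    hQeq _ (autFun_mem γ (hQ1 hz)) (hTc _ _ ((mem_autGroup hP1S).1 hγ) z (hQ1 hz) (hQT hz))
  let K : Subgroup (MulAut P1) :=
    { carrier := {κ | κ ∈ F.autGroup P1 ∧ (∀ z ∈ Q, autFun κ z = z) ∧ ∀ y ∈ P1, y⁻¹ * autFun κ y ∈ Q}
      one_mem' := ⟨one_mem _, fun z hz => autFun_one (hQ1 hz),
        fun y hy => by rw [autFun_one hy, inv_mul_cancel]; exact Q.one_mem⟩
      mul_mem' := fun {a b} ha hb => ⟨mul_mem ha.1 hb.1,
        fun z hz => by rw [autFun_mul _ _ (hQ1 hz), hb.2.1 z hz, ha.2.1 z hz],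
        fun y hy => by
          have := Q.mul_mem (hb.2.2 y hy) (ha.2.2 _ (autFun_mem b hy))
          rw [autFun_mul _ _ hy]; simpa [mul_assoc] using this⟩
      inv_mem' := fun {a} ha => ⟨inv_mem ha.1,
        fun z hz => by
          have := autFun_inv_apply' a (hQ1 hz)
          rwa [ha.2.1 z hz] at this,
        fun y hy => by
          have := Q.inv_mem (ha.2.2 _ (autFun_mem a⁻¹ hy))
          rw [autFun_inv_apply a hy] at this
          simpa using this⟩ }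
  have hKn : ∀ α ∈ F.autGroup P1, ∀ κ ∈ K, α * κ * α⁻¹ ∈ K := by
    rintro α hα κ ⟨hκA, h1, h2⟩
    refine ⟨mul_mem (mul_mem hα hκA) (inv_mem hα), fun z hz => ?_, fun y hy => ?_⟩
    · rw [autFun_conj _ _ (hQ1 hz), h1 _ (hinv _ (inv_mem hα) z hz), autFun_inv_apply α (hQ1 hz)]
    · have hu := autFun_mem α⁻¹ hy
      have := hinv α hα _ (h2 _ hu)
      rw [autFun_map_mul α (P1.inv_mem hu) (autFun_mem κ hu), autFun_map_inv α hu, autFun_inv_apply α hy] at this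
      rwa [autFun_conj _ _ hy]
  have hKp : IsPGroup p K := isPGroup_of_ppow K fun γ hγ =>
    ppow_eq_one_of_series (isPGroup_of_le hS hP1S) γ 1 (fun i => if i = 0 then (Q : Set Ω) else (P1 : Set Ω))
      (fun y hy => by simpa using hy)
      ⟨0, fun y hy hyQ => by rw [pow_zero, pow_one]; exact hγ.2.1 y (by simpa using hyQ)⟩
      fun i hi y hy _ => by
        obtain rfl : i = 0 := by omega
        simpa using hγ.2.2 y hy
  obtain ⟨κ, hκ, hκe⟩ := exists_autInducedBy (K := S) (hT.1 hxC.1) hxN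
  refine ⟨K, fun γ hγ => hγ.1, hKp, hKn, x, hT.1 hxC.1, hxN, hxP, κ,
    ⟨autInducedBy_le_autGroup hP1S hκ, fun z hz => ?_, fun y hy => ?_⟩, hκe⟩
  · rw [hκe z (hQ1 hz), ← Subgroup.mem_centralizer_iff.1 hxC.2 z hz, mul_inv_cancel_right]
  · rw [hκe y hy]
    refine hQeq _ (P1.mul_mem (P1.inv_mem hy) (conj_mem_of_normalizer hxN hy)) ?_
    rw [show y⁻¹ * (x * y * x⁻¹) = y⁻¹ * x * y * x⁻¹ by group]
    exact T.mul_mem (conj_mem_of_normalizer' (hTn (hP1S hy)) hxC.1) (T.inv_mem hxC.1)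

/-- Radical subgroups have no such conjugates. -/
theorem not_radical {P : Subgroup Ω} (hP : F.IsCentric P) {f : Ω → Ω} (hf : IsMap F P f)
    {K : Subgroup (MulAut ↥(img f P))} (hKA : K ≤ F.autGroup (img f P)) (hKp : IsPGroup p K)
    (hKn : ∀ α ∈ F.autGroup (img f P), ∀ κ ∈ K, α * κ * α⁻¹ ∈ K) {x : Ω} (hxS : x ∈ S) (hx : x ∉ img f P)
    {κ : MulAut ↥(img f P)} (hκ : κ ∈ K) (he : ∀ y ∈ img f P, autFun κ y = x * y * x⁻¹) :
    ¬ F.IsRadical p P := by
  intro hr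
  obtain ⟨g, hg, hgl, hgr, hgi⟩ := hf.inv
  obtain ⟨e, hee⟩ := hg.equiv hgi
  set K' := K.map (MulAut.congr e).toMonoidHom with hK'
  have hK'A : K' ≤ F.autGroup P := by
    rw [← map_autGroup hg hgi hee]; exact Subgroup.map_mono hKA
  have hK'n : ∀ α ∈ F.autGroup P, ∀ κ' ∈ K', α * κ' * α⁻¹ ∈ K' := by
    intro α hα κ' hκ'
    rw [← map_autGroup hg hgi hee] at hα
    obtain ⟨a, ha, rfl⟩ := hα
    obtain ⟨k, hk, rfl⟩ := hκ'
    exact ⟨a * k * a⁻¹, hKn a ha k hk, by simp only [map_mul, map_inv]⟩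
  haveI : (K'.subgroupOf (F.autGroup P)).Normal := ⟨fun a ha b => hK'n b b.2 a ha⟩
  have hle : K'.subgroupOf (F.autGroup P) ≤ pCore p ↥(F.autGroup P) :=
    le_sSup ⟨inferInstance, (hKp.map _).comap_of_injective _ (Subgroup.subtype_injective _)⟩
  have hmem : MulAut.congr e κ ∈ K' := ⟨κ, hκ, rfl⟩
  have hinn : MulAut.congr e κ ∈ Inn P := hr.2 ▸ ⟨⟨_, hK'A hmem⟩, hle hmem, rfl⟩
  rw [inn_eq_autInducedBy] at hinn
  obtain ⟨r, hr', hre⟩ := mem_autInducedBy.1 hinn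
  have hz : (f r)⁻¹ * x ∈ img f P := by
    refine hP.2 _ (isConj_iff.2 ⟨f, hf, rfl⟩) ⟨S.mul_mem (S.inv_mem (hf.mem hr')) hxS, fun y hy => ?_⟩
    have hgy : g y ∈ P := hgi ▸ mem_img_of_mem hy
    have h1 := hre _ hgy
    rw [autFun_congr hee κ hy, he y hy] at h1
    have h2 := congrArg f h1
    rw [hgr _ (he y hy ▸ autFun_mem κ hy), hf.map_conj hr' hgy, hgr y hy] at h2
    calc y * ((f r)⁻¹ * x) = (f r)⁻¹ * (f r * y * (f r)⁻¹) * x := by simp [mul_assoc]
      _ = (f r)⁻¹ * x * y := by rw [← h2]; simp [mul_assoc]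
  refine hx ?_
  have := (img f P).mul_mem (mem_img_of_mem (f := f) hr') hz
  rwa [mul_inv_cancel_left] at this

end CfsgLib.Fus.CentricMeet
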