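import Cfsg.Agent.Fus.SolvableNormal
import Cfsg.Agent.Fus.Normal
import Cfsg.Agent.Fus.NormalizerSystem

/-!
The images of a subgroup normal in a weakly normal subsystem generate a normal subgroup.
-/

set_option autoImplicit false
set_option linter.style.haveILetI false

open Cfsg Cfsg.FusionSystem
open scoped commutatorElement

namespace CfsgLib.Fus.NormalImages

variable {Ω : Type*} [Group Ω] {S T : Subgroup Ω} {F : FusionSystem S} {E : FusionSystem T} {p : ℕ}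

theorem map_comm {M : Subgroup Ω} {g : Ω → Ω} (hg : IsMap F M g) {A B A' B' : Subgroup Ω} (hA : A ≤ M)
    (hB : B ≤ M) (ha : ∀ x ∈ A, g x ∈ A') (hb : ∀ x ∈ B, g x ∈ B') : ∀ x ∈ ⁅A, B⁆, g x ∈ ⁅A', B'⁆ := by
  obtain ⟨φ, -, hφg⟩ := hg
  have hle : ⁅A, B⁆ ≤ (⁅A', B'⁆.comap φ).map M.subtype := Subgroup.commutator_le.2 fun a haA b hbB => by
    refine ⟨⁅(⟨a, hA haA⟩ : M), ⟨b, hB hbB⟩⁆, ?_, rfl⟩
    show φ ⁅_, _⁆ ∈ ⁅A', B'⁆
    rw [map_commutatorElement, hφg, hφg]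
    exact Subgroup.commutator_mem_commutator (ha a haA) (hb b hbB)
  intro x hx
  obtain ⟨y, hy, rfl⟩ := hle hx
  show g (y : Ω) ∈ _
  rw [← hφg y]
  exact hy

theorem stronglyClosed_of_normal {R : Subgroup Ω} (hR : E.IsNormal R) : E.StronglyClosed R := by
  obtain ⟨hRT, h⟩ := isNormal_iff.1 hR
  refine stronglyClosed_iff.2 ⟨hRT, fun P f hf x hx hxR => ?_⟩
  obtain ⟨g, hg, hge, hgR⟩ := h P f hf
  rw [← hge x hx, ← hgR]
  exact mem_img_of_mem hxR

theorem normal_transport (hE : E.IsInvariantIn F) {R : Subgroup Ω} (hR : E.IsNormal R) {β : MulAut T}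
    (hβ : β ∈ F.autGroup T) : E.IsNormal (img (autFun β) R) := by
  have hRT := hR.1
  have hTS := hE.2.1.1
  have hb := (mem_autGroup hTS).1 hβ
  have hb' := (mem_autGroup hTS).1 (inv_mem hβ)
  refine isNormal_iff.2 ⟨img_le_iff.2 fun x hx => autFun_mem β (hRT hx), fun P f hf => ?_⟩
  obtain ⟨c, hc, hce⟩ := SolvNormal.transport' hE hf (inv_mem hβ)
  obtain ⟨d, hd, hde, hdR⟩ := (isNormal_iff.1 hR).2 _ c hc
  obtain ⟨e, he, hee⟩ := SolvNormal.transport' hE hd hβ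
  have hP : ∀ x ∈ P, autFun β (autFun β⁻¹ x) = x := fun x hx => autFun_inv_apply β (hf.le hx)
  have hle : P ⊔ img (autFun β) R ≤ img (autFun β) (img (autFun β⁻¹) P ⊔ R) :=
    sup_le (fun x hx => hP x hx ▸ mem_img_of_mem (le_sup_left (b := R) (mem_img_of_mem hx)))
      (img_mono le_sup_right)
  refine ⟨e, he.mono hle, fun x hx => ?_, ?_⟩
  · conv_lhs => rw [← hP x hx]
    rw [hee _ (le_sup_left (b := R) (mem_img_of_mem hx)), hde _ (mem_img_of_mem hx), hce x hx,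
      autFun_inv_apply β (hf.mem hx)]
  · rw [← (hb.mono hRT).img_comp,
      img_congr (f := e ∘ autFun β) (g := autFun β ∘ d) fun x hx => hee x (le_sup_right (a := img (autFun β⁻¹) P) hx),
      (hd.mono le_sup_right).img_comp, hdR]

/-- The lower central series inside the ambient group. -/
def lcs (U : Subgroup Ω) : ℕ → Subgroup Ω
  | 0 => U
  | i + 1 => ⁅lcs U i, U⁆

theorem lcs_le (U : Subgroup Ω) : ∀ i, lcs U i ≤ U
  | 0 => le_rfl
  | i + 1 => (Subgroup.commutator_mono (lcs_le U i) le_rfl).trans (Subgroup.commutator_le_self U)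

theorem lcs_eq (U : Subgroup Ω) : ∀ i, lcs U i = ((⊤ : Subgroup U).lowerCentralSeries i).map U.subtype
  | 0 => by
    rw [Subgroup.lowerCentralSeries_zero, ← MonoidHom.range_eq_map, Subgroup.range_subtype]; rfl
  | i + 1 => by
    rw [Subgroup.lowerCentralSeries_succ, Subgroup.map_commutator, ← lcs_eq U i, ← MonoidHom.range_eq_map,
      Subgroup.range_subtype]
    rfl

theorem map_lcs {M U : Subgroup Ω} {g : Ω → Ω} (hg : IsMap F M g) (hU : U ≤ M)
    (h : ∀ x ∈ U, g x ∈ U) : ∀ i, ∀ x ∈ lcs U i, g x ∈ lcs U i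
  | 0 => h
  | i + 1 => map_comm hg ((lcs_le U i).trans hU) hU (map_lcs hg hU h i) h

theorem images_normal [Finite S] [hp : Fact p.Prime] (hS : IsPGroup p S) (hF : F.IsSaturated p)
    (hE : E.IsInvariantIn F) {R : Subgroup Ω} (hR : E.IsNormal R) :
    F.IsNormal (Subgroup.closure {x : Ω | ∃ φ ∈ F.Hom R, ∃ r : R, x = φ r}) := by
  set U := Subgroup.closure {x : Ω | ∃ φ ∈ F.Hom R, ∃ r : R, x = φ r}
  have hTS := hE.2.1.1
  haveI : Finite T := finite_of_le hTS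
  have hRT := hR.1
  have hmemU : ∀ β ∈ F.autGroup T, ∀ r ∈ R, autFun β r ∈ U := fun β hβ r hr => by
    obtain ⟨φ, hφ, hφe⟩ := ((mem_autGroup hTS).1 hβ).mono hRT
    exact Subgroup.subset_closure ⟨φ, hφ, ⟨r, hr⟩, (hφe ⟨r, hr⟩).symm⟩
  have hgen : ∀ x ∈ {x : Ω | ∃ φ ∈ F.Hom R, ∃ r : R, x = φ r},
      ∃ β ∈ F.autGroup T, x ∈ img (autFun β) R := by
    rintro _ ⟨φ, hφ, r, rfl⟩
    obtain ⟨β, hβ, e, he, hee⟩ := SolvNormal.frattini' hE (IsMap.of_hom hφ) hRT
    refine ⟨β, hβ, ?_⟩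
    rw [← ev_apply φ r, hee r r.2]
    exact mem_img_of_mem ((stronglyClosed_iff.1 (stronglyClosed_of_normal hR)).2 R e he _ r.2 r.2)
  have hbT : ∀ β ∈ F.autGroup T, img (autFun β) R ≤ T := fun β _ =>
    img_le_iff.2 fun x hx => autFun_mem β (hRT hx)
  have hUT : U ≤ T := (Subgroup.closure_le _).2 fun x hx => by
    obtain ⟨β, hβ, hxβ⟩ := hgen x hx
    exact hbT β hβ hxβ
  have hUaut : ∀ β ∈ F.autGroup T, ∀ x ∈ U, autFun β x ∈ U := by
    intro β hβ
    obtain ⟨ψ, -, hψe⟩ := (mem_autGroup hTS).1 hβ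
    have hle : U ≤ (U.comap ψ).map T.subtype := (Subgroup.closure_le _).2 fun x hx => by
      obtain ⟨γ, hγ, hxγ⟩ := hgen x hx
      refine ⟨⟨x, hbT γ hγ hxγ⟩, ?_, rfl⟩
      show ψ ⟨x, _⟩ ∈ U
      rw [hψe]
      obtain ⟨r, hr, rfl⟩ := (((mem_autGroup hTS).1 hγ).mono hRT).mem_img.1 hxγ
      rw [← autFun_mul _ _ (hRT hr)]
      exact hmemU _ (mul_mem hβ hγ) r hr
    intro x hx
    obtain ⟨y, hy, rfl⟩ := hle hx
    show autFun β (y : Ω) ∈ U
    rw [← hψe y]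
    exact hy
  have hUcore : U ≤ E.core := (Subgroup.closure_le _).2 fun x hx => by
    obtain ⟨β, hβ, hxβ⟩ := hgen x hx
    exact le_core (normal_transport hE hR hβ) hxβ
  have hEscl : ∀ i, E.StronglyClosed (lcs U i) := fun i => by
    refine stronglyClosed_iff.2 ⟨(lcs_le U i).trans hUT, fun P f hf x hx hxL => ?_⟩
    obtain ⟨g, hg, hge, -⟩ := (isNormal_iff.1 (isNormal_core (F := E))).2 P f hf
    rw [← hge x hx]
    have hUM : U ≤ P ⊔ E.core := hUcore.trans le_sup_right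
    refine map_lcs hg hUM ?_ i x hxL
    obtain ⟨φ, hφ, hφg⟩ := hg
    have hle : U ≤ (U.comap φ).map (P ⊔ E.core).subtype := (Subgroup.closure_le _).2 fun y hy => by
      refine ⟨⟨y, hUM (Subgroup.subset_closure hy)⟩, ?_, rfl⟩
      show φ ⟨y, _⟩ ∈ U
      rw [hφg]
      obtain ⟨β, hβ, hyβ⟩ := hgen y hy
      have hg' : IsMap E (P ⊔ E.core) g := ⟨φ, hφ, hφg⟩
      have h1 := (stronglyClosed_iff.1 (stronglyClosed_of_normal (normal_transport hE hR hβ))).2 _ g hg' y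
        (hUM (Subgroup.subset_closure hy)) hyβ
      obtain ⟨r, hr, hrx⟩ := (((mem_autGroup hTS).1 hβ).mono hRT).mem_img.1 h1
      exact hrx ▸ hmemU β hβ r hr
    intro y hy
    obtain ⟨z, hz, rfl⟩ := hle hy
    show g (z : Ω) ∈ U
    rw [← hφg z]
    exact hz
  have hFscl : ∀ i, F.StronglyClosed (lcs U i) := fun i => by
    have hT := hE.2.1
    refine stronglyClosed_iff.2 ⟨((lcs_le U i).trans hUT).trans hTS, fun P f hf x hxP hx => ?_⟩
    obtain ⟨β, hβ, g, hg, hge⟩ := SolvNormal.frattini' hE (hf.mono (inf_le_left : P ⊓ T ≤ P)) inf_le_right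
    have hxI : x ∈ P ⊓ T := Subgroup.mem_inf.2 ⟨hxP, (lcs_le U i).trans hUT hx⟩
    rw [hge x hxI]
    exact map_lcs ((mem_autGroup hTS).1 hβ) hUT (hUaut β hβ) i _
      ((stronglyClosed_iff.1 (hEscl i)).2 _ g hg x hxI hx)
  have hUS : U ≤ S := hUT.trans hTS
  haveI : Finite U := finite_of_le hUS
  haveI := (isPGroup_of_le hS hUS).isNilpotent
  obtain ⟨n, hn⟩ := Subgroup.nilpotent_iff_lowerCentralSeries.1 (inferInstance : Group.IsNilpotent U)
  refine normal_of_series hS hF (hFscl 0) n (fun i => lcs U (n - i)) ?_ ?_ (fun i _ => lcs_le U _)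
    (fun i hi => ?_) fun i _ => stronglyClosed_weaklyClosed (hFscl _)
  · show lcs U (n - 0) = ⊥
    rw [Nat.sub_zero, lcs_eq, hn, Subgroup.map_bot]
  · show lcs U (n - n) = lcs U 0
    rw [Nat.sub_self]
  · show ⁅lcs U (n - (i + 1)), U⁆ ≤ lcs U (n - i)
    rw [show n - i = (n - (i + 1)) + 1 by omega]
    rfl

end CfsgLib.Fus.NormalImages
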