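import Cfsg.Agent.Fus.Group
import Cfsg.Agent.Fus.Normal
import Cfsg.Agent.Fus.Quotient
import Cfsg.Agent.Fus.FunctorCore
import Cfsg.Agent.Inv.Transfer
import Cfsg.Agent.Solv.PComplement
import Cfsg.Agent.Solv.Thompson

/-!
Normal subsystems of the fusion system of a group of characteristic `p` come from normal subgroups.
-/

set_option autoImplicit false
set_option linter.style.haveILetI false
set_option linter.unusedSectionVars false

open Cfsg Cfsg.FusionSystem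

namespace CfsgLib.Fus.NormalModel

variable {G : Type*} [Group G] [Finite G] {p : ℕ} [Fact p.Prime]

/-- The elements centralizing `Q` modulo `O`. -/
def actKer (Q O : Subgroup G) [O.Normal] : Subgroup G where
  carrier := {g | ∀ q ∈ Q, g * q * g⁻¹ * q⁻¹ ∈ O}
  one_mem' := fun q _ => by simp
  mul_mem' := fun {a b} ha hb q hq => by
    have h : a * b * q * (a * b)⁻¹ * q⁻¹ = a * (b * q * b⁻¹ * q⁻¹) * a⁻¹ * (a * q * a⁻¹ * q⁻¹) := by group
    rw [h]
    exact O.mul_mem (‹O.Normal›.conj_mem _ (hb q hq) a) (ha q hq)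
  inv_mem' := fun {a} ha q hq => by
    have h : a⁻¹ * q * a⁻¹⁻¹ * q⁻¹ = a⁻¹ * (a * q * a⁻¹ * q⁻¹)⁻¹ * a⁻¹⁻¹ := by group
    rw [h]
    exact ‹O.Normal›.conj_mem _ (O.inv_mem (ha q hq)) a⁻¹

theorem mem_actKer {Q O : Subgroup G} [O.Normal] {g : G} :
    g ∈ actKer Q O ↔ ∀ q ∈ Q, g * q * g⁻¹ * q⁻¹ ∈ O := Iff.rfl

theorem actKer_normal (Q O : Subgroup G) [O.Normal] [Q.Normal] : (actKer Q O).Normal := by
  refine ⟨fun g hg a q hq => ?_⟩
  have h : a * g * a⁻¹ * q * (a * g * a⁻¹)⁻¹ * q⁻¹ =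
      a * (g * (a⁻¹ * q * a) * g⁻¹ * (a⁻¹ * q * a)⁻¹) * a⁻¹ := by group
  rw [h]
  refine ‹O.Normal›.conj_mem _ (hg _ ?_) a
  simpa using ‹Q.Normal›.conj_mem q hq a⁻¹

/-- A power prime to the order recovers the element. -/
theorem mem_of_pow_mem {K : Type*} [Group K] {A : Subgroup K} {x : K} {m k : ℕ}
    (hm : x ^ m ∈ A) (hk : x ^ k ∈ A) (hco : Nat.Coprime m k) : x ∈ A := by
  have h := Nat.gcd_eq_gcd_ab m k
  rw [hco, Nat.cast_one] at h
  rw [← zpow_one x, h, zpow_add, zpow_mul, zpow_mul, zpow_natCast, zpow_natCast]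
  exact A.mul_mem (A.zpow_mem hm _) (A.zpow_mem hk _)

/-- A subgroup stabilizing `O ≤ Q` and centralizing both layers lies in `O_p(G)`. -/
theorem stab_le_core (hG : Subgroup.centralizer ((pCore p G : Subgroup G) : Set G) ≤ pCore p G) (O : Subgroup G)
    [O.Normal] (hO : O ≤ pCore p G) : Subgroup.centralizer (O : Set G) ⊓ actKer (pCore p G) O ≤ pCore p G := by
  haveI := CfsgLib.Solv.pCore_normal G p
  haveI := actKer_normal (pCore p G) O
  refine CfsgLib.Solv.le_pCore (CfsgLib.Solv.isPGroup_of_forall_coprime fun g hg hco => ?_)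
  have hgQ : g ∈ pCore p G := hG fun q hq => by
    have ho := hg.2 q hq
    set o := g * q * g⁻¹ * q⁻¹ with hodef
    have hgo : o * g = g * o := hg.1 o ho
    have hit : ∀ n : ℕ, g ^ n * q * (g ^ n)⁻¹ = o ^ n * q := by
      intro n
      induction n with
      | zero => simp
      | succ n ih =>
        calc g ^ (n + 1) * q * (g ^ (n + 1))⁻¹ = g * (g ^ n * q * (g ^ n)⁻¹) * g⁻¹ := by rw [pow_succ']; group
          _ = g * o ^ n * g⁻¹ * (g * q * g⁻¹) := by rw [ih]; group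
          _ = o ^ n * (o * q) := by
            have hc : g * o ^ n = o ^ n * g := ((show Commute o g from hgo).pow_left n).eq.symm
            rw [hc, mul_inv_cancel_right, hodef, inv_mul_cancel_right]
          _ = o ^ (n + 1) * q := by rw [pow_succ]; exact (mul_assoc _ _ _).symm
    have h1 := hit (orderOf g)
    rw [pow_orderOf_eq_one, one_mul, inv_one, mul_one, right_eq_mul] at h1
    obtain ⟨k, hk⟩ := CfsgLib.Solv.pCore_isPGroup G p ⟨o, hO ho⟩
    have ho1 : o = 1 := orderOf_eq_one_iff.1 (Nat.eq_one_of_dvd_coprimes (hco.pow_right k)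
      (orderOf_dvd_of_pow_eq_one h1) (orderOf_dvd_of_pow_eq_one (congrArg Subtype.val hk)))
    rw [hodef, mul_inv_eq_one, mul_inv_eq_iff_eq_mul] at ho1
    exact ho1.symm
  exact CfsgLib.Solv.eq_one_of_isPGroup_coprime (CfsgLib.Solv.pCore_isPGroup G p) hgQ hco

variable {S T : Subgroup G} {E : FusionSystem T}

theorem closed_conj (hE : E.IsNormalIn (groupFusionSystem S) p) {x g : G} (hx : x ∈ T) (hg : g * x * g⁻¹ ∈ S) :
    g * x * g⁻¹ ∈ T := by
  have hTS := hE.1.2.2.2.1.1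
  have hm : IsMap (groupFusionSystem S) (Subgroup.zpowers x) (conjF g) := by
    refine isMap_group_iff.2 ⟨Subgroup.zpowers_le.2 (hTS hx), g, ?_⟩
    rintro _ ⟨k, rfl⟩
    refine ⟨rfl, ?_⟩
    show g * x ^ k * g⁻¹ ∈ S
    rw [← conj_zpow]
    exact S.zpow_mem hg k
  obtain ⟨φ, hφ, hφf⟩ := hm
  have h := hE.1.2.2.2.1.2 _ (Subgroup.zpowers_le.2 hx) φ hφ ⟨x, Subgroup.mem_zpowers x⟩
  rw [hφf] at h
  exact h

theorem subsystem_conj (hE : E.IsNormalIn (groupFusionSystem S) p) {P : Subgroup G} {f : G → G}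
    (hf : IsMap E P f) : ∃ g, ∀ x ∈ P, f x = g * x * g⁻¹ := by
  obtain ⟨φ, hφ, hφf⟩ := hf
  obtain ⟨-, g, hg⟩ := isMap_group_iff.1 (⟨φ, hE.1.2.2.1 P hφ, hφf⟩ : IsMap (groupFusionSystem S) P f)
  exact ⟨g, fun x hx => (hg x hx).1⟩

/-- Transport of an automorphism in the subsystem by an element normalizing `T` and `X`. -/
theorem transport_aut (hE : E.IsNormalIn (groupFusionSystem S) p) {X : Subgroup G} (hXT : X ≤ T)
    {b : G} (hbT : b ∈ Subgroup.normalizer (T : Set G)) (hbX : b ∈ Subgroup.normalizer (X : Set G))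
    {g : G} {α : MulAut X} (hα : α ∈ E.autGroup X) (hg : ∀ x ∈ X, autFun α x = g * x * g⁻¹) :
    ∃ α' ∈ E.autGroup X, ∀ x ∈ X, autFun α' x = b * g * b⁻¹ * x * (b * g * b⁻¹)⁻¹ := by
  have hTS := hE.1.2.2.2.1.1
  haveI := finite_of_le (le_refl T)
  obtain ⟨β, -, hβ⟩ := exists_autInducedBy (K := (⊤ : Subgroup G)) (P := T) (Subgroup.mem_top b) hbT
  have hβF : β ∈ (groupFusionSystem S).autGroup T := by
    rw [autGroup_group hTS]
    exact mem_autInducedBy.2 ⟨b, trivial, hβ⟩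
  obtain ⟨φ, hφ, hφf⟩ := (mem_autGroup hXT).1 hα
  obtain ⟨χ, hχ, he⟩ := hE.1.2.2.2.2.1 X hXT φ hφ β hβF
  have himg : (X.subgroupOf T).map (T.subtype.comp β.toMonoidHom) = X := by
    rw [map_subgroupOf_eq_img _ hXT]
    change img (autFun β) X = X
    refine le_antisymm (img_le_iff.2 fun x hx => by rw [hβ x (hXT hx)]; exact conj_mem_of_normalizer hbX hx)
      fun x hx => ?_
    have hx' := conj_mem_of_normalizer' hbX hx
    have h : autFun β (b⁻¹ * x * b) = x := by rw [hβ _ (hXT hx')]; group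
    rw [← h]
    exact mem_img_of_mem hx'
  have key : ∀ y ∈ X, ev χ (b * y * b⁻¹) = b * (g * y * g⁻¹) * b⁻¹ := by
    intro y hy
    have hby : b * y * b⁻¹ ∈ (X.subgroupOf T).map (T.subtype.comp β.toMonoidHom) :=
      himg.symm ▸ conj_mem_of_normalizer hbX hy
    have hgy : φ ⟨y, hy⟩ = g * y * g⁻¹ := (hφf ⟨y, hy⟩).trans (hg y hy)
    have hgX : g * y * g⁻¹ ∈ X := hg y hy ▸ autFun_mem α hy
    have hφx : φ ⟨y, hy⟩ ∈ T := hgy ▸ hXT hgX
    have h1 : ((β ⟨y, hXT hy⟩ : T) : G) = b * y * b⁻¹ := (autFun_apply β ⟨y, hXT hy⟩).symm.trans (hβ y (hXT hy))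
    have h := he ⟨y, hy⟩ hφx (h1.symm ▸ hby)
    rw [ev_of_mem χ hby]
    calc χ ⟨b * y * b⁻¹, hby⟩ = χ ⟨((β ⟨y, hXT hy⟩ : T) : G), h1.symm ▸ hby⟩ := congrArg χ (Subtype.ext h1.symm)
      _ = ((β ⟨φ ⟨y, hy⟩, hφx⟩ : T) : G) := h
      _ = _ := by rw [← autFun_apply β ⟨φ ⟨y, hy⟩, hφx⟩, hβ _ hφx, hgy]
  have hmv : ∀ (Y : Subgroup G) (ψ : Y →* G), ψ ∈ E.Hom Y → Y = X → IsMap E X (ev ψ) := by
    rintro Y ψ hψ rfl
    exact IsMap.of_hom hψ
  have hχm : IsMap E X (fun x => b * g * b⁻¹ * x * (b * g * b⁻¹)⁻¹) := by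
    refine (hmv _ χ hχ himg).congr fun x hx => ?_
    have h := key _ (conj_mem_of_normalizer' hbX hx)
    rw [show b * (b⁻¹ * x * b) * b⁻¹ = x by group] at h
    rw [h]; group
  haveI := finite_of_le hXT
  refine exists_aut hχm (Subgroup.eq_of_le_of_card_ge (img_le_iff.2 fun x hx => ?_) hχm.card_img.ge)
  have hy := conj_mem_of_normalizer' hbX hx
  have hgX : g * (b⁻¹ * x * b) * g⁻¹ ∈ X := hg _ hy ▸ autFun_mem α hy
  simpa [mul_assoc] using conj_mem_of_normalizer hbX hgX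

/-- The elements inducing automorphisms of the subsystem on `X`. -/
def actIn (E : FusionSystem T) (X : Subgroup G) [X.Normal] : Subgroup G where
  carrier := {g | ∃ α ∈ E.autGroup X, ∀ x ∈ X, autFun α x = g * x * g⁻¹}
  one_mem' := ⟨1, (E.autGroup X).one_mem, fun x hx => by rw [autFun_one hx]; group⟩
  mul_mem' := fun {a b} ⟨α, hα, ha⟩ ⟨β, hβ, hb⟩ => ⟨α * β, (E.autGroup X).mul_mem hα hβ, fun x hx => by
    rw [autFun_mul _ _ hx, hb x hx, ha _ (‹X.Normal›.conj_mem x hx b)]; group⟩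
  inv_mem' := fun {a} ⟨α, hα, ha⟩ => ⟨α⁻¹, (E.autGroup X).inv_mem hα, fun x hx => by
    have hy : a⁻¹ * x * a ∈ X := by simpa using ‹X.Normal›.conj_mem x hx a⁻¹
    have h : autFun α (a⁻¹ * x * a) = x := by rw [ha _ hy]; group
    conv_lhs => rw [← h]
    rw [← autFun_mul _ _ hy, inv_mul_cancel, autFun_one hy]; group⟩

theorem mem_actIn {X : Subgroup G} [X.Normal] {g : G} :
    g ∈ actIn E X ↔ ∃ α ∈ E.autGroup X, ∀ x ∈ X, autFun α x = g * x * g⁻¹ := Iff.rfl

theorem actIn_normal (hE : E.IsNormalIn (groupFusionSystem S) p) {X : Subgroup G} [X.Normal] (hXT : X ≤ T) :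
    (actIn E X).Normal := by
  have hTS := hE.1.2.2.2.1.1
  refine ⟨fun g hg a => ?_⟩
  have hm : IsMap (groupFusionSystem S) X (conjF a) := isMap_group_iff.2 ⟨hXT.trans hTS, a, fun x hx =>
    ⟨rfl, hTS (hXT (‹X.Normal›.conj_mem x hx a))⟩⟩
  obtain ⟨φ, hφ, hφf⟩ := hm
  obtain ⟨β, hβ, φ₀, hφ₀, he⟩ := hE.1.2.2.2.2.2 X hXT φ hφ
  obtain ⟨e, he₀⟩ := subsystem_conj hE (IsMap.of_hom hφ₀)
  rw [autGroup_group hTS] at hβ
  obtain ⟨b, -, hb⟩ := mem_autInducedBy.1 hβ
  have hbT : b ∈ Subgroup.normalizer (T : Set G) :=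
    Subgroup.mem_normalizer_fintype fun x hx => hb x hx ▸ autFun_mem β hx
  have hbX : b ∈ Subgroup.normalizer (X : Set G) := by rw [Subgroup.normalizer_eq_top]; trivial
  have he' : e ∈ actIn E X := by
    haveI := finite_of_le hXT
    have hm : IsMap E X (fun x => e * x * e⁻¹) := (IsMap.of_hom hφ₀).congr he₀
    exact exists_aut hm (Subgroup.eq_of_le_of_card_ge
      (img_le_iff.2 fun x hx => ‹X.Normal›.conj_mem x hx e) hm.card_img.ge)
  set c := (b * e)⁻¹ * a with hc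
  have hcc : c ∈ actIn E X := ⟨1, (E.autGroup X).one_mem, fun x hx => by
    have hx0 := (E.le_of_mem hφ₀).2 ⟨x, hx⟩
    have h := he ⟨x, hx⟩ hx0
    rw [hφf, ← autFun_apply β ⟨φ₀ ⟨x, hx⟩, hx0⟩, hb _ hx0] at h
    have h2 : φ₀ ⟨x, hx⟩ = e * x * e⁻¹ := (ev_of_mem φ₀ hx).symm.trans (he₀ x hx)
    rw [h2] at h
    change a * x * a⁻¹ = b * (e * x * e⁻¹) * b⁻¹ at h
    have h3 : c * x * c⁻¹ = (b * e)⁻¹ * (a * x * a⁻¹) * (b * e) := by rw [hc]; group
    rw [autFun_one hx, h3, h]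
    group⟩
  obtain ⟨α, hα, hg'⟩ : e * c * g * (e * c)⁻¹ ∈ actIn E X :=
    mul_mem (mul_mem (mul_mem he' hcc) hg) (InvMemClass.inv_mem (mul_mem he' hcc))
  obtain ⟨α', hα', h'⟩ := transport_aut hE hXT hbT hbX hα hg'
  refine ⟨α', hα', fun x hx => ?_⟩
  rw [h' x hx, hc]
  group

/-- A map of `T` with the extension property. -/
def extSub (E : FusionSystem T) (S : Subgroup G) : Submonoid G where
  carrier := {g | (∃ α ∈ E.autGroup T, ∀ x ∈ T, autFun α x = g * x * g⁻¹) ∧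
    ∀ c ∈ centralizerIn S T, c⁻¹ * (g * c * g⁻¹) ∈ T ⊓ Subgroup.centralizer (T : Set G)}
  one_mem' := ⟨⟨1, (E.autGroup T).one_mem, fun x hx => by rw [autFun_one hx]; group⟩, fun c _ => by simp⟩
  mul_mem' := fun {a b} ⟨⟨α, hα, ha⟩, ha'⟩ ⟨⟨β, hβ, hb⟩, hb'⟩ => by
    refine ⟨⟨α * β, (E.autGroup T).mul_mem hα hβ, fun x hx => by
      rw [autFun_mul _ _ hx, hb x hx, ha _ (hb x hx ▸ autFun_mem β hx)]; group⟩, fun c hc => ?_⟩
    set z := c⁻¹ * (b * c * b⁻¹) with hz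
    have h : c⁻¹ * (a * b * c * (a * b)⁻¹) = c⁻¹ * (a * c * a⁻¹) * (a * z * a⁻¹) := by rw [hz]; group
    rw [h]
    refine mul_mem (ha' c hc) ⟨ha z (hb' c hc).1 ▸ autFun_mem α (hb' c hc).1, fun t ht => ?_⟩
    have ht' : autFun α⁻¹ t ∈ T := autFun_mem _ ht
    have h1 := (hb' c hc).2 _ ht'
    have h2 : a * autFun α⁻¹ t * a⁻¹ = t := by rw [← ha _ ht', autFun_inv_apply α ht]
    calc t * (a * z * a⁻¹) = a * (autFun α⁻¹ t * z) * a⁻¹ := by
          conv_lhs => rw [← h2]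
          group
      _ = a * z * (a⁻¹ * (a * autFun α⁻¹ t * a⁻¹) * a) * a⁻¹ := by rw [← hz] at h1; rw [h1]; group
      _ = a * z * a⁻¹ * t := by rw [h2]; group

/-- The automizer of a normal subgroup in the subsystem is induced by elements centralizing `O_p(G)` modulo it. -/
theorem realise_aut (hS : IsPGroup p S) (hE : E.IsNormalIn (groupFusionSystem S) p)
    (hQS : pCore p G ≤ S) {O : Subgroup G} [hOn : O.Normal] (hO : O = T ⊓ pCore p G) :
    ∀ α ∈ E.autGroup O, ∃ m ∈ actKer (pCore p G) O, ∀ x ∈ O, autFun α x = m * x * m⁻¹ := by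
  haveI hQn := CfsgLib.Solv.pCore_normal G p
  haveI := actKer_normal (pCore p G) O
  have hTS := hE.1.2.2.2.1.1
  have hsat := hE.1.1
  have hTp : IsPGroup p T := hS.to_le hTS
  have hOT : O ≤ T := hO.le.trans inf_le_left
  haveI := finite_mulAut hOT
  haveI := finite_mulAut (le_refl T)
  have hTnO : normalizerIn T O = T := le_antisymm (normalizerIn_le _) fun t ht =>
    ⟨ht, by rw [Subgroup.normalizer_eq_top]; trivial⟩
  have hTnQ : ∀ q ∈ pCore p G, q ∈ Subgroup.normalizer (T : Set G) := fun q hq =>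
    Subgroup.mem_normalizer_fintype fun x hx =>
      closed_conj hE hx (S.mul_mem (S.mul_mem (hQS hq) (hTS hx)) (S.inv_mem (hQS hq)))
  set 𝔸 := E.autGroup O with h𝔸
  set A := (autInducedBy (actKer (pCore p G) O) O).subgroupOf 𝔸 with hA
  haveI hAn : A.Normal := by
    refine ⟨fun a ha b => ?_⟩
    obtain ⟨m, hm, hme⟩ := mem_autInducedBy.1 (Subgroup.mem_subgroupOf.1 ha)
    obtain ⟨g, hg⟩ := subsystem_conj hE ((mem_autGroup hOT).1 b.2)
    refine Subgroup.mem_subgroupOf.2 (mem_autInducedBy.2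
      ⟨g * m * g⁻¹, (inferInstance : (actKer (pCore p G) O).Normal).conj_mem m hm g, fun x hx => ?_⟩)
    rw [Subgroup.coe_mul, Subgroup.coe_mul, Subgroup.coe_inv, autFun_conj _ _ hx]
    have hy : autFun (b : MulAut O)⁻¹ x = g⁻¹ * x * g := by
      have h := autFun_inv_apply (b : MulAut O) hx
      rw [hg _ (autFun_mem _ hx)] at h
      conv_rhs => rw [← h]
      group
    rw [hy, hme _ (hy ▸ autFun_mem _ hx), hg _ (hOn.conj_mem _ (hy ▸ autFun_mem _ hx) m)]
    group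
  have hOf : E.IsFullyNormalized O := ⟨hOT, fun R _ => hTnO.symm ▸ Subgroup.card_le_of_le (normalizerIn_le R)⟩
  obtain ⟨P₀, hP₀⟩ : ∃ P : Sylow p ↥𝔸, (P : Subgroup ↥𝔸) = (autInducedBy T O).subgroupOf 𝔸 :=
    (fullyNormalized_spec hTp hsat hOf).1.2
  have hP₀A : (P₀ : Subgroup ↥𝔸) ≤ A := by
    rw [hP₀]
    refine Subgroup.comap_mono (autInducedBy_mono fun t ht q hq => ?_)
    rw [hO]
    refine ⟨?_, (pCore p G).mul_mem (hQn.conj_mem q hq t) ((pCore p G).inv_mem hq)⟩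
    have h : t * q * t⁻¹ * q⁻¹ = t * (q * t⁻¹ * q⁻¹) := by group
    rw [h]
    exact T.mul_mem ht (conj_mem_of_normalizer (hTnQ q hq) (T.inv_mem ht))
  suffices hall : ∀ a : ↥𝔸, a ∈ A from fun α hα =>
    mem_autInducedBy.1 (Subgroup.mem_subgroupOf.1 (hall ⟨α, hα⟩))
  intro a
  obtain ⟨n, hn, k, hk, rfl⟩ := CfsgLib.Glau.frattini (CfsgLib.Glau.syl_top P₀) (N := A)
    (by rw [Subgroup.normalizer_eq_top]) (Subgroup.mem_top a)
  refine A.mul_mem hn.2 ?_
  rw [inf_eq_left.2 hP₀A] at hk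
  obtain ⟨i, m, hm, hord⟩ := Nat.exists_eq_pow_mul_and_not_dvd (orderOf_pos k).ne' p (Fact.out : p.Prime).ne_one
  have hmp : m.Coprime p := ((Fact.out : p.Prime).coprime_iff_not_dvd.2 hm).symm
  refine mem_of_pow_mem (m := p ^ i) (k := m) ?_ (hP₀A ?_) ((hmp.pow_right i).symm)
  swap
  · have hkp : IsPGroup p ↥(Subgroup.zpowers (k ^ m)) := by
      refine IsPGroup.of_card (n := i) ?_
      rw [Nat.card_zpowers, orderOf_pow, hord, Nat.gcd_eq_right (dvd_mul_left m _),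
        Nat.mul_div_cancel _ (Nat.pos_of_ne_zero (by rintro rfl; exact hm (dvd_zero p)))]
    have hle : Subgroup.zpowers (k ^ m) ≤ Subgroup.normalizer ((P₀ : Subgroup ↥𝔸) : Set ↥𝔸) :=
      Subgroup.zpowers_le.2 (Subgroup.pow_mem _ hk.2 m)
    have h := P₀.is_maximal' (hkp.to_sup_of_normal_right' P₀.isPGroup' hle) le_sup_right
    exact h.le (Subgroup.mem_sup_left (Subgroup.mem_zpowers _))
  -- the part of order prime to `p`
  set n' := k ^ p ^ i with hn'
  have hn'co : (orderOf n').Coprime p := by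
    rw [hn', orderOf_pow, hord, Nat.gcd_eq_right (dvd_mul_right _ m),
      Nat.mul_div_cancel_left _ (pow_pos (Fact.out : p.Prime).pos i)]
    exact hmp
  have hn'N : n' ∈ Subgroup.normalizer ((P₀ : Subgroup ↥𝔸) : Set ↥𝔸) := Subgroup.pow_mem _ hk.2 _
  haveI := finite_of_le hOT
  obtain ⟨f, hf, hfe⟩ := extend_aut (F := E) (receptive_of_fullyCentralized hTp hsat
    (fullyCentralized_of_fullyNormalized hTp hsat hOf)) (β := (n' : MulAut O)) n'.2 hTnO.ge fun g hg γ hγ => by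
      have hγT : γ ∈ autInducedBy T O := mem_autInducedBy.2 ⟨g, hg, hγ⟩
      have hγA : γ ∈ 𝔸 := autInducedBy_le_autGroup hOT hγT
      have h : n' * ⟨γ, hγA⟩ * n'⁻¹ ∈ (P₀ : Subgroup ↥𝔸) :=
        conj_mem_of_normalizer hn'N (by rw [hP₀]; exact Subgroup.mem_subgroupOf.2 hγT)
      rw [hP₀, Subgroup.mem_subgroupOf] at h
      exact h
  have hfT : IsMap E T f := hf.mono le_sup_right
  haveI := finite_of_le (le_refl T)
  obtain ⟨α₁, hα₁, hα₁e⟩ := exists_aut hfT (Subgroup.eq_of_le_of_card_ge hfT.img_le hfT.card_img.ge)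
  obtain ⟨β, hβ, hβT, hβC⟩ := hE.2 α₁ hα₁
  rw [autGroup_group (sup_le hTS (centralizerIn_le T))] at hβ
  obtain ⟨g, -, hg⟩ := mem_autInducedBy.1 hβ
  have hgext : g ∈ extSub E S := by
    refine ⟨⟨α₁, hα₁, fun x hx => ?_⟩, fun c hc => ?_⟩
    · rw [← hg x (Subgroup.mem_sup_left hx), autFun_of_mem β (Subgroup.mem_sup_left hx), autFun_of_mem α₁ hx]
      exact (hβT ⟨x, hx⟩).symm
    · have h := hβC ⟨c, Subgroup.mem_sup_right hc⟩ hc
      rw [← autFun_apply β, hg _ (Subgroup.mem_sup_right hc)] at h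
      exact h
  obtain ⟨j, m', hm', hord'⟩ := Nat.exists_eq_pow_mul_and_not_dvd (orderOf_pos g).ne' p (Fact.out : p.Prime).ne_one
  suffices hA' : n' ^ p ^ j ∈ A from
    mem_of_pow_mem (k := orderOf n') hA' (by rw [pow_orderOf_eq_one]; exact one_mem _) (hn'co.symm.pow_left j)
  set g' := g ^ p ^ j with hg'
  have hg'co : (orderOf g').Coprime p := by
    rw [hg', orderOf_pow, hord', Nat.gcd_eq_right (dvd_mul_right _ m'),
      Nat.mul_div_cancel_left _ (pow_pos (Fact.out : p.Prime).pos j)]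
    exact ((Fact.out : p.Prime).coprime_iff_not_dvd.2 hm').symm
  obtain ⟨⟨α₂, hα₂, hα₂e⟩, hg'C⟩ : g' ∈ extSub E S := pow_mem hgext _
  refine Subgroup.mem_subgroupOf.2 (mem_autInducedBy.2 ⟨g', fun q hq => ?_, fun x hx => ?_⟩)
  · -- the element centralizes `O_p(G)` modulo `O`
    set u := g' * q * g'⁻¹ * q⁻¹ with hu
    have huQ : u ∈ pCore p G := mul_mem (hQn.conj_mem q hq g') (InvMemClass.inv_mem hq)
    have huS : u ∈ S := hQS huQ
    have hun := hTnQ u huQ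
    have hg'T : ∀ x ∈ T, g' * x * g'⁻¹ ∈ T := fun x hx => hα₂e x hx ▸ autFun_mem α₂ hx
    obtain ⟨α₂', hα₂', hα₂'e⟩ : ∃ α' ∈ E.autGroup T, ∀ x ∈ T, autFun α' x = g'⁻¹ * x * g'⁻¹⁻¹ :=
      ⟨α₂⁻¹, (E.autGroup T).inv_mem hα₂, fun x hx => by
        have hy : autFun α₂⁻¹ x ∈ T := autFun_mem _ hx
        have h := hα₂e _ hy
        rw [autFun_inv_apply α₂ hx] at h
        conv_rhs => rw [h]
        group⟩
    obtain ⟨α₃, hα₃, hα₃e⟩ := transport_aut hE le_rfl (hTnQ q hq) (hTnQ q hq) hα₂' hα₂'e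
    have hcu : ∀ x ∈ T, autFun (α₂ * α₃) x = u * x * u⁻¹ := fun x hx => by
      rw [autFun_mul _ _ hx, hα₃e x hx, hα₂e _ (hα₃e x hx ▸ autFun_mem α₃ hx), hu]
      group
    have hmem : α₂ * α₃ ∈ autInducedBy T T := by
      obtain ⟨P₁, hP₁⟩ : ∃ P : Sylow p ↥(E.autGroup T), (P : Subgroup ↥(E.autGroup T)) =
          (autInducedBy T T).subgroupOf (E.autGroup T) :=
        (fullyNormalized_spec hTp hsat fullyNormalized_top).1.2
      haveI hn1 : (P₁ : Subgroup ↥(E.autGroup T)).Normal := by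
        rw [hP₁, ← inn_eq_autInducedBy]
        exact inn_subgroupOf_autGroup_normal T
      set x₁ : ↥(E.autGroup T) := ⟨α₂ * α₃, mul_mem hα₂ hα₃⟩
      have hp1 : IsPGroup p ↥(Subgroup.zpowers x₁) := by
        obtain ⟨r, hr⟩ := hS ⟨u, huS⟩
        have hr' : u ^ p ^ r = 1 := congrArg Subtype.val hr
        have hpow : ∀ l : ℕ, ∀ x ∈ T, autFun ((α₂ * α₃) ^ l) x = u ^ l * x * (u ^ l)⁻¹ := by
          intro l
          induction l with
          | zero => intro x hx; rw [pow_zero, autFun_one hx]; simp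
          | succ l ih =>
            intro x hx
            rw [pow_succ, autFun_mul _ _ hx, hcu x hx, ih _ (conj_mem_of_normalizer hun hx), pow_succ]
            group
        have h1 : x₁ ^ p ^ r = 1 := Subtype.ext (aut_ext fun x hx => by
          rw [Subgroup.coe_pow, hpow _ x hx, hr', OneMemClass.coe_one, autFun_one hx]; group)
        rintro ⟨_, l, rfl⟩
        refine ⟨r, Subtype.ext ?_⟩
        show (x₁ ^ l) ^ p ^ r = 1
        rw [← zpow_natCast, ← zpow_mul, mul_comm, zpow_mul, zpow_natCast, h1, one_zpow]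
      have h := P₁.is_maximal' (hp1.to_sup_of_normal_right P₁.isPGroup') le_sup_right
      have h' : x₁ ∈ (P₁ : Subgroup ↥(E.autGroup T)) := h.le (Subgroup.mem_sup_left (Subgroup.mem_zpowers _))
      rw [hP₁] at h'
      exact h'
    obtain ⟨t, ht, hte⟩ := mem_autInducedBy.1 hmem
    have hc : t⁻¹ * u ∈ centralizerIn S T := ⟨S.mul_mem (S.inv_mem (hTS ht)) huS, fun x hx => by
      have h3 : u * x * u⁻¹ = t * x * t⁻¹ := (hcu x hx).symm.trans (hte x hx)
      calc x * (t⁻¹ * u) = t⁻¹ * (t * x * t⁻¹) * u := by group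
        _ = t⁻¹ * u * x := by rw [← h3]; group⟩
    set c := t⁻¹ * u with hcdef
    set z := c⁻¹ * (g' * c * g'⁻¹) with hzdef
    have hz := hg'C c hc
    have hv : g' * u * g'⁻¹ * u⁻¹ = g' * t * g'⁻¹ * z * t⁻¹ := by
      have hcz : c * z = z * c := hc.2 z hz.1 |>.symm
      calc g' * u * g'⁻¹ * u⁻¹ = g' * t * g'⁻¹ * (c * z) * c⁻¹ * t⁻¹ := by rw [hzdef, hcdef]; group
        _ = _ := by rw [hcz]; group
    have hvO : g' * u * g'⁻¹ * u⁻¹ ∈ O := by
      rw [hO]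
      exact ⟨hv ▸ T.mul_mem (T.mul_mem (hg'T t ht) hz.1) (T.inv_mem ht),
        (pCore p G).mul_mem (hQn.conj_mem u huQ g') ((pCore p G).inv_mem huQ)⟩
    let π := QuotientGroup.mk' O
    have hπc : Commute (π g') (π u) := by
      have h : π (g' * u * g'⁻¹ * u⁻¹) = 1 := (QuotientGroup.eq_one_iff _).2 hvO
      simp only [map_mul, map_inv, mul_inv_eq_iff_eq_mul, one_mul] at h
      exact h
    have hit : ∀ l : ℕ, π g' ^ l * π q * (π g' ^ l)⁻¹ = π u ^ l * π q := by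
      intro l
      induction l with
      | zero => simp
      | succ l ih =>
        calc π g' ^ (l + 1) * π q * (π g' ^ (l + 1))⁻¹ = π g' * (π g' ^ l * π q * (π g' ^ l)⁻¹) * (π g')⁻¹ := by
              rw [pow_succ']; group
          _ = π g' * π u ^ l * (π g')⁻¹ * (π g' * π q * (π g')⁻¹) := by rw [ih]; group
          _ = π u ^ l * (π u * π q) := by
            rw [(hπc.pow_right l).eq, mul_inv_cancel_right]
            congr 1
            simp only [hu, map_mul, map_inv, inv_mul_cancel_right]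
          _ = π u ^ (l + 1) * π q := by rw [pow_succ, mul_assoc]
    have h1 := hit (orderOf g')
    rw [← map_pow, pow_orderOf_eq_one, map_one, one_mul, inv_one, mul_one, right_eq_mul] at h1
    obtain ⟨r, hr⟩ := hS ⟨u, huS⟩
    refine (QuotientGroup.eq_one_iff _).1 (orderOf_eq_one_iff.1 (Nat.eq_one_of_dvd_coprimes (hg'co.pow_right r)
      (orderOf_dvd_of_pow_eq_one h1) (orderOf_dvd_of_pow_eq_one ?_)))
    show π u ^ p ^ r = 1
    rw [← map_pow, show u ^ p ^ r = 1 from congrArg Subtype.val hr, map_one]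
  · have hxT := hOT hx
    have hgx : ∀ y ∈ O, autFun (n' : MulAut O) y = g * y * g⁻¹ := fun y hy => by
      rw [← hfe y hy, ← hα₁e y (hOT hy), ← hg y (Subgroup.mem_sup_left (hOT hy)),
        autFun_of_mem α₁ (hOT hy), autFun_of_mem β (Subgroup.mem_sup_left (hOT hy))]
      exact (hβT ⟨y, hOT hy⟩).symm
    have hpow : ∀ l : ℕ, ∀ y ∈ O, autFun ((n' : MulAut O) ^ l) y = g ^ l * y * (g ^ l)⁻¹ := by
      intro l
      induction l with
      | zero => intro y hy; rw [pow_zero, autFun_one hy]; simp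
      | succ l ih =>
        intro y hy
        rw [pow_succ, autFun_mul _ _ hy, hgx y hy, ih _ (hOn.conj_mem y hy g), pow_succ]
        group
    rw [Subgroup.coe_pow, hpow _ x hx]

end CfsgLib.Fus.NormalModel
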