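import Cfsg.Agent.Fus.NormalModel
import Cfsg.Agent.Fus.Alperin
import Cfsg.Agent.Fus.Control

/-!
The bijection between normal subsystems and normal subgroups in a group of characteristic `p`.
-/

set_option autoImplicit false
set_option linter.style.haveILetI false
set_option linter.unusedSectionVars false

open Cfsg Cfsg.FusionSystem

namespace CfsgLib.Fus.NormalModel

variable {G : Type*} [Group G] [Finite G] {p : ℕ} [Fact p.Prime]

theorem isMap_ofSubgroup_iff {H T P : Subgroup G} {hTH : T ≤ H} {f : G → G} :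
    IsMap (fusionSystemOfSubgroup H T hTH) P f ↔
      P ≤ T ∧ ∃ g ∈ H, ∀ x ∈ P, f x = g * x * g⁻¹ ∧ g * x * g⁻¹ ∈ T := by
  constructor
  · rintro ⟨φ, ⟨hP, hφT, g, hgH, hg⟩, hf⟩
    exact ⟨hP, g, hgH, fun x hx => ⟨(hf ⟨x, hx⟩).symm.trans (hg ⟨x, hx⟩), (hg ⟨x, hx⟩) ▸ hφT ⟨x, hx⟩⟩⟩
  · rintro ⟨hP, g, hgH, hg⟩
    exact ⟨conjHom P g, ⟨hP, fun x => (hg x x.2).2, g, hgH, fun _ => rfl⟩, fun x => (hg x x.2).1.symm⟩

/-- The main theorem. -/
theorem exists_unique_subgroup (S : Sylow p G)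
    (hG : Subgroup.centralizer ((pCore p G : Subgroup G) : Set G) ≤ pCore p G)
    (T : Subgroup G) (hTS : T ≤ S) (E : FusionSystem T) (hE : E.IsNormalIn (groupFusionSystem (S : Subgroup G)) p) :
    ∃ H : Subgroup G, (∃ hTH : T ≤ H, H.Normal ∧ (∃ R : Sylow p H, (R : Subgroup H) = T.subgroupOf H) ∧
      ∀ P : Subgroup G, E.Hom P = (fusionSystemOfSubgroup H T hTH).Hom P) ∧
      ∀ H' : Subgroup G, (∃ hTH' : T ≤ H', H'.Normal ∧ (∃ R : Sylow p H', (R : Subgroup H') = T.subgroupOf H') ∧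
        ∀ P : Subgroup G, E.Hom P = (fusionSystemOfSubgroup H' T hTH').Hom P) → H' = H := by
  haveI hQn := CfsgLib.Solv.pCore_normal G p
  have hS : IsPGroup p (S : Subgroup G) := S.isPGroup'
  have hQp : IsPGroup p (pCore p G) := CfsgLib.Solv.pCore_isPGroup G p
  have hQS : pCore p G ≤ S := CfsgLib.Solv.pCore_le_sylow S
  have hTp : IsPGroup p T := hS.to_le hTS
  have hsat := hE.1.1
  set O := T ⊓ pCore p G with hOdef
  have hOT : O ≤ T := inf_le_left
  have hOQ : O ≤ pCore p G := inf_le_right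
  haveI hOn : O.Normal := ⟨fun x hx g =>
    ⟨closed_conj hE hx.1 (hQS (hQn.conj_mem x hx.2 g)), hQn.conj_mem x hx.2 g⟩⟩
  haveI hKn := actKer_normal (pCore p G) O
  haveI hLn := actIn_normal hE (X := O) hOT
  have hSnT : ∀ s ∈ (S : Subgroup G), s ∈ Subgroup.normalizer (T : Set G) := fun s hs =>
    Subgroup.mem_normalizer_fintype fun x hx =>
      closed_conj hE hx (mul_mem (mul_mem hs (hTS hx)) (Subgroup.inv_mem _ hs))
  set M := actIn E O ⊓ actKer (pCore p G) O with hMdef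
  haveI hMn : M.Normal := Subgroup.normal_inf_normal _ _
  have hTM : T ≤ M := by
    refine fun t ht => ⟨?_, fun q hq => ⟨?_, mul_mem (hQn.conj_mem q hq t) (Subgroup.inv_mem _ hq)⟩⟩
    · obtain ⟨γ, hγT, hγ⟩ := exists_autInducedBy (K := T) (P := O) ht (by rw [Subgroup.normalizer_eq_top]; trivial)
      exact ⟨γ, autInducedBy_le_autGroup hOT hγT, hγ⟩
    · rw [show t * q * t⁻¹ * q⁻¹ = t * (q * t⁻¹ * q⁻¹) by group]
      exact T.mul_mem ht (conj_mem_of_normalizer (hSnT q (hQS hq)) (T.inv_mem ht))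
  set Q₁ := M ⊓ Subgroup.centralizer (O : Set G) with hQ₁def
  have hQ₁Q : Q₁ ≤ pCore p G := fun c hc => stab_le_core hG O hOQ ⟨hc.2, hc.1.2⟩
  haveI : Q₁.Normal := Subgroup.normal_inf_normal _ _
  have hreal : ∀ α ∈ E.autGroup O, ∃ m ∈ M, ∀ x ∈ O, autFun α x = m * x * m⁻¹ := fun α hα => by
    obtain ⟨m, hm, hme⟩ := realise_aut hS hE hQS rfl α hα
    exact ⟨m, ⟨⟨α, hα, hme⟩, hm⟩, hme⟩
  -- the Sylow subgroup of `M`
  have hSM : ∀ x ∈ (S : Subgroup G) ⊓ M, ∃ t ∈ T, ∃ c ∈ Q₁, x = t * c := by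
    intro x hx
    haveI := finite_mulAut hOT
    have hOf : E.IsFullyNormalized O := ⟨hOT, fun R _ => by
      rw [show normalizerIn T O = T from le_antisymm (normalizerIn_le _) fun t ht =>
        ⟨ht, by rw [Subgroup.normalizer_eq_top]; trivial⟩]
      exact Subgroup.card_le_of_le (normalizerIn_le R)⟩
    obtain ⟨P₀, hP₀⟩ : ∃ P : Sylow p ↥(E.autGroup O), (P : Subgroup ↥(E.autGroup O)) =
        (autInducedBy T O).subgroupOf (E.autGroup O) := (fullyNormalized_spec hTp hsat hOf).1.2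
    have hle : autInducedBy ((S : Subgroup G) ⊓ M) O ≤ E.autGroup O := by
      intro γ hγ
      obtain ⟨y, hy, hye⟩ := mem_autInducedBy.1 hγ
      obtain ⟨α, hα, hαe⟩ := hy.2.1
      rwa [aut_ext (α := γ) (β := α) fun z hz => (hye z hz).trans (hαe z hz).symm]
    have h := P₀.is_maximal' (Q := (autInducedBy ((S : Subgroup G) ⊓ M) O).subgroupOf (E.autGroup O))
      ((isPGroup_autInducedBy (hS.to_le inf_le_left)).comap_of_injective _ (Subgroup.subtype_injective _))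
      (by rw [hP₀]; exact Subgroup.comap_mono (autInducedBy_mono fun t ht => ⟨hTS ht, hTM ht⟩))
    obtain ⟨γ, hγT, hγ⟩ := exists_autInducedBy (K := (S : Subgroup G) ⊓ M) (P := O) hx
      (by rw [Subgroup.normalizer_eq_top]; trivial)
    have h' : (⟨γ, hle hγT⟩ : ↥(E.autGroup O)) ∈ (P₀ : Subgroup ↥(E.autGroup O)) :=
      h.le (Subgroup.mem_subgroupOf.2 hγT)
    rw [hP₀, Subgroup.mem_subgroupOf] at h'
    obtain ⟨t, ht, hte⟩ := mem_autInducedBy.1 h'
    refine ⟨t, ht, t⁻¹ * x, ⟨mul_mem (Subgroup.inv_mem _ (hTM ht)) hx.2, fun z hz => ?_⟩, by group⟩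
    have h3 : x * z * x⁻¹ = t * z * t⁻¹ := (hγ z hz).symm.trans (hte z hz)
    calc z * (t⁻¹ * x) = t⁻¹ * (t * z * t⁻¹) * x := by group
      _ = t⁻¹ * x * z := by rw [← h3]; group
  obtain ⟨PM, hPM⟩ : SylowIn p ((S : Subgroup G) ⊓ M) M :=
    sylowIn_inf (X := ⊤) ⟨S.subtype le_top, Sylow.coe_subtype _ _⟩ le_top le_top (by rw [Subgroup.normalizer_eq_top])
  -- the elements of order prime to `p`
  set N := (pResidual p ↥M).map M.subtype with hNdef
  haveI hresn : (pResidual p ↥M).Characteristic := CfsgLib.Solv.pResidual_char p ↥M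
  haveI hNn : N.Normal := inferInstance
  have hNM : N ≤ M := Subgroup.map_subtype_le _
  have hMeq : ∀ m ∈ M, ∃ x ∈ (S : Subgroup G) ⊓ M, ∃ y ∈ N, m = x * y := by
    intro m hm
    have htop : (⟨m, hm⟩ : ↥M) ∈ (PM : Subgroup ↥M) ⊔ pResidual p ↥M := by
      rw [CfsgLib.Solv.sylow_sup_pResidual]; trivial
    obtain ⟨a, ha, b, hb, hab⟩ := Subgroup.mem_sup_of_normal_right.1 htop
    rw [hPM] at ha
    exact ⟨a, ha, b, ⟨b, hb, rfl⟩, (congrArg Subtype.val hab).symm⟩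
  haveI hTNn : (N ⊔ T).Normal := by
    refine ⟨fun x hx g => ?_⟩
    obtain ⟨y, hy, t, ht, rfl⟩ := Subgroup.mem_sup_of_normal_left.1 hx
    rw [show g * (y * t) * g⁻¹ = g * y * g⁻¹ * (g * t * g⁻¹) by group]
    refine mul_mem (Subgroup.mem_sup_left (hNn.conj_mem y hy g)) ?_
    obtain ⟨n, hn, k, hk, rfl⟩ := CfsgLib.Glau.frattini (CfsgLib.Glau.syl_top S) (N := M)
      (by rw [Subgroup.normalizer_eq_top]) (Subgroup.mem_top g)
    have hkt : k * t * k⁻¹ ∈ T :=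
      closed_conj hE ht (conj_mem_of_normalizer hk.2 (⟨hTS ht, hTM ht⟩ : t ∈ (S : Subgroup G) ⊓ M)).1
    obtain ⟨x, hxS, y', hy', rfl⟩ := hMeq n hn.2
    set t' := k * t * k⁻¹ with ht'
    rw [show x * y' * k * t * (x * y' * k)⁻¹ = x * (y' * (t' * y'⁻¹ * t'⁻¹)) * x⁻¹ * (x * t' * x⁻¹) by
      rw [ht']; group]
    exact mul_mem (Subgroup.mem_sup_left (hNn.conj_mem _ (mul_mem hy' (hNn.conj_mem _ (Subgroup.inv_mem _ hy') t')) x))
      (Subgroup.mem_sup_right (conj_mem_of_normalizer (hSnT x hxS.1) hkt))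
  set H := N ⊔ T with hHdef
  have hTH : T ≤ H := le_sup_right
  have hHM : H ≤ M := sup_le hNM hTM
  -- transfer to `Q₁` modulo `O`
  have hHS : (S : Subgroup G) ⊓ H ≤ T := by
    suffices hN' : ∀ x ∈ (S : Subgroup G), x ∈ N → x ∈ T by
      rintro x ⟨hxS, hxH⟩
      obtain ⟨y, hy, t, ht, rfl⟩ := Subgroup.mem_sup_of_normal_left.1 hxH
      exact T.mul_mem (hN' y (by simpa using mul_mem hxS (Subgroup.inv_mem _ (hTS ht))) hy) ht
    intro x hxS hxN
    letI : CommGroup (↥Q₁ ⧸ O.subgroupOf Q₁) :=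
      { (inferInstance : Group (↥Q₁ ⧸ O.subgroupOf Q₁)) with
        mul_comm := fun a b => by
          obtain ⟨a, rfl⟩ := QuotientGroup.mk'_surjective _ a
          obtain ⟨b, rfl⟩ := QuotientGroup.mk'_surjective _ b
          rw [← commutatorElement_eq_one_iff_mul_comm, ← map_commutatorElement]
          refine (QuotientGroup.eq_one_iff _).2 (Subgroup.mem_subgroupOf.2 ?_)
          rw [commutatorElement_def]
          simpa using a.2.1.2 b (hQ₁Q b.2) }
    let π := QuotientGroup.mk' (O.subgroupOf Q₁)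
    have hTQ₁ : ∀ z ∈ T, z ∈ Q₁ → z ∈ O := fun z hz hz' => ⟨hz, hQ₁Q hz'⟩
    have hwd : ∀ {t t' c c' : G}, t ∈ T → t' ∈ T → ∀ (hc : c ∈ Q₁) (hc' : c' ∈ Q₁), t * c = t' * c' →
        π ⟨c, hc⟩ = π ⟨c', hc'⟩ := by
      intro t t' c c' ht ht' hc hc' h
      refine QuotientGroup.eq.2 (Subgroup.mem_subgroupOf.2 ?_)
      show c⁻¹ * c' ∈ O
      refine hTQ₁ _ ?_ (mul_mem (Subgroup.inv_mem _ hc) hc')
      have he : c = t⁻¹ * t' * c' := by rw [mul_assoc, ← h, inv_mul_cancel_left]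
      rw [he, show (t⁻¹ * t' * c')⁻¹ * c' = c'⁻¹ * (t'⁻¹ * t) * c'⁻¹⁻¹ by group]
      exact conj_mem_of_normalizer (Subgroup.inv_mem _ (hSnT c' (hQS (hQ₁Q hc')))) (T.mul_mem (T.inv_mem ht') ht)
    set D := ((S : Subgroup G) ⊓ M).subgroupOf M with hD
    choose τ hτ γ hγ hτγ using fun d : ↥D => hSM d.1 (Subgroup.mem_subgroupOf.1 d.2)
    let ψ : ↥D →* ↥Q₁ ⧸ O.subgroupOf Q₁ := MonoidHom.mk' (fun d => π ⟨γ d, hγ d⟩) fun a b => by
      rw [← map_mul π]
      refine (hwd (t := τ (a * b)) (t' := τ a * (γ a * τ b * (γ a)⁻¹)) (hτ _) (T.mul_mem (hτ a)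
        (conj_mem_of_normalizer (hSnT _ (hQS (hQ₁Q (hγ a)))) (hτ b))) (hγ _) (mul_mem (hγ a) (hγ b)) ?_)
      rw [← hτγ (a * b)]
      show ((a : ↥M) : G) * ((b : ↥M) : G) = τ a * (γ a * τ b * (γ a)⁻¹) * (γ a * γ b)
      rw [hτγ a, hτγ b]; group
    have hxM : x ∈ M := hNM hxN
    set x' : ↥M := ⟨x, hxM⟩ with hx'
    have hx'D : x' ∈ D := Subgroup.mem_subgroupOf.2 ⟨hxS, hxM⟩
    haveI : D.FiniteIndex := Subgroup.finiteIndex_of_finite
    have htr := CfsgLib.Inv.transfer_eq_pow_of_ctrl D ψ (g := x') hx'D fun k g₀ h => by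
      rw [← map_pow]
      have hxk : x' ^ k ∈ D := D.pow_mem hx'D k
      set d : ↥D := ⟨x', hx'D⟩ ^ k
      set e : ↥D := ⟨g₀⁻¹ * x' ^ k * g₀, h⟩
      show π ⟨γ e, hγ e⟩ = π ⟨γ d, hγ d⟩
      set g : G := ((g₀ : ↥M) : G)⁻¹ with hg
      have he : ((e : ↥M) : G) = g * τ d * g⁻¹ * (g * γ d * g⁻¹ * (γ d)⁻¹) * γ d := by
        have : ((d : ↥M) : G) = τ d * γ d := hτγ d
        show (g₀ : G)⁻¹ * (x : G) ^ k * (g₀ : G) = _
        rw [show (x : G) ^ k = ((d : ↥M) : G) from rfl, this, hg]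
        group
      have hgM : g ∈ M := Subgroup.inv_mem _ g₀.2
      have ho : g * γ d * g⁻¹ * (γ d)⁻¹ ∈ O := hgM.2 _ (hQ₁Q (hγ d))
      have hgt : g * τ d * g⁻¹ ∈ T := by
        refine closed_conj hE (hτ d) ?_
        have h1 : g * τ d * g⁻¹ = ((e : ↥M) : G) * (γ d)⁻¹ * (g * γ d * g⁻¹ * (γ d)⁻¹)⁻¹ := by
          rw [he]; group
        rw [h1]
        exact mul_mem (mul_mem (Subgroup.mem_subgroupOf.1 e.2).1 (Subgroup.inv_mem _ (hQS (hQ₁Q (hγ d)))))
          (Subgroup.inv_mem _ (hQS (hOQ ho)))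
      exact hwd (hτ e) (T.mul_mem hgt (hOT ho)) (hγ e) (hγ d) ((hτγ e).symm.trans he)
    have hker : x' ∈ (MonoidHom.transfer ψ).ker := by
      have hV : IsPGroup p (↥Q₁ ⧸ O.subgroupOf Q₁) := (hQp.to_le hQ₁Q).to_quotient _
      have hle : pResidual p ↥M ≤ (MonoidHom.transfer ψ).ker := (Subgroup.closure_le _).2 fun y hy => by
        obtain ⟨k, hk⟩ := hV (MonoidHom.transfer ψ y)
        exact orderOf_eq_one_iff.1 (Nat.eq_one_of_dvd_coprimes (hy.pow_right k)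
          (orderOf_map_dvd (MonoidHom.transfer ψ) y) (orderOf_dvd_of_pow_eq_one hk))
      obtain ⟨y, hy, hye⟩ := hxN
      have hyx : y = x' := Subtype.ext hye
      exact hle (hyx ▸ hy)
    rw [MonoidHom.mem_ker, htr] at hker
    have hidx : ¬ p ∣ D.index := by
      have := PM.not_dvd_index
      rwa [hPM] at this
    obtain ⟨k, hk⟩ := ((hQp.to_le hQ₁Q).to_quotient _) (ψ ⟨x', hx'D⟩)
    have h1 : π ⟨γ ⟨x', hx'D⟩, hγ _⟩ = 1 := orderOf_eq_one_iff.1 (Nat.eq_one_of_dvd_coprimes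
      (((Fact.out : p.Prime).coprime_iff_not_dvd.2 hidx).symm.pow_right k)
      (orderOf_dvd_of_pow_eq_one hker) (orderOf_dvd_of_pow_eq_one hk))
    have h2 : γ ⟨x', hx'D⟩ ∈ O := Subgroup.mem_subgroupOf.1 ((QuotientGroup.eq_one_iff _).1 h1)
    rw [show x = τ ⟨x', hx'D⟩ * γ ⟨x', hx'D⟩ from hτγ ⟨x', hx'D⟩]
    exact T.mul_mem (hτ _) (hOT h2)
  have hsylH : ∃ R : Sylow p H, (R : Subgroup H) = T.subgroupOf H := by
    have h : SylowIn p ((S : Subgroup G) ⊓ H) H :=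
      sylowIn_inf (X := ⊤) ⟨S.subtype le_top, Sylow.coe_subtype _ _⟩ le_top le_top (by rw [Subgroup.normalizer_eq_top])
    rwa [le_antisymm hHS (le_inf hTS hTH)] at h
  have hCH : ∀ c ∈ H, c ∈ Subgroup.centralizer (O : Set G) → c ∈ O := fun c hc hcc => by
    have hcQ : c ∈ pCore p G := hQ₁Q ⟨hHM hc, hcc⟩
    exact ⟨hHS ⟨hQS hcQ, hc⟩, hcQ⟩
  have hrealH : ∀ α ∈ E.autGroup O, ∃ h ∈ H, ∀ x ∈ O, autFun α x = h * x * h⁻¹ := by
    intro α hα
    obtain ⟨m, hm, hme⟩ := hreal α hα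
    obtain ⟨x, hx, y, hy, rfl⟩ := hMeq m hm
    obtain ⟨t, ht, c, hc, rfl⟩ := hSM x hx
    refine ⟨t * y, mul_mem (hTH ht) (Subgroup.mem_sup_left hy), fun z hz => ?_⟩
    have hyz : y * z * y⁻¹ ∈ O := hOn.conj_mem z hz y
    rw [hme z hz, show t * c * y * z * (t * c * y)⁻¹ = t * (c * (y * z * y⁻¹) * c⁻¹) * t⁻¹ by group,
      show c * (y * z * y⁻¹) = y * z * y⁻¹ * c from (hc.2 _ hyz).symm, mul_inv_cancel_right]
    group
  -- the two systems
  have hEH : E ≤ fusionSystemOfSubgroup H T hTH := by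
    refine alperin hTp hsat _ fun P hP => ?_
    obtain ⟨hPc, hPr⟩ := crit_cases hTp hsat hP
    have hPf : E.IsFullyNormalized P := by
      rcases hP with rfl | h
      · exact fullyNormalized_top
      · exact h.2.1
    have hPT := hPc.1
    have hOP : O ≤ P := by
      refine le_of_normalizer_le hTp hPT hOT (fun t _ => by rw [Subgroup.normalizer_eq_top]; trivial)
        fun x hxO hxn => ?_
      obtain ⟨κ, hκ, hκe⟩ := exists_autInducedBy (K := O ⊓ Subgroup.normalizer (P : Set G)) ⟨hxO, hxn⟩ hxn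
      refine mem_of_centric_radical hPc hPr (autInducedBy (O ⊓ Subgroup.normalizer (P : Set G)) P)
        ((autInducedBy_mono (inf_le_left.trans hOT)).trans (autInducedBy_le_autGroup hPT))
        (isPGroup_autInducedBy (hTp.to_le (inf_le_left.trans hOT))) (fun α hα β hβ => ?_) (hOT hxO) hκ hκe
      obtain ⟨a, ⟨haO, han⟩, hae⟩ := mem_autInducedBy.1 hβ
      obtain ⟨g, hg⟩ := subsystem_conj hE ((mem_autGroup hPT).1 hα)
      have hgn : g ∈ Subgroup.normalizer (P : Set G) :=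
        Subgroup.mem_normalizer_fintype fun y hy => hg y hy ▸ autFun_mem α hy
      refine mem_autInducedBy.2 ⟨g * a * g⁻¹, ⟨hOn.conj_mem a haO g,
        mul_mem (mul_mem hgn han) (Subgroup.inv_mem _ hgn)⟩, fun y hy => ?_⟩
      have hy' : autFun α⁻¹ y = g⁻¹ * y * g := by
        have h := autFun_inv_apply α hy
        rw [hg _ (autFun_mem _ hy)] at h
        conv_rhs => rw [← h]
        group
      rw [autFun_conj _ _ hy, hy', hae _ (hy' ▸ autFun_mem _ hy),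
        hg _ (conj_mem_of_normalizer han (hy' ▸ autFun_mem _ hy))]
      group
    haveI := finite_mulAut hPT
    obtain ⟨P₁, hP₁⟩ : ∃ P₁ : Sylow p ↥(E.autGroup P), (P₁ : Subgroup ↥(E.autGroup P)) =
        (autInducedBy T P).subgroupOf (E.autGroup P) := (fullyNormalized_spec hTp hsat hPf).1.2
    set Γ := autInducedBy H P with hΓ
    suffices htop : (⊤ : Subgroup ↥(E.autGroup P)) ≤ Γ.subgroupOf (E.autGroup P) by
      intro α hα
      obtain ⟨h, hh, he⟩ := mem_autInducedBy.1 (Subgroup.mem_subgroupOf.1 (htop (Subgroup.mem_top ⟨α, hα⟩)))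
      exact (mem_autGroup hPT).2 (isMap_ofSubgroup_iff.2 ⟨hPT, h, hh, fun x hx =>
        ⟨he x hx, he x hx ▸ hPT (autFun_mem α hx)⟩⟩)
    rw [← CfsgLib.Solv.sylow_sup_pResidual P₁, hP₁]
    refine sup_le (Subgroup.comap_mono (autInducedBy_mono hTH)) ((Subgroup.closure_le _).2 fun a ha => ?_)
    obtain ⟨g, hg⟩ := subsystem_conj hE ((mem_autGroup hPT).1 a.2)
    have hgn : g ∈ Subgroup.normalizer (P : Set G) :=
      Subgroup.mem_normalizer_fintype fun y hy => hg y hy ▸ autFun_mem _ hy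
    obtain ⟨αO, hαO, hαOe⟩ : ∃ αO ∈ E.autGroup O, ∀ x ∈ O, autFun αO x = g * x * g⁻¹ := by
      haveI := finite_of_le hOT
      have hm : IsMap E O (fun x => g * x * g⁻¹) := (((mem_autGroup hPT).1 a.2).mono hOP).congr fun x hx => hg x (hOP hx)
      exact exists_aut hm (Subgroup.eq_of_le_of_card_ge (img_le_iff.2 fun x hx => hOn.conj_mem x hx g) hm.card_img.ge)
    obtain ⟨h, hh, hhe⟩ := hrealH αO hαO
    set d := h⁻¹ * g with hd
    have hdO : d ∈ Subgroup.centralizer (O : Set G) := fun z hz => by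
      have h3 : h * z * h⁻¹ = g * z * g⁻¹ := (hhe z hz).symm.trans (hαOe z hz)
      calc z * (h⁻¹ * g) = h⁻¹ * (h * z * h⁻¹) * g := by group
        _ = h⁻¹ * g * z := by rw [h3]; group
    have hhn : h ∈ Subgroup.normalizer (P : Set G) := by
      refine Subgroup.mem_normalizer_fintype fun y hy => ?_
      have hgy : g * y * g⁻¹ ∈ P := conj_mem_of_normalizer hgn hy
      have hz : (g * y * g⁻¹)⁻¹ * (h * y * h⁻¹) ∈ O := by
        refine hCH _ (mul_mem (Subgroup.inv_mem _ (hTH (hPT hgy))) (mul_mem (mul_mem hh (hTH (hPT hy)))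
          (Subgroup.inv_mem _ hh))) fun z hz => ?_
        have hz1 : h⁻¹ * z * h ∈ O := by simpa using hOn.conj_mem z hz h⁻¹
        have hz2 : y * (h⁻¹ * z * h) * y⁻¹ ∈ O := hOn.conj_mem _ hz1 y
        have hhg : h * (y * (h⁻¹ * z * h) * y⁻¹) * h⁻¹ = g * (y * (h⁻¹ * z * h) * y⁻¹) * g⁻¹ :=
          (hhe _ hz2).symm.trans (hαOe _ hz2)
        have hhg' : g * (h⁻¹ * z * h) * g⁻¹ = z :=
          ((hαOe _ hz1).symm.trans (hhe _ hz1)).trans (by group)
        calc z * ((g * y * g⁻¹)⁻¹ * (h * y * h⁻¹))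
            = (g * y * g⁻¹)⁻¹ * ((g * y * g⁻¹) * z * (g * y * g⁻¹)⁻¹) * (h * y * h⁻¹) := by group
          _ = (g * y * g⁻¹)⁻¹ * ((g * y * g⁻¹) * (g * (h⁻¹ * z * h) * g⁻¹) * (g * y * g⁻¹)⁻¹) * (h * y * h⁻¹) := by
            rw [hhg']
          _ = (g * y * g⁻¹)⁻¹ * (g * (y * (h⁻¹ * z * h) * y⁻¹) * g⁻¹) * (h * y * h⁻¹) := by group
          _ = (g * y * g⁻¹)⁻¹ * (h * y * h⁻¹) * z := by rw [← hhg]; group
      have h3 := P.mul_mem hgy (hOP hz)
      rwa [mul_inv_cancel_left] at h3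
    have hdn : d ∈ Subgroup.normalizer (P : Set G) := mul_mem (Subgroup.inv_mem _ hhn) hgn
    obtain ⟨k, hk⟩ : ∃ k : ℕ, ∀ z ∈ O, z ^ p ^ k = 1 := by
      obtain ⟨k, hk⟩ := IsPGroup.iff_card.1 (hQp.to_le hOQ)
      exact ⟨k, fun z hz => by
        rw [← hk]; exact congrArg Subtype.val (pow_card_eq_one' (x := (⟨z, hz⟩ : ↥O)))⟩
    -- the difference stabilizes `O ≤ P`
    have hdk : ∀ y ∈ P, d ^ p ^ k * y * (d ^ p ^ k)⁻¹ = y := by
      intro y hy
      set z := d * y * d⁻¹ * y⁻¹ with hzdef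
      have hz : z ∈ O := by
        refine hCH _ (mul_mem (hTH (hPT (conj_mem_of_normalizer hdn hy))) (Subgroup.inv_mem _ (hTH (hPT hy)))) ?_
        intro w hw
        have hw1 : y⁻¹ * w * y ∈ O := by simpa using hOn.conj_mem w hw y⁻¹
        calc w * z = d * w * y * d⁻¹ * y⁻¹ := by
              rw [hzdef, show w * (d * y * d⁻¹ * y⁻¹) = w * d * y * d⁻¹ * y⁻¹ by group, hdO w hw]
          _ = d * y * ((y⁻¹ * w * y) * d⁻¹) * y⁻¹ := by group
          _ = d * y * (d⁻¹ * (y⁻¹ * w * y)) * y⁻¹ := by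
            rw [(Subgroup.inv_mem _ hdO) _ hw1]
          _ = z * w := by rw [hzdef]; group
      have hzd : z * d = d * z := hdO z hz
      have hit : ∀ l : ℕ, d ^ l * y * (d ^ l)⁻¹ = z ^ l * y := by
        intro l
        induction l with
        | zero => simp
        | succ l ih =>
          calc d ^ (l + 1) * y * (d ^ (l + 1))⁻¹ = d * (d ^ l * y * (d ^ l)⁻¹) * d⁻¹ := by rw [pow_succ']; group
            _ = d * z ^ l * d⁻¹ * (d * y * d⁻¹) := by rw [ih]; group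
            _ = z ^ l * (z * y) := by
              rw [((show Commute z d from hzd).pow_left l).eq.symm, mul_inv_cancel_right, hzdef, inv_mul_cancel_right]
            _ = z ^ (l + 1) * y := by rw [pow_succ]; exact (mul_assoc _ _ _).symm
      rw [hit, hk z hz, one_mul]
    have hstep : ∀ l : ℕ, ∃ h' ∈ H, g ^ l = h' * d ^ l := by
      intro l
      induction l with
      | zero => exact ⟨1, H.one_mem, by simp⟩
      | succ l ih =>
        obtain ⟨h', hh', he'⟩ := ih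
        refine ⟨h' * (d ^ l * h * (d ^ l)⁻¹), mul_mem hh' (hTNn.conj_mem h hh _), ?_⟩
        rw [pow_succ, he', pow_succ, show g = h * d by rw [hd]; group]
        group
    obtain ⟨h', hh', he'⟩ := hstep (p ^ k)
    have hpow : ∀ l : ℕ, ∀ y ∈ P, autFun ((a : MulAut P) ^ l) y = g ^ l * y * (g ^ l)⁻¹ := by
      intro l
      induction l with
      | zero => intro y hy; rw [pow_zero, autFun_one hy]; simp
      | succ l ih =>
        intro y hy
        rw [pow_succ, autFun_mul _ _ hy, hg y hy, ih _ (conj_mem_of_normalizer hgn hy), pow_succ]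
        group
    have haΓ : a ^ p ^ k ∈ Γ.subgroupOf (E.autGroup P) := by
      refine Subgroup.mem_subgroupOf.2 (mem_autInducedBy.2 ⟨h', hh', fun y hy => ?_⟩)
      rw [Subgroup.coe_pow, hpow _ y hy, he', show h' * d ^ p ^ k * y * (h' * d ^ p ^ k)⁻¹ =
        h' * (d ^ p ^ k * y * (d ^ p ^ k)⁻¹) * h'⁻¹ by group, hdk y hy]
    exact mem_of_pow_mem (k := orderOf a) haΓ (by rw [pow_orderOf_eq_one]; exact one_mem _)
      ((show (orderOf a).Coprime p from ha).symm.pow_left k)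
  have hHE : fusionSystemOfSubgroup H T hTH ≤ E := by
    refine le_iff.2 fun P f hf => ?_
    obtain ⟨hPT, h, hh, hhe⟩ := isMap_ofSubgroup_iff.1 hf
    obtain ⟨α, hα, hαe⟩ := (hHM hh).1
    have hOf : E.IsFullyNormalized O := ⟨hOT, fun R _ => by
      rw [show normalizerIn T O = T from le_antisymm (normalizerIn_le _) fun t ht =>
        ⟨ht, by rw [Subgroup.normalizer_eq_top]; trivial⟩]
      exact Subgroup.card_le_of_le (normalizerIn_le R)⟩
    obtain ⟨f', hf', hf'e⟩ := extend (receptive_of_fullyCentralized hTp hsat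
      (fullyCentralized_of_fullyNormalized hTp hsat hOf)) ((mem_autGroup hOT).1 hα) (img_autFun α) (N := P)
      fun g hg => ⟨hPT hg, by rw [Subgroup.normalizer_eq_top]; trivial, h * g * h⁻¹, (hhe g hg).2, fun z hz => by
        rw [hαe z hz, hαe _ (hOn.conj_mem z hz g)]; group⟩
    obtain ⟨-, g', hg', hg'e⟩ := isMap_ofSubgroup_iff.1 (le_iff.1 hEH _ _ hf')
    set c := h⁻¹ * g' with hc
    have hcO : c ∈ O := by
      refine hCH c (mul_mem (Subgroup.inv_mem _ hh) hg') fun z hz => ?_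
      have h3 : h * z * h⁻¹ = g' * z * g'⁻¹ :=
        (hαe z hz).symm.trans ((hf'e z hz).symm.trans (hg'e z (Subgroup.mem_sup_left hz)).1)
      calc z * (h⁻¹ * g') = h⁻¹ * (h * z * h⁻¹) * g' := by group
        _ = h⁻¹ * g' * z := by rw [h3]; group
    have hmem : ∀ x ∈ P, conjF c⁻¹ x ∈ O ⊔ P := fun x hx =>
      mul_mem (mul_mem (Subgroup.mem_sup_left (O.inv_mem hcO)) (Subgroup.mem_sup_right hx))
        (Subgroup.inv_mem _ (Subgroup.mem_sup_left (O.inv_mem hcO)))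
    refine ((IsMap.conj E hPT (T.inv_mem (hOT hcO))).comp hf' hmem).congr fun x hx => ?_
    rw [Function.comp_apply, (hg'e _ (hmem x hx)).1, (hhe x hx).1, conjF_apply, hc]
    group
  refine ⟨H, ⟨hTH, inferInstance, hsylH, fun P => le_antisymm (hEH P) (hHE P)⟩, ?_⟩
  -- uniqueness
  rintro H' ⟨hTH', hH'n, ⟨R', hR'⟩, hHom⟩
  have hE' : E = fusionSystemOfSubgroup H' T hTH' := system_ext hHom
  have hT'max : ∀ K : Subgroup G, K ≤ H' → IsPGroup p K → T ≤ K → K = T := fun K hK hKp hTK =>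
    sylowIn_max ⟨R', hR'⟩ hTH' hTK hK hKp
  have hH'M : H' ≤ M := by
    intro h hh
    refine ⟨?_, fun q hq => ?_⟩
    · haveI := finite_of_le hOT
      have hm : IsMap E O (conjF h) := by
        rw [hE']
        exact isMap_ofSubgroup_iff.2 ⟨hOT, h, hh, fun x hx => ⟨rfl, hOT (hOn.conj_mem x hx h)⟩⟩
      exact exists_aut hm (Subgroup.eq_of_le_of_card_ge (img_le_iff.2 fun x hx => hOn.conj_mem x hx h) hm.card_img.ge)
    · have hu : h * q * h⁻¹ * q⁻¹ ∈ pCore p G ⊓ H' := ⟨mul_mem (hQn.conj_mem q hq h) (Subgroup.inv_mem _ hq),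
        by rw [show h * q * h⁻¹ * q⁻¹ = h * (q * h⁻¹ * q⁻¹) by group]
           exact mul_mem hh (hH'n.conj_mem _ (Subgroup.inv_mem _ hh) q)⟩
      have hKp : IsPGroup p ↥(T ⊔ (pCore p G ⊓ H') : Subgroup G) := hS.to_le (sup_le hTS (inf_le_left.trans hQS))
      have hK := hT'max _ (sup_le hTH' inf_le_right) hKp le_sup_left
      exact ⟨hK.le (Subgroup.mem_sup_right hu), hu.1⟩
  have hS'T : ∀ x ∈ (S : Subgroup G) ⊓ H', x ∈ T := fun x hx =>
    (hT'max _ inf_le_right (hS.to_le inf_le_left) (le_inf hTS hTH')).le hx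
  have hNH' : N ≤ H' := by
    rw [hNdef, Subgroup.map_le_iff_le_comap]
    refine (Subgroup.closure_le _).2 fun m hm => ?_
    show (m : G) ∈ H'
    obtain ⟨α, hα, hαe⟩ := m.2.1
    have hm' := (mem_autGroup hOT).1 hα
    rw [hE'] at hm'
    obtain ⟨-, h, hh, hhe⟩ := isMap_ofSubgroup_iff.1 hm'
    have hc : h⁻¹ * (m : G) ∈ Q₁ := ⟨mul_mem (Subgroup.inv_mem _ (hH'M hh)) m.2, fun z hz => by
      have h3 : h * z * h⁻¹ = m * z * (m : G)⁻¹ := ((hhe z hz).1).symm.trans (hαe z hz)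
      calc z * (h⁻¹ * m) = h⁻¹ * (h * z * h⁻¹) * m := by group
        _ = h⁻¹ * m * z := by rw [h3]; group⟩
    let π := QuotientGroup.mk' H'
    obtain ⟨k, hk⟩ := hQp ⟨_, hQ₁Q hc⟩
    have hπ : π (m : G) = π (h⁻¹ * m) := by
      rw [map_mul, map_inv, show π h = 1 from (QuotientGroup.eq_one_iff _).2 hh, inv_one, one_mul]
    refine (QuotientGroup.eq_one_iff _).1 (orderOf_eq_one_iff.1 (Nat.eq_one_of_dvd_coprimes
      (Nat.Coprime.pow_right k ((Subgroup.orderOf_coe m).symm ▸ (show (orderOf m).Coprime p from hm)))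
      (orderOf_map_dvd π (m : G)) (orderOf_dvd_of_pow_eq_one ?_)))
    show π (m : G) ^ p ^ k = 1
    rw [hπ, ← map_pow, show (h⁻¹ * (m : G)) ^ p ^ k = 1 from congrArg Subtype.val hk, map_one]
  refine le_antisymm (fun h hh => ?_) (sup_le hNH' hTH')
  obtain ⟨x, hx, y, hy, rfl⟩ := hMeq h (hH'M hh)
  have hxH' : x ∈ H' := by simpa using mul_mem hh (Subgroup.inv_mem _ (hNH' hy))
  exact mul_mem (hTH (hS'T x ⟨hx.1, hxH'⟩)) (Subgroup.mem_sup_left hy)

end CfsgLib.Fus.NormalModel
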