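import Cfsg.Agent.OddLocal.TransHyp

/-!
The transitivity theorem when the `p`-local subgroups are solvable.
-/

set_option autoImplicit false
set_option linter.style.haveILetI false
set_option linter.unusedSectionVars false

open Cfsg CfsgLib.Solv CfsgLib.OddLocal.TransHyp
open scoped commutatorElement

namespace CfsgLib.Fus.OddTrans

variable {G : Type*} [Group G] [Finite G] {p : ℕ} [hp : Fact p.Prime]

theorem scn_le_core (hodd : Odd (Nat.card G)) (hp2 : p ≠ 2) (P : Sylow p G) {A : Subgroup G}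
    (hA : IsSCN (P : Subgroup G) A) (hAc : IsMulCommutative A) (hr : ¬ PRankLE p 1 A)
    (hsol : ∀ b ∈ A, b ≠ 1 → Group.IsSolvable (Subgroup.centralizer ({b} : Set G)))
    {X : Subgroup G} [Group.IsSolvable X] (hAX : A ≤ X)
    {Y : Subgroup G} (hYX : Y ≤ X) (hY : (Nat.card Y).Coprime p)
    (hAY : A ≤ Subgroup.normalizer (Y : Set G)) : Y ≤ (pPrimeCore p X).map X.subtype := by
  obtain ⟨hAP, hPN, -⟩ := id hA
  have hAp : IsPGroup p A := P.isPGroup'.to_le hAP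
  -- a normal elementary subgroup of order `p ^ 2`
  have hnc : ¬ IsCyclic A := by
    intro hcyc
    refine hr fun E hE hEp => ?_
    haveI : IsCyclic E := Subgroup.isCyclic E
    rw [pow_one, ← IsCyclic.exponent_eq_card]
    exact Nat.le_of_dvd hp.out.pos (Monoid.exponent_dvd_of_forall_pow_eq_one fun x =>
      Subtype.ext (hEp x x.2))
  haveI hAPn : (A.subgroupOf (P : Subgroup G)).Normal := Subgroup.normal_subgroupOf_of_le_normalizer hPN
  obtain ⟨B₀, hB₀A, hB₀n, hB₀e, hB₀c⟩ := exists_normal_rank_two_le hp2 P.isPGroup'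
    (A.subgroupOf (P : Subgroup G))
    (fun h => hnc ((Subgroup.subgroupOfEquivOfLe hAP).isCyclic.1 h))
  haveI := hB₀n
  set B := B₀.map (P : Subgroup G).subtype with hB
  have hBA : B ≤ A := (Subgroup.map_mono hB₀A).trans (Subgroup.map_subgroupOf_eq_of_le hAP).le
  have hBP : B ≤ P := Subgroup.map_subtype_le _
  have hBcard : Nat.card B = p ^ 2 := by rw [hB, card_map_subtype, hB₀c]
  have hB₀1 : B₀ ≠ ⊥ := fun e => by
    rw [e, Subgroup.card_bot] at hB₀c
    exact (Nat.one_lt_pow two_ne_zero hp.out.one_lt).ne hB₀c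
  obtain ⟨z₀, hz₀, hz₀1⟩ := (B₀ ⊓ Subgroup.center (P : Subgroup G)).bot_or_exists_ne_one.resolve_left
    (CfsgLib.Perm.inf_center_ne_bot P.isPGroup' B₀ hB₀1)
  set z : G := (z₀ : G)
  have hz1 : z ≠ 1 := fun e => hz₀1 (Subtype.ext e)
  have hzB : z ∈ B := Subgroup.mem_map_of_mem _ hz₀.1
  have hPz : (P : Subgroup G) ≤ Subgroup.centralizer ({z} : Set G) := fun x hx =>
    Subgroup.mem_centralizer_singleton_iff.2
      (congrArg Subtype.val (Subgroup.mem_center_iff.1 hz₀.2 ⟨x, hx⟩))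
  have hpow : ∀ b ∈ B, ∃ k : ℕ, b ^ p ^ k = 1 := fun b hb => by
    obtain ⟨k, hk⟩ := hAp ⟨b, hBA hb⟩
    exact ⟨k, congrArg Subtype.val hk⟩
  set Hz := Subgroup.centralizer ({z} : Set G)
  haveI := hsol z (hBA hzB) hz1
  have hoddOf : ∀ H : Subgroup G, Odd (Nat.card H) := fun H => hodd.of_dvd_nat H.card_subgroup_dvd_card
  -- invariant subgroups of `C(z)`
  have hzcase : ∀ U : Subgroup G, U ≤ Hz → (Nat.card U).Coprime p →
      A ≤ Subgroup.normalizer (U : Set G) → U ≤ (pPrimeCore p Hz).map Hz.subtype := by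
    intro U hUH hU hAU
    have hAH : A ≤ Hz := hAP.trans hPz
    set PH : Sylow p Hz := P.subtype hPz
    have hAR : A.subgroupOf Hz ≤ pPrimePCore p Hz := subgroupOf_le (hoddOf Hz) PH
      (by rw [P.coe_subtype, Subgroup.map_subgroupOf_eq_of_le hPz]; exact hAP) hAc
      (by rw [P.coe_subtype, Subgroup.map_subgroupOf_eq_of_le hPz]; exact hPN)
    have h := le_pPrimeCore_of_test (hAp.comap_of_injective Hz.subtype Hz.subtype_injective) hAR
      (Y := U.subgroupOf Hz) (by rwa [card_subgroupOf hUH]) (subgroupOf_normalizer hAU hUH)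
      (Or.inl fun S hAS s hs => by
        obtain ⟨j, hj⟩ := S.isPGroup' ⟨s, hs.1⟩
        refine Subgroup.mem_subgroupOf.2 (full_of_scn P hA (Subgroup.mem_centralizer_iff.2 fun a ha => ?_)
          ⟨j, congrArg (fun t : (S : Subgroup Hz) => ((t : Hz) : G)) hj⟩)
        exact congrArg Subtype.val (Subgroup.mem_centralizer_iff.1 hs.2 ⟨a, hAH ha⟩
          (Subgroup.mem_subgroupOf.2 ha)))
    intro y hy
    exact ⟨⟨y, hUH hy⟩, h (Subgroup.mem_subgroupOf.2 hy), rfl⟩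
  -- invariant subgroups of `C(b)`
  have hbcase : ∀ b ∈ B, b ≠ 1 → ∀ U : Subgroup G, U ≤ Subgroup.centralizer ({b} : Set G) →
      (Nat.card U).Coprime p → A ≤ Subgroup.normalizer (U : Set G) →
      U ≤ (pPrimeCore p (Subgroup.centralizer ({b} : Set G))).map
        (Subgroup.centralizer ({b} : Set G)).subtype := by
    intro b hb hb1 U hUH hU hAU
    set H := Subgroup.centralizer ({b} : Set G)
    haveI := hsol b (hBA hb) hb1
    set T := (P : Subgroup G) ⊓ H with hT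
    have hidx : Nat.card (P : Subgroup G) ∣ p * Nat.card T := by
      have h1 := index_centralizer_normal_sq P.isPGroup' B₀ hB₀c
      obtain ⟨b₀, hb₀, hbe⟩ := hb
      have h2 : Subgroup.centralizer (B₀ : Set (P : Subgroup G)) ≤ H.subgroupOf (P : Subgroup G) :=
        fun x hx => Subgroup.mem_subgroupOf.2 (Subgroup.mem_centralizer_singleton_iff.2 (by
          rw [← hbe]; exact congrArg Subtype.val (Subgroup.mem_centralizer_iff.1 hx b₀ hb₀).symm))
      have h3 := (Subgroup.index_dvd_of_le h2).trans h1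
      have e : Nat.card (H.subgroupOf (P : Subgroup G)) = Nat.card T := by
        rw [hT, ← card_map_subtype _ (H.subgroupOf (P : Subgroup G)),
          Subgroup.subgroupOf_map_subtype, inf_comm]
      rw [← Subgroup.index_mul_card (H.subgroupOf (P : Subgroup G)), e]
      exact mul_dvd_mul h3 dvd_rfl
    obtain ⟨S, hS⟩ := (P.isPGroup'.to_le (inf_le_left : T ≤ P) : IsPGroup p T).comap_of_injective
      H.subtype H.subtype_injective |>.exists_le_sylow
    set S' := (S : Subgroup H).map H.subtype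
    have hTS : T ≤ S' := fun t ht => ⟨⟨t, ht.2⟩, hS (Subgroup.mem_subgroupOf.2 ht), rfl⟩
    have hSN : S' ≤ Subgroup.normalizer (T : Set G) := by
      refine le_normalizer_of_relIndex (S.isPGroup'.map _) hTS (dvd_trans ?_ hidx)
      obtain ⟨Q, hQ⟩ := (S.isPGroup'.map H.subtype : IsPGroup p S').exists_le_sylow
      exact (Subgroup.card_dvd_of_le hQ).trans (dvd_of_eq ((Q.card_eq_multiplicity).trans
        P.card_eq_multiplicity.symm))
    obtain ⟨hn, hc, hle⟩ := sup_zpowers_normal_abelian hTS hSN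
    have hAH : A ≤ H := fun a ha => Subgroup.mem_centralizer_singleton_iff.2
      (congrArg Subtype.val (hAc.is_comm.comm ⟨a, ha⟩ ⟨b, hBA hb⟩))
    have hzT : z ∈ T ⊓ Subgroup.centralizer (T : Set G) := ⟨⟨hBP hzB, hAH (hBA hzB)⟩,
      Subgroup.mem_centralizer_iff.2 fun t ht => Subgroup.mem_centralizer_singleton_iff.1 (hPz ht.1)⟩
    have hzR : (Subgroup.zpowers z).subgroupOf H ≤ pPrimePCore p H :=
      (Subgroup.comap_mono (Subgroup.zpowers_le.2 hzT)).trans (subgroupOf_le (hoddOf H) S hle hc hn)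
    haveI := pPrimeCore_normal H p
    set f := QuotientGroup.mk' (pPrimeCore p H)
    have hAzU : Subgroup.zpowers z ≤ Subgroup.normalizer (U : Set G) :=
      (Subgroup.zpowers_le.2 (hBA hzB)).trans hAU
    have hcz := map_le_centralizer hzR (Y := U.subgroupOf H) (by rwa [card_subgroupOf hUH])
      (subgroupOf_normalizer hAzU hUH)
    set O := (pPrimeCore p H).map H.subtype
    have hcop : (Nat.card (Subgroup.zpowers z)).Coprime (Nat.card U) := by
      obtain ⟨k, hk⟩ := hpow z hzB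
      exact (hU.symm.pow_left k).coprime_dvd_left
        (by rw [Nat.card_zpowers]; exact orderOf_dvd_of_pow_eq_one hk)
    haveI : IsMulCommutative (Subgroup.zpowers z) := inferInstance
    suffices hsup : ⁅U, Subgroup.zpowers z⁆ ⊔
        (U ⊓ Subgroup.centralizer ((Subgroup.zpowers z : Subgroup G) : Set G)) ≤ O by
      intro u hu
      obtain ⟨x, hx, c, hc', rfl⟩ := commutator_sup_inf_centralizer hAzU hcop
        (Or.inl (isSolvable_of_isMulCommutative _)) u hu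
      exact hsup (Subgroup.mul_mem_sup hx hc')
    refine sup_le ?_ fun u hu => ?_
    · rw [Subgroup.commutator_le]
      intro u hu w hw
      have hwH : w ∈ H := (Subgroup.zpowers_le.2 (hAH (hBA hzB))) hw
      have h1 := Subgroup.mem_centralizer_iff.1 (hcz (Subgroup.mem_map_of_mem f
        (show (⟨u, hUH hu⟩ : H) ∈ U.subgroupOf H from Subgroup.mem_subgroupOf.2 hu))) (f ⟨w, hwH⟩)
        (Subgroup.mem_map_of_mem f (Subgroup.mem_subgroupOf.2 hw))
      refine ⟨⁅(⟨u, hUH hu⟩ : H), ⟨w, hwH⟩⁆, (QuotientGroup.eq_one_iff _).1 ?_, rfl⟩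
      show f ⁅(⟨u, hUH hu⟩ : H), ⟨w, hwH⟩⁆ = 1
      rw [map_commutatorElement, commutatorElement_eq_one_iff_mul_comm]
      exact h1.symm
    · obtain ⟨hu1, hu2⟩ := Subgroup.mem_inf.1 hu
      have hAUz : A ≤ Subgroup.normalizer ((U ⊓ Hz : Subgroup G) : Set G) :=
        le_normalizer_inf_of_le hAU ((hAP.trans hPz).trans Subgroup.le_normalizer)
      have h1 := hzcase (U ⊓ Hz) inf_le_right
        (hU.coprime_dvd_left (Subgroup.card_dvd_of_le inf_le_left)) hAUz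
        ⟨hu1, Subgroup.mem_centralizer_singleton_iff.2
          (Subgroup.mem_centralizer_iff.1 hu2 z (Subgroup.mem_zpowers z)).symm⟩
      exact balance_le (hAH (hBA hzB)) (hpow z hzB) ⟨h1, hUH hu1⟩
  haveI : IsMulCommutative B := ⟨⟨fun a b => Subtype.ext (congrArg (fun w : A => (w : G))
    (hAc.is_comm.comm ⟨a, hBA a.2⟩ ⟨b, hBA b.2⟩))⟩⟩
  have hBnc : ¬ IsCyclic B := by
    intro h
    have h1 : Monoid.exponent B ∣ p := by
      refine Monoid.exponent_dvd_of_forall_pow_eq_one fun x => ?_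
      obtain ⟨w, hw, hwe⟩ := x.2
      refine Subtype.ext ?_
      rw [Subgroup.coe_pow, ← hwe, ← map_pow, hB₀e.2 w hw, map_one]; rfl
    rw [IsCyclic.exponent_eq_card, hBcard] at h1
    have := Nat.le_of_dvd hp.out.pos h1
    nlinarith [hp.out.two_le]
  refine le_of_noncyclic_centralizers hBnc (hBA.trans hAY) ?_ fun b hb hb1 => ?_
  · rw [hBcard]; exact hY.symm.pow_left 2
  have hAb : A ≤ Subgroup.centralizer ({b} : Set G) := fun a ha =>
    Subgroup.mem_centralizer_singleton_iff.2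
      (congrArg Subtype.val (hAc.is_comm.comm ⟨a, ha⟩ ⟨b, hBA hb⟩))
  have h1 := hbcase b hb hb1 (Y ⊓ Subgroup.centralizer ({b} : Set G)) inf_le_right
    (hY.coprime_dvd_left (Subgroup.card_dvd_of_le inf_le_left))
    (le_normalizer_inf_of_le hAY (hAb.trans Subgroup.le_normalizer))
  exact (le_inf h1 (inf_le_left.trans hYX)).trans (balance_le (hAX (hBA hb)) (hpow b hb))


theorem conj_map (g h : G) (U : Subgroup G) :
    (U.map (MulAut.conj h).toMonoidHom).map (MulAut.conj g).toMonoidHom = U.map (MulAut.conj (g * h)).toMonoidHom := by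
  rw [Subgroup.map_map, map_mul]; rfl

theorem transitivity (hodd : Odd (Nat.card G)) (P : Sylow p G) {B : Subgroup G}
    (hA : IsSCN (P : Subgroup G) B) (hBa : IsMulCommutative B) {E : Subgroup G} (hEB : E ≤ B)
    (hE : IsElementaryAbelian p E) (hE3 : p ^ 3 ≤ Nat.card E)
    (hsol : ∀ b ∈ B, b ≠ 1 → Group.IsSolvable (Subgroup.centralizer ({b} : Set G)))
    {q : ℕ} [hq : Fact q.Prime] (hqp : q ≠ p) {Q₁ Q₂ : Subgroup G}
    (h₁ : IsPGroup q Q₁ ∧ B ≤ Subgroup.normalizer (Q₁ : Set G) ∧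
      ∀ R : Subgroup G, IsPGroup q R → B ≤ Subgroup.normalizer (R : Set G) → Q₁ ≤ R → R = Q₁)
    (h₂ : IsPGroup q Q₂ ∧ B ≤ Subgroup.normalizer (Q₂ : Set G) ∧
      ∀ R : Subgroup G, IsPGroup q R → B ≤ Subgroup.normalizer (R : Set G) → Q₂ ≤ R → R = Q₂) :
    ∃ c ∈ Subgroup.centralizer (B : Set G), Q₂ = Q₁.map (MulAut.conj c).toMonoidHom := by
  classical
  let M : Subgroup G → Prop := fun Q => IsPGroup q Q ∧ B ≤ Subgroup.normalizer (Q : Set G) ∧
      ∀ R : Subgroup G, IsPGroup q R → B ≤ Subgroup.normalizer (R : Set G) → Q ≤ R → R = Q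
  have hp2 : p ≠ 2 := by
    rintro rfl
    have h1 : (2 : ℕ) ∣ Nat.card G := ((dvd_pow_self 2 (by norm_num : (1:ℕ) ≠ 0)).trans (by
      obtain ⟨n, hn⟩ := Sig.card_eq_pow hE
      rw [pow_one]
      have : n ≠ 0 := fun h => by rw [h, pow_zero] at hn; omega
      exact (dvd_pow_self 2 this).trans hn.symm.dvd)).trans E.card_subgroup_dvd_card
    exact (Nat.not_even_iff_odd.2 hodd) (even_iff_two_dvd.2 h1)
  have hr : ¬ PRankLE p 1 B := by
    intro h
    have := h (E.subgroupOf B) ⟨⟨fun a b => Subtype.ext (Subtype.ext (congrArg (fun w : E => (w : G))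
      (hE.1.is_comm.comm ⟨((a : B) : G), a.2⟩ ⟨((b : B) : G), b.2⟩)))⟩⟩
      (fun x hx => Subtype.ext (hE.2 (x : G) hx))
    rw [card_subgroupOf hEB, pow_one] at this
    have h3 : p < p ^ 3 := by
      calc p = p ^ 1 := (pow_one p).symm
        _ < _ := Nat.pow_lt_pow_right hp.out.one_lt (by norm_num)
    omega
  have hpc : ∀ {U : Subgroup G}, IsPGroup q U → (Nat.card U).Coprime p := fun {U} hU => by
    obtain ⟨n, hn⟩ := IsPGroup.iff_card.1 hU
    rw [hn]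
    exact ((Nat.coprime_primes hq.out hp.out).2 hqp).pow_left n
  have hconjM : ∀ c ∈ Subgroup.centralizer (B : Set G), ∀ U, M U → M (U.map (MulAut.conj c).toMonoidHom) := by
    have hn : ∀ c ∈ Subgroup.centralizer (B : Set G), ∀ U : Subgroup G, B ≤ Subgroup.normalizer (U : Set G) →
        B ≤ Subgroup.normalizer ((U.map (MulAut.conj c).toMonoidHom : Subgroup G) : Set G) := by
      intro c hc U hU
      rw [le_normalizer_iff_forall_conj_mem] at hU ⊢
      rintro b hb _ ⟨u, hu, rfl⟩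
      refine ⟨b * u * b⁻¹, hU b hb u hu, ?_⟩
      have hcb : Commute c b := (Subgroup.mem_centralizer_iff.1 hc b hb).symm
      show c * (b * u * b⁻¹) * c⁻¹ = b * (c * u * c⁻¹) * b⁻¹
      calc _ = (c * b) * u * (c * b)⁻¹ := by group
        _ = _ := by rw [hcb.eq]; group
    intro c hc U hU
    refine ⟨hU.1.map _, hn c hc U hU.2.1, fun R hR hRn hle => ?_⟩
    have := hU.2.2 (R.map (MulAut.conj c⁻¹).toMonoidHom) (hR.map _) (hn _ (inv_mem hc) R hRn) (fun u hu =>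
      ⟨c * u * c⁻¹, hle ⟨u, hu, rfl⟩, by simp [mul_assoc]⟩)
    rw [← this, conj_map, mul_inv_cancel]
    ext x; simp
  have hmax : ∀ U : Subgroup G, IsPGroup q U → B ≤ Subgroup.normalizer (U : Set G) → ∃ X, M X ∧ U ≤ X := by
    intro U hU hUn
    obtain ⟨X, hUX, hX⟩ := Finite.exists_le_maximal
      (p := fun R : Subgroup G => IsPGroup q R ∧ B ≤ Subgroup.normalizer (R : Set G)) (a := U) ⟨hU, hUn⟩
    exact ⟨X, ⟨hX.1.1, hX.1.2, fun R hR hRn hle => (hX.eq_of_le ⟨hR, hRn⟩ hle).symm⟩, hUX⟩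
  by_contra hcon
  obtain ⟨D, ⟨X₁, X₂, hX₁, hX₂, hX, rfl⟩, hmaxD⟩ := (Set.toFinite {D : Subgroup G | ∃ X₁ X₂,
    M X₁ ∧ M X₂ ∧ (¬ ∃ c ∈ Subgroup.centralizer (B : Set G), X₂ = X₁.map (MulAut.conj c).toMonoidHom) ∧
      D = X₁ ⊓ X₂}).exists_maximal ⟨_, Q₁, Q₂, h₁, h₂, hcon, rfl⟩
  set D := X₁ ⊓ X₂ with hD
  have hBD : B ≤ Subgroup.normalizer (D : Set G) := le_normalizer_inf_of_le hX₁.2.1 hX₂.2.1
  have hne : X₁ ≠ X₂ := fun e => hX ⟨1, one_mem _, by rw [← e]; ext x; simp⟩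
  haveI := hE.1
  have hlt : ∀ Z, M Z → D ≤ Z → D ≠ Z → ∃ B₀, B₀ ≤ E ∧ (∃ a ∈ E, B₀ ⊔ Subgroup.zpowers a = E) ∧
      ∃ x ∈ Z ⊓ Subgroup.normalizer (D : Set G) ⊓ Subgroup.centralizer (B₀ : Set G), x ∉ D := by
    intro Z hZ hDZ hneZ
    by_contra hno
    push Not at hno
    have hN : Z ⊓ Subgroup.normalizer (D : Set G) ≤ D := by
      refine le_of_cocyclic_centralizers (A := E) (le_normalizer_inf_of_le (hEB.trans hZ.2.1)
        ((hEB.trans hBD).trans Subgroup.le_normalizer)) ?_ fun B₀ hB₀ hc x hx => hno B₀ hB₀ hc x hx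
      obtain ⟨n, hn⟩ := Sig.card_eq_pow hE
      rw [hn]
      exact ((hpc (hZ.1.to_le inf_le_left)).symm).pow_left n
    exact (CfsgLib.OddLocal.Trans.lt_inf_normalizer hZ.1 (lt_of_le_of_ne hDZ hneZ)).not_ge hN
  obtain ⟨B₁, hB₁, c₁, x₁, hx₁, hx₁D⟩ := hlt X₁ hX₁ inf_le_left fun e =>
    hne ((hX₁.2.2 X₂ hX₂.1 hX₂.2.1 (e ▸ inf_le_right)).symm)
  obtain ⟨B₂, hB₂, c₂, x₂, hx₂, hx₂D⟩ := hlt X₂ hX₂ inf_le_right fun e =>
    hne (hX₂.2.2 X₁ hX₁.1 hX₁.2.1 (e ▸ inf_le_left))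
  obtain ⟨b, hb, hb1⟩ := (B₁ ⊓ B₂).bot_or_exists_ne_one.resolve_left (Sig.inf_ne_bot_of_cocyclic hE hE3 hB₁ hB₂ c₁ c₂)
  set C := Subgroup.centralizer ({b} : Set G)
  haveI := hsol b (hEB (hB₁ hb.1)) hb1
  have hBC : B ≤ C := fun a ha => Subgroup.mem_centralizer_singleton_iff.2
    (congrArg Subtype.val (hBa.is_comm.comm ⟨a, ha⟩ ⟨b, hEB (hB₁ hb.1)⟩))
  set O := (Cfsg.pPrimeCore p ↥C).map C.subtype
  have hBO : B ≤ Subgroup.normalizer (O : Set G) := by
    rw [le_normalizer_iff_forall_conj_mem]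
    rintro a ha _ ⟨o, ho, rfl⟩
    exact ⟨⟨a, hBC ha⟩ * o * ⟨a, hBC ha⟩⁻¹, (pPrimeCore_normal C p).conj_mem o ho _, rfl⟩
  set H := O ⊓ Subgroup.normalizer (D : Set G)
  have hBH : B ≤ Subgroup.normalizer (H : Set G) := le_normalizer_inf_of_le hBO (hBD.trans Subgroup.le_normalizer)
  have hcop : (Nat.card B).Coprime (Nat.card H) := by
    obtain ⟨n, hn⟩ := IsPGroup.iff_card.1 (P.isPGroup'.to_le hA.1)
    rw [hn]
    refine (Nat.Coprime.coprime_dvd_left (Subgroup.card_dvd_of_le (inf_le_left : H ≤ O)) ?_).symm.pow_left n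
    exact card_map_coprime (pPrimeCore_coprime C p)
  haveI := hBa
  have hs : Group.IsSolvable B ∨ Group.IsSolvable H := Or.inl (isSolvable_of_isMulCommutative B)
  have hT : ∀ {Z B₀ : Subgroup G}, M Z → b ∈ B₀ →
      let T := Z ⊓ Subgroup.normalizer (D : Set G) ⊓ C
      T ≤ H ∧ IsPGroup q T ∧ B ≤ Subgroup.normalizer (T : Set G) ∧
        ∀ x ∈ Z ⊓ Subgroup.normalizer (D : Set G) ⊓ Subgroup.centralizer (B₀ : Set G), x ∈ T := by
    intro Z B₀ hZ hb₀
    refine ⟨le_inf ?_ (inf_le_left.trans inf_le_right), hZ.1.to_le (inf_le_left.trans inf_le_left), ?_, ?_⟩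
    · exact scn_le_core hodd hp2 P hA hBa hr hsol hBC inf_le_right
        (hpc (hZ.1.to_le (inf_le_left.trans inf_le_left)))
        (le_normalizer_inf_of_le (le_normalizer_inf_of_le hZ.2.1 (hBD.trans Subgroup.le_normalizer))
          (hBC.trans Subgroup.le_normalizer))
    · exact le_normalizer_inf_of_le (le_normalizer_inf_of_le hZ.2.1 (hBD.trans Subgroup.le_normalizer))
        (hBC.trans Subgroup.le_normalizer)
    · intro x hx
      exact Subgroup.mem_inf.2 ⟨(Subgroup.mem_inf.1 hx).1, Subgroup.mem_centralizer_singleton_iff.2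
        (Subgroup.mem_centralizer_iff.1 (Subgroup.mem_inf.1 hx).2 b hb₀).symm⟩
  obtain ⟨hT₁H, hT₁q, hT₁n, hT₁m⟩ := hT hX₁ hb.1
  obtain ⟨hT₂H, hT₂q, hT₂n, hT₂m⟩ := hT hX₂ hb.2
  obtain ⟨R₁, hTR₁, hR₁n⟩ := exists_invariant_sylow_ge (p := q) hBH hcop hs hT₁H hT₁q hT₁n
  obtain ⟨R₂, hTR₂, hR₂n⟩ := exists_invariant_sylow_ge (p := q) hBH hcop hs hT₂H hT₂q hT₂n
  obtain ⟨c, hcB, hc⟩ := invariant_sylow_conj hBH hcop hs R₁ R₂ hR₁n hR₂n
  have hcD : (c : G) ∈ Subgroup.normalizer (D : Set G) := (Subgroup.mem_inf.1 c.2).2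
  set R := (R₂ : Subgroup H).map H.subtype
  have hRH : R ≤ H := Subgroup.map_subtype_le _
  have hRq : IsPGroup q (D ⊔ R : Subgroup G) := by
    rw [sup_comm]
    exact (R₂.2.map H.subtype).to_sup_of_normal_right' (hX₁.1.to_le inf_le_left) (hRH.trans inf_le_right)
  have hRn : B ≤ Subgroup.normalizer ((D ⊔ R : Subgroup G) : Set G) := fun a ha =>
    mem_normalizer_of_conj_smul_eq (by
      rw [conj_smul_eq_map, Subgroup.map_sup, ← conj_smul_eq_map, ← conj_smul_eq_map,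
        conj_smul_eq_self_of_mem_normalizer (hBD ha), conj_smul_eq_self_of_mem_normalizer (hR₂n ha)])
  obtain ⟨X₃, hX₃, hle₃⟩ := hmax _ hRq hRn
  have hbig : ∀ Y₁ Y₂ : Subgroup G, M Y₁ → M Y₂ → D ≤ Y₁ ⊓ Y₂ → (∃ x ∈ Y₁ ⊓ Y₂, x ∉ D) →
      ∃ c ∈ Subgroup.centralizer (B : Set G), Y₂ = Y₁.map (MulAut.conj c).toMonoidHom := by
    intro Y₁ Y₂ hY₁ hY₂ hle ⟨x, hx, hxD⟩
    by_contra hno
    exact hxD ((hmaxD ⟨Y₁, Y₂, hY₁, hY₂, hno, rfl⟩ hle) hx)
  have hRX₃ : R ≤ X₃ := le_sup_right.trans hle₃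
  have hDX₃ : D ≤ X₃ := le_sup_left.trans hle₃
  obtain ⟨d, hd, hde⟩ := hbig X₃ X₂ hX₃ hX₂ (le_inf hDX₃ inf_le_right)
    ⟨x₂, Subgroup.mem_inf.2 ⟨hRX₃ (hTR₂ (hT₂m x₂ hx₂)), (Subgroup.mem_inf.1 (Subgroup.mem_inf.1 hx₂).1).1⟩, hx₂D⟩
  have hcx : (c : G) * x₁ * (c : G)⁻¹ ∈ R := by
    obtain ⟨u, hu, hue⟩ := hTR₁ (hT₁m x₁ hx₁)
    refine ⟨c * u * c⁻¹, ?_, by show (c : G) * (u : G) * (c : G)⁻¹ = _; rw [show (u : G) = x₁ from hue]⟩
    rw [← hc, Sylow.coe_subgroup_smul]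
    exact mem_conj_smul_iff.2 (by rw [show c⁻¹ * (c * u * c⁻¹) * c = u by group]; exact hu)
  have hcxD : (c : G) * x₁ * (c : G)⁻¹ ∉ D := fun hmem => hx₁D ((Subgroup.mem_normalizer_iff.1 hcD x₁).2 hmem)
  obtain ⟨e, he, hee⟩ := hbig (X₁.map (MulAut.conj (c : G)).toMonoidHom) X₃ (hconjM c hcB X₁ hX₁) hX₃
    (le_inf (fun x hx => ⟨(c : G)⁻¹ * x * c,
      (Subgroup.mem_inf.1 ((Subgroup.mem_normalizer_iff.1 hcD ((c : G)⁻¹ * x * c)).2 (by simpa [mul_assoc] using hx))).1,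
      by simp [mul_assoc]⟩) hDX₃)
    ⟨_, Subgroup.mem_inf.2 ⟨⟨x₁, (Subgroup.mem_inf.1 (Subgroup.mem_inf.1 hx₁).1).1, rfl⟩, hRX₃ hcx⟩, hcxD⟩
  exact hX ⟨d * (e * c), mul_mem hd (mul_mem he hcB), by rw [hde, hee, conj_map, conj_map, mul_assoc]⟩

end CfsgLib.Fus.OddTrans
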