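import Cfsg.Agent.Fus.BaerFixed
import Cfsg.Agent.Perm.HallHigman
import Cfsg.Agent.Solv.CoprimeAction
import Cfsg.Agent.Solv.Generation
import Cfsg.Agent.Solv.Basic

/-!
Invariant subgroups of order prime to `p` for a four-group `Ω₁` of a centralizer in a p-solvable group.
-/

set_option autoImplicit false
set_option linter.style.haveILetI false
set_option linter.deprecated false

open CfsgLib.Solv
open scoped commutatorElement Pointwise

namespace CfsgLib.Fus.OmegaPairSignalizer

variable {G : Type*} [Group G] [Finite G] {p : ℕ} [hp : Fact p.Prime]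

/-- Elements of order `p` in the centralizer of `b₀` in `O_p` modulo `O_{p'}` come from `B`. -/
theorem mem_map_of_omega (K B : Subgroup G) [K.Normal] (hK : (Nat.card K).Coprime p) (b₀ : G)
    (hb₀p : b₀ ^ p = 1) (R : Subgroup (G ⧸ K)) [R.Normal] (hR : IsPGroup p R)
    (P : Sylow p ↥(Subgroup.centralizer ({b₀} : Set G)))
    (hBP : ∀ w : ↥(Subgroup.centralizer ({b₀} : Set G)), w ∈ (P : Subgroup _) → orderOf (w : G) = p → (w : G) ∈ B)
    {u : G ⧸ K} (hu : u ∈ R) (hup : u ^ p = 1)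
    (hub : QuotientGroup.mk' K b₀ * u = u * QuotientGroup.mk' K b₀) : u ∈ B.map (QuotientGroup.mk' K) := by
  set f := QuotientGroup.mk' K
  obtain ⟨x, rfl⟩ := QuotientGroup.mk'_surjective K u
  have hcop : (Nat.card (Subgroup.zpowers b₀)).Coprime (Nat.card K) := by
    rw [Nat.card_zpowers]
    exact (hK.symm).coprime_dvd_left (orderOf_dvd_of_pow_eq_one hb₀p)
  set A := Subgroup.zpowers b₀ with hA
  set A' := MulAut.conj x⁻¹ • A with hA'
  have hAN : A ≤ Subgroup.normalizer (K : Set G) := by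
    rw [Subgroup.normalizer_eq_top_iff.2 inferInstance]; exact le_top
  have hA'N : A' ≤ Subgroup.normalizer (K : Set G) := by
    rw [Subgroup.normalizer_eq_top_iff.2 inferInstance]; exact le_top
  have hmod : ∀ a ∈ A, f (x⁻¹ * a * x) = f a := by
    intro a ha
    obtain ⟨i, rfl⟩ := ha
    have hc : Commute (f b₀ ^ i) (f x) := (show Commute (f b₀) (f x) from hub).zpow_left i
    rw [map_mul, map_mul, map_inv, map_zpow, mul_assoc, hc.eq, inv_mul_cancel_left]
  have hle : A' ≤ A ⊔ K := by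
    intro z hz
    rw [hA', mem_conj_smul_iff, inv_inv] at hz
    have hzK : (x * z * x⁻¹)⁻¹ * z ∈ K := QuotientGroup.eq.1 (by
      have h := hmod _ hz
      rw [show x⁻¹ * (x * z * x⁻¹) * x = z by group] at h
      exact h.symm)
    rw [show z = (x * z * x⁻¹) * ((x * z * x⁻¹)⁻¹ * z) by group]
    exact mul_mem (Subgroup.mem_sup_left hz) (Subgroup.mem_sup_right hzK)
  have hA'c : (Nat.card A').Coprime (Nat.card K) := by rwa [hA', card_conj_smul]
  have hsup : A ⊔ K = A' ⊔ K := by
    refine (Subgroup.eq_of_le_of_card_ge (sup_le hle le_sup_right) ?_).symm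
    rw [card_sup_of_le_normalizer hAN hcop, card_sup_of_le_normalizer hA'N hA'c, hA', card_conj_smul]
  obtain ⟨g, hg, hgA⟩ := conj_complement_in_sup' hAN hA'N hsup hcop hA'c
    (Or.inr (isSolvable_of_isMulCommutative A))
  obtain ⟨d, hdK, a, ha, rfl⟩ := exists_mul_of_mem_sup hAN hg
  rw [map_mul, mul_smul, conj_smul_eq_self_of_mem_normalizer (Subgroup.le_normalizer ha)] at hgA
  set y := x * d with hy
  have hfy : f y = f x := by
    rw [hy, map_mul, show f d = 1 from (QuotientGroup.eq_one_iff d).2 hdK, mul_one]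
  have hyA : MulAut.conj y • A = A := by
    rw [hy, map_mul, mul_smul, hgA, hA', smul_smul, ← map_mul, mul_inv_cancel, map_one, one_smul]
  have hyC : y ∈ Subgroup.centralizer ({b₀} : Set G) := by
    rw [Subgroup.mem_centralizer_singleton_iff]
    have h1 : y * b₀ * y⁻¹ ∈ A := by
      conv => arg 1; rw [← hyA]
      rw [mem_conj_smul_iff]
      convert Subgroup.mem_zpowers b₀ using 1
      group
    have h2 : (y * b₀ * y⁻¹) * b₀⁻¹ ∈ K := (QuotientGroup.eq_one_iff _).1 (by
      show f _ = 1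
      simp only [map_mul, map_inv, hfy]; rw [← hub, mul_inv_cancel_right, mul_inv_cancel])
    have h3 : (y * b₀ * y⁻¹) * b₀⁻¹ = 1 :=
      Subgroup.mem_bot.1 ((Subgroup.inf_eq_bot_of_coprime hcop).le
        ⟨Subgroup.mul_mem _ h1 (Subgroup.inv_mem _ (Subgroup.mem_zpowers b₀)), h2⟩)
    exact mul_inv_eq_iff_eq_mul.1 (mul_inv_eq_one.1 h3)
  -- the normal p-subgroup of the image of the centralizer lies in the image of `P`
  set γ := (f.comp (Subgroup.centralizer ({b₀} : Set G)).subtype).rangeRestrict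
  have hγ : Function.Surjective γ := MonoidHom.rangeRestrict_surjective _
  haveI : (R.subgroupOf (f.comp (Subgroup.centralizer ({b₀} : Set G)).subtype).range).Normal := inferInstance
  have hN : R.subgroupOf (f.comp (Subgroup.centralizer ({b₀} : Set G)).subtype).range ≤ (P.mapSurjective hγ : Subgroup _) :=
    (CfsgLib.Solv.le_pCore (hN := (inferInstance : (R.subgroupOf (f.comp (Subgroup.centralizer ({b₀} : Set G)).subtype).range).Normal))
      (hR.comap_of_injective _ (Subgroup.subtype_injective _))).trans (pCore_le_sylow _)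
  obtain ⟨w, hw, hwy⟩ := hN (x := ⟨f y, ⟨⟨y, hyC⟩, rfl⟩⟩) (show f y ∈ R by rw [hfy]; exact hu)
  have hfw : f (w : G) = f x := (congrArg Subtype.val hwy : f (w : G) = f y).trans hfy
  obtain ⟨i, hi⟩ := P.isPGroup' ⟨w, hw⟩
  have hwi : (w : G) ^ p ^ i = 1 := congrArg (fun t : ↥(P : Subgroup ↥(Subgroup.centralizer ({b₀} : Set G))) => ((t : ↥(Subgroup.centralizer ({b₀} : Set G))) : G)) hi
  have hwp : (w : G) ^ p = 1 := by
    have hK1 : (w : G) ^ p ∈ K := (QuotientGroup.eq_one_iff _).1 (by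
      show f _ = 1
      rw [map_pow, hfw, hup])
    refine orderOf_eq_one_iff.1 (Nat.eq_one_of_dvd_coprimes (hK.pow_right i)
      (Subgroup.orderOf_dvd_natCard K hK1) (orderOf_dvd_of_pow_eq_one ?_))
    rw [← pow_mul, mul_comm, pow_mul, hwi, one_pow]
  rcases (Nat.dvd_prime hp.out).1 (orderOf_dvd_of_pow_eq_one hwp) with h | h
  · rw [← hfw, orderOf_eq_one_iff.1 h, map_one]; exact one_mem _
  · exact ⟨(w : G), hBP w hw h, hfw⟩

/-- The main theorem. -/
theorem main (hp2 : p ≠ 2) (hG : Cfsg.IsPSolvable p G) (B : Subgroup G)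
    (hB : Cfsg.IsElementaryAbelian p B) (hBc : Nat.card B = p ^ 2) (b₀ : G) (hb₀ : b₀ ∈ B)
    (P : Sylow p ↥(Subgroup.centralizer ({b₀} : Set G)))
    (hBP : ∀ w : ↥(Subgroup.centralizer ({b₀} : Set G)), w ∈ (P : Subgroup _) → orderOf (w : G) = p → (w : G) ∈ B)
    (Q : Subgroup G) (hQ : ¬ p ∣ Nat.card Q) (hinv : ∀ b ∈ B, ∀ x ∈ Q, b * x * b⁻¹ ∈ Q) :
    Q ≤ Cfsg.pPrimeCore p G := by
  set K := Cfsg.pPrimeCore p G with hKdef
  haveI : K.Normal := pPrimeCore_normal G p
  have hK : (Nat.card K).Coprime p := pPrimeCore_coprime G p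
  set f := QuotientGroup.mk' K
  set R := Cfsg.pCore p (G ⧸ K)
  haveI : R.Normal := pCore_normal _ p
  have hRp : IsPGroup p R := pCore_isPGroup _ p
  have hCR : Subgroup.centralizer (R : Set (G ⧸ K)) ≤ R :=
    CfsgLib.Perm.centralizer_pCore_le_of_pSolvable (CfsgLib.Perm.isPSolvable_quotient hG K)
      pPrimeCore_quotient_self
  have hBp : ∀ z ∈ B.map f, z ^ p = 1 := by
    rintro _ ⟨z, hz, rfl⟩
    rw [← map_pow, hB.2 z hz, map_one]
  haveI : IsMulCommutative B := hB.1
  have hBab : ∀ z ∈ B.map f, ∀ z' ∈ B.map f, z * z' = z' * z := by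
    rintro _ ⟨z, hz, rfl⟩ _ ⟨z', hz', rfl⟩
    rw [← map_mul, ← map_mul, commute_of_isMulCommutative hz hz']
  haveI : IsMulCommutative (B.map f) := ⟨⟨fun a b => Subtype.ext (hBab a a.2 b b.2)⟩⟩
  have hQc : (Nat.card Q).Coprime p := (Nat.Coprime.symm (hp.out.coprime_iff_not_dvd.2 hQ))
  have hQ' : (Nat.card (Q.map f)).Coprime p := hQc.coprime_dvd_left (Subgroup.card_map_dvd ..)
  have hinj : Function.Injective (f.subgroupMap B) := by
    rw [injective_iff_map_eq_one]
    intro z hz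
    have hzK : (z : G) ∈ K := (QuotientGroup.eq_one_iff _).1 (congrArg Subtype.val hz)
    refine Subtype.ext (orderOf_eq_one_iff.1 (Nat.eq_one_of_dvd_coprimes hK
      (Subgroup.orderOf_dvd_natCard K hzK) (orderOf_dvd_of_pow_eq_one (hB.2 z z.2))))
  have hBc' : Nat.card (B.map f) = p ^ 2 := by
    rw [← hBc]
    exact (Nat.card_congr (Equiv.ofBijective _ ⟨hinj, f.subgroupMap_surjective B⟩)).symm
  have hnc : ¬ IsCyclic (B.map f) := by
    intro hcyc
    obtain ⟨g, hg⟩ := hcyc.exists_generator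
    have h1 := orderOf_eq_card_of_forall_mem_zpowers hg
    have h2 : orderOf g ∣ p := orderOf_dvd_of_pow_eq_one (Subtype.ext (hBp g g.2))
    rw [h1, hBc'] at h2
    have := Nat.le_of_dvd hp.out.pos h2
    have := hp.out.two_le
    nlinarith
  have hnormQ : B.map f ≤ Subgroup.normalizer ((Q.map f : Subgroup _) : Set (G ⧸ K)) := by
    rw [le_normalizer_iff_forall_conj_mem]
    rintro _ ⟨z, hz, rfl⟩ _ ⟨q, hq, rfl⟩
    exact ⟨z * q * z⁻¹, hinv z hz q hq, by rw [map_mul, map_mul, map_inv]⟩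
  have hcopBQ : (Nat.card (B.map f)).Coprime (Nat.card (Q.map f)) := by
    rw [hBc']; exact (hQ'.symm).pow_left 2
  have hbot : Q.map f ≤ ⊥ := by
    refine le_of_noncyclic_centralizers hnc hnormQ hcopBQ fun a ha _ => ?_
    set Q1 := Q.map f ⊓ Subgroup.centralizer ({a} : Set (G ⧸ K))
    set Y := R ⊓ Subgroup.centralizer ({a} : Set (G ⧸ K))
    have hQ1 : (Nat.card Q1).Coprime p := hQ'.coprime_dvd_left (Subgroup.card_dvd_of_le inf_le_left)
    have hca : Subgroup.centralizer ({a} : Set (G ⧸ K)) ≤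
        Subgroup.normalizer ((Y : Subgroup _) : Set (G ⧸ K)) := by
      rw [le_normalizer_iff_forall_conj_mem]
      intro c hc r hr
      exact Subgroup.mem_inf.2 ⟨Subgroup.Normal.conj_mem inferInstance r hr.1 c, Subgroup.mul_mem _ (Subgroup.mul_mem _ hc hr.2) (Subgroup.inv_mem _ hc)⟩
    have hBa : B.map f ≤ Subgroup.centralizer ({a} : Set (G ⧸ K)) := fun z hz =>
      Subgroup.mem_centralizer_singleton_iff.2 (hBab z hz a ha)
    have hbfY : f b₀ ∈ Subgroup.normalizer (Y : Set (G ⧸ K)) := hca (hBa ⟨b₀, hb₀, rfl⟩)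
    have hBQ1 : B.map f ≤ Subgroup.normalizer (Q1 : Set (G ⧸ K)) := by
      rw [le_normalizer_iff_forall_conj_mem]
      intro c hc q hq
      exact ⟨le_normalizer_iff_forall_conj_mem.1 hnormQ c hc q hq.1,
        Subgroup.mul_mem _ (Subgroup.mul_mem _ (hBa hc) hq.2) (Subgroup.inv_mem _ (hBa hc))⟩
    have hY := BaerFixed.le_centralizer_of_fixed_omega hp2 Y Q1 (hRp.to_le inf_le_left) hQ1
      (inf_le_right.trans hca) (f b₀) ⟨1, by rw [pow_one, hBp _ ⟨b₀, hb₀, rfl⟩]⟩ hbfY
      (hBQ1 ⟨b₀, hb₀, rfl⟩) (by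
        intro u hu hup hub q hq
        have huB : u ∈ B.map f := mem_map_of_omega K B hK b₀ (hB.2 b₀ hb₀) R hRp P hBP hu.1 hup hub
        have h1 : ⁅q, u⁆ ∈ R := by
          rw [commutatorElement_def]
          exact mul_mem (Subgroup.Normal.conj_mem inferInstance u hu.1 q) (inv_mem hu.1)
        have h2 : ⁅q, u⁆ ∈ Q.map f := by
          rw [commutatorElement_def, mul_assoc q u, mul_assoc q]
          exact mul_mem hq.1 (le_normalizer_iff_forall_conj_mem.1 hnormQ u huB _ (inv_mem hq.1))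
        refine commutatorElement_eq_one_iff_mul_comm.1 (Subgroup.mem_bot.1 ?_)
        obtain ⟨n, hn⟩ := hRp.exists_card_eq
        exact (Subgroup.inf_eq_bot_of_coprime (H := R) (K := Q.map f)
          (by rw [hn]; exact hQ'.symm.pow_left n)).le ⟨h1, h2⟩)
    have hcent : Q1 ≤ Subgroup.centralizer (R : Set (G ⧸ K)) := by
      refine thompson_pq (P := Subgroup.zpowers a) (p := p)
        ((IsPGroup.of_card hBc').to_le (Subgroup.zpowers_le.2 ha)) hQ1
        (Subgroup.zpowers_le.2 (Subgroup.mem_centralizer_iff.2 fun q hq =>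
          Subgroup.mem_centralizer_singleton_iff.1 hq.2))
        R hRp (by rw [Subgroup.normalizer_eq_top_iff.2 inferInstance]; exact le_top)
        (by rw [Subgroup.normalizer_eq_top_iff.2 inferInstance]; exact le_top) ?_
      refine le_trans ?_ (Subgroup.le_centralizer_iff.1 hY)
      refine inf_le_inf_left _ (Subgroup.centralizer_le ?_)
      simp
    intro z hz
    obtain ⟨n, hn⟩ := hRp.exists_card_eq
    exact (Subgroup.inf_eq_bot_of_coprime (H := R) (K := Q1)
      (by rw [hn]; exact hQ1.symm.pow_left n)).le ⟨hCR (hcent hz), hz⟩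
  intro q hq
  exact (QuotientGroup.eq_one_iff q).1 (Subgroup.mem_bot.1 (hbot ⟨q, hq, rfl⟩))

end CfsgLib.Fus.OmegaPairSignalizer
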