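import Cfsg.Agent.Fus.TransferFusionLocal

/-!
Control of the focal subgroup when the core is not centric: the centralizer of the core.
-/

set_option autoImplicit false
set_option linter.style.haveILetI false

open Cfsg Cfsg.FusionSystem
open scoped commutatorElement

namespace CfsgLib.Fus

universe u

variable {Ω : Type u} [Group Ω] {S : Subgroup Ω} {F : FusionSystem S} {p : ℕ}
  {W : ∀ (Q : Type u) [Group Q], Subgroup Q}

theorem mem_focal_of_map {P : Subgroup Ω} {f : Ω → Ω} (h : IsMap F P f) {x : Ω} (hx : x ∈ P) :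
    x⁻¹ * f x ∈ F.focalSubgroup := by
  obtain ⟨φ, hφ, hφf⟩ := h
  exact Subgroup.subset_closure ⟨P, φ, ⟨x, hx⟩, hφ, by rw [hφf]⟩

theorem commutator_le_focal : ⁅S, S⁆ ≤ F.focalSubgroup := Subgroup.commutator_le.2 fun a ha b hb => by
  have := mem_focal_of_map (IsMap.conj F le_rfl hb) (S.inv_mem ha)
  simpa [commutatorElement_def, mul_assoc] using this

/-- A map fixing `Q`, restricted into `C_S(Q)`, is a map of the centralizer system. -/
theorem isMap_centralizer_of_fix {Q : Subgroup Ω} {C : FusionSystem (centralizerIn S Q)}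
    (hC : F.IsCentralizerSystem Q C) {M P : Subgroup Ω} {g : Ω → Ω} (hg : IsMap F M g) (hPM : P ≤ M) (hQM : Q ≤ M)
    (hfix : ∀ x ∈ Q, g x = x) (hPC : P ≤ centralizerIn S Q) : IsMap C P g := by
  obtain ⟨φ, hφ, hφf⟩ := hg.mono hPM
  obtain ⟨ψ, hψ, hψf⟩ := hg.mono (sup_le hPM hQM)
  refine ⟨φ, ?_, hφf⟩
  rw [hC]
  refine ⟨hφ, hPC, fun x => ?_, ψ, hψ, fun x => (hψf _).trans (hφf x).symm, fun x => (hψf _).trans (hfix x x.2)⟩
  rw [hφf]
  refine ⟨hg.mem (hPM x.2), fun q hq => ?_⟩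
  have h := (hPC x.2).2 q hq
  rw [← hfix q hq, ← hg.map_mul (hQM hq) (hPM x.2), h, hg.map_mul (hPM x.2) (hQM hq)]

/-- The maps of a centralizer system. -/
theorem isMap_of_centralizerSystem {Q : Subgroup Ω} {C : FusionSystem (centralizerIn S Q)}
    (hC : F.IsCentralizerSystem Q C) {P : Subgroup Ω} {f : Ω → Ω} (h : IsMap C P f) :
    IsMap F P f ∧ P ≤ centralizerIn S Q ∧
      ∃ g, IsMap F (P ⊔ Q) g ∧ (∀ x ∈ P, g x = f x) ∧ ∀ x ∈ Q, g x = x := by
  obtain ⟨φ, hφ, hφf⟩ := h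
  rw [hC] at hφ
  obtain ⟨hφF, hP, -, ψ, hψ, hψe, hψQ⟩ := hφ
  refine ⟨⟨φ, hφF, hφf⟩, hP, ev ψ, IsMap.of_hom hψ, fun x hx => ?_, fun x hx => ?_⟩
  · rw [← hφf ⟨x, hx⟩, ← hψe ⟨x, hx⟩]
    exact ev_of_mem ψ (le_sup_left (b := Q) hx)
  · rw [ev_of_mem ψ (le_sup_right (a := P) hx)]
    exact hψQ ⟨x, hx⟩

/-- Maps stabilizing a subgroup normal in `S` but not in the system are trivial modulo `X`. -/
theorem tgood_stab [Finite S] [Fact p.Prime] (hS : IsPGroup p S) (hF : F.IsSaturated p)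
    (hIH : FocalIH p W F) {X : Subgroup Ω} (hXS : X ≤ S) (hX : ⁅S, S⁆ ≤ X)
    (hgen : ∀ P f, IsMap F P f → inducedFunctor W S ≤ P → img f (inducedFunctor W S) = inducedFunctor W S →
      TGood X P f)
    {K : Subgroup Ω} (hK : K ≤ S) (hKn : S ≤ Subgroup.normalizer (K : Set Ω)) (hnn : ¬ F.IsNormal K)
    {P : Subgroup Ω} {f : Ω → Ω} (hf : IsMap F P f) (hKP : K ≤ P) (hfK : img f K = K) : TGood X P f := by
  have hRS : normalizerIn S K = S := le_antisymm inf_le_left (le_inf le_rfl hKn)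
  have hKfn : F.IsFullyNormalized K := ⟨hK, fun R _ => by
    rw [hRS]; exact Subgroup.card_le_of_le (normalizerIn_le R)⟩
  refine normalizer_tgood hS hF hIH hXS hX hKfn hnn ?_ hf hKP (by rw [hRS]; exact hf.le) hfK
  intro P g hg _ _ hWP hgW
  have hWR : inducedFunctor W (normalizerIn S K) = inducedFunctor W S := congrArg (inducedFunctor W) hRS
  exact hgen P g hg (hWR ▸ hWP) (hWR ▸ hgW)

/-- The centralizer system of the core is trivial modulo `X`. -/
theorem tgood_centralizer [Finite S] [Fact p.Prime] (hS : IsPGroup p S) (hF : F.IsSaturated p)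
    (hW : IsCharPFunctor.{u} p W) (hIH : FocalIH p W F) {Q : Subgroup Ω} (hQ : Q = F.core) (hQ0 : Q ≠ ⊥)
    (hCQ : ¬ centralizerIn S Q ≤ Q)
    {X : Subgroup Ω} (hXS : X ≤ S) (hX : ⁅S, S⁆ ≤ X)
    (hgen : ∀ P f, IsMap F P f → inducedFunctor W S ≤ P → img f (inducedFunctor W S) = inducedFunctor W S →
      TGood X P f)
    {D : FusionSystem (centralizerIn S Q)} (hD : F.IsCentralizerSystem Q D)
    {P : Subgroup Ω} {f : Ω → Ω} (hf : IsMap D P f) : TGood X P f := by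
  classical
  have hQN : F.IsNormal Q := hQ ▸ isNormal_core
  have hQSC := isNormal_stronglyClosed hQN
  have hQn : S ≤ Subgroup.normalizer (Q : Set Ω) := stronglyClosed_normal hQSC
  have hQfc : F.IsFullyCentralized Q := ⟨hQN.1, fun R hR => by
    obtain ⟨g, hg, hgi⟩ := isConj_iff.1 hR
    rw [← hgi, (weaklyClosed_iff.1 (stronglyClosed_weaklyClosed hQSC)).2 g hg]⟩
  have hDsat := centralizerSystem_saturated hS hF hQfc hD
  let C := centralizerIn S Q
  haveI : Finite ↥C := finite_of_le (centralizerIn_le Q)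
  have hCp : IsPGroup p ↥C := isPGroup_of_le hS (centralizerIn_le Q)
  have hle : ∀ P f, IsMap D P f → IsMap F P f := fun P f h => (isMap_of_centralizerSystem hD h).1
  -- the centre of the core
  let Z : Subgroup Ω := Zc Q
  have hZQ : Z ≤ Q := Zc_le
  have hZC : Z ≤ C := fun z hz => ⟨hQN.1 (hZQ hz), fun q hq => Zc_comm hz hq⟩
  have hfixZ : ∀ P f, IsMap D P f → ∀ x ∈ P, x ∈ Z → f x = x := fun P f h x hxP hxZ => by
    obtain ⟨-, -, g, -, hge, hgQ⟩ := isMap_of_centralizerSystem hD h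
    rw [← hge x hxP]
    exact hgQ x (hZQ hxZ)
  have hZsc : D.StronglyClosed Z :=
    stronglyClosed_iff.2 ⟨hZC, fun P f h x hxP hxZ => (hfixZ P f h x hxP hxZ).symm ▸ hxZ⟩
  have hZcen : D.IsCentral Z := isCentral_iff.2 ⟨hZC, fun P f h => by
    obtain ⟨-, hPC, g, hg, hge, hgQ⟩ := isMap_of_centralizerSystem hD h
    exact ⟨g, isMap_centralizer_of_fix hD hg (sup_le_sup_left hZQ P) le_sup_right hgQ (sup_le hPC hZC), hge,
      fun x hx => hgQ x (hZQ hx)⟩⟩
  have hZ0 : Z ≠ ⊥ := by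
    haveI := finite_of_le hQN.1
    haveI : Nontrivial ↥Q := (Subgroup.nontrivial_iff_ne_bot Q).2 hQ0
    haveI := (isPGroup_of_le hS hQN.1).center_nontrivial
    rw [show Z = Zc Q from rfl, Zc_eq_map]
    exact fun h => (Subgroup.nontrivial_iff_ne_bot _).1 inferInstance
      ((Subgroup.map_eq_bot_iff_of_injective _ Q.subtype_injective).1 h)
  haveI hZn : (Z.subgroupOf C).Normal := ⟨fun a ha b => by
    refine Subgroup.mem_subgroupOf.2 ?_
    have h : (b : Ω) * (a : Ω) * (b : Ω)⁻¹ = a := by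
      rw [← b.2.2 _ (hZQ (Subgroup.mem_subgroupOf.1 ha)), mul_inv_cancel_right]
    rw [Subgroup.coe_mul, Subgroup.coe_mul, Subgroup.coe_inv, h]
    exact Subgroup.mem_subgroupOf.1 ha⟩
  obtain ⟨E, hE⟩ := exists_factorSystem D hZsc
  have hEsat := Factor.saturated hCp hDsat hZsc hE
  let θ := QuotientGroup.mk' (Z.subgroupOf C)
  haveI : Finite ↥(⊤ : Subgroup (↥C ⧸ Z.subgroupOf C)) := Factor.finite_range hE
  have hEp : IsPGroup p ↥(⊤ : Subgroup (↥C ⧸ Z.subgroupOf C)) := Factor.isPGroup_range hCp hE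
  have hsm : SmallerSys F E :=
    Or.inl ((Factor.card_factor_lt hE hZ0).trans_le (Subgroup.card_le_of_le (centralizerIn_le Q)))
  -- the preimage of the functor value
  let W' := inducedFunctor W (⊤ : Subgroup (↥C ⧸ Z.subgroupOf C))
  let Wt := preimageAlong θ W'
  have hWtC : Wt ≤ C := preimageAlong_le
  have hW't : W' ≠ ⊥ := by
    refine ind_ne_bot hW hEp fun h => hCQ fun c hc => hZQ ?_
    have h1 : θ ⟨c, hc⟩ = 1 := Subgroup.mem_bot.1 (h ▸ Subgroup.mem_top _)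
    exact (hE.2.1 _).1 h1
  have hWtQ : ¬ Wt ≤ Q := fun h => hW't <| eq_bot_iff.2 fun w hw => by
    obtain ⟨x, hx⟩ := QuotientGroup.mk'_surjective (Z.subgroupOf C) w
    have hxW : (x : Ω) ∈ Wt := Factor.mem_pre.2 ⟨x.2, by rw [Factor.th_coe, hx]; exact hw⟩
    rw [Subgroup.mem_bot, ← hx]
    exact (hE.2.1 x).2 (mem_Zc (h hxW) fun q hq => x.2.2 q hq)
  have hWtn : S ≤ Subgroup.normalizer (Wt : Set Ω) := le_normalizer_of_forall fun s hs x hx => by
    obtain ⟨hxC, hxW⟩ := Factor.mem_pre.1 hx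
    have hCmap : C.map (MulAut.conj s).toMonoidHom = C := by
      have hfw : ∀ t ∈ S, ∀ c ∈ C, t * c * t⁻¹ ∈ C := fun t ht c hc =>
        ⟨S.mul_mem (S.mul_mem ht hc.1) (S.inv_mem ht), fun q hq => by
          have h1 := hc.2 _ (conj_mem_of_normalizer' (hQn ht) hq)
          calc q * (t * c * t⁻¹) = t * ((t⁻¹ * q * t) * c) * t⁻¹ := by group
            _ = t * (c * (t⁻¹ * q * t)) * t⁻¹ := by rw [h1]
            _ = t * c * t⁻¹ * q := by group⟩
      refine le_antisymm ?_ fun c hc => ⟨s⁻¹ * c * s, by simpa using hfw s⁻¹ (S.inv_mem hs) c hc, by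
        simp [mul_assoc]⟩
      rintro _ ⟨c, hc, rfl⟩
      exact hfw s hs c hc
    let c : ↥C ≃* ↥C :=
      ((MulAut.conj s).subgroupMap C).trans (MulEquiv.subgroupCongr hCmap)
    have hc : ∀ a : ↥C, (c a : Ω) = s * a * s⁻¹ := fun a => rfl
    have hcZ : (Z.subgroupOf C).map c.toMonoidHom = Z.subgroupOf C := by
      have hfw : ∀ t ∈ S, ∀ z ∈ Z, t * z * t⁻¹ ∈ Z := fun t ht z hz =>
        mem_Zc (conj_mem_of_normalizer (hQn ht) (hZQ hz)) fun q hq => by
          have h1 := Zc_comm hz (conj_mem_of_normalizer' (hQn ht) hq)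
          calc q * (t * z * t⁻¹) = t * ((t⁻¹ * q * t) * z) * t⁻¹ := by group
            _ = t * (z * (t⁻¹ * q * t)) * t⁻¹ := by rw [h1]
            _ = t * z * t⁻¹ * q := by group
      refine le_antisymm ?_ fun a ha => ⟨c.symm a, ?_, c.apply_symm_apply a⟩
      · rintro _ ⟨a, ha, rfl⟩
        exact Subgroup.mem_subgroupOf.2 ((hc a).symm ▸ hfw s hs _ (Subgroup.mem_subgroupOf.1 ha))
      · refine Subgroup.mem_subgroupOf.2 ?_
        have h1 := hc (c.symm a)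
        rw [c.apply_symm_apply] at h1
        have h2 := hfw s⁻¹ (S.inv_mem hs) _ (Subgroup.mem_subgroupOf.1 ha)
        rwa [h1, show s⁻¹ * (s * (c.symm a : Ω) * s⁻¹) * s⁻¹⁻¹ = (c.symm a : Ω) by group] at h2
    let e := QuotientGroup.congr (Z.subgroupOf C) (Z.subgroupOf C) c hcZ
    have hsW : e (θ ⟨x, hxC⟩) ∈ W' := by
      have h1 := Glau.ind_map (W := W) hW e.toMonoidHom (Q := ⊤) hEp e.injective.injOn
      have hmt : (⊤ : Subgroup (↥C ⧸ Z.subgroupOf C)).map e.toMonoidHom = ⊤ :=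
        Subgroup.map_top_of_surjective _ e.surjective
      rw [hmt] at h1
      exact h1.ge ⟨_, Factor.th_of_mem (θ := θ) hxC ▸ hxW, rfl⟩
    refine Factor.mem_pre.2 ⟨(c ⟨x, hxC⟩).2, ?_⟩
    show Factor.th θ ((c ⟨x, hxC⟩ : ↥C) : Ω) ∈ W'
    rw [Factor.th_coe]
    exact hsW
  have hWtnn : ¬ F.IsNormal Wt := fun h => hWtQ (hQ ▸ le_core h)
  -- the induction
  let Y : Subgroup Ω := X ⊓ D.focalSubgroup
  let X'' := (Y.subgroupOf C).map θ
  have hX'' : ⁅(⊤ : Subgroup (↥C ⧸ Z.subgroupOf C)), ⊤⁆ ≤ X'' := Subgroup.commutator_le.2 fun a _ b _ => by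
    obtain ⟨a, rfl⟩ := QuotientGroup.mk'_surjective (Z.subgroupOf C) a
    obtain ⟨b, rfl⟩ := QuotientGroup.mk'_surjective (Z.subgroupOf C) b
    refine ⟨⁅a, b⁆, Subgroup.mem_subgroupOf.2 ⟨hX ?_, commutator_le_focal ?_⟩, map_commutatorElement θ a b⟩
    · exact Subgroup.commutator_mem_commutator a.2.1 b.2.1
    · exact Subgroup.commutator_mem_commutator a.2 b.2
  have hEgood := hIH _ _ E hEp hEsat hsm X'' le_top hX'' fun P' f' hf' hWP hfW y hy => by
    obtain ⟨f, hfD, hfe⟩ := Factor.lift hE hf'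
    have hWtP : Wt ≤ preimageAlong θ P' := fun x hx =>
      Factor.mem_pre.2 ⟨(Factor.mem_pre.1 hx).1, hWP (Factor.mem_pre.1 hx).2⟩
    have hi : img f Wt = Wt := Factor.img_lift hE hZsc (hfD.mono hWtP) le_top (hf'.mono hWP)
      (fun x hx => hfe x (hWtP hx)) hfW
    have hg : TGood X (preimageAlong θ P') f :=
      tgood_stab hS hF hIH hXS hX hgen (hWtC.trans (centralizerIn_le Q)) hWtn hWtnn (hle _ f hfD) hWtP hi
    obtain ⟨x, hxC, hxy⟩ := Factor.th_surj hE (hf'.le hy)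
    have hxP : x ∈ preimageAlong θ P' := Factor.mem_pre.2 ⟨hxC, hxy.symm ▸ hy⟩
    refine ⟨⟨x⁻¹ * f x, Subgroup.mul_mem _ (Subgroup.inv_mem _ hxC) (hfD.mem hxP)⟩,
      Subgroup.mem_subgroupOf.2 ⟨hg x hxP, mem_focal_of_map hfD hxP⟩, ?_⟩
    rw [← hxy, hfe x hxP, ← Factor.th_inv hxC, ← Factor.th_mul (Subgroup.inv_mem _ hxC) (hfD.mem hxP)]
    exact (Factor.th_of_mem _).symm
  -- conclusion
  intro x hx
  obtain ⟨-, hPC, g, hg, hge, hgQ⟩ := isMap_of_centralizerSystem hD hf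
  have hPZ : P ⊔ Z ≤ C := sup_le hPC hZC
  let P' := ((P ⊔ Z).subgroupOf C).map θ
  have hpre : preimageAlong θ P' ≤ P ⊔ Z := fun a ha => by
    obtain ⟨haC, b, hb, hba⟩ := Factor.mem_pre.1 ha
    have h1 : Factor.th θ ((b : ↥C) : Ω) = Factor.th θ a := (Factor.th_coe b).trans hba
    rw [Factor.th_eq_iff hE b.2 haC] at h1
    have h2 := Subgroup.mul_mem _ (Subgroup.mem_subgroupOf.1 hb) (le_sup_right (a := P) h1)
    rwa [mul_inv_cancel_left] at h2
  have hgD : IsMap D (preimageAlong θ P') g :=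
    (isMap_centralizer_of_fix hD hg (sup_le_sup_left hZQ P) le_sup_right hgQ hPZ).mono hpre
  obtain ⟨f', hf', hfe⟩ := Factor.push hZsc hE le_top hgD
  have hxC : x ∈ C := hPC hx
  have hxpre : x ∈ preimageAlong θ P' := Factor.mem_pre.2 ⟨hxC, by
    rw [Factor.th_of_mem hxC]; exact ⟨_, Subgroup.mem_subgroupOf.2 (le_sup_left (b := Z) hx), rfl⟩⟩
  obtain ⟨a, ha, hae⟩ := hEgood P' f' hf' _ (Factor.mem_pre.1 hxpre).2
  rw [hfe x hxpre, ← Factor.th_inv hxC, ← Factor.th_mul (Subgroup.inv_mem _ hxC) (hgD.mem hxpre)] at hae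
  rw [← Factor.th_coe (θ := θ) a,
    Factor.th_eq_iff hE a.2 (Subgroup.mul_mem _ (Subgroup.inv_mem _ hxC) (hgD.mem hxpre))] at hae
  obtain ⟨haX, haF⟩ := Subgroup.mem_subgroupOf.1 ha
  have hwF : x⁻¹ * g x ∈ D.focalSubgroup := mem_focal_of_map hgD hxpre
  have hz : (a : Ω)⁻¹ * (x⁻¹ * g x) ∈ X :=
    ((Subgroup.commutator_mono (centralizerIn_le Q) (centralizerIn_le Q)).trans hX) (focal_inf_center hCp hDsat
      ⟨Subgroup.mul_mem _ (Subgroup.inv_mem _ haF) hwF, (le_sSup hZcen : Z ≤ D.center) hae⟩)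
  have := X.mul_mem haX hz
  rwa [mul_inv_cancel_left, hge x hx] at this

end CfsgLib.Fus
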