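import Cfsg.Agent.Fus.Tate
import Cfsg.Agent.Fus.Normal
import Cfsg.Agent.Fus.Equivalent
import Cfsg.Agent.Fus.TransferFusionCentralizer
import Cfsg.Agent.Base.SmallFix
import Mathlib.FieldTheory.Finite.Basic

/-!
Criteria on the small elements of the hyperfocal and focal subgroups.
-/

set_option autoImplicit false
set_option linter.style.haveILetI false

open Cfsg Cfsg.FusionSystem
open scoped commutatorElement

namespace CfsgLib.Fus

variable {Ω : Type*} [Group Ω] {S : Subgroup Ω} {F : FusionSystem S} {p : ℕ}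

/-- Automorphisms restrict to invariant subgroups. -/
theorem exists_restrict_aut {P R : Subgroup Ω} [Finite R] (hRP : R ≤ P) (δ : MulAut P)
    (hinv : ∀ y ∈ R, autFun δ y ∈ R) :
    ∃ a : MulAut R, orderOf a ∣ orderOf δ ∧ ∀ y ∈ R, autFun a y = autFun δ y := by
  let a₀ : ↥R →* ↥R := MonoidHom.mk' (fun y => ⟨autFun δ y, hinv y y.2⟩) fun x y =>
    Subtype.ext (autFun_map_mul δ (hRP x.2) (hRP y.2))
  have hinj : Function.Injective a₀ := fun x y hxy => Subtype.ext (by
    have h : autFun δ (x : Ω) = autFun δ y := congrArg Subtype.val hxy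
    rw [← autFun_inv_apply' δ (hRP x.2), h, autFun_inv_apply' δ (hRP y.2)])
  let a : MulAut R := MulEquiv.ofBijective a₀ ⟨hinj, Finite.injective_iff_surjective.1 hinj⟩
  have he : ∀ y ∈ R, autFun a y = autFun δ y := fun y hy => by rw [autFun_of_mem a hy]; rfl
  refine ⟨a, orderOf_dvd_of_pow_eq_one (aut_ext fun y hy => ?_), he⟩
  rw [← autFun_pow_agree hRP (α := a) (β := δ) (fun x hx => (he x hx).symm) (orderOf δ) y hy,
    pow_orderOf_eq_one, autFun_one (hRP hy), autFun_one hy]

/-- An automorphism of order prime to `p` fixing the small elements of an invariant subgroup fixes it. -/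
theorem fix_of_fix_small [Finite S] [hp : Fact p.Prime] (hS : IsPGroup p S) {P R : Subgroup Ω} (hP : P ≤ S) (hRP : R ≤ P)
    {δ : MulAut P} (hco : (orderOf δ).Coprime p) (hinv : ∀ y ∈ R, autFun δ y ∈ R)
    (h : ∀ y ∈ R, (y ^ p = 1 ∨ (p = 2 ∧ y ^ 4 = 1)) → autFun δ y = y) : ∀ y ∈ R, autFun δ y = y := by
  haveI := finite_of_le (hRP.trans hP)
  obtain ⟨a, hao, ha⟩ := exists_restrict_aut hRP δ hinv
  have h1 := CfsgLib.Base.SmallFix.aut_eq_one_of_fix_small (hS.to_le (hRP.trans hP)) (hco.of_dvd_left hao)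
    fun x hx => Subtype.ext (by
      rw [← autFun_apply a x, ha x x.2]
      refine h x x.2 ?_
      rcases hx with hx | ⟨h2, hx⟩
      · exact Or.inl (congrArg Subtype.val hx)
      · exact Or.inr ⟨h2, congrArg Subtype.val hx⟩)
  intro y hy
  rw [← ha y hy, h1, autFun_one hy]

/-- An automorphism of order prime to `p` fixing the quotient it moves an element by fixes it. -/
theorem fix_of_fix_quotient [Finite S] (hS : IsPGroup p S) {P : Subgroup Ω} (hP : P ≤ S) {δ : MulAut P}
    (hco : (orderOf δ).Coprime p) {y : Ω} (hy : y ∈ P) (h : autFun δ (y⁻¹ * autFun δ y) = y⁻¹ * autFun δ y) :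
    autFun δ y = y := by
  set z := y⁻¹ * autFun δ y with hz
  have hzP : z ∈ P := P.mul_mem (P.inv_mem hy) (autFun_mem δ hy)
  have hit : ∀ n : ℕ, autFun (δ ^ n) y = y * z ^ n := by
    intro n
    induction n with
    | zero => simp [autFun_one hy]
    | succ n ih =>
      have hn : ∀ m : ℕ, autFun (δ ^ m) z = z := by
        intro m
        induction m with
        | zero => simp [autFun_one hzP]
        | succ m ihm => rw [pow_succ, autFun_mul _ _ hzP, h, ihm]
      rw [pow_succ δ, autFun_mul _ _ hy, show autFun δ y = y * z by rw [hz, mul_inv_cancel_left],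
        autFun_map_mul _ hy hzP, ih, hn, pow_succ, mul_assoc]
  have h1 := hit (orderOf δ)
  rw [pow_orderOf_eq_one, autFun_one hy, left_eq_mul] at h1
  obtain ⟨k, hk⟩ := (hS.to_le hP) ⟨z, hzP⟩
  have hz1 : z = 1 := orderOf_eq_one_iff.1 (Nat.eq_one_of_dvd_coprimes (hco.pow_right k)
    (orderOf_dvd_of_pow_eq_one h1) (orderOf_dvd_of_pow_eq_one (congrArg Subtype.val hk)))
  rw [hz, inv_mul_eq_one] at hz1
  exact hz1.symm

/-- If the maps between small cyclic subgroups of the hyperfocal subgroup are inner, so is the system. -/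
theorem inner_of_small [Finite S] [hp : Fact p.Prime] (hS : IsPGroup p S) (hF : F.IsSaturated p)
    (h : ∀ P ≤ S, ∀ α ∈ F.autGroup P, ∀ y ∈ P, y ∈ F.hyperfocalSubgroup p → (y ^ p = 1 ∨ (p = 2 ∧ y ^ 4 = 1)) →
      ∃ s ∈ S, autFun α y = s * y * s⁻¹) (P : Subgroup Ω) : F.Hom P = (innerFusionSystem S).Hom P := by
  refine inner_of_ptriv hS hF (fun P hP α hα hco => ?_) P
  set H := F.hyperfocalSubgroup p with hH
  set Z : ℕ → Subgroup Ω := fun i => (Subgroup.upperCentralSeries ↥S i).map S.subtype with hZ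
  have hRinv : ∀ y ∈ P, y ∈ H → autFun α y ∈ H := fun y hy hyH => by
    have h1 := hyperfocal_le_iff.1 le_rfl P hP α hα hco y hy
    have := H.mul_mem hyH h1
    rwa [mul_inv_cancel_left] at this
  haveI := finite_of_le hP
  have hconj : ∀ i, ∀ s ∈ S, ∀ y ∈ Z i, s * y * s⁻¹ ∈ Z i := by
    rintro i s hs _ ⟨y, hy, rfl⟩
    exact ⟨⟨s, hs⟩ * y * ⟨s, hs⟩⁻¹, Subgroup.Normal.conj_mem inferInstance y hy _, rfl⟩
  have key : ∀ i, ∀ y ∈ P, y ∈ H → y ∈ Z i → (y ^ p = 1 ∨ (p = 2 ∧ y ^ 4 = 1)) → autFun α y = y := by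
    intro i
    induction i with
    | zero =>
      intro y hy _ hyZ _
      rw [hZ] at hyZ
      simp only [Subgroup.upperCentralSeries_zero, Subgroup.map_bot, Subgroup.mem_bot] at hyZ
      subst hyZ
      rw [autFun_of_mem α hy]
      exact congrArg Subtype.val (map_one α)
    | succ i ih =>
      set V := Subgroup.closure {y | y ∈ P ∧ y ∈ H ∧ y ∈ Z (i + 1) ∧ (y ^ p = 1 ∨ (p = 2 ∧ y ^ 4 = 1))} with hV
      have hVP : V ≤ P := (Subgroup.closure_le _).2 fun y hy => hy.1
      have hVH : V ≤ H := (Subgroup.closure_le _).2 fun y hy => hy.2.1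
      have hVinv : ∀ y ∈ V, autFun α y ∈ V ∧ y⁻¹ * autFun α y ∈ Z i := by
        intro y hy
        induction hy using Subgroup.closure_induction with
        | mem y hy =>
          obtain ⟨hyP, hyH, hyZ, hys⟩ := hy
          obtain ⟨s, hs, hse⟩ := h P hP α hα y hyP hyH hys
          refine ⟨Subgroup.subset_closure ⟨autFun_mem α hyP, hRinv y hyP hyH, hse ▸ hconj _ s hs y hyZ, ?_⟩, ?_⟩
          · rcases hys with e | ⟨h2, e⟩
            · left; rw [hse, conj_pow, e, mul_one, mul_inv_cancel]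
            · right; exact ⟨h2, by rw [hse, conj_pow, e, mul_one, mul_inv_cancel]⟩
          · rw [hse]
            obtain ⟨u, hu, hue⟩ := (Z (i + 1)).inv_mem hyZ
            refine ⟨⁅u, ⟨s, hs⟩⁆, Subgroup.mem_upperCentralSeries_succ_iff.1 hu _, ?_⟩
            change (u : Ω) = y⁻¹ at hue
            show (u : Ω) * s * (u : Ω)⁻¹ * s⁻¹ = y⁻¹ * (s * y * s⁻¹)
            rw [hue]; group
        | one =>
          rw [autFun_of_mem α P.one_mem, show (⟨1, P.one_mem⟩ : P) = 1 from rfl, map_one]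
          exact ⟨V.one_mem, by simp⟩
        | mul a b ha hb iha ihb =>
          refine ⟨autFun_map_mul α (hVP ha) (hVP hb) ▸ V.mul_mem iha.1 ihb.1, ?_⟩
          rw [autFun_map_mul α (hVP ha) (hVP hb)]
          have h1 := (Z i).mul_mem (hconj i b⁻¹ (S.inv_mem (hP (hVP hb))) _ iha.2) ihb.2
          simpa [mul_assoc] using h1
        | inv a ha iha =>
          refine ⟨autFun_map_inv α (hVP ha) ▸ V.inv_mem iha.1, ?_⟩
          rw [autFun_map_inv α (hVP ha)]
          have h1 := hconj i a (hP (hVP ha)) _ ((Z i).inv_mem iha.2)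
          simpa [mul_assoc] using h1
      have hW : ∀ y ∈ V ⊓ Z i, autFun α y = y := by
        refine fix_of_fix_small hS hP (inf_le_left.trans hVP) hco (fun y hy => ?_) fun y hy hys => ?_
        · refine Subgroup.mem_inf.2 ⟨(hVinv y hy.1).1, ?_⟩
          have h2 := (Z i).mul_mem hy.2 (hVinv y hy.1).2
          rwa [mul_inv_cancel_left] at h2
        · exact ih y (hVP hy.1) (hVH hy.1) hy.2 hys
      intro y hy hyH hyZ hys
      have hyV : y ∈ V := Subgroup.subset_closure ⟨hy, hyH, hyZ, hys⟩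
      exact fix_of_fix_quotient hS hP hco hy
        (hW _ (Subgroup.mem_inf.2 ⟨V.mul_mem (V.inv_mem hyV) (hVinv y hyV).1, (hVinv y hyV).2⟩))
  haveI := hS.isNilpotent
  obtain ⟨n, hn⟩ := Group.IsNilpotent.nilpotent' (G := ↥S)
  have hR : ∀ y ∈ P ⊓ H, autFun α y = y :=
    fix_of_fix_small hS hP inf_le_left hco
      (fun y hy => Subgroup.mem_inf.2 ⟨autFun_mem α hy.1, hRinv y hy.1 hy.2⟩)
      fun y hy hys => key n y hy.1 hy.2 ⟨⟨y, hP hy.1⟩, hn ▸ Subgroup.mem_top _, rfl⟩ hys
  intro x hx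
  rw [Subgroup.mem_bot, inv_mul_eq_one]
  exact (fix_of_fix_quotient hS hP hco hx (hR _ (Subgroup.mem_inf.2
    ⟨P.mul_mem (P.inv_mem hx) (autFun_mem α hx), hyperfocal_le_iff.1 le_rfl P hP α hα hco x hx⟩))).symm

end CfsgLib.Fus
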