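import Cfsg.Agent.Fus.NormalClosureImages
import Cfsg.Agent.Fus.SmallElements

/-!
A strongly closed subgroup whose small elements have a central series of strongly closed
subgroups is normal, for odd primes.
-/

set_option autoImplicit false
set_option linter.style.haveILetI false

open Cfsg Cfsg.FusionSystem
open scoped commutatorElement

namespace CfsgLib.Fus.OmegaSeries

variable {Ω : Type*} [Group Ω] {S : Subgroup Ω} {F : FusionSystem S} {p : ℕ}

/-- The automorphisms in `F` acting trivially on the factors of an invariant series. -/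
def stabK (F : FusionSystem S) (P : Subgroup Ω) (m : ℕ) (D : ℕ → Subgroup Ω) (hDP : ∀ j ≤ m, D j ≤ P)
    (hinv : ∀ α ∈ F.autGroup P, ∀ j ≤ m, ∀ y ∈ D j, autFun α y ∈ D j) : Subgroup (MulAut P) where
  carrier := {κ | κ ∈ F.autGroup P ∧ ∀ j < m, ∀ y ∈ D (j + 1), y⁻¹ * autFun κ y ∈ D j}
  one_mem' := ⟨Subgroup.one_mem _, fun j hj y hy => by
    rw [autFun_one (hDP _ hj hy), inv_mul_cancel]
    exact Subgroup.one_mem _⟩
  mul_mem' := by
    rintro κ μ ⟨hκA, hκ⟩ ⟨hμA, hμ⟩
    refine ⟨Subgroup.mul_mem _ hκA hμA, fun j hj y hy => ?_⟩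
    have hyP := hDP _ hj hy
    have h1 := (D j).mul_mem (hκ j hj y hy) (hinv κ hκA j hj.le _ (hμ j hj y hy))
    rw [autFun_map_mul κ (P.inv_mem hyP) (autFun_mem μ hyP), autFun_map_inv κ hyP] at h1
    rw [autFun_mul _ _ hyP]
    simpa [mul_assoc] using h1
  inv_mem' := by
    rintro κ ⟨hκA, hκ⟩
    refine ⟨Subgroup.inv_mem _ hκA, fun j hj y hy => ?_⟩
    have hyP := hDP _ hj hy
    have h1 := hinv κ⁻¹ (Subgroup.inv_mem _ hκA) j hj.le _ ((D j).inv_mem (hκ j hj y hy))
    rw [mul_inv_rev, inv_inv, autFun_map_mul _ (P.inv_mem (autFun_mem κ hyP)) hyP,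
      autFun_map_inv _ (autFun_mem κ hyP), autFun_inv_apply' κ hyP] at h1
    exact h1

theorem stabK_normal {P : Subgroup Ω} {m : ℕ} {D : ℕ → Subgroup Ω} {hDP : ∀ j ≤ m, D j ≤ P}
    {hinv : ∀ α ∈ F.autGroup P, ∀ j ≤ m, ∀ y ∈ D j, autFun α y ∈ D j} :
    ∀ α ∈ F.autGroup P, ∀ κ ∈ stabK F P m D hDP hinv, α * κ * α⁻¹ ∈ stabK F P m D hDP hinv := by
  rintro α hα κ ⟨hκA, hκ⟩
  refine ⟨Subgroup.mul_mem _ (Subgroup.mul_mem _ hα hκA) (Subgroup.inv_mem _ hα), fun j hj y hy => ?_⟩
  have hyP := hDP _ hj hy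
  have hy' := autFun_mem α⁻¹ hyP
  have h1 := hinv α hα j hj.le _ (hκ j hj _ (hinv α⁻¹ (Subgroup.inv_mem _ hα) (j + 1) hj y hy))
  rw [autFun_map_mul α (P.inv_mem hy') (autFun_mem κ hy'), autFun_map_inv α hy',
    autFun_inv_apply α hyP] at h1
  rw [autFun_conj _ _ hyP]
  exact h1

variable [Finite S] [hp : Fact p.Prime]

theorem normal_of_omega_series (hS : IsPGroup p S) (hF : F.IsSaturated p) (h2 : p ≠ 2) {P : Subgroup Ω}
    (hP : F.StronglyClosed P) (n : ℕ) (C : ℕ → Subgroup Ω) (h0 : C 0 = ⊥) (hn : C n = omegaOne p P)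
    (hle : ∀ i ≤ n, C i ≤ omegaOne p P) (hscl : ∀ i ≤ n, F.StronglyClosed (C i))
    (hcomm : ∀ i < n, ⁅C (i + 1), P⁆ ≤ C i) : F.IsNormal P := by
  have hO : omegaOne p P ≤ P := (Subgroup.closure_le _).2 fun x hx => hx.1
  have hNO : F.IsNormal (omegaOne p P) := normal_of_series hS hF (hn ▸ hscl n le_rfl) n C h0 hn hle
    (fun i hi => (Subgroup.commutator_mono le_rfl hO).trans (hcomm i hi))
    fun i hi => stronglyClosed_weaklyClosed (hscl i hi.le)
  refine normal_of_closed hS hF hP fun R hc hr => ?_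
  have hOR : omegaOne p P ≤ R := normal_le_centric_radical hS hNO hc hr
  refine le_of_normalizer_le hS hc.1 hP.1 (stronglyClosed_normal hP) fun x hx hxn => ?_
  haveI := finite_of_le hc.1
  have hscl' := (stronglyClosed_iff.1 hP).2
  have hinv1 : ∀ α ∈ F.autGroup R, ∀ j ≤ n, ∀ y ∈ C j, autFun α y ∈ C j := fun α hα j hj y hy =>
    autFun_mem_of_stronglyClosed (hscl j hj) hc.1 hα (hOR (hle j hj hy)) hy
  let D2 : ℕ → Subgroup Ω := fun j => if j = 0 then R ⊓ P else R
  have hD2 : ∀ j ≤ 1, D2 j ≤ R := fun j _ => by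
    by_cases h : j = 0
    · simp [D2, h]
    · simp [D2, h]
  have hinv2 : ∀ α ∈ F.autGroup R, ∀ j ≤ 1, ∀ y ∈ D2 j, autFun α y ∈ D2 j := fun α hα j _ y hy => by
    by_cases h : j = 0
    · simp only [D2, h, if_pos] at hy ⊢
      exact ⟨autFun_mem α hy.1, autFun_mem_of_stronglyClosed hP hc.1 hα hy.1 hy.2⟩
    · simp only [D2, h, if_false] at hy ⊢
      exact autFun_mem α hy
  set K := stabK F R n C (fun j hj => (hle j hj).trans hOR) hinv1 ⊓ stabK F R 1 D2 hD2 hinv2 with hK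
  have hKp : IsPGroup p K := isPGroup_of_ppow _ fun γ hγ => by
    obtain ⟨hγ1, hγ2⟩ := Subgroup.mem_inf.1 hγ
    haveI := finite_mulAut (S := S) hc.1
    set a := (orderOf γ).factorization p
    refine ⟨a, ?_⟩
    set δ := γ ^ p ^ a with hδ
    have hδA : δ ∈ F.autGroup R := pow_mem hγ1.1 _
    have hco : (orderOf δ).Coprime p := by
      rw [hδ, orderOf_pow' _ (pow_ne_zero _ hp.out.ne_zero), Nat.gcd_eq_right (Nat.ordProj_dvd _ p)]
      exact (Nat.coprime_ordCompl hp.out (orderOf_pos γ).ne').symm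
    have hfixO : ∀ y ∈ omegaOne p P, autFun δ y = y := by
      haveI := finite_of_le (hOR.trans hc.1)
      obtain ⟨b, hbo, hb⟩ := exists_restrict_aut hOR δ fun y hy => by
        rw [← hn] at hy ⊢
        exact hinv1 δ hδA n le_rfl y hy
      obtain ⟨k, hk⟩ := ppow_eq_one_of_series (hS.to_le (hOR.trans hc.1)) b n (fun j => (C j : Set Ω))
        (fun y hy => hn.ge hy) ⟨0, fun y _ hy => by
          have hy1 : y = 1 := Subgroup.mem_bot.1 (h0 ▸ hy)
          subst hy1
          rw [autFun_of_mem _ (one_mem _)]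
          exact congrArg Subtype.val (_root_.map_one _)⟩
        fun j hj y hy hyC => by
          rw [hb y hy]
          exact ((pow_mem hγ1 (p ^ a) : δ ∈ stabK F R n C _ hinv1)).2 j hj y hyC
      have hb1 : b = 1 := orderOf_eq_one_iff.1 (Nat.eq_one_of_dvd_coprimes
        ((hco.coprime_dvd_left hbo).pow_right k) dvd_rfl (orderOf_dvd_of_pow_eq_one hk))
      intro y hy
      rw [← hb y hy, hb1, autFun_one hy]
    have hfixRP : ∀ y ∈ R ⊓ P, autFun δ y = y := fix_of_fix_small hS hc.1 inf_le_left hco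
      (fun y hy => ⟨autFun_mem δ hy.1, autFun_mem_of_stronglyClosed hP hc.1 hδA hy.1 hy.2⟩)
      fun y hy hyp => by
        rcases hyp with h | ⟨h, -⟩
        · exact hfixO y (Subgroup.subset_closure ⟨hy.2, h⟩)
        · exact absurd h h2
    refine aut_ext fun y hy => ?_
    rw [autFun_one hy]
    refine fix_of_fix_quotient hS hc.1 hco hy (hfixRP _ ?_)
    exact ((pow_mem hγ2 (p ^ a) : δ ∈ stabK F R 1 D2 hD2 hinv2)).2 0 one_pos y
      (by simpa [D2] using hy)
  obtain ⟨κ, hκ, hκe⟩ := exists_autInducedBy (K := S) (hP.1 hx) hxn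
  have hκA := autInducedBy_le_autGroup (F := F) hc.1 hκ
  refine mem_of_centric_radical hc hr K (fun γ hγ => (Subgroup.mem_inf.1 hγ).1.1) hKp
    (fun α hα γ hγ => Subgroup.mem_inf.2 ⟨stabK_normal α hα γ (Subgroup.mem_inf.1 hγ).1,
      stabK_normal α hα γ (Subgroup.mem_inf.1 hγ).2⟩) (hP.1 hx) (κ := κ) (Subgroup.mem_inf.2
    ⟨⟨hκA, fun j hj y hy => ?_⟩, ⟨hκA, fun j hj y hy => ?_⟩⟩) hκe
  · rw [hκe y (hOR (hle _ hj hy))]
    have h1 : ⁅y⁻¹, x⁆ ∈ C j := hcomm j hj (Subgroup.commutator_mem_commutator (inv_mem hy) hx)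
    rw [commutatorElement_def, inv_inv] at h1
    simpa [mul_assoc] using h1
  · obtain rfl : j = 0 := by omega
    have hyR : y ∈ R := by simpa [D2] using hy
    rw [hκe y hyR]
    simp only [D2, if_pos]
    refine ⟨R.mul_mem (R.inv_mem hyR) (conj_mem_of_normalizer hxn hyR), ?_⟩
    have hn' := conj_mem_of_normalizer (stronglyClosed_normal hP (hc.1 (R.inv_mem hyR))) hx
    rw [inv_inv] at hn'
    simpa [mul_assoc] using P.mul_mem hn' (P.inv_mem hx)

omit hp in
theorem series_of_normal [hp : Fact p.Prime] (hS : IsPGroup p S) {P : Subgroup Ω} (hN : F.IsNormal P) :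
    ∃ (n : ℕ) (C : ℕ → Subgroup Ω), C n = omegaOne p P ∧ C 0 = ⊥ ∧ Monotone C ∧
      (∀ i, F.StronglyClosed (C i)) ∧ ∀ i < n, ⁅C (i + 1), P⁆ ≤ C i := by
  have hPS := hN.1
  have hO : omegaOne p P ≤ P := (Subgroup.closure_le _).2 fun x hx => hx.1
  let D : ℕ → Subgroup Ω := fun i => Nat.rec (omegaOne p P) (fun _ X => ⁅X, P⁆) i
  have hD : ∀ i, D i ≤ NormalImages.lcs P i := by
    intro i
    induction i with
    | zero => exact hO
    | succ i ih => exact Subgroup.commutator_mono ih le_rfl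
  have hDP : ∀ i, D i ≤ P := fun i => (hD i).trans (NormalImages.lcs_le P i)
  have hPn : P ≤ Subgroup.normalizer (P : Set Ω) := Subgroup.le_normalizer
  have hstep : ∀ i, D (i + 1) ≤ D i := by
    intro i
    induction i with
    | zero =>
      refine Subgroup.commutator_le.2 fun a ha b hb => ?_
      rw [commutatorElement_def, mul_assoc, mul_assoc]
      refine (omegaOne p P).mul_mem ha ?_
      have hle : omegaOne p P ≤ (omegaOne p P).comap (MulAut.conj b).toMonoidHom :=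
        (Subgroup.closure_le _).2 fun z hz => Subgroup.subset_closure
          ⟨P.mul_mem (P.mul_mem hb hz.1) (P.inv_mem hb), by
            show (b * z * b⁻¹) ^ p = 1
            rw [conj_pow, hz.2, mul_one, mul_inv_cancel]⟩
      have h2 : b * a⁻¹ * b⁻¹ ∈ omegaOne p P := hle ((omegaOne p P).inv_mem ha)
      rwa [mul_assoc] at h2
    | succ i ih => exact Subgroup.commutator_mono ih le_rfl
  have hscl : ∀ i, F.StronglyClosed (D i) := by
    intro i
    refine stronglyClosed_iff.2 ⟨(hDP i).trans hPS, fun Q f hf x hx hxD => ?_⟩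
    obtain ⟨g, hg, hge, hgP⟩ := (isNormal_iff.1 hN).2 Q f hf
    rw [← hge x hx]
    have hgP' : ∀ y ∈ P, g y ∈ P := fun y hy => hgP ▸ mem_img_of_mem hy
    have hPM : P ≤ Q ⊔ P := le_sup_right
    have key : ∀ k, ∀ y ∈ D k, g y ∈ D k := by
      intro k
      induction k with
      | zero =>
        obtain ⟨φ, -, hφg⟩ := hg
        have hle : omegaOne p P ≤ ((omegaOne p P).comap φ).map (Q ⊔ P).subtype :=
          (Subgroup.closure_le _).2 fun z hz => ⟨⟨z, hPM hz.1⟩, Subgroup.subset_closure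
            ⟨by rw [hφg]; exact hgP' z hz.1, by
              rw [← map_pow, show (⟨z, hPM hz.1⟩ : ↥(Q ⊔ P)) ^ p = 1 from Subtype.ext hz.2, map_one]⟩, rfl⟩
        intro y hy
        obtain ⟨z, hz, rfl⟩ := hle hy
        show g (z : Ω) ∈ omegaOne p P
        rw [← hφg z]
        exact hz
      | succ k ih => exact NormalImages.map_comm hg ((hDP k).trans hPM) hPM ih hgP'
    exact key i x hxD
  haveI := finite_of_le hPS
  haveI := (isPGroup_of_le hS hPS).isNilpotent
  obtain ⟨n, hn⟩ := Subgroup.nilpotent_iff_lowerCentralSeries.1 (inferInstance : Group.IsNilpotent P)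
  refine ⟨n, fun i => D (n - i), ?_, ?_, monotone_nat_of_le_succ fun i => ?_, fun i => hscl _, fun i hi => ?_⟩
  · show D (n - n) = _
    rw [Nat.sub_self]
    rfl
  · show D (n - 0) = _
    refine le_bot_iff.1 ((hD _).trans ?_)
    rw [Nat.sub_zero, NormalImages.lcs_eq, hn, Subgroup.map_bot]
  · show D (n - i) ≤ D (n - (i + 1))
    rcases le_or_gt n i with h | h
    · rw [Nat.sub_eq_zero_of_le h, Nat.sub_eq_zero_of_le (by omega : n ≤ i + 1)]
    · rw [show n - i = (n - (i + 1)) + 1 by omega]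
      exact hstep _
  · show ⁅D (n - (i + 1)), P⁆ ≤ D (n - i)
    rw [show n - i = (n - (i + 1)) + 1 by omega]

end CfsgLib.Fus.OmegaSeries
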