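import Cfsg.Agent.Lie.InvolutionDecomp

/-!
Classes of involutions in `PGL_n(q)`, `q` odd.
-/

set_option autoImplicit false
set_option linter.unusedSectionVars false

namespace CfsgLib.Fus.PGLInvolution

open Matrix Module
open scoped Classical

variable {F : Type*} [Field F] {n : ℕ}

/-- Matrices intertwined by a linear equivalence are conjugate. -/
theorem conj_of_equiv (g h : GL (Fin n) F) (L : (Fin n → F) ≃ₗ[F] (Fin n → F))
    (hL : ∀ v, L ((g : Matrix (Fin n) (Fin n) F) *ᵥ v) = (h : Matrix (Fin n) (Fin n) F) *ᵥ L v) :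
    IsConj g h := by
  let c : GL (Fin n) F :=
    ⟨LinearMap.toMatrix' L.toLinearMap, LinearMap.toMatrix' L.symm.toLinearMap,
      by rw [← LinearMap.toMatrix'_comp]; simp,
      by rw [← LinearMap.toMatrix'_comp]; simp⟩
  refine isConj_iff.2 ⟨c, mul_inv_eq_iff_eq_mul.2 (Units.ext (Matrix.ext_of_mulVec_single fun i => ?_))⟩
  rw [Units.val_mul, Units.val_mul, ← Matrix.mulVec_mulVec, ← Matrix.mulVec_mulVec]
  show LinearMap.toMatrix' L.toLinearMap *ᵥ _ = _ *ᵥ (LinearMap.toMatrix' L.toLinearMap *ᵥ _)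
  simp only [LinearMap.toMatrix'_mulVec, LinearEquiv.coe_coe, hL]

/-- Eigen-decomposition of an involution. -/
theorem compl (h2 : (2 : F) ≠ 0) (g : Matrix (Fin n) (Fin n) F) (hg : g * g = 1) :
    IsCompl (LinearMap.ker (g - 1).mulVecLin) (LinearMap.ker (g + 1).mulVecLin) := by
  have hgg : ∀ v, g *ᵥ (g *ᵥ v) = v := fun v => by rw [Matrix.mulVec_mulVec, hg, Matrix.one_mulVec]
  refine ⟨Submodule.disjoint_def.2 fun v h1 h3 => ?_, codisjoint_iff.2 (Submodule.eq_top_iff'.2 fun v => ?_)⟩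
  · simp only [LinearMap.mem_ker, Matrix.mulVecLin_apply, Matrix.sub_mulVec, Matrix.add_mulVec, Matrix.one_mulVec] at h1 h3
    have : (2 : F) • v = 0 := by
      rw [show (2 : F) • v = (g *ᵥ v + v) - (g *ᵥ v - v) by module, h1, h3, sub_zero]
    exact (smul_eq_zero.1 this).resolve_left h2
  · refine Submodule.mem_sup.2 ⟨(2 : F)⁻¹ • (g *ᵥ v + v), ?_, -((2 : F)⁻¹ • (g *ᵥ v - v)), ?_, ?_⟩
    · simp [Matrix.sub_mulVec, Matrix.mulVec_smul, Matrix.mulVec_add, hgg]
      try module
    · simp [Matrix.add_mulVec, Matrix.mulVec_smul, Matrix.mulVec_sub, Matrix.mulVec_neg, hgg]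
      try module
    · rw [← sub_eq_add_neg, ← smul_sub, show g *ᵥ v + v - (g *ᵥ v - v) = (2 : F) • v by module,
        smul_smul, inv_mul_cancel₀ h2, one_smul]

theorem rank_add (h2 : (2 : F) ≠ 0) (g : Matrix (Fin n) (Fin n) F) (hg : g * g = 1) :
    (g - 1).rank + (g + 1).rank = n := by
  have h1 := LinearMap.finrank_range_add_finrank_ker (g - 1).mulVecLin
  have h3 := LinearMap.finrank_range_add_finrank_ker (g + 1).mulVecLin
  have h4 := Submodule.finrank_add_eq_of_isCompl (compl h2 g hg)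
  simp only [Module.finrank_fintype_fun_eq_card, Fintype.card_fin] at h1 h3 h4
  simp only [Matrix.rank]
  omega

/-- Involutions with equal rank of `g - 1` are conjugate. -/
theorem conj_square (h2 : (2 : F) ≠ 0) (g h : GL (Fin n) F)
    (hg : (g : Matrix (Fin n) (Fin n) F) * g = 1) (hh : (h : Matrix (Fin n) (Fin n) F) * h = 1)
    (hr : ((g : Matrix (Fin n) (Fin n) F) - 1).rank = ((h : Matrix (Fin n) (Fin n) F) - 1).rank) :
    IsConj g h := by
  have cg := compl h2 _ hg
  have ch := compl h2 _ hh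
  have hdim : ∀ m : Matrix (Fin n) (Fin n) F, m.rank + finrank F (LinearMap.ker m.mulVecLin) = n := fun m => by
    simpa [Matrix.rank] using LinearMap.finrank_range_add_finrank_ker m.mulVecLin
  have e1 := LinearEquiv.ofFinrankEq _ _ (show finrank F (LinearMap.ker ((g : Matrix (Fin n) (Fin n) F) - 1).mulVecLin) =
      finrank F (LinearMap.ker ((h : Matrix (Fin n) (Fin n) F) - 1).mulVecLin) by
    have := hdim ((g : Matrix (Fin n) (Fin n) F) - 1); have := hdim ((h : Matrix (Fin n) (Fin n) F) - 1); omega)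
  have e2 := LinearEquiv.ofFinrankEq _ _ (show finrank F (LinearMap.ker ((g : Matrix (Fin n) (Fin n) F) + 1).mulVecLin) =
      finrank F (LinearMap.ker ((h : Matrix (Fin n) (Fin n) F) + 1).mulVecLin) by
    have := hdim ((g : Matrix (Fin n) (Fin n) F) + 1); have := hdim ((h : Matrix (Fin n) (Fin n) F) + 1)
    have := rank_add h2 _ hg; have := rank_add h2 _ hh; omega)
  let pg := Submodule.prodEquivOfIsCompl _ _ cg
  let ph := Submodule.prodEquivOfIsCompl _ _ ch
  refine conj_of_equiv g h (pg.symm.trans ((e1.prodCongr e2).trans ph)) fun v => ?_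
  obtain ⟨⟨a, b⟩, rfl⟩ := pg.surjective v
  have eig : ∀ {m : Matrix (Fin n) (Fin n) F} {x : Fin n → F}, (x ∈ LinearMap.ker (m - 1).mulVecLin → m *ᵥ x = x) ∧
      (x ∈ LinearMap.ker (m + 1).mulVecLin → m *ᵥ x = -x) := by
    intro m x
    simp only [LinearMap.mem_ker, Matrix.mulVecLin_apply, Matrix.sub_mulVec, Matrix.add_mulVec, Matrix.one_mulVec]
    exact ⟨sub_eq_zero.1, eq_neg_of_add_eq_zero_left⟩
  have hgv : (g : Matrix (Fin n) (Fin n) F) *ᵥ pg (a, b) = pg (a, -b) := by
    simp [pg, Submodule.coe_prodEquivOfIsCompl', Matrix.mulVec_add, eig.1 a.2, eig.2 b.2]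
  rw [hgv]
  simp only [LinearEquiv.trans_apply, LinearEquiv.symm_apply_apply, LinearEquiv.prodCongr_apply, map_neg]
  simp [ph, Submodule.coe_prodEquivOfIsCompl', Matrix.mulVec_add, eig.1 (e1 a).2, eig.2 (e2 b).2]

theorem frame (g : Matrix (Fin n) (Fin n) F) (z : F) (hg : g * g = z • 1) (hz : ∀ r : F, r * r ≠ z) :
    Even n ∧ ∃ b : Basis (Fin (n / 2) ⊕ Fin (n / 2)) F (Fin n → F),
      ∀ i, g *ᵥ b (Sum.inl i) = b (Sum.inr i) ∧ g *ᵥ b (Sum.inr i) = z • b (Sum.inl i) := by
  have hT : ∀ v, g.mulVecLin (g.mulVecLin v) = z • v := fun v => by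
    simp [Matrix.mulVec_mulVec, hg, Matrix.smul_mulVec]
  obtain ⟨u, hu⟩ := CfsgLib.Lie.InvolutionDecomp.pairs g.mulVecLin z hT hz ((n + 1) / 2) (by
    rw [Module.finrank_fintype_fun_eq_card, Fintype.card_fin]; omega)
  have hle := Submodule.finrank_le (Submodule.span F (Set.range (Sum.elim u (g.mulVecLin ∘ u))))
  rw [hu, Module.finrank_fintype_fun_eq_card, Fintype.card_fin] at hle
  have hev : Even n := Nat.even_iff.2 (by omega)
  have hk : (n + 1) / 2 = n / 2 := by omega
  obtain ⟨u', hu'⟩ : ∃ u' : Fin (n / 2) → Fin n → F,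
      finrank F (Submodule.span F (Set.range (Sum.elim u' (g.mulVecLin ∘ u')))) = 2 * (n / 2) := by
    rw [← hk]; exact ⟨u, hu⟩
  have hcard : Fintype.card (Fin (n / 2) ⊕ Fin (n / 2)) = finrank F (Fin n → F) := by
    simp only [Fintype.card_sum, Fintype.card_fin, Module.finrank_fintype_fun_eq_card]; omega
  have htop : Submodule.span F (Set.range (Sum.elim u' (g.mulVecLin ∘ u'))) = ⊤ := Submodule.eq_top_of_finrank_eq (by
    rw [hu', Module.finrank_fintype_fun_eq_card, Fintype.card_fin]; omega)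
  refine ⟨hev, basisOfTopLeSpanOfCardEqFinrank _ htop.ge hcard, fun i => ?_⟩
  rw [coe_basisOfTopLeSpanOfCardEqFinrank]
  exact ⟨rfl, hT (u' i)⟩

theorem conj_nonsquare (g h : GL (Fin n) F) (z : F) (hg : (g : Matrix (Fin n) (Fin n) F) * g = z • 1)
    (hh : (h : Matrix (Fin n) (Fin n) F) * h = z • 1) (hz : ∀ r : F, r * r ≠ z) : IsConj g h := by
  obtain ⟨-, bg, hbg⟩ := frame _ z hg hz
  obtain ⟨-, bh, hbh⟩ := frame _ z hh hz
  refine conj_of_equiv g h (bg.equiv bh (Equiv.refl _)) fun v => ?_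
  refine LinearMap.congr_fun (bg.ext (f₁ := (bg.equiv bh (Equiv.refl _)).toLinearMap ∘ₗ (g : Matrix (Fin n) (Fin n) F).mulVecLin)
    (f₂ := (h : Matrix (Fin n) (Fin n) F).mulVecLin ∘ₗ (bg.equiv bh (Equiv.refl _)).toLinearMap) ?_) v
  rintro (i | i) <;>
    simp [(hbg i).1, (hbg i).2, (hbh i).1, (hbh i).2, Basis.equiv_apply]

theorem mem_center {g : GL (Fin n) F} :
    g ∈ Subgroup.center (GL (Fin n) F) ↔ ∃ r : F, r • (1 : Matrix (Fin n) (Fin n) F) = g := by
  rw [Matrix.GeneralLinearGroup.mem_center_iff_val_mem_range_scalar]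
  simp only [Set.mem_range, Matrix.scalar_apply, Matrix.smul_one_eq_diagonal]

theorem of_sq (A : Matrix (Fin n) (Fin n) F) (z : F) (hz : z ≠ 0) (h : A * A = z • 1) :
    ∃ g : GL (Fin n) F, (g : Matrix (Fin n) (Fin n) F) = A :=
  ⟨⟨A, z⁻¹ • A, by rw [Matrix.mul_smul, h, smul_smul, inv_mul_cancel₀ hz, one_smul],
    by rw [Matrix.smul_mul, h, smul_smul, inv_mul_cancel₀ hz, one_smul]⟩, rfl⟩

theorem mk_eq_of_smul {g h : GL (Fin n) F} {r : F}
    (e : (g : Matrix (Fin n) (Fin n) F) = r • (h : Matrix (Fin n) (Fin n) F)) :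
    (g : GL (Fin n) F ⧸ Subgroup.center (GL (Fin n) F)) = (h : GL (Fin n) F ⧸ Subgroup.center (GL (Fin n) F)) := by
  rw [eq_comm, QuotientGroup.eq]
  refine mem_center.2 ⟨r, ?_⟩
  rw [Units.val_mul, e, Matrix.mul_smul, ← Units.val_mul, inv_mul_cancel, Units.val_one]

theorem main [Fintype F] {q : ℕ} (hF : Fintype.card F = q) (hq : Odd q) (hn : 2 ≤ n) :
    Nat.card {C : ConjClasses (GL (Fin n) F ⧸ Subgroup.center (GL (Fin n) F)) //
      ∃ g : GL (Fin n) F ⧸ Subgroup.center (GL (Fin n) F), ConjClasses.mk g = C ∧ orderOf g = 2} =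
      n / 2 + (if Even n then 1 else 0) := by
  have hc2 : ringChar F ≠ 2 := fun h => by
    have := FiniteField.even_card_of_char_two h
    rw [hF, ← Nat.even_iff] at this
    exact Nat.not_odd_iff_even.2 this hq
  have h2 : (2 : F) ≠ 0 := Ring.two_ne_zero hc2
  obtain ⟨ν, hν⟩ := FiniteField.exists_nonsquare hc2
  have hν0 : ν ≠ 0 := fun h => hν (h ▸ IsSquare.zero)
  have hνs : ∀ r : F, r * r ≠ ν := fun r h => hν ⟨r, h.symm⟩
  -- representatives
  let dA : Fin (n / 2) → Matrix (Fin n) (Fin n) F := fun i => Matrix.diagonal fun j => if (j : ℕ) ≤ i then -1 else 1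
  have hdA : ∀ i, dA i * dA i = (1 : F) • 1 := fun i => by
    simp only [dA, Matrix.diagonal_mul_diagonal, one_smul, ← Matrix.diagonal_one]
    congr 1; funext j; split_ifs <;> simp
  choose D hD using fun i => of_sq (dA i) 1 one_ne_zero (hdA i)
  have hrk : ∀ i, (dA i - 1).rank = (i : ℕ) + 1 := by
    intro i
    simp only [dA, ← Matrix.diagonal_one, Matrix.diagonal_sub, Matrix.rank_diagonal]
    rw [Fintype.card_congr (Equiv.subtypeEquivRight (q := fun j : Fin n => (j : ℕ) < (i : ℕ) + 1) fun j => ?_)]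
    · rw [Fintype.card_congr (Equiv.mk (fun j => (⟨j.1, j.2⟩ : Fin ((i : ℕ) + 1)))
        (fun j => (⟨⟨j, by omega⟩, j.2⟩ : {j : Fin n // (j : ℕ) < (i : ℕ) + 1})) (fun j => rfl) (fun j => rfl)), Fintype.card_fin]
    · rw [Nat.lt_succ_iff]
      split_ifs with h
      · simp only [h, iff_true]
        intro h'
        exact h2 (by linear_combination -h')
      · simp [h]
  have hJ : Even n → ∃ J : GL (Fin n) F, (J : Matrix (Fin n) (Fin n) F) * J = ν • 1 := by
    intro hev
    have he : n / 2 + n / 2 = n := by have := Nat.even_iff.1 hev; omega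
    let e : Fin (n / 2) ⊕ Fin (n / 2) ≃ Fin n := finSumFinEquiv.trans (finCongr he)
    let B : Matrix (Fin (n / 2) ⊕ Fin (n / 2)) (Fin (n / 2) ⊕ Fin (n / 2)) F := Matrix.fromBlocks 0 (ν • 1) 1 0
    have hB : B.submatrix e.symm e.symm * B.submatrix e.symm e.symm = ν • 1 := by
      rw [Matrix.submatrix_mul_equiv, Matrix.fromBlocks_multiply]
      simp [← Matrix.fromBlocks_smul, Matrix.fromBlocks_one, Matrix.submatrix_smul, Matrix.submatrix_one_equiv]
      rw [← smul_zero ν, ← Matrix.fromBlocks_smul, Matrix.fromBlocks_one, Matrix.submatrix_smul,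
        Pi.smul_apply, Pi.smul_apply, Matrix.submatrix_one_equiv]
    obtain ⟨J, hJ⟩ := of_sq _ ν hν0 hB
    exact ⟨J, by rw [hJ]; exact hB⟩
  choose J hJ using hJ
  let R : Fin (n / 2) ⊕ {_u : Unit // Even n} → GL (Fin n) F := Sum.elim D (fun u => J u.2)
  let zr : Fin (n / 2) ⊕ {_u : Unit // Even n} → F := Sum.elim (fun _ => 1) (fun _ => ν)
  have hR : ∀ x, (R x : Matrix (Fin n) (Fin n) F) * R x = zr x • 1 := by
    rintro (i | u)
    · show (D i : Matrix (Fin n) (Fin n) F) * D i = (1 : F) • 1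
      rw [hD]; exact hdA i
    · exact hJ u.2
  have hRc : ∀ x, R x ∉ Subgroup.center (GL (Fin n) F) := by
    intro x hx
    obtain ⟨r, hr⟩ := mem_center.1 hx
    rcases x with i | u
    · have h : r • (1 : Matrix (Fin n) (Fin n) F) = dA i := hr.trans (hD i)
      have h0 := congrFun (congrFun h ⟨0, by omega⟩) ⟨0, by omega⟩
      have h1 := congrFun (congrFun h ⟨n - 1, by omega⟩) ⟨n - 1, by omega⟩
      have hi := i.2
      simp [dA, show ¬ n - 1 ≤ (i : ℕ) by omega] at h0 h1
      exact h2 (by linear_combination h1.symm.trans h0)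
    · have h := hJ u.2
      rw [show J u.2 = R (Sum.inr u) from rfl, ← hr, Matrix.smul_mul, one_mul, smul_smul] at h
      have h0 := congrFun (congrFun h ⟨0, by omega⟩) ⟨0, by omega⟩
      simp at h0
      exact hνs r h0
  have hord : ∀ x, orderOf (R x : GL (Fin n) F ⧸ Subgroup.center (GL (Fin n) F)) = 2 := fun x =>
    haveI := Fact.mk Nat.prime_two
    orderOf_eq_prime (by
      rw [← QuotientGroup.mk_pow, QuotientGroup.eq_one_iff]
      exact mem_center.2 ⟨zr x, by rw [pow_two, Units.val_mul, hR]⟩)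
      (fun h => hRc x ((QuotientGroup.eq_one_iff _).1 h))
  -- the classes
  let Φ : Fin (n / 2) ⊕ {_u : Unit // Even n} → {C : ConjClasses (GL (Fin n) F ⧸ Subgroup.center (GL (Fin n) F)) //
      ∃ g : GL (Fin n) F ⧸ Subgroup.center (GL (Fin n) F), ConjClasses.mk g = C ∧ orderOf g = 2} :=
    fun x => ⟨ConjClasses.mk (R x : GL (Fin n) F ⧸ Subgroup.center (GL (Fin n) F)), _, rfl, hord x⟩
  have hΦ : Function.Bijective Φ := by
    constructor
    · intro x y h
      obtain ⟨c, hc⟩ := isConj_iff.1 (ConjClasses.mk_eq_mk_iff_isConj.1 (congrArg Subtype.val h))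
      obtain ⟨c, rfl⟩ := QuotientGroup.mk_surjective c
      rw [← QuotientGroup.mk_inv, ← QuotientGroup.mk_mul, ← QuotientGroup.mk_mul, eq_comm, QuotientGroup.eq] at hc
      obtain ⟨r, hr⟩ := mem_center.1 hc
      have e : (c : Matrix (Fin n) (Fin n) F) * R x * ((c⁻¹ : GL (Fin n) F) : Matrix (Fin n) (Fin n) F) =
          r • (R y : Matrix (Fin n) (Fin n) F) := by
        rw [← Units.val_mul, ← Units.val_mul, show c * R x * c⁻¹ = R y * ((R y)⁻¹ * (c * R x * c⁻¹)) by group,
          Units.val_mul, ← hr, Matrix.mul_smul, mul_one]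
      have hz : zr x = r * r * zr y := by
        have h1 : (r • (R y : Matrix (Fin n) (Fin n) F)) * (r • (R y : Matrix (Fin n) (Fin n) F)) = zr x • 1 := by
          rw [← e, show ∀ a b : Matrix (Fin n) (Fin n) F,
            ((c : Matrix (Fin n) (Fin n) F) * a * b) * ((c : Matrix (Fin n) (Fin n) F) * a * b) =
              (c : Matrix (Fin n) (Fin n) F) * (a * (b * c) * a) * b from fun a b => by simp only [mul_assoc],
            Units.inv_mul, mul_one, hR, Matrix.mul_smul, Matrix.smul_mul, mul_one, Units.mul_inv]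
        rw [Matrix.smul_mul, Matrix.mul_smul, hR, smul_smul, smul_smul] at h1
        have h0 := congrFun (congrFun h1 ⟨0, by omega⟩) ⟨0, by omega⟩
        simp at h0
        rw [← h0]
      rcases x with i | u <;> rcases y with j | u'
      · have hr1 : r * r = 1 := by simpa [zr] using hz.symm
        have hrank : (dA i - 1).rank = (r • dA j - 1).rank := by
          rw [← hD, ← hD, show (D j : Matrix (Fin n) (Fin n) F) = (R (Sum.inl j) : Matrix (Fin n) (Fin n) F) from rfl, ← e, show (c : Matrix (Fin n) (Fin n) F) * R (Sum.inl i) * ((c⁻¹ : GL (Fin n) F) : Matrix (Fin n) (Fin n) F) - 1 =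
            (c : Matrix (Fin n) (Fin n) F) * ((D i : Matrix (Fin n) (Fin n) F) - 1) * ((c⁻¹ : GL (Fin n) F) : Matrix (Fin n) (Fin n) F) by
              rw [mul_sub, sub_mul, mul_one, Units.mul_inv]; rfl,
            Matrix.rank_mul_eq_left_of_isUnit_det _ _ ((Matrix.isUnit_iff_isUnit_det _).1 (c⁻¹).isUnit),
            Matrix.rank_mul_eq_right_of_isUnit_det _ _ ((Matrix.isUnit_iff_isUnit_det _).1 c.isUnit)]
        have hi := i.2
        have hj := j.2
        rcases mul_self_eq_one_iff.1 hr1 with rfl | rfl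
        · rw [one_smul, hrk, hrk] at hrank
          exact congrArg Sum.inl (Fin.ext (by omega))
        · have hrk' := rank_add h2 (dA j) (by simpa using hdA j)
          rw [show (-1 : F) • dA j - 1 = (-1 : F) • (dA j + 1) by module,
            Matrix.rank_smul_of_mem_nonZeroDivisors _ (mem_nonZeroDivisors_of_ne_zero (neg_ne_zero.2 one_ne_zero)), hrk] at hrank
          rw [hrk] at hrk'
          exact congrArg Sum.inl (Fin.ext (by omega))
      · exfalso
        simp [zr] at hz
        refine hνs r⁻¹ ?_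
        have hr0 : r ≠ 0 := fun h => by simp [h] at hz
        field_simp
        linear_combination hz
      · exfalso
        simp [zr] at hz
        exact hνs r hz.symm
      · exact congrArg Sum.inr (Subsingleton.elim _ _)
    · rintro ⟨C, g, hC, hg⟩
      obtain ⟨g, rfl⟩ := QuotientGroup.mk_surjective g
      have hsq : g * g ∈ Subgroup.center (GL (Fin n) F) := by
        rw [← QuotientGroup.eq_one_iff, QuotientGroup.mk_mul, ← pow_two, ← hg, pow_orderOf_eq_one]
      have hnc : g ∉ Subgroup.center (GL (Fin n) F) := fun h => by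
        rw [(QuotientGroup.eq_one_iff g).2 h, orderOf_one] at hg; omega
      obtain ⟨z, hz⟩ := mem_center.1 hsq
      rw [Units.val_mul] at hz
      have hz0 : z ≠ 0 := fun h => by
        rw [h, zero_smul, ← Units.val_mul] at hz
        have h3 : (1 : Matrix (Fin n) (Fin n) F) = 0 := by rw [← Units.mul_inv (g * g), ← hz, zero_mul]
        have h0 := congrFun (congrFun h3 ⟨0, by omega⟩) ⟨0, by omega⟩
        simp at h0
      suffices ∃ x h, (g : GL (Fin n) F ⧸ Subgroup.center (GL (Fin n) F)) =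
          (h : GL (Fin n) F) ∧ IsConj h (R x) by
        obtain ⟨x, h, h1, h3⟩ := this
        exact ⟨x, Subtype.ext (by
          show ConjClasses.mk _ = C
          rw [← hC, h1]
          exact (ConjClasses.mk_eq_mk_iff_isConj.2 (MonoidHom.map_isConj (QuotientGroup.mk' _) h3)).symm)⟩
      have hscale : ∀ r : F, r ≠ 0 → ∃ h : GL (Fin n) F, (h : Matrix (Fin n) (Fin n) F) = r • g ∧
          (h : Matrix (Fin n) (Fin n) F) * h = (r * r * z) • 1 := by
        intro r hr
        have hh : (r • (g : Matrix (Fin n) (Fin n) F)) * (r • (g : Matrix (Fin n) (Fin n) F)) = (r * r * z) • 1 := by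
          rw [Matrix.smul_mul, Matrix.mul_smul, ← hz, smul_smul, smul_smul, mul_assoc]
        obtain ⟨h, hh'⟩ := of_sq _ _ (mul_ne_zero (mul_ne_zero hr hr) hz0) hh
        exact ⟨h, hh', by rw [hh']; exact hh⟩
      by_cases hzs : IsSquare z
      · obtain ⟨μ, rfl⟩ := hzs
        have hμ : μ ≠ 0 := left_ne_zero_of_mul hz0
        obtain ⟨h, hh, hh2⟩ := hscale μ⁻¹ (inv_ne_zero hμ)
        obtain ⟨h', hh', hh2'⟩ := hscale (-μ⁻¹) (neg_ne_zero.2 (inv_ne_zero hμ))
        rw [show μ⁻¹ * μ⁻¹ * (μ * μ) = 1 by field_simp, one_smul] at hh2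
        rw [show -μ⁻¹ * -μ⁻¹ * (μ * μ) = 1 by field_simp, one_smul] at hh2'
        have hsum := rank_add h2 _ hh2
        have hneg : ((h' : Matrix (Fin n) (Fin n) F) - 1).rank = ((h : Matrix (Fin n) (Fin n) F) + 1).rank := by
          rw [hh, hh', show (-μ⁻¹) • (g : Matrix (Fin n) (Fin n) F) - 1 = (-1 : F) • (μ⁻¹ • (g : Matrix (Fin n) (Fin n) F) + 1) by module,
            Matrix.rank_smul_of_mem_nonZeroDivisors _ (mem_nonZeroDivisors_of_ne_zero (neg_ne_zero.2 one_ne_zero))]
        have hzero : ∀ (k : GL (Fin n) F) (t : F), (k : Matrix (Fin n) (Fin n) F) = t • g → t ≠ 0 →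
            ((k : Matrix (Fin n) (Fin n) F) - 1).rank ≠ 0 := by
          intro k t hk ht h0
          refine hnc (mem_center.2 ⟨t⁻¹, ?_⟩)
          rw [Matrix.rank, Submodule.finrank_eq_zero, LinearMap.range_eq_bot] at h0
          have h1 : (k : Matrix (Fin n) (Fin n) F) - 1 = 0 := Matrix.ext_of_mulVec_single fun i =>
            (LinearMap.congr_fun h0 (Pi.single i 1)).trans (Matrix.zero_mulVec _).symm
          rw [← sub_eq_zero.1 h1, hk, smul_smul, inv_mul_cancel₀ ht, one_smul]
        have ha := hzero h _ hh (inv_ne_zero hμ)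
        have hb := hzero h' _ hh' (neg_ne_zero.2 (inv_ne_zero hμ))
        by_cases hle : ((h : Matrix (Fin n) (Fin n) F) - 1).rank ≤ n / 2
        · let i : Fin (n / 2) := ⟨((h : Matrix (Fin n) (Fin n) F) - 1).rank - 1, by omega⟩
          refine ⟨Sum.inl i, h, (mk_eq_of_smul hh).symm, conj_square h2 h (D i) hh2 (by rw [hD]; simpa using hdA i) ?_⟩
          rw [hD, hrk]; simp only [i]; omega
        · let i : Fin (n / 2) := ⟨((h' : Matrix (Fin n) (Fin n) F) - 1).rank - 1, by omega⟩
          refine ⟨Sum.inl i, h', (mk_eq_of_smul hh').symm, conj_square h2 h' (D i) hh2' (by rw [hD]; simpa using hdA i) ?_⟩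
          rw [hD, hrk]; simp only [i]; omega
      · have hq' : IsSquare (z * ν) := by
          rw [← quadraticChar_one_iff_isSquare (mul_ne_zero hz0 hν0), map_mul,
            quadraticChar_neg_one_iff_not_isSquare.2 hzs, quadraticChar_neg_one_iff_not_isSquare.2 hν]
          norm_num
        obtain ⟨s, hs⟩ := hq'
        have hs0 : s ≠ 0 := fun h => mul_ne_zero hz0 hν0 (by rw [hs, h, mul_zero])
        obtain ⟨h, hh, hh2⟩ := hscale (s / z) (div_ne_zero hs0 hz0)
        rw [show s / z * (s / z) * z = ν by field_simp; linear_combination -hs] at hh2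
        have hev := (frame _ ν hh2 hνs).1
        exact ⟨Sum.inr ⟨(), hev⟩, h, (mk_eq_of_smul hh).symm, conj_nonsquare h (J hev) ν hh2 (hJ hev) hνs⟩
  rw [← Nat.card_eq_of_bijective Φ hΦ, Nat.card_eq_fintype_card, Fintype.card_sum, Fintype.card_fin]
  split_ifs with hev
  · simp [Fintype.card_subtype, hev]
  · simp [Fintype.card_subtype, hev]

end CfsgLib.Fus.PGLInvolution
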