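import Cfsg.Agent.Fus.StrongInvariance
import Cfsg.Agent.Fus.Tate
import Cfsg.Agent.Fus.Equivalent

/-!
Saturated subsystems of `p`-power index are normal.
-/

set_option autoImplicit false
set_option linter.style.haveILetI false

open Cfsg Cfsg.FusionSystem

namespace CfsgLib.Fus.PPowNormal

variable {Ω : Type*} [Group Ω] {S T : Subgroup Ω} {F : FusionSystem S} {E : FusionSystem T} {p : ℕ}

theorem orderOf_coprime_of_agree {P R : Subgroup Ω} (hPR : P ≤ R) {α : MulAut P} {β : MulAut R}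
    (h : ∀ x ∈ P, autFun β x = autFun α x) (hβ : (orderOf β).Coprime p) : (orderOf α).Coprime p := by
  refine hβ.coprime_dvd_left (orderOf_dvd_of_pow_eq_one (aut_ext fun x hx => ?_))
  rw [← autFun_pow_agree hPR h _ x hx, pow_orderOf_eq_one, autFun_one (hPR hx), autFun_one hx]

/-- Elements of the residual of a finite automizer lie in any system containing the `p'`-elements. -/
theorem residual_le {K : Subgroup Ω} {D : FusionSystem K} {P : Subgroup Ω}
    {A : Subgroup (MulAut P)} (h : ∀ δ ∈ A, (orderOf δ).Coprime p → δ ∈ D.autGroup P) :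
    (pResidual p A).map A.subtype ≤ D.autGroup P := by
  rw [pResidual, MonoidHom.map_closure, Subgroup.closure_le]
  rintro _ ⟨δ, hδ, rfl⟩
  exact h _ δ.2 (by rw [Subgroup.coe_subtype, Subgroup.orderOf_coe]; exact hδ)

variable [Finite S] [hp : Fact p.Prime] (hS : IsPGroup p S) (hF : F.IsSaturated p)
  (hTS : T ≤ S) (hTn : S ≤ Subgroup.normalizer (T : Set Ω)) (hT : F.hyperfocalSubgroup p ≤ T)
  (hEs : E.IsSaturated p) (hEi : E.HasPPowerIndexIn F p)

include hS hF hTS hTn hT in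
theorem strongly_closed : F.StronglyClosed T := by
  refine stronglyClosed_iff.2 ⟨hTS, fun P f hf x hx hxT => ?_⟩
  obtain ⟨c, hc, hce⟩ := conj_mod hS hF hTn (hyperfocal_le_iff.1 hT) hf
  have := T.mul_mem (conj_mem_of_normalizer (hTn hc) hxT) (hce x hx)
  rwa [mul_inv_cancel_left] at this

include hTS hEi in
theorem pElement_mem {P : Subgroup Ω} (hP : P ≤ T) {δ : MulAut P} (hδ : δ ∈ F.autGroup P)
    (hc : (orderOf δ).Coprime p) : δ ∈ E.autGroup P := by
  refine hEi.2.2 P hP ⟨⟨δ, hδ⟩, CfsgLib.Inv.mem_pResidual ?_, rfl⟩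
  rwa [← Subgroup.orderOf_coe]

include hS hF hTS hTn hT hEs hEi in
theorem tinv : StrongInv.TInv E F := by
  intro P g hg β hβ
  haveI : Finite T := finite_of_le hTS
  have hTp : IsPGroup p T := isPGroup_of_le hS hTS
  have hb := (mem_autGroup hTS).1 hβ
  have hbm : ∀ R ≤ T, ∀ y ∈ img (autFun β) R, ∃ x ∈ R, autFun β x = y := fun R hR y hy =>
    (hb.mono hR).mem_img.1 hy
  let C : Subgroup Ω → (Ω → Ω) → Prop := fun P g =>
    ∃ c, IsMap E (img (autFun β) P) c ∧ ∀ x ∈ P, c (autFun β x) = autFun β (g x)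
  let E' := subSystem E C
    (fun P f g hfg ⟨c, hc, hce⟩ => ⟨c, hc, fun x hx => by rw [← hfg x hx]; exact hce x hx⟩)
    (fun P a hP ha => ⟨conjF (autFun β a), IsMap.conj E (img_le_iff.2 fun x hx => autFun_mem β (hP hx))
      (autFun_mem β ha), fun x hx => by
        rw [conjF_apply, conjF_apply, hb.map_conj ha (hP hx)]⟩)
    (fun P R f g hf hg ⟨c, hc, hce⟩ ⟨d, hd, hde⟩ hPR => by
      refine ⟨d ∘ c, hc.comp hd fun y hy => ?_, fun x hx => ?_⟩
      · obtain ⟨x, hx, rfl⟩ := hbm P hf.le y hy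
        rw [hce x hx]
        exact mem_img_of_mem (hPR x hx)
      · simp only [Function.comp_apply]
        rw [hce x hx, hde _ (hPR x hx)])
    (fun P f g hf ⟨c, hc, hce⟩ hg hgf => by
      obtain ⟨d, hd, hdc, -, -⟩ := hc.inv
      have hi : img (autFun β) (img f P) = img c (img (autFun β) P) := by
        rw [← hf.img_comp, ← (hb.mono hf.le).img_comp]
        exact img_congr fun x hx => (hce x hx).symm
      refine ⟨d, hi ▸ hd, fun y hy => ?_⟩
      obtain ⟨x, hx, rfl⟩ := hf.mem_img.1 hy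
      rw [← hce x hx, hdc _ (mem_img_of_mem hx), hgf x hx])
  suffices hle : E ≤ E' from (isMap_subSystem.1 (le_iff.1 hle P g hg)).2
  refine fusion_induction hTp hEs E' fun R hR _ α hα => ?_
  haveI := finite_mulAut hR.1
  obtain ⟨Rs, hRs⟩ := (fullyNormalized_spec hTp hEs hR).1.2
  haveI := CfsgLib.Inv.pResidual_normal p ↥(E.autGroup R)
  obtain ⟨κ, hκ, γ, hγ, hκγ⟩ := Subgroup.mem_sup_of_normal_right.1
    ((CfsgLib.Solv.sylow_sup_pResidual Rs).ge (Subgroup.mem_top ⟨α, hα⟩))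
  rw [hRs] at hκ
  obtain ⟨e, he⟩ := (hb.mono hR.1).equiv rfl
  have hres : (pResidual p ↥(E.autGroup R)).map (E.autGroup R).subtype ≤ E'.autGroup R := by
    refine residual_le fun δ hδ hc => (mem_autGroup hR.1).2 (isMap_subSystem.2 ⟨(mem_autGroup hR.1).1 hδ, ?_⟩)
    have hRS : R ≤ S := hR.1.trans hTS
    have hiT : img (autFun β) R ≤ T := img_le_iff.2 fun x hx => autFun_mem β (hR.1 hx)
    have hδF : δ ∈ F.autGroup R :=
      (mem_autGroup hRS).2 (isSubsystemOf_iff.1 hEi.1 _ _ ((mem_autGroup hR.1).1 hδ))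
    have h1 : MulAut.congr e δ ∈ F.autGroup (img (autFun β) R) :=
      congr_mem_autGroup (hb.mono hR.1) rfl he hδF
    have h2 : MulAut.congr e δ ∈ E.autGroup (img (autFun β) R) :=
      pElement_mem hTS hEi hiT h1 (by rwa [MulEquiv.orderOf_eq])
    exact ⟨autFun (MulAut.congr e δ), (mem_autGroup hiT).1 h2, fun x hx => autFun_congr he δ hx⟩
  have hκE : (κ : MulAut R) ∈ E'.autGroup R :=
    autInducedBy_le_autGroup hR.1 (Subgroup.mem_subgroupOf.1 hκ)
  have := (E'.autGroup R).mul_mem hκE (hres (Subgroup.mem_map_of_mem _ hγ))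
  rwa [Subgroup.coe_subtype, ← Subgroup.coe_mul, hκγ] at this

include hS hF hTS hTn hT hEs hEi in
theorem dec {P : Subgroup Ω} (hP : P ≤ T) {f : Ω → Ω} (hf : IsMap F P f) : StrongInv.Dec E F P f := by
  have hTI := tinv hS hF hTS hTn hT hEs hEi
  have hscl := strongly_closed hS hF hTS hTn hT
  have hcl := (stronglyClosed_iff.1 hscl).2
  let C : Subgroup Ω → (Ω → Ω) → Prop := fun P f => StrongInv.Dec E F (P ⊓ T) f
  have hcongr : ∀ P f g, (∀ x ∈ P, f x = g x) → C P f → C P g := fun P f g hfg h =>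
    StrongInv.dec_congr h fun x hx => hfg x hx.1
  have hconj : ∀ P a, P ≤ S → a ∈ S → C P (conjF a) := fun P a _ ha => by
    obtain ⟨γ, hγ, hγe⟩ := exists_autInducedBy (K := S) ha (hTn ha)
    exact ⟨γ, autInducedBy_le_autGroup hTS hγ, id, IsMap.id' E inf_le_right,
      fun x hx => (hγe x hx.2).symm⟩
  let F' := subSystem F C hcongr hconj
    (fun P R f g hf hg h1 h2 hPR => StrongInv.dec_comp hTI h1 (StrongInv.dec_mono h2
      (img_le_iff.2 fun x hx => ⟨hPR x hx.1, hcl P f hf x hx.1 hx.2⟩)))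
    (fun P f g hf h hg hgf => StrongInv.dec_mono
      (StrongInv.dec_inv hscl hTI h fun x hx => hgf x hx.1) (fun y hy => by
        obtain ⟨x, hx, rfl⟩ := hf.mem_img.1 hy.1
        exact mem_img_of_mem ⟨hx, hgf x hx ▸ hcl _ g hg _ hy.1 hy.2⟩))
  suffices hle : F ≤ F' from StrongInv.dec_mono (isMap_subSystem.1 (le_iff.1 hle P f hf)).2
    (le_inf le_rfl hP)
  refine fusion_induction hS hF F' fun R hR _ α hα => ?_
  haveI := finite_mulAut hR.1
  obtain ⟨Rs, hRs⟩ := (fullyNormalized_spec hS hF hR).1.2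
  haveI := CfsgLib.Inv.pResidual_normal p ↥(F.autGroup R)
  obtain ⟨κ, hκ, γ, hγ, hκγ⟩ := Subgroup.mem_sup_of_normal_right.1
    ((CfsgLib.Solv.sylow_sup_pResidual Rs).ge (Subgroup.mem_top ⟨α, hα⟩))
  rw [hRs] at hκ
  have hres : (pResidual p ↥(F.autGroup R)).map (F.autGroup R).subtype ≤ F'.autGroup R := by
    refine residual_le fun δ hδ hc => (mem_autGroup hR.1).2 (isMap_subSystem.2 ⟨(mem_autGroup hR.1).1 hδ, ?_⟩)
    have hm := ((mem_autGroup hR.1).1 hδ).mono (inf_le_left : R ⊓ T ≤ R)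
    haveI := finite_of_le (inf_le_right.trans hTS : R ⊓ T ≤ S)
    have hi : img (autFun δ) (R ⊓ T) = R ⊓ T := Subgroup.eq_of_le_of_card_ge
      (img_le_iff.2 fun x hx => ⟨autFun_mem δ hx.1, hcl _ _ hm x hx hx.2⟩) hm.card_img.ge
    obtain ⟨e, he⟩ := hm.equiv hi
    have hag : ∀ x ∈ R ⊓ T, autFun δ x = autFun e x := fun x hx =>
      (he ⟨x, hx⟩).symm.trans (autFun_of_mem e hx).symm
    have heF : e ∈ F.autGroup (R ⊓ T) := (mem_autGroup (inf_le_left.trans hR.1)).2 (hm.congr hag)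
    have heE := pElement_mem hTS hEi inf_le_right heF (orderOf_coprime_of_agree inf_le_left hag hc)
    exact StrongInv.dec_congr (StrongInv.dec_of_map ((mem_autGroup inf_le_right).1 heE))
      fun x hx => (hag x hx).symm
  have hκE : (κ : MulAut R) ∈ F'.autGroup R :=
    autInducedBy_le_autGroup hR.1 (Subgroup.mem_subgroupOf.1 hκ)
  have := (F'.autGroup R).mul_mem hκE (hres (Subgroup.mem_map_of_mem _ hγ))
  rwa [Subgroup.coe_subtype, ← Subgroup.coe_mul, hκγ] at this

include hS hF hTS hTn hT hEs hEi in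
theorem invariant : E.IsInvariantIn F := by
  have hscl := strongly_closed hS hF hTS hTn hT
  refine ⟨hEi.1, hscl, fun P hPT φ hφ α hα => ?_, fun P hPT φ hφ => ?_⟩
  · obtain ⟨c, hc, hce⟩ := tinv hS hF hTS hTn hT hEs hEi _ _ (IsMap.of_hom hφ) _ hα
    obtain ⟨χ, hχ, hχc⟩ := hc
    have himg : (P.subgroupOf T).map (T.subtype.comp α.toMonoidHom) = img (autFun α) P :=
      map_subgroupOf_eq_img _ hPT
    rw [himg]
    refine ⟨χ, hχ, fun x hφx hαx => ?_⟩
    rw [hχc]
    have h1 := hce x x.2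
    rw [autFun_of_mem α (hPT x.2), ev_apply, autFun_of_mem α hφx] at h1
    exact h1
  · obtain ⟨β, hβ, g, hg, he⟩ := dec hS hF hTS hTn hT hEs hEi hPT (IsMap.of_hom hφ)
    obtain ⟨φ₀, hφ₀, hφ₀g⟩ := hg
    refine ⟨β, hβ, φ₀, hφ₀, fun x hx => ?_⟩
    have h1 := he x x.2
    rw [ev_apply, ← hφ₀g x, autFun_of_mem β hx] at h1
    exact h1

include hS hF hTS hTn hT hEs hEi in
theorem normal : E.IsNormalIn F p := by
  have hscl := strongly_closed hS hF hTS hTn hT
  refine ⟨⟨hEs, hF, invariant hS hF hTS hTn hT hEs hEi⟩, ?_⟩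
  haveI : Finite T := finite_of_le hTS
  have hTp : IsPGroup p T := isPGroup_of_le hS hTS
  set U := T ⊔ centralizerIn S T with hU
  have hTU : T ≤ U := le_sup_left
  have hCU : centralizerIn S T ≤ U := le_sup_right
  have hUS : U ≤ S := sup_le hTS (centralizerIn_le _)
  let Good : MulAut T → Prop := fun α => ∃ β ∈ F.autGroup U,
    (∀ x ∈ T, autFun β x = autFun α x) ∧
      ∀ c ∈ centralizerIn S T, c⁻¹ * autFun β c ∈ T ⊓ Subgroup.centralizer (T : Set Ω)
  suffices key : ∀ α ∈ E.autGroup T, Good α by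
    intro α hα
    obtain ⟨β, hβ, h1, h2⟩ := key α hα
    refine ⟨β, hβ, fun x => ?_, fun c hc => ?_⟩
    · have h3 := h1 x x.2
      rw [autFun_of_mem α x.2, autFun_of_mem β (hTU x.2)] at h3
      exact h3
    · have h3 := h2 c hc
      rwa [autFun_of_mem β c.2] at h3
  have hmul : ∀ a b, Good a → Good b → Good (a * b) := by
    rintro a b ⟨β, hβ, hβa, hβc⟩ ⟨γ, hγ, hγb, hγc⟩
    refine ⟨β * γ, mul_mem hβ hγ, fun x hx => ?_, fun c hc => ?_⟩
    · rw [autFun_mul _ _ (hTU hx), hγb x hx, autFun_mul _ _ hx, hβa _ (autFun_mem b hx)]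
    · have h1 := hγc c hc
      have h2 : autFun γ c ∈ centralizerIn S T := by
        have h3 := (centralizerIn S T).mul_mem hc (show c⁻¹ * autFun γ c ∈ centralizerIn S T from
          ⟨hTS h1.1, h1.2⟩)
        rwa [mul_inv_cancel_left] at h3
      rw [autFun_mul _ _ (hCU hc)]
      have h4 := Subgroup.mul_mem _ h1 (hβc _ h2)
      rwa [mul_assoc, mul_inv_cancel_left] at h4
  have hone : Good 1 := ⟨1, one_mem _, fun x hx => by rw [autFun_one (hTU hx), autFun_one hx],
    fun c hc => by rw [autFun_one (hCU hc), inv_mul_cancel]; exact one_mem _⟩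
  have hin : ∀ α ∈ autInducedBy T T, Good α := by
    intro α hα
    obtain ⟨t, ht, hte⟩ := mem_autInducedBy.1 hα
    obtain ⟨γ, hγ, hγe⟩ := exists_autInducedBy (K := S) (P := U) (hTS ht) (Subgroup.le_normalizer (hTU ht))
    refine ⟨γ, autInducedBy_le_autGroup hUS hγ, fun x hx => by rw [hγe x (hTU hx), hte x hx],
      fun c hc => ?_⟩
    rw [hγe c (hCU hc), (hc.2 t ht : t * c = c * t), mul_inv_cancel_right, inv_mul_cancel]
    exact one_mem _
  have hfn : F.IsFullyNormalized T := ⟨hTS, fun R hR => by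
    have hN : normalizerIn S T = S := le_antisymm inf_le_left (le_inf le_rfl hTn)
    rw [hN]
    exact Subgroup.card_le_of_le inf_le_left⟩
  have hp' : ∀ γ ∈ E.autGroup T, (orderOf γ).Coprime p → Good γ := by
    intro γ hγ hc
    have hγF : γ ∈ F.autGroup T :=
      (mem_autGroup hTS).2 (isSubsystemOf_iff.1 hEi.1 _ _ ((mem_autGroup le_rfl).1 hγ))
    obtain ⟨f, hf, hfe⟩ := extend (fullyNormalized_spec hS hF hfn).2 ((mem_autGroup hTS).1 hγF)
      (img_autFun γ) (N := centralizerIn S T) fun g hg => by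
        refine ⟨hg.1, Subgroup.centralizer_le_normalizer _ hg.2, 1, S.one_mem, fun x hx => ?_⟩
        rw [one_mul, inv_one, mul_one, ← hg.2 x hx, mul_inv_cancel_right]
    rw [← hU] at hf
    have hfU : img f U = U := by
      haveI := finite_of_le hUS
      refine Subgroup.eq_of_le_of_card_ge ?_ hf.card_img.ge
      obtain ⟨φ, hφ, hφf⟩ := hf
      have hr : img f U = φ.range := by
        rw [← img_ev φ]
        exact img_congr fun x hx => ((ev_of_mem φ hx).trans (hφf ⟨x, hx⟩)).symm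
      rw [hr, MonoidHom.range_eq_map, ← Subgroup.subgroupOf_self U, map_subgroupOf_eq_img φ le_rfl]
      have hfe' : ∀ x ∈ U, ev φ x = f x := fun x hx => (ev_of_mem φ hx).trans (hφf ⟨x, hx⟩)
      have hle : U ≤ (U.comap φ).map U.subtype := by
        refine sup_le (fun t ht => ⟨⟨t, hTU ht⟩, hTU ?_, rfl⟩) fun c hc => ⟨⟨c, hCU hc⟩, hCU ?_, rfl⟩
        · rw [hφf ⟨t, hTU ht⟩, hfe t ht]; exact autFun_mem γ ht
        · refine ⟨(F.le_of_mem hφ).2 _, fun y hy => ?_⟩
          have h1 : y = φ ⟨autFun γ⁻¹ y, hTU (autFun_mem _ hy)⟩ := by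
            rw [hφf ⟨_, _⟩, hfe _ (autFun_mem _ hy), autFun_inv_apply γ hy]
          rw [h1, ← map_mul, ← map_mul]
          exact congrArg φ (Subtype.ext (hc.2 _ (autFun_mem _ hy)))
      refine img_le_iff.2 fun x hx => ?_
      obtain ⟨z, hz, rfl⟩ := hle hx
      rw [show ev φ (U.subtype z) = φ z from ev_apply φ z]
      exact hz
    obtain ⟨β, hβe⟩ := hf.equiv hfU
    have hβf : ∀ x ∈ U, autFun β x = f x := fun x hx => (autFun_of_mem β hx).trans (hβe ⟨x, hx⟩)
    have hβF : β ∈ F.autGroup U := (mem_autGroup hUS).2 (hf.congr fun x hx => (hβf x hx).symm)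
    have hag : ∀ x ∈ T, autFun β x = autFun γ x := fun x hx => (hβf x (hTU hx)).trans (hfe x hx)
    haveI := finite_mulAut hUS
    set a := (orderOf β).factorization p
    have hγc : (p ^ a).Coprime (orderOf γ) := (hc.symm).pow_left a
    obtain ⟨j, hj⟩ := exists_pow_eq_self_of_coprime hγc
    have hag' : ∀ x ∈ T, autFun ((β ^ p ^ a) ^ j) x = autFun γ x := fun x hx => by
      rw [← pow_mul, autFun_pow_agree hTU hag _ x hx, pow_mul, hj]
    have hco : (orderOf ((β ^ p ^ a) ^ j)).Coprime p := by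
      refine Nat.Coprime.coprime_dvd_left (orderOf_pow_dvd j) ?_
      rw [orderOf_pow' _ (pow_ne_zero _ hp.out.ne_zero), Nat.gcd_eq_right (Nat.ordProj_dvd _ p)]
      exact (Nat.coprime_ordCompl hp.out (orderOf_pos β).ne').symm
    refine ⟨_, pow_mem (pow_mem hβF _) _, hag', fun c hc => ⟨hyperfocal_le_iff.1 hT U hUS _
      (pow_mem (pow_mem hβF _) _) hco c (hCU hc), ?_⟩⟩
    refine Subgroup.mul_mem _ (Subgroup.inv_mem _ hc.2) fun y hy => ?_
    have hz := autFun_mem γ⁻¹ hy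
    have h1 : y = autFun ((β ^ p ^ a) ^ j) (autFun γ⁻¹ y) := by
      rw [hag' _ hz, autFun_inv_apply γ hy]
    rw [h1, ← autFun_map_mul _ (hTU hz) (hCU hc), hc.2 _ hz, autFun_map_mul _ (hCU hc) (hTU hz)]
  intro α hα
  haveI := finite_mulAut (S := T) (le_rfl : T ≤ T)
  obtain ⟨Rs, hRs⟩ := (fullyNormalized_spec hTp hEs fullyNormalized_top).1.2
  haveI := CfsgLib.Inv.pResidual_normal p ↥(E.autGroup T)
  obtain ⟨κ, hκ, γ, hγ, hκγ⟩ := Subgroup.mem_sup_of_normal_right.1
    ((CfsgLib.Solv.sylow_sup_pResidual Rs).ge (Subgroup.mem_top ⟨α, hα⟩))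
  rw [hRs] at hκ
  have hGγ : Good (γ : MulAut T) := by
    clear hκγ
    induction hγ using Subgroup.closure_induction with
    | mem y hy => exact hp' _ y.2 (by rwa [Subgroup.orderOf_coe])
    | one => exact hone
    | mul a b _ _ iha ihb => exact hmul _ _ iha ihb
    | inv a _ iha =>
      have h1 : ∀ n : ℕ, Good ((a : MulAut T) ^ n) := fun n => by
        induction n with
        | zero => simpa using hone
        | succ n ih => rw [pow_succ]; exact hmul _ _ ih iha
      have h2 := h1 (orderOf (a : MulAut T) - 1)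
      have hn : (0 : ℕ) < orderOf (a : MulAut T) := orderOf_pos _
      rwa [show ((a⁻¹ : ↥(E.autGroup T)) : MulAut T) = (a : MulAut T) ^ (orderOf (a : MulAut T) - 1) by
        rw [Subgroup.coe_inv, inv_eq_iff_mul_eq_one, ← pow_succ', Nat.sub_add_cancel hn, pow_orderOf_eq_one]]
  have := hmul _ _ (hin _ (Subgroup.mem_subgroupOf.1 hκ)) hGγ
  rwa [← Subgroup.coe_mul, hκγ] at this

end CfsgLib.Fus.PPowNormal
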