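import Mathlib

/-!
The number of classes of `π`-elements is submultiplicative in extensions.
-/

set_option autoImplicit false
set_option linter.unusedSectionVars false

namespace CfsgLib.Fus.PiClasses

open scoped Classical

variable {G : Type*} [Group G]

theorem pairs_eq [Finite G] (m : ℕ) :
    Nat.card {p : G × G // p.1 ^ m = 1 ∧ Commute p.1 p.2} =
      Nat.card {C : ConjClasses G // ∀ g, ConjClasses.mk g = C → g ^ m = 1} * Nat.card G := by
  haveI := Fintype.ofFinite G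
  haveI := Fintype.ofFinite (ConjClasses G)
  let S := {C : ConjClasses G // ∀ g, ConjClasses.mk g = C → g ^ m = 1}
  have e : {p : G × G // p.1 ^ m = 1 ∧ Commute p.1 p.2} ≃
      (C : S) × (g : {g : G // ConjClasses.mk g = C.1}) × {h : G // Commute g.1 h} :=
    { toFun := fun p => ⟨⟨ConjClasses.mk p.1.1, fun g hg => by
          obtain ⟨c, hc⟩ := isConj_iff.1 (ConjClasses.mk_eq_mk_iff_isConj.1 hg.symm)
          rw [← hc, conj_pow, p.2.1]; simp⟩, ⟨p.1.1, rfl⟩, ⟨p.1.2, p.2.2⟩⟩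
      invFun := fun x => ⟨(x.2.1.1, x.2.2.1), x.1.2 _ x.2.1.2, x.2.2.2⟩
      left_inv := fun p => rfl
      right_inv := by rintro ⟨⟨C, hC⟩, ⟨g, hg⟩, ⟨h, hh⟩⟩; dsimp only at hg; subst hg; rfl }
  rw [Nat.card_congr e, Nat.card_sigma]
  have hfib : ∀ C : S, Nat.card ((g : {g : G // ConjClasses.mk g = C.1}) × {h : G // Commute g.1 h}) = Nat.card G := by
    rintro ⟨C, hC⟩
    obtain ⟨g₀, rfl⟩ := ConjClasses.exists_rep C
    rw [Nat.card_sigma]
    have hst : ∀ g : G, Nat.card {h : G // Commute g h} = Nat.card (MulAction.stabilizer (ConjAct G) g) := fun g =>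
      Nat.card_congr (Equiv.subtypeEquiv ConjAct.toConjAct.toEquiv fun h => by
        rw [MulAction.mem_stabilizer_iff]
        show _ ↔ ConjAct.toConjAct h • g = g
        rw [ConjAct.toConjAct_smul, mul_inv_eq_iff_eq_mul]
        exact eq_comm)
    have hall : ∀ g : {g : G // ConjClasses.mk g = ConjClasses.mk g₀},
        Nat.card {h : G // Commute g.1 h} * Nat.card {g : G // ConjClasses.mk g = ConjClasses.mk g₀} = Nat.card G := by
      intro g
      have h1 : Nat.card {g : G // ConjClasses.mk g = ConjClasses.mk g₀} = Nat.card (MulAction.orbit (ConjAct G) g.1) := by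
        rw [ConjAct.orbit_eq_carrier_conjClasses, g.2]
        exact Nat.card_congr (Equiv.subtypeEquivRight fun x => ConjClasses.mem_carrier_iff_mk_eq.symm)
      rw [hst, h1, mul_comm, ← Nat.card_prod]
      exact (Nat.card_congr (MulAction.orbitProdStabilizerEquivGroup (ConjAct G) g.1)).trans
        (Nat.card_congr ConjAct.ofConjAct.toEquiv)
    have hpos : 0 < Nat.card {g : G // ConjClasses.mk g = ConjClasses.mk g₀} :=
      Nat.card_pos_iff.2 ⟨⟨⟨g₀, rfl⟩⟩, inferInstance⟩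
    refine Nat.eq_of_mul_eq_mul_right hpos ?_
    rw [Finset.sum_mul, Finset.sum_congr rfl fun g _ => hall g, Finset.sum_const, Finset.card_univ,
      ← Nat.card_eq_fintype_card, smul_eq_mul, mul_comm]
  rw [Finset.sum_congr rfl fun C _ => hfib C, Finset.sum_const, Finset.card_univ, smul_eq_mul, ← Nat.card_eq_fintype_card]

noncomputable def sel {N : Subgroup G} [N.Normal] (c : G ⧸ N) (x : G) : G :=
  if h : ∃ y : G, (y : G ⧸ N) = c ∧ Commute x y then h.choose else 1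

theorem sel_spec {N : Subgroup G} [N.Normal] {c : G ⧸ N} {x y : G} (h1 : (y : G ⧸ N) = c) (h2 : Commute x y) :
    ((sel c x : G) : G ⧸ N) = c ∧ Commute x (sel c x) ∧ (sel c x)⁻¹ * y ∈ N := by
  have h : ∃ y : G, (y : G ⧸ N) = c ∧ Commute x y := ⟨y, h1, h2⟩
  rw [sel, dif_pos h]
  exact ⟨h.choose_spec.1, h.choose_spec.2, QuotientGroup.eq.1 (h.choose_spec.1.trans h1.symm)⟩

theorem pairs_le [Finite G] (N : Subgroup G) [N.Normal] (m m' : ℕ) (hco : m.Coprime m') (hmm : Nat.card G = m * m') :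
    Nat.card {p : G × G // p.1 ^ m = 1 ∧ Commute p.1 p.2} ≤
      Nat.card {p : (G ⧸ N) × (G ⧸ N) // p.1 ^ m = 1 ∧ Commute p.1 p.2} *
        Nat.card {p : N × N // p.1 ^ m = 1 ∧ Commute p.1 p.2} := by
  let e := (Nat.chineseRemainder hco 1 0).1
  let f := (Nat.chineseRemainder hco 0 1).1
  have he := (Nat.chineseRemainder hco 1 0).2
  have hf := (Nat.chineseRemainder hco 0 1).2
  have hdvd : m' ∣ e := Nat.modEq_zero_iff_dvd.1 he.2
  have hfdvd : m ∣ f := Nat.modEq_zero_iff_dvd.1 hf.1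
  have hpow : ∀ (x : G) {a b : ℕ}, a ≡ b [MOD Nat.card G] → x ^ a = x ^ b := fun x a b h =>
    pow_eq_pow_iff_modEq.2 (h.of_dvd (orderOf_dvd_natCard x))
  have hsum : ∀ x : G, x ^ f * x ^ e = x := fun x => by
    rw [← pow_add]
    conv_rhs => rw [← pow_one x]
    refine hpow x ?_
    rw [hmm]
    exact (Nat.modEq_and_modEq_iff_modEq_mul hco).1 ⟨by simpa using hf.1.add he.1, by simpa using hf.2.add he.2⟩
  have hπ : ∀ x : G, (x ^ e) ^ m = 1 := fun x => by
    rw [← pow_mul, ← orderOf_dvd_iff_pow_eq_one]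
    refine (orderOf_dvd_natCard x).trans ?_
    rw [hmm, mul_comm e m]
    exact mul_dvd_mul_left m hdvd
  have hfix : ∀ x : G, x ^ m = 1 → x ^ e = x := fun x hx => by
    conv_rhs => rw [← pow_one x]
    exact pow_eq_pow_iff_modEq.2 (he.1.of_dvd (orderOf_dvd_iff_pow_eq_one.2 hx))
  have hkill : ∀ x : G, (x ^ f) ^ e = 1 := fun x => by
    rw [← pow_mul, ← orderOf_dvd_iff_pow_eq_one]
    refine (orderOf_dvd_natCard x).trans ?_
    rw [hmm]
    exact mul_dvd_mul hfdvd hdvd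
  rw [← Nat.card_prod]
  let n : G × G → G := fun p => (sel (p.2 : G ⧸ N) p.1)⁻¹ * p.2
  let u : G × G → G := fun p => (n p) ^ e
  let k : G × G → G := fun p => (sel (p.1 : G ⧸ N) (u p))⁻¹ * (p.1 * (n p) ^ f)
  have hn : ∀ p : {p : G × G // p.1 ^ m = 1 ∧ Commute p.1 p.2}, n p.1 ∈ N ∧ Commute p.1.1 (n p.1) := fun p => by
    obtain ⟨-, h2, h3⟩ := sel_spec (N := N) (rfl : (p.1.2 : G ⧸ N) = _) p.2.2
    exact ⟨h3, h2.inv_right.mul_right p.2.2⟩
  have hk : ∀ p : {p : G × G // p.1 ^ m = 1 ∧ Commute p.1 p.2}, k p.1 ∈ N ∧ Commute (u p.1) (k p.1) := fun p => by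
    have hy : ((p.1.1 * (n p.1) ^ f : G) : G ⧸ N) = (p.1.1 : G ⧸ N) :=
      (QuotientGroup.eq.2 (by simpa using N.pow_mem (hn p).1 f)).symm
    have hc : Commute (u p.1) (p.1.1 * (n p.1) ^ f) :=
      ((hn p).2.pow_right e).symm.mul_right ((Commute.refl _).pow_pow e f)
    obtain ⟨-, h2, h3⟩ := sel_spec hy hc
    exact ⟨h3, h2.inv_right.mul_right hc⟩
  refine Nat.card_le_card_of_injective (fun p =>
    (⟨((p.1.1 : G ⧸ N), (p.1.2 : G ⧸ N)), by rw [← QuotientGroup.mk_pow, p.2.1, QuotientGroup.mk_one],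
      p.2.2.map (QuotientGroup.mk' N)⟩,
     ⟨(⟨u p.1, N.pow_mem (hn p).1 e⟩, ⟨k p.1, (hk p).1⟩), Subtype.ext (hπ _), Subtype.ext (hk p).2⟩)) ?_
  intro p p' h
  simp only [Prod.mk.injEq, Subtype.mk.injEq] at h
  obtain ⟨⟨ha, hb⟩, hu, hk'⟩ := h
  have h1 : p.1.1 * (n p.1) ^ f = p'.1.1 * (n p'.1) ^ f := by
    have h' : k p.1 = k p'.1 := hk'
    simp only [k, ha, hu] at h'
    exact mul_left_cancel h'
  have hg : p.1.1 = p'.1.1 := by
    have h2 := congrArg (· ^ e) h1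
    simp only [((hn p).2.pow_right f).mul_pow, ((hn p').2.pow_right f).mul_pow, hkill, mul_one,
      hfix _ p.2.1, hfix _ p'.2.1] at h2
    exact h2
  have hnn : n p.1 = n p'.1 := by
    rw [← hsum (n p.1), ← hsum (n p'.1)]
    rw [hg] at h1
    rw [mul_left_cancel h1]
    exact congrArg _ hu
  refine Subtype.ext (Prod.ext hg ?_)
  simp only [n, hb, hg] at hnn
  exact mul_left_cancel hnn

theorem main [Finite G] (N : Subgroup G) [N.Normal] (π : Set ℕ) :
    Nat.card {C : ConjClasses G // ∀ q : ℕ, q.Prime → (∃ g : G, ConjClasses.mk g = C ∧ q ∣ orderOf g) → q ∈ π} ≤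
      Nat.card {C : ConjClasses N // ∀ q : ℕ, q.Prime → (∃ g : N, ConjClasses.mk g = C ∧ q ∣ orderOf g) → q ∈ π} *
      Nat.card {C : ConjClasses (G ⧸ N) // ∀ q : ℕ, q.Prime →
        (∃ g : (G ⧸ N), ConjClasses.mk g = C ∧ q ∣ orderOf g) → q ∈ π} := by
  set o := Nat.card G with ho
  have ho0 : o ≠ 0 := Nat.card_pos.ne'
  set m := ∏ q ∈ o.primeFactors.filter (· ∈ π), q ^ o.factorization q with hm
  set m' := ∏ q ∈ o.primeFactors.filter (¬ · ∈ π), q ^ o.factorization q with hm'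
  have hmm : o = m * m' := by
    rw [hm, hm', Finset.prod_filter_mul_prod_filter_not]
    exact (Nat.factorization_prod_pow_eq_self ho0).symm
  have hin : ∀ (s : Finset ℕ) (q : ℕ), q.Prime → (∀ r ∈ s, r.Prime) → q ∣ ∏ r ∈ s, r ^ o.factorization r → q ∈ s := by
    intro s q hq hs h
    obtain ⟨r, hr, hqr⟩ := hq.prime.exists_mem_finset_dvd h
    rwa [(Nat.prime_dvd_prime_iff_eq hq (hs r hr)).1 (hq.dvd_of_dvd_pow hqr)]
  have hm1 : ∀ q, q.Prime → q ∣ m → q ∈ π := fun q hq h =>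
    (Finset.mem_filter.1 (hin _ q hq (fun r hr => Nat.prime_of_mem_primeFactors (Finset.mem_filter.1 hr).1) h)).2
  have hm2 : ∀ q, q.Prime → q ∣ m' → q ∉ π := fun q hq h =>
    (Finset.mem_filter.1 (hin _ q hq (fun r hr => Nat.prime_of_mem_primeFactors (Finset.mem_filter.1 hr).1) h)).2
  have hco : m.Coprime m' := Nat.coprime_of_dvd fun q hq h1 h2 => hm2 q hq h2 (hm1 q hq h1)
  have key : ∀ (H : Type _) [Group H] [Finite H], Nat.card H ∣ o →
      Nat.card {C : ConjClasses H // ∀ q : ℕ, q.Prime → (∃ g : H, ConjClasses.mk g = C ∧ q ∣ orderOf g) → q ∈ π} =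
        Nat.card {C : ConjClasses H // ∀ g, ConjClasses.mk g = C → g ^ m = 1} := by
    intro H _ _ hH
    refine Nat.card_congr (Equiv.subtypeEquivRight fun C => ⟨fun h g hg => ?_, fun h q hq ⟨g, hg, hqg⟩ => ?_⟩)
    · rw [← orderOf_dvd_iff_pow_eq_one]
      refine Nat.Coprime.dvd_of_dvd_mul_right ?_ (hmm ▸ (orderOf_dvd_natCard g).trans hH)
      exact Nat.coprime_of_dvd fun q hq h1 h2 => hm2 q hq h2 (h q hq ⟨g, hg, h1⟩)
    · exact hm1 q hq (hqg.trans (orderOf_dvd_iff_pow_eq_one.2 (h g hg)))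
  have h := pairs_le N m m' hco hmm
  rw [pairs_eq, pairs_eq, pairs_eq] at h
  rw [key G dvd_rfl, key N N.card_subgroup_dvd_card, key (G ⧸ N) N.card_quotient_dvd_card]
  refine Nat.le_of_mul_le_mul_right ?_ (Nat.card_pos : 0 < Nat.card G)
  refine h.trans (le_of_eq ?_)
  rw [Subgroup.card_eq_card_quotient_mul_card_subgroup N]
  ring

end CfsgLib.Fus.PiClasses
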