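import Cfsg.Agent.Fus.Normal
import Cfsg.Agent.Fus.Quotient
import Cfsg.Agent.Fus.Generation
import Cfsg.Prelude.Def_PLocal
import Mathlib.RingTheory.Nilpotent.Basic
import Mathlib.Algebra.Ring.Subring.Basic

/-!
`p^n`-th powers of central elements in a saturated system over a `p`-group of small class.
-/

set_option autoImplicit false
set_option linter.style.haveILetI false

open Cfsg Cfsg.FusionSystem
open scoped commutatorElement

namespace CfsgLib.Fus

theorem pPow_mul_eq_zero {R : Type*} [CommRing R] {p : ℕ} (hp : p.Prime) {d : R}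
    (h : (d + 1) ^ p = 1) (n : ℕ) (hd : d ^ (n * (p - 1) + 1) = 0) : (p : R) ^ n * d = 0 := by
  obtain ⟨s, hs⟩ : ∃ s : R, (d + 1) ^ p = 1 + (p : R) * d * (1 + d * s) + d ^ p := by
    obtain ⟨q, hq⟩ : ∃ q, p = q + 2 := ⟨p - 2, by have := hp.two_le; omega⟩
    refine ⟨∑ k ∈ Finset.range q, d ^ k * ((p.choose (k + 2) / p : ℕ) : R), ?_⟩
    have hdiv : ∀ k < q, ((p.choose (k + 2) : ℕ) : R) = (p : R) * ((p.choose (k + 2) / p : ℕ) : R) := fun k hk => by
      rw [← Nat.cast_mul, Nat.mul_div_cancel' (hp.dvd_choose_self (by omega) (by omega))]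
    have e : ∑ k ∈ Finset.range q, d ^ (k + 1 + 1) * (p.choose (k + 1 + 1) : R) =
        (p : R) * d * d * ∑ k ∈ Finset.range q, d ^ k * ((p.choose (k + 2) / p : ℕ) : R) := by
      rw [Finset.mul_sum]
      refine Finset.sum_congr rfl fun k hk => ?_
      rw [hdiv k (Finset.mem_range.1 hk)]
      ring
    rw [add_pow, show p + 1 = (q + 1 + 1) + 1 by omega, Finset.sum_range_succ', Finset.sum_range_succ',
      Finset.sum_range_succ]
    simp only [one_pow, mul_one, e]
    rw [show q + 1 + 1 = p by omega, Nat.choose_self]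
    simp [Nat.choose_one_right]
    ring
  have hnil : IsNilpotent d := ⟨_, hd⟩
  obtain ⟨u, hu⟩ := (Commute.isNilpotent_mul_right (Commute.all d s) hnil).isUnit_one_add
  have hw : (p : R) * d = d ^ p * (-(↑u⁻¹ : R)) := by
    have h1 : (p : R) * d * (1 + d * s) = -d ^ p := by linear_combination h.symm.trans hs |>.symm
    calc (p : R) * d = (p : R) * d * (↑u * ↑u⁻¹) := by rw [Units.mul_inv, mul_one]
      _ = _ := by rw [hu, ← mul_assoc, h1, neg_mul, mul_neg]
  have hk : ∀ k, (p : R) ^ k * d = d ^ (k * (p - 1) + 1) * (-(↑u⁻¹ : R)) ^ k := by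
    intro k
    induction k with
    | zero => simp
    | succ k ih =>
      rw [pow_succ', mul_assoc, ih, pow_succ d, pow_succ (-(↑u⁻¹ : R))]
      calc (p : R) * (d ^ (k * (p - 1)) * d * (-↑u⁻¹) ^ k) = d ^ (k * (p - 1)) * ((p : R) * d) * (-↑u⁻¹) ^ k := by ring
        _ = _ := by
          rw [hw, Nat.succ_mul, pow_succ d, pow_add]
          obtain ⟨q, hq⟩ : ∃ q, p = q + 1 := ⟨p - 1, by have := hp.one_lt; omega⟩
          rw [hq, Nat.add_sub_cancel, pow_succ]
          ring
  rw [hk, hd, zero_mul]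

variable {Ω : Type*} [Group Ω] {S : Subgroup Ω} {F : FusionSystem S} {p : ℕ}

/-- An element acting with order `p` on an abelian subgroup of a `p`-group of class at most
`n(p-1)+1` fixes all `p^n`-th powers. -/
theorem fix_pPow [hp : Fact p.Prime] (n : ℕ)
    (hcl : Subgroup.lowerCentralSeries S (n * (p - 1) + 1) = ⊥) {V : Subgroup Ω} (hV : V ≤ S)
    (hab : ∀ a ∈ V, ∀ b ∈ V, a * b = b * a) {g : Ω} (hg : g ∈ S)
    (hgn : g ∈ Subgroup.normalizer (V : Set Ω)) (hgp : ∀ v ∈ V, g ^ p * v * (g ^ p)⁻¹ = v) :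
    ∀ v ∈ V, g * v ^ p ^ n * g⁻¹ = v ^ p ^ n := by
  letI : CommGroup V := { (inferInstance : Group V) with
    mul_comm := fun a b => Subtype.ext (hab a a.2 b b.2) }
  let γ : MulAut V := V.normalizerMonoidHom ⟨g, hgn⟩
  have hγ : ∀ v : V, ((γ v : V) : Ω) = g * v * g⁻¹ := fun v => rfl
  let G : AddMonoid.End (Additive V) := MonoidHom.toAdditive γ.toMonoidHom
  let d : AddMonoid.End (Additive V) := G - 1
  have hG : d + 1 = G := sub_add_cancel G 1
  have hGk : ∀ (k : ℕ) (v : V), (((G ^ k) (Additive.ofMul v)).toMul : Ω) = g ^ k * v * (g ^ k)⁻¹ := by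
    intro k
    induction k with
    | zero => intro v; simp
    | succ k ih =>
      intro v
      rw [pow_succ']
      show ((γ ((G ^ k) (Additive.ofMul v)).toMul : V) : Ω) = _
      rw [hγ, ih, pow_succ']
      simp only [mul_assoc, mul_inv_rev]
  have key : ∀ w : V, ((d (Additive.ofMul w)).toMul : Ω) = g * w * g⁻¹ * (w : Ω)⁻¹ := fun w => by
    show ((γ w / w : V) : Ω) = _
    rw [div_eq_mul_inv, Subgroup.coe_mul, hγ, Subgroup.coe_inv]
  have hd : ∀ (k : ℕ) (v : V), (((d ^ k) (Additive.ofMul v)).toMul : Ω) ∈ Subgroup.lowerCentralSeries S k := by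
    intro k
    induction k with
    | zero => intro v; exact (Subgroup.lowerCentralSeries_zero S).symm ▸ hV v.2
    | succ k ih =>
      intro v
      rw [pow_succ']
      show ((d (Additive.ofMul ((d ^ k) (Additive.ofMul v)).toMul)).toMul : Ω) ∈ Subgroup.lowerCentralSeries S (k + 1)
      generalize hw : ((d ^ k) (Additive.ofMul v)).toMul = w
      rw [key, Subgroup.lowerCentralSeries_succ]
      have h1 : ⁅(w : Ω), g⁆ ∈ (⁅Subgroup.lowerCentralSeries S k, S⁆ : Subgroup Ω) :=
        Subgroup.commutator_mem_commutator (hw ▸ ih v) hg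
      have h2 : ⁅(w : Ω), g⁆⁻¹ ∈ (⁅Subgroup.lowerCentralSeries S k, S⁆ : Subgroup Ω) := Subgroup.inv_mem _ h1
      rwa [commutatorElement_inv, commutatorElement_def] at h2
  have hz : d ^ (n * (p - 1) + 1) = 0 := by
    refine AddMonoidHom.ext fun a => ?_
    have := hd (n * (p - 1) + 1) a.toMul
    rw [hcl, Subgroup.mem_bot] at this
    exact Additive.toMul.injective (Subtype.ext this)
  have hp1 : (d + 1) ^ p = 1 := by
    rw [hG]
    refine AddMonoidHom.ext fun a => Additive.toMul.injective (Subtype.ext ?_)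
    exact (hGk p a.toMul).trans (hgp _ a.toMul.2)
  -- compute in the commutative subring generated by `d`
  let C := Subring.closure ({d} : Set (AddMonoid.End (Additive V)))
  have hcomm : ∀ x ∈ C, ∀ y ∈ C, x * y = y * x := by
    intro x hx
    induction hx using Subring.closure_induction with
    | mem x hx =>
      intro y hy
      rw [Set.mem_singleton_iff.1 hx]
      induction hy using Subring.closure_induction with
      | mem y hy => rw [Set.mem_singleton_iff.1 hy]
      | zero => rw [mul_zero, zero_mul]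
      | one => rw [mul_one, one_mul]
      | add a b _ _ ha hb => rw [mul_add, add_mul, ha, hb]
      | neg a _ ha => exact (Commute.neg_right ha : Commute _ (-a))
      | mul a b _ _ ha hb => rw [← mul_assoc, ha, mul_assoc, hb, mul_assoc]
    | zero => intro y _; rw [mul_zero, zero_mul]
    | one => intro y _; rw [mul_one, one_mul]
    | add a b _ _ ha hb => intro y hy; rw [mul_add, add_mul, ha y hy, hb y hy]
    | neg a _ ha => intro y hy; exact (Commute.neg_left (ha y hy) : Commute (-a) y)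
    | mul a b _ _ ha hb => intro y hy; rw [mul_assoc, hb y hy, ← mul_assoc, ha y hy, mul_assoc]
  letI : CommRing C := { (inferInstance : Ring C) with
    mul_comm := fun a b => Subtype.ext (hcomm a a.2 b b.2) }
  have hkill := congrArg Subtype.val (pPow_mul_eq_zero (R := C) hp.out
    (d := ⟨d, Subring.subset_closure rfl⟩) (Subtype.ext hp1) n (Subtype.ext hz))
  intro v hv
  have h := congrArg (fun T : AddMonoid.End (Additive V) => T (Additive.ofMul (⟨v, hv⟩ : V))) hkill
  simp only [Subring.coe_mul, SubmonoidClass.coe_pow, SubringClass.coe_natCast, ← Nat.cast_pow] at h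
  change ((p ^ n : ℕ) : AddMonoid.End (Additive V)) (d (Additive.ofMul (⟨v, hv⟩ : V))) = 0 at h
  rw [AddMonoid.End.natCast_apply, ← map_nsmul] at h
  rw [← ofMul_pow] at h
  have h2 := key ((⟨v, hv⟩ : V) ^ p ^ n)
  rw [h, toMul_zero, Subgroup.coe_one, Subgroup.coe_pow] at h2
  replace h2 := h2.symm
  exact mul_inv_eq_one.1 h2

/-- Invariance of `℧_n(Z(S))`. -/
theorem powerCenter_normal [Finite S] [Fact p.Prime] (hS : IsPGroup p S) (hF : F.IsSaturated p) (n : ℕ)
    (hcl : Subgroup.lowerCentralSeries S (n * (p - 1) + 1) = ⊥) :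
    F.IsNormal (powerClosure p n (S ⊓ Subgroup.centralizer (S : Set Ω))) := by
  set Z0 := S ⊓ Subgroup.centralizer (S : Set Ω) with hZ0
  set Q := powerClosure p n Z0 with hQ
  have hQZ : Q ≤ Z0 := (Subgroup.closure_le _).2 (by
    rintro _ ⟨x, hx, rfl⟩; exact Subgroup.pow_mem _ hx _)
  have hfix : ∀ a ∈ S, ∀ x ∈ Q, a * x * a⁻¹ = x := fun a ha x hx => by
    rw [(hQZ hx).2 a ha, mul_inv_cancel_right]
  have hcen : ∀ P : Subgroup Ω, F.IsCentric P → Z0 ≤ P := fun P hP x hx =>
    hP.2 P (isConj_refl hP.1) ⟨hx.1, fun y hy => hx.2 y (hP.1 hy)⟩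
  let E := subSystem F (fun P f => ∀ x ∈ P, (x ∈ Q ↔ f x ∈ Q))
    (fun P f g h hf x hx => h x hx ▸ hf x hx)
    (fun P a hP ha x hx => ⟨fun h => by rwa [conjF_apply, hfix a ha x h],
      fun h => by
        have h1 := hfix a⁻¹ (S.inv_mem ha) _ h
        simp only [conjF_apply, inv_inv] at h1 h
        rw [show x = a * x * a⁻¹ by rw [← h1]; simp [mul_assoc]]
        exact h⟩)
    (fun P R f g hf hg h1 h2 hPR x hx => (h1 x hx).trans (h2 _ (hPR x hx)))
    (fun P f g hf h1 hg hgf y hy => by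
      obtain ⟨x, hx, rfl⟩ := hf.mem_img.1 hy
      rw [hgf x hx]; exact (h1 x hx).symm)
  have hle : F ≤ E := by
    refine fusion_induction hS hF E fun R hR big α hα => ?_
    haveI := finite_mulAut hR.1
    have hαm := (mem_autGroup hR.1).1 hα
    suffices hC : ∀ x ∈ R, (x ∈ Q ↔ autFun α x ∈ Q) from
      (mem_autGroup hR.1).2 (isMap_subSystem.2 ⟨hαm, hC⟩)
    obtain ⟨hA, hrec⟩ := fullyNormalized_spec hS hF hR
    have hvia : ∀ M f, R < M → IsMap F M f → (∀ x ∈ R, f x = autFun α x) →
        ∀ x ∈ R, (x ∈ Q ↔ autFun α x ∈ Q) := fun M f hlt hf he x hx => by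
      rw [← he x hx]
      exact (isMap_subSystem.1 (big M hf.le (card_lt_of_lt hf.le hlt) f hf)).2 x (hlt.le hx)
    by_cases hRS : R = S
    · intro x hx
      have hz : ∀ z ∈ Z0, autFun α z ∈ Z0 := fun z hz => by
        subst hRS
        refine ⟨autFun_mem α hz.1, fun y hy => ?_⟩
        have h1 := congrArg (autFun α) (hz.2 _ (autFun_mem α⁻¹ hy))
        rwa [autFun_map_mul α (autFun_mem α⁻¹ hy) hz.1, autFun_map_mul α hz.1 (autFun_mem α⁻¹ hy),
          autFun_inv_apply α hy] at h1
      have hq : img (autFun α) Q = Q := by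
        haveI := finite_of_le (hQZ.trans inf_le_left)
        refine Subgroup.eq_of_le_of_card_ge ?_ ((hαm.mono (hRS ▸ hQZ.trans inf_le_left)).card_img.ge)
        refine img_le_iff.2 fun y hy => ?_
        induction hy using Subgroup.closure_induction with
        | mem y hy =>
          obtain ⟨z, hz', rfl⟩ := hy
          refine Subgroup.subset_closure ⟨_, hz z hz', ?_⟩
          exact hαm.map_pow (hRS ▸ hz'.1) _
        | one => rw [hαm.map_one]; exact Q.one_mem
        | mul a b ha hb iha ihb =>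
          rw [hαm.map_mul (hRS ▸ (hQZ ha).1) (hRS ▸ (hQZ hb).1)]; exact Q.mul_mem iha ihb
        | inv a ha iha => rw [hαm.map_inv (hRS ▸ (hQZ ha).1)]; exact Q.inv_mem iha
      refine ⟨fun h => hq.le (mem_img_of_mem h), fun h => ?_⟩
      obtain ⟨y, hy, hye⟩ := ((hαm.mono (hRS ▸ hQZ.trans inf_le_left))).mem_img.1 (hq.ge h)
      exact hαm.inj (hRS ▸ (hQZ hy).1) hx hye ▸ hy
    by_cases hcc : centralizerIn S R ≤ R
    swap
    · obtain ⟨f, hf, hfe⟩ := extend_aut hrec hα (N := centralizerIn S R) (centralizerIn_le_normalizerIn R)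
        fun g hg γ hγ => by
          have hγ1 : γ = 1 := aut_ext fun x hx => by
            rw [hγ x hx, autFun_one hx, ← hg.2 x hx, mul_inv_cancel_right]
          rw [hγ1, mul_one, mul_inv_cancel]
          exact one_mem _
      exact hvia _ f (lt_of_le_of_ne le_sup_left fun h => hcc (h.ge.trans' le_sup_right)) hf hfe
    have hRc : F.IsCentric R := centric_of_fc (fullyCentralized_of_receptive hrec) hcc
    have hZR := hcen R hRc
    let V := R ⊓ Subgroup.centralizer (R : Set Ω)
    have hVab : ∀ a ∈ V, ∀ b ∈ V, a * b = b * a := fun a ha b hb => hb.2 a ha.1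
    have hVn : ∀ g ∈ normalizerIn S R, g ∈ Subgroup.normalizer (V : Set Ω) := by
      intro g hg
      have h1 : ∀ g ∈ normalizerIn S R, ∀ v ∈ V, g * v * g⁻¹ ∈ V := fun g hg v hv =>
        ⟨conj_mem_of_normalizer hg.2 hv.1, fun y hy => by
          have h := hv.2 _ (conj_mem_of_normalizer' hg.2 hy)
          calc y * (g * v * g⁻¹) = g * (g⁻¹ * y * g * v) * g⁻¹ := by simp [mul_assoc]
            _ = g * (v * (g⁻¹ * y * g)) * g⁻¹ := by rw [h]
            _ = g * v * g⁻¹ * y := by simp [mul_assoc]⟩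
      refine mem_normalizer_of_conj (h1 g hg) fun v hv => ?_
      simpa using h1 g⁻¹ ((normalizerIn S R).inv_mem hg) v hv
    let K : Subgroup (MulAut R) :=
      { carrier := {κ | ∀ v ∈ V, autFun κ (v ^ p ^ n) = v ^ p ^ n}
        one_mem' := fun v hv => autFun_one (R.pow_mem hv.1 _)
        mul_mem' := fun {a b} ha hb v hv => by
          rw [autFun_mul _ _ (R.pow_mem hv.1 _), hb v hv, ha v hv]
        inv_mem' := fun {a} ha v hv => by
          conv_lhs => rw [← ha v hv]
          rw [← autFun_mul _ _ (R.pow_mem hv.1 _), inv_mul_cancel, autFun_one (R.pow_mem hv.1 _)] }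
    have hKn : ∀ β ∈ F.autGroup R, ∀ κ ∈ K, β * κ * β⁻¹ ∈ K := by
      intro β _ κ hκ v hv
      have hm := autFun_mem β⁻¹ hv.1
      have hv' : autFun β⁻¹ v ∈ V := ⟨hm, fun y hy => by
        have h := congrArg (autFun β⁻¹) (hv.2 _ (autFun_mem β hy))
        rwa [autFun_map_mul _ (autFun_mem β hy) hv.1, autFun_map_mul _ hv.1 (autFun_mem β hy),
          ← autFun_mul _ _ hy, inv_mul_cancel, autFun_one hy] at h⟩
      have hpow : ∀ (γ : MulAut R) (x : Ω), x ∈ R → ∀ k : ℕ, autFun γ (x ^ k) = (autFun γ x) ^ k := by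
        intro γ x hx k
        induction k with
        | zero => rw [pow_zero, pow_zero, autFun_of_mem γ R.one_mem]; exact congrArg Subtype.val (map_one γ)
        | succ k ih => rw [pow_succ, pow_succ, autFun_map_mul γ (R.pow_mem hx k) hx, ih]
      rw [autFun_conj _ _ (R.pow_mem hv.1 _), hpow β⁻¹ v hv.1, hκ _ hv', hpow β _ hm, autFun_inv_apply β hv.1]
    obtain ⟨β, hβ, κ, hκ, hαe, hβN⟩ := frattini_aut hA K hKn hα
    -- an element of order `p` modulo `R`
    have hlt : R < normalizerIn S R := lt_normalizerIn hS (lt_of_le_of_ne hR.1 hRS)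
    haveI := finite_of_le (normalizerIn_le (S := S) R)
    obtain ⟨g0, hg0, hg0R⟩ := SetLike.exists_of_lt hlt
    obtain ⟨g, hg, hgR, hgp⟩ : ∃ g ∈ normalizerIn S R, g ∉ R ∧ g ^ p ∈ R := by
      obtain ⟨m, hm⟩ := (hS.to_le (normalizerIn_le (S := S) R)) ⟨g0, hg0⟩
      have hm' : g0 ^ p ^ m ∈ R := by
        rw [show g0 ^ p ^ m = 1 from congrArg Subtype.val hm]; exact R.one_mem
      clear hm
      induction m with
      | zero => exact absurd (by simpa using hm') hg0R
      | succ m ih =>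
        by_cases h : g0 ^ p ^ m ∈ R
        · exact ih h
        · exact ⟨_, (normalizerIn S R).pow_mem hg0 _, h, by rw [← pow_mul, ← pow_succ]; exact hm'⟩
    have hVS : V ≤ S := inf_le_left.trans hR.1
    have hgfix := fix_pPow n hcl hVS hVab hg.1 (hVn g hg) fun v hv => by
      rw [hv.2 _ hgp, mul_inv_cancel_right]
    obtain ⟨f, hf, hfe⟩ := extend_aut hrec hβ (N := Subgroup.zpowers g) (Subgroup.zpowers_le.2 hg)
      fun g' hg' γ hγ => by
        have hg'n : g' ∈ normalizerIn S R := (Subgroup.zpowers_le.2 hg) hg'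
        refine hβN γ (mem_autInducedBy.2 ⟨g', hg'n.1, hγ⟩) fun v hv => ?_
        rw [hγ _ (R.pow_mem hv.1 _)]
        obtain ⟨k, rfl⟩ := Subgroup.mem_zpowers_iff.1 hg'
        have hc : g ∈ Subgroup.centralizer ({v ^ p ^ n} : Set Ω) :=
          Subgroup.mem_centralizer_singleton_iff.2 (mul_inv_eq_iff_eq_mul.1 (hgfix v hv))
        rw [Subgroup.mem_centralizer_singleton_iff.1 (Subgroup.zpow_mem _ hc k), mul_inv_cancel_right]
    intro x hx
    have hκQ : ∀ y ∈ Q, autFun κ y = y := by
      intro y hy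
      induction hy using Subgroup.closure_induction with
      | mem y hy =>
        obtain ⟨z, hz, rfl⟩ := hy
        exact hκ z ⟨hZR hz, fun w hw => hz.2 w (hR.1 hw)⟩
      | one => rw [autFun_of_mem κ R.one_mem]; exact congrArg Subtype.val (map_one κ)
      | mul a b ha hb iha ihb => rw [autFun_map_mul κ (hZR (hQZ ha)) (hZR (hQZ hb)), iha, ihb]
      | inv a ha iha => rw [autFun_map_inv κ (hZR (hQZ ha)), iha]
    have hβi : ∀ y ∈ R, (y ∈ Q ↔ autFun β y ∈ Q) := fun y hy => by
      rw [← hfe y hy]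
      exact (isMap_subSystem.1 (big _ hf.le (card_lt_of_lt hf.le (lt_of_le_of_ne le_sup_left fun h =>
        hgR (h.ge (le_sup_right (a := R) (Subgroup.mem_zpowers g))))) f hf)).2 y (le_sup_left (b := Subgroup.zpowers g) hy)
    rw [hαe, autFun_mul _ _ hx, ← hβi _ (autFun_mem κ hx)]
    refine ⟨fun h => by rwa [hκQ x h], fun h => ?_⟩
    have h1 := hκQ _ h
    have h2 : autFun κ x = x := by
      have h3 := congrArg (autFun κ⁻¹) h1
      rw [← autFun_mul _ _ (hZR (hQZ h)), inv_mul_cancel, autFun_one (hZR (hQZ h)), ← autFun_mul _ _ hx,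
        inv_mul_cancel, autFun_one hx] at h3
      exact h3
    rwa [h2] at h
  refine normal_criterion hS hF fun P hP => ?_
  have hc : F.IsCentric P := (crit_cases hS hF hP).1
  refine ⟨hQZ.trans (hcen P hc), fun α hα x hx => ?_⟩
  exact ((isMap_subSystem.1 (le_iff.1 hle P _ ((mem_autGroup hc.1).1 hα))).2 x (hcen P hc (hQZ hx))).1 hx

end CfsgLib.Fus
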