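import Cfsg.Agent.Fus.FunctorCentre
import Cfsg.Agent.Fus.InnerCriteria

/-!
A functor with quadratic elements outside `O_p` whenever its value is not normal controls the weak closure of `p`-th powers of
central elements.
-/

set_option autoImplicit false
set_option linter.style.haveILetI false

open Cfsg Cfsg.FusionSystem
open scoped commutatorElement

namespace CfsgLib.Fus

universe u

/-- A quadratic element outside a normal `p`-subgroup gives one centralizing the `p`-th powers of the centre. -/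
theorem exists_power_centralizing {G : Type*} [Group G] [Finite G] {p : ℕ} [Fact p.Prime] {T O : Subgroup G} [O.Normal]
    (hT : IsPGroup p T) {g : G} (hgT : g ∈ T) (hgO : g ∉ O)
    (hq : ⁅⁅(Subgroup.center ↥O).map O.subtype, Subgroup.zpowers g⁆, Subgroup.zpowers g⁆ = ⊥) :
    ∃ h ∈ T, h ∉ O ∧ ∀ w ∈ (Subgroup.center ↥O).map O.subtype, h * w ^ p * h⁻¹ = w ^ p := by
  obtain ⟨m₀, hm₀⟩ := hT ⟨g, hgT⟩
  obtain ⟨h, hh, hhO, hhp⟩ : ∃ h ∈ Subgroup.zpowers g, h ∉ O ∧ h ^ p ∈ O := by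
    have hm : g ^ p ^ m₀ ∈ O := by
      rw [show g ^ p ^ m₀ = 1 from congrArg Subtype.val hm₀]; exact O.one_mem
    clear hm₀
    induction m₀ with
    | zero => exact absurd (by simpa using hm) hgO
    | succ m ih =>
      by_cases h : g ^ p ^ m ∈ O
      · exact ih h
      · exact ⟨_, Subgroup.pow_mem _ (Subgroup.mem_zpowers g) _, h, by rw [← pow_mul, ← pow_succ]; exact hm⟩
  refine ⟨h, (Subgroup.zpowers_le.2 hgT) hh, hhO, ?_⟩
  rintro _ ⟨w, hw, rfl⟩
  show h * (w : G) ^ p * h⁻¹ = (w : G) ^ p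
  have hcomm : ∀ y ∈ O, y * (w : G) = w * y := fun y hy =>
    congrArg Subtype.val (Subgroup.mem_center_iff.1 hw ⟨y, hy⟩)
  set d := ⁅(w : G)⁻¹, h⁆ with hd
  have hdmem : d ∈ ⁅(Subgroup.center ↥O).map O.subtype, Subgroup.zpowers g⁆ :=
    Subgroup.commutator_mem_commutator ⟨w⁻¹, (Subgroup.center ↥O).inv_mem hw, rfl⟩ hh
  have hdh : ⁅d, h⁆ = 1 := by
    have h1 := Subgroup.commutator_mem_commutator hdmem hh
    rwa [hq, Subgroup.mem_bot] at h1
  have hdh' : Commute d h := commutatorElement_eq_one_iff_commute.1 hdh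
  have hdO : d ∈ O := by
    rw [hd, commutatorElement_def, inv_inv, mul_assoc ((w : G)⁻¹ * h), mul_assoc ((w : G)⁻¹), ← mul_assoc h]
    exact O.mul_mem (O.inv_mem w.2) ((inferInstance : O.Normal).conj_mem _ w.2 h)
  have hstep : h * w * h⁻¹ = w * d := by rw [hd, commutatorElement_def]; group
  have hk : ∀ k : ℕ, h ^ k * w * (h ^ k)⁻¹ = w * d ^ k := by
    intro k
    induction k with
    | zero => simp
    | succ k ih =>
      calc h ^ (k + 1) * (w : G) * (h ^ (k + 1))⁻¹ = h * (h ^ k * w * (h ^ k)⁻¹) * h⁻¹ := by rw [pow_succ']; group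
        _ = h * w * (d ^ k * h⁻¹) := by rw [ih]; group
        _ = h * w * h⁻¹ * d ^ k := by rw [(hdh'.pow_left k).inv_right.eq]; group
        _ = _ := by rw [hstep, pow_succ', mul_assoc]
  have hdp : d ^ p = 1 := by
    have h1 := hk p
    rw [hcomm _ hhp, mul_inv_cancel_right, left_eq_mul] at h1
    exact h1
  rw [← conj_pow, hstep, (show Commute (w : G) d from (hcomm d hdO).symm).mul_pow, hdp, mul_one]

variable (W : ∀ (Q : Type u) [Group Q], Subgroup Q) {Ω : Type u} [Group Ω] {S : Subgroup Ω} {F : FusionSystem S} {p : ℕ}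

/-- The `p`-th powers of central elements fixed by the stabilizer of the functor are fixed by all maps. -/
theorem powerQuadratic_fixed [Finite S] [Fact p.Prime] (hS : IsPGroup p S) (hF : F.IsSaturated p)
    (hW2 : ∀ (Q R : Type u) [Group Q] [Group R] [Finite Q], IsPGroup p Q → ∀ φ : Q ≃* R, (W Q).map φ.toMonoidHom = W R)
    (hWZ : ∀ (Q : Type u) [Group Q] [Finite Q], IsPGroup p Q → Subgroup.center Q ≤ W Q)
    (hq : ∀ (G : Type u) [Group G] [Finite G] (P : Sylow p G),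
      ¬ (((W ↥(P : Subgroup G)).map (P : Subgroup G).subtype : Subgroup G)).Normal →
      ∃ g : G, g ∈ (P : Subgroup G) ∧ g ∉ Cfsg.pCore p G ∧
        ⁅⁅Subgroup.center ↥(Cfsg.pCore p G) |>.map (Cfsg.pCore p G).subtype, Subgroup.zpowers g⁆, Subgroup.zpowers g⁆ = ⊥)
    {z : Ω} (hz : z ∈ Zc S) (hzp : z ∈ powerClosure p 1 (Zc S))
    (hfix : ∀ (P : Subgroup Ω) f, IsMap F P f → fnAt W S ≤ P → img f (fnAt W S) = fnAt W S → z ∈ P → f z = z) :
    ∀ (P : Subgroup Ω) f, IsMap F P f → z ∈ P → f z = z := by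
  suffices h : F ≤ fixSys F z hz from fun P f hf hzP => (isMap_fixSys.1 (le_iff.1 h P f hf)).2.1 hzP
  refine pointed_induction hS hF _ (Subgroup.zpowers z) (Subgroup.zpowers_le.2 hz)
    (fun P f hf hle h => isMap_fixSys_of_mem hf (hle (Subgroup.mem_zpowers z)) (h z (Subgroup.mem_zpowers z))) ?_
  intro X hXn hXc hmove
  have hXS := hXn.1
  have hzX : z ∈ X := Zc_le_centric hXc hz
  set V' := powerClosure p 1 (Zc X) with hV'def
  have hV'X : V' ≤ X := powerClosure_le.trans Zc_le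
  have hsub : {y : Ω | ∃ x ∈ Zc S, y = x ^ p ^ 1} ⊆ {y : Ω | ∃ x ∈ Zc X, y = x ^ p ^ 1} := fun y ⟨x, hx, he⟩ =>
    ⟨x, mem_Zc (Zc_le_centric hXc hx) fun a ha => Zc_comm hx (hXS ha), he⟩
  have hzV : z ∈ V' := Subgroup.closure_mono hsub hzp
  haveI := finite_of_le hXS
  haveI : Finite ↥(normalizerIn S X) := finite_of_le (normalizerIn_le X)
  have haut : ∀ α : MulAut X, α ∈ F.autGroup X → ∀ v ∈ V', autFun α v ∈ V' := by
    intro α hα v hv
    refine map_powerClosure ((mem_autGroup hXS).1 hα) Zc_le (fun w hw => mem_Zc (autFun_mem α hw.1) ?_) hv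
    intro x hx
    rw [← autFun_inv_apply α hx, ← autFun_map_mul α (autFun_mem _ hx) hw.1,
      ← autFun_map_mul α hw.1 (autFun_mem _ hx), Zc_comm hw (autFun_mem _ hx)]
  let K : Subgroup (MulAut X) :=
    { carrier := {κ | ∀ v ∈ V', autFun κ v = v}
      one_mem' := fun v hv => autFun_one (hV'X hv)
      mul_mem' := fun {a b} ha hb v hv => by rw [autFun_mul _ _ (hV'X hv), hb v hv, ha v hv]
      inv_mem' := fun {a} ha v hv => by
        conv_lhs => rw [← ha v hv]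
        rw [← autFun_mul _ _ (hV'X hv), inv_mul_cancel, autFun_one (hV'X hv)] }
  have hK : ∀ α ∈ F.autGroup X, ∀ κ ∈ K, α * κ * α⁻¹ ∈ K := fun α hα κ hκ v hv => by
    rw [autFun_conj _ _ (hV'X hv), hκ _ (haut _ ((F.autGroup X).inv_mem hα) v hv), autFun_inv_apply α (hV'X hv)]
  set R₁ := normalizerIn S X ⊓ Subgroup.centralizer (V' : Set Ω) with hR₁
  have hXR₁ : X ≤ R₁ := le_inf (le_normalizerIn hXS) fun x hx v hv => ((powerClosure_le hv).2 x hx).symm
  suffices hα : ∀ α : ↥(F.autGroup X), autFun (α : MulAut X) z = z by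
    intro P f hf hXP hPN hfX
    obtain ⟨α, hαA, hαe⟩ := exists_aut (hf.mono hXP) hfX
    exact isMap_fixSys_of_mem hf (hXP hzX) ((hαe z hzX).symm.trans (hα ⟨α, hαA⟩))
  have hZconj : ∀ R₂ : Subgroup Ω, X ≤ R₂ → R₂ ≤ S → ∀ Y, F.IsConj R₂ Y → F.IsFullyNormalized Y →
      Subgroup.zpowers z ≤ Y := fun R₂ hXR₂ hR₂ Y hY _ =>
    (Subgroup.zpowers_le.2 hz).trans (Zc_le_centric (centric_of_isConj (centric_mono hXc hXR₂ hR₂) hY))
  by_cases hlt : X < R₁
  · -- a larger subgroup centralizing the powers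
    intro α
    have hRK : ∀ r ∈ normalizerIn S X, r ∈ R₁ ↔ ∀ γ : MulAut X, (∀ x ∈ X, autFun γ x = r * x * r⁻¹) → γ ∈ K := by
      refine fun r hr => ⟨fun h γ hγ v hv => ?_, fun h => ⟨hr, fun v hv => ?_⟩⟩
      · rw [hγ v (hV'X hv), ← h.2 v hv, mul_inv_cancel_right]
      · obtain ⟨γ, -, hγ⟩ := exists_autInducedBy (K := S) hr.1 hr.2
        have := h γ hγ v hv
        rw [hγ v (hV'X hv), mul_inv_eq_iff_eq_mul] at this
        exact this.symm
    have hf : IsMap F X (autFun (α : MulAut X)) := (mem_autGroup hXS).1 α.2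
    obtain ⟨g, hg, hgX, hgR, κ, hκ, -, hκe⟩ :=
      split_stab hS hF hXn K hK hf le_rfl (le_normalizerIn hXS) (img_autFun _) inf_le_left hRK
    have hNN : normalizerIn S X ≤ normalizerIn S R₁ := by
      have hmem : ∀ a ∈ normalizerIn S X, ∀ r ∈ R₁, a * r * a⁻¹ ∈ R₁ := by
        intro a ha r hr
        refine ⟨(normalizerIn S X).mul_mem ((normalizerIn S X).mul_mem ha hr.1) ((normalizerIn S X).inv_mem ha), fun v hv => ?_⟩
        obtain ⟨γ, hγT, hγ⟩ := exists_autInducedBy (K := S) ha.1 ha.2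
        have hv' := haut γ⁻¹ ((F.autGroup X).inv_mem (autInducedBy_le_autGroup hXS hγT)) v hv
        have e : a * autFun γ⁻¹ v * a⁻¹ = v := by
          rw [← hγ _ (hV'X hv'), autFun_inv_apply γ (hV'X hv)]
        have h := hr.2 _ hv'
        calc v * (a * r * a⁻¹) = a * autFun γ⁻¹ v * a⁻¹ * (a * r * a⁻¹) := by rw [e]
          _ = a * (autFun γ⁻¹ v * r) * a⁻¹ := by group
          _ = a * (r * autFun γ⁻¹ v) * a⁻¹ := by rw [h]
          _ = a * r * a⁻¹ * (a * autFun γ⁻¹ v * a⁻¹) := by group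
          _ = a * r * a⁻¹ * v := by rw [e]
      exact fun a ha => ⟨ha.1, mem_normalizer_of_conj (hmem a ha) fun r hr => by
        simpa using hmem a⁻¹ (InvMemClass.inv_mem ha) r hr⟩
    have hR₁S : R₁ ≤ S := inf_le_left.trans (normalizerIn_le X)
    have hgz : g z = z := (isMap_fixSys.1 (hmove R₁ hR₁S (prior_of_lt hlt hR₁S hNN) (hZconj R₁ hlt.le hR₁S) (X ⊔ R₁) g
      hg le_sup_right (sup_le ((le_normalizerIn hXS).trans hNN) (inf_le_left.trans hNN)) hgR)).2.1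
      (Subgroup.mem_sup_left hzX)
    rw [hκe z hzX, hgz]
    exact hκ z hzV
  have hR₁X : R₁ ≤ X := (hXR₁.eq_or_lt.resolve_right hlt).ge
  obtain ⟨L, _, _, ι, θ, hmodel, hθs, hθι, -, hconj⟩ := exists_model_aut hS hF hXn hXc
  obtain ⟨N, hN⟩ := exists_normalizerSystem F hXS
  obtain ⟨-, hι, ⟨T, hT⟩, -⟩ := hmodel N hN
  set O := pCore p L with hOdef
  haveI := CfsgLib.Solv.pCore_normal L p
  have hXR : X ≤ normalizerIn S X := le_normalizerIn hXS
  have hRp : IsPGroup p ↥(normalizerIn S X) := hS.to_le (normalizerIn_le X)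
  have hXO : (X.subgroupOf (normalizerIn S X)).map ι ≤ O := by
    haveI : ((X.subgroupOf (normalizerIn S X)).map ι).Normal := ⟨by
      rintro _ ⟨x, hx, rfl⟩ l
      obtain ⟨q', hq'c, hq'⟩ := hconj l x hx
      exact ⟨q', (show (q' : Ω) ∈ X from hq'c.symm ▸ autFun_mem _ hx), hq'.symm⟩⟩
    exact CfsgLib.Solv.le_pCore ((hRp.to_subgroup _).map ι)
  have hOT : O ≤ ι.range := hT ▸ CfsgLib.Solv.pCore_le_sylow T
  set X₁ := (O.comap ι).map (normalizerIn S X).subtype with hX₁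
  have hX₁R : X₁ ≤ normalizerIn S X := Subgroup.map_subtype_le _
  have hXX₁ : X ≤ X₁ := fun x hx => ⟨⟨x, hXR hx⟩, hXO ⟨⟨x, hXR hx⟩, hx, rfl⟩, rfl⟩
  intro α
  obtain ⟨l, rfl⟩ := hθs α
  -- a map stabilizing a subgroup normalized by the model
  have hext : ∀ Y : Subgroup Ω, Y ≤ normalizerIn S X →
      (∀ y : ↥(normalizerIn S X), (y : Ω) ∈ Y → ∃ y' : ↥(normalizerIn S X), (y' : Ω) ∈ Y ∧ l * ι y * l⁻¹ = ι y') →
      ∃ f, IsMap F (X ⊔ Y) f ∧ img f Y = Y ∧ f z = autFun (θ l : MulAut X) z := fun Y hY hl => by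
    obtain ⟨f, hf, hfY, hfX, -⟩ := exists_char_map hN hι θ hconj hXS hY hl
    exact ⟨f, hf, hfY, hfX z hzX⟩
  rcases hXX₁.eq_or_lt with heq | hlt₁
  swap
  · -- the largest normal `p`-subgroup of the model is larger
    obtain ⟨f, hf, hfY, hfz⟩ := hext X₁ hX₁R (by
      rintro y ⟨y₀, hy₀, he⟩
      obtain rfl : y₀ = y := Subtype.ext he
      have hc := (inferInstance : O.Normal).conj_mem _ hy₀ l
      obtain ⟨y', hy'⟩ := hOT hc
      exact ⟨y', ⟨y', (show ι y' ∈ O from hy'.symm ▸ hc), rfl⟩, hy'.symm⟩)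
    have hX₁S : X₁ ≤ S := hX₁R.trans (normalizerIn_le X)
    have hN₁ : normalizerIn S X ≤ normalizerIn S X₁ := by
      have hmem : ∀ a ∈ normalizerIn S X, ∀ y ∈ X₁, a * y * a⁻¹ ∈ X₁ := by
        rintro a ha _ ⟨y, hy, rfl⟩
        refine ⟨⟨a, ha⟩ * y * ⟨a, ha⟩⁻¹, ?_, rfl⟩
        show ι (⟨a, ha⟩ * y * ⟨a, ha⟩⁻¹) ∈ O
        rw [map_mul, map_mul, map_inv]
        exact (inferInstance : O.Normal).conj_mem _ hy _
      exact fun a ha => ⟨ha.1, mem_normalizer_of_conj (hmem a ha) fun y hy => by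
        simpa using hmem a⁻¹ (InvMemClass.inv_mem ha) y hy⟩
    rw [← hfz]
    exact (isMap_fixSys.1 (hmove X₁ hX₁S (prior_of_lt hlt₁ hX₁S hN₁) (hZconj X₁ hlt₁.le hX₁S) (X ⊔ X₁) f hf
      le_sup_right (sup_le (hXR.trans hN₁) (hX₁R.trans hN₁)) hfY)).2.1 (Subgroup.mem_sup_left hzX)
  -- the functor is normal in the model
  let e : ↥(normalizerIn S X) ≃* ↥(T : Subgroup L) :=
    (MonoidHom.ofInjective hι.1).trans (MulEquiv.subgroupCongr hT.symm)
  have he : (W ↥(T : Subgroup L)).map (T : Subgroup L).subtype = (W ↥(normalizerIn S X)).map ι := by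
    rw [← hW2 _ _ hRp e, Subgroup.map_map]
    rfl
  have hWn : ((W ↥(normalizerIn S X)).map ι).Normal := by
    by_contra hn
    obtain ⟨g, hgT, hgO, hgq⟩ := hq L T (he ▸ hn)
    obtain ⟨h, hhT, hhO, hhw⟩ := exists_power_centralizing T.isPGroup' hgT hgO hgq
    rw [hT] at hhT
    obtain ⟨r, rfl⟩ := hhT
    refine hhO (hXO ⟨r, ?_, rfl⟩)
    refine hR₁X ⟨r.2, fun v hv => ?_⟩
    have hle : V' ≤ Subgroup.centralizer ({(r : Ω)} : Set Ω) := (Subgroup.closure_le _).2 (by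
      rintro _ ⟨w, hw, rfl⟩
      rw [pow_one]
      refine Subgroup.mem_centralizer_singleton_iff.2 ?_
      have hwZ : ι ⟨w, hXR hw.1⟩ ∈ (Subgroup.center ↥O).map O.subtype := by
        refine ⟨⟨_, hXO ⟨⟨w, hXR hw.1⟩, hw.1, rfl⟩⟩, Subgroup.mem_center_iff.2 fun o => Subtype.ext ?_, rfl⟩
        obtain ⟨t, ht⟩ := hOT o.2
        show (o : L) * ι _ = ι _ * (o : L)
        rw [← ht, ← map_mul, ← map_mul]
        have htX : (t : Ω) ∈ X := heq.ge ⟨t, (show ι t ∈ O from ht.symm ▸ o.2), rfl⟩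
        exact congrArg ι (Subtype.ext (hw.2 (t : Ω) htX))
      have h1 := hhw _ hwZ
      rw [← map_pow, ← map_inv, ← map_mul, ← map_mul] at h1
      exact (mul_inv_eq_iff_eq_mul.1 (congrArg Subtype.val (hι.1 h1))).symm)
    exact Subgroup.mem_centralizer_singleton_iff.1 (hle hv)
  set Y := fnAt W (normalizerIn S X) with hYdef
  have hYR : Y ≤ normalizerIn S X := fnAt_le W _
  obtain ⟨f, hf, hfY, hfz⟩ := hext Y hYR (by
    rintro y ⟨y₀, hy₀, hye⟩
    obtain rfl : y₀ = y := Subtype.ext hye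
    obtain ⟨y', hy', hye'⟩ := hWn.conj_mem _ ⟨y₀, hy₀, rfl⟩ l
    exact ⟨y', ⟨y', hy', rfl⟩, hye'.symm⟩)
  rw [← hfz]
  by_cases hRS : normalizerIn S X = S
  · rw [hYdef, hRS] at hfY hf
    exact hfix _ f hf le_sup_right hfY (Subgroup.mem_sup_left hzX)
  have hNY : normalizerIn S (normalizerIn S X) ≤ normalizerIn S Y :=
    normalizerIn_le_fnAt W hS hW2 (normalizerIn_le X)
  have hRY : normalizerIn S X ≤ normalizerIn S Y := (le_normalizerIn (normalizerIn_le X)).trans hNY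
  refine (isMap_fixSys.1 (hmove Y (hYR.trans (normalizerIn_le X)) (prior_of_normalizer hS hRS hNY) (fun Y₁ hY hYn => ?_)
    (X ⊔ Y) f hf le_sup_right (sup_le (hXR.trans hRY) (hYR.trans hRY)) hfY)).2.1 (Subgroup.mem_sup_left hzX)
  obtain ⟨ψ, hψ, hψi, -⟩ := exists_normalizer_map_fn hS hF hYn hY
  have hψR : IsMap F (normalizerIn S X) ψ := hψ.mono hRY
  rw [Subgroup.zpowers_le, ← hψi, hYdef, img_fnAt W hS hW2 hψR le_rfl]
  have hiS : img ψ (normalizerIn S X) ≤ S := img_le_iff.2 fun x hx => hψR.mem hx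
  haveI := finite_of_le hiS
  have hzψ : z ∈ img ψ (normalizerIn S X) :=
    img_mono hXR (Zc_le_centric (centric_of_isConj hXc (isConj_iff.2 ⟨ψ, hψR.mono hXR, rfl⟩)) hz)
  exact ⟨⟨z, hzψ⟩, hWZ _ (hS.to_le hiS) (Subgroup.mem_center_iff.2 fun y => Subtype.ext (Zc_comm hz (hiS y.2))), rfl⟩

end CfsgLib.Fus
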