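import Cfsg.Agent.Fus.StrongInvariance
import Cfsg.Agent.Fus.Alperin
import Cfsg.Agent.Fus.Generation

/-!
Subsystems containing the `p`-power automorphisms of the centric subgroups.
-/

set_option autoImplicit false
set_option linter.style.haveILetI false

open Cfsg Cfsg.FusionSystem

namespace CfsgLib.Fus.PrimeIdx

variable {Ω : Type*} [Group Ω] {S : Subgroup Ω} {F E : FusionSystem S} {p : ℕ}

/-- The subgroup of `Aut_F(P)` generated by the elements of `p`-power order. -/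
def ppart (F : FusionSystem S) (p : ℕ) (P : Subgroup Ω) : Subgroup (MulAut P) :=
  Subgroup.closure {δ | δ ∈ F.autGroup P ∧ ∃ k : ℕ, δ ^ p ^ k = 1}

theorem ppart_eq [hp : Fact p.Prime] (P : Subgroup Ω) :
    (Subgroup.closure {α : ↥(F.autGroup P) | ∃ k : ℕ, orderOf α = p ^ k}).map (F.autGroup P).subtype =
      ppart F p P := by
  rw [MonoidHom.map_closure, ppart]
  congr 1
  ext δ
  constructor
  · rintro ⟨α, ⟨k, hk⟩, rfl⟩
    refine ⟨α.2, k, ?_⟩
    rw [Subgroup.coe_subtype, ← SubmonoidClass.coe_pow, ← hk, pow_orderOf_eq_one]; rfl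
  · rintro ⟨hδ, k, hk⟩
    obtain ⟨m, -, hm⟩ := (Nat.dvd_prime_pow hp.out).1 (orderOf_dvd_of_pow_eq_one hk)
    exact ⟨⟨δ, hδ⟩, ⟨m, by rw [← Subgroup.orderOf_coe]; exact hm⟩, rfl⟩

theorem ppart_normal (P : Subgroup Ω) : ∀ α ∈ F.autGroup P, ∀ κ ∈ ppart F p P, α * κ * α⁻¹ ∈ ppart F p P := by
  intro α hα κ hκ
  induction hκ using Subgroup.closure_induction with
  | mem δ hδ =>
    obtain ⟨hδA, k, hk⟩ := hδ
    exact Subgroup.subset_closure ⟨mul_mem (mul_mem hα hδA) (inv_mem hα), k, by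
      rw [conj_pow, hk, mul_one, mul_inv_cancel]⟩
  | one => rw [mul_one, mul_inv_cancel]; exact one_mem _
  | mul a b _ _ iha ihb => simpa [mul_assoc] using mul_mem iha ihb
  | inv a _ iha => simpa [mul_assoc] using inv_mem iha

variable [Finite S] [hp : Fact p.Prime]

theorem autInducedBy_le_ppart (hS : IsPGroup p S) {P : Subgroup Ω} (hP : P ≤ S) :
    autInducedBy S P ≤ ppart F p P := fun γ hγ => by
  obtain ⟨k, hk⟩ := isPGroup_autInducedBy (P := P) hS ⟨γ, hγ⟩
  exact Subgroup.subset_closure ⟨autInducedBy_le_autGroup hP hγ, k, congrArg Subtype.val hk⟩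

omit hp in
theorem autS_closed : F.StronglyClosed S := ⟨le_rfl, fun _ _ φ hφ x => (F.le_of_mem hφ).2 x⟩

/-- The maps of `E` all whose transports by `Aut_F(S)` lie in `E`. -/
def invPart (E F : FusionSystem S) : FusionSystem S :=
  subSystem E (fun P f => ∀ β ∈ F.autGroup S, ∃ c, IsMap E (img (autFun β) P) c ∧
      ∀ x ∈ P, c (autFun β x) = autFun β (f x))
    (fun P f g hfg h β hβ => by
      obtain ⟨c, hc, hce⟩ := h β hβ
      exact ⟨c, hc, fun x hx => by rw [← hfg x hx]; exact hce x hx⟩)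
    (fun P a hP ha β hβ => by
      have hb := (mem_autGroup le_rfl).1 hβ
      exact ⟨conjF (autFun β a), IsMap.conj E (img_le_iff.2 fun x hx => autFun_mem β (hP hx))
        (autFun_mem β ha), fun x hx => by rw [conjF_apply, conjF_apply, hb.map_conj ha (hP hx)]⟩)
    (fun P R f g hf hg h1 h2 hPR β hβ => by
      obtain ⟨c, hc, hce⟩ := h1 β hβ
      obtain ⟨d, hd, hde⟩ := h2 β hβ
      have hbm : ∀ y ∈ img (autFun β) P, ∃ x ∈ P, autFun β x = y := fun y hy =>
        (((mem_autGroup le_rfl).1 hβ).mono hf.le).mem_img.1 hy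
      refine ⟨d ∘ c, hc.comp hd fun y hy => ?_, fun x hx => ?_⟩
      · obtain ⟨x, hx, rfl⟩ := hbm y hy
        rw [hce x hx]
        exact mem_img_of_mem (hPR x hx)
      · simp only [Function.comp_apply]
        rw [hce x hx, hde _ (hPR x hx)])
    (fun P f g hf h1 hg hgf β hβ => by
      obtain ⟨c, hc, hce⟩ := h1 β hβ
      obtain ⟨d, hd, hdc, -, -⟩ := hc.inv
      have hb := (mem_autGroup le_rfl).1 hβ
      have hi : img (autFun β) (img f P) = img c (img (autFun β) P) := by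
        rw [← hf.img_comp, ← (hb.mono hf.le).img_comp]
        exact img_congr fun x hx => (hce x hx).symm
      refine ⟨d, hi ▸ hd, fun y hy => ?_⟩
      obtain ⟨x, hx, rfl⟩ := hf.mem_img.1 hy
      rw [← hce x hx, hdc _ (mem_img_of_mem hx), hgf x hx])

theorem isMap_invPart {P : Subgroup Ω} {f : Ω → Ω} : IsMap (invPart E F) P f ↔ IsMap E P f ∧
    ∀ β ∈ F.autGroup S, ∃ c, IsMap E (img (autFun β) P) c ∧ ∀ x ∈ P, c (autFun β x) = autFun β (f x) :=
  isMap_subSystem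

omit hp in
theorem tinv_invPart : StrongInv.TInv (invPart E F) F := by
  intro P g hg β hβ
  obtain ⟨hgE, hg'⟩ := isMap_invPart.1 hg
  obtain ⟨c, hc, hce⟩ := hg' β hβ
  refine ⟨c, isMap_invPart.2 ⟨hc, fun γ hγ => ?_⟩, hce⟩
  obtain ⟨d, hd, hde⟩ := hg' (γ * β) (mul_mem hγ hβ)
  have hb := ((mem_autGroup le_rfl).1 hβ).mono hgE.le
  have hi : img (autFun γ) (img (autFun β) P) = img (autFun (γ * β)) P := by
    rw [← hb.img_comp]
    exact img_congr fun x hx => (autFun_mul γ β (hgE.le hx)).symm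
  refine ⟨d, hi ▸ hd, fun y hy => ?_⟩
  obtain ⟨x, hx, rfl⟩ := hb.mem_img.1 hy
  rw [hce x hx, ← autFun_mul γ β (hgE.le hx), hde x hx, autFun_mul γ β (hgE.mem hx)]

/-- The invariant part keeps the `p`-power automorphisms of centric subgroups. -/
theorem ppart_le_invPart (h : ∀ P, F.IsCentric P → ppart F p P ≤ E.autGroup P) {P : Subgroup Ω}
    (hP : F.IsCentric P) : ppart F p P ≤ (invPart E F).autGroup P := by
  rw [ppart, Subgroup.closure_le]
  rintro δ ⟨hδ, k, hk⟩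
  refine (mem_autGroup hP.1).2 (isMap_invPart.2
    ⟨(mem_autGroup hP.1).1 (h P hP (Subgroup.subset_closure ⟨hδ, k, hk⟩)), fun β hβ => ?_⟩)
  have hb := ((mem_autGroup le_rfl).1 hβ).mono hP.1
  obtain ⟨e, he⟩ := hb.equiv rfl
  have hc : F.IsCentric (img (autFun β) P) :=
    ⟨hb.img_le, fun Q hQ => hP.2 Q (isConj_trans (isConj_iff.2 ⟨_, hb, rfl⟩) hQ)⟩
  have hm : MulAut.congr e δ ∈ E.autGroup (img (autFun β) P) :=
    h _ hc (Subgroup.subset_closure ⟨congr_mem_autGroup hb rfl he hδ, k, by rw [← map_pow, hk, map_one]⟩)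
  exact ⟨_, (mem_autGroup hb.img_le).1 hm, fun x hx => autFun_congr he δ hx⟩

/-- Every map is a map of the invariant part followed by an automorphism of `S`. -/
theorem dec_all (hS : IsPGroup p S) (hF : F.IsSaturated p)
    (h : ∀ P, F.IsCentric P → ppart F p P ≤ E.autGroup P) {P : Subgroup Ω} {f : Ω → Ω} (hf : IsMap F P f) :
    StrongInv.Dec (invPart E F) F P f := by
  have hTI := tinv_invPart (E := E) (F := F)
  let D : FusionSystem S := subSystem F (fun P f => StrongInv.Dec (invPart E F) F P f)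
    (fun P f g hfg hd => StrongInv.dec_congr hd hfg)
    (fun P a hP ha => StrongInv.dec_of_map (IsMap.conj _ hP ha))
    (fun P R f g hf hg h1 h2 hPR => StrongInv.dec_comp hTI h1 (StrongInv.dec_mono h2 (img_le_iff.2 hPR)))
    (fun P f g hf h1 hg hgf => StrongInv.dec_inv autS_closed hTI h1 hgf)
  suffices hle : F ≤ D from (isMap_subSystem.1 (le_iff.1 hle P f hf)).2
  refine fusion_induction hS hF D fun R hR big α hα => ?_
  haveI := finite_of_le hR.1
  have hαm := (mem_autGroup hR.1).1 hα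
  refine (mem_autGroup hR.1).2 (isMap_subSystem.2 ⟨hαm, ?_⟩)
  rcases hR.1.eq_or_lt with rfl | hlt
  · exact StrongInv.dec_top autS_closed hαm
  obtain ⟨hA, hRr⟩ := fullyNormalized_spec hS hF hR
  by_cases hcR : centralizerIn S R ≤ R
  · have hRc : F.IsCentric R := centric_of_fc (fullyCentralized_of_fullyNormalized hS hF hR) hcR
    obtain ⟨β, hβ, κ, hκ, hαβ, hβn⟩ := frattini_aut hA (ppart F p R) (ppart_normal R) hα
    obtain ⟨b, hb, hbe⟩ := extend_aut hRr hβ (N := normalizerIn S R) le_rfl fun g hg γ hγe =>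
      hβn γ (mem_autInducedBy.2 ⟨g, hg.1, hγe⟩)
        (autInducedBy_le_ppart hS hR.1 (mem_autInducedBy.2 ⟨g, hg.1, hγe⟩))
    rw [sup_eq_right.2 (le_normalizerIn hR.1)] at hb
    have hbD := (isMap_subSystem.1 ((big _ (normalizerIn_le R)
      (card_lt_of_lt (normalizerIn_le R) (lt_normalizerIn hS hlt)) b hb).mono (le_normalizerIn hR.1))).2
    have h1 : StrongInv.Dec (invPart E F) F R (autFun β ∘ autFun κ) :=
      StrongInv.dec_comp hTI (StrongInv.dec_of_map ((mem_autGroup hR.1).1 (ppart_le_invPart h hRc hκ)))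
        ((img_autFun κ).symm ▸ StrongInv.dec_congr hbD hbe)
    exact StrongInv.dec_congr h1 fun x hx => by rw [Function.comp_apply, hαβ, autFun_mul _ _ hx]
  · obtain ⟨f', hf', hfe⟩ := extend_aut hRr hα (N := centralizerIn S R) (centralizerIn_le_normalizerIn R)
      fun g hg γ hγe => by
        rw [show γ = 1 from aut_ext fun x hx => by
          rw [hγe x hx, autFun_one hx, ← Subgroup.mem_centralizer_iff.1 hg.2 x hx, mul_inv_cancel_right],
          mul_one, mul_inv_cancel]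
        exact one_mem _
    have hd := (isMap_subSystem.1 ((big _ hf'.le (card_lt_of_lt hf'.le (lt_of_le_of_ne le_sup_left fun he =>
      hcR (le_sup_right.trans he.ge))) f' hf').mono le_sup_left)).2
    exact StrongInv.dec_congr hd hfe

/-- The `p`-power automorphisms of every subgroup lie in `E`. -/
theorem ppart_le (hS : IsPGroup p S) (hF : F.IsSaturated p)
    (h : ∀ P, F.IsCentric P → ppart F p P ≤ E.autGroup P) {P : Subgroup Ω} (hP : P ≤ S) :
    ppart F p P ≤ E.autGroup P := by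
  rw [ppart, Subgroup.closure_le]
  rintro δ ⟨hδ, k, hk⟩
  obtain ⟨Q, hPQ, hQ⟩ := exists_fullyNormalized (F := F) hP
  obtain ⟨g, hg, hgi⟩ := isConj_iff.1 hPQ
  obtain ⟨e, he⟩ := hg.equiv hgi
  obtain ⟨hA, -⟩ := fullyNormalized_spec hS hF hQ
  obtain ⟨-, R, hR⟩ := hA
  haveI := finite_mulAut hQ.1
  set d : ↥(F.autGroup Q) := ⟨MulAut.congr e δ, congr_mem_autGroup hg hgi he hδ⟩ with hd
  have hdp : IsPGroup p ↥(Subgroup.zpowers d) := fun z => by
    obtain ⟨j, hj⟩ := Subgroup.mem_zpowers_iff.1 z.2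
    refine ⟨k, Subtype.ext ?_⟩
    rw [SubmonoidClass.coe_pow, ← hj, ← zpow_natCast, ← zpow_mul, mul_comm, zpow_mul, zpow_natCast,
      show d ^ p ^ k = 1 from Subtype.ext (by
        rw [SubmonoidClass.coe_pow, hd]
        show MulAut.congr e δ ^ p ^ k = _
        rw [← map_pow, hk, map_one]; rfl), one_zpow]
    rfl
  obtain ⟨R', hR'⟩ := hdp.exists_le_sylow
  obtain ⟨b, hb⟩ := MulAction.exists_smul_eq ↥(F.autGroup Q) R R'
  have hdb : b⁻¹ * d * b ∈ (R : Subgroup ↥(F.autGroup Q)) := by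
    have h1 : d ∈ ((b • R : Sylow p _) : Subgroup ↥(F.autGroup Q)) := hb ▸ hR' (Subgroup.mem_zpowers d)
    rw [Sylow.coe_subgroup_smul] at h1
    have h2 := Subgroup.mem_pointwise_smul_iff_inv_smul_mem.1 h1
    rwa [MulAut.smul_def, ← map_inv, MulAut.conj_apply, inv_inv] at h2
  rw [hR] at hdb
  obtain ⟨x, hx, hxe⟩ := mem_autInducedBy.1 (Subgroup.mem_subgroupOf.1 hdb)
  -- the map `k = b⁻¹ ∘ g` carries `δ` to conjugation by `x`
  have hk' : IsMap F P (autFun (b : MulAut Q)⁻¹ ∘ g) :=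
    hg.comp ((mem_autGroup hQ.1).1 (inv_mem b.2)) fun y hy => hgi ▸ mem_img_of_mem hy
  obtain ⟨β, hβ, e₁, he₁, hee⟩ := dec_all hS hF h hk'
  obtain ⟨he₁E, -⟩ := isMap_invPart.1 he₁
  obtain ⟨e₂, he₂, hel, -, -⟩ := he₁E.inv
  have hb' := (mem_autGroup le_rfl).1 hβ
  have hconj : ∀ y ∈ P, e₁ (autFun δ y) = conjF (autFun β⁻¹ x) (e₁ y) := by
    intro y hy
    have hgy : g y ∈ Q := hgi ▸ mem_img_of_mem hy
    have h1 := hxe _ (autFun_mem (b : MulAut Q)⁻¹ hgy)
    rw [Subgroup.coe_mul, Subgroup.coe_mul, Subgroup.coe_inv, autFun_mul _ _ (autFun_mem _ hgy),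
      autFun_mul _ _ (autFun_mem _ (autFun_mem _ hgy)), autFun_inv_apply _ hgy] at h1
    change autFun (b : MulAut Q)⁻¹ (autFun (MulAut.congr e δ) (g y)) = _ at h1
    rw [autFun_congr he δ hy] at h1
    have h2 := hee _ (autFun_mem δ hy)
    have h3 := hee y hy
    simp only [Function.comp_apply] at h2 h3
    rw [h2, h3] at h1
    have h4 := congrArg (autFun β⁻¹) h1
    rw [autFun_inv_apply' β (he₁E.mem (autFun_mem δ hy)),
      ((mem_autGroup le_rfl).1 (inv_mem hβ)).map_conj hx (autFun_mem β (he₁E.mem hy)),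
      autFun_inv_apply' β (he₁E.mem hy)] at h4
    rw [conjF_apply]; exact h4
  refine (mem_autGroup hP).2 (((he₁E.comp (IsMap.conj E he₁E.img_le (autFun_mem β⁻¹ hx))
    fun y hy => mem_img_of_mem hy).comp he₂ fun y hy => ?_).congr fun y hy => ?_)
  · rw [Function.comp_apply, ← hconj y hy]; exact mem_img_of_mem (autFun_mem δ hy)
  · simp only [Function.comp_apply]
    rw [← hconj y hy, hel _ (autFun_mem δ hy)]

/-- A subsystem with the `p`-power automorphisms of centric subgroups has index prime to `p`. -/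
theorem prime_index (hS : IsPGroup p S) (hF : F.IsSaturated p) (hEF : E.IsSubsystemOf F)
    (h : ∀ P, F.IsCentric P → ppart F p P ≤ E.autGroup P) :
    E.HasPrimeToPIndexIn F p ∧
      (∀ (P : Subgroup Ω) (φ : P →* Ω), φ ∈ F.Hom P → ∃ α ∈ F.autGroup S, ∃ φ₀ ∈ E.Hom P,
        ∀ (x : P) (hx : φ₀ x ∈ S), φ x = ((α ⟨φ₀ x, hx⟩ : S) : Ω)) ∧
      ∀ P : Subgroup Ω, E.IsCentric P ↔ F.IsCentric P := by
  have hdec : ∀ {P : Subgroup Ω} {f : Ω → Ω}, IsMap F P f →
      ∃ α ∈ F.autGroup S, ∃ g, IsMap E P g ∧ ∀ x ∈ P, f x = autFun α (g x) := fun hf => by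
    obtain ⟨α, hα, g, hg, he⟩ := dec_all hS hF h hf
    exact ⟨α, hα, g, (isMap_invPart.1 hg).1, he⟩
  have hEFm := isSubsystemOf_iff.1 hEF
  refine ⟨⟨hEF, fun P hP => (ppart_eq (F := F) P).le.trans (ppart_le hS hF h hP)⟩, fun P φ hφ => ?_, fun P => ⟨?_, ?_⟩⟩
  · obtain ⟨α, hα, g, ⟨φ₀, hφ₀, hφg⟩, he⟩ := hdec (IsMap.of_hom hφ)
    refine ⟨α, hα, φ₀, hφ₀, fun x hx => ?_⟩
    have h1 := he x x.2
    rw [ev_apply, ← hφg x, autFun_of_mem α hx] at h1
    exact h1
  · rintro ⟨hPS, hc⟩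
    refine ⟨hPS, fun Q hQ z hz => ?_⟩
    obtain ⟨f, hf, rfl⟩ := isConj_iff.1 hQ
    obtain ⟨α, hα, g, hg, he⟩ := hdec hf
    have hai := (mem_autGroup le_rfl).1 (inv_mem hα)
    have hz' : autFun α⁻¹ z ∈ centralizerIn S (img g P) := by
      refine ⟨autFun_mem _ hz.1, Subgroup.mem_centralizer_iff.2 fun u hu => ?_⟩
      obtain ⟨x, hx, rfl⟩ := hg.mem_img.1 hu
      have hfx : f x ∈ img f P := mem_img_of_mem hx
      have h1 := congrArg (autFun α⁻¹) (Subgroup.mem_centralizer_iff.1 hz.2 _ hfx)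
      rw [hai.map_mul (hf.mem hx) hz.1, hai.map_mul hz.1 (hf.mem hx), he x hx,
        autFun_inv_apply' α (hg.mem hx)] at h1
      exact h1
    obtain ⟨x, hx, hxe⟩ := hg.mem_img.1 (hc _ (isConj_iff.2 ⟨g, hg, rfl⟩) hz')
    rw [← autFun_inv_apply α hz.1, ← hxe, ← he x hx]
    exact mem_img_of_mem hx
  · rintro ⟨hPS, hc⟩
    refine ⟨hPS, fun Q hQ => hc Q ?_⟩
    obtain ⟨f, hf, hfi⟩ := isConj_iff.1 hQ
    exact isConj_iff.2 ⟨f, hEFm _ _ hf, hfi⟩

end CfsgLib.Fus.PrimeIdx
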