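import Cfsg.Agent.Fus.Constructions
import Cfsg.Agent.Fus.Saturation

/-!
The product of two saturated systems is saturated.
-/

set_option autoImplicit false
set_option linter.style.haveILetI false

open Cfsg Cfsg.FusionSystem

namespace CfsgLib.Fus

theorem product_saturated {Ω₁ Ω₂ : Type*} [Group Ω₁] [Group Ω₂] {S₁ : Subgroup Ω₁} {S₂ : Subgroup Ω₂} [Finite S₁] [Finite S₂]
    {p : ℕ} [hp : Fact p.Prime] (h₁ : IsPGroup p S₁) (h₂ : IsPGroup p S₂) (F₁ : FusionSystem S₁) (F₂ : FusionSystem S₂)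
    (hF₁ : F₁.IsSaturated p) (hF₂ : F₂.IsSaturated p) (E : FusionSystem (S₁.prod S₂)) (hE : IsProductSystem F₁ F₂ E) :
    E.IsSaturated p := by
  classical
  haveI : Finite ↥(S₁.prod S₂) := Finite.of_equiv _ (S₁.prodEquiv S₂).symm.toEquiv
  have fstm : ∀ {P : Subgroup (Ω₁ × Ω₂)} {x : Ω₁ × Ω₂}, x ∈ P → x.1 ∈ P.map (MonoidHom.fst Ω₁ Ω₂) :=
    fun {P x} hx => ⟨x, hx, rfl⟩
  have sndm : ∀ {P : Subgroup (Ω₁ × Ω₂)} {x : Ω₁ × Ω₂}, x ∈ P → x.2 ∈ P.map (MonoidHom.snd Ω₁ Ω₂) :=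
    fun {P x} hx => ⟨x, hx, rfl⟩
  have hp1 : ∀ {P : Subgroup (Ω₁ × Ω₂)}, P ≤ (S₁.prod S₂) → P.map (MonoidHom.fst Ω₁ Ω₂) ≤ S₁ := fun hP => by
    rintro _ ⟨x, hx, rfl⟩; exact (hP hx).1
  have hp2 : ∀ {P : Subgroup (Ω₁ × Ω₂)}, P ≤ (S₁.prod S₂) → P.map (MonoidHom.snd Ω₁ Ω₂) ≤ S₂ := fun hP => by
    rintro _ ⟨x, hx, rfl⟩; exact (hP hx).2
  -- pairs of maps
  have hpair : ∀ {P : Subgroup (Ω₁ × Ω₂)}, P ≤ (S₁.prod S₂) → ∀ {f₁ : Ω₁ → Ω₁} {f₂ : Ω₂ → Ω₂},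
      IsMap F₁ (P.map (MonoidHom.fst Ω₁ Ω₂)) f₁ → IsMap F₂ (P.map (MonoidHom.snd Ω₁ Ω₂)) f₂ →
      IsMap E P (fun x => (f₁ x.1, f₂ x.2)) := by
    intro P hP f₁ f₂ hf₁ hf₂
    let φ : ↥P →* Ω₁ × Ω₂ := MonoidHom.mk' (fun x => (f₁ (x : Ω₁ × Ω₂).1, f₂ (x : Ω₁ × Ω₂).2)) fun a b => by
      show (f₁ ((a : Ω₁ × Ω₂).1 * (b : Ω₁ × Ω₂).1), f₂ ((a : Ω₁ × Ω₂).2 * (b : Ω₁ × Ω₂).2)) = _
      rw [hf₁.map_mul (fstm a.2) (fstm b.2), hf₂.map_mul (sndm a.2) (sndm b.2)]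
      rfl
    obtain ⟨φ₁, h₁', e₁⟩ := hf₁
    obtain ⟨φ₂, h₂', e₂⟩ := hf₂
    refine ⟨φ, (hE P φ).2 ⟨hP, φ₁, h₁', φ₂, h₂', fun x ha hb => ?_⟩, fun x => rfl⟩
    rw [e₁, e₂]; rfl
  have hsplit : ∀ {P : Subgroup (Ω₁ × Ω₂)} {f : Ω₁ × Ω₂ → Ω₁ × Ω₂}, IsMap E P f →
      ∃ f₁ f₂, IsMap F₁ (P.map (MonoidHom.fst Ω₁ Ω₂)) f₁ ∧ IsMap F₂ (P.map (MonoidHom.snd Ω₁ Ω₂)) f₂ ∧
        ∀ x ∈ P, f x = (f₁ x.1, f₂ x.2) := by
    rintro P f ⟨φ, hφ, he⟩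
    obtain ⟨-, φ₁, h₁', φ₂, h₂', hv⟩ := (hE P φ).1 hφ
    refine ⟨ev φ₁, ev φ₂, IsMap.of_hom h₁', IsMap.of_hom h₂', fun x hx => ?_⟩
    rw [ev_of_mem φ₁ (fstm hx), ev_of_mem φ₂ (sndm hx), ← he ⟨x, hx⟩]
    exact hv ⟨x, hx⟩ (fstm hx) (sndm hx)
  intro P hP
  obtain ⟨Q₁, hc₁, hn₁⟩ := exists_fullyNormalized (F := F₁) (hp1 hP)
  obtain ⟨Q₂, hc₂, hn₂⟩ := exists_fullyNormalized (F := F₂) (hp2 hP)
  obtain ⟨g₁, hg₁, hg₁i⟩ := isConj_iff.1 hc₁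
  obtain ⟨g₂, hg₂, hg₂i⟩ := isConj_iff.1 hc₂
  set g : Ω₁ × Ω₂ → Ω₁ × Ω₂ := fun x => (g₁ x.1, g₂ x.2)
  have hg := hpair hP hg₁ hg₂
  set Q := img g P with hQdef
  have hQS : Q ≤ (S₁.prod S₂) := img_le_iff.2 fun x hx => hg.mem hx
  have hQ1 : Q.map (MonoidHom.fst Ω₁ Ω₂) = Q₁ := by
    rw [← hg₁i]
    refine le_antisymm ?_ (img_le_iff.2 ?_)
    · rintro _ ⟨y, hy, rfl⟩
      obtain ⟨x, hx, rfl⟩ := hg.mem_img.1 hy
      exact mem_img_of_mem (fstm hx)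
    · rintro _ ⟨x, hx, rfl⟩
      exact ⟨g x, mem_img_of_mem hx, rfl⟩
  have hQ2 : Q.map (MonoidHom.snd Ω₁ Ω₂) = Q₂ := by
    rw [← hg₂i]
    refine le_antisymm ?_ (img_le_iff.2 ?_)
    · rintro _ ⟨y, hy, rfl⟩
      obtain ⟨x, hx, rfl⟩ := hg.mem_img.1 hy
      exact mem_img_of_mem (sndm hx)
    · rintro _ ⟨x, hx, rfl⟩
      exact ⟨g x, mem_img_of_mem hx, rfl⟩
  haveI := finite_mulAut hn₁.1
  haveI := finite_mulAut hn₂.1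
  haveI : Finite ↥(F₁.autGroup Q₁) := inferInstance
  haveI : Finite ↥(F₂.autGroup Q₂) := inferInstance
  -- the stabilizer of `Q` in the product of the automizers
  let act : ↥(F₁.autGroup Q₁) × ↥(F₂.autGroup Q₂) → Ω₁ × Ω₂ → Ω₁ × Ω₂ :=
    fun a x => (autFun (a.1 : MulAut Q₁) x.1, autFun (a.2 : MulAut Q₂) x.2)
  have hactmul : ∀ a b x, x.1 ∈ Q₁ → x.2 ∈ Q₂ → act (a * b) x = act a (act b x) := fun a b x h h' => by
    simp only [act, Prod.fst_mul, Prod.snd_mul, Subgroup.coe_mul]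
    rw [autFun_mul _ _ h, autFun_mul _ _ h']
  have hact1 : ∀ x : Ω₁ × Ω₂, x.1 ∈ Q₁ → x.2 ∈ Q₂ → act 1 x = x := fun x h h' => by
    simp only [act, Prod.fst_one, Prod.snd_one, OneMemClass.coe_one]
    rw [autFun_one h, autFun_one h']
  let M : Submonoid (↥(F₁.autGroup Q₁) × ↥(F₂.autGroup Q₂)) :=
    { carrier := {a | ∀ x ∈ Q, act a x ∈ Q}
      one_mem' := fun x hx => by rwa [hact1 x (hQ1 ▸ fstm hx) (hQ2 ▸ sndm hx)]
      mul_mem' := fun {a b} ha hb x hx => by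
        rw [hactmul a b x (hQ1 ▸ fstm hx) (hQ2 ▸ sndm hx)]
        exact ha _ (hb x hx) }
  let B : Subgroup (↥(F₁.autGroup Q₁) × ↥(F₂.autGroup Q₂)) :=
    { M with
      inv_mem' := fun {a} ha => by
        show a⁻¹ ∈ M
        rw [inv_eq_of_mul_eq_one_right (show a * a ^ (orderOf a - 1) = 1 by
          rw [← pow_succ', Nat.sub_add_cancel (orderOf_pos a), pow_orderOf_eq_one])]
        exact M.pow_mem ha _ }
  obtain ⟨U⟩ := (Sylow.nonempty : Nonempty (Sylow p ↥B))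
  obtain ⟨T₁, hT₁⟩ := (fullyNormalized_spec h₁ hF₁ hn₁).1.2
  obtain ⟨T₂, hT₂⟩ := (fullyNormalized_spec h₂ hF₂ hn₂).1.2
  obtain ⟨W₁, hW₁⟩ := (U.2.map ((MonoidHom.fst _ _).comp B.subtype)).exists_le_sylow
  obtain ⟨W₂, hW₂⟩ := (U.2.map ((MonoidHom.snd _ _).comp B.subtype)).exists_le_sylow
  obtain ⟨c₁, hcT₁⟩ := MulAction.exists_smul_eq ↥(F₁.autGroup Q₁) W₁ T₁
  obtain ⟨c₂, hcT₂⟩ := MulAction.exists_smul_eq ↥(F₂.autGroup Q₂) W₂ T₂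
  set a : ↥(F₁.autGroup Q₁) × ↥(F₂.autGroup Q₂) := (c₁, c₂) with ha
  have hc₁m : IsMap F₁ (Q.map (MonoidHom.fst Ω₁ Ω₂)) (autFun (c₁ : MulAut Q₁)) := by
    rw [hQ1]; exact (mem_autGroup hn₁.1).1 c₁.2
  have hc₂m : IsMap F₂ (Q.map (MonoidHom.snd Ω₁ Ω₂)) (autFun (c₂ : MulAut Q₂)) := by
    rw [hQ2]; exact (mem_autGroup hn₂.1).1 c₂.2
  have hcm : IsMap E Q (act a) := hpair hQS hc₁m hc₂m
  set R := img (act a) Q with hR
  have hRS : R ≤ (S₁.prod S₂) := img_le_iff.2 fun x hx => hcm.mem hx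
  have hR1 : R.map (MonoidHom.fst Ω₁ Ω₂) = Q₁ := by
    refine le_antisymm ?_ fun y hy => ?_
    · rintro _ ⟨y, hy, rfl⟩
      obtain ⟨x, hx, rfl⟩ := hcm.mem_img.1 hy
      exact autFun_mem _ (hQ1 ▸ fstm hx)
    · obtain ⟨x, hx, hxy⟩ := (hQ1.ge (autFun_mem (c₁ : MulAut Q₁)⁻¹ hy) : autFun (c₁ : MulAut Q₁)⁻¹ y ∈ Q.map _)
      refine ⟨act a x, mem_img_of_mem hx, ?_⟩
      show autFun (c₁ : MulAut Q₁) x.1 = y
      rw [show x.1 = _ from hxy, autFun_inv_apply _ hy]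
  have hR2 : R.map (MonoidHom.snd Ω₁ Ω₂) = Q₂ := by
    refine le_antisymm ?_ fun y hy => ?_
    · rintro _ ⟨y, hy, rfl⟩
      obtain ⟨x, hx, rfl⟩ := hcm.mem_img.1 hy
      exact autFun_mem _ (hQ2 ▸ sndm hx)
    · obtain ⟨x, hx, hxy⟩ := (hQ2.ge (autFun_mem (c₂ : MulAut Q₂)⁻¹ hy) : autFun (c₂ : MulAut Q₂)⁻¹ y ∈ Q.map _)
      refine ⟨act a x, mem_img_of_mem hx, ?_⟩
      show autFun (c₂ : MulAut Q₂) x.2 = y
      rw [show x.2 = _ from hxy, autFun_inv_apply _ hy]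
  haveI := finite_of_le hRS
  haveI := finite_mulAut hRS
  -- restriction to `R`
  have hρex : ∀ b : ↥B, ∃ δ ∈ E.autGroup R, ∀ x ∈ R,
      autFun δ x = act (a * (b : ↥(F₁.autGroup Q₁) × ↥(F₂.autGroup Q₂)) * a⁻¹) x := by
    intro b
    set d := a * (b : ↥(F₁.autGroup Q₁) × ↥(F₂.autGroup Q₂)) * a⁻¹ with hd
    have hd₁ : IsMap F₁ (R.map (MonoidHom.fst Ω₁ Ω₂)) (autFun (d.1 : MulAut Q₁)) := by
      rw [hR1]; exact (mem_autGroup hn₁.1).1 d.1.2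
    have hd₂ : IsMap F₂ (R.map (MonoidHom.snd Ω₁ Ω₂)) (autFun (d.2 : MulAut Q₂)) := by
      rw [hR2]; exact (mem_autGroup hn₂.1).1 d.2.2
    have hdm : IsMap E R (act d) := hpair hRS hd₁ hd₂
    refine exists_aut hdm (Subgroup.eq_of_le_of_card_ge (img_le_iff.2 fun x hx => ?_) hdm.card_img.ge)
    obtain ⟨u, hu, rfl⟩ := hcm.mem_img.1 hx
    have e : act d (act a u) = act a (act b u) := by
      rw [← hactmul d a u (hQ1 ▸ fstm hu) (hQ2 ▸ sndm hu), hd, inv_mul_cancel_right,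
        hactmul a b u (hQ1 ▸ fstm hu) (hQ2 ▸ sndm hu)]
    show act d (act a u) ∈ R
    rw [e]
    exact mem_img_of_mem (b.2 u hu)
  choose δ hδ hδe using hρex
  let ρ : ↥B →* ↥(E.autGroup R) := MonoidHom.mk' (fun b => ⟨δ b, hδ b⟩) fun b b' => Subtype.ext (aut_ext fun x hx => by
    have h1 : x.1 ∈ Q₁ := hR1 ▸ fstm hx
    have h2 : x.2 ∈ Q₂ := hR2 ▸ sndm hx
    rw [Subgroup.coe_mul, autFun_mul _ _ hx, hδe _ x hx, hδe b _ (autFun_mem _ hx), hδe b' x hx,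
      ← hactmul _ _ x h1 h2, Subgroup.coe_mul]
    congr 1
    group)
  have hρsurj : Function.Surjective ρ := fun γ => by
    obtain ⟨f₁, f₂, hf₁, hf₂, hfe⟩ := hsplit ((mem_autGroup hRS).1 γ.2)
    rw [hR1] at hf₁
    rw [hR2] at hf₂
    have hi1 : img f₁ Q₁ = Q₁ := by
      rw [← hR1]
      refine le_antisymm (img_le_iff.2 ?_) ?_
      · rintro _ ⟨x, hx, rfl⟩
        have h := fstm (autFun_mem (γ : MulAut R) hx)
        rwa [hfe x hx] at h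
      · rintro _ ⟨y, hy, rfl⟩
        have hx := autFun_mem (γ : MulAut R)⁻¹ hy
        have h := hfe _ hx
        rw [autFun_inv_apply _ hy] at h
        show y.1 ∈ _
        rw [show y.1 = f₁ (autFun (γ : MulAut R)⁻¹ y).1 from congrArg Prod.fst h]
        exact mem_img_of_mem (fstm hx)
    have hi2 : img f₂ Q₂ = Q₂ := by
      rw [← hR2]
      refine le_antisymm (img_le_iff.2 ?_) ?_
      · rintro _ ⟨x, hx, rfl⟩
        have h := sndm (autFun_mem (γ : MulAut R) hx)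
        rwa [hfe x hx] at h
      · rintro _ ⟨y, hy, rfl⟩
        have hx := autFun_mem (γ : MulAut R)⁻¹ hy
        have h := hfe _ hx
        rw [autFun_inv_apply _ hy] at h
        show y.2 ∈ _
        rw [show y.2 = f₂ (autFun (γ : MulAut R)⁻¹ y).2 from congrArg Prod.snd h]
        exact mem_img_of_mem (sndm hx)
    obtain ⟨α₁, hα₁, he₁⟩ := exists_aut hf₁ hi1
    obtain ⟨α₂, hα₂, he₂⟩ := exists_aut hf₂ hi2
    set d : ↥(F₁.autGroup Q₁) × ↥(F₂.autGroup Q₂) := (⟨α₁, hα₁⟩, ⟨α₂, hα₂⟩) with hd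
    have hdR : ∀ x ∈ R, act d x = autFun (γ : MulAut R) x := fun x hx => by
      rw [hfe x hx]
      exact Prod.ext (he₁ _ (hR1 ▸ fstm hx)) (he₂ _ (hR2 ▸ sndm hx))
    have hb : a⁻¹ * d * a ∈ B := fun u hu => by
      have hau : act a u ∈ R := mem_img_of_mem hu
      have h1 : act d (act a u) ∈ R := by rw [hdR _ hau]; exact autFun_mem _ hau
      obtain ⟨v, hv, hve⟩ := hcm.mem_img.1 h1
      have e : act (a⁻¹ * d * a) u = v := by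
        rw [mul_assoc, hactmul a⁻¹ (d * a) u (hQ1 ▸ fstm hu) (hQ2 ▸ sndm hu),
          hactmul d a u (hQ1 ▸ fstm hu) (hQ2 ▸ sndm hu), ← hve,
          ← hactmul a⁻¹ a v (hQ1 ▸ fstm hv) (hQ2 ▸ sndm hv), inv_mul_cancel,
          hact1 v (hQ1 ▸ fstm hv) (hQ2 ▸ sndm hv)]
      rw [e]; exact hv
    refine ⟨⟨_, hb⟩, Subtype.ext (aut_ext fun x hx => ?_)⟩
    show autFun (δ ⟨_, hb⟩) x = _
    rw [hδe _ x hx]
    show act (a * (a⁻¹ * d * a) * a⁻¹) x = _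
    rw [show a * (a⁻¹ * d * a) * a⁻¹ = d by group, hdR x hx]
  have hUle : (U.mapSurjective hρsurj : Subgroup ↥(E.autGroup R)) ≤ (autInducedBy (S₁.prod S₂) R).subgroupOf (E.autGroup R) := by
    rw [Sylow.coe_mapSurjective]
    rintro _ ⟨b, hb, rfl⟩
    have k1 : c₁ * (b : ↥(F₁.autGroup Q₁) × ↥(F₂.autGroup Q₂)).1 * c₁⁻¹ ∈ (T₁ : Subgroup _) := by
      rw [← hcT₁, Sylow.coe_subgroup_smul]
      exact Subgroup.smul_mem_pointwise_smul _ (MulAut.conj c₁) _ (hW₁ ⟨b, hb, rfl⟩)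
    have k2 : c₂ * (b : ↥(F₁.autGroup Q₁) × ↥(F₂.autGroup Q₂)).2 * c₂⁻¹ ∈ (T₂ : Subgroup _) := by
      rw [← hcT₂, Sylow.coe_subgroup_smul]
      exact Subgroup.smul_mem_pointwise_smul _ (MulAut.conj c₂) _ (hW₂ ⟨b, hb, rfl⟩)
    rw [hT₁, Subgroup.mem_subgroupOf] at k1
    rw [hT₂, Subgroup.mem_subgroupOf] at k2
    obtain ⟨s, hs, hse⟩ := mem_autInducedBy.1 k1
    obtain ⟨t, ht, hte⟩ := mem_autInducedBy.1 k2
    have hval : ∀ x ∈ R, autFun (δ b) x = (s, t) * x * (s, t)⁻¹ := fun x hx => by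
      rw [hδe b x hx]
      exact Prod.ext (hse _ (hR1 ▸ fstm hx)) (hte _ (hR2 ▸ sndm hx))
    refine mem_autInducedBy.2 ⟨(s, t), ⟨hs, ht⟩, hval⟩
  have hfa : E.IsFullyAutomized p R := by
    refine ⟨hRS, U.mapSurjective hρsurj, ?_⟩
    have hSp : IsPGroup p ↥(S₁.prod S₂) := by
      intro x
      obtain ⟨k, hk⟩ := h₁ ⟨(x : Ω₁ × Ω₂).1, x.2.1⟩
      obtain ⟨l, hl⟩ := h₂ ⟨(x : Ω₁ × Ω₂).2, x.2.2⟩
      refine ⟨k + l, Subtype.ext (Prod.ext ?_ ?_)⟩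
      · have hk' : (x : Ω₁ × Ω₂).1 ^ p ^ k = 1 := congrArg Subtype.val hk
        simp [pow_add, pow_mul, hk']
      · have hl' : (x : Ω₁ × Ω₂).2 ^ p ^ l = 1 := congrArg Subtype.val hl
        simp [pow_add, mul_comm (p ^ k) (p ^ l), pow_mul, hl']
    exact ((U.mapSurjective hρsurj).3 ((isPGroup_autInducedBy hSp).comap_of_injective _ (Subgroup.subtype_injective _)) hUle).symm
  refine ⟨R, isConj_trans (isConj_iff.2 ⟨g, hg, rfl⟩) (isConj_iff.2 ⟨act a, hcm, rfl⟩), hfa, hRS, fun P' φ hφ hφR => ?_⟩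
  -- receptive
  obtain ⟨f₁, f₂, hf₁, hf₂, hfe⟩ := hsplit (IsMap.of_hom hφ)
  set N := extender (S₁.prod S₂) P' φ with hN
  have hevR : ∀ x ∈ P', ev φ x ∈ R := fun x hx => by rw [← hφR, ev_of_mem φ hx]; exact ⟨_, rfl⟩
  have hi1 : img f₁ (P'.map (MonoidHom.fst Ω₁ Ω₂)) = Q₁ := by
    rw [← hR1]
    refine le_antisymm (img_le_iff.2 ?_) ?_
    · rintro _ ⟨x, hx, rfl⟩
      have h := fstm (hevR x hx)
      rwa [hfe x hx] at h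
    · rintro _ ⟨y, hy, rfl⟩
      obtain ⟨x, rfl⟩ := hφR.ge hy
      rw [← ev_apply φ x, hfe _ x.2]
      exact mem_img_of_mem (fstm x.2)
  have hi2 : img f₂ (P'.map (MonoidHom.snd Ω₁ Ω₂)) = Q₂ := by
    rw [← hR2]
    refine le_antisymm (img_le_iff.2 ?_) ?_
    · rintro _ ⟨x, hx, rfl⟩
      have h := sndm (hevR x hx)
      rwa [hfe x hx] at h
    · rintro _ ⟨y, hy, rfl⟩
      obtain ⟨x, rfl⟩ := hφR.ge hy
      rw [← ev_apply φ x, hfe _ x.2]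
      exact mem_img_of_mem (sndm x.2)
  obtain ⟨e₁, he₁, he₁v⟩ := extend (fullyNormalized_spec h₁ hF₁ hn₁).2 hf₁ hi1 (N := N.map (MonoidHom.fst Ω₁ Ω₂)) (by
    rintro _ ⟨u, hu, rfl⟩
    obtain ⟨huS, hun, h, hh, hhe⟩ := mem_extender.1 hu
    haveI := finite_of_le (hp1 ((E.le_of_mem hφ).1))
    refine ⟨huS.1, Subgroup.mem_normalizer_fintype ?_, h.1, hh.1, ?_⟩
    · rintro _ ⟨x, hx, rfl⟩
      exact fstm (conj_mem_of_normalizer hun hx)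
    · rintro _ ⟨x, hx, rfl⟩
      have h' := hhe x hx
      rw [hfe _ (conj_mem_of_normalizer hun hx), hfe x hx] at h'
      exact congrArg Prod.fst h')
  obtain ⟨e₂, he₂, he₂v⟩ := extend (fullyNormalized_spec h₂ hF₂ hn₂).2 hf₂ hi2 (N := N.map (MonoidHom.snd Ω₁ Ω₂)) (by
    rintro _ ⟨u, hu, rfl⟩
    obtain ⟨huS, hun, h, hh, hhe⟩ := mem_extender.1 hu
    haveI := finite_of_le (hp2 ((E.le_of_mem hφ).1))
    refine ⟨huS.2, Subgroup.mem_normalizer_fintype ?_, h.2, hh.2, ?_⟩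
    · rintro _ ⟨x, hx, rfl⟩
      exact sndm (conj_mem_of_normalizer hun hx)
    · rintro _ ⟨x, hx, rfl⟩
      have h' := hhe x hx
      rw [hfe _ (conj_mem_of_normalizer hun hx), hfe x hx] at h'
      exact congrArg Prod.snd h')
  obtain ⟨ψ, hψ, hψe⟩ := hpair (extender_le P' φ) (he₁.mono le_sup_right) (he₂.mono le_sup_right)
  refine ⟨ψ, hψ, fun x hx hxN => ?_⟩
  rw [hψe]
  show (e₁ x.1, e₂ x.2) = _
  rw [he₁v _ (fstm hx), he₂v _ (sndm hx), ← hfe x hx, ev_of_mem φ hx]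

end CfsgLib.Fus
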