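import Cfsg.Agent.Fus.QdStable
import Cfsg.Agent.Fus.KInf
import Cfsg.Prelude.Def_EvenType

/-!
In a group isomorphic to `qd p` the lower K-infinity subgroup of a Sylow subgroup does not control strong fusion.
-/

set_option autoImplicit false
set_option linter.style.haveILetI false

open Cfsg
open scoped commutatorElement

namespace CfsgLib.Dickson

open CfsgLib.Fus

universe u

variable {p : ℕ} [hp : Fact p.Prime]

set_option maxHeartbeats 1000000 in
theorem not_controls_of_qd {Γ : Type u} [Group Γ] [Finite Γ] (e : Γ ≃* ↥(Cfsg.qd p)) :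
    ∃ T : Sylow p Γ, ¬ ControlsStrongFusion p (inducedFunctor kInfLower (T : Subgroup Γ)) := by
  classical
  -- the upper unitriangular elements
  let T₀ : Subgroup Γ :=
    { carrier := {g | ∃ s x y : ZMod p, e g = Qd.mk 1 s 0 1 x y (by ring)}
      one_mem' := ⟨0, 0, 0, by rw [map_one, ← Qd.mk_one]⟩
      mul_mem' := by
        rintro a b ⟨s, x, y, ha⟩ ⟨s', x', y', hb⟩
        refine ⟨s + s', x + x' + s * y', y + y', ?_⟩
        rw [map_mul, ha, hb, Qd.mk_mul]
        exact Qd.mk_congr (by ring) (by ring) (by ring) (by ring) (by ring) (by ring)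
      inv_mem' := by
        rintro a ⟨s, x, y, ha⟩
        refine ⟨-s, -x + s * y, -y, ?_⟩
        rw [map_inv, ha]
        refine inv_eq_of_mul_eq_one_right ?_
        rw [Qd.mk_mul, ← Qd.mk_one]
        exact Qd.mk_congr (by ring) (by ring) (by ring) (by ring) (by ring) (by ring) }
  have hT₀ : IsPGroup p T₀ := by
    rintro ⟨g, s, x, y, hg⟩
    refine ⟨2, Subtype.ext (e.injective ?_)⟩
    rw [SubmonoidClass.coe_pow, map_pow, OneMemClass.coe_one, map_one, show p ^ 2 = p * p by ring, pow_mul]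
    refine Qd.trans_pow_p (show Qd.blockHom (e g ^ p) = 1 from ?_)
    have h : ∀ n : ℕ, Qd.blockHom (e g ^ n) = !![1, (n : ZMod p) * s; 0, 1] := by
      intro n
      induction n with
      | zero => ext i j; fin_cases i <;> fin_cases j <;> simp
      | succ n ih =>
        rw [pow_succ, map_mul, ih, hg]
        ext i j
        fin_cases i <;> fin_cases j <;> simp [Qd.blockHom, Qd.mk, Matrix.mul_apply, Fin.sum_univ_two] <;> ring
    rw [h]
    ext i j
    fin_cases i <;> fin_cases j <;> simp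
  obtain ⟨T, hT⟩ := hT₀.exists_le_sylow
  -- it is a Sylow subgroup
  have hnorm : ∀ g : Γ, g ∈ Subgroup.normalizer (T₀ : Set Γ) → ∀ a b c d x y, ∀ h : a * d - b * c = 1,
      e g = Qd.mk a b c d x y h → c = 0 := by
    intro g hg a b c d x y h hge
    obtain ⟨s, x', y', hs⟩ := (Subgroup.mem_normalizer_iff.1 hg (e.symm (Qd.up 1))).1
      ⟨1, 0, 0, by rw [MulEquiv.apply_symm_apply]; rfl⟩
    rw [map_mul, map_mul, map_inv, MulEquiv.apply_symm_apply, hge, mul_inv_eq_iff_eq_mul] at hs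
    simp only [Qd.up, Qd.mk_mul] at hs
    have h' := congrArg (fun M : ↥(Cfsg.qd p) => M.1.1 1 1) hs
    simp [Qd.mk] at h'
    exact h'
  have hTT : (T : Subgroup Γ) = T₀ := by
    refine le_antisymm ?_ hT
    by_contra hne
    haveI : Finite ↥(T : Subgroup Γ) := inferInstance
    haveI := (T.2).isNilpotent
    have hlt : T₀.subgroupOf T < ⊤ := lt_top_iff_ne_top.2 fun h => hne (Subgroup.subgroupOf_eq_top.1 h)
    obtain ⟨⟨g, hgT⟩, hgN, hgn⟩ := SetLike.exists_of_lt
      (Group.normalizerCondition_of_isNilpotent (G := ↥(T : Subgroup Γ)) _ hlt)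
    have hgN' : g ∈ Subgroup.normalizer (T₀ : Set Γ) := Subgroup.mem_normalizer_iff.2 fun v => by
      constructor
      · intro hv
        exact (Subgroup.mem_normalizer_iff.1 hgN ⟨v, hT hv⟩).1 hv
      · intro hv
        have hvT : v ∈ (T : Subgroup Γ) := by
          have := (T : Subgroup Γ).mul_mem ((T : Subgroup Γ).mul_mem ((T : Subgroup Γ).inv_mem hgT) (hT hv)) hgT
          simpa [mul_assoc] using this
        exact (Subgroup.mem_normalizer_iff.1 hgN ⟨v, hvT⟩).2 hv
    obtain ⟨a, b, c, d, x, y, h, hge⟩ := Qd.eq_mk (e g)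
    obtain rfl := hnorm g hgN' a b c d x y h hge
    obtain ⟨n, hn⟩ := T.2 ⟨g, hgT⟩
    have hn' : e g ^ p ^ n = 1 := by
      rw [← map_pow, show g ^ p ^ n = 1 from congrArg Subtype.val hn, map_one]
    have hpow : ∀ m : ℕ, Qd.blockHom (e g ^ m) 0 0 = a ^ m ∧ Qd.blockHom (e g ^ m) 1 0 = 0 := by
      intro m
      induction m with
      | zero => simp
      | succ m ih =>
        rw [pow_succ', map_mul, hge]
        rw [hge] at ih
        simp [Qd.blockHom, Qd.mk, Matrix.mul_apply, Fin.sum_univ_two] at ih ⊢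
        rw [ih.1, ih.2]
        exact ⟨by ring, Or.inr rfl⟩
    have ha := (hpow (p ^ n)).1
    rw [hn', map_one, ZMod.pow_card_pow] at ha
    simp at ha
    subst ha
    have hd : d = 1 := by linear_combination h
    subst hd
    exact hgn ⟨b, x, y, hge⟩
  refine ⟨T, ?_⟩
  -- the functor is the whole Sylow subgroup
  have hW : kInfLower ↥(T : Subgroup Γ) = ⊤ := by
    let A : Subgroup ↥(T : Subgroup Γ) :=
      { carrier := {g | ∃ x y : ZMod p, e (g : Γ) = Qd.mk 1 0 0 1 x y (by ring)}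
        one_mem' := ⟨0, 0, by rw [OneMemClass.coe_one, map_one, ← Qd.mk_one]⟩
        mul_mem' := by
          rintro a b ⟨x, y, ha⟩ ⟨x', y', hb⟩
          refine ⟨x + x', y + y', ?_⟩
          rw [Subgroup.coe_mul, map_mul, ha, hb, Qd.mk_mul]
          exact Qd.mk_congr (by ring) (by ring) (by ring) (by ring) (by ring) (by ring)
        inv_mem' := by
          rintro a ⟨x, y, ha⟩
          refine ⟨-x, -y, ?_⟩
          rw [Subgroup.coe_inv, map_inv, ha]
          refine inv_eq_of_mul_eq_one_right ?_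
          rw [Qd.mk_mul, ← Qd.mk_one]
          exact Qd.mk_congr (by ring) (by ring) (by ring) (by ring) (by ring) (by ring) }
    let B : Subgroup ↥(T : Subgroup Γ) :=
      { carrier := {g | ∃ s x : ZMod p, e (g : Γ) = Qd.mk 1 s 0 1 x 0 (by ring)}
        one_mem' := ⟨0, 0, by rw [OneMemClass.coe_one, map_one, ← Qd.mk_one]⟩
        mul_mem' := by
          rintro a b ⟨x, y, ha⟩ ⟨x', y', hb⟩
          refine ⟨x + x', y + y', ?_⟩
          rw [Subgroup.coe_mul, map_mul, ha, hb, Qd.mk_mul]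
          exact Qd.mk_congr (by ring) (by ring) (by ring) (by ring) (by ring) (by ring)
        inv_mem' := by
          rintro a ⟨x, y, ha⟩
          refine ⟨-x, -y, ?_⟩
          rw [Subgroup.coe_inv, map_inv, ha]
          refine inv_eq_of_mul_eq_one_right ?_
          rw [Qd.mk_mul, ← Qd.mk_one]
          exact Qd.mk_congr (by ring) (by ring) (by ring) (by ring) (by ring) (by ring) }
    have hAc : IsMulCommutative ↥A := ⟨⟨fun ⟨a, x, y, ha⟩ ⟨b, x', y', hb⟩ => Subtype.ext (Subtype.ext (e.injective (by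
      show e ((a : Γ) * b) = e ((b : Γ) * a)
      rw [map_mul, map_mul, ha, hb, Qd.mk_mul, Qd.mk_mul]
      exact Qd.mk_congr (by ring) (by ring) (by ring) (by ring) (by ring) (by ring))))⟩⟩
    have hBc : IsMulCommutative ↥B := ⟨⟨fun ⟨a, x, y, ha⟩ ⟨b, x', y', hb⟩ => Subtype.ext (Subtype.ext (e.injective (by
      show e ((a : Γ) * b) = e ((b : Γ) * a)
      rw [map_mul, map_mul, ha, hb, Qd.mk_mul, Qd.mk_mul]
      exact Qd.mk_congr (by ring) (by ring) (by ring) (by ring) (by ring) (by ring))))⟩⟩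
    haveI : A.Normal := ⟨by
      rintro a ⟨x, y, ha⟩ g
      obtain ⟨s, x', y', hg⟩ := (hTT.le g.2 : (g : Γ) ∈ T₀)
      refine ⟨x + s * y, y, ?_⟩
      rw [Subgroup.coe_mul, Subgroup.coe_mul, Subgroup.coe_inv, map_mul, map_mul, map_inv, ha, hg,
        mul_inv_eq_iff_eq_mul, Qd.mk_mul, Qd.mk_mul]
      exact Qd.mk_congr (by ring) (by ring) (by ring) (by ring) (by ring) (by ring)⟩
    haveI : B.Normal := ⟨by
      rintro a ⟨t, x, ha⟩ g
      obtain ⟨s, x', y', hg⟩ := (hTT.le g.2 : (g : Γ) ∈ T₀)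
      refine ⟨t, x - t * y', ?_⟩
      rw [Subgroup.coe_mul, Subgroup.coe_mul, Subgroup.coe_inv, map_mul, map_mul, map_inv, ha, hg,
        mul_inv_eq_iff_eq_mul, Qd.mk_mul, Qd.mk_mul]
      exact Qd.mk_congr (by ring) (by ring) (by ring) (by ring) (by ring) (by ring)⟩
    have hle : A ⊔ B ≤ kInfLower ↥(T : Subgroup Γ) :=
      le_trans (sup_le (le_sSup (CfsgLib.KInf.abelian_mem hAc ⊤).1) (le_sSup (CfsgLib.KInf.abelian_mem hBc ⊤).1))
        (le_iSup (fun n => kSeqEven ↥(T : Subgroup Γ) n) 0)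
    refine eq_top_iff.2 fun g _ => hle ?_
    obtain ⟨s, x, y, hg⟩ := (hTT.le g.2 : (g : Γ) ∈ T₀)
    have hmem : e.symm (Qd.mk 1 0 0 1 x y (by ring)) ∈ (T : Subgroup Γ) :=
      hT ⟨0, x, y, MulEquiv.apply_symm_apply _ _⟩
    have hmem' : e.symm (Qd.mk 1 s 0 1 0 0 (by ring)) ∈ (T : Subgroup Γ) :=
      hT ⟨s, 0, 0, MulEquiv.apply_symm_apply _ _⟩
    have he : g = ⟨_, hmem⟩ * ⟨_, hmem'⟩ := Subtype.ext (e.injective (by
      rw [Subgroup.coe_mul, map_mul, MulEquiv.apply_symm_apply, MulEquiv.apply_symm_apply, hg, Qd.mk_mul]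
      exact Qd.mk_congr (by ring) (by ring) (by ring) (by ring) (by ring) (by ring)))
    rw [he]
    exact Subgroup.mul_mem _ (Subgroup.mem_sup_left ⟨x, y, MulEquiv.apply_symm_apply _ _⟩)
      (Subgroup.mem_sup_right ⟨s, 0, MulEquiv.apply_symm_apply _ _⟩)
  have hind : inducedFunctor kInfLower (T : Subgroup Γ) = (T : Subgroup Γ) := by
    show (kInfLower ↥(T : Subgroup Γ)).map _ = _
    rw [hW, ← MonoidHom.range_eq_map, Subgroup.range_subtype]
  rw [hind]
  rintro ⟨T', hTT', hctl⟩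
  have hT' : (T' : Subgroup Γ) = T := T.3 T'.2 hTT'
  set t₁ := e.symm (Qd.mk 1 0 0 1 1 0 (by ring)) with ht₁
  have ht₁T : t₁ ∈ (T : Subgroup Γ) := hT ⟨0, 1, 0, MulEquiv.apply_symm_apply _ _⟩
  set J := e.symm (Qd.mk 0 (-1) 1 0 0 0 (by ring)) with hJ
  have hJt : e (J * t₁ * J⁻¹) = Qd.mk 1 0 0 1 0 1 (by ring) := by
    rw [map_mul, map_mul, map_inv, hJ, ht₁, MulEquiv.apply_symm_apply, MulEquiv.apply_symm_apply,
      mul_inv_eq_iff_eq_mul, Qd.mk_mul, Qd.mk_mul]
    exact Qd.mk_congr (by ring) (by ring) (by ring) (by ring) (by ring) (by ring)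
  obtain ⟨x, hx, hxe⟩ := (hctl {t₁} (by rw [hT']; exact Set.singleton_subset_iff.2 ht₁T)).2 J (by
    rw [hT']
    rintro _ ⟨a, rfl, rfl⟩
    exact hT ⟨0, 0, 1, hJt⟩)
  rw [hTT] at hx
  obtain ⟨a, b, c, d, x', y', h, hge⟩ := Qd.eq_mk (e x)
  obtain rfl := hnorm x hx a b c d x' y' h hge
  have h1 := congrArg e (hxe t₁ rfl)
  rw [hJt, map_mul, map_mul, map_inv, hge, ht₁, MulEquiv.apply_symm_apply, eq_mul_inv_iff_mul_eq, Qd.mk_mul,
    Qd.mk_mul] at h1
  have h2 := congrArg (fun M : ↥(Cfsg.qd p) => M.1.1 1 2) h1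
  simp [Qd.mk] at h2

end CfsgLib.Dickson
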