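import Cfsg.Agent.Fus.QdStable

/-!
A section `qd p`, p odd, seen as an elementary abelian section of a p-subgroup with a quadratic pair acting on it.
-/

set_option autoImplicit false
set_option linter.style.haveILetI false

open Cfsg
open scoped commutatorElement

namespace CfsgLib.Dickson

open CfsgLib.Glau

variable {p : ℕ} [hp : Fact p.Prime]

/-- An elementary abelian section `A/B` of a `p`-subgroup with two quadratic elements not generating a `p`-group on it. -/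
def HasQdData (p : ℕ) (Γ : Type*) [Group Γ] : Prop :=
  ∃ (A B : Subgroup Γ) (x y : Γ), IsPGroup p A ∧ B ≤ A ∧
    x ∈ Subgroup.normalizer (A : Set Γ) ∧ x ∈ Subgroup.normalizer (B : Set Γ) ∧
    y ∈ Subgroup.normalizer (A : Set Γ) ∧ y ∈ Subgroup.normalizer (B : Set Γ) ∧
    (∀ a ∈ A, ∀ b ∈ A, ⁅a, b⁆ ∈ B) ∧ (∀ a ∈ A, a ^ p ∈ B) ∧
    (∀ a ∈ A, ⁅x, ⁅x, a⁆⁆ ∈ B) ∧ (∀ a ∈ A, ⁅y, ⁅y, a⁆⁆ ∈ B) ∧
    ¬ ∀ l ∈ Subgroup.closure ({x, y} : Set Γ), ∃ n : ℕ, ∀ a ∈ A, ⁅l ^ p ^ n, a⁆ ∈ B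

/-- The data is carried along an embedding of `A` compatible with the pair. -/
theorem HasQdData.transfer {Γ Γ' : Type*} [Group Γ] [Finite Γ] [Group Γ'] [Finite Γ'] {A B : Subgroup Γ} {x y : Γ}
    (hA : IsPGroup p A) (hBA : B ≤ A)
    (hxA : x ∈ Subgroup.normalizer (A : Set Γ)) (hxB : x ∈ Subgroup.normalizer (B : Set Γ))
    (hyA : y ∈ Subgroup.normalizer (A : Set Γ)) (hyB : y ∈ Subgroup.normalizer (B : Set Γ))
    (hab : ∀ a ∈ A, ∀ b ∈ A, ⁅a, b⁆ ∈ B) (hexp : ∀ a ∈ A, a ^ p ∈ B)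
    (hqx : ∀ a ∈ A, ⁅x, ⁅x, a⁆⁆ ∈ B) (hqy : ∀ a ∈ A, ⁅y, ⁅y, a⁆⁆ ∈ B)
    (hnp : ¬ ∀ l ∈ Subgroup.closure ({x, y} : Set Γ), ∃ n : ℕ, ∀ a ∈ A, ⁅l ^ p ^ n, a⁆ ∈ B)
    (e : ↥A →* Γ') (he : Function.Injective e) (x' y' : Γ')
    (hx' : ∀ a : ↥A, x' * e a * x'⁻¹ = e ⟨x * a * x⁻¹, (Subgroup.mem_normalizer_iff.1 hxA _).1 a.2⟩)
    (hy' : ∀ a : ↥A, y' * e a * y'⁻¹ = e ⟨y * a * y⁻¹, (Subgroup.mem_normalizer_iff.1 hyA _).1 a.2⟩) :
    HasQdData p Γ' := by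
  set B' := (B.subgroupOf A).map e with hB'
  have hmemB : ∀ a : ↥A, e a ∈ B' ↔ (a : Γ) ∈ B := fun a =>
    ⟨fun ⟨b, hb, hbe⟩ => he hbe ▸ hb, fun h => ⟨a, h, rfl⟩⟩
  let Rel : Γ → Γ' → Prop := fun w w' => ∀ a : ↥A, ∃ h : w * a * w⁻¹ ∈ A, w' * e a * w'⁻¹ = e ⟨w * a * w⁻¹, h⟩
  have hrx : Rel x x' := fun a => ⟨_, hx' a⟩
  have hry : Rel y y' := fun a => ⟨_, hy' a⟩
  have hnorm : ∀ w w', Rel w w' → w' ∈ Subgroup.normalizer (e.range : Set Γ') := fun w w' h =>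
    Subgroup.mem_normalizer_fintype (by
      rintro _ ⟨a, rfl⟩; obtain ⟨_, h2⟩ := h a; exact ⟨_, h2.symm⟩)
  have hnormB : ∀ w w', Rel w w' → w ∈ Subgroup.normalizer (B : Set Γ) → w' ∈ Subgroup.normalizer (B' : Set Γ') :=
    fun w w' h hw => Subgroup.mem_normalizer_fintype (by
      rintro _ ⟨a, ha, rfl⟩; obtain ⟨h1, h2⟩ := h a
      exact ⟨⟨_, h1⟩, (Subgroup.mem_normalizer_iff.1 hw _).1 ha, h2.symm⟩)
  have hmul : ∀ w w' v v', Rel w w' → Rel v v' → Rel (w * v) (w' * v') := fun w w' v v' h k a => by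
    obtain ⟨k1, k2⟩ := k a
    obtain ⟨h1, h2⟩ := h ⟨_, k1⟩
    have e1 : w * v * a * (w * v)⁻¹ = w * (v * a * v⁻¹) * w⁻¹ := by group
    refine ⟨e1.symm ▸ h1, ?_⟩
    calc w' * v' * e a * (w' * v')⁻¹ = w' * (v' * e a * v'⁻¹) * w'⁻¹ := by group
      _ = _ := by rw [k2, h2]; exact congrArg e (Subtype.ext e1.symm)
  have hinv : ∀ w w', Rel w w' → w ∈ Subgroup.normalizer (A : Set Γ) → Rel w⁻¹ w'⁻¹ := fun w w' h hw a => by
    have hm : w⁻¹ * a * w⁻¹⁻¹ ∈ A := (Subgroup.mem_normalizer_iff.1 (inv_mem hw) _).1 a.2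
    obtain ⟨_, h2⟩ := h ⟨_, hm⟩
    refine ⟨hm, ?_⟩
    rw [show e a = w' * e ⟨_, hm⟩ * w'⁻¹ by rw [h2]; exact congrArg e (Subtype.ext (by group))]
    group
  have hquad : ∀ w w', Rel w w' → (∀ a ∈ A, ⁅w, ⁅w, a⁆⁆ ∈ B) → ∀ a ∈ e.range, ⁅w', ⁅w', a⁆⁆ ∈ B' := by
    rintro w w' h hq _ ⟨a, rfl⟩
    obtain ⟨h1, h2⟩ := h a
    have hc : ⁅w, (a : Γ)⁆ ∈ A := by rw [commutatorElement_def]; exact A.mul_mem h1 (A.inv_mem a.2)
    have hc' : ⁅w', e a⁆ = e ⟨_, hc⟩ := by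
      rw [commutatorElement_def, h2, ← map_inv, ← map_mul]; exact congrArg e (Subtype.ext rfl)
    obtain ⟨k1, k2⟩ := h ⟨_, hc⟩
    have hc2 : ⁅w, ⁅w, (a : Γ)⁆⁆ ∈ A := hBA (hq a a.2)
    rw [hc', commutatorElement_def, k2, ← map_inv, ← map_mul]
    refine (hmemB _).2 ?_
    show w * ⁅w, (a : Γ)⁆ * w⁻¹ * ⁅w, (a : Γ)⁆⁻¹ ∈ B
    rw [← commutatorElement_def]; exact hq a a.2
  refine ⟨e.range, B', x', y', hA.of_surjective e.rangeRestrict e.rangeRestrict_surjective, ?_, hnorm _ _ hrx,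
    hnormB _ _ hrx hxB, hnorm _ _ hry, hnormB _ _ hry hyB, ?_, ?_, hquad _ _ hrx hqx, hquad _ _ hry hqy, fun hall => ?_⟩
  · rintro _ ⟨a, -, rfl⟩; exact ⟨a, rfl⟩
  · rintro _ ⟨a, rfl⟩ _ ⟨b, rfl⟩
    rw [← map_commutatorElement]; exact (hmemB _).2 (hab _ a.2 _ b.2)
  · rintro _ ⟨a, rfl⟩
    rw [← map_pow]; exact (hmemB _).2 (hexp _ a.2)
  refine hnp fun l hl => ?_
  have hN : Subgroup.closure ({x, y} : Set Γ) ≤ Subgroup.normalizer (A : Set Γ) := (Subgroup.closure_le _).2 (by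
    rintro w (rfl | rfl) <;> assumption)
  obtain ⟨l', hl', hrel⟩ : ∃ l' ∈ Subgroup.closure ({x', y'} : Set Γ'), Rel l l' := by
    induction hl using Subgroup.closure_induction with
    | mem w hw =>
      rcases hw with rfl | rfl
      exacts [⟨x', Subgroup.subset_closure (Or.inl rfl), hrx⟩, ⟨y', Subgroup.subset_closure (Or.inr rfl), hry⟩]
    | one => exact ⟨1, one_mem _, fun a => ⟨by simp, by simp⟩⟩
    | mul a b _ _ ha hb =>
      obtain ⟨a', ha', hra⟩ := ha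
      obtain ⟨b', hb', hrb⟩ := hb
      exact ⟨a' * b', mul_mem ha' hb', hmul _ _ _ _ hra hrb⟩
    | inv a ha' ha =>
      obtain ⟨a', ha'', hra⟩ := ha
      exact ⟨a'⁻¹, inv_mem ha'', hinv _ _ hra (hN ha')⟩
  have hpow : ∀ n : ℕ, Rel (l ^ n) (l' ^ n) := by
    intro n
    induction n with
    | zero => exact fun a => ⟨by simp, by simp⟩
    | succ n ih => rw [pow_succ, pow_succ]; exact hmul _ _ _ _ ih hrel
  obtain ⟨n, hn⟩ := hall l' hl'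
  refine ⟨n, fun a ha => ?_⟩
  obtain ⟨h1, h2⟩ := hpow (p ^ n) ⟨a, ha⟩
  have h := hn _ ⟨⟨a, ha⟩, rfl⟩
  rw [commutatorElement_def, h2, ← map_inv, ← map_mul, hmemB] at h
  rwa [commutatorElement_def]

/-- A section `qd p` gives the data. -/
theorem HasQdData.of_isSec (hp2 : p ≠ 2) {Γ : Type*} [Group Γ] [Finite Γ] (h : IsSec Γ ↥(Cfsg.qd p)) :
    HasQdData p Γ := by
  obtain ⟨K, f, hf⟩ := h
  haveI hTn : (CfsgLib.Fus.Qd.trans (p := p)).Normal := CfsgLib.Fus.Qd.trans_normal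
  set M := (CfsgLib.Fus.Qd.trans (p := p)).comap f with hM
  haveI : M.Normal := hTn.comap f
  obtain ⟨R⟩ := (inferInstance : Nonempty (Sylow p ↥M))
  set A₀ := (R : Subgroup ↥M).map M.subtype with hA₀
  have hfA : A₀.map f = CfsgLib.Fus.Qd.trans := by
    refine le_antisymm (by rintro _ ⟨_, ⟨m, -, rfl⟩, rfl⟩; exact m.2) ?_
    let f' : ↥M →* ↥(CfsgLib.Fus.Qd.trans (p := p)) := (f.comp M.subtype).codRestrict _ fun m => m.2
    have hf' : Function.Surjective f' := fun t => by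
      obtain ⟨k, hk⟩ := hf t
      exact ⟨⟨k, show f k ∈ CfsgLib.Fus.Qd.trans by rw [hk]; exact t.2⟩, Subtype.ext hk⟩
    have hp' : IsPGroup p ↥(CfsgLib.Fus.Qd.trans (p := p)) := IsPGroup.of_card (n := 2) CfsgLib.Fus.Qd.card_trans
    have htop : (R.mapSurjective hf' : Subgroup ↥(CfsgLib.Fus.Qd.trans (p := p))) = ⊤ := by
      refine ((R.mapSurjective hf').is_maximal' (IsPGroup.to_subgroup hp' ⊤) le_top).symm
    intro t ht
    obtain ⟨m, hm, hme⟩ := htop.ge (Subgroup.mem_top ⟨t, ht⟩)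
    exact ⟨m, ⟨m, hm, rfl⟩, congrArg Subtype.val hme⟩
  set N₀ := Subgroup.normalizer (A₀ : Set ↥K) with hN₀
  have hN : N₀.map f = ⊤ := by
    refine eq_top_iff.2 ?_
    calc (⊤ : Subgroup ↥(Cfsg.qd p)) = (N₀ ⊔ M).map f := by
          rw [Sylow.normalizer_sup_eq_top R, Subgroup.map_top_of_surjective f hf]
      _ ≤ _ := by
          rw [Subgroup.map_sup]
          refine sup_le le_rfl ((Subgroup.map_comap_le _ _).trans ?_)
          rw [← hfA]; exact Subgroup.map_mono Subgroup.le_normalizer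
  obtain ⟨x, hx, hxf⟩ := hN.ge (Subgroup.mem_top (CfsgLib.Fus.Qd.up (1 : ZMod p)))
  obtain ⟨y, hy, hyf⟩ := hN.ge (Subgroup.mem_top (CfsgLib.Fus.Qd.low (-1 : ZMod p)))
  set B₀ := A₀ ⊓ f.ker with hB₀
  have hnB : ∀ w ∈ N₀, w ∈ Subgroup.normalizer (B₀ : Set ↥K) := fun w hw => Subgroup.mem_normalizer_fintype
    fun a ha => ⟨(Subgroup.mem_normalizer_iff.1 hw a).1 ha.1, (inferInstance : f.ker.Normal).conj_mem a ha.2 w⟩
  have hmemA : ∀ w ∈ N₀, ∀ a ∈ A₀, ⁅w, a⁆ ∈ A₀ := fun w hw a ha => by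
    rw [commutatorElement_def]; exact A₀.mul_mem ((Subgroup.mem_normalizer_iff.1 hw a).1 ha) (A₀.inv_mem ha)
  have hAab : ∀ a ∈ A₀, ∀ b ∈ A₀, ⁅a, b⁆ ∈ B₀ := fun a ha b hb =>
    ⟨hmemA a (Subgroup.le_normalizer ha) b hb, by
      show f _ = 1
      rw [map_commutatorElement]
      exact commutatorElement_eq_one_iff_commute.2
        (CfsgLib.Fus.Qd.trans_comm (hfA.le ⟨a, ha, rfl⟩) (hfA.le ⟨b, hb, rfl⟩))⟩
  have hAexp : ∀ a ∈ A₀, a ^ p ∈ B₀ := fun a ha =>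
    ⟨A₀.pow_mem ha _, by show f _ = 1; rw [map_pow]; exact CfsgLib.Fus.Qd.trans_pow_p (hfA.le ⟨a, ha, rfl⟩)⟩
  -- quadratic action of the transvections
  have hqu : ∀ t ∈ CfsgLib.Fus.Qd.trans (p := p), ⁅CfsgLib.Fus.Qd.up (1 : ZMod p), ⁅CfsgLib.Fus.Qd.up (1 : ZMod p), t⁆⁆ = 1 ∧
      ⁅CfsgLib.Fus.Qd.low (-1 : ZMod p), ⁅CfsgLib.Fus.Qd.low (-1 : ZMod p), t⁆⁆ = 1 := by
    intro t ht
    obtain ⟨s, r, rfl⟩ := CfsgLib.Fus.Qd.mem_trans_iff.1 ht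
    constructor
    · have h1 : ⁅CfsgLib.Fus.Qd.up (1 : ZMod p), CfsgLib.Fus.Qd.mk 1 0 0 1 s r (by ring)⁆ =
          CfsgLib.Fus.Qd.mk 1 0 0 1 r 0 (by ring) := by
        rw [commutatorElement_def, mul_inv_eq_iff_eq_mul, mul_inv_eq_iff_eq_mul]
        simp only [CfsgLib.Fus.Qd.up, CfsgLib.Fus.Qd.mk_mul]
        exact CfsgLib.Fus.Qd.mk_congr (by ring) (by ring) (by ring) (by ring) (by ring) (by ring)
      rw [h1, commutatorElement_eq_one_iff_commute]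
      show _ = _
      simp only [CfsgLib.Fus.Qd.up, CfsgLib.Fus.Qd.mk_mul]
      exact CfsgLib.Fus.Qd.mk_congr (by ring) (by ring) (by ring) (by ring) (by ring) (by ring)
    · have h1 : ⁅CfsgLib.Fus.Qd.low (-1 : ZMod p), CfsgLib.Fus.Qd.mk 1 0 0 1 s r (by ring)⁆ =
          CfsgLib.Fus.Qd.mk 1 0 0 1 0 (-s) (by ring) := by
        rw [commutatorElement_def, mul_inv_eq_iff_eq_mul, mul_inv_eq_iff_eq_mul]
        simp only [CfsgLib.Fus.Qd.low, CfsgLib.Fus.Qd.mk_mul]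
        exact CfsgLib.Fus.Qd.mk_congr (by ring) (by ring) (by ring) (by ring) (by ring) (by ring)
      rw [h1, commutatorElement_eq_one_iff_commute]
      show _ = _
      simp only [CfsgLib.Fus.Qd.low, CfsgLib.Fus.Qd.mk_mul]
      exact CfsgLib.Fus.Qd.mk_congr (by ring) (by ring) (by ring) (by ring) (by ring) (by ring)
  have hq : ∀ w ∈ N₀, (∀ t ∈ CfsgLib.Fus.Qd.trans (p := p), ⁅f w, ⁅f w, t⁆⁆ = 1) →
      ∀ a ∈ A₀, ⁅w, ⁅w, a⁆⁆ ∈ B₀ := fun w hw h a ha =>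
    ⟨hmemA w hw _ (hmemA w hw a ha), by
      show f _ = 1
      rw [map_commutatorElement, map_commutatorElement]; exact h _ (hfA.le ⟨a, ha, rfl⟩)⟩
  refine HasQdData.transfer ((R.isPGroup').map M.subtype) inf_le_left hx (hnB x hx) hy (hnB y hy) hAab hAexp
    (hq x hx (fun t ht => hxf ▸ (hqu t ht).1)) (hq y hy (fun t ht => hyf ▸ (hqu t ht).2)) (fun hall => ?_)
    (K.subtype.comp A₀.subtype) (K.subtype_injective.comp A₀.subtype_injective) x y (fun a => rfl) (fun a => rfl)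
  set L := Subgroup.closure ({x, y} : Set ↥K) with hL
  have hxL : x ∈ L := Subgroup.subset_closure (Or.inl rfl)
  have hyL : y ∈ L := Subgroup.subset_closure (Or.inr rfl)
  obtain ⟨n, hn⟩ := hall (x * y * x * (x * y * x)) (mul_mem (mul_mem (mul_mem hxL hyL) hxL) (mul_mem (mul_mem hxL hyL) hxL))
  have hz : f ((x * y * x * (x * y * x)) ^ p ^ n) = CfsgLib.Fus.Qd.z := by
    rw [map_pow, map_mul, map_mul, map_mul, hxf, hyf, ← CfsgLib.Fus.Qd.z_eq]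
    obtain ⟨i, hi⟩ := (hp.out.odd_of_ne_two hp2).pow (n := n)
    rw [hi, pow_succ, pow_mul, pow_two, CfsgLib.Fus.Qd.z_mul_z, one_pow, one_mul]
  set t : ↥(Cfsg.qd p) := CfsgLib.Fus.Qd.mk 1 0 0 1 1 0 (by ring) with ht
  have htm : t ∈ CfsgLib.Fus.Qd.trans := CfsgLib.Fus.Qd.mem_trans_iff.2 ⟨1, 0, rfl⟩
  obtain ⟨a, ha, hat⟩ := hfA.ge htm
  have h1 : f ⁅(x * y * x * (x * y * x)) ^ p ^ n, a⁆ = 1 := (hn a ha).2
  rw [map_commutatorElement, hz, hat, commutatorElement_eq_one_iff_commute] at h1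
  have h2 := CfsgLib.Fus.Qd.z_trans htm
  rw [h1.eq, mul_assoc t, CfsgLib.Fus.Qd.z_mul_z, mul_one, ht, CfsgLib.Fus.Qd.mk_mul, ← CfsgLib.Fus.Qd.mk_one] at h2
  obtain ⟨h3, -⟩ := CfsgLib.Fus.Qd.trans_inj (x := (1 : ZMod p) * 1 + 0 * 0 + 1) (y := 0) (x' := 0) (y' := 0)
    (Eq.trans (CfsgLib.Fus.Qd.mk_congr (by ring) (by ring) (by ring) (by ring) (by ring) (by ring)) h2)
  refine hp2 ((Nat.prime_dvd_prime_iff_eq hp.out Nat.prime_two).1 ((CharP.cast_eq_zero_iff (ZMod p) p 2).1 ?_))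
  push_cast
  linear_combination h3

/-- The data gives a section `qd p`. -/
theorem HasQdData.isSec (hp2 : p ≠ 2) {Γ : Type*} [Group Γ] [Finite Γ] (h : HasQdData p Γ) :
    IsSec Γ ↥(Cfsg.qd p) := by
  obtain ⟨A, B, x, y, hA, hBA, hxA, hxB, hyA, hyB, hab, hexp, hqx, hqy, hnp⟩ := h
  set N := Subgroup.normalizer (A : Set Γ) ⊓ Subgroup.normalizer (B : Set Γ) with hN
  have hBN : B ≤ N := le_inf (hBA.trans Subgroup.le_normalizer) Subgroup.le_normalizer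
  have hAN : A ≤ N := le_inf Subgroup.le_normalizer fun a ha => Subgroup.mem_normalizer_fintype fun b hb => by
    show a * b * a⁻¹ ∈ B
    rw [show a * b * a⁻¹ = ⁅a, b⁆ * b by rw [commutatorElement_def]; group]
    exact B.mul_mem (hab a ha b (hBA hb)) hb
  haveI : (B.subgroupOf N).Normal := Subgroup.normal_subgroupOf_of_le_normalizer inf_le_right
  let π : ↥N →* ↥N ⧸ B.subgroupOf N := QuotientGroup.mk' _
  have hπ : ∀ n : ↥N, π n = 1 ↔ (n : Γ) ∈ B := fun n => QuotientGroup.eq_one_iff n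
  set U := (A.subgroupOf N).map π with hU
  have hnorm : ∀ (w : Γ) (hw : w ∈ N), π ⟨w, hw⟩ ∈ Subgroup.normalizer (U : Set (↥N ⧸ B.subgroupOf N)) :=
    fun w hw => Subgroup.mem_normalizer_fintype (by
      rintro _ ⟨u, hu, rfl⟩
      refine ⟨⟨w, hw⟩ * u * ⟨w, hw⟩⁻¹, (Subgroup.mem_normalizer_iff.1 hw.1 _).1 hu, ?_⟩
      rw [map_mul, map_mul, map_inv])
  refine isSec_trans (isSec_quot' N (B.subgroupOf N)) (isSec_qd_of_pair hp2 U (π ⟨x, hxA, hxB⟩) (π ⟨y, hyA, hyB⟩)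
    (hnorm x ⟨hxA, hxB⟩) (hnorm y ⟨hyA, hyB⟩) ?_ ?_ ?_ ?_ fun hall => hnp fun l hl => ?_)
  · rintro _ ⟨a, ha, rfl⟩ _ ⟨b, hb, rfl⟩
    exact (commutatorElement_eq_one_iff_commute.1 ((map_commutatorElement π a b).symm.trans
      ((hπ _).2 (hab _ ha _ hb)))).eq
  · rintro _ ⟨a, ha, rfl⟩
    rw [← map_pow, hπ]; exact hexp _ ha
  · rintro _ ⟨a, ha, rfl⟩
    rw [← map_commutatorElement, ← map_commutatorElement, hπ]; exact hqx _ ha
  · rintro _ ⟨a, ha, rfl⟩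
    rw [← map_commutatorElement, ← map_commutatorElement, hπ]; exact hqy _ ha
  · have hlN : l ∈ N := (Subgroup.closure_le (K := N)).2 (by
      rintro w (rfl | rfl)
      exacts [⟨hxA, hxB⟩, ⟨hyA, hyB⟩]) hl
    have hmem : π ⟨l, hlN⟩ ∈ Subgroup.closure ({π ⟨x, hxA, hxB⟩, π ⟨y, hyA, hyB⟩} : Set (↥N ⧸ B.subgroupOf N)) := by
      have hle : Subgroup.closure ({⟨x, hxA, hxB⟩, ⟨y, hyA, hyB⟩} : Set ↥N) ≤
          (Subgroup.closure ({π ⟨x, hxA, hxB⟩, π ⟨y, hyA, hyB⟩} : Set (↥N ⧸ B.subgroupOf N))).comap π :=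
        (Subgroup.closure_le _).2 (by
          rintro w (rfl | rfl)
          exacts [Subgroup.subset_closure (Or.inl rfl), Subgroup.subset_closure (Or.inr rfl)])
      refine hle ?_
      have hl' : l ∈ (Subgroup.closure ({⟨x, hxA, hxB⟩, ⟨y, hyA, hyB⟩} : Set ↥N)).map N.subtype := by
        rw [MonoidHom.map_closure, Set.image_pair]; exact hl
      obtain ⟨l', hl', he⟩ := hl'
      rwa [show (⟨l, hlN⟩ : ↥N) = l' from Subtype.ext he.symm]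
    obtain ⟨n, hn⟩ := hall _ hmem
    refine ⟨n, fun a ha => ?_⟩
    have h1 := hn _ ⟨⟨a, hAN ha⟩, ha, rfl⟩
    rw [← map_pow, ← map_commutatorElement, hπ] at h1
    exact h1

theorem involves_qd_iff_data (hp2 : p ≠ 2) {Γ : Type*} [Group Γ] [Finite Γ] :
    Cfsg.Involves ↥(Cfsg.qd p) Γ ↔ HasQdData p Γ :=
  ⟨fun h => HasQdData.of_isSec hp2 (isSec_of_involves h), fun h => involves_of_isSec (h.isSec hp2)⟩

end CfsgLib.Dickson
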