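import Cfsg.Agent.Fus.Dickson
import Mathlib.RingTheory.LittleWedderburn
import Mathlib.Algebra.Ring.Subring.Basic

/-!
A quadratic pair acting irreducibly on a module of characteristic p contains a natural two-dimensional SL₂(p)-module.
-/

set_option autoImplicit false
set_option linter.style.haveILetI false

namespace CfsgLib.Dickson

open Matrix

variable (p : ℕ) [hp : Fact p.Prime]

set_option maxHeartbeats 1000000 in
/-- Two nontrivial quadratic elements acting irreducibly give a natural `SL₂(p)`-submodule. -/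
theorem natural_module (hp2 : p ≠ 2) {W : Type*} [AddCommGroup W] [Finite W] (hpW : ∀ w : W, p • w = 0)
    {L : Type*} [Group L] (act : L →* AddMonoid.End W) (x y : L)
    (hx : ∀ w : W, act x (act x w - w) = act x w - w) (hy : ∀ w : W, act y (act y w - w) = act y w - w)
    (hx1 : ∃ w : W, act x w ≠ w) (hy1 : ∃ w : W, act y w ≠ w)
    (hirr : ∀ A : AddSubgroup W, (∀ a ∈ A, act x a ∈ A) → (∀ a ∈ A, act y a ∈ A) → A = ⊥ ∨ A = ⊤) :
    ∃ ι : (Fin 2 → ZMod p) →+ W, Function.Injective ι ∧
      ∀ M : SpecialLinearGroup (Fin 2) (ZMod p), ∃ l : L, ∀ t, act l (ι t) = ι (M.1 *ᵥ t) := by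
  classical
  set u : AddMonoid.End W := act x - 1 with hu
  set v : AddMonoid.End W := act y - 1 with hv
  have hu' : ∀ w, u w = act x w - w := fun _ => rfl
  have hv' : ∀ w, v w = act y w - w := fun _ => rfl
  have huu : ∀ w, u (u w) = 0 := fun w => by rw [hu' (u w), hu' w, hx w, sub_self]
  have hvv : ∀ w, v (v w) = 0 := fun w => by rw [hv' (v w), hv' w, hy w, sub_self]
  have hcom : ∀ c : W, u c = 0 → v c = 0 → c = 0 := by
    intro c huc hvc
    rcases hirr (AddSubgroup.zmultiples c)
      (fun a ha => by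
        obtain ⟨n, rfl⟩ := AddSubgroup.mem_zmultiples_iff.1 ha
        rw [map_zsmul, sub_eq_zero.1 ((hu' c).symm.trans huc)]
        exact AddSubgroup.zsmul_mem_zmultiples c n)
      (fun a ha => by
        obtain ⟨n, rfl⟩ := AddSubgroup.mem_zmultiples_iff.1 ha
        rw [map_zsmul, sub_eq_zero.1 ((hv' c).symm.trans hvc)]
        exact AddSubgroup.zsmul_mem_zmultiples c n) with h | h
    · exact AddSubgroup.zmultiples_eq_bot.1 h
    · exfalso
      obtain ⟨w, hw⟩ := hx1
      obtain ⟨n, rfl⟩ := AddSubgroup.mem_zmultiples_iff.1 (h.ge (AddSubgroup.mem_top w))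
      exact hw (by rw [map_zsmul, sub_eq_zero.1 ((hu' c).symm.trans huc)])
  -- the commutant
  set S : Subring (AddMonoid.End W) := Subring.centralizer {u, v} with hS
  have hSu : ∀ (f : ↥S) (w : W), u (f.1 w) = f.1 (u w) := fun f w =>
    DFunLike.congr_fun (Subring.mem_centralizer_iff.1 f.2 u (Or.inl rfl)) w
  have hSv : ∀ (f : ↥S) (w : W), v (f.1 w) = f.1 (v w) := fun f w =>
    DFunLike.congr_fun (Subring.mem_centralizer_iff.1 f.2 v (Or.inr rfl)) w
  have hxf : ∀ (f : ↥S) (w : W), act x (f.1 w) = f.1 (act x w) := fun f w => by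
    have h := hSu f w
    rw [hu', hu', map_sub] at h
    exact sub_left_inj.1 h
  have hyf : ∀ (f : ↥S) (w : W), act y (f.1 w) = f.1 (act y w) := fun f w => by
    have h := hSv f w
    rw [hv', hv', map_sub] at h
    exact sub_left_inj.1 h
  have hinj : ∀ f : ↥S, f ≠ 0 → ∀ w, f.1 w = 0 → w = 0 := by
    intro f hf w hw
    rcases hirr f.1.ker
      (fun a ha => by
        show f.1 (act x a) = 0
        rw [← hxf, show f.1 a = 0 from ha, map_zero])
      (fun a ha => by
        show f.1 (act y a) = 0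
        rw [← hyf, show f.1 a = 0 from ha, map_zero]) with h | h
    · exact AddSubgroup.mem_bot.1 (h ▸ (AddMonoidHom.mem_ker.2 hw : w ∈ f.1.ker))
    · exact absurd (Subtype.ext (AddMonoidHom.ker_eq_top_iff.1 h)) hf
  haveI : Finite (AddMonoid.End W) := Finite.of_injective (fun f => (f : W → W)) DFunLike.coe_injective
  haveI : Nontrivial W := by
    obtain ⟨w, hw⟩ := hx1
    exact ⟨⟨_, _, hw⟩⟩
  haveI : Nontrivial ↥S := ⟨⟨0, 1, fun h => by
    obtain ⟨w, hw⟩ := exists_ne (0 : W)
    exact hw (DFunLike.congr_fun (congrArg Subtype.val h) w).symm⟩⟩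
  haveI : NoZeroDivisors ↥S := ⟨fun {f g} h => by
    by_contra hc
    push_neg at hc
    obtain ⟨hf, hg⟩ := hc
    refine hg (Subtype.ext (AddMonoidHom.ext fun w => ?_))
    exact hinj f hf _ (DFunLike.congr_fun (congrArg Subtype.val h) w)⟩
  haveI : IsDomain ↥S := NoZeroDivisors.to_isDomain _
  letI : Field ↥S := (Finite.isDomain_to_isField ↥S).toField
  letI : Fintype ↥S := Fintype.ofFinite _
  haveI : CharP ↥S p := (CharP.charP_iff_prime_eq_zero hp.out).2 (Subtype.ext (AddMonoidHom.ext fun w => by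
    rw [show (((p : ↥S) : ↥S).1 : AddMonoid.End W) = (p : AddMonoid.End W) from map_natCast S.subtype p]
    exact (hpW w).trans rfl))
  have h2 : (2 : ↥S) ≠ 0 := fun h => hp2 ((Nat.prime_dvd_prime_iff_eq hp.out Nat.prime_two).1
    ((CharP.cast_eq_zero_iff ↥S p 2).1 (by exact_mod_cast h)))
  -- the element `uv + vu`
  have hwmem : u * v + v * u ∈ S := by
    refine Subring.mem_centralizer_iff.2 fun g hg => ?_
    have e1 : u * u = 0 := AddMonoidHom.ext huu
    have e2 : v * v = 0 := AddMonoidHom.ext hvv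
    rcases hg with rfl | rfl
    · rw [mul_add, add_mul, ← mul_assoc u u v, e1, zero_mul, mul_assoc v u u, e1, mul_zero, mul_assoc u v u]
      abel
    · rw [mul_add, add_mul, ← mul_assoc v v u, e2, zero_mul, mul_assoc u v v, e2, mul_zero, mul_assoc v u v]
      abel
  set ω : ↥S := ⟨u * v + v * u, hwmem⟩ with hω
  -- the basis
  obtain ⟨w₀, hw₀⟩ := hx1
  set a : W := u w₀ with ha
  set b : W := v a with hb
  have ha0 : a ≠ 0 := fun h => hw₀ (sub_eq_zero.1 ((hu' w₀).symm.trans h))
  have hua : u a = 0 := huu w₀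
  have hb0 : b ≠ 0 := fun h => ha0 (hcom a hua h)
  have hvb : v b = 0 := hvv a
  have hub : u b = ω.1 a := by
    show u b = u (v a) + v (u a)
    rw [hua, map_zero, add_zero]
  have hω0 : ω ≠ 0 := fun h => hb0 (hcom b (by rw [hub, h]; rfl) hvb)
  have hadd : ∀ (f g : ↥S) (w : W), (f + g).1 w = f.1 w + g.1 w := fun _ _ _ => rfl
  have hmul : ∀ (f g : ↥S) (w : W), (f * g).1 w = f.1 (g.1 w) := fun _ _ _ => rfl
  let θ : (Fin 2 → ↥S) →+ W :=
    { toFun := fun c => (c 0).1 a + (c 1).1 b
      map_zero' := by simp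
      map_add' := fun c d => by
        simp only [Pi.add_apply, hadd]
        abel }
  have hθ : ∀ c, θ c = (c 0).1 a + (c 1).1 b := fun _ => rfl
  have hθinj : Function.Injective θ := by
    refine (injective_iff_map_eq_zero θ).2 fun c hc => ?_
    rw [hθ] at hc
    have h0 : c 0 = 0 := by
      by_contra h
      have h' := congrArg v hc
      rw [map_add, hSv, hSv, hvb, map_zero, map_zero, add_zero, ← hb] at h'
      exact hb0 (hinj _ h _ h')
    rw [h0] at hc
    have h1 : c 1 = 0 := by
      by_contra h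
      exact hb0 (hinj _ h _ (by simpa using hc))
    funext i
    fin_cases i
    · exact h0
    · exact h1
  -- the group of matrices induced by `L`
  let H : Subgroup (SpecialLinearGroup (Fin 2) ↥S) :=
    { carrier := {g | ∃ l : L, ∀ c, act l (θ c) = θ (g.1 *ᵥ c)}
      one_mem' := ⟨1, fun c => by simp⟩
      mul_mem' := fun {g g'} ⟨l, hl⟩ ⟨l', hl'⟩ => ⟨l * l', fun c => by
        rw [map_mul, show (act l * act l') (θ c) = act l (act l' (θ c)) from rfl, hl', hl, mulVec_mulVec]
        rfl⟩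
      inv_mem' := fun {g} ⟨l, hl⟩ => ⟨l⁻¹, fun c => by
        have h := hl (g⁻¹.1 *ᵥ c)
        rw [mulVec_mulVec, show g.1 * (g⁻¹).1 = 1 from congrArg Subtype.val (mul_inv_cancel g), one_mulVec] at h
        rw [← h, show act l⁻¹ (act l (θ (g⁻¹.1 *ᵥ c))) = (act l⁻¹ * act l) (θ (g⁻¹.1 *ᵥ c)) from rfl, ← map_mul,
          inv_mul_cancel, map_one]
        rfl⟩ }
  have hax : act x a = a := sub_eq_zero.1 ((hu' a).symm.trans hua)
  have hbx : act x b = b + ω.1 a := by rw [← hub, hu']; abel
  have hay : act y a = a + b := by rw [hb, hv']; abel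
  have hby : act y b = b := sub_eq_zero.1 ((hv' b).symm.trans hvb)
  have hupH : up ω ∈ H := ⟨x, fun c => by
    rw [hθ, hθ, map_add, hxf, hxf, hax, hbx, map_add]
    simp only [mulVec, dotProduct, Fin.sum_univ_two, up, mk00, mk01, mk10, mk11, one_mul, zero_mul, zero_add,
      hadd]
    rw [mul_comm ω (c 1), hmul]
    abel⟩
  have hloH : lo (1 : ↥S) ∈ H := ⟨y, fun c => by
    rw [hθ, hθ, map_add, hyf, hyf, hay, hby, map_add]
    simp only [mulVec, dotProduct, Fin.sum_univ_two, lo, mk00, mk01, mk10, mk11, one_mul, zero_mul, add_zero,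
      hadd]
    abel⟩
  have hnc : ¬ Commute (up ω) (lo (1 : ↥S)) := fun h => hω0 (by
    have h' := congrArg (fun g : SpecialLinearGroup (Fin 2) ↥S => g.1 0 0) h.eq
    simp only [mul00, up, lo, mk00, mk01, mk10, mk11, mul_one, zero_mul, add_zero, mul_zero] at h'
    simpa using h')
  have hupp : up ω ^ p = 1 := by
    rw [up_pow, CharP.cast_eq_zero, zero_mul]; apply ext4 <;> simp [up]
  have hlop : lo (1 : ↥S) ^ p = 1 := by
    rw [lo_pow, CharP.cast_eq_zero, zero_mul]; apply ext4 <;> simp [lo]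
  obtain ⟨k, β, hβ, hU, hL⟩ := exists_transvections p h2 H hupH hloH hupp hlop hnc
  let σ : ZMod p →+* ↥S := ZMod.castHom (dvd_refl p) ↥S
  let j : (Fin 2 → ZMod p) →+ (Fin 2 → ↥S) :=
    { toFun := fun t => k.1 *ᵥ ![β * σ (t 0), σ (t 1)]
      map_zero' := by
        simp only [Pi.zero_apply, map_zero, mul_zero]
        rw [show (![0, 0] : Fin 2 → ↥S) = 0 from funext fun i => by fin_cases i <;> rfl, mulVec_zero]
      map_add' := fun s t => by
        rw [← mulVec_add]
        congr 1
        funext i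
        fin_cases i <;> simp [mul_add] }
  refine ⟨θ.comp j, hθinj.comp fun s t hst => ?_, fun M => ?_⟩
  · have h := congrArg (fun c => (k⁻¹).1 *ᵥ c) hst
    simp only [j, AddMonoidHom.coe_mk, ZeroHom.coe_mk, mulVec_mulVec] at h
    rw [show (k⁻¹).1 * k.1 = 1 from congrArg Subtype.val (inv_mul_cancel k), one_mulVec, one_mulVec] at h
    funext i
    fin_cases i
    · exact σ.injective (mul_left_cancel₀ hβ (by simpa using congrFun h 0))
    · exact σ.injective (by simpa using congrFun h 1)
  · obtain ⟨l, hl⟩ := embed_mem p hβ hU hL M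
    refine ⟨l, fun t => ?_⟩
    show act l (θ (j t)) = θ (j (M.1 *ᵥ t))
    rw [hl]
    congr 1
    simp only [j, AddMonoidHom.coe_mk, ZeroHom.coe_mk, mulVec_mulVec]
    rw [show (k * embed p β hβ M * k⁻¹).1 * k.1 = k.1 * (embed p β hβ M).1 from
      congrArg Subtype.val (show k * embed p β hβ M * k⁻¹ * k = k * embed p β hβ M by group), ← mulVec_mulVec]
    congr 1
    funext i
    fin_cases i <;>
      simp [embed, mulVec, dotProduct, Fin.sum_univ_two, σ] <;> field_simp

end CfsgLib.Dickson
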