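import Cfsg.Agent.Fus.QdData
import Cfsg.Agent.Fus.TransvectionPair
import Cfsg.Agent.S2761

/-!
A section `qd p` seen as a pair of automorphisms of a `p`-group, for all primes: two quadratic automorphisms of an elementary
abelian section not generating a `p`-group for odd `p`, and two automorphisms inducing the symmetric group on a four-group section
for `p = 2`.
-/

set_option autoImplicit false
set_option linter.style.haveILetI false

open Cfsg
open scoped commutatorElement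

namespace CfsgLib.Fus

/-- The two automorphisms give a section `qd p` over `A`. -/
def QdPair (p : ℕ) (A : Type*) [Group A] (α β : MulAut A) : Prop :=
  ∃ B : Subgroup A, (∀ a, α a ∈ B ↔ a ∈ B) ∧ (∀ a, β a ∈ B ↔ a ∈ B) ∧ (∀ a b : A, ⁅a, b⁆ ∈ B) ∧
    (∀ a, a ^ p ∈ B) ∧
    ((p ≠ 2 ∧ (∀ a, α (α a * a⁻¹) * (α a * a⁻¹)⁻¹ ∈ B) ∧ (∀ a, β (β a * a⁻¹) * (β a * a⁻¹)⁻¹ ∈ B) ∧
        ¬ ∀ γ ∈ Subgroup.closure ({α, β} : Set (MulAut A)), ∃ n : ℕ, ∀ a, (γ ^ p ^ n) a * a⁻¹ ∈ B) ∨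
      (p = 2 ∧ ∃ e e' : A, e ∉ B ∧ e' ∉ B ∧ e * e'⁻¹ ∉ B ∧ α e * e'⁻¹ ∈ B ∧ α e' * (e * e')⁻¹ ∈ B ∧
        β e * e⁻¹ ∈ B ∧ β e' * (e * e')⁻¹ ∈ B))

variable {p : ℕ}

/-- The pair is pulled back along a compatible surjection. -/
theorem QdPair.comap {A A' : Type*} [Group A] [Group A'] {f : A →* A'} (hf : Function.Surjective f) {α β : MulAut A}
    {α' β' : MulAut A'} (hα : ∀ a, f (α a) = α' (f a)) (hβ : ∀ a, f (β a) = β' (f a)) (h : QdPair p A' α' β') :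
    QdPair p A α β := by
  obtain ⟨B, h1, h2, h3, h4, h5⟩ := h
  refine ⟨B.comap f, fun a => ?_, fun a => ?_, fun a b => ?_, fun a => ?_, ?_⟩
  · rw [Subgroup.mem_comap, hα, h1]; rfl
  · rw [Subgroup.mem_comap, hβ, h2]; rfl
  · rw [Subgroup.mem_comap, map_commutatorElement]; exact h3 _ _
  · rw [Subgroup.mem_comap, map_pow]; exact h4 _
  rcases h5 with ⟨hp, hq1, hq2, hn⟩ | ⟨hp, e, e', he, he', hee, r1, r2, r3, r4⟩
  · refine Or.inl ⟨hp, fun a => ?_, fun a => ?_, fun hall => hn fun γ' hγ' => ?_⟩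
    · simp only [Subgroup.mem_comap, map_mul, map_inv, hα]
      simpa only [map_mul, map_inv] using hq1 (f a)
    · simp only [Subgroup.mem_comap, map_mul, map_inv, hβ]
      simpa only [map_mul, map_inv] using hq2 (f a)
    obtain ⟨γ, hγ, hγe⟩ : ∃ γ ∈ Subgroup.closure ({α, β} : Set (MulAut A)), ∀ a, f (γ a) = γ' (f a) := by
      induction hγ' using Subgroup.closure_induction with
      | mem w hw =>
        rcases hw with rfl | rfl
        exacts [⟨α, Subgroup.subset_closure (Or.inl rfl), hα⟩, ⟨β, Subgroup.subset_closure (Or.inr rfl), hβ⟩]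
      | one => exact ⟨1, one_mem _, fun a => rfl⟩
      | mul u v _ _ hu hv =>
        obtain ⟨u₀, hu₀, hue⟩ := hu
        obtain ⟨v₀, hv₀, hve⟩ := hv
        exact ⟨u₀ * v₀, mul_mem hu₀ hv₀, fun a => by rw [MulAut.mul_apply, hue, hve, MulAut.mul_apply]⟩
      | inv u _ hu =>
        obtain ⟨u₀, hu₀, hue⟩ := hu
        refine ⟨u₀⁻¹, inv_mem hu₀, fun a => ?_⟩
        have := hue (u₀⁻¹ a)
        rw [MulAut.apply_inv_self] at this
        rw [this, MulAut.inv_apply_self]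
    obtain ⟨n, hn'⟩ := hall γ hγ
    refine ⟨n, fun b => ?_⟩
    obtain ⟨a, rfl⟩ := hf b
    have hk : ∀ k : ℕ, f ((γ ^ k) a) = (γ' ^ k) (f a) := by
      intro k
      induction k with
      | zero => rfl
      | succ k ih => rw [pow_succ', pow_succ', MulAut.mul_apply, MulAut.mul_apply, hγe, ih]
    have h := hn' a
    rwa [Subgroup.mem_comap, map_mul, map_inv, hk] at h
  · obtain ⟨a, rfl⟩ := hf e
    obtain ⟨a', rfl⟩ := hf e'
    refine Or.inr ⟨hp, a, a', he, he', ?_, ?_, ?_, ?_, ?_⟩ <;>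
      simp only [Subgroup.mem_comap, map_mul, map_inv, hα, hβ] <;> assumption

/-- The pair realized inside a group gives a section `qd p`. -/
theorem QdPair.involves [Fact p.Prime] {A : Type*} [Group A] {α β : MulAut A} (hA : IsPGroup p A) (h : QdPair p A α β)
    {Γ : Type*} [Group Γ] [Finite Γ] {e : A →* Γ} (he : Function.Injective e) {x y : Γ}
    (hx : ∀ a, x * e a * x⁻¹ = e (α a)) (hy : ∀ a, y * e a * y⁻¹ = e (β a)) : Involves ↥(Cfsg.qd p) Γ := by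
  obtain ⟨B, h1, h2, h3, h4, h5⟩ := h
  set B' := B.map e with hB'
  have hmemB : ∀ a, e a ∈ B' ↔ a ∈ B := fun a => ⟨fun ⟨b, hb, hbe⟩ => he hbe ▸ hb, fun h => ⟨a, h, rfl⟩⟩
  have hxA : x ∈ Subgroup.normalizer (e.range : Set Γ) :=
    Subgroup.mem_normalizer_fintype (by rintro _ ⟨a, rfl⟩; exact ⟨α a, (hx a).symm⟩)
  have hyA : y ∈ Subgroup.normalizer (e.range : Set Γ) :=
    Subgroup.mem_normalizer_fintype (by rintro _ ⟨a, rfl⟩; exact ⟨β a, (hy a).symm⟩)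
  have hxB : x ∈ Subgroup.normalizer (B' : Set Γ) :=
    Subgroup.mem_normalizer_fintype (by rintro _ ⟨a, ha, rfl⟩; exact ⟨α a, (h1 a).2 ha, (hx a).symm⟩)
  have hyB : y ∈ Subgroup.normalizer (B' : Set Γ) :=
    Subgroup.mem_normalizer_fintype (by rintro _ ⟨a, ha, rfl⟩; exact ⟨β a, (h2 a).2 ha, (hy a).symm⟩)
  have hcx : ∀ a, ⁅x, e a⁆ = e (α a * a⁻¹) := fun a => by rw [commutatorElement_def, hx, map_mul, map_inv]
  have hcy : ∀ a, ⁅y, e a⁆ = e (β a * a⁻¹) := fun a => by rw [commutatorElement_def, hy, map_mul, map_inv]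
  rcases h5 with ⟨hp, hq1, hq2, hn⟩ | ⟨hp, u, u', hu, hu', huu, r1, r2, r3, r4⟩
  · refine (CfsgLib.Dickson.involves_qd_iff_data hp).2 ⟨e.range, B', x, y,
      hA.of_surjective e.rangeRestrict e.rangeRestrict_surjective, Subgroup.map_le_range e _, hxA, hxB, hyA, hyB,
      ?_, ?_, ?_, ?_, fun hall => hn fun γ hγ => ?_⟩
    · rintro _ ⟨a, rfl⟩ _ ⟨b, rfl⟩
      rw [← map_commutatorElement, hmemB]; exact h3 a b
    · rintro _ ⟨a, rfl⟩
      rw [← map_pow, hmemB]; exact h4 a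
    · rintro _ ⟨a, rfl⟩
      rw [hcx, hcx, hmemB]; exact hq1 a
    · rintro _ ⟨a, rfl⟩
      rw [hcy, hcy, hmemB]; exact hq2 a
    obtain ⟨l, hl, hle⟩ : ∃ l ∈ Subgroup.closure ({x, y} : Set Γ), ∀ a, l * e a * l⁻¹ = e (γ a) := by
      induction hγ using Subgroup.closure_induction with
      | mem w hw =>
        rcases hw with rfl | rfl
        exacts [⟨x, Subgroup.subset_closure (Or.inl rfl), hx⟩, ⟨y, Subgroup.subset_closure (Or.inr rfl), hy⟩]
      | one => exact ⟨1, one_mem _, fun a => by simp⟩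
      | mul g k _ _ hg hk =>
        obtain ⟨g₀, hg₀, hge⟩ := hg
        obtain ⟨k₀, hk₀, hke⟩ := hk
        refine ⟨g₀ * k₀, mul_mem hg₀ hk₀, fun a => ?_⟩
        rw [MulAut.mul_apply, ← hge, ← hke]; group
      | inv g _ hg =>
        obtain ⟨g₀, hg₀, hge⟩ := hg
        refine ⟨g₀⁻¹, inv_mem hg₀, fun a => ?_⟩
        have := hge (g⁻¹ a)
        rw [MulAut.apply_inv_self] at this
        rw [← this]; group
    obtain ⟨n, hn'⟩ := hall l hl
    refine ⟨n, fun a => ?_⟩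
    have hk : ∀ k : ℕ, ∀ a, l ^ k * e a * (l ^ k)⁻¹ = e ((γ ^ k) a) := by
      intro k
      induction k with
      | zero => intro a; simp
      | succ k ih =>
        intro a
        rw [pow_succ γ, MulAut.mul_apply, ← ih, ← hle, pow_succ]
        group
    have h := hn' _ ⟨a, rfl⟩
    rwa [commutatorElement_def, hk, ← map_inv, ← map_mul, hmemB] at h
  · subst hp
    set N := Subgroup.normalizer (e.range : Set Γ) ⊓ Subgroup.normalizer (B' : Set Γ) with hN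
    have hAN : e.range ≤ N := le_inf Subgroup.le_normalizer (by
      rintro _ ⟨a, rfl⟩
      refine Subgroup.mem_normalizer_fintype ?_
      rintro _ ⟨b, hb, rfl⟩
      show e a * e b * (e a)⁻¹ ∈ B'
      rw [← map_inv, ← map_mul, ← map_mul, hmemB, show a * b * a⁻¹ = ⁅a, b⁆ * b by rw [commutatorElement_def]; group]
      exact B.mul_mem (h3 a b) hb)
    haveI : (B'.subgroupOf N).Normal := Subgroup.normal_subgroupOf_of_le_normalizer inf_le_right
    let π : ↥N →* ↥N ⧸ B'.subgroupOf N := QuotientGroup.mk' _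
    let j : A →* ↥N ⧸ B'.subgroupOf N := π.comp (e.codRestrict N fun a => hAN ⟨a, rfl⟩)
    have hj : ∀ a, j a = 1 ↔ a ∈ B := fun a => by
      show π _ = 1 ↔ _
      rw [QuotientGroup.mk'_apply, QuotientGroup.eq_one_iff]
      exact hmemB a
    have hjeq : ∀ a b, j a = j b ↔ a * b⁻¹ ∈ B := fun a b => by rw [← hj, map_mul, map_inv, mul_inv_eq_one]
    have hjx : ∀ a, π ⟨x, hxA, hxB⟩ * j a * (π ⟨x, hxA, hxB⟩)⁻¹ = j (α a) := fun a => by
      show π _ * π _ * (π _)⁻¹ = π _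
      rw [← map_inv, ← map_mul, ← map_mul]
      exact congrArg π (Subtype.ext (hx a))
    have hjy : ∀ a, π ⟨y, hyA, hyB⟩ * j a * (π ⟨y, hyA, hyB⟩)⁻¹ = j (β a) := fun a => by
      show π _ * π _ * (π _)⁻¹ = π _
      rw [← map_inv, ← map_mul, ← map_mul]
      exact congrArg π (Subtype.ext (hy a))
    have hsq : ∀ a, j a * j a = 1 := fun a => by rw [← map_mul, hj, ← pow_two]; exact h4 a
    have hcm : ∀ a b, j a * j b = j b * j a := fun a b => by
      rw [← map_mul, ← map_mul, hjeq, show a * b * (b * a)⁻¹ = ⁅a, b⁆ by rw [commutatorElement_def]; group]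
      exact h3 a b
    have hs4 : Involves (Equiv.Perm (Fin 4)) (↥N ⧸ B'.subgroupOf N) :=
      involves_s4_of_perm (hsq u) (hsq u') (hcm u u') (fun h => hu ((hj u).1 h)) (fun h => hu' ((hj u').1 h))
        (fun h => huu ((hjeq u u').1 h)) (y := π ⟨x, hxA, hxB⟩) (b := π ⟨y, hyA, hyB⟩)
        ⟨by rw [hjx, hjeq]; exact r1, by rw [hjx, ← map_mul, hjeq]; exact r2⟩
        ⟨by rw [hjy, hjeq]; exact r3, by rw [hjy, ← map_mul, hjeq]; exact r4⟩
    obtain ⟨i⟩ := Cfsg.Agent.S2761.result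
    obtain ⟨K, R, hR, ⟨f⟩⟩ := CfsgLib.Dickson.involves_of_isSec
      (CfsgLib.Dickson.isSec_trans (CfsgLib.Dickson.isSec_quot' N (B'.subgroupOf N))
        (CfsgLib.Dickson.isSec_of_involves hs4))
    exact ⟨K, R, hR, ⟨f.trans i.symm⟩⟩

/-- A section `qd 2` is seen by a pair. -/
theorem exists_pair_two {Γ : Type*} [Group Γ] [Finite Γ] (h : CfsgLib.Glau.IsSec Γ ↥(Cfsg.qd 2)) :
    ∃ (A : Subgroup Γ) (x y : Γ) (α β : MulAut ↥A), IsPGroup 2 A ∧ (∀ a : ↥A, x * a * x⁻¹ = α a) ∧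
      (∀ a : ↥A, y * a * y⁻¹ = β a) ∧ QdPair 2 ↥A α β := by
  obtain ⟨K, f, hf⟩ := h
  haveI hTn : (Qd.trans (p := 2)).Normal := Qd.trans_normal
  set M := (Qd.trans (p := 2)).comap f with hM
  haveI : M.Normal := hTn.comap f
  obtain ⟨R⟩ := (inferInstance : Nonempty (Sylow 2 ↥M))
  set A₀ := (R : Subgroup ↥M).map M.subtype with hA₀
  have hfA : A₀.map f = Qd.trans := by
    refine le_antisymm (by rintro _ ⟨_, ⟨m, -, rfl⟩, rfl⟩; exact m.2) ?_
    let f' : ↥M →* ↥(Qd.trans (p := 2)) := (f.comp M.subtype).codRestrict _ fun m => m.2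
    have hf' : Function.Surjective f' := fun t => by
      obtain ⟨k, hk⟩ := hf t
      exact ⟨⟨k, show f k ∈ Qd.trans by rw [hk]; exact t.2⟩, Subtype.ext hk⟩
    have hp' : IsPGroup 2 ↥(Qd.trans (p := 2)) := IsPGroup.of_card (n := 2) Qd.card_trans
    have htop : (R.mapSurjective hf' : Subgroup ↥(Qd.trans (p := 2))) = ⊤ :=
      ((R.mapSurjective hf').is_maximal' (IsPGroup.to_subgroup hp' ⊤) le_top).symm
    intro t ht
    obtain ⟨m, hm, hme⟩ := htop.ge (Subgroup.mem_top ⟨t, ht⟩)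
    exact ⟨m, ⟨m, hm, rfl⟩, congrArg Subtype.val hme⟩
  set N₀ := Subgroup.normalizer (A₀ : Set ↥K) with hN₀
  have hN : N₀.map f = ⊤ := by
    refine eq_top_iff.2 ?_
    calc (⊤ : Subgroup ↥(Cfsg.qd 2)) = (N₀ ⊔ M).map f := by
          rw [Sylow.normalizer_sup_eq_top R, Subgroup.map_top_of_surjective f hf]
      _ ≤ _ := by
          rw [Subgroup.map_sup]
          refine sup_le le_rfl ((Subgroup.map_comap_le _ _).trans ?_)
          rw [← hfA]; exact Subgroup.map_mono Subgroup.le_normalizer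
  set x₀ : ↥(Cfsg.qd 2) := Qd.mk 0 1 1 1 0 0 (by decide)
  set y₀ : ↥(Cfsg.qd 2) := Qd.mk 1 1 0 1 0 0 (by decide)
  set t₁ : ↥(Cfsg.qd 2) := Qd.mk 1 0 0 1 1 0 (by decide)
  set t₂ : ↥(Cfsg.qd 2) := Qd.mk 1 0 0 1 0 1 (by decide)
  have e1 : x₀ * t₁ = t₂ * x₀ := by simp only [x₀, t₁, t₂, Qd.mk_mul]; apply Qd.mk_congr <;> decide
  have e2 : x₀ * t₂ = t₁ * t₂ * x₀ := by simp only [x₀, t₁, t₂, Qd.mk_mul]; apply Qd.mk_congr <;> decide
  have e3 : y₀ * t₁ = t₁ * y₀ := by simp only [y₀, t₁, Qd.mk_mul]; apply Qd.mk_congr <;> decide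
  have e4 : y₀ * t₂ = t₁ * t₂ * y₀ := by simp only [y₀, t₁, t₂, Qd.mk_mul]; apply Qd.mk_congr <;> decide
  have ht₁ : t₁ ∈ Qd.trans (p := 2) := Qd.mem_trans_iff.2 ⟨1, 0, rfl⟩
  have ht₂ : t₂ ∈ Qd.trans (p := 2) := Qd.mem_trans_iff.2 ⟨0, 1, rfl⟩
  have hne1 : t₁ ≠ 1 := fun h => by
    have := (Qd.trans_inj (x := (1 : ZMod 2)) (y := 0) (x' := 0) (y' := 0) (h.trans Qd.mk_one.symm)).1
    exact absurd this (by decide)
  have hne2 : t₂ ≠ 1 := fun h => by
    have := (Qd.trans_inj (x := (0 : ZMod 2)) (y := 1) (x' := 0) (y' := 0) (h.trans Qd.mk_one.symm)).2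
    exact absurd this (by decide)
  have hne3 : t₁ ≠ t₂ := fun h => by
    have := (Qd.trans_inj (x := (1 : ZMod 2)) (y := 0) (x' := 0) (y' := 1) h).1
    exact absurd this (by decide)
  obtain ⟨x, hx, hxf⟩ := hN.ge (Subgroup.mem_top x₀)
  obtain ⟨y, hy, hyf⟩ := hN.ge (Subgroup.mem_top y₀)
  obtain ⟨a₁, ha₁, ha₁f⟩ := hfA.ge ht₁
  obtain ⟨a₂, ha₂, ha₂f⟩ := hfA.ge ht₂
  set A := A₀.map K.subtype with hA
  let ε : ↥A₀ ≃* ↥A := A₀.equivMapOfInjective K.subtype K.subtype_injective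
  let nx : MulAut ↥A := MulAut.congr ε (A₀.normalizerMonoidHom ⟨x, hx⟩)
  let ny : MulAut ↥A := MulAut.congr ε (A₀.normalizerMonoidHom ⟨y, hy⟩)
  let g : ↥A →* ↥(Cfsg.qd 2) := (f.comp A₀.subtype).comp ε.symm.toMonoidHom
  have hg : ∀ a : ↥A₀, g (ε a) = f a := fun a => congrArg (fun t : ↥A₀ => f t) (ε.symm_apply_apply a)
  have hgx : ∀ a, g (nx a) = x₀ * g a * x₀⁻¹ := fun a => by
    obtain ⟨a, rfl⟩ := ε.surjective a
    show g (ε (A₀.normalizerMonoidHom ⟨x, hx⟩ (ε.symm (ε a)))) = _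
    rw [ε.symm_apply_apply, hg, hg, ← hxf, ← map_inv, ← map_mul, ← map_mul]
    rfl
  have hgy : ∀ a, g (ny a) = y₀ * g a * y₀⁻¹ := fun a => by
    obtain ⟨a, rfl⟩ := ε.surjective a
    show g (ε (A₀.normalizerMonoidHom ⟨y, hy⟩ (ε.symm (ε a)))) = _
    rw [ε.symm_apply_apply, hg, hg, ← hyf, ← map_inv, ← map_mul, ← map_mul]
    rfl
  have hgT : ∀ a, g a ∈ Qd.trans (p := 2) := fun a => hfA.le ⟨_, (ε.symm a).2, rfl⟩
  refine ⟨A, (x : Γ), (y : Γ), nx, ny, ((R.isPGroup').map M.subtype).map K.subtype, fun a => ?_, fun a => ?_,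
    g.ker, fun a => ?_, fun a => ?_, fun a b => ?_, fun a => ?_,
    Or.inr ⟨rfl, ε ⟨a₁, ha₁⟩, ε ⟨a₂, ha₂⟩, ?_, ?_, ?_, ?_, ?_, ?_, ?_⟩⟩
  · obtain ⟨a, rfl⟩ := ε.surjective a
    show _ = ((ε (A₀.normalizerMonoidHom ⟨x, hx⟩ (ε.symm (ε a))) : ↥A) : Γ)
    rw [ε.symm_apply_apply]
    rfl
  · obtain ⟨a, rfl⟩ := ε.surjective a
    show _ = ((ε (A₀.normalizerMonoidHom ⟨y, hy⟩ (ε.symm (ε a))) : ↥A) : Γ)
    rw [ε.symm_apply_apply]
    rfl
  · rw [MonoidHom.mem_ker, MonoidHom.mem_ker, hgx, conj_eq_one_iff]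
  · rw [MonoidHom.mem_ker, MonoidHom.mem_ker, hgy, conj_eq_one_iff]
  · rw [MonoidHom.mem_ker, map_commutatorElement, commutatorElement_eq_one_iff_commute]
    exact Qd.trans_comm (hgT a) (hgT b)
  · rw [MonoidHom.mem_ker, map_pow]; exact Qd.trans_pow_p (hgT a)
  · rw [MonoidHom.mem_ker, hg]; exact ha₁f.trans_ne hne1
  · rw [MonoidHom.mem_ker, hg]; exact ha₂f.trans_ne hne2
  · rw [MonoidHom.mem_ker, map_mul, map_inv, hg, hg, mul_inv_eq_one, ha₁f, ha₂f]; exact hne3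
  · rw [MonoidHom.mem_ker, map_mul, map_inv, hgx, hg, hg, mul_inv_eq_one, ha₁f, ha₂f, e1, mul_inv_cancel_right]
  · rw [MonoidHom.mem_ker, map_mul, map_inv, map_mul, hgx, hg, hg, mul_inv_eq_one, ha₁f, ha₂f, e2, mul_inv_cancel_right]
  · rw [MonoidHom.mem_ker, map_mul, map_inv, hgy, hg, mul_inv_eq_one, ha₁f, e3, mul_inv_cancel_right]
  · rw [MonoidHom.mem_ker, map_mul, map_inv, map_mul, hgy, hg, hg, mul_inv_eq_one, ha₁f, ha₂f, e4, mul_inv_cancel_right]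

/-- A section `qd p` is seen by a pair of elements normalizing a `p`-subgroup. -/
theorem exists_pair [Fact p.Prime] {Γ : Type*} [Group Γ] [Finite Γ] (h : Involves ↥(Cfsg.qd p) Γ) :
    ∃ (A : Subgroup Γ) (x y : Γ) (α β : MulAut ↥A), IsPGroup p A ∧ (∀ a : ↥A, x * a * x⁻¹ = α a) ∧
      (∀ a : ↥A, y * a * y⁻¹ = β a) ∧ QdPair p ↥A α β := by
  by_cases hp : p = 2
  · subst hp
    exact exists_pair_two (CfsgLib.Dickson.isSec_of_involves h)
  obtain ⟨A, B, x, y, hA, -, hxA, hxB, hyA, hyB, hab, hexp, hqx, hqy, hn⟩ :=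
    (CfsgLib.Dickson.involves_qd_iff_data hp).1 h
  refine ⟨A, x, y, A.normalizerMonoidHom ⟨x, hxA⟩, A.normalizerMonoidHom ⟨y, hyA⟩, hA, fun a => rfl, fun a => rfl,
    B.subgroupOf A, fun a => (Subgroup.mem_normalizer_iff.1 hxB _).symm, fun a => (Subgroup.mem_normalizer_iff.1 hyB _).symm,
    fun a b => hab a a.2 b b.2, fun a => hexp a a.2, Or.inl ⟨hp, fun a => ?_, fun a => ?_, fun hall => hn fun l hl => ?_⟩⟩
  · have := hqx a a.2
    simp only [commutatorElement_def] at this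
    exact this
  · have := hqy a a.2
    simp only [commutatorElement_def] at this
    exact this
  obtain ⟨γ, hγ, hγe⟩ : ∃ γ ∈ Subgroup.closure
      ({A.normalizerMonoidHom ⟨x, hxA⟩, A.normalizerMonoidHom ⟨y, hyA⟩} : Set (MulAut ↥A)),
      ∀ a : ↥A, l * a * l⁻¹ = γ a := by
    induction hl using Subgroup.closure_induction with
    | mem w hw =>
      rcases hw with rfl | rfl
      exacts [⟨_, Subgroup.subset_closure (Or.inl rfl), fun a => rfl⟩,
        ⟨_, Subgroup.subset_closure (Or.inr rfl), fun a => rfl⟩]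
    | one => exact ⟨1, one_mem _, fun a => by simp⟩
    | mul g k _ _ hg hk =>
      obtain ⟨g₀, hg₀, hge⟩ := hg
      obtain ⟨k₀, hk₀, hke⟩ := hk
      refine ⟨g₀ * k₀, mul_mem hg₀ hk₀, fun a => ?_⟩
      rw [MulAut.mul_apply, ← hge, ← hke]; group
    | inv g _ hg =>
      obtain ⟨g₀, hg₀, hge⟩ := hg
      refine ⟨g₀⁻¹, inv_mem hg₀, fun a => ?_⟩
      have := hge (g₀⁻¹ a)
      rw [MulAut.apply_inv_self] at this
      rw [← this]; group
  obtain ⟨n, hn'⟩ := hall γ hγ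
  refine ⟨n, fun a ha => ?_⟩
  have hk : ∀ k : ℕ, ∀ a : ↥A, l ^ k * a * (l ^ k)⁻¹ = (γ ^ k) a := by
    intro k
    induction k with
    | zero => intro a; simp
    | succ k ih =>
      intro a
      rw [pow_succ γ, MulAut.mul_apply, ← ih, ← hγe, pow_succ]
      group
  have h := hn' ⟨a, ha⟩
  rw [commutatorElement_def, hk (p ^ n) ⟨a, ha⟩]
  exact h

end CfsgLib.Fus
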