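import Cfsg.Agent.Fus.QdGroup
import Cfsg.Agent.Fus.PGroupAux

/-!
A group of `p`-rank two with a normal `p`-subgroup `U` and quotient `Qd(p)`, `p > 3`, has `U = 1`.
-/

set_option autoImplicit false
set_option linter.style.haveILetI false

open Cfsg
open scoped commutatorElement

namespace CfsgLib.Fus.Qd

theorem eq_one_of_sq_odd {K : Type*} [Group K] {x : K} (h2 : x * x = 1) {n : ℕ} (hn : Odd n)
    (h : x ^ n = 1) : x = 1 := by
  obtain ⟨m, rfl⟩ := hn
  rwa [pow_succ, pow_mul, sq, h2, one_pow, one_mul] at h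

variable {G : Type*} [Group G] {p : ℕ} [Fact p.Prime]

/-- `V`: the preimage of the translations. -/
def vsub (φ : G →* ↥(Cfsg.qd p)) : Subgroup G := (trans (p := p)).comap φ

theorem vsub_normal (φ : G →* ↥(Cfsg.qd p)) : (vsub φ).Normal :=
  (trans_normal (p := p)).comap φ

/-- The data used throughout. -/
structure Setup (φ : G →* ↥(Cfsg.qd p)) (t : G) : Prop where
  hp : 3 < p
  surj : Function.Surjective φ
  ker : IsPGroup p φ.ker
  rank : ∀ A : Subgroup G, IsMulCommutative A → (∀ a ∈ A, a ^ p = 1) → Nat.card A ≤ p ^ 2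
  tt : t * t = 1
  tz : φ t = z

namespace Setup

variable {φ : G →* ↥(Cfsg.qd p)} {t : G}

theorem exists_setup [Finite G] (hp : 3 < p) (hφ : Function.Surjective φ) (hU : IsPGroup p φ.ker)
    (hr : ∀ A : Subgroup G, IsMulCommutative A → (∀ a ∈ A, a ^ p = 1) → Nat.card A ≤ p ^ 2) :
    ∃ t, Setup φ t := by
  obtain ⟨g, hg⟩ := hφ z
  obtain ⟨k, hk⟩ := hU ⟨g ^ 2, by rw [MonoidHom.mem_ker, map_pow, hg, sq, z_mul_z]⟩
  refine ⟨g ^ p ^ k, hp, hφ, hU, hr, ?_, ?_⟩
  · rw [← pow_add, ← two_mul, pow_mul]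
    exact congrArg Subtype.val hk
  · have hodd : Odd (p ^ k) := ((Fact.out : p.Prime).odd_of_ne_two (by omega)).pow
    obtain ⟨m, hm⟩ := hodd
    rw [map_pow, hg, hm, pow_succ, pow_mul, sq, z_mul_z, one_pow, one_mul]

variable (h : Setup φ t)
include h

theorem isPGroup_vsub : IsPGroup p (vsub φ) :=
  IsPGroup.comap_of_ker_isPGroup
    (fun M => ⟨1, Subtype.ext (by rw [pow_one]; exact trans_pow_p M.2)⟩) φ h.ker

theorem inv_t : t⁻¹ = t := inv_eq_of_mul_eq_one_right h.tt

omit h in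
theorem ker_le_vsub : φ.ker ≤ vsub φ := fun g hg => by
  show φ g ∈ trans
  rw [MonoidHom.mem_ker.1 hg]; exact Subgroup.one_mem _

theorem conj_mem_vsub {v : G} (hv : v ∈ vsub φ) : t * v * t ∈ vsub φ := by
  simpa [h.inv_t] using (vsub_normal φ).conj_mem v hv t

theorem sq_eq_one {w : G} (hw : w ∈ vsub φ) (h2 : w * w = 1) : w = 1 := by
  obtain ⟨k, hk⟩ := h.isPGroup_vsub ⟨w, hw⟩
  have hk' : w ^ p ^ k = 1 := congrArg Subtype.val hk
  obtain ⟨m, hm⟩ := ((Fact.out : p.Prime).odd_of_ne_two (by have := h.hp; omega)).pow (n := k)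
  rw [hm, pow_succ, pow_mul, sq, h2, one_pow, one_mul] at hk'
  exact hk'

theorem fixed_le_ker {v : G} (hv : v ∈ vsub φ) (hf : t * v * t = v) : φ v = 1 := by
  have h2 : φ v * φ v = 1 := by
    have := z_trans (M := φ v) hv
    rw [← h.tz, ← map_mul, ← map_mul, hf] at this
    exact this
  have hp : (φ v) ^ p = 1 := trans_pow_p hv
  exact eq_one_of_sq_odd h2 ((Fact.out : p.Prime).odd_of_ne_two (by have := h.hp; omega)) hp

/-- The element `v⁻¹ (t v t)` is inverted by `t`. -/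
theorem inverted (v : G) : t * (v⁻¹ * (t * v * t)) * t = (v⁻¹ * (t * v * t))⁻¹ := by
  simp only [mul_inv_rev, inv_inv, h.inv_t]
  calc t * (v⁻¹ * (t * v * t)) * t = t * v⁻¹ * t * v * (t * t) := by simp only [mul_assoc]
    _ = t * (v⁻¹ * t) * v := by rw [h.tt, mul_one]; simp only [mul_assoc]

theorem not_all_fixed : ¬ ∀ v ∈ vsub φ, t * v * t = v := fun hall => by
  obtain ⟨g, hg⟩ := h.surj (Qd.mk 1 0 0 1 1 0 (by ring))
  have hgT : φ g ∈ trans := hg ▸ mem_trans_iff.2 ⟨1, 0, rfl⟩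
  have := h.fixed_le_ker (v := g) hgT (hall g hgT)
  rw [hg, ← Qd.mk_one] at this
  exact one_ne_zero (trans_inj this).1

/-- If no element of order `p` of `W` is inverted, `t` centralizes `W`. -/
theorem fixed_of_no_inverted [Finite G] {W : Subgroup G} (hW : W ≤ vsub φ)
    (hinv : ∀ w ∈ W, t * w * t ∈ W)
    (hno : ∀ y ∈ W, y ^ p = 1 → t * y * t = y⁻¹ → y = 1) : ∀ w ∈ W, t * w * t = w := by
  intro w hw
  set u := w⁻¹ * (t * w * t) with hu
  suffices u = 1 by rwa [hu, inv_mul_eq_one, eq_comm] at this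
  obtain ⟨k, hk⟩ := h.isPGroup_vsub ⟨u, hW (W.mul_mem (W.inv_mem hw) (hinv w hw))⟩
  have hk' : u ^ p ^ k = 1 := congrArg Subtype.val hk
  clear hk
  induction k with
  | zero => simpa using hk'
  | succ k ih =>
    refine ih (hno _ (W.pow_mem (W.mul_mem (W.inv_mem hw) (hinv w hw)) _) ?_ ?_)
    · rw [← pow_mul, ← pow_succ, hk']
    · have h1 : ∀ n : ℕ, t * u ^ n * t = (u⁻¹) ^ n := by
        intro n
        rw [← h.inverted w, ← hu]
        have := conj_pow (a := t) (b := u) (i := n)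
        rw [h.inv_t] at this
        exact this.symm
      rw [h1, inv_pow]

/-- If `t` fixes no nontrivial element of `W`, it inverts `W`. -/
theorem inverted_of_fixed_free [Finite G] {W : Subgroup G} (hinv : ∀ w ∈ W, t * w * t ∈ W)
    (hfree : ∀ w ∈ W, t * w * t = w → w = 1) : ∀ w ∈ W, t * w * t = w⁻¹ := by
  let f : W → W := fun w => ⟨(w : G)⁻¹ * (t * w * t), W.mul_mem (W.inv_mem w.2) (hinv w w.2)⟩
  have hf : Function.Injective f := fun v w hvw => by
    have h1 : (v : G)⁻¹ * (t * v * t) = (w : G)⁻¹ * (t * w * t) := congrArg Subtype.val hvw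
    have h2 : t * ((w : G) * (v : G)⁻¹) * t = (w : G) * (v : G)⁻¹ := by
      have h3 : (w : G) * (v : G)⁻¹ = t * w * t * (t * v * t)⁻¹ := by
        rw [eq_mul_inv_iff_mul_eq, mul_assoc, h1, mul_inv_cancel_left]
      conv_rhs => rw [h3]
      simp only [mul_inv_rev, h.inv_t, mul_assoc]
      simp [← mul_assoc t t, h.tt]
    exact Subtype.ext (mul_inv_eq_one.1 (hfree _ (W.mul_mem w.2 (W.inv_mem v.2)) h2)).symm
  intro w hw
  obtain ⟨v, hv⟩ := Finite.surjective_of_injective hf ⟨w, hw⟩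
  have : (v : G)⁻¹ * (t * v * t) = w := congrArg Subtype.val hv
  rw [← this, h.inverted]

theorem conj_t_mem (g : G) : g * t * g⁻¹ * t ∈ vsub φ := by
  show φ _ ∈ trans
  rw [map_mul, map_mul, map_mul, map_inv, h.tz]
  exact z_commute_mod _

/-- Lifts in `C(t)` and in the derived group. -/
def Lift (t : G) (φ : G →* ↥(Cfsg.qd p)) (M : ↥(Cfsg.qd p)) : Prop :=
  ∃ g, φ g = M ∧ g * t = t * g ∧ g ∈ commutator G

theorem exists_centralizing {M : ↥(Cfsg.qd p)} (hM : M * z = z * M) :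
    ∃ g, φ g = M ∧ g * t = t * g := by
  obtain ⟨g, hg⟩ := h.surj M
  set u := g * t * g⁻¹ * t with hu
  have hu1 : φ u = 1 := by
    rw [hu, map_mul, map_mul, map_mul, map_inv, h.tz, hg, hM, mul_inv_cancel_right, z_mul_z]
  have htu : t * u * t = u⁻¹ := by
    rw [hu]; simp only [mul_inv_rev, inv_inv, h.inv_t, mul_assoc, h.tt, mul_one]
  obtain ⟨k, hk⟩ := h.ker ⟨u, hu1⟩
  have hk' : u ^ p ^ k = 1 := congrArg Subtype.val hk
  obtain ⟨m, hm⟩ := ((Fact.out : p.Prime).odd_of_ne_two (by have := h.hp; omega)).pow (n := k)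
  -- `r` is a square root of `u`, inverted by `t`
  set r := u ^ (m + 1) with hr
  have hrr : r * r = u := by
    rw [hr, ← pow_add, show m + 1 + (m + 1) = (2 * m + 1) + 1 by ring, pow_succ, ← hm, hk', one_mul]
  have htr : t * r * t = r⁻¹ := by
    rw [hr, ← inv_pow, ← htu]
    have := conj_pow (a := t) (b := u) (i := m + 1)
    rw [h.inv_t] at this
    exact this.symm
  refine ⟨r⁻¹ * g, ?_, ?_⟩
  · rw [map_mul, map_inv, hr, map_pow, hu1, one_pow, inv_one, one_mul, hg]
  · have hgt : g * t = u * t * g := by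
      rw [hu, mul_assoc (g * t * g⁻¹) t t, h.tt, mul_one, inv_mul_cancel_right]
    calc r⁻¹ * g * t = r⁻¹ * (r * r * t * g) := by rw [mul_assoc, hgt, hrr]
      _ = r * t * g := by simp only [mul_assoc, inv_mul_cancel_left]
      _ = t * (t * r * t) * g := by rw [← mul_assoc t, ← mul_assoc t, h.tt, one_mul]
      _ = t * (r⁻¹ * g) := by rw [htr, mul_assoc]

theorem lift_mul {M N : ↥(Cfsg.qd p)} (hM : Lift t φ M) (hN : Lift t φ N) : Lift t φ (M * N) := by
  obtain ⟨a, ha, hat, hac⟩ := hM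
  obtain ⟨b, hb, hbt, hbc⟩ := hN
  exact ⟨a * b, by rw [map_mul, ha, hb], (Commute.mul_left hat hbt).eq, mul_mem hac hbc⟩

theorem lift_comm {M N : ↥(Cfsg.qd p)} (hM : M * z = z * M) (hN : N * z = z * N) :
    Lift t φ (M * N * M⁻¹ * N⁻¹) := by
  obtain ⟨a, ha, hat⟩ := h.exists_centralizing hM
  obtain ⟨b, hb, hbt⟩ := h.exists_centralizing hN
  refine ⟨a * b * a⁻¹ * b⁻¹, by rw [map_mul, map_mul, map_mul, map_inv, map_inv, ha, hb],
    (((Commute.mul_left hat hbt).mul_left (Commute.inv_left hat)).mul_left (Commute.inv_left hbt)).eq,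
    ?_⟩
  exact Subgroup.commutator_mem_commutator (Subgroup.mem_top a) (Subgroup.mem_top b)

theorem two_ne : (2 : ZMod p) ≠ 0 := by
  intro h2
  have : p ∣ 2 := (ZMod.natCast_eq_zero_iff 2 p).1 (by exact_mod_cast h2)
  have := Nat.le_of_dvd two_pos this
  have := h.hp
  omega

theorem three_ne : (3 : ZMod p) ≠ 0 := by
  intro h2
  have : p ∣ 3 := (ZMod.natCast_eq_zero_iff 3 p).1 (by exact_mod_cast h2)
  have := Nat.le_of_dvd (by norm_num) this
  have := h.hp
  omega

theorem lift_up (s : ZMod p) : Lift t φ (up s) := by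
  have e : diag 2 h.two_ne * up (s / 3) * (diag 2 h.two_ne)⁻¹ * (up (s / 3))⁻¹ = up s := by
    rw [mul_inv_eq_iff_eq_mul, mul_inv_eq_iff_eq_mul, diag_up, up_mul]
    congr 2
    field_simp [h.three_ne]
    ring
  exact e ▸ h.lift_comm (diag_commute_z _ _) (up_commute_z _)

theorem lift_low (s : ZMod p) : Lift t φ (low s) := by
  have e : diag 2 h.two_ne * low (-4 * s / 3) * (diag 2 h.two_ne)⁻¹ * (low (-4 * s / 3))⁻¹ = low s := by
    rw [mul_inv_eq_iff_eq_mul, mul_inv_eq_iff_eq_mul, low, low, diag, mk_mul, mk_mul, mk_mul]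
    refine mk_congr ?_ ?_ ?_ ?_ ?_ ?_ <;> field_simp [h.two_ne, h.three_ne] <;> ring
  exact e ▸ h.lift_comm (diag_commute_z _ _) (low_commute_z _)

theorem lift_diag : Lift t φ (diag 2 h.two_ne) := by
  rw [diag_eq]
  exact h.lift_mul (h.lift_mul (h.lift_mul (h.lift_up _) (h.lift_low _)) (h.lift_up _))
    (h.lift_mul (h.lift_mul (h.lift_up _) (h.lift_low _)) (h.lift_up _))

theorem lift_z : Lift t φ z := by
  rw [z_eq]
  exact h.lift_mul (h.lift_mul (h.lift_mul (h.lift_up _) (h.lift_low _)) (h.lift_up _))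
    (h.lift_mul (h.lift_mul (h.lift_up _) (h.lift_low _)) (h.lift_up _))

omit h in
/-- The derived group centralizes a cyclic normal subgroup. -/
theorem commutator_centralizes {K : Type*} [Group K] {L : Subgroup K} [L.Normal] [IsCyclic L]
    {g : K} (hg : g ∈ commutator K) {l : K} (hl : l ∈ L) : g * l * g⁻¹ = l := by
  obtain ⟨c, hc⟩ := IsCyclic.exists_generator (α := L)
  have hpow : ∀ a : K, ∃ i : ℤ, ∀ x ∈ L, a * x * a⁻¹ = x ^ i := by
    intro a
    obtain ⟨i, hi⟩ := Subgroup.mem_zpowers_iff.1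
      (hc ⟨a * c * a⁻¹, (inferInstance : L.Normal).conj_mem _ c.2 a⟩)
    refine ⟨i, fun x hx => ?_⟩
    obtain ⟨j, hj⟩ := Subgroup.mem_zpowers_iff.1 (hc ⟨x, hx⟩)
    have hi' : (c : K) ^ i = a * c * a⁻¹ := by simpa using congrArg (fun z : L => (z : K)) hi
    have hj' : (c : K) ^ j = x := by simpa using congrArg (fun z : L => (z : K)) hj
    rw [← hj', ← conj_zpow, ← hi', ← zpow_mul, ← zpow_mul, mul_comm]
  suffices commutator K ≤ Subgroup.centralizer (L : Set K) by
    rw [mul_inv_eq_iff_eq_mul]; exact ((this hg) l hl).symm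
  rw [commutator_eq_closure, Subgroup.closure_le]
  rintro _ ⟨a, b, rfl⟩ x hx
  obtain ⟨i, hi⟩ := hpow a
  obtain ⟨j, hj⟩ := hpow b
  set y := (b * a)⁻¹ * x * (b * a) with hy'
  have hy : y ∈ L := by simpa [hy', mul_assoc] using (inferInstance : L.Normal).conj_mem x hx (b * a)⁻¹
  have e : a * b * y * (a * b)⁻¹ = b * a * y * (b * a)⁻¹ := by
    calc a * b * y * (a * b)⁻¹ = a * (b * y * b⁻¹) * a⁻¹ := by simp [mul_assoc]
      _ = (y ^ j) ^ i := by rw [hj y hy, hi _ (L.zpow_mem hy j)]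
      _ = (y ^ i) ^ j := by rw [← zpow_mul, ← zpow_mul, mul_comm]
      _ = b * (a * y * a⁻¹) * b⁻¹ := by rw [hi y hy, hj _ (L.zpow_mem hy i)]
      _ = b * a * y * (b * a)⁻¹ := by simp [mul_assoc]
  have h1 : ⁅a, b⁆ * x * ⁅a, b⁆⁻¹ = a * b * y * (a * b)⁻¹ := by
    simp [hy', commutatorElement_def, mul_assoc]
  have h2 : ⁅a, b⁆ * x * ⁅a, b⁆⁻¹ = x := by rw [h1, e, hy']; simp [mul_assoc]
  exact (mul_inv_eq_iff_eq_mul.1 h2).symm

/-- `t` centralizes every cyclic normal subgroup of an image of `G`. -/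
theorem t_centralizes {K : Type*} [Group K] {f : G →* K} (hf : Function.Surjective f)
    {L : Subgroup K} [L.Normal] [IsCyclic L] {l : K} (hl : l ∈ L) : f t * l * (f t)⁻¹ = l := by
  obtain ⟨g, hg, -, hgc⟩ := h.lift_z
  have hv : g⁻¹ * t ∈ vsub φ := by
    show φ _ ∈ trans
    rw [map_mul, map_inv, hg, h.tz, inv_mul_cancel]; exact Subgroup.one_mem _
  set v := g⁻¹ * t
  have htgv : t = g * v := by simp [v]
  have hgc' : f g ∈ commutator K := by
    have : (commutator G).map f = commutator K := by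
      rw [commutator_def, Subgroup.map_commutator, Subgroup.map_top_of_surjective f hf,
        ← commutator_def]
    exact this ▸ Subgroup.mem_map_of_mem f hgc
  have heq : (MulAut.conjNormal (f t) : MulAut L) = MulAut.conjNormal (f v) := by
    apply MulEquiv.ext
    intro x
    apply Subtype.ext
    simp only [MulAut.conjNormal_apply]
    have hx : f v * x * (f v)⁻¹ ∈ L := (inferInstance : L.Normal).conj_mem _ x.2 _
    rw [htgv, map_mul]
    conv_rhs => rw [← commutator_centralizes hgc' hx]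
    simp [mul_assoc]
  obtain ⟨k, hk⟩ := h.isPGroup_vsub ⟨v, hv⟩
  have hk' : v ^ p ^ k = 1 := congrArg Subtype.val hk
  set α : MulAut L := MulAut.conjNormal (f t) with hα
  have h1 : α ^ p ^ k = 1 := by rw [heq, ← map_pow, ← map_pow, hk', map_one, map_one]
  have h2 : α * α = 1 := by rw [hα, ← map_mul, ← map_mul, h.tt, map_one, map_one]
  obtain ⟨m, hm⟩ := ((Fact.out : p.Prime).odd_of_ne_two (by have := h.hp; omega)).pow (n := k)
  rw [hm, pow_succ, pow_mul, sq, h2, one_pow, one_mul] at h1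
  have := congrArg (fun β : MulAut L => ((β ⟨l, hl⟩ : L) : K)) h1
  simpa [hα] using this

theorem t_fixes_cyclic {L : Subgroup G} [L.Normal] [IsCyclic L] {l : G} (hl : l ∈ L) :
    t * l * t = l := by
  have := h.t_centralizes (f := MonoidHom.id G) Function.surjective_id hl
  simpa [h.inv_t] using this

theorem t_fixes_mod_cyclic {Z L : Subgroup G} [Z.Normal] [L.Normal]
    (hc : IsCyclic ↥(Z.map (QuotientGroup.mk' L))) {x : G} (hx : x ∈ Z) :
    x⁻¹ * (t * x * t) ∈ L := by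
  haveI := hc
  haveI : (Z.map (QuotientGroup.mk' L)).Normal :=
    Subgroup.Normal.map inferInstance _ (QuotientGroup.mk'_surjective L)
  have := h.t_centralizes (QuotientGroup.mk'_surjective L)
    (Subgroup.mem_map_of_mem (QuotientGroup.mk' L) hx)
  rw [← map_inv, h.inv_t, ← map_mul, ← map_mul] at this
  rw [← QuotientGroup.eq]
  exact this.symm

end Setup

end CfsgLib.Fus.Qd
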