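import Cfsg.Agent.Fus.QdRank
import Cfsg.Agent.Perm.MinClass

/-!
The two cases: a normal elementary abelian subgroup of order `p²`, or none.
-/

set_option autoImplicit false
set_option linter.style.haveILetI false

open Cfsg
open scoped commutatorElement

namespace CfsgLib.Fus.Qd.Setup

variable {G : Type*} [Group G] {p : ℕ} [Fact p.Prime] {φ : G →* ↥(Cfsg.qd p)} {t : G}

theorem fixed_inverted_eq_one (h : Setup φ t) {x : G} (hx : x ∈ vsub φ) (h1 : t * x * t = x)
    (h2 : t * x * t = x⁻¹) : x = 1 :=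
  h.sq_eq_one hx (by
    rw [h1] at h2
    conv_lhs => arg 1; rw [h2]
    exact inv_mul_cancel x)

theorem isCyclic_of_exponent {L : Subgroup G} (hc : Nat.card L ≤ p) (hL : IsPGroup p L) [Finite G] :
    IsCyclic L := by
  obtain ⟨k, hk⟩ := IsPGroup.iff_card.1 hL
  rcases Nat.eq_zero_or_pos k with rfl | hk0
  · haveI : Subsingleton L := Finite.card_le_one_iff_subsingleton.1 (by rw [hk, pow_zero])
    infer_instance
  · refine isCyclic_of_prime_card (p := p) (le_antisymm hc ?_)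
    rw [hk]
    exact Nat.le_self_pow (by omega) p

theorem comm_expansion {A : Type*} [CommGroup A] (a b c d w r s : A) (n k l m : ℕ) :
    b * c ^ n * d ^ k * (w ^ m) ^ l * s ^ m * (a * b ^ n * c ^ k * d ^ l * r ^ m) =
      a * b ^ (n + 1) * c ^ (n + k) * d ^ (k + l) * (w ^ l * r * s) ^ m := by
  simp only [pow_add, pow_one, mul_pow, ← pow_mul, Nat.mul_comm m l, mul_comm, mul_left_comm, mul_assoc]

theorem expansion_step {A : Subgroup G} (hab : ∀ a ∈ A, ∀ b ∈ A, a * b = b * a) {a b c d w r s : G}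
    (ha : a ∈ A) (hb : b ∈ A) (hc : c ∈ A) (hd : d ∈ A) (hw : w ∈ A) (hr : r ∈ A) (hs : s ∈ A)
    (n k l m : ℕ) :
    b * c ^ n * d ^ k * (w ^ m) ^ l * s ^ m * (a * b ^ n * c ^ k * d ^ l * r ^ m) =
      a * b ^ (n + 1) * c ^ (n + k) * d ^ (k + l) * (w ^ l * r * s) ^ m := by
  letI : CommGroup A :=
    { (inferInstance : Group A) with mul_comm := fun x y => Subtype.ext (hab x x.2 y y.2) }
  have key : (⟨b, hb⟩ : A) * ⟨c, hc⟩ ^ n * ⟨d, hd⟩ ^ k * ((⟨w, hw⟩ : A) ^ m) ^ l * ⟨s, hs⟩ ^ m *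
      (⟨a, ha⟩ * ⟨b, hb⟩ ^ n * ⟨c, hc⟩ ^ k * ⟨d, hd⟩ ^ l * ⟨r, hr⟩ ^ m) =
      ⟨a, ha⟩ * ⟨b, hb⟩ ^ (n + 1) * ⟨c, hc⟩ ^ (n + k) * ⟨d, hd⟩ ^ (k + l) *
        ((⟨w, hw⟩ : A) ^ l * ⟨r, hr⟩ * ⟨s, hs⟩) ^ m := by
    exact comm_expansion _ _ _ _ _ _ _ n k l m
  exact congrArg Subtype.val key

variable (h : Setup φ t)
include h

/-- Case 1: a normal elementary abelian subgroup of order `p²` inside `V`. -/
theorem ker_eq_bot_of_square [Finite G] {Z : Subgroup G} [Z.Normal] (hZV : Z ≤ vsub φ)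
    (hZc : IsMulCommutative Z) (hZe : ∀ z ∈ Z, z ^ p = 1) (hZ2 : Nat.card Z = p ^ 2) :
    φ.ker = ⊥ := by
  have hp1 := (Fact.out : p.Prime).one_lt
  have hcomm : ∀ a ∈ Z, ∀ b ∈ Z, a * b = b * a := fun a ha b hb =>
    CfsgLib.Solv.commute_of_isMulCommutative ha hb
  have hZt : ∀ z ∈ Z, t * z * t ∈ Z := fun z hz => by
    simpa [h.inv_t] using (inferInstance : Z.Normal).conj_mem z hz t
  have hZp : IsPGroup p Z := h.isPGroup_vsub.to_le hZV
  -- subgroups strictly inside `Z` are cyclic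
  have hsmall : ∀ L : Subgroup G, L ≤ Z → L ≠ Z → Nat.card L ≤ p := by
    intro L hL hne
    obtain ⟨k, hk⟩ := IsPGroup.iff_card.1 (hZp.to_le hL)
    have := card_lt_card_of_lt (lt_of_le_of_ne hL hne)
    rw [hk, hZ2] at this
    have := (Nat.pow_lt_pow_iff_right hp1).1 this
    rw [hk]
    calc p ^ k ≤ p ^ 1 := Nat.pow_le_pow_right (by omega) (by omega)
      _ = p := pow_one p
  have hquot : ∀ L : Subgroup G, L.Normal → L ≤ Z → L ≠ ⊥ → ∀ x ∈ Z, x⁻¹ * (t * x * t) ∈ L := by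
    intro L hLn hL hne x hx
    haveI := hLn
    refine h.t_fixes_mod_cyclic (Z := Z) (L := L) (isCyclic_of_exponent (p := p) ?_ (hZp.map _)) hx
    set f := (QuotientGroup.mk' L).comp Z.subtype
    have hker : f.ker = L.subgroupOf Z := by
      ext y; simp [f, Subgroup.mem_subgroupOf]
    have hrange : f.range = Z.map (QuotientGroup.mk' L) := by
      rw [MonoidHom.range_comp, Subgroup.range_subtype]
    have h1 := f.ker.card_mul_index
    rw [Subgroup.index_ker, hrange, hker,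
      Nat.card_congr (Subgroup.subgroupOfEquivOfLe hL).toEquiv, hZ2] at h1
    haveI := (Subgroup.nontrivial_iff_ne_bot L).2 hne
    obtain ⟨k, hk⟩ := IsPGroup.iff_card.1 (hZp.to_le hL)
    have hk1 : 1 ≤ k := by
      by_contra h0
      have := Finite.one_lt_card (α := L)
      rw [hk, show k = 0 by omega, pow_zero] at this
      omega
    have h2 : p ≤ Nat.card L := hk ▸ Nat.le_self_pow (by omega) p
    refine Nat.le_of_mul_le_mul_left ?_ (show 0 < p by omega)
    calc p * _ ≤ Nat.card L * _ := Nat.mul_le_mul_right _ h2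
      _ = p * p := by rw [h1, sq]
  -- every element of order `p` centralizing `Z` lies in `Z`
  obtain ⟨z₁, hz₁, hz₁1⟩ := Z.bot_or_exists_ne_one.resolve_left fun hb => by
    rw [hb, Subgroup.card_bot] at hZ2
    exact (Nat.one_lt_pow two_ne_zero hp1).ne hZ2
  obtain ⟨z₂, hz₂, hz₂n⟩ : ∃ z₂ ∈ Z, z₂ ∉ Subgroup.zpowers z₁ := by
    by_contra hcon
    push_neg at hcon
    have := Subgroup.card_le_of_le (show Z ≤ Subgroup.zpowers z₁ from hcon)
    rw [Nat.card_zpowers, hZ2, orderOf_eq_prime (hZe z₁ hz₁) hz₁1] at this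
    have : p ^ 2 ≤ p ^ 1 := by simpa using this
    have := (Nat.pow_le_pow_iff_right hp1).1 this
    omega
  have homega : ∀ y : G, y ^ p = 1 → (∀ z ∈ Z, y * z = z * y) → y ∈ Z := by
    intro y hy hyc
    have h1 := no_rank_three h.rank (hZe z₁ hz₁) (hZe z₂ hz₂) hy (hcomm z₁ hz₁ z₂ hz₂)
      (hyc z₁ hz₁).symm (hyc z₂ hz₂).symm hz₁1 hz₂n
    exact (Subgroup.closure_le _).2 (by intro x hx; rcases hx with rfl | rfl <;> assumption) h1
  -- some element of `Z` is inverted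
  obtain ⟨f, hf, hf1, hfi⟩ : ∃ f ∈ Z, f ≠ 1 ∧ t * f * t = f⁻¹ := by
    by_contra hcon
    push_neg at hcon
    have hfix : ∀ z ∈ Z, t * z * t = z :=
      h.fixed_of_no_inverted hZV hZt fun y hy _ hyi => by
        by_contra h1
        exact hcon y hy h1 hyi
    set C := vsub φ ⊓ Subgroup.centralizer (Z : Set G) with hC
    have hCt : ∀ c ∈ C, t * c * t ∈ C := fun c hc => by
      refine ⟨h.conj_mem_vsub hc.1, fun z hz => ?_⟩
      calc z * (t * c * t) = t * (t * z * t * c) * t := by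
            simp only [mul_assoc]; simp [← mul_assoc t t, h.tt]
        _ = t * (c * (t * z * t)) * t := by rw [hfix z hz, hc.2 z hz]
        _ = t * c * t * z := by simp only [mul_assoc, h.tt, mul_one]
    have hCfix : ∀ c ∈ C, t * c * t = c := h.fixed_of_no_inverted inf_le_left hCt fun y hy hyp hyi =>
      h.fixed_inverted_eq_one hy.1
        (hfix y (homega y hyp fun z hz => (hy.2 z hz).symm)) hyi
    refine h.not_all_fixed fun v hv => ?_
    set u := v⁻¹ * (t * v * t)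
    have hu : u ∈ C := by
      refine ⟨(vsub φ).mul_mem ((vsub φ).inv_mem hv) (h.conj_mem_vsub hv), fun z hz => ?_⟩
      have hz' : v * z * v⁻¹ ∈ Z := (inferInstance : Z.Normal).conj_mem z hz v
      have h1 : t * v * t * z * (t * v * t)⁻¹ = v * z * v⁻¹ := by
        calc t * v * t * z * (t * v * t)⁻¹ = t * (v * (t * z * t) * v⁻¹) * t := by
              simp only [mul_inv_rev, h.inv_t, mul_assoc]
          _ = v * z * v⁻¹ := by rw [hfix z hz, hfix _ hz']
      have h2 : u * z * u⁻¹ = z := by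
        calc u * z * u⁻¹ = v⁻¹ * (t * v * t * z * (t * v * t)⁻¹) * v := by
              simp only [u, mul_inv_rev, inv_inv, mul_assoc]
          _ = z := by rw [h1]; simp [mul_assoc]
      exact (mul_inv_eq_iff_eq_mul.1 h2).symm
    have := h.fixed_inverted_eq_one hu.1 (hCfix u hu) (h.inverted v)
    rwa [inv_mul_eq_one, eq_comm] at this
  -- a nontrivial proper normal subgroup of `G` inside `Z` is impossible
  have hnoline : ∀ L : Subgroup G, L.Normal → L ≤ Z → L ≠ ⊥ → L = Z := by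
    intro L hLn hL hne
    by_contra hLZ
    haveI := hLn
    have h1 := hquot L hLn hL hne f hf
    haveI := isCyclic_of_exponent (p := p) (hsmall L hL hLZ) (hZp.to_le hL)
    have h3 : f⁻¹ * f⁻¹ ∈ L := by rwa [hfi] at h1
    have h4 := h.t_fixes_cyclic h3
    have h5 : t * (f⁻¹ * f⁻¹) * t = (f⁻¹ * f⁻¹)⁻¹ := by
      have h6 : t * f⁻¹ * t = f := by
        have := congrArg (fun x => x⁻¹) hfi
        simpa [mul_inv_rev, h.inv_t, mul_assoc] using this
      calc t * (f⁻¹ * f⁻¹) * t = (t * f⁻¹ * t) * (t * f⁻¹ * t) := by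
            simp only [mul_assoc]; simp [← mul_assoc t t, h.tt]
        _ = (f⁻¹ * f⁻¹)⁻¹ := by rw [h6]; simp
    have h7 := h.fixed_inverted_eq_one (hZV (Z.mul_mem (Z.inv_mem hf) (Z.inv_mem hf))) h4 h5
    exact hf1 (inv_eq_one.1 (h.sq_eq_one (hZV (Z.inv_mem hf)) h7))
  -- `V` centralizes `Z`
  haveI := vsub_normal φ
  have hVZ : ∀ v ∈ vsub φ, ∀ z ∈ Z, v * z = z * v := by
    have hL : Z ⊓ Subgroup.centralizer (vsub φ : Set G) = Z := by
      refine hnoline _ inferInstance inf_le_left ?_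
      haveI : (Z.subgroupOf (vsub φ)).Normal := inferInstance
      haveI : Finite (vsub φ) := inferInstance
      haveI : Group.IsNilpotent (vsub φ) := h.isPGroup_vsub.isNilpotent
      haveI : Nontrivial (Z.subgroupOf (vsub φ)) := by
        refine ⟨⟨⟨z₁, hZV hz₁⟩, hz₁⟩, 1, fun he => hz₁1 ?_⟩
        exact congrArg (fun x : Z.subgroupOf (vsub φ) => ((x : vsub φ) : G)) he
      obtain ⟨w, hwZ, hwc, hw1⟩ : ∃ w : vsub φ, w ∈ Z.subgroupOf (vsub φ) ∧
          w ∈ Subgroup.center (vsub φ) ∧ w ≠ 1 := by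
        obtain ⟨w, hw, hw1⟩ := (Subgroup.bot_or_exists_ne_one _).resolve_left
          (CfsgLib.Perm.inf_center_ne_bot h.isPGroup_vsub (Z.subgroupOf (vsub φ))
            ((Subgroup.nontrivial_iff_ne_bot _).1 inferInstance))
        exact ⟨w, hw.1, hw.2, hw1⟩
      intro hb
      have : (w : G) ∈ Z ⊓ Subgroup.centralizer (vsub φ : Set G) :=
        ⟨hwZ, fun v hv => congrArg Subtype.val (Subgroup.mem_center_iff.1 hwc ⟨v, hv⟩)⟩
      rw [hb] at this
      exact hw1 (Subtype.ext this)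
    intro v hv z hz
    exact ((hL.ge hz).2 v hv)
  -- `t` has no fixed point on `Z`
  have hfree : ∀ z ∈ Z, t * z * t = z → z = 1 := by
    let Zf : Subgroup G :=
      { carrier := {z | z ∈ Z ∧ t * z * t = z}
        one_mem' := ⟨Z.one_mem, by rw [mul_one, h.tt]⟩
        mul_mem' := by
          rintro a b ⟨ha, ha'⟩ ⟨hb, hb'⟩
          refine ⟨Z.mul_mem ha hb, ?_⟩
          conv_rhs => rw [← ha', ← hb']
          simp only [mul_assoc]; simp [← mul_assoc t t, h.tt]
        inv_mem' := by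
          rintro a ⟨ha, ha'⟩
          refine ⟨Z.inv_mem ha, ?_⟩
          conv_rhs => rw [← ha']
          simp [mul_inv_rev, h.inv_t, mul_assoc] }
    have hn : Zf.Normal := ⟨fun z ⟨hz, hzt⟩ g => by
      refine ⟨(inferInstance : Z.Normal).conj_mem z hz g, ?_⟩
      -- `g⁻¹ t g ∈ V t`
      have hv : g⁻¹ * t * g * t ∈ vsub φ := by simpa using h.conj_t_mem g⁻¹
      set v := g⁻¹ * t * g * t
      have hgt : t * g = g * v * t := by
        simp only [v, mul_assoc, h.tt, mul_one, mul_inv_cancel_left]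
      calc t * (g * z * g⁻¹) * t = (t * g) * z * (t * g)⁻¹ := by
            simp only [mul_inv_rev, h.inv_t, mul_assoc]
        _ = g * (v * (t * z * t) * v⁻¹) * g⁻¹ := by
            rw [hgt]; simp only [mul_inv_rev, h.inv_t, mul_assoc]
        _ = g * z * g⁻¹ := by rw [hzt, hVZ v hv z hz, mul_inv_cancel_right]⟩
    intro z hz hzt
    by_contra hz1
    have hne : Zf ≠ ⊥ := fun hb => hz1 (by
      have : z ∈ Zf := ⟨hz, hzt⟩
      rwa [hb] at this)
    have := hnoline Zf hn (fun x hx => hx.1) hne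
    exact hf1 (h.fixed_inverted_eq_one (hZV hf) ((this.ge hf).2) hfi)
  -- `t` inverts `V`
  have hVfree : ∀ v ∈ vsub φ, t * v * t = v → v = 1 := by
    intro v hv hvf
    by_contra hv1
    have hpos : 0 < orderOf v := orderOf_pos v
    obtain ⟨k, hk⟩ := h.isPGroup_vsub ⟨v, hv⟩
    obtain ⟨j, -, hj⟩ := (Nat.dvd_prime_pow (Fact.out : p.Prime)).1
      (orderOf_dvd_of_pow_eq_one (congrArg Subtype.val hk : v ^ p ^ k = 1))
    obtain ⟨j, rfl⟩ : ∃ i, j = i + 1 := Nat.exists_eq_succ_of_ne_zero fun h0 => by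
      rw [h0, pow_zero] at hj; exact hv1 (orderOf_eq_one_iff.1 hj)
    set y := v ^ p ^ j
    have hy : y ^ p = 1 := by rw [← pow_mul, ← pow_succ, ← hj, pow_orderOf_eq_one]
    have hyf : t * y * t = y := by
      have := conj_pow (a := t) (b := v) (i := p ^ j)
      rw [h.inv_t, hvf] at this
      exact this.symm
    have hy1 := hfree y (homega y hy fun z hz => hVZ y ((vsub φ).pow_mem hv _) z hz) hyf
    have := Nat.le_of_dvd (pow_pos (Fact.out : p.Prime).pos j) (orderOf_dvd_of_pow_eq_one hy1)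
    rw [hj] at this
    have := (Nat.pow_le_pow_iff_right hp1).1 this
    omega
  have hinv : ∀ v ∈ vsub φ, t * v * t = v⁻¹ :=
    h.inverted_of_fixed_free (fun v hv => h.conj_mem_vsub hv) hVfree
  have hab : ∀ a ∈ vsub φ, ∀ b ∈ vsub φ, a * b = b * a := by
    intro a ha b hb
    have h1 := hinv _ ((vsub φ).mul_mem ha hb)
    have h2 : t * (a * b) * t = (t * a * t) * (t * b * t) := by
      simp only [mul_assoc]; simp [← mul_assoc t t, h.tt]
    rw [h1, hinv a ha, hinv b hb] at h2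
    have := congrArg (fun x => x⁻¹) h2
    simpa [mul_inv_rev] using this
  have hroots : ∀ v ∈ vsub φ, v ^ p = 1 → v ∈ Z := fun v hv hvp => homega v hvp (hVZ v hv)
  -- the kernel is the group of `p`-th powers
  by_contra hU
  have hZU : Z ≤ φ.ker := by
    haveI := (Subgroup.nontrivial_iff_ne_bot φ.ker).2 hU
    obtain ⟨u, hu⟩ := exists_prime_orderOf_dvd_card' (G := φ.ker) p (by
      obtain ⟨k, hk⟩ := IsPGroup.iff_card.1 h.ker
      rw [hk]
      refine dvd_pow_self p fun h0 => ?_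
      have := Finite.one_lt_card (α := φ.ker)
      rw [hk, h0, pow_zero] at this
      omega)
    have hup : (u : G) ^ p = 1 := by
      have := congrArg Subtype.val (pow_orderOf_eq_one u); rwa [hu] at this
    have huZ := hroots u (ker_le_vsub u.2) hup
    have : Z ⊓ φ.ker = Z := hnoline _ inferInstance inf_le_left fun hb => by
      have h1 : (u : G) ∈ Z ⊓ φ.ker := ⟨huZ, u.2⟩
      rw [hb] at h1
      rw [orderOf_eq_one_iff.2 (Subtype.ext h1 : u = 1)] at hu
      omega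
    exact inf_eq_left.1 this
  let pow : vsub φ →* G :=
    { toFun := fun v => (v : G) ^ p
      map_one' := one_pow p
      map_mul' := fun a b => (show Commute (a : G) b from hab a a.2 b b.2).mul_pow p }
  have hrange : pow.range = φ.ker := by
    have hle : pow.range ≤ φ.ker := by
      rintro _ ⟨v, rfl⟩
      show φ ((v : G) ^ p) = 1
      rw [map_pow]; exact trans_pow_p v.2
    have hkerp : pow.ker = Z.subgroupOf (vsub φ) := by
      ext v
      exact ⟨fun hv => hroots v v.2 hv, fun hv => hZe v hv⟩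
    refine Subgroup.eq_of_le_of_card_ge hle ?_
    have h1 := pow.ker.card_mul_index
    rw [Subgroup.index_ker, hkerp, Nat.card_congr (Subgroup.subgroupOfEquivOfLe hZV).toEquiv,
      hZ2] at h1
    let π : vsub φ →* ↥(trans (p := p)) :=
      (φ.comp (vsub φ).subtype).codRestrict _ fun v => v.2
    have hπk : π.ker = φ.ker.subgroupOf (vsub φ) := by
      ext v
      rw [Subgroup.mem_subgroupOf, MonoidHom.mem_ker, MonoidHom.mem_ker]
      exact Subtype.ext_iff
    have hπs : π.range = ⊤ := MonoidHom.range_eq_top.2 fun m => by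
      obtain ⟨g, hg⟩ := h.surj m
      exact ⟨⟨g, by show φ g ∈ trans; rw [hg]; exact m.2⟩, Subtype.ext hg⟩
    have h2 := π.ker.card_mul_index
    rw [Subgroup.index_ker, hπs, Subgroup.card_top, card_trans, hπk,
      Nat.card_congr (Subgroup.subgroupOfEquivOfLe ker_le_vsub).toEquiv, ← h1, mul_comm] at h2
    exact (Nat.eq_of_mul_eq_mul_left (pow_pos (Fact.out : p.Prime).pos 2) h2).le
  -- lift of the unipotent element
  obtain ⟨x, hx, hxt⟩ := h.exists_centralizing (up_commute_z (1 : ZMod p))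
  have hxp : x ^ p = 1 := by
    have h1 : φ (x ^ p) = 1 := by
      have hup : ∀ n : ℕ, (up (1 : ZMod p)) ^ n = up (n : ZMod p) := by
        intro n
        induction n with
        | zero =>
          rw [pow_zero, ← Qd.mk_one, up]
          exact mk_congr rfl (by simp) rfl rfl rfl rfl
        | succ n ih => rw [pow_succ, ih, up_mul]; congr 1; push_cast; ring
      rw [map_pow, hx, hup, ZMod.natCast_self, ← Qd.mk_one, up]
    refine hVfree _ (ker_le_vsub h1) ?_
    have hct : t * x ^ p = x ^ p * t := ((show Commute x t from hxt).pow_left p).symm.eq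
    rw [hct, mul_assoc, h.tt, mul_one]
  haveI hVc : IsMulCommutative (vsub φ) := ⟨⟨fun a b => Subtype.ext (hab a a.2 b b.2)⟩⟩
  -- `N v = x v x⁻¹ v⁻¹`
  set N : G → G := fun v => x * v * x⁻¹ * v⁻¹ with hN
  have hNV : ∀ v ∈ vsub φ, N v ∈ vsub φ := fun v hv =>
    (vsub φ).mul_mem ((inferInstance : (vsub φ).Normal).conj_mem v hv x) ((vsub φ).inv_mem hv)
  have hNmul : ∀ a ∈ vsub φ, ∀ b ∈ vsub φ, N (a * b) = N a * N b := by
    intro a ha b hb
    have h1 := (inferInstance : (vsub φ).Normal).conj_mem b hb x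
    calc N (a * b) = x * a * x⁻¹ * ((x * b * x⁻¹ * b⁻¹) * a⁻¹) := by simp [hN, mul_assoc]
      _ = x * a * x⁻¹ * (a⁻¹ * (x * b * x⁻¹ * b⁻¹)) := by
          rw [hab _ (hNV b hb) _ ((vsub φ).inv_mem ha)]
      _ = N a * N b := by simp [hN, mul_assoc]
  have hN1 : N 1 = 1 := by simp [hN]
  have hNpow : ∀ a ∈ vsub φ, ∀ n : ℕ, N (a ^ n) = N a ^ n := by
    intro a ha n
    induction n with
    | zero => rw [pow_zero, pow_zero, hN1]
    | succ n ih => rw [pow_succ, pow_succ, hNmul _ ((vsub φ).pow_mem ha n) _ ha, ih]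
  have hNN : ∀ v ∈ vsub φ, ∃ w ∈ vsub φ, N (N v) = w ^ p := by
    intro v hv
    have h1 : N (N v) ∈ φ.ker := by
      obtain ⟨a, b, hab'⟩ := mem_trans_iff.1 (show φ v ∈ trans from hv)
      show φ (N (N v)) = 1
      simp only [hN, map_mul, map_inv, hx, hab']
      rw [mul_inv_eq_one, mul_inv_eq_iff_eq_mul]
      have e : up (1 : ZMod p) * Qd.mk 1 0 0 1 a b (by ring) * (up 1)⁻¹ * (Qd.mk 1 0 0 1 a b (by ring))⁻¹ =
          Qd.mk 1 0 0 1 b 0 (by ring) := by
        rw [mul_inv_eq_iff_eq_mul, mul_inv_eq_iff_eq_mul, up, mk_mul, mk_mul, mk_mul]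
        exact mk_congr (by ring) (by ring) (by ring) (by ring) (by ring) (by ring)
      rw [e]
      exact up_fixes 1 b
    rw [← hrange] at h1
    obtain ⟨w, hw⟩ := h1
    exact ⟨w, w.2, hw.symm⟩
  have hpN : ∀ v ∈ vsub φ, ∃ w ∈ vsub φ, N v ^ p = w ^ (p * p) := by
    intro v hv
    obtain ⟨w₂, hw₂, e₂⟩ := hNN v hv
    obtain ⟨w₄, hw₄, e₄⟩ := hNN w₂ hw₂
    set d₂ := N (N v) with hd₂
    set d₃ := N d₂ with hd₃
    have hd₂m : d₂ ∈ vsub φ := hNV _ (hNV _ hv)
    have hd₃m : d₃ ∈ vsub φ := hNV _ hd₂m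
    have he₃ : d₃ = N w₂ ^ p := by rw [hd₃, e₂, hNpow _ hw₂]
    have he₄ : N d₃ = w₄ ^ (p * p) := by rw [he₃, hNpow _ (hNV _ hw₂), e₄, pow_mul]
    -- expansion of `xⁿ v x⁻ⁿ`
    have hexp : ∀ n : ℕ, ∃ r ∈ vsub φ, x ^ n * v * (x ^ n)⁻¹ =
        v * N v ^ n * d₂ ^ n.choose 2 * d₃ ^ n.choose 3 * r ^ (p * p) := by
      intro n
      induction n with
      | zero => exact ⟨1, Subgroup.one_mem _, by simp⟩
      | succ n ih =>
        obtain ⟨r, hr, e⟩ := ih
        refine ⟨w₄ ^ n.choose 3 * r * N r,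
          (vsub φ).mul_mem ((vsub φ).mul_mem ((vsub φ).pow_mem hw₄ _) hr) (hNV r hr), ?_⟩
        have m1 : v * N v ^ n ∈ vsub φ := (vsub φ).mul_mem hv ((vsub φ).pow_mem (hNV _ hv) _)
        have m2 := (vsub φ).mul_mem m1 ((vsub φ).pow_mem hd₂m (n.choose 2))
        have m3 := (vsub φ).mul_mem m2 ((vsub φ).pow_mem hd₃m (n.choose 3))
        have m4 := (vsub φ).mul_mem m3 ((vsub φ).pow_mem hr (p * p))
        have hstep : x ^ (n + 1) * v * (x ^ (n + 1))⁻¹ =
            N (x ^ n * v * (x ^ n)⁻¹) * (x ^ n * v * (x ^ n)⁻¹) := by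
          simp [hN, pow_succ', mul_assoc]
        rw [hstep, e, hNmul _ m3 _ ((vsub φ).pow_mem hr _), hNmul _ m2 _ ((vsub φ).pow_mem hd₃m _),
          hNmul _ m1 _ ((vsub φ).pow_mem hd₂m _), hNmul _ hv _ ((vsub φ).pow_mem (hNV _ hv) _),
          hNpow _ (hNV _ hv), hNpow _ hd₂m, hNpow _ hd₃m, hNpow _ hr, ← hd₂, ← hd₃, he₄,
          Nat.choose_succ_succ n 1, Nat.choose_one_right, Nat.choose_succ_succ n 2]
        exact expansion_step hab hv (hNV _ hv) hd₂m hd₃m hw₄ hr (hNV r hr) n (n.choose 2)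
          (n.choose 3) (p * p)
    obtain ⟨r, hr, e⟩ := hexp p
    obtain ⟨k₂, hk₂⟩ := (Fact.out : p.Prime).dvd_choose_self (k := 2) (by norm_num) (by have := h.hp; omega)
    obtain ⟨k₃, hk₃⟩ := (Fact.out : p.Prime).dvd_choose_self (k := 3) (by norm_num) (by have := h.hp; omega)
    rw [hxp, one_mul, inv_one, mul_one, mul_assoc, mul_assoc, mul_assoc, left_eq_mul, hk₂, hk₃,
      pow_mul, pow_mul d₃, ← mul_assoc] at e
    set A := w₂ ^ k₂ * N w₂ ^ k₃ * r
    refine ⟨A⁻¹, (vsub φ).inv_mem ((vsub φ).mul_mem ((vsub φ).mul_mem ((vsub φ).pow_mem hw₂ _)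
      ((vsub φ).pow_mem (hNV _ hw₂) _)) hr), ?_⟩
    have e' : (d₂ ^ p) ^ k₂ * (d₃ ^ p) ^ k₃ * r ^ (p * p) = A ^ (p * p) := by
      have c1 : Commute (w₂ ^ k₂) (N w₂ ^ k₃) :=
        hab _ ((vsub φ).pow_mem hw₂ _) _ ((vsub φ).pow_mem (hNV _ hw₂) _)
      have c2 : Commute (w₂ ^ k₂ * N w₂ ^ k₃) r :=
        hab _ ((vsub φ).mul_mem ((vsub φ).pow_mem hw₂ _) ((vsub φ).pow_mem (hNV _ hw₂) _)) _ hr
      rw [c2.mul_pow, c1.mul_pow, he₃, e₂]
      simp only [← pow_mul, Nat.mul_comm, Nat.mul_left_comm, Nat.mul_assoc]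
    rw [inv_pow, ← e']
    exact eq_inv_of_mul_eq_one_left ((by simp only [mul_assoc] : N v ^ p * _ = _).trans e)
  obtain ⟨v, hv'⟩ := h.surj (Qd.mk 1 0 0 1 0 1 (by ring))
  have hv : v ∈ vsub φ := show φ v ∈ trans from hv' ▸ mem_trans_iff.2 ⟨0, 1, rfl⟩
  obtain ⟨w, hw, e⟩ := hpN v hv
  have hwp : w ^ p ∈ φ.ker := hrange ▸ ⟨⟨w, hw⟩, rfl⟩
  have hq : N v * (w ^ p)⁻¹ ∈ φ.ker := by
    refine hZU (hroots _ ((vsub φ).mul_mem (hNV v hv) ((vsub φ).inv_mem (ker_le_vsub hwp))) ?_)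
    rw [Commute.mul_pow (hab _ (hNV v hv) _ ((vsub φ).inv_mem (ker_le_vsub hwp))), inv_pow,
      ← pow_mul, e, mul_inv_cancel]
  have h1 : φ (N v) = 1 := by
    have := φ.ker.mul_mem hq hwp
    rwa [inv_mul_cancel_right] at this
  simp only [hN, map_mul, map_inv, hx, hv'] at h1
  rw [mul_inv_eq_one, mul_inv_eq_iff_eq_mul, up_moves] at h1
  have h2 := (trans_inj (mul_right_cancel h1)).1
  exact one_ne_zero ((one_mul (1 : ZMod p)).symm.trans h2)

end CfsgLib.Fus.Qd.Setup
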