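import Cfsg.Agent.Fus.QdRankCases

/-!
The case without a normal elementary abelian subgroup of order `p²`, and the main statement.
-/

set_option autoImplicit false
set_option linter.style.haveILetI false

open Cfsg
open scoped commutatorElement

namespace CfsgLib.Fus.Qd.Setup

variable {G : Type*} [Group G] {p : ℕ} [Fact p.Prime] {φ : G →* ↥(Cfsg.qd p)} {t : G}

theorem trans_generated {a b : ↥(Cfsg.qd p)} {T : Subgroup ↥(Cfsg.qd p)} (hT : Nat.card T = p ^ 2)
    (h : ∀ x ∈ T, ∃ m n : ℕ, x = a ^ m * b ^ n) (ha : a ^ p = 1) (hb : b ^ p = 1)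
    (haT : a ∈ T) (hbT : b ∈ T) (m n : ℕ) (hmn : a ^ m * b ^ n = 1) : p ∣ m ∧ p ∣ n := by
  let f : Fin p × Fin p → T := fun v =>
    ⟨a ^ (v.1 : ℕ) * b ^ (v.2 : ℕ), T.mul_mem (T.pow_mem haT _) (T.pow_mem hbT _)⟩
  have hred : ∀ (c : ↥(Cfsg.qd p)), c ^ p = 1 → ∀ k : ℕ, c ^ k = c ^ (k % p) := by
    intro c hc k
    conv_lhs => rw [← Nat.mod_add_div k p]
    rw [pow_add, pow_mul, hc, one_pow, mul_one]
  have hsurj : Function.Surjective f := by
    intro x
    obtain ⟨i, j, hij⟩ := h x x.2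
    exact ⟨(⟨i % p, Nat.mod_lt _ (Fact.out : p.Prime).pos⟩, ⟨j % p, Nat.mod_lt _ (Fact.out : p.Prime).pos⟩),
      Subtype.ext (show a ^ (i % p) * b ^ (j % p) = x by rw [hij, hred a ha i, hred b hb j])⟩
  have hinj : Function.Injective f :=
    (Nat.bijective_iff_surjective_and_card f).2 ⟨hsurj, by simp [hT, sq]⟩ |>.1
  have := hinj (a₁ := (⟨m % p, Nat.mod_lt _ (Fact.out : p.Prime).pos⟩, ⟨n % p, Nat.mod_lt _ (Fact.out : p.Prime).pos⟩))
    (a₂ := (⟨0, (Fact.out : p.Prime).pos⟩, ⟨0, (Fact.out : p.Prime).pos⟩))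
    (Subtype.ext (show a ^ (m % p) * b ^ (n % p) = a ^ 0 * b ^ 0 by
      rw [← hred a ha, ← hred b hb, hmn, pow_zero, pow_zero, mul_one]))
  simp only [Prod.mk.injEq, Fin.mk.injEq] at this
  exact ⟨Nat.dvd_of_mod_eq_zero this.1, Nat.dvd_of_mod_eq_zero this.2⟩

variable (h : Setup φ t)
include h

/-- Case 2: every normal elementary abelian subgroup inside `V` has order less than `p²`. -/
theorem ker_eq_bot_of_thin [Finite G]
    (hthin : ∀ Z : Subgroup G, Z.Normal → Z ≤ vsub φ → IsMulCommutative Z →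
      (∀ z ∈ Z, z ^ p = 1) → Nat.card Z < p ^ 2) : φ.ker = ⊥ := by
  exfalso
  have hp2 : 2 < p := by have := h.hp; omega
  haveI := vsub_normal φ
  -- normal abelian subgroups inside `V` are cyclic
  have hcyc : ∀ A : Subgroup G, A.Normal → A ≤ vsub φ → IsMulCommutative A → IsCyclic A := by
    intro A hAn hAV hAc
    haveI := hAn
    haveI := hAc
    refine isCyclic_of_roots hp2 (h.isPGroup_vsub.to_le hAV) fun a b ha hb ha1 => ?_
    let Z : Subgroup G :=
      { carrier := {z | z ∈ A ∧ z ^ p = 1}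
        one_mem' := ⟨A.one_mem, one_pow p⟩
        mul_mem' := fun {x y} hx hy => ⟨A.mul_mem hx.1 hy.1, by
          rw [Commute.mul_pow (CfsgLib.Solv.commute_of_isMulCommutative hx.1 hy.1), hx.2, hy.2, mul_one]⟩
        inv_mem' := fun {x} hx => ⟨A.inv_mem hx.1, by rw [inv_pow, hx.2, inv_one]⟩ }
    have hlt := hthin Z ⟨fun z hz g => ⟨hAn.conj_mem z hz.1 g, by rw [conj_pow, hz.2]; simp⟩⟩
      (fun z hz => hAV hz.1)
      ⟨⟨fun x y => Subtype.ext (CfsgLib.Solv.commute_of_isMulCommutative x.2.1 y.2.1)⟩⟩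
      fun z hz => hz.2
    have hap : (a : G) ^ p = 1 := congrArg Subtype.val ha
    have hle : Subgroup.zpowers (a : G) ≤ Z := Subgroup.zpowers_le.2 ⟨a.2, hap⟩
    have hZ : Subgroup.zpowers (a : G) = Z := by
      refine Subgroup.eq_of_le_of_card_ge hle ?_
      obtain ⟨k, hk⟩ := IsPGroup.iff_card.1 (h.isPGroup_vsub.to_le (fun z hz => hAV hz.1) : IsPGroup p Z)
      rw [hk] at hlt ⊢
      have h2 := (Nat.pow_lt_pow_iff_right (Fact.out : p.Prime).one_lt).1 hlt
      rw [Nat.card_zpowers, orderOf_eq_prime hap fun he => ha1 (Subtype.ext he)]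
      calc p ^ k ≤ p ^ 1 := Nat.pow_le_pow_right (by omega) (by omega)
        _ = p := pow_one p
    obtain ⟨i, hi⟩ := Subgroup.mem_zpowers_iff.1
      (hZ.ge ⟨b.2, congrArg Subtype.val hb⟩ : (b : G) ∈ Subgroup.zpowers (a : G))
    exact ⟨i, Subtype.ext (by simpa using hi)⟩
  -- a maximal normal abelian subgroup
  obtain ⟨A, ⟨hAn, hAV, hAc⟩, hAmax⟩ := (Set.toFinite
      {A : Subgroup G | A.Normal ∧ A ≤ vsub φ ∧ IsMulCommutative A}).exists_maximal
    ⟨⊥, Subgroup.normal_bot, bot_le, inferInstance⟩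
  haveI := hAn
  haveI := hAc
  haveI := hcyc A hAn hAV hAc
  have hAt : ∀ a ∈ A, t * a * t = a := fun a ha => h.t_fixes_cyclic ha
  set C := vsub φ ⊓ Subgroup.centralizer (A : Set G) with hCdef
  have hCt : ∀ v ∈ vsub φ, v⁻¹ * (t * v * t) ∈ C := by
    intro v hv
    refine ⟨(vsub φ).mul_mem ((vsub φ).inv_mem hv) (h.conj_mem_vsub hv), fun a ha => ?_⟩
    have h1 : t * v * t * a * (t * v * t)⁻¹ = v * a * v⁻¹ := by
      calc t * v * t * a * (t * v * t)⁻¹ = t * (v * (t * a * t) * v⁻¹) * t := by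
            simp only [mul_inv_rev, h.inv_t, mul_assoc]
        _ = v * a * v⁻¹ := by rw [hAt a ha, hAt _ (hAn.conj_mem a ha v)]
    have h2 : v⁻¹ * (t * v * t) * a * (v⁻¹ * (t * v * t))⁻¹ = a := by
      calc _ = v⁻¹ * (t * v * t * a * (t * v * t)⁻¹) * v := by
            simp only [mul_inv_rev, inv_inv, mul_assoc]
        _ = a := by rw [h1]; simp [mul_assoc]
    exact (mul_inv_eq_iff_eq_mul.1 h2).symm
  obtain ⟨b₀, hb₀C, hb₀A⟩ : ∃ b ∈ C, b ∉ A := by
    by_contra hcon
    push_neg at hcon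
    refine h.not_all_fixed fun v hv => ?_
    have hu := hcon _ (hCt v hv)
    have := h.fixed_inverted_eq_one (hAV hu) (hAt _ hu) (h.inverted v)
    rwa [inv_mul_eq_one, eq_comm] at this
  -- `B`: the subgroup of `C` central modulo `A` with `p`-th powers in `A`
  have hAC : A ≤ C := fun a ha =>
    ⟨hAV ha, fun x hx => CfsgLib.Solv.commute_of_isMulCommutative hx ha⟩
  have hCn : C.Normal := inferInstance
  let Z₁ : Subgroup G :=
    { carrier := {c | c ∈ C ∧ ∀ v ∈ vsub φ, v * c * v⁻¹ * c⁻¹ ∈ A}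
      one_mem' := ⟨C.one_mem, fun v _ => by simp⟩
      mul_mem' := by
        rintro c d ⟨hc, hc'⟩ ⟨hd, hd'⟩
        refine ⟨C.mul_mem hc hd, fun v hv => ?_⟩
        have := A.mul_mem (hc' v hv) (hAn.conj_mem _ (hd' v hv) c)
        simpa [mul_assoc] using this
      inv_mem' := by
        rintro c ⟨hc, hc'⟩
        refine ⟨C.inv_mem hc, fun v hv => ?_⟩
        have := hAn.conj_mem _ (A.inv_mem (hc' v hv)) c⁻¹
        simpa [mul_assoc] using this }
  have hcomm : ∀ b ∈ Z₁, ∀ c ∈ C, c * b * c⁻¹ * b⁻¹ ∈ A := fun b hb c hc => hb.2 c hc.1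
  have hAcent : ∀ a ∈ A, ∀ c ∈ C, a * c = c * a := fun a ha c hc => hc.2 a ha
  let B : Subgroup G :=
    { carrier := {c | c ∈ Z₁ ∧ c ^ p ∈ A}
      one_mem' := ⟨Z₁.one_mem, by rw [one_pow]; exact A.one_mem⟩
      mul_mem' := by
        rintro c d ⟨hc, hc'⟩ ⟨hd, hd'⟩
        refine ⟨Z₁.mul_mem hc hd, ?_⟩
        have hk : d⁻¹ * c⁻¹ * d * c ∈ A := by
          simpa [mul_assoc] using hcomm _ (Z₁.inv_mem hc) _ (C.inv_mem hd.1)
        rw [mul_pow_of_central_comm (x := c) (y := d) (c := d⁻¹ * c⁻¹ * d * c) (by simp [mul_assoc])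
          (hAcent _ hk _ hc.1) (hAcent _ hk _ hd.1)]
        exact A.mul_mem (A.mul_mem hc' hd') (A.pow_mem hk _)
      inv_mem' := by
        rintro c ⟨hc, hc'⟩
        exact ⟨Z₁.inv_mem hc, by rw [inv_pow]; exact A.inv_mem hc'⟩ }
  have hBn : B.Normal := ⟨by
    rintro c ⟨⟨hc, hc'⟩, hcp⟩ g
    refine ⟨⟨hCn.conj_mem c hc g, fun v hv => ?_⟩, by rw [conj_pow]; exact hAn.conj_mem _ hcp g⟩
    have := hAn.conj_mem _ (hc' _ ((inferInstance : (vsub φ).Normal).conj_mem v hv g⁻¹)) g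
    simpa [mul_assoc] using this⟩
  have hBV : B ≤ vsub φ := fun b hb => hb.1.1.1
  have hBC : B ≤ C := fun b hb => hb.1.1
  have hAB : A ≤ B := fun a ha =>
    ⟨⟨hAC ha, fun v hv => A.mul_mem (hAn.conj_mem a ha v) (A.inv_mem ha)⟩, A.pow_mem ha p⟩
  obtain ⟨b₁, hb₁B, hb₁A⟩ : ∃ b ∈ B, b ∉ A := by
    haveI : Finite (vsub φ ⧸ A.subgroupOf (vsub φ)) := inferInstance
    set mk := QuotientGroup.mk' (A.subgroupOf (vsub φ)) with hmk
    set Cb := (C.subgroupOf (vsub φ)).map mk
    haveI : Cb.Normal := Subgroup.Normal.map inferInstance _ (QuotientGroup.mk'_surjective _)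
    have hne : Cb ≠ ⊥ := fun hb => hb₀A (by
      have : mk ⟨b₀, hb₀C.1⟩ ∈ Cb := ⟨⟨b₀, hb₀C.1⟩, hb₀C, rfl⟩
      rw [hb, Subgroup.mem_bot] at this
      exact Subgroup.mem_subgroupOf.1 ((QuotientGroup.eq_one_iff _).1 this))
    obtain ⟨w, hw, hw1⟩ := (Subgroup.bot_or_exists_ne_one _).resolve_left
      (CfsgLib.Perm.inf_center_ne_bot (h.isPGroup_vsub.to_quotient _) Cb hne)
    obtain ⟨c, hc, rfl⟩ := hw.1
    obtain ⟨k, hk⟩ := h.isPGroup_vsub c
    have hcz : (c : G) ∈ Z₁ := by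
      refine ⟨hc, fun v hv => ?_⟩
      have h1 := Subgroup.mem_center_iff.1 hw.2 (mk ⟨v, hv⟩)
      rw [← mul_inv_eq_iff_eq_mul, ← mul_inv_eq_one] at h1
      simp only [← map_inv, ← map_mul] at h1
      exact Subgroup.mem_subgroupOf.1 ((QuotientGroup.eq_one_iff _).1 h1)
    classical
    have hex : ∃ n : ℕ, (c : G) ^ p ^ n ∈ A :=
      ⟨k, by rw [show (c : G) ^ p ^ k = 1 from congrArg Subtype.val hk]; exact A.one_mem⟩
    obtain ⟨i, hi⟩ : ∃ i, Nat.find hex = i + 1 := Nat.exists_eq_succ_of_ne_zero fun h0 => hw1 (by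
      have := Nat.find_spec hex
      rw [h0, pow_zero, pow_one] at this
      exact (QuotientGroup.eq_one_iff _).2 (Subgroup.mem_subgroupOf.2 this))
    refine ⟨(c : G) ^ p ^ i, ⟨Z₁.pow_mem hcz _, ?_⟩, Nat.find_min hex (by omega)⟩
    rw [← pow_mul, ← pow_succ, ← hi]
    exact Nat.find_spec hex
  -- commutators in `B` have order dividing `p`
  have hBcomm : ∀ b ∈ B, ∀ c ∈ B, (b⁻¹ * c⁻¹ * b * c) ∈ A ∧ (b⁻¹ * c⁻¹ * b * c) ^ p = 1 := by
    intro b hb c hc
    have hk : b⁻¹ * c⁻¹ * b * c ∈ A := by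
      simpa [mul_assoc] using hcomm _ (Z₁.inv_mem hc.1) _ (C.inv_mem hb.1.1)
    refine ⟨hk, ?_⟩
    set k := b⁻¹ * c⁻¹ * b * c
    have h1 : c⁻¹ * b * c = b * k := by simp [k, mul_assoc]
    have h2 : (b * k) ^ p = b ^ p := by
      rw [← h1]
      have := conj_pow (a := c⁻¹) (b := b) (i := p)
      rw [inv_inv] at this
      rw [this, mul_assoc, hAcent _ hb.2 _ hc.1.1, inv_mul_cancel_left]
    rw [(show Commute b k from (hAcent k hk b hb.1.1).symm).mul_pow, mul_eq_left] at h2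
    exact h2
  -- the `p`-th power map on `B`
  let pow : B →* A :=
    { toFun := fun b => ⟨(b : G) ^ p, b.2.2⟩
      map_one' := Subtype.ext (one_pow p)
      map_mul' := fun c d => Subtype.ext (by
        obtain ⟨hk, hkp⟩ := hBcomm d d.2 c c.2
        exact mul_pow_p_of_central_comm hp2 (c := (d : G)⁻¹ * (c : G)⁻¹ * d * c) (by simp [mul_assoc])
          (hAcent _ hk _ c.2.1.1) (hAcent _ hk _ d.2.1.1) hkp) }
  set D := pow.ker.map B.subtype with hDdef
  have hDmem : ∀ {d : G}, d ∈ D ↔ d ∈ B ∧ d ^ p = 1 := by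
    intro d
    constructor
    · rintro ⟨d, hd, rfl⟩
      exact ⟨d.2, congrArg Subtype.val (MonoidHom.mem_ker.1 hd)⟩
    · rintro ⟨hd, hdp⟩
      exact ⟨⟨d, hd⟩, MonoidHom.mem_ker.2 (Subtype.ext hdp), rfl⟩
  have hDn : D.Normal := ⟨fun d hd g => by
    rw [hDmem] at hd ⊢
    exact ⟨hBn.conj_mem d hd.1 g, by rw [conj_pow, hd.2]; simp⟩⟩
  have hDV : D ≤ vsub φ := fun d hd => hBV (hDmem.1 hd).1
  -- `D` has order at least `p²`
  have hD2 : p ^ 2 ≤ Nat.card D := by
    have h1 := pow.ker.card_mul_index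
    rw [Subgroup.index_ker, Nat.card_congr (pow.ker.equivMapOfInjective _ B.subtype_injective).toEquiv,
      ← hDdef] at h1
    have h2 := (A.subgroupOf B).card_mul_index
    rw [Nat.card_congr (Subgroup.subgroupOfEquivOfLe hAB).toEquiv] at h2
    have h3 : Nat.card pow.range ≤ Nat.card A := Subgroup.card_le_card_group _
    obtain ⟨j, hj⟩ := IsPGroup.iff_card.1 ((h.isPGroup_vsub.to_le hBV).to_quotient (A.subgroupOf B))
    rw [← Subgroup.index_eq_card] at hj
    have hj2 : 2 ≤ j := by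
      by_contra hj2
      -- otherwise `B` would be abelian
      haveI hBc : IsMulCommutative B := by
        refine ⟨⟨fun x y => ?_⟩⟩
        have hgen : ∀ z : B, ∃ (a : G) (n : ℤ), a ∈ A ∧ (z : G) = a * b₁ ^ n := by
          intro z
          have hidx : (A.subgroupOf B).index = p := by
            interval_cases j
            · exact absurd (Subgroup.index_eq_one.1 (by simpa using hj)) fun ht =>
                hb₁A (Subgroup.mem_subgroupOf.1 (ht.ge (Subgroup.mem_top ⟨b₁, hb₁B⟩)))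
            · simpa using hj
          haveI : (A.subgroupOf B).Normal := inferInstance
          haveI := isCyclic_of_prime_card (p := p) (α := B ⧸ A.subgroupOf B)
            (by rw [← Subgroup.index_eq_card, hidx])
          have hb1 : (QuotientGroup.mk ⟨b₁, hb₁B⟩ : B ⧸ A.subgroupOf B) ≠ 1 := fun he =>
            hb₁A (Subgroup.mem_subgroupOf.1 ((QuotientGroup.eq_one_iff _).1 he))
          have htop := zpowers_eq_top_of_prime_card (p := p) (h := by rw [← Subgroup.index_eq_card, hidx]) hb1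
          obtain ⟨n, hn⟩ := Subgroup.mem_zpowers_iff.1 (htop.ge (Subgroup.mem_top (QuotientGroup.mk z)))
          rw [← QuotientGroup.mk_zpow, eq_comm, QuotientGroup.eq_iff_div_mem, Subgroup.mem_subgroupOf] at hn
          exact ⟨_, n, hn, by simp⟩
        obtain ⟨a, m, ha, hx⟩ := hgen x
        obtain ⟨a', n, ha', hy⟩ := hgen y
        apply Subtype.ext
        show (x : G) * y = y * x
        rw [hx, hy]
        have hc : ∀ a ∈ A, ∀ k : ℤ, Commute a (b₁ ^ k) := fun a ha k =>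
          (show Commute a b₁ from hAcent a ha b₁ (hBC hb₁B)).zpow_right k
        exact (((show Commute a a' from CfsgLib.Solv.commute_of_isMulCommutative ha ha').mul_right
          (hc a ha n)).mul_left ((hc a' ha' m).symm.mul_right (Commute.zpow_zpow (Commute.refl b₁) m n))).eq
      exact hb₁A (hAmax ⟨hBn, hBV, hBc⟩ hAB hb₁B)
    rw [← h2, hj] at h1
    have h4 : Nat.card A * p ^ 2 ≤ Nat.card D * Nat.card A :=
      calc Nat.card A * p ^ 2 ≤ Nat.card A * p ^ j :=
            Nat.mul_le_mul_left _ (Nat.pow_le_pow_right (by omega) hj2)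
        _ = Nat.card D * Nat.card pow.range := h1.symm
        _ ≤ Nat.card D * Nat.card A := Nat.mul_le_mul_left _ h3
    exact Nat.le_of_mul_le_mul_left (by rwa [mul_comm (Nat.card D)] at h4) Nat.card_pos
  -- two non-commuting elements
  obtain ⟨a, ha, b, hb, hab⟩ : ∃ a ∈ D, ∃ b ∈ D, a * b ≠ b * a := by
    by_contra hcon
    push_neg at hcon
    haveI : IsMulCommutative D := ⟨⟨fun x y => Subtype.ext (hcon x x.2 y y.2)⟩⟩
    have := hthin D hDn hDV inferInstance fun d hd => (hDmem.1 hd).2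
    omega
  have haB := (hDmem.1 ha).1
  have hbB := (hDmem.1 hb).1
  have hap := (hDmem.1 ha).2
  have hbp := (hDmem.1 hb).2
  obtain ⟨hcA, hcp⟩ := hBcomm a haB b hbB
  set c := a⁻¹ * b⁻¹ * a * b with hcdef
  have hc1 : c ≠ 1 := fun he => hab (by
    calc a * b = b * a * c := by simp [hcdef, mul_assoc]
      _ = b * a := by rw [he, mul_one])
  -- the elements of order `p` of `A`
  have hroot : ∀ z ∈ A, z ^ p = 1 → z ∈ Subgroup.zpowers c := by
    intro z hz hzp
    let Z : Subgroup G :=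
      { carrier := {z | z ∈ A ∧ z ^ p = 1}
        one_mem' := ⟨A.one_mem, one_pow p⟩
        mul_mem' := fun {x y} hx hy => ⟨A.mul_mem hx.1 hy.1, by
          rw [Commute.mul_pow (CfsgLib.Solv.commute_of_isMulCommutative hx.1 hy.1), hx.2, hy.2, mul_one]⟩
        inv_mem' := fun {x} hx => ⟨A.inv_mem hx.1, by rw [inv_pow, hx.2, inv_one]⟩ }
    have hlt := hthin Z ⟨fun z hz g => ⟨hAn.conj_mem z hz.1 g, by rw [conj_pow, hz.2]; simp⟩⟩
      (fun z hz => hAV hz.1)
      ⟨⟨fun x y => Subtype.ext (CfsgLib.Solv.commute_of_isMulCommutative x.2.1 y.2.1)⟩⟩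
      fun z hz => hz.2
    have hle : Subgroup.zpowers c ≤ Z := Subgroup.zpowers_le.2 ⟨hcA, hcp⟩
    have hZ : Subgroup.zpowers c = Z := by
      refine Subgroup.eq_of_le_of_card_ge hle ?_
      obtain ⟨k, hk⟩ := IsPGroup.iff_card.1 (h.isPGroup_vsub.to_le (fun z hz => hAV hz.1) : IsPGroup p Z)
      rw [hk] at hlt ⊢
      have h2 := (Nat.pow_lt_pow_iff_right (Fact.out : p.Prime).one_lt).1 hlt
      rw [Nat.card_zpowers, orderOf_eq_prime hcp hc1]
      calc p ^ k ≤ p ^ 1 := Nat.pow_le_pow_right (by omega) (by omega)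
        _ = p := pow_one p
    exact hZ.ge ⟨hz, hzp⟩
  -- the elements of `V` centralizing `D`
  set C₀ := vsub φ ⊓ Subgroup.centralizer ({a, b} : Set G) with hC₀
  have hcA' : ∀ x ∈ C, c * x = x * c := fun x hx => hAcent c hcA x hx
  have hzp : ∀ x ∈ Subgroup.zpowers c, x ∈ A := fun x hx => Subgroup.zpowers_le.2 hcA hx
  have hca : c * a = a * c := hcA' a (hBC haB)
  have hcb : c * b = b * c := hcA' b (hBC hbB)
  have hconja : b⁻¹ * a * b = a * c := by simp [hcdef, mul_assoc]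
  have hsplit : ∀ v ∈ vsub φ, ∃ m n : ℕ, a ^ m * b ^ n * v ∈ C₀ := by
    intro v hv
    have haux : ∀ d ∈ D, ∃ i : ℕ, v * d * v⁻¹ = d * c ^ i := by
      intro d hd
      have h1 : v * d * v⁻¹ * d⁻¹ ∈ A := (hDmem.1 hd).1.1.2 v hv
      have hd' := hDmem.1 (hDn.conj_mem d hd v)
      have h2 : (v * d * v⁻¹ * d⁻¹) ^ p = 1 :=
        (hDmem.1 (D.mul_mem (hDn.conj_mem d hd v) (D.inv_mem hd))).2
      obtain ⟨i, hi⟩ := (isOfFinOrder_of_finite c).mem_powers_iff_mem_zpowers.2 (hroot _ h1 h2)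
      have hi : c ^ i = v * d * v⁻¹ * d⁻¹ := hi
      exact ⟨i, by
        rw [hi]
        have := hAcent _ h1 d (hBC (hDmem.1 hd).1)
        rw [← this]; simp [mul_assoc]⟩
    obtain ⟨i, hi⟩ := haux a ha
    obtain ⟨j, hj⟩ := haux b hb
    -- `b^n` moves `a`, `a^m` moves `b`
    have hac : Commute a c := hca.symm
    have hbc : Commute b c := hcb.symm
    have hbn : ∀ n : ℕ, b ^ n * (a * c ^ n) * (b ^ n)⁻¹ = a := by
      intro n
      induction n with
      | zero => simp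
      | succ n ih =>
        have h3 : b * (a * c ^ (n + 1)) * b⁻¹ = a * c ^ n := by
          rw [pow_succ' c n, ← mul_assoc a, ← hconja]
          calc b * (b⁻¹ * a * b * c ^ n) * b⁻¹ = a * (b * c ^ n) * b⁻¹ := by simp [mul_assoc]
            _ = a * c ^ n := by rw [(hbc.pow_right n).eq]; simp [mul_assoc]
        calc b ^ (n + 1) * (a * c ^ (n + 1)) * (b ^ (n + 1))⁻¹
            = b ^ n * (b * (a * c ^ (n + 1)) * b⁻¹) * (b ^ n)⁻¹ := by
              simp [pow_succ, mul_assoc]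
          _ = a := by rw [h3, ih]
    have hconjb : a * b * a⁻¹ = b * c := by
      calc a * b * a⁻¹ = b * (a * c) * a⁻¹ := by rw [← hconja]; simp [mul_assoc]
        _ = b * c := by rw [hac.eq]; simp [mul_assoc]
    have ham : ∀ m : ℕ, a ^ m * b * (a ^ m)⁻¹ = b * c ^ m := by
      intro m
      induction m with
      | zero => simp
      | succ m ih =>
        calc a ^ (m + 1) * b * (a ^ (m + 1))⁻¹ = a * (a ^ m * b * (a ^ m)⁻¹) * a⁻¹ := by
              simp [pow_succ', mul_assoc]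
          _ = (a * b * a⁻¹) * (a * c ^ m * a⁻¹) := by rw [ih]; simp [mul_assoc]
          _ = b * c ^ (m + 1) := by
              rw [hconjb, (hac.pow_right m).eq, mul_inv_cancel_right, pow_succ', mul_assoc]
    -- choose `n = i` and `m ≡ -j`
    refine ⟨(p - 1) * j, i, ⟨(vsub φ).mul_mem ((vsub φ).mul_mem ((vsub φ).pow_mem (hDV ha) _)
      ((vsub φ).pow_mem (hDV hb) _)) hv, ?_⟩⟩
    set m := (p - 1) * j
    have hmj : c ^ (m + j) = 1 := by
      have hp' : (p - 1) * j + j = p * j := by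
        rw [← Nat.succ_mul]; congr 1; omega
      rw [hp', pow_mul, hcp, one_pow]
    have e1 : a ^ m * b ^ i * v * a * (a ^ m * b ^ i * v)⁻¹ = a := by
      calc a ^ m * b ^ i * v * a * (a ^ m * b ^ i * v)⁻¹
          = a ^ m * (b ^ i * (v * a * v⁻¹) * (b ^ i)⁻¹) * (a ^ m)⁻¹ := by simp [mul_assoc]
        _ = a := by
            rw [hi, hbn, ((Commute.refl a).pow_left m).eq, mul_inv_cancel_right]
    have e2 : a ^ m * b ^ i * v * b * (a ^ m * b ^ i * v)⁻¹ = b := by
      calc a ^ m * b ^ i * v * b * (a ^ m * b ^ i * v)⁻¹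
          = a ^ m * (b ^ i * (v * b * v⁻¹) * (b ^ i)⁻¹) * (a ^ m)⁻¹ := by simp [mul_assoc]
        _ = a ^ m * (b * c ^ j) * (a ^ m)⁻¹ := by
            rw [hj, ((((Commute.refl b).pow_left i)).mul_right ((hbc.pow_right j).pow_left i)).eq,
              mul_inv_cancel_right]
        _ = (a ^ m * b * (a ^ m)⁻¹) * (a ^ m * c ^ j * (a ^ m)⁻¹) := by simp [mul_assoc]
        _ = b := by
            rw [ham, ((hac.pow_right j).pow_left m).eq, mul_inv_cancel_right, mul_assoc, ← pow_add,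
              hmj, mul_one]
    intro x hx
    rcases hx with rfl | rfl
    · exact (mul_inv_eq_iff_eq_mul.1 e1).symm
    · exact (mul_inv_eq_iff_eq_mul.1 e2).symm
  -- `C₀` is cyclic
  have hrootC₀ : ∀ y ∈ C₀, y ^ p = 1 → y ∈ Subgroup.zpowers c := by
    intro y hy hyp
    have hya : y * a = a * y := (hy.2 a (by simp)).symm
    have hyb : y * b = b * y := (hy.2 b (by simp)).symm
    have hyc : c * y = y * c := by
      have h1 : Commute y a := hya
      have h2 : Commute y b := hyb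
      exact ((((h1.inv_right).mul_right h2.inv_right).mul_right h1).mul_right h2).symm.eq
    have haz : a ∉ Subgroup.zpowers c := fun hm => hab (hAcent a (hzp a hm) b (hBC hbB))
    have hmem := no_rank_three h.rank hcp hap hyp hca hyc hya.symm hc1 haz
    -- write `y = c^i a^k`
    have hform : ∀ z ∈ Subgroup.closure ({c, a} : Set G), ∃ i k : ℤ, z = c ^ i * a ^ k := by
      intro z hz
      induction hz using Subgroup.closure_induction with
      | mem x hx =>
        rcases hx with rfl | rfl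
        · exact ⟨1, 0, by simp⟩
        · exact ⟨0, 1, by simp⟩
      | one => exact ⟨0, 0, by simp⟩
      | mul x y _ _ ihx ihy =>
        obtain ⟨i, k, rfl⟩ := ihx
        obtain ⟨i', k', rfl⟩ := ihy
        refine ⟨i + i', k + k', ?_⟩
        rw [zpow_add, zpow_add, mul_assoc, ← mul_assoc (a ^ k),
          ((show Commute a c from hca.symm).zpow_zpow k i').eq]
        simp [mul_assoc]
      | inv x _ ih =>
        obtain ⟨i, k, rfl⟩ := ih
        refine ⟨-i, -k, ?_⟩
        rw [mul_inv_rev, ← zpow_neg, ← zpow_neg]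
        exact ((show Commute a c from hca.symm).zpow_zpow (-k) (-i)).eq
    obtain ⟨i, k, hik⟩ := hform y hmem
    suffices hk : a ^ k = 1 by
      rw [hik, hk, mul_one]; exact Subgroup.zpow_mem_zpowers c i
    by_cases hdvd : (p : ℤ) ∣ k
    · obtain ⟨l, rfl⟩ := hdvd
      rw [zpow_mul, zpow_natCast, hap, one_zpow]
    · exfalso
      apply hab
      have hk1 : Commute (a ^ k) b := by
        have : a ^ k = c ^ (-i) * y := by rw [hik]; simp [← mul_assoc, ← zpow_add]
        rw [this]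
        exact ((show Commute c b from hcb).zpow_left _).mul_left hyb
      obtain ⟨u, w, huw⟩ : IsCoprime k (p : ℤ) :=
        (((Nat.prime_iff_prime_int.1 (Fact.out : p.Prime)).coprime_iff_not_dvd).2 hdvd).symm
      have : a = (a ^ k) ^ u := by
        calc a = a ^ (u * k + w * (p : ℤ)) := by rw [huw, zpow_one]
          _ = (a ^ k) ^ u := by
            rw [zpow_add, mul_comm w, zpow_mul, zpow_mul, zpow_natCast, hap, one_zpow, mul_one,
              ← zpow_mul, ← zpow_mul, mul_comm]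
      rw [this]
      exact (hk1.zpow_left u).eq
  haveI hC₀c : IsCyclic C₀ := by
    refine isCyclic_of_roots hp2 (h.isPGroup_vsub.to_le inf_le_left) fun x y hx hy hx1 => ?_
    have hx' := hrootC₀ x x.2 (congrArg Subtype.val hx)
    have hy' := hrootC₀ y y.2 (congrArg Subtype.val hy)
    have hle : Subgroup.zpowers (x : G) ≤ Subgroup.zpowers c := Subgroup.zpowers_le.2 hx'
    have heq : Subgroup.zpowers (x : G) = Subgroup.zpowers c := Subgroup.eq_of_le_of_card_ge hle (by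
      rw [Nat.card_zpowers, Nat.card_zpowers, orderOf_eq_prime hcp hc1,
        orderOf_eq_prime (congrArg Subtype.val hx : (x : G) ^ p = 1) fun he => hx1 (Subtype.ext he)])
    obtain ⟨i, hi⟩ := Subgroup.mem_zpowers_iff.1 (heq.ge hy')
    exact ⟨i, Subtype.ext (by simpa using hi)⟩
  -- `C₀` centralizes all of `D`, so is normal
  have hDgen : ∀ d ∈ D, ∃ m n : ℕ, ∃ x ∈ Subgroup.zpowers c, d = a ^ m * b ^ n * x := by
    intro d hd
    obtain ⟨m, n, hmn⟩ := hsplit d⁻¹ (hDV (D.inv_mem hd))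
    have hmem : a ^ m * b ^ n * d⁻¹ ∈ D := D.mul_mem (D.mul_mem (D.pow_mem ha m) (D.pow_mem hb n)) (D.inv_mem hd)
    have hx := hrootC₀ _ hmn (hDmem.1 hmem).2
    refine ⟨m, n, (a ^ m * b ^ n)⁻¹ * d, ?_, by simp [mul_assoc]⟩
    have hxA := hzp _ hx
    have hd' : d⁻¹ * (a ^ m * b ^ n) = a ^ m * b ^ n * d⁻¹ := by
      have := hAcent _ hxA d (hBC (hDmem.1 hd).1)
      rw [inv_mul_cancel_right] at this
      rw [inv_mul_eq_iff_eq_mul, ← this]
    rw [← inv_mem_iff, mul_inv_rev, inv_inv, hd']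
    exact hx
  have hC₀D : ∀ e ∈ C₀, ∀ d ∈ D, d * e = e * d := by
    intro e he d hd
    obtain ⟨m, n, x, hx, rfl⟩ := hDgen d hd
    obtain ⟨i, rfl⟩ := Subgroup.mem_zpowers_iff.1 hx
    have h1 : Commute e a := (he.2 a (by simp)).symm
    have h2 : Commute e b := (he.2 b (by simp)).symm
    have h3 : Commute e c := ((h1.inv_right.mul_right h2.inv_right).mul_right h1).mul_right h2
    exact (((h1.pow_right m).mul_right (h2.pow_right n)).mul_right (h3.zpow_right i)).symm.eq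
  haveI hC₀n : C₀.Normal := ⟨fun e he g => by
    refine ⟨(inferInstance : (vsub φ).Normal).conj_mem e he.1 g, fun x hx => ?_⟩
    have hxD : x ∈ D := by rcases hx with rfl | rfl <;> assumption
    have := hC₀D e he _ (hDn.conj_mem x hxD g⁻¹)
    calc x * (g * e * g⁻¹) = g * ((g⁻¹ * x * g⁻¹⁻¹) * e) * g⁻¹ := by simp [mul_assoc]
      _ = g * (e * (g⁻¹ * x * g⁻¹⁻¹)) * g⁻¹ := by rw [this]
      _ = g * e * g⁻¹ * x := by simp [mul_assoc]⟩
  have hC₀fix : ∀ e ∈ C₀, t * e * t = e := fun e he => h.t_fixes_cyclic he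
  have hC₀ker : ∀ e ∈ C₀, φ e = 1 := fun e he => h.fixed_le_ker he.1 (hC₀fix e he)
  have hcC₀ : c ∈ C₀ := ⟨hAV hcA, fun x hx => by
    rcases hx with rfl | rfl
    · exact hca.symm
    · exact hcb.symm⟩
  -- images of `a`, `b` generate the translations
  have hphi : ∀ M ∈ trans (p := p), ∃ m n : ℕ, M = φ a ^ m * φ b ^ n := by
    intro M hM
    obtain ⟨g, hg⟩ := h.surj M⁻¹
    have hgV : g ∈ vsub φ := show φ g ∈ trans from hg ▸ (trans (p := p)).inv_mem hM
    obtain ⟨m, n, hmn⟩ := hsplit g hgV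
    refine ⟨m, n, ?_⟩
    have := hC₀ker _ hmn
    rw [map_mul, map_mul, map_pow, map_pow, hg, mul_inv_eq_one] at this
    exact this.symm
  have hindep := trans_generated card_trans hphi (trans_pow_p (hDV ha)) (trans_pow_p (hDV hb))
    (hDV ha) (hDV hb)
  have hDker : ∀ d ∈ D, φ d = 1 → d ∈ Subgroup.zpowers c := by
    intro d hd hd1
    obtain ⟨m, n, x, hx, rfl⟩ := hDgen d hd
    obtain ⟨i, rfl⟩ := Subgroup.mem_zpowers_iff.1 hx
    rw [map_mul, map_mul, map_pow, map_pow, map_zpow, hC₀ker c hcC₀, one_zpow, mul_one] at hd1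
    obtain ⟨⟨k, rfl⟩, ⟨l, rfl⟩⟩ := hindep m n hd1
    rw [pow_mul, hap, one_pow, pow_mul, hbp, one_pow, one_mul, one_mul]
    exact Subgroup.zpow_mem_zpowers c i
  have hcfix : ∀ x ∈ Subgroup.zpowers c, t * x * t = x := fun x hx => hAt x (hzp x hx)
  -- fixed points of `t` in `V` lie in `C₀`
  have hfixV : ∀ v ∈ vsub φ, t * v * t = v → v ∈ C₀ := by
    intro v hv hvf
    obtain ⟨m, n, hmn⟩ := hsplit v hv
    set e := a ^ m * b ^ n * v
    have he := hC₀fix e hmn
    set d := a ^ m * b ^ n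
    have hdf : t * d * t = d := by
      have hd' : d = e * v⁻¹ := by simp [e, d]
      have hvi : t * v⁻¹ * t = v⁻¹ := by
        conv_rhs => rw [← hvf]
        simp [mul_inv_rev, h.inv_t, mul_assoc]
      rw [hd']
      conv_rhs => rw [← he, ← hvi]
      simp only [mul_assoc]; simp [← mul_assoc t t, h.tt]
    have hdD : d ∈ D := D.mul_mem (D.pow_mem ha m) (D.pow_mem hb n)
    have hdker := h.fixed_le_ker (hDV hdD) hdf
    have := hDker d hdD hdker
    have hd0 : d ∈ C₀ := Subgroup.zpowers_le.2 hcC₀ this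
    have : v = d⁻¹ * e := by simp [e, d, mul_assoc]
    rw [this]; exact C₀.mul_mem (C₀.inv_mem hd0) hmn
  -- an inverted element of `D` over `(1, 0)`
  obtain ⟨d, hd, hdi, hdf, hd1⟩ : ∃ d ∈ D, t * d * t = d⁻¹ ∧
      (∀ s : ZMod p, up s * φ d = φ d * up s) ∧ φ d ≠ 1 := by
    obtain ⟨m, n, hmn⟩ := hphi _ (mem_trans_iff.2 ⟨1, 0, rfl⟩)
    set d₀ := a ^ m * b ^ n with hd₀
    have hd₀D : d₀ ∈ D := D.mul_mem (D.pow_mem ha m) (D.pow_mem hb n)
    have htD : t * d₀ * t ∈ D := by simpa [h.inv_t] using hDn.conj_mem d₀ hd₀D t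
    have hφd : φ (d₀⁻¹ * (t * d₀ * t)) = Qd.mk 1 0 0 1 (-2) 0 (by ring) := by
      have hφd₀ : φ d₀ = Qd.mk 1 0 0 1 1 0 (by ring) := by rw [hd₀, map_mul, map_pow, map_pow, ← hmn]
      clear_value d₀
      rw [map_mul, map_inv, map_mul, map_mul, h.tz, hφd₀,
        inv_mul_eq_iff_eq_mul, z, mk_mul, mk_mul, mk_mul]
      exact mk_congr (by ring) (by ring) (by ring) (by ring) (by ring) (by ring)
    refine ⟨d₀⁻¹ * (t * d₀ * t), D.mul_mem (D.inv_mem hd₀D) htD, h.inverted d₀, fun s => ?_, ?_⟩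
    · rw [hφd]; exact up_fixes s _
    · rw [hφd, ← Qd.mk_one]
      intro he
      exact h.two_ne (neg_eq_zero.1 (trans_inj he).1)
  -- an element of order `p` over a transvection, centralizing `t` and `c`
  obtain ⟨hh, hhd, hht, hhc⟩ := h.lift_diag
  obtain ⟨x, hxu, hxt, hxc⟩ := h.lift_up 1
  have hcent : ∀ g ∈ commutator G, ∀ e ∈ C₀, g * e = e * g := fun g hg e he =>
    mul_inv_eq_iff_eq_mul.1 (commutator_centralizes hg he)
  have hfix_mem : ∀ g : G, φ g = 1 → g * t = t * g → g ∈ C₀ := fun g hg hgt =>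
    hfixV g (ker_le_vsub hg) (by rw [← hgt, mul_assoc, h.tt, mul_one])
  set y := hh * x * hh⁻¹ * x⁻¹ with hy
  have hφy : φ y = up 3 := by
    rw [hy, map_mul, map_mul, map_mul, map_inv, map_inv, hhd, hxu, mul_inv_eq_iff_eq_mul,
      mul_inv_eq_iff_eq_mul, diag_up, up_mul]
    congr 2; ring
  have hyt : y * t = t * y :=
    ((((show Commute hh t from hht).mul_left hxt).mul_left (Commute.inv_left hht)).mul_left
      (Commute.inv_left hxt)).eq
  have hupn : ∀ (s : ZMod p) (n : ℕ), (up s) ^ n = up ((n : ZMod p) * s) := by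
    intro s n
    induction n with
    | zero =>
      rw [pow_zero, ← Qd.mk_one, up]
      exact mk_congr rfl (by simp) rfl rfl rfl rfl
    | succ n ih => rw [pow_succ, ih, up_mul]; congr 1; push_cast; ring
  have hxp : x ^ p ∈ C₀ := by
    refine hfix_mem _ ?_ ((show Commute x t from hxt).pow_left p).eq
    rw [map_pow, hxu, hupn, ZMod.natCast_self, zero_mul, ← Qd.mk_one, up]
  have hyp : y ^ p = 1 := by
    have h4 : φ (hh * x * hh⁻¹) = φ (x ^ 4) := by
      rw [map_mul, map_mul, map_inv, hhd, hxu, map_pow, hxu, hupn, mul_inv_eq_iff_eq_mul, diag_up]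
      congr 2; push_cast; ring
    set e := hh * x * hh⁻¹ * (x ^ 4)⁻¹ with he'
    have he : e ∈ C₀ := hfix_mem e (by rw [he', map_mul, map_inv, h4, mul_inv_cancel])
      (((((show Commute hh t from hht).mul_left hxt).mul_left (Commute.inv_left hht))).mul_left
        (((show Commute x t from hxt).pow_left 4).inv_left)).eq
    have hcx : Commute (hh * x * hh⁻¹) x := by
      have : hh * x * hh⁻¹ = e * x ^ 4 := by rw [he']; simp
      rw [this]
      exact (show Commute e x from (hcent x hxc e he).symm).mul_left ((Commute.refl x).pow_left 4)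
    rw [hy, hcx.inv_right.mul_pow, conj_pow, inv_pow, hcent hh hhc _ hxp, mul_inv_cancel_right,
      mul_inv_cancel]
  have hyC : y * c = c * y := hcent y (mul_mem (mul_mem (mul_mem hhc hxc) (inv_mem hhc)) (inv_mem hxc)) c hcC₀
  -- `y` centralizes `d`
  have hyd : y * d = d * y := by
    have h1 : y * d * y⁻¹ * d⁻¹ ∈ D := D.mul_mem (hDn.conj_mem d hd y) (D.inv_mem hd)
    have h2 : φ (y * d * y⁻¹ * d⁻¹) = 1 := by
      rw [map_mul, map_mul, map_mul, map_inv, map_inv, hφy, hdf, mul_inv_cancel_right, mul_inv_cancel]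
    have h3 := hDker _ h1 h2
    have h4 := hcfix _ h3
    set w := y * d * y⁻¹ * d⁻¹ with hw
    have h5 : t * (y * d * y⁻¹) * t = (y * d * y⁻¹)⁻¹ := by
      calc t * (y * d * y⁻¹) * t = (t * y) * d * (t * y)⁻¹ := by
            simp only [mul_inv_rev, h.inv_t, mul_assoc]
        _ = y * (t * d * t) * y⁻¹ := by rw [← hyt]; simp only [mul_inv_rev, h.inv_t, mul_assoc]
        _ = (y * d * y⁻¹)⁻¹ := by rw [hdi]; simp [mul_assoc]
    have hwd : w * d = y * d * y⁻¹ := by rw [hw, inv_mul_cancel_right]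
    have h6 : t * (w * d) * t = w * d⁻¹ := by
      have : t * (w * d) * t = (t * w * t) * (t * d * t) := by
        simp only [mul_assoc]; simp [← mul_assoc t t, h.tt]
      rw [this, h4, hdi]
    rw [← hwd] at h5
    rw [h6, mul_inv_rev, ← (show Commute w d⁻¹ from
      (show Commute w d from hAcent w (hzp w h3) d (hBC (hDmem.1 hd).1)).inv_right).inv_left.eq] at h5
    have h7 := mul_right_cancel h5
    have hw1 : w = 1 := h.sq_eq_one (hAV (hzp w h3)) (by nth_rewrite 1 [h7]; exact inv_mul_cancel w)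
    rw [hw, mul_inv_eq_one, mul_inv_eq_iff_eq_mul] at hw1
    exact hw1
  have hdc : d ∉ Subgroup.zpowers c := fun hm => hd1 (hC₀ker d (Subgroup.zpowers_le.2 hcC₀ hm))
  have hmem := no_rank_three h.rank hcp (hDmem.1 hd).2 hyp (hcA' d (hBC (hDmem.1 hd).1)) hyC.symm
    hyd.symm hc1 hdc
  have hyV : y ∈ vsub φ :=
    (Subgroup.closure_le _).2 (by
      intro z hz
      rcases hz with rfl | rfl
      · exact hAV hcA
      · exact hDV hd) hmem
  exact up_not_trans h.three_ne (hφy ▸ (hyV : φ y ∈ trans))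

end CfsgLib.Fus.Qd.Setup

namespace CfsgLib.Fus.Qd

/-- `p > 3`, rank at most two, `p`-group kernel over `Qd(p)`: the kernel is trivial. -/
theorem ker_eq_bot {G : Type*} [Group G] [Finite G] {p : ℕ} [Fact p.Prime] (hp : 3 < p)
    {φ : G →* ↥(Cfsg.qd p)} (hφ : Function.Surjective φ) (hU : IsPGroup p φ.ker)
    (hr : Cfsg.PRankLE p 2 G) : φ.ker = ⊥ := by
  obtain ⟨t, h⟩ := Setup.exists_setup hp hφ hU hr
  by_cases hZ : ∀ Z : Subgroup G, Z.Normal → Z ≤ vsub φ → IsMulCommutative Z →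
      (∀ z ∈ Z, z ^ p = 1) → Nat.card Z < p ^ 2
  · exact h.ker_eq_bot_of_thin hZ
  · push_neg at hZ
    obtain ⟨Z, hZn, hZV, hZc, hZe, hZ2⟩ := hZ
    haveI := hZn
    exact h.ker_eq_bot_of_square hZV hZc hZe (le_antisymm (hr Z hZc hZe) hZ2)

end CfsgLib.Fus.Qd
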