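import Cfsg.Agent.Fus.QdRankMain
import Cfsg.Agent.Fus.CoreBasic
import Cfsg.Prelude.Def_LocalEven

/-!
Reduction of `Qd(p)`-involvement to `p'`-involvement in `p`-rank two.
-/

set_option autoImplicit false
set_option linter.style.haveILetI false

open Cfsg

namespace CfsgLib.Fus.Qd

variable {p : ℕ} [Fact p.Prime]

/-- `p`-rank at most `k` passes to a quotient by a subgroup of order prime to `p`. -/
theorem rankLE_quotient {G : Type*} [Group G] [Finite G] {k : ℕ} (hr : Cfsg.PRankLE p k G)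
    (Q : Subgroup G) [Q.Normal] (hQ : (Nat.card Q).Coprime p) : Cfsg.PRankLE p k (G ⧸ Q) := by
  intro A hA hAp
  haveI := hA
  set M := A.comap (QuotientGroup.mk' Q) with hM
  obtain ⟨P⟩ : Nonempty (Sylow p M) := inferInstance
  let f : (P : Subgroup M) →* G ⧸ Q := ((QuotientGroup.mk' Q).comp M.subtype).comp (P : Subgroup M).subtype
  have hf : Function.Injective f := by
    refine (injective_iff_map_eq_one f).2 fun x hx => ?_
    have hxQ : ((x : M) : G) ∈ Q := (QuotientGroup.eq_one_iff _).1 hx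
    obtain ⟨j, hj⟩ := P.isPGroup' x
    have h1 : orderOf ((x : M) : G) ∣ p ^ j :=
      orderOf_dvd_of_pow_eq_one (congrArg (fun z : (P : Subgroup M) => ((z : M) : G)) hj)
    have h2 : orderOf ((x : M) : G) ∣ Nat.card Q := by
      rw [← Subgroup.orderOf_mk (H := Q) ((x : M) : G) hxQ]
      exact orderOf_dvd_natCard _
    have h3 := Nat.eq_one_of_dvd_coprimes (hQ.pow_right j) h2 h1
    exact Subtype.ext (Subtype.ext (orderOf_eq_one_iff.1 h3))
  have hfr : f.range ≤ A := by rintro _ ⟨x, rfl⟩; exact (x : M).2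
  set P' := (P : Subgroup M).map M.subtype
  have hP'c : IsMulCommutative P' := by
    refine ⟨⟨fun a b => Subtype.ext ?_⟩⟩
    obtain ⟨a, x, hx, rfl⟩ := a
    obtain ⟨b, y, hy, rfl⟩ := b
    have h1 := CfsgLib.Solv.commute_of_isMulCommutative (hfr ⟨⟨x, hx⟩, rfl⟩) (hfr ⟨⟨y, hy⟩, rfl⟩)
    rw [← map_mul, ← map_mul] at h1
    exact congrArg (fun z : (P : Subgroup M) => ((z : M) : G)) (hf h1)
  have hP'p : ∀ a ∈ P', a ^ p = 1 := by
    rintro _ ⟨x, hx, rfl⟩
    have h1 : f ⟨x, hx⟩ ^ p = 1 := hAp _ (hfr ⟨⟨x, hx⟩, rfl⟩)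
    rw [← map_pow, ← map_one f] at h1
    exact congrArg (fun z : (P : Subgroup M) => ((z : M) : G)) (hf h1)
  refine le_trans (le_of_eq ?_) (hr P' hP'c hP'p)
  -- orders
  rw [← Nat.card_congr ((P : Subgroup M).equivMapOfInjective _ M.subtype_injective).toEquiv]
  have hA' : IsPGroup p A := fun a => ⟨1, Subtype.ext (by rw [pow_one]; exact hAp a a.2)⟩
  obtain ⟨j, hj⟩ := IsPGroup.iff_card.1 hA'
  have hcard : Nat.card M = Nat.card Q * Nat.card A := by
    have h1 := M.card_mul_index
    have h3 := A.card_mul_index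
    rw [hM, Subgroup.index_comap_of_surjective _ (QuotientGroup.mk'_surjective Q)] at h1
    rw [← Subgroup.index_eq_card] at h3
    have h4 := Q.card_mul_index
    rw [← h3, ← mul_assoc, ← h1] at h4
    rw [hM]
    exact (Nat.eq_of_mul_eq_mul_right (Nat.pos_of_ne_zero Subgroup.index_ne_zero_of_finite) h4).symm
  rw [P.card_eq_multiplicity, hcard, hj, Nat.factorization_mul Nat.card_pos.ne' (pow_pos (Fact.out : p.Prime).pos j).ne',
    Finsupp.add_apply, Nat.factorization_eq_zero_of_not_dvd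
      ((Fact.out : p.Prime).coprime_iff_not_dvd.1 hQ.symm), zero_add,
    Nat.Prime.factorization_pow Fact.out, Finsupp.single_eq_same]

/-- Nilpotent kernels over `Qd(p)` in rank two have order prime to `p`. -/
theorem coprime_ker (hp : 3 < p) : ∀ {G : Type*} [Group G] [Finite G] (φ : G →* ↥(Cfsg.qd p)),
    Function.Surjective φ → Group.IsNilpotent φ.ker → Cfsg.PRankLE p 2 G →
    (Nat.card φ.ker).Coprime p := by
  intro G _ _ φ hφ hnil hr
  suffices key : ∀ (n : ℕ) (Q : Subgroup G) (_ : Q.Normal), Q ≤ φ.ker → (Nat.card Q).Coprime p →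
      Q.index = n → (Nat.card φ.ker).Coprime p from
    key _ ⊥ inferInstance bot_le (by simp) rfl
  intro n
  induction n using Nat.strong_induction_on with
  | _ n ih =>
  intro Q hQn hQle hQc hn
  by_cases hpg : IsPGroup p ↥(φ.ker.map (QuotientGroup.mk' Q))
  · let φ' : G ⧸ Q →* ↥(Cfsg.qd p) := QuotientGroup.lift Q φ hQle
    have hker : φ'.ker = φ.ker.map (QuotientGroup.mk' Q) := QuotientGroup.ker_lift Q φ hQle
    have h1 := ker_eq_bot hp (φ := φ') (QuotientGroup.lift_surjective_of_surjective Q φ hφ hQle)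
      (hker ▸ hpg) (rankLE_quotient hr Q hQc)
    rw [hker, Subgroup.map_eq_bot_iff, QuotientGroup.ker_mk'] at h1
    exact Nat.Coprime.coprime_dvd_left (Subgroup.card_dvd_of_le h1) hQc
  · -- add a Sylow subgroup for another prime
    obtain ⟨q, hq, hqp, hqd⟩ : ∃ q, q.Prime ∧ q ≠ p ∧ q ∣ Nat.card ↥(φ.ker.map (QuotientGroup.mk' Q)) := by
      by_contra hcon
      push_neg at hcon
      exact hpg (IsPGroup.iff_card.2 ⟨_, Nat.eq_prime_pow_of_unique_prime_dvd Nat.card_pos.ne'
        fun hd hdvd => by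
          by_contra hne
          exact hcon _ hd hne hdvd⟩)
    haveI : Fact q.Prime := ⟨hq⟩
    obtain ⟨R⟩ : Nonempty (Sylow q φ.ker) := inferInstance
    haveI := hnil
    haveI hRn : (R : Subgroup φ.ker).Normal := by
      have key := ((Group.isNilpotent_of_finite_tfae (G := φ.ker)).out 0 3).1 hnil
      exact key q ⟨hq⟩ R
    haveI hRc : (R : Subgroup φ.ker).Characteristic := R.characteristic_of_normal hRn
    haveI hRG : ((R : Subgroup φ.ker).map φ.ker.subtype).Normal := ConjAct.normal_of_characteristic_of_normal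
    set R' := (R : Subgroup φ.ker).map φ.ker.subtype
    have hR'le : R' ≤ φ.ker := Subgroup.map_subtype_le _
    have hR'c : (Nat.card R').Coprime p := by
      rw [← Nat.card_congr ((R : Subgroup φ.ker).equivMapOfInjective _ φ.ker.subtype_injective).toEquiv,
        R.card_eq_multiplicity]
      exact ((Nat.coprime_primes hq Fact.out).2 hqp).pow_left _
    have hc : (Nat.card ↥(R' ⊔ Q)).Coprime p :=
      Nat.Coprime.coprime_dvd_left (card_sup_dvd_of_normal R' Q) (Nat.Coprime.mul_left hR'c hQc)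
    refine ih _ ?_ (R' ⊔ Q) inferInstance (sup_le hR'le hQle) hc rfl
    rw [← hn]
    refine Subgroup.index_strictAnti (lt_of_le_of_ne le_sup_right fun he => ?_)
    have hR'Q : R' ≤ Q := he ▸ le_sup_left
    have h2 : (Nat.card ↥(φ.ker.map (QuotientGroup.mk' Q))) * Nat.card Q = Nat.card φ.ker := by
      have hk : ((QuotientGroup.mk' Q).comp φ.ker.subtype).ker = Q.subgroupOf φ.ker := by
        ext x; simp [Subgroup.mem_subgroupOf]
      have := ((QuotientGroup.mk' Q).comp φ.ker.subtype).ker.card_mul_index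
      rw [Subgroup.index_ker, MonoidHom.range_comp, Subgroup.range_subtype, hk,
        Nat.card_congr (Subgroup.subgroupOfEquivOfLe hQle).toEquiv] at this
      rw [← this, mul_comm]
    have h3 : q ^ ((Nat.card φ.ker).factorization q) ∣ Nat.card Q := by
      rw [← R.card_eq_multiplicity,
        Nat.card_congr ((R : Subgroup φ.ker).equivMapOfInjective _ φ.ker.subtype_injective).toEquiv]
      exact Subgroup.card_dvd_of_le hR'Q
    have h4 : q * q ^ ((Nat.card φ.ker).factorization q) ∣ Nat.card φ.ker :=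
      (Nat.mul_dvd_mul hqd h3).trans (dvd_of_eq h2)
    rw [← pow_succ', (Nat.Prime.pow_dvd_iff_le_factorization hq Nat.card_pos.ne')] at h4
    omega

/-- The forward direction of the involvement criterion. -/
theorem involves_iff {G : Type*} [Group G] [Finite G] (hp : 3 < p) (hr : Cfsg.PRankLE p 2 G) :
    Cfsg.Involves ↥(Cfsg.qd p) G ↔ ∃ (H K : Subgroup G) (_ : (K.subgroupOf H).Normal),
      K ≤ H ∧ (Nat.card ↥K).Coprime p ∧ Nonempty (↥H ⧸ K.subgroupOf H ≃* ↥(Cfsg.qd p)) := by
  refine ⟨fun ⟨H₀, R₀, hn₀, ⟨e₀⟩⟩ => ?_, fun ⟨H, K, hn, _, _, he⟩ => ⟨H, K, hn, he⟩⟩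
  -- a subgroup minimal among those mapping onto `qd p`
  let φ₀ : H₀ →* ↥(Cfsg.qd p) := e₀.toMonoidHom.comp (QuotientGroup.mk' _)
  have hφ₀ : Function.Surjective φ₀ := e₀.surjective.comp (QuotientGroup.mk'_surjective _)
  obtain ⟨H, ⟨φ, hφ⟩, hmin⟩ := (Set.toFinite
      {H : Subgroup G | ∃ φ : H →* ↥(Cfsg.qd p), Function.Surjective φ}).exists_minimal ⟨H₀, φ₀, hφ₀⟩
  have hfr : φ.ker ≤ frattini H := by
    refine le_iInf₂ fun M hM => ?_
    by_contra hnot
    have htop : φ.ker ⊔ M = ⊤ := hM.2 _ (lt_of_le_of_ne le_sup_right fun he => hnot (he ▸ le_sup_left))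
    let M' := M.map H.subtype
    have hM'H : M' ≤ H := Subgroup.map_subtype_le M
    let ψ : M' →* ↥(Cfsg.qd p) := φ.comp (Subgroup.inclusion hM'H)
    have hψ : Function.Surjective ψ := fun y => by
      obtain ⟨g, rfl⟩ := hφ y
      obtain ⟨k, hk, m, hm, rfl⟩ := Subgroup.mem_sup_of_normal_left.1 (htop.ge (Subgroup.mem_top g))
      refine ⟨⟨m, m, hm, rfl⟩, ?_⟩
      show φ ⟨(m : G), _⟩ = φ (k * m)
      rw [map_mul, MonoidHom.mem_ker.1 hk, one_mul]
    have hHM : H ≤ M' := hmin ⟨ψ, hψ⟩ hM'H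
    refine hM.1 (eq_top_iff.2 fun x _ => ?_)
    obtain ⟨m, hm, hme⟩ := hHM x.2
    rwa [← Subtype.ext (a2 := x) hme]
  haveI := frattini_nilpotent (G := H)
  haveI : Group.IsNilpotent φ.ker :=
    nilpotent_of_mulEquiv (Subgroup.subgroupOfEquivOfLe hfr)
  have hco := coprime_ker hp φ hφ inferInstance fun A hA hAp => by
    haveI := hA
    refine le_trans (le_of_eq (Nat.card_congr (A.equivMapOfInjective _ H.subtype_injective).toEquiv))
      (hr _ inferInstance ?_)
    rintro _ ⟨a, ha, rfl⟩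
    rw [← map_pow, hAp a ha, map_one]
  have hsub : (φ.ker.map H.subtype).subgroupOf H = φ.ker :=
    Subgroup.comap_map_eq_self_of_injective H.subtype_injective _
  haveI hn : ((φ.ker.map H.subtype).subgroupOf H).Normal := by rw [hsub]; infer_instance
  exact ⟨H, φ.ker.map H.subtype, hn, Subgroup.map_subtype_le _,
    (Nat.card_congr (φ.ker.equivMapOfInjective _ H.subtype_injective).toEquiv) ▸ hco,
    ⟨(QuotientGroup.quotientMulEquivOfEq hsub).trans (QuotientGroup.quotientKerEquivOfSurjective φ hφ)⟩⟩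

end CfsgLib.Fus.Qd
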