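import Cfsg.Agent.Fus.QdSection
import Cfsg.Agent.Fus.Stability
import Cfsg.Agent.Inv.BaerSuzuki

/-!
`qd p` is not involved exactly when every section is normalizer `p`-stable.
-/

set_option autoImplicit false
set_option linter.style.haveILetI false

open Cfsg
open scoped commutatorElement

namespace CfsgLib.Dickson

open CfsgLib.Glau
open Matrix (SpecialLinearGroup)

variable {p : ℕ} [hp : Fact p.Prime]

/-- Iterating an element that moves `w` by a fixed amount. -/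
theorem conj_pow_of_fixed {Γ : Type*} [Group Γ] {l w d : Γ} (h : l * w * l⁻¹ = d * w) (hd : l * d * l⁻¹ = d) :
    ∀ n : ℕ, l ^ n * w * (l ^ n)⁻¹ = d ^ n * w := by
  intro n
  induction n with
  | zero => simp
  | succ n ih =>
    rw [pow_succ', show l * l ^ n * w * (l * l ^ n)⁻¹ = l * (l ^ n * w * (l ^ n)⁻¹) * l⁻¹ by group, ih,
      show l * (d ^ n * w) * l⁻¹ = (l * d * l⁻¹) ^ n * (l * w * l⁻¹) by rw [conj_pow]; group, hd, h, ← mul_assoc,
      ← pow_succ]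

theorem isSec_quot' {G : Type*} [Group G] (K : Subgroup G) (R : Subgroup ↥K) [R.Normal] : IsSec G (↥K ⧸ R) :=
  ⟨K, QuotientGroup.mk' R, QuotientGroup.mk'_surjective R⟩

theorem isSec_trans {A B C : Type*} [Group A] [Group B] [Group C] (h : IsSec A B) (h' : IsSec B C) : IsSec A C := by
  obtain ⟨K, f, hf⟩ := h'
  obtain ⟨K', f', hf'⟩ := h.subgroup K
  exact ⟨K', f.comp f', hf.comp hf'⟩

set_option maxHeartbeats 1000000 in
/-- Two quadratic elements not generating a `p`-group on an elementary abelian subgroup give a section `qd p`. -/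
theorem isSec_qd_of_pair (hp2 : p ≠ 2) {Γ : Type*} [Group Γ] [Finite Γ] (U : Subgroup Γ) (x y : Γ)
    (hxU : x ∈ Subgroup.normalizer (U : Set Γ)) (hyU : y ∈ Subgroup.normalizer (U : Set Γ))
    (hab : ∀ a ∈ U, ∀ b ∈ U, a * b = b * a) (hexp : ∀ a ∈ U, a ^ p = 1)
    (hqx : ∀ u ∈ U, ⁅x, ⁅x, u⁆⁆ = 1) (hqy : ∀ u ∈ U, ⁅y, ⁅y, u⁆⁆ = 1)
    (hnp : ¬ ∀ l ∈ Subgroup.closure ({x, y} : Set Γ), ∃ n : ℕ, ∀ u ∈ U, ⁅l ^ p ^ n, u⁆ = 1) :
    IsSec Γ ↥(Cfsg.qd p) := by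
  classical
  set L := Subgroup.closure ({x, y} : Set Γ) with hL
  set P : Subgroup Γ → Prop := fun W => W ≤ U ∧ x ∈ Subgroup.normalizer (W : Set Γ) ∧
    y ∈ Subgroup.normalizer (W : Set Γ) ∧ ¬ ∀ l ∈ L, ∃ n : ℕ, ∀ u ∈ W, ⁅l ^ p ^ n, u⁆ = 1 with hP
  obtain ⟨W, hW, hWmin⟩ := Set.Finite.exists_minimal (Set.toFinite {W | P W}) ⟨U, le_rfl, hxU, hyU, hnp⟩
  obtain ⟨hWU, hxW, hyW, hWnp⟩ := hW
  have hWne : W ≠ ⊥ := fun h => hWnp fun l _ => ⟨0, fun u hu => by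
    rw [h, Subgroup.mem_bot] at hu; rw [hu, commutatorElement_one_right]⟩
  obtain ⟨W₀, ⟨hW₀lt, hxW₀, hyW₀⟩, hW₀max⟩ := Set.Finite.exists_maximal (Set.toFinite
    {M : Subgroup Γ | M < W ∧ x ∈ Subgroup.normalizer (M : Set Γ) ∧ y ∈ Subgroup.normalizer (M : Set Γ)})
    ⟨⊥, bot_lt_iff_ne_bot.2 hWne, by rw [Subgroup.normalizer_eq_top_iff.2 inferInstance]; trivial,
      by rw [Subgroup.normalizer_eq_top_iff.2 inferInstance]; trivial⟩
  have hLW₀ : L ≤ Subgroup.normalizer (W₀ : Set Γ) := (Subgroup.closure_le _).2 (by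
    rintro g (rfl | rfl); exacts [hxW₀, hyW₀])
  have hLW : L ≤ Subgroup.normalizer (W : Set Γ) := (Subgroup.closure_le _).2 (by
    rintro g (rfl | rfl); exacts [hxW, hyW])
  have h₀ : ∀ l ∈ L, ∃ n : ℕ, ∀ u ∈ W₀, ⁅l ^ p ^ n, u⁆ = 1 := by
    by_contra h
    exact hW₀lt.not_ge (hWmin ⟨hW₀lt.le.trans hWU, hxW₀, hyW₀, h⟩ hW₀lt.le)
  have h₁ : ¬ ∀ l ∈ L, ∃ n : ℕ, ∀ u ∈ W, ⁅l ^ p ^ n, u⁆ ∈ W₀ := by
    intro h
    refine hWnp fun l hl => ?_
    obtain ⟨n, hn⟩ := h₀ l hl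
    obtain ⟨k, hk⟩ := h (l ^ p ^ n) (L.pow_mem hl _)
    refine ⟨n + k + 1, fun u hu => ?_⟩
    set g := (l ^ p ^ n) ^ p ^ k with hg
    have hfix : g * ⁅g, u⁆ * g⁻¹ = ⁅g, u⁆ := by
      have hc : Commute (l ^ p ^ n) ⁅g, u⁆ :=
        commutatorElement_eq_one_iff_commute.1 (hn _ (hk u hu))
      rw [(hc.pow_left (p ^ k)).eq, mul_inv_cancel_right]
    have hp' : g * u * g⁻¹ = ⁅g, u⁆ * u := by rw [commutatorElement_def]; group
    have h := conj_pow_of_fixed hp' hfix p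
    rw [hexp _ (hWU (hW₀lt.le (hk u hu))), one_mul] at h
    rw [pow_succ, pow_add, pow_mul, pow_mul, ← hg, commutatorElement_def, h, mul_inv_cancel]
  -- pass to the quotient by `W₀`
  set N := Subgroup.normalizer (W₀ : Set Γ) with hN
  let π : ↥N →* ↥N ⧸ W₀.subgroupOf N := QuotientGroup.mk' _
  have hπ : ∀ g : ↥N, π g = 1 ↔ (g : Γ) ∈ W₀ := fun g => QuotientGroup.eq_one_iff g
  have hWN : W ≤ N := fun w hw => Subgroup.mem_normalizer_iff.2 fun v => by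
    constructor
    · intro hv
      rwa [hab w (hWU hw) v (hWU (hW₀lt.le hv)), mul_inv_cancel_right]
    · intro hv
      have h := hab w (hWU hw) _ (hWU (hW₀lt.le hv))
      rw [inv_mul_cancel_right] at h
      rw [mul_left_cancel h] at hv
      exact hv
  set Wq : Subgroup (↥N ⧸ W₀.subgroupOf N) := (W.subgroupOf N).map π with hWq
  have hmemq : ∀ u (hu : u ∈ W), π ⟨u, hWN hu⟩ ∈ Wq := fun u hu => ⟨_, hu, rfl⟩
  have hnormq : ∀ (g : Γ) (hg : g ∈ N), g ∈ Subgroup.normalizer (W : Set Γ) →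
      π ⟨g, hg⟩ ∈ Subgroup.normalizer (Wq : Set (↥N ⧸ W₀.subgroupOf N)) := fun g hg hgW =>
    Subgroup.mem_normalizer_fintype (by
      rintro _ ⟨⟨u, huN⟩, hu, rfl⟩
      refine ⟨⟨g, hg⟩ * ⟨u, huN⟩ * ⟨g, hg⟩⁻¹, (Subgroup.mem_normalizer_iff.1 hgW u).1 hu, ?_⟩
      rw [map_mul, map_mul, map_inv])
  have hxL : x ∈ L := Subgroup.subset_closure (Or.inl rfl)
  have hyL : y ∈ L := Subgroup.subset_closure (Or.inr rfl)
  have hquad : ∀ (g : Γ) (hg : g ∈ N), (∀ u ∈ U, ⁅g, ⁅g, u⁆⁆ = 1) →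
      ∀ w ∈ Wq, ⁅π ⟨g, hg⟩, ⁅π ⟨g, hg⟩, w⁆⁆ = 1 := by
    rintro g hg hq _ ⟨⟨u, huN⟩, hu, rfl⟩
    rw [← map_commutatorElement, ← map_commutatorElement, hπ]
    show ⁅g, ⁅g, u⁆⁆ ∈ W₀
    rw [hq u (hWU hu)]; exact W₀.one_mem
  have hmove : ∀ (g g' : Γ) (hg : g ∈ N), g ∈ L → g' ∈ L → L ≤ Subgroup.closure ({g, g'} : Set Γ) →
      (∀ u ∈ U, ⁅g', ⁅g', u⁆⁆ = 1) → ∃ w ∈ Wq, ⁅π ⟨g, hg⟩, w⁆ ≠ 1 := by
    intro g g' hg hgL hg'L hgen hq
    by_contra hcon
    push_neg at hcon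
    refine h₁ fun l hl => ⟨1, ?_⟩
    -- the elements inducing a power of `g'` on `W / W₀`
    let D : Subgroup Γ :=
      { carrier := {l | l ∈ L ∧ ∃ i : ℤ, ∀ u ∈ W, (g' ^ i * u * (g' ^ i)⁻¹)⁻¹ * (l * u * l⁻¹) ∈ W₀}
        one_mem' := ⟨L.one_mem, 0, fun u _ => by simp⟩
        mul_mem' := by
          rintro a b ⟨ha, i, hi⟩ ⟨hb, j, hj⟩
          refine ⟨L.mul_mem ha hb, i + j, fun u hu => ?_⟩
          have hu' : b * u * b⁻¹ ∈ W := (Subgroup.mem_normalizer_iff.1 (hLW hb) u).1 hu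
          have h2 := (Subgroup.mem_normalizer_iff.1 (hLW₀ (L.zpow_mem hg'L i)) _).1 (hj u hu)
          have h3 := W₀.mul_mem h2 (hi _ hu')
          convert h3 using 1
          rw [_root_.zpow_add]; group
        inv_mem' := by
          rintro a ⟨ha, i, hi⟩
          refine ⟨L.inv_mem ha, -i, fun u hu => ?_⟩
          have hu' : a⁻¹ * u * a ∈ W := by
            simpa using (Subgroup.mem_normalizer_iff.1 (hLW (L.inv_mem ha)) u).1 hu
          have h2 := (Subgroup.mem_normalizer_iff.1 (hLW₀ (L.zpow_mem hg'L (-i))) _).1 (W₀.inv_mem (hi _ hu'))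
          convert h2 using 1
          rw [_root_.zpow_neg]; group }
    have hD : L ≤ D := hgen.trans ((Subgroup.closure_le _).2 (by
      rintro z (rfl | rfl)
      · refine ⟨hgL, 0, fun u hu => ?_⟩
        have h := (hπ _).1 ((map_commutatorElement π ⟨z, hg⟩ ⟨u, hWN hu⟩).trans (hcon _ (hmemq u hu)))
        have h' := (Subgroup.mem_normalizer_iff.1 (hWN (W.inv_mem hu)) _).1 h
        simp only [_root_.zpow_zero, one_mul, inv_one, mul_one]
        convert h' using 1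
        show _ = u⁻¹ * (z * u * z⁻¹ * u⁻¹) * u⁻¹⁻¹
        group
      · exact ⟨hg'L, 1, fun u _ => by rw [_root_.zpow_one, inv_mul_cancel]; exact W₀.one_mem⟩))
    -- `g' ^ p` is trivial on `W`
    have hgp : ∀ u ∈ W, g' ^ p * u * (g' ^ p)⁻¹ = u := fun u hu => by
      have hfix : g' * ⁅g', u⁆ * g'⁻¹ = ⁅g', u⁆ := by
        rw [(commutatorElement_eq_one_iff_commute.1 (hq u (hWU hu))).eq, mul_inv_cancel_right]
      have h := conj_pow_of_fixed (show g' * u * g'⁻¹ = ⁅g', u⁆ * u by rw [commutatorElement_def]; group) hfix p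
      rw [hexp ⁅g', u⁆ (by
        rw [commutatorElement_def]
        exact U.mul_mem (hWU ((Subgroup.mem_normalizer_iff.1 (hLW hg'L) u).1 hu)) (U.inv_mem (hWU hu))), one_mul] at h
      exact h
    obtain ⟨-, i, hi⟩ := hD hl
    have hk : ∀ k : ℕ, ∀ u ∈ W, (g' ^ ((k : ℤ) * i) * u * (g' ^ ((k : ℤ) * i))⁻¹)⁻¹ * (l ^ k * u * (l ^ k)⁻¹) ∈ W₀ := by
      intro k
      induction k with
      | zero => intro u _; simp
      | succ k ih =>
        intro u hu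
        have hu' : l ^ k * u * (l ^ k)⁻¹ ∈ W := (Subgroup.mem_normalizer_iff.1 (hLW (L.pow_mem hl k)) u).1 hu
        have h2 := (Subgroup.mem_normalizer_iff.1 (hLW₀ (L.zpow_mem hg'L i)) _).1 (ih u hu)
        have h3 := W₀.mul_mem h2 (hi _ hu')
        convert h3 using 1
        rw [Nat.cast_succ, show ((k : ℤ) + 1) * i = i + (k : ℤ) * i by ring, _root_.zpow_add, pow_succ']
        group
    have hpi : ∀ i : ℤ, ∀ u ∈ W, g' ^ ((p : ℤ) * i) * u * (g' ^ ((p : ℤ) * i))⁻¹ = u := fun i u hu => by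
      have hc : Commute (g' ^ p) u := by
        have := hgp u hu
        exact mul_inv_eq_iff_eq_mul.1 this
      rw [_root_.zpow_mul, zpow_natCast, (hc.zpow_left i).eq, mul_inv_cancel_right]
    intro u hu
    have h := hk p u hu
    rw [hpi i u hu] at h
    rw [pow_one, commutatorElement_def]
    have h' := (Subgroup.mem_normalizer_iff.1 (hWN hu) _).1 h
    convert h' using 1
    group
  refine (isSec_trans (isSec_quot' N (W₀.subgroupOf N)) (isSec_qd_of_module hp2 Wq (π ⟨x, hLW₀ hxL⟩)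
    (π ⟨y, hLW₀ hyL⟩) (hnormq _ _ hxW) (hnormq _ _ hyW) ?_ ?_ (hquad _ _ hqx) (hquad _ _ hqy)
    (hmove x y _ hxL hyL le_rfl hqy) (hmove y x _ hyL hxL (by rw [Set.pair_comm]) hqx) ?_))
  · rintro _ ⟨a, ha, rfl⟩ _ ⟨b, hb, rfl⟩
    rw [← map_mul, ← map_mul]
    exact congrArg π (Subtype.ext (hab _ (hWU ha) _ (hWU hb)))
  · rintro _ ⟨a, ha, rfl⟩
    rw [← map_pow, show a ^ p = 1 from Subtype.ext (hexp _ (hWU ha)), map_one]
  · intro W' hW' hxW' hyW'
    let M : Subgroup Γ := (W'.comap π).map N.subtype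
    have hMW : M ≤ W := by
      rintro _ ⟨g, hg, rfl⟩
      obtain ⟨v, hv, he⟩ := hW' hg
      have := (hπ _).1 (show π (v⁻¹ * g) = 1 by rw [map_mul, map_inv, he, inv_mul_cancel])
      have h' := W.mul_mem hv (hW₀lt.le this)
      simpa using h'
    have hW₀M : W₀ ≤ M := fun w hw => ⟨⟨w, Subgroup.le_normalizer hw⟩,
      show π _ ∈ W' by rw [(hπ _).2 hw]; exact W'.one_mem, rfl⟩
    have hMn : ∀ (g : Γ) (hg : g ∈ N), π ⟨g, hg⟩ ∈ Subgroup.normalizer (W' : Set (↥N ⧸ W₀.subgroupOf N)) →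
        g ∈ Subgroup.normalizer (M : Set Γ) := fun g hg hgW' => Subgroup.mem_normalizer_fintype (by
      rintro _ ⟨u, hu, rfl⟩
      refine ⟨⟨g, hg⟩ * u * ⟨g, hg⟩⁻¹, show π _ ∈ W' by
        rw [map_mul, map_mul, map_inv]; exact (Subgroup.mem_normalizer_iff.1 hgW' _).1 hu, rfl⟩)
    rcases eq_or_lt_of_le hMW with h | h
    · right
      refine le_antisymm hW' ?_
      rintro _ ⟨a, ha, rfl⟩
      obtain ⟨b, hb, hba⟩ := h.ge ha
      rwa [← N.subtype_injective hba]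
    · left
      have hM0 := hW₀max ⟨h, hMn _ _ hxW', hMn _ _ hyW'⟩ hW₀M
      refine eq_bot_iff.2 fun w hw => ?_
      obtain ⟨g, rfl⟩ := QuotientGroup.mk'_surjective _ w
      exact (hπ g).2 (hM0 ⟨g, hw, rfl⟩)


/-- A quadratic, nontrivial action on a chief `p`-factor gives a section `qd p`. -/
theorem isSec_qd_of_chief (hp2 : p ≠ 2) {Γ : Type*} [Group Γ] [Finite Γ] {U V : Subgroup Γ} (hc : IsChiefFactor U V)
    (hU : IsPGroup p U) {g : Γ} (hq : ∀ u ∈ U, ⁅g, ⁅g, u⁆⁆ ∈ V) (hn : ∃ u ∈ U, ⁅g, u⁆ ∉ V) :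
    IsSec Γ ↥(Cfsg.qd p) := by
  classical
  obtain ⟨hel, hcom⟩ := chief_elementary (p := p) hc hU
  haveI := hc.2.2.1
  haveI := hc.2.1
  let π := QuotientGroup.mk' V
  have hπ : ∀ a : Γ, π a = 1 ↔ a ∈ V := fun a => QuotientGroup.eq_one_iff a
  set Uq := U.map π with hUq
  haveI hUqn : Uq.Normal := (inferInstance : U.Normal).map π (QuotientGroup.mk'_surjective V)
  have hab : ∀ a ∈ Uq, ∀ b ∈ Uq, a * b = b * a := by
    rintro _ ⟨a, ha, rfl⟩ _ ⟨b, hb, rfl⟩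
    exact (commutatorElement_eq_one_iff_commute.1 ((map_commutatorElement π a b).symm.trans
      ((hπ _).2 (hcom a ha b hb)))).eq
  have hexp : ∀ a ∈ Uq, a ^ p = 1 := by
    rintro _ ⟨a, ha, rfl⟩
    rw [← map_pow, hπ]; exact hel a ha
  set C := Subgroup.centralizer (Uq : Set (Γ ⧸ V)) with hC
  haveI : C.Normal := by rw [hC]; infer_instance
  let σ : Γ ⧸ V →* (Γ ⧸ V) ⧸ C := QuotientGroup.mk' C
  have hσ : ∀ a, σ a = 1 ↔ ∀ u ∈ Uq, ⁅a, u⁆ = 1 := fun a => by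
    rw [show σ a = 1 ↔ a ∈ C from QuotientGroup.eq_one_iff a]
    exact ⟨fun h u hu => commutatorElement_eq_one_iff_commute.2 (h u hu).symm,
      fun h u hu => (commutatorElement_eq_one_iff_commute.1 (h u hu)).eq.symm⟩
  set c := σ (π g) with hcdef
  set Ω : Set (Subgroup ((Γ ⧸ V) ⧸ C)) :=
    Set.range fun h => (Subgroup.zpowers c).map (MulAut.conj h).toMonoidHom with hΩ
  have hconj : ∀ Y ∈ Ω, ∀ h, Y.map (MulAut.conj h).toMonoidHom ∈ Ω := by
    rintro _ ⟨k, rfl⟩ h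
    exact ⟨h * k, by
      show _ = Subgroup.map _ (Subgroup.map _ _)
      rw [Subgroup.map_map]; congr 1; ext a; simp [mul_assoc]⟩
  by_contra hcon
  -- all pairs of conjugates generate `p`-groups
  have hpair : ∀ Y ∈ Ω, ∀ Z ∈ Ω, IsPGroup p ↥(Y ⊔ Z) := by
    rintro _ ⟨h₁, rfl⟩ _ ⟨h₂, rfl⟩
    obtain ⟨a₁, rfl⟩ := QuotientGroup.mk'_surjective C h₁
    obtain ⟨a₂, rfl⟩ := QuotientGroup.mk'_surjective C h₂
    set x := a₁ * π g * a₁⁻¹ with hx
    set y := a₂ * π g * a₂⁻¹ with hy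
    have hquad : ∀ (a : Γ ⧸ V), ∀ u ∈ Uq, ⁅a * π g * a⁻¹, ⁅a * π g * a⁻¹, u⁆⁆ = 1 := by
      intro a u hu
      have hu' : a⁻¹ * u * a ∈ Uq := by simpa using hUqn.conj_mem u hu a⁻¹
      obtain ⟨b, hb, hbe⟩ := hu'
      rw [show u = a * π b * a⁻¹ by rw [hbe]; group, ← conjugate_commutatorElement, ← conjugate_commutatorElement,
        ← map_commutatorElement, ← map_commutatorElement, (hπ _).2 (hq b hb), mul_one, mul_inv_cancel]
    have hle : Subgroup.map (MulAut.conj (σ a₁)).toMonoidHom (Subgroup.zpowers c) ⊔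
        Subgroup.map (MulAut.conj (σ a₂)).toMonoidHom (Subgroup.zpowers c) ≤
        (Subgroup.closure ({x, y} : Set (Γ ⧸ V))).map σ := by
      rw [MonoidHom.map_zpowers, MonoidHom.map_zpowers]
      refine sup_le (Subgroup.zpowers_le.2 ⟨x, Subgroup.subset_closure (Or.inl rfl), ?_⟩)
        (Subgroup.zpowers_le.2 ⟨y, Subgroup.subset_closure (Or.inr rfl), ?_⟩)
      · simp [hx, hcdef]
      · simp [hy, hcdef]
    refine IsPGroup.to_le ?_ hle
    rintro ⟨_, l, hl, rfl⟩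
    by_contra hnp
    refine hcon (isSec_trans ⟨⊤, π.comp (⊤ : Subgroup Γ).subtype, fun t => by
      obtain ⟨r, rfl⟩ := QuotientGroup.mk'_surjective V t
      exact ⟨⟨r, trivial⟩, rfl⟩⟩ (isSec_qd_of_pair hp2 Uq x y
      (by rw [Subgroup.normalizer_eq_top_iff.2 hUqn]; trivial) (by rw [Subgroup.normalizer_eq_top_iff.2 hUqn]; trivial)
      hab hexp (hquad a₁) (hquad a₂) fun h => ?_))
    obtain ⟨n, hn⟩ := h l hl
    exact hnp ⟨n, Subtype.ext ((map_pow σ l _).symm.trans ((hσ _).2 hn))⟩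
  have hS := CfsgLib.Inv.baer_suzuki Ω hconj hpair
  haveI : (sSup Ω).Normal := by
    refine ⟨fun a ha h => ?_⟩
    have : (sSup Ω).map (MulAut.conj h).toMonoidHom ≤ sSup Ω := by
      rw [sSup_eq_iSup', Subgroup.map_iSup]
      exact iSup_le fun Y => le_iSup_of_le (⟨_, hconj Y.1 Y.2 h⟩ : Ω) le_rfl
    exact this ⟨a, ha, rfl⟩
  have hgS : c ∈ sSup Ω := le_sSup (show Subgroup.zpowers c ∈ Ω from ⟨1, by
    show Subgroup.map _ _ = _
    rw [map_one]; exact Subgroup.map_id _⟩) (Subgroup.mem_zpowers c)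
  -- a normal `p`-group of operators is trivial on a chief factor
  obtain ⟨u, hu, hgu⟩ := hn
  refine hgu (trivial_of_pgroup_on_chief (K := (sSup Ω).comap (σ.comp π)) hc hU (fun k hk => ?_) g hgS u hu)
  obtain ⟨n, hn⟩ := hS ⟨σ (π k), hk⟩
  refine ⟨n, fun v hv => (hπ _).1 ?_⟩
  rw [map_commutatorElement]
  refine (hσ _).1 ?_ _ ⟨v, hv, rfl⟩
  rw [map_pow, map_pow]
  exact congrArg Subtype.val hn

/-- A failure of normalizer `p`-stability gives a section `qd p`. -/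
theorem isSec_qd_of_not_stable (hp2 : p ≠ 2) {G : Type*} [Group G] [Finite G] (h : ¬ IsNormalizerPStable p G) :
    IsSec G ↥(Cfsg.qd p) := by
  classical
  by_contra hcon
  apply h
  intro P hP g hg hq
  set N := Subgroup.normalizer (P : Set G)
  set P' : Subgroup ↥N := P.subgroupOf N
  haveI hP'n : P'.Normal := Subgroup.normal_in_normalizer
  have hP' : IsPGroup p P' := hP.comap_subtype
  have hmem : ∀ a : ↥N, a ∈ (Subgroup.centralizer (P : Set G)).subgroupOf N ↔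
      a ∈ Subgroup.centralizer (P' : Set ↥N) := fun a =>
    ⟨fun h b hb => Subtype.ext (h (b : G) hb), fun h b hb =>
      congrArg Subtype.val (h ⟨b, Subgroup.le_normalizer hb⟩ hb)⟩
  haveI : ((Subgroup.centralizer (P : Set G)).subgroupOf N).Normal :=
    Subgroup.normal_subgroupOf_centralizer_normalizer _
  let φ : ↥N →* ↥N ⧸ (Subgroup.centralizer (P : Set G)).subgroupOf N := QuotientGroup.mk' _
  haveI := stab_normal P'
  haveI : ((stab P').map φ).Normal := (stab_normal P').map φ (QuotientGroup.mk'_surjective _)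
  have hstab : (stab P').map φ ≤ pCore p _ := CfsgLib.Solv.le_pCore (by
    rintro ⟨_, a, ha, rfl⟩
    refine ⟨(orderOf a).factorization p, Subtype.ext ?_⟩
    show φ a ^ p ^ _ = 1
    rw [← map_pow]
    refine (QuotientGroup.eq_one_iff _).2 ((hmem _).2 (stab_coprime ?_ hP'n hP' ((stab P').pow_mem ha _)))
    rw [orderOf_pow' _ (pow_ne_zero _ hp.out.ne_zero), Nat.gcd_eq_right (Nat.ordProj_dvd _ p)]
    exact (Nat.coprime_ordCompl hp.out (orderOf_pos a).ne').symm)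
  refine hstab ⟨⟨g, hg⟩, fun U V hc hUP u hu => ?_, rfl⟩
  by_contra hgu
  refine hcon (isSec_trans ⟨N, MonoidHom.id _, Function.surjective_id⟩
    (isSec_qd_of_chief hp2 hc (hP'.to_le hUP) (fun v hv => ?_) ⟨u, hu, hgu⟩))
  have h1 : ⁅g, ⁅g, (v : G)⁆⁆ = 1 := Subgroup.mem_bot.1 (quad_mem_of_le hq.le (hUP hv))
  rw [show ⁅(⟨g, hg⟩ : ↥N), ⁅(⟨g, hg⟩ : ↥N), v⁆⁆ = 1 from Subtype.ext h1]
  exact V.one_mem

/-- A group isomorphic to `qd p` is not normalizer `p`-stable. -/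
theorem not_stable_of_qd (hp2 : p ≠ 2) {Γ : Type*} [Group Γ] [Finite Γ] (e : Γ ≃* ↥(Cfsg.qd p)) :
    ¬ IsNormalizerPStable p Γ := by
  intro hst
  set P : Subgroup Γ := (CfsgLib.Fus.Qd.trans (p := p)).comap e.toMonoidHom with hP
  haveI hPn : P.Normal := (CfsgLib.Fus.Qd.trans_normal).comap _
  have hPp : IsPGroup p P := fun a => ⟨1, Subtype.ext (e.injective (by
    rw [pow_one, SubmonoidClass.coe_pow, map_pow, OneMemClass.coe_one, map_one]
    exact CfsgLib.Fus.Qd.trans_pow_p a.2))⟩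
  have hN : Subgroup.normalizer (P : Set Γ) = ⊤ := Subgroup.normalizer_eq_top_iff.2 hPn
  set g := e.symm (CfsgLib.Fus.Qd.up (1 : ZMod p)) with hg
  have hq1 : ∀ a ∈ P, ∃ s : ZMod p, ⁅g, a⁆ = e.symm (CfsgLib.Fus.Qd.mk 1 0 0 1 s 0 (by ring)) := by
    intro a ha
    obtain ⟨s, t, hst'⟩ := CfsgLib.Fus.Qd.mem_trans_iff.1 (show e a ∈ CfsgLib.Fus.Qd.trans from ha)
    refine ⟨t, e.injective ?_⟩
    rw [map_commutatorElement, hg, MulEquiv.apply_symm_apply, MulEquiv.apply_symm_apply, hst', commutatorElement_def,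
      mul_inv_eq_iff_eq_mul, mul_inv_eq_iff_eq_mul]
    simp only [CfsgLib.Fus.Qd.up, CfsgLib.Fus.Qd.mk_mul]
    exact CfsgLib.Fus.Qd.mk_congr (by ring) (by ring) (by ring) (by ring) (by ring) (by ring)
  have hq : ∀ a ∈ P, ⁅g, ⁅g, a⁆⁆ = 1 := by
    intro a ha
    obtain ⟨s, hs⟩ := hq1 a ha
    refine e.injective ?_
    rw [hs, map_commutatorElement, hg, MulEquiv.apply_symm_apply, MulEquiv.apply_symm_apply, map_one]
    exact commutatorElement_eq_one_iff_commute.2 (CfsgLib.Fus.Qd.up_fixes 1 s)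
  have h1 := hst P hPp g (by rw [hN]; trivial) (eq_bot_iff.2 (by
    refine (zpowers_comm_le (V := ⊥) fun v hv => ?_)
    set C : Subgroup Γ :=
      { carrier := {v | ⁅g, v⁆ = 1}
        one_mem' := commutatorElement_one_right g
        mul_mem' := fun {a b} ha hb => commutatorElement_eq_one_iff_commute.2
          ((commutatorElement_eq_one_iff_commute.1 ha).mul_right (commutatorElement_eq_one_iff_commute.1 hb))
        inv_mem' := fun {a} ha => commutatorElement_eq_one_iff_commute.2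
          (commutatorElement_eq_one_iff_commute.1 ha).inv_right }
    refine Subgroup.mem_bot.2 ((show ⁅P, Subgroup.zpowers g⁆ ≤ C from ?_) hv)
    refine Subgroup.commutator_le.2 fun a ha b hb => ?_
    obtain ⟨k, rfl⟩ := Subgroup.mem_zpowers_iff.1 hb
    show ⁅g, ⁅a, g ^ k⁆⁆ = 1
    have hfix : g * ⁅g, a⁆ * g⁻¹ = ⁅g, a⁆ := by
      rw [(commutatorElement_eq_one_iff_commute.1 (hq a ha)).eq, mul_inv_cancel_right]
    have hmem : ⁅a, g ^ k⁆ ∈ Subgroup.zpowers ⁅g, a⁆ := by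
      suffices h : ∀ n : ℕ, ⁅g ^ n, a⁆ ∈ Subgroup.zpowers ⁅g, a⁆ by
        obtain ⟨n, hn⟩ := (isOfFinOrder_of_finite g).mem_powers_iff_mem_zpowers.2 hb
        have hn' : g ^ n = g ^ k := hn
        have h' := Subgroup.inv_mem _ (h n)
        rw [commutatorElement_inv, hn'] at h'
        exact h' 
      intro n
      rw [show ⁅g ^ n, a⁆ = g ^ n * a * (g ^ n)⁻¹ * a⁻¹ from commutatorElement_def _ _, conj_pow_of_fixed (show g * a * g⁻¹ = ⁅g, a⁆ * a by
        rw [commutatorElement_def]; group) hfix n, mul_inv_cancel_right]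
      exact Subgroup.npow_mem_zpowers _ n
    obtain ⟨m, hm⟩ := Subgroup.mem_zpowers_iff.1 hmem
    rw [← hm]
    exact commutatorElement_eq_one_iff_commute.2
      ((commutatorElement_eq_one_iff_commute.1 (hq a ha)).zpow_right m)))
  set N := Subgroup.normalizer (P : Set Γ) with hNdef
  haveI : ((Subgroup.centralizer (P : Set Γ)).subgroupOf N).Normal :=
    Subgroup.normal_subgroupOf_centralizer_normalizer _
  haveI := CfsgLib.Solv.pCore_normal (↥N ⧸ (Subgroup.centralizer (P : Set Γ)).subgroupOf N) p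
  let φ : Γ →* ↥N ⧸ (Subgroup.centralizer (P : Set Γ)).subgroupOf N :=
    (QuotientGroup.mk' _).comp ((MonoidHom.id Γ).codRestrict N fun a => by rw [hN]; trivial)
  set M := (pCore p (↥N ⧸ (Subgroup.centralizer (P : Set Γ)).subgroupOf N)).comap φ with hM
  haveI : M.Normal := (inferInstance : (pCore p _).Normal).comap φ
  have hgM : g ∈ M := h1
  set J := e.symm (CfsgLib.Fus.Qd.mk 0 1 (-1) 0 0 0 (by ring))
  have hJ : e.symm (CfsgLib.Fus.Qd.low (-1 : ZMod p)) = J * g * J⁻¹ := by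
    refine e.injective ?_
    rw [map_mul, map_mul, map_inv, hg, MulEquiv.apply_symm_apply, MulEquiv.apply_symm_apply,
      MulEquiv.apply_symm_apply, eq_mul_inv_iff_mul_eq]
    simp only [CfsgLib.Fus.Qd.up, CfsgLib.Fus.Qd.low, CfsgLib.Fus.Qd.mk_mul]
    exact CfsgLib.Fus.Qd.mk_congr (by ring) (by ring) (by ring) (by ring) (by ring) (by ring)
  have hz : e.symm CfsgLib.Fus.Qd.z ∈ M := by
    rw [CfsgLib.Fus.Qd.z_eq, map_mul, map_mul, map_mul, hJ, ← hg]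
    exact M.mul_mem (M.mul_mem (M.mul_mem hgM ((inferInstance : M.Normal).conj_mem g hgM J)) hgM)
      (M.mul_mem (M.mul_mem hgM ((inferInstance : M.Normal).conj_mem g hgM J)) hgM)
  obtain ⟨n, hn⟩ := CfsgLib.Solv.pCore_isPGroup (↥N ⧸ (Subgroup.centralizer (P : Set Γ)).subgroupOf N) p
    ⟨φ (e.symm CfsgLib.Fus.Qd.z), hz⟩
  have hn' : φ (e.symm CfsgLib.Fus.Qd.z) ^ p ^ n = 1 := congrArg Subtype.val hn
  obtain ⟨i, hi⟩ := (hp.out.odd_of_ne_two hp2).pow (n := n)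
  rw [hi, pow_succ, pow_mul, ← map_pow, pow_two, ← map_mul, CfsgLib.Fus.Qd.z_mul_z, map_one, map_one, one_pow,
    one_mul] at hn'
  have hzc : e.symm CfsgLib.Fus.Qd.z ∈ Subgroup.centralizer (P : Set Γ) := (QuotientGroup.eq_one_iff (⟨_, by rw [hN]; trivial⟩ : ↥N)).1 hn'
  set t : ↥(Cfsg.qd p) := CfsgLib.Fus.Qd.mk 1 0 0 1 1 0 (by ring) with ht
  have htm : t ∈ CfsgLib.Fus.Qd.trans := CfsgLib.Fus.Qd.mem_trans_iff.2 ⟨1, 0, rfl⟩
  have hcm := congrArg e (hzc (e.symm t) (show e (e.symm t) ∈ CfsgLib.Fus.Qd.trans by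
    rw [MulEquiv.apply_symm_apply]; exact htm))
  rw [map_mul, map_mul, MulEquiv.apply_symm_apply, MulEquiv.apply_symm_apply] at hcm
  have h2 := CfsgLib.Fus.Qd.z_trans htm
  rw [← hcm, mul_assoc t, CfsgLib.Fus.Qd.z_mul_z, mul_one, ht, CfsgLib.Fus.Qd.mk_mul, ← CfsgLib.Fus.Qd.mk_one] at h2
  obtain ⟨h3, -⟩ := CfsgLib.Fus.Qd.trans_inj (x := (1 : ZMod p) * 1 + 0 * 0 + 1) (y := 0) (x' := 0) (y' := 0)
    (Eq.trans (CfsgLib.Fus.Qd.mk_congr (by ring) (by ring) (by ring) (by ring) (by ring) (by ring)) h2)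
  refine hp2 ((Nat.prime_dvd_prime_iff_eq hp.out Nat.prime_two).1 ((CharP.cast_eq_zero_iff (ZMod p) p 2).1 ?_))
  push_cast
  linear_combination h3

/-- `qd p` involved in `G` gives `SL₂(p)` involved in some local subgroup. -/
theorem involves_sl2_of_qd {G : Type*} [Group G] [Finite G] (h : IsSec G ↥(Cfsg.qd p)) :
    ∃ Q : Subgroup G, IsPGroup p Q ∧ Q ≠ ⊥ ∧
      Cfsg.Involves (SpecialLinearGroup (Fin 2) (ZMod p)) ↥(Subgroup.normalizer (Q : Set G)) := by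
  classical
  obtain ⟨K, f, hf⟩ := h
  set A := (CfsgLib.Fus.Qd.trans (p := p)).comap f with hA
  haveI : A.Normal := (CfsgLib.Fus.Qd.trans_normal).comap f
  obtain ⟨R⟩ : Nonempty (Sylow p A) := inferInstance
  set Q' : Subgroup ↥K := (R : Subgroup ↥A).map A.subtype with hQ'
  set Q : Subgroup G := Q'.map K.subtype with hQ
  have hQp : IsPGroup p Q := (R.2.map A.subtype).map K.subtype
  have hdiv : p ∣ Nat.card ↥A := by
    have h : Nat.card ↥(CfsgLib.Fus.Qd.trans (p := p)) ∣ Nat.card ↥A := by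
      rw [← Subgroup.map_comap_eq_self_of_surjective hf (CfsgLib.Fus.Qd.trans (p := p))]
      exact Subgroup.card_map_dvd A f
    rw [CfsgLib.Fus.Qd.card_trans] at h
    exact (dvd_pow_self p two_ne_zero).trans h
  have hQne : Q ≠ ⊥ := by
    intro h0
    rw [hQ, Subgroup.map_eq_bot_iff_of_injective _ K.subtype_injective, hQ',
      Subgroup.map_eq_bot_iff_of_injective _ A.subtype_injective] at h0
    exact R.ne_bot_of_dvd_card hdiv h0
  refine ⟨Q, hQp, hQne, involves_of_isSec ?_⟩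
  set N := Subgroup.normalizer (Q : Set G)
  have hfr : Subgroup.normalizer (Q' : Set ↥K) ⊔ A = ⊤ := Sylow.normalizer_sup_eq_top R
  let f' : ↥(K.subgroupOf N) →* ↥(Cfsg.qd p) :=
    f.comp ((N.subtype.comp (K.subgroupOf N).subtype).codRestrict K fun a => a.2)
  have hdet : ∀ M : ↥(Cfsg.qd p), (CfsgLib.Fus.Qd.blockHom M).det = 1 := fun M => by
    obtain ⟨a, b, c, d, x, y, hd, rfl⟩ := CfsgLib.Fus.Qd.eq_mk M
    rw [Matrix.det_fin_two]
    simpa [CfsgLib.Fus.Qd.blockHom, CfsgLib.Fus.Qd.mk] using hd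
  let blk : ↥(Cfsg.qd p) →* SpecialLinearGroup (Fin 2) (ZMod p) :=
    { toFun := fun M => ⟨CfsgLib.Fus.Qd.blockHom M, hdet M⟩
      map_one' := Subtype.ext (map_one _)
      map_mul' := fun a b => Subtype.ext (map_mul _ a b) }
  refine ⟨K.subgroupOf N, blk.comp f', fun S => ?_⟩
  obtain ⟨k, hk⟩ := hf (CfsgLib.Fus.Qd.mk (S.1 0 0) (S.1 0 1) (S.1 1 0) (S.1 1 1) 0 0 (by
    rw [← Matrix.det_fin_two, S.2]))
  obtain ⟨n, hn, a, ha, rfl⟩ := Subgroup.mem_sup_of_normal_right.1 (hfr.ge (Subgroup.mem_top k))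
  have hnN : (n : G) ∈ N := Subgroup.mem_normalizer_fintype (by
    rintro _ ⟨q, hq, rfl⟩
    exact ⟨n * q * n⁻¹, (Subgroup.mem_normalizer_iff.1 hn q).1 hq, rfl⟩)
  refine ⟨⟨⟨n, hnN⟩, n.2⟩, Subtype.ext ?_⟩
  show CfsgLib.Fus.Qd.blockHom (f n) = S.1
  have h := congrArg CfsgLib.Fus.Qd.blockHom hk
  rw [map_mul, map_mul, show CfsgLib.Fus.Qd.blockHom (f a) = 1 from ha, mul_one] at h
  rw [h]
  ext i j
  fin_cases i <;> fin_cases j <;> simp [CfsgLib.Fus.Qd.blockHom, CfsgLib.Fus.Qd.mk]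

end CfsgLib.Dickson
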