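import Cfsg.Agent.Fus.Stability

/-!
A member of a lower K-family lying outside `O_p` contains an element that is quadratic and nontrivial on a chief factor below a
class two subgroup with faithful action.
-/

set_option autoImplicit false
set_option linter.style.haveILetI false

open Cfsg
open scoped commutatorElement

namespace CfsgLib.Glau

variable {Γ : Type*} [Group Γ] [Finite Γ] {p : ℕ} [hp : Fact p.Prime]

omit [Finite Γ] in
theorem centralizer_normal {V : Subgroup Γ} (hV : V.Normal) : (Subgroup.centralizer (V : Set Γ)).Normal :=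
  Subgroup.normalizer_eq_top_iff.1 (eq_top_iff.2
    ((Subgroup.normalizer_eq_top_iff.2 hV).ge.trans (normalizer_le_centralizer_normalizer V)))

theorem stab_le_pCore {A : Subgroup Γ} [A.Normal] (hAp : IsPGroup p A)
    (hker : ∀ x : Γ, (orderOf x).Coprime p → x ∈ Subgroup.centralizer (A : Set Γ) → x = 1) :
    stab A ≤ pCore p Γ := by
  haveI := stab_normal A
  exact CfsgLib.Solv.le_pCore (CfsgLib.Inv.isPGroup_of_elements fun x hx hc => hker x hc (stab_coprime hc ‹A.Normal› hAp hx))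

omit [Finite Γ] in
/-- An element quadratic on all chief factors below `N` stabilizes them, when it is trivial on each one below which it is trivial. -/
theorem stab_of_quad [Finite Γ] {N : Subgroup Γ} {b : Γ}
    (h : ∀ U V : Subgroup Γ, IsChiefFactor U V → U ≤ N → (∀ u ∈ U, ⁅b, ⁅b, u⁆⁆ ∈ V) → b ∈ stab V →
      ∀ u ∈ U, ⁅b, u⁆ ∈ V)
    (hq : ∀ U V : Subgroup Γ, IsChiefFactor U V → U ≤ N → ∀ u ∈ U, ⁅b, ⁅b, u⁆⁆ ∈ V) : b ∈ stab N := by
  suffices key : ∀ (n : ℕ) (U V : Subgroup Γ), IsChiefFactor U V → U ≤ N → Nat.card U ≤ n → ∀ u ∈ U, ⁅b, u⁆ ∈ V from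
    fun U V hc hU u hu => key _ U V hc hU le_rfl u hu
  intro n
  induction n with
  | zero => intro U V _ _ hn; exact absurd hn Nat.card_pos.not_ge
  | succ n ih =>
    intro U V hc hU hn
    refine h U V hc hU (hq U V hc hU) fun U' V' hc' hU' => ih U' V' hc' (hU'.trans (hc.1.le.trans hU)) ?_
    have h1 : Nat.card U' ≤ Nat.card V := Subgroup.card_le_of_le hU'
    have h2 : Nat.card V < Nat.card U :=
      lt_of_le_of_ne (Subgroup.card_le_of_le hc.1.le) fun he => hc.1.ne (Subgroup.eq_of_le_of_card_ge hc.1.le he.ge)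
    omega

set_option maxHeartbeats 2000000 in
theorem quadratic_exists {A B : Subgroup Γ} [A.Normal] (hAT : A ≤ pCore p Γ) (hA1 : ∀ a ∈ A, a ^ p ∈ KInf.zc A)
    (hA2 : A ∈ classTwoSubgroups Γ) (hAP : ⁅A, pCore p Γ⁆ ≤ KInf.zc A)
    (hker : ∀ x : Γ, (orderOf x).Coprime p → x ∈ Subgroup.centralizer (A : Set Γ) → x = 1)
    (hBp : IsPGroup p B) (hBT : ¬ B ≤ pCore p Γ) (hAB : A ≤ Subgroup.normalizer (B : Set Γ))
    (hlow : ∀ A₀ : Subgroup Γ, A₀ ≤ A → A₀ ∈ classTwoSubgroups Γ → B ≤ Subgroup.normalizer (A₀ : Set Γ) →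
      ⁅B, ⁅A₀, A₀⁆⁆ = ⊥ → ⁅⁅KInf.zc B, A₀⁆, A₀⁆ = ⊥ → ⁅B, A₀⁆ ≤ KInf.zc B) :
    ∃ g ∈ B, g ∉ pCore p Γ ∧ ∃ U V : Subgroup Γ, IsChiefFactor U V ∧ U ≤ A ∧ g ∈ stab V ∧
      ⁅⁅U, Subgroup.zpowers g⁆, Subgroup.zpowers g⁆ ≤ V ∧ ¬ ⁅U, Subgroup.zpowers g⁆ ≤ V := by
  classical
  by_contra hcon
  haveI hTn := CfsgLib.Solv.pCore_normal Γ p
  have hTp : IsPGroup p ↥(pCore p Γ) := CfsgLib.Solv.pCore_isPGroup Γ p
  have hAp : IsPGroup p A := hTp.to_le hAT
  haveI hCAn := centralizer_normal ‹A.Normal›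
  haveI hZn : (KInf.zc A).Normal := Subgroup.normal_inf_normal _ _
  have hbad : ∀ b ∈ B, ∀ U V : Subgroup Γ, IsChiefFactor U V → U ≤ A → (∀ u ∈ U, ⁅b, ⁅b, u⁆⁆ ∈ V) →
      b ∈ stab V → ∀ u ∈ U, ⁅b, u⁆ ∈ V := by
    intro b hb U V hc hUA hq hbV u hu
    by_cases hbT : b ∈ pCore p Γ
    · exact le_stab hTp hAp hbT U V hc hUA u hu
    by_contra hn
    haveI := hc.2.1
    haveI := hc.2.2.1
    exact hcon ⟨b, hb, hbT, U, V, hc, hUA, hbV,
      iter_le_of_iterate (n := 2) (chief_elementary (p := p) hc (hAp.to_le hUA)).2 hq, fun h => hn (comm_mem_of_le h hu)⟩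
  have hstab : stab A ≤ pCore p Γ := stab_le_pCore hAp hker
  have hBA : ¬ B ≤ stab A := fun h => hBT (h.trans hstab)
  rcases eq_or_ne p 2 with hp2 | hp2
  · subst hp2
    refine hBA ?_
    suffices key : ∀ (n : ℕ) (b : Γ), b ∈ B → ∀ U V : Subgroup Γ, IsChiefFactor U V → U ≤ A → Nat.card U ≤ n →
        ∀ u ∈ U, ⁅b, u⁆ ∈ V from fun b hb U V hc hUA u hu => key _ b hb U V hc hUA le_rfl u hu
    intro m
    induction m with
    | zero => intro b _ U V _ _ hm; exact absurd hm Nat.card_pos.not_ge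
    | succ m ihm =>
    intro b hb U V hc hUA hm
    have hstabV : ∀ c ∈ B, c ∈ stab V := fun c hcB U' V' hc' hU' => ihm c hcB U' V' hc' (hU'.trans (hc.1.le.trans hUA)) (by
      have h1 : Nat.card U' ≤ Nat.card V := Subgroup.card_le_of_le hU'
      have h2 : Nat.card V < Nat.card U :=
        lt_of_le_of_ne (Subgroup.card_le_of_le hc.1.le) fun he => hc.1.ne (Subgroup.eq_of_le_of_card_ge hc.1.le he.ge)
      omega)
    haveI := hc.2.2.1
    let π := QuotientGroup.mk' V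
    obtain ⟨n, hn⟩ := hBp ⟨b, hb⟩
    have hn' : b ^ 2 ^ n = 1 := congrArg Subtype.val hn
    suffices h : ∀ k, k ≤ n → ∀ u ∈ U, ⁅b ^ 2 ^ (n - k), u⁆ ∈ V by
      intro u hu
      simpa using h n le_rfl u hu
    intro k
    induction k with
    | zero => intro _ u _; rw [Nat.sub_zero, hn', commutatorElement_one_left]; exact V.one_mem
    | succ k ih =>
      intro hk
      set c := b ^ 2 ^ (n - (k + 1)) with hcdef
      have hc2 : ∀ u ∈ U, ⁅c * c, u⁆ ∈ V := fun u hu => by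
        rw [hcdef, ← pow_add, ← two_mul, ← pow_succ', show n - (k + 1) + 1 = n - k by omega]
        exact ih (by omega) u hu
      refine hbad c (B.pow_mem hb _) U V hc hUA (fun u hu => ?_) (hstabV c (B.pow_mem hb _))
      have hw : ⁅c, u⁆ ∈ U := by
        rw [commutatorElement_def]; exact U.mul_mem (hc.2.1.conj_mem u hu c) (U.inv_mem hu)
      have hw2 := (chief_elementary (p := 2) hc (hAp.to_le hUA)).1 _ hw
      refine (QuotientGroup.eq_one_iff _).1 ?_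
      have e1 : π (c * ⁅c, u⁆ * c⁻¹ * ⁅c, u⁆) = 1 := by
        rw [← commutatorElement_mul_left_eq_conj_mul]
        exact (QuotientGroup.eq_one_iff _).2 (hc2 u hu)
      have e2 : π ⁅c, u⁆ * π ⁅c, u⁆ = 1 := by
        rw [← map_mul, ← pow_two]
        exact (QuotientGroup.eq_one_iff _).2 hw2
      show π ⁅c, ⁅c, u⁆⁆ = 1
      rw [commutatorElement_def c ⁅c, u⁆, map_mul, map_inv, inv_eq_of_mul_eq_one_right e2, ← map_mul]
      exact e1
  -- odd `p`: `B` is trivial on the factors below the centre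
  have hzB : KInf.zc B ≤ pCore p Γ := by
    suffices h : KInf.zc B ≤ stab A from h.trans hstab
    refine fun z hz => stab_of_quad (hbad z hz.1) fun U V hc hUA u hu => ?_
    have h1 : ⁅z, u⁆ ∈ B := by
      rw [commutatorElement_def, mul_assoc, mul_assoc, ← mul_assoc u]
      exact B.mul_mem hz.1 ((Subgroup.mem_normalizer_iff.1 (hAB (hUA hu)) _).1 (B.inv_mem hz.1))
    rw [commutatorElement_eq_one_iff_commute.2 (hz.2 _ h1).symm]
    exact V.one_mem
  have hzA2 : KInf.zc A ∈ classTwoSubgroups Γ := Subgroup.commutator_le.2 fun a ha b hb => by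
    rw [commutatorElement_eq_one_iff_commute.2 (hb.2 a ha.1)]; exact one_mem _
  have hzz : ⁅KInf.zc A, KInf.zc A⁆ = ⊥ :=
    Subgroup.commutator_eq_bot_iff_le_centralizer.2 (inf_le_right.trans (Subgroup.centralizer_le inf_le_left))
  have hzl : ⁅B, KInf.zc A⁆ ≤ KInf.zc B :=
    hlow _ inf_le_left hzA2 (by rw [Subgroup.normalizer_eq_top_iff.2 hZn]; exact le_top)
      (by rw [hzz, Subgroup.commutator_bot_right])
      (eq_bot_iff.2 ((Subgroup.commutator_mono (Subgroup.commutator_le_right _ _) le_rfl).trans hzz.le))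
  have hBz : B ≤ stab (KInf.zc A) := fun b hb =>
    stab_of_quad (fun U V hc hU => hbad b hb U V hc (hU.trans inf_le_left)) (fun U V hc hU u hu => by
      rw [commutatorElement_eq_one_iff_commute.2
        ((hzl (Subgroup.commutator_mem_commutator hb (hU hu))).2 b hb)]
      exact V.one_mem)
  obtain ⟨U, hU, hUmin⟩ := Set.Finite.exists_minimal
    (Set.toFinite {X : Subgroup Γ | X.Normal ∧ KInf.zc A ≤ X ∧ X ≤ A ∧ ¬ B ≤ stab X})
    ⟨A, ‹A.Normal›, inf_le_left, le_rfl, hBA⟩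
  obtain ⟨hUn, hzU, hUA, hBU⟩ := hU
  have hzltU : KInf.zc A < U := lt_of_le_of_ne hzU fun h => hBU (h ▸ hBz)
  obtain ⟨V, hV, hVmax⟩ := Set.Finite.exists_maximal
    (Set.toFinite {X : Subgroup Γ | X.Normal ∧ KInf.zc A ≤ X ∧ X < U}) ⟨KInf.zc A, hZn, le_rfl, hzltU⟩
  obtain ⟨hVn, hzV, hVU⟩ := hV
  haveI := hUn
  haveI := hVn
  have hUp : IsPGroup p U := hAp.to_le hUA
  have hUV : IsChiefFactor U V := ⟨hVU, hUn, hVn, fun X hX hle hXU =>
    (eq_or_lt_of_le hXU).elim Or.inr fun hlt => Or.inl (le_antisymm (hVmax ⟨hX, hzV.trans hle, hlt⟩ hle) hle)⟩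
  have hBV : B ≤ stab V := by
    by_contra h
    exact hVU.not_ge (hUmin ⟨hVn, hzV, hVU.le.trans hUA, h⟩ hVU.le)
  have hBUV : ¬ ∀ b ∈ B, ∀ u ∈ U, ⁅b, u⁆ ∈ V := fun h => hBU fun b hb => stab_extend (hBV hb) (h b hb)
  set K := stab V with hKdef
  haveI hKn : K.Normal := stab_normal V
  set L := Subgroup.closure {x | x ∈ K ∧ (orderOf x).Coprime p} with hL
  have hLK : L ≤ K := (Subgroup.closure_le _).2 fun x hx => hx.1
  haveI hLn : L.Normal := by
    refine ⟨fun x hx g => ?_⟩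
    have hle : L ≤ L.comap (MulAut.conj g).toMonoidHom := (Subgroup.closure_le _).2 fun y hy =>
      Subgroup.subset_closure (show g * y * g⁻¹ ∈ {x | x ∈ K ∧ (orderOf x).Coprime p} from
        ⟨hKn.conj_mem y hy.1 g, by
          rw [show orderOf (g * y * g⁻¹) = orderOf y from
            orderOf_injective (MulAut.conj g).toMonoidHom (MulAut.conj g).injective y]
          exact hy.2⟩)
    exact hle hx
  have hpow : ∀ k ∈ K, ∃ n : ℕ, k ^ p ^ n ∈ L := fun k hk =>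
    ⟨(orderOf k).factorization p, Subgroup.subset_closure ⟨K.pow_mem hk _, by
      rw [orderOf_pow_of_dvd (pow_ne_zero _ hp.out.ne_zero) (Nat.ordProj_dvd _ _)]
      exact (Nat.coprime_ordCompl hp.out (orderOf_pos k).ne').symm⟩⟩
  have hLV : L ≤ Subgroup.centralizer (V : Set Γ) := (Subgroup.closure_le _).2 fun x hx =>
    stab_coprime hx.2 hVn (hUp.to_le hVU.le) hx.1
  have hUUz : ⁅U, U⁆ ≤ KInf.zc A := (Subgroup.commutator_mono hUA (hUA.trans hAT)).trans hAP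
  -- `[V, U] = 1`
  have hCV : U ≤ Subgroup.centralizer (V : Set Γ) := by
    haveI := centralizer_normal hVn
    set N := U ⊓ Subgroup.centralizer (V : Set Γ) with hN
    haveI hNn : N.Normal := Subgroup.normal_inf_normal _ _
    suffices hNU : N = U from fun x hx => (show x ∈ N from hNU.symm ▸ hx).2
    have hzN : KInf.zc A ≤ N := le_inf hzU (inf_le_right.trans (Subgroup.centralizer_le (hVU.le.trans hUA)))
    by_contra hne
    have hBN : B ≤ stab N := by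
      by_contra h
      exact hne (le_antisymm inf_le_left (hUmin ⟨hNn, hzN, inf_le_left.trans hUA, h⟩ inf_le_left))
    by_cases hNV : N ≤ V
    · have hLN : ⁅L, U⁆ ≤ N := by
        refine le_inf (Subgroup.commutator_le_right L U) (Subgroup.commutator_eq_bot_iff_le_centralizer.1 ?_)
        refine Subgroup.commutator_commutator_eq_bot_of_rotate ?_ ?_
        · exact Subgroup.commutator_eq_bot_iff_le_centralizer.2 (((Subgroup.commutator_mono le_rfl hVU.le).trans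
            (hUUz.trans hzV)).trans fun v hv l hl => (hLV hl v hv).symm)
        · rw [Subgroup.commutator_comm V L, Subgroup.commutator_eq_bot_iff_le_centralizer.2 hLV,
            Subgroup.commutator_bot_left]
      refine hBUV fun b hb => trivial_of_pgroup_on_chief (K := K) hUV hUp (fun k hk => ?_) b (hBV hb)
      obtain ⟨n, hn⟩ := hpow k hk
      exact ⟨n, fun u hu => hNV (hLN (Subgroup.commutator_mem_commutator hn hu))⟩
    · obtain ⟨hc, hs⟩ := chief_inf hUV hNn inf_le_left hNV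
      refine hBUV fun b hb u hu => ?_
      rw [← hs] at hu
      obtain ⟨a, ha, c, hc', rfl⟩ := Subgroup.mem_sup_of_normal_left.1 hu
      refine comm_mul_mem (hBN hb _ _ hc le_rfl a ha).2 ?_
      rw [commutatorElement_def]
      exact V.mul_mem (hVn.conj_mem c hc' b) (V.inv_mem hc')
  obtain ⟨hel, hab⟩ := chief_elementary (p := p) hUV hUp
  -- a minimal `K`-invariant piece with a non-quadratic element
  obtain ⟨X₀, hX₀, hX₀min⟩ := Set.Finite.exists_minimal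
    (Set.toFinite {X : Subgroup Γ | V < X ∧ X ≤ U ∧ K ≤ Subgroup.normalizer (X : Set Γ)})
    ⟨U, hVU, le_rfl, by rw [Subgroup.normalizer_eq_top_iff.2 hUn]; exact le_top⟩
  have hcjn : ∀ {N : Subgroup Γ}, N.Normal → ∀ g, cj g N = N := fun {N} hN g =>
    mem_normalizer_iff_cj.1 (by rw [Subgroup.normalizer_eq_top_iff.2 hN]; trivial)
  obtain ⟨g₀, hg₀⟩ : ∃ g, ∃ b ∈ B, ∃ u ∈ cj g X₀, ⁅b, ⁅b, u⁆⁆ ∉ V := by
    by_contra h
    push_neg at h
    let π := QuotientGroup.mk' V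
    refine hBUV fun b hb => hbad b hb U V hUV hUA ?_ (hBV hb)
    let Qd : Subgroup Γ :=
      { carrier := {u | u ∈ U ∧ π ⁅b, ⁅b, u⁆⁆ = 1}
        one_mem' := ⟨U.one_mem, by simp⟩
        mul_mem' := fun {x y} hx hy => ⟨U.mul_mem hx.1 hy.1, by
          have hby : ⁅b, y⁆ ∈ U := by
            rw [commutatorElement_def]; exact U.mul_mem (hUn.conj_mem y hy.1 b) (U.inv_mem hy.1)
          have e1 : π ⁅b, x * y⁆ = π ⁅b, x⁆ * π ⁅b, y⁆ := by
            rw [commutatorElement_mul_right_eq_mul_conj, map_mul, map_mul, map_mul, map_inv, mul_assoc, mul_assoc,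
              ← mul_assoc (π x), (commutatorElement_eq_one_iff_commute.1 ((map_commutatorElement π _ _).symm.trans
                ((QuotientGroup.eq_one_iff _).2 (hab _ hx.1 _ hby)))).eq, mul_inv_cancel_right]
          have h2 := hy.2
          have h3 := hx.2
          rw [map_commutatorElement] at h2 h3 ⊢
          rw [e1]
          exact commutatorElement_eq_one_iff_commute.2 ((commutatorElement_eq_one_iff_commute.1 h3).mul_right
            (commutatorElement_eq_one_iff_commute.1 h2))⟩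
        inv_mem' := fun {x} hx => ⟨U.inv_mem hx.1, by
          have hbx : ⁅b, x⁆ ∈ U := by
            rw [commutatorElement_def]; exact U.mul_mem (hUn.conj_mem x hx.1 b) (U.inv_mem hx.1)
          have e1 : π ⁅b, x⁻¹⁆ = (π ⁅b, x⁆)⁻¹ := by
            rw [show ⁅b, x⁻¹⁆ = x⁻¹ * (⁅b, x⁆)⁻¹ * x⁻¹⁻¹ by rw [commutatorElement_def, commutatorElement_def]; group,
              map_mul, map_mul, map_inv π ⁅b, x⁆, map_inv π x⁻¹,
              (commutatorElement_eq_one_iff_commute.1 ((map_commutatorElement π _ _).symm.trans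
                ((QuotientGroup.eq_one_iff _).2 (hab _ (U.inv_mem hx.1) _ hbx)))).inv_right.eq, mul_inv_cancel_right]
          have h3 := hx.2
          rw [map_commutatorElement] at h3 ⊢
          rw [e1]
          exact commutatorElement_eq_one_iff_commute.2 (commutatorElement_eq_one_iff_commute.1 h3).inv_right⟩ }
    have hM : (⨆ g, cj g X₀) ≤ Qd := iSup_le fun g u hu =>
      ⟨hcjn hUn g ▸ cj_mono g hX₀.2.1 hu, (QuotientGroup.eq_one_iff _).2 (h g b hb u hu)⟩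
    have hMn : (⨆ g, cj g X₀).Normal := Subgroup.normalizer_eq_top_iff.1 (eq_top_iff.2 fun k _ =>
      mem_normalizer_iff_cj.2 (le_antisymm (by
        rw [cj, Subgroup.map_iSup]
        exact iSup_le fun g => (cj_mul k g X₀).symm.trans_le (le_iSup (fun g => cj g X₀) (k * g))) (by
        rw [cj, Subgroup.map_iSup]
        exact iSup_le fun g => le_trans (le_of_eq (by
          show cj g X₀ = cj k (cj (k⁻¹ * g) X₀)
          rw [← cj_mul, mul_inv_cancel_left])) (le_iSup (fun g => cj k (cj g X₀)) (k⁻¹ * g)))))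
    have hVM : V ≤ ⨆ g, cj g X₀ := hX₀.1.le.trans ((cj_one X₀).symm.trans_le (le_iSup (fun g => cj g X₀) 1))
    rcases hUV.2.2.2 _ hMn hVM (iSup_le fun g => (cj_mono g hX₀.2.1).trans (hcjn hUn g).le) with he | he
    · exact absurd (((cj_one X₀).symm.trans_le (le_iSup (fun g => cj g X₀) 1)).trans he.le) hX₀.1.not_ge
    · exact fun u hu => (QuotientGroup.eq_one_iff _).1 (hM (he.ge hu)).2
  set U' := cj g₀ X₀ with hU'
  have hVU' : V ≤ U' := (hcjn hVn g₀).ge.trans (cj_mono g₀ hX₀.1.le)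
  have hU'U : U' ≤ U := (cj_mono g₀ hX₀.2.1).trans (hcjn hUn g₀).le
  have hKU' : K ≤ Subgroup.normalizer (U' : Set Γ) := by
    rw [hU', ← cj_normalizer, ← hcjn hKn g₀]
    exact cj_mono g₀ hX₀.2.2
  have hirr : ∀ X : Subgroup Γ, V ≤ X → X ≤ U' → K ≤ Subgroup.normalizer (X : Set Γ) → X ≤ V ∨ U' ≤ X := by
    intro X hVX hXU hKX
    rcases eq_or_lt_of_le hVX with he | hlt
    · exact Or.inl he.ge
    refine Or.inr ?_
    have h1 : X₀ ≤ cj g₀⁻¹ X := hX₀min ⟨lt_of_le_of_ne ((hcjn hVn _).ge.trans (cj_mono _ hlt.le)) (fun he =>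
        hlt.ne (by rw [← cj_cj_inv g₀ X, ← he, hcjn hVn])),
      (cj_mono _ (hXU.trans hU'U)).trans (hcjn hUn _).le, by
        rw [← cj_normalizer, ← hcjn hKn g₀⁻¹]; exact cj_mono _ hKX⟩
      ((cj_mono _ hXU).trans_eq (cj_inv_cj g₀ X₀))
    exact (cj_mono g₀ h1).trans_eq (cj_cj_inv g₀ X)
  obtain ⟨b₀, hb₀, u₀, hu₀, hq₀⟩ := hg₀
  have hU'A : U' ≤ A := hU'U.trans hUA
  -- what the lower family gives for a subgroup of `U'`
  have hfin : ∀ A₀ : Subgroup Γ, A₀ ≤ U' → B ≤ Subgroup.normalizer (A₀ : Set Γ) → ⁅B, ⁅A₀, A₀⁆⁆ = ⊥ →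
      ∀ b ∈ B, ∀ u ∈ A₀, ⁅b, ⁅b, u⁆⁆ = 1 := by
    intro A₀ hA₀ hN hb b hb' u hu
    have hA₀A := hA₀.trans hU'A
    have hcl : A₀ ∈ classTwoSubgroups Γ :=
      (Subgroup.commutator_mono hA₀A hA₀A).trans (hA2.trans (Subgroup.centralizer_le hA₀A))
    have h1 : ⁅KInf.zc B, A₀⁆ ≤ KInf.zc A := (Subgroup.commutator_mono hzB hA₀A).trans
      ((Subgroup.commutator_comm _ _).trans_le hAP)
    have h2 : ⁅⁅KInf.zc B, A₀⁆, A₀⁆ = ⊥ := eq_bot_iff.2 ((Subgroup.commutator_mono h1 hA₀A).trans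
      (Subgroup.commutator_eq_bot_iff_le_centralizer.2 inf_le_right).le)
    exact commutatorElement_eq_one_iff_commute.2
      ((hlow A₀ hA₀A hcl hN hb h2 (Subgroup.commutator_mem_commutator hb' hu)).2 b hb')
  have hBK : B ≤ K := hBV
  -- the module
  let π := QuotientGroup.mk' V
  have hπ1 : ∀ {x : Γ}, x ∈ V ↔ π x = 1 := fun {x} => (QuotientGroup.eq_one_iff x).symm
  set Wm := U'.map π with hWm
  have hWc : ∀ a b : ↥Wm, a * b = b * a := by
    rintro ⟨_, a, ha, rfl⟩ ⟨_, b, hb, rfl⟩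
    exact Subtype.ext ((map_commutatorElement π a b).symm.trans (hπ1.1 (hab a (hU'U ha) b (hU'U hb))) |>
      commutatorElement_eq_one_iff_commute.1).eq
  letI cgW : CommGroup ↥Wm := { (inferInstance : Group ↥Wm) with mul_comm := hWc }
  have hWexp : ∀ a : ↥Wm, a ^ p = 1 := by
    rintro ⟨_, a, ha, rfl⟩
    exact Subtype.ext (show (π a) ^ p = 1 by rw [← map_pow]; exact hπ1.1 (hel a (hU'U ha)))
  letI mdW : Module (ZMod p) (Additive ↥Wm) := by exact AddCommGroup.zmodModule fun x => hWexp x.toMul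
  let Dm : Subgroup Γ :=
    { carrier := {z | z ∈ KInf.zc A ∧ z ^ p = 1}
      one_mem' := ⟨one_mem _, one_pow p⟩
      mul_mem' := fun {a b} ha hb => ⟨mul_mem ha.1 hb.1, by
        rw [(show Commute a b from hb.1.2 a ha.1.1).mul_pow, ha.2, hb.2, one_mul]⟩
      inv_mem' := fun {a} ha => ⟨inv_mem ha.1, by rw [inv_pow, ha.2, inv_one]⟩ }
  letI cgD : CommGroup ↥Dm :=
    { (inferInstance : Group ↥Dm) with mul_comm := fun a b => Subtype.ext (b.2.1.2 a a.2.1.1) }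
  letI mdD : Module (ZMod p) (Additive ↥Dm) :=
    by exact AddCommGroup.zmodModule fun x => show x.toMul ^ p = 1 from Subtype.ext x.toMul.2.2
  have hDk : ∀ (k : ↥K) (d : ↥Dm), (k : Γ) * d * (k : Γ)⁻¹ ∈ Dm := fun k d =>
    ⟨hZn.conj_mem _ d.2.1 _, by rw [conj_pow, d.2.2, mul_one, mul_inv_cancel]⟩
  have hWk : ∀ (k : ↥K) (w : ↥Wm), π k * w * (π k)⁻¹ ∈ Wm := by
    rintro k ⟨_, a, ha, rfl⟩
    exact ⟨k * a * (k : Γ)⁻¹, (Subgroup.mem_normalizer_iff.1 (hKU' k.2) a).1 ha, by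
      rw [map_mul, map_mul, map_inv]⟩
  let φW : ↥K → (↥Wm →* ↥Wm) := fun k =>
    { toFun := fun w => ⟨_, hWk k w⟩
      map_one' := Subtype.ext (by show π k * 1 * (π k)⁻¹ = 1; group)
      map_mul' := fun a b => Subtype.ext (by
        show π k * (a * b : Γ ⧸ V) * (π k)⁻¹ = π k * a * (π k)⁻¹ * (π k * b * (π k)⁻¹); group) }
  let φD : ↥K → (↥Dm →* ↥Dm) := fun k =>
    { toFun := fun d => ⟨_, hDk k d⟩
      map_one' := Subtype.ext (by show (k : Γ) * 1 * (k : Γ)⁻¹ = 1; group)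
      map_mul' := fun a b => Subtype.ext (by
        show (k : Γ) * (a * b : Γ) * (k : Γ)⁻¹ = k * a * (k : Γ)⁻¹ * (k * b * (k : Γ)⁻¹); group) }
  let ρ : Representation (ZMod p) ↥K (Additive ↥Wm) :=
    show ↥K →* Module.End (ZMod p) (Additive ↥Wm) from
    { toFun := fun k => (MonoidHom.toAdditive (φW k)).toZModLinearMap p
      map_one' := LinearMap.ext fun x => Subtype.ext (by
        show π ((1 : ↥K) : Γ) * ((x.toMul : ↥Wm) : Γ ⧸ V) * (π ((1 : ↥K) : Γ))⁻¹ = ((x.toMul : ↥Wm) : Γ ⧸ V); simp)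
      map_mul' := fun a b => LinearMap.ext fun x => Subtype.ext (by
        show π ((a * b : ↥K) : Γ) * ((x.toMul : ↥Wm) : Γ ⧸ V) * (π ((a * b : ↥K) : Γ))⁻¹ =
          π (a : Γ) * (π (b : Γ) * ((x.toMul : ↥Wm) : Γ ⧸ V) * (π (b : Γ))⁻¹) * (π (a : Γ))⁻¹
        rw [Subgroup.coe_mul, map_mul]; group) }
  let σ : Representation (ZMod p) ↥K (Additive ↥Dm) :=
    show ↥K →* Module.End (ZMod p) (Additive ↥Dm) from
    { toFun := fun k => (MonoidHom.toAdditive (φD k)).toZModLinearMap p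
      map_one' := LinearMap.ext fun x => Subtype.ext (by
        show ((1 : ↥K) : Γ) * ((x.toMul : ↥Dm) : Γ) * ((1 : ↥K) : Γ)⁻¹ = ((x.toMul : ↥Dm) : Γ); simp)
      map_mul' := fun a b => LinearMap.ext fun x => Subtype.ext (by
        show ((a * b : ↥K) : Γ) * ((x.toMul : ↥Dm) : Γ) * ((a * b : ↥K) : Γ)⁻¹ =
          (a : Γ) * ((b : Γ) * ((x.toMul : ↥Dm) : Γ) * (b : Γ)⁻¹) * (a : Γ)⁻¹
        rw [Subgroup.coe_mul]; group) }
  -- the pairing
  have hcz : ∀ z ∈ KInf.zc A, ∀ u ∈ U', Commute u z := fun z hz u hu => hz.2 u (hU'A hu)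
  have hcomz : ∀ u ∈ U', ∀ v ∈ U', ⁅u, v⁆ ∈ KInf.zc A := fun u hu v hv =>
    hUUz (Subgroup.commutator_mem_commutator (hU'U hu) (hU'U hv))
  have hmulL : ∀ a ∈ U', ∀ b ∈ U', ∀ v ∈ U', ⁅a * b, v⁆ = ⁅a, v⁆ * ⁅b, v⁆ := fun a ha b hb v hv => by
    rw [commutatorElement_mul_left_eq_conj_mul, (hcz _ (hcomz b hb v hv) a ha).eq, mul_inv_cancel_right]
    exact ((hcomz a ha v hv).2 _ (hcomz b hb v hv).1).symm ▸ rfl
  have hmulR : ∀ u ∈ U', ∀ a ∈ U', ∀ b ∈ U', ⁅u, a * b⁆ = ⁅u, a⁆ * ⁅u, b⁆ := fun u hu a ha b hb => by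
    rw [commutatorElement_mul_right_eq_mul_conj, mul_assoc, mul_assoc, ← mul_assoc a,
      (hcz _ (hcomz u hu b hb) a ha).eq, mul_inv_cancel_right]
  have hVc : ∀ c ∈ V, ∀ u ∈ U', ⁅c, u⁆ = 1 := fun c hc u hu =>
    commutatorElement_eq_one_iff_commute.2 (hCV (hU'U hu) c hc)
  have hDmem : ∀ u ∈ U', ∀ v ∈ U', ⁅u, v⁆ ∈ Dm := fun u hu v hv => ⟨hcomz u hu v hv, by
    have h : ∀ n : ℕ, ⁅u, v⁆ ^ n = ⁅u ^ n, v⁆ := by
      intro n
      induction n with
      | zero => simp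
      | succ n ih => rw [pow_succ, pow_succ, hmulL _ (U'.pow_mem hu n) u hu v hv, ih]
    rw [h p]
    exact commutatorElement_eq_one_iff_commute.2 (hcz _ (hA1 u (hU'A hu)) v hv).symm⟩
  choose s hsU hsπ using fun w : ↥Wm => w.2
  let F : ↥Wm → ↥Wm → ↥Dm := fun w w' => ⟨⁅s w, s w'⁆, hDmem _ (hsU w) _ (hsU w')⟩
  have hF : ∀ (w w' : ↥Wm) (u v : Γ), u ∈ U' → v ∈ U' → π u = w → π v = w' → ((F w w' : ↥Dm) : Γ) = ⁅u, v⁆ := by
    intro w w' u v hu hv ew ew'
    show ⁅s w, s w'⁆ = _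
    have h1 : u⁻¹ * s w ∈ V := hπ1.2 (by rw [map_mul, map_inv, ew, hsπ w, inv_mul_cancel])
    have h2 : v⁻¹ * s w' ∈ V := hπ1.2 (by rw [map_mul, map_inv, ew', hsπ w', inv_mul_cancel])
    rw [show s w = u * (u⁻¹ * s w) by group, hmulL u hu _ (hVU' h1) _ (hsU w'), hVc _ h1 _ (hsU w'), mul_one,
      show s w' = v * (v⁻¹ * s w') by group, hmulR u hu v hv _ (hVU' h2),
      ← commutatorElement_inv (v⁻¹ * s w') u, hVc _ h2 u hu, inv_one, mul_one]
  let f1 : Additive ↥Wm → Additive ↥Wm →ₗ[ZMod p] Additive ↥Dm := fun x =>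
    (AddMonoidHom.mk' (fun y => Additive.ofMul (F x.toMul y.toMul)) fun y y' => Subtype.ext (by
      show ((F x.toMul (y.toMul * y'.toMul) : ↥Dm) : Γ) = (F x.toMul y.toMul : Γ) * (F x.toMul y'.toMul : Γ)
      rw [hF _ _ (s x.toMul) (s y.toMul * s y'.toMul) (hsU _) (U'.mul_mem (hsU _) (hsU _)) (hsπ _)
        (by rw [map_mul, hsπ, hsπ]; rfl), hmulR _ (hsU _) _ (hsU _) _ (hsU _)])).toZModLinearMap p
  let f : Additive ↥Wm →ₗ[ZMod p] Additive ↥Wm →ₗ[ZMod p] Additive ↥Dm :=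
    (AddMonoidHom.mk' f1 fun x x' => LinearMap.ext fun y => Subtype.ext (by
      rw [LinearMap.add_apply]
      show ((F (x.toMul * x'.toMul) y.toMul : ↥Dm) : Γ) = (F x.toMul y.toMul : Γ) * (F x'.toMul y.toMul : Γ)
      rw [hF _ _ (s x.toMul * s x'.toMul) (s y.toMul) (U'.mul_mem (hsU _) (hsU _)) (hsU _)
        (by rw [map_mul, hsπ, hsπ]; rfl) (hsπ _), hmulL _ (hsU _) _ (hsU _) _ (hsU _)])).toZModLinearMap p
  have hfv : ∀ x y : Additive ↥Wm, (((f x y).toMul : ↥Dm) : Γ) = ⁅s x.toMul, s y.toMul⁆ := fun x y => rfl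
  have halt : ∀ x, f x x = 0 := fun x => Subtype.ext (by
    show ⁅s x.toMul, s x.toMul⁆ = 1
    exact commutatorElement_eq_one_iff_commute.2 (Commute.refl _))
  have heq : ∀ k x y, f (ρ k x) (ρ k y) = σ k (f x y) := fun k x y => Subtype.ext (by
    show ((F (φW k x.toMul) (φW k y.toMul) : ↥Dm) : Γ) = (k : Γ) * ⁅s x.toMul, s y.toMul⁆ * (k : Γ)⁻¹
    rw [hF _ _ ((k : Γ) * s x.toMul * (k : Γ)⁻¹) ((k : Γ) * s y.toMul * (k : Γ)⁻¹)
      ((Subgroup.mem_normalizer_iff.1 (hKU' k.2) _).1 (hsU _)) ((Subgroup.mem_normalizer_iff.1 (hKU' k.2) _).1 (hsU _))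
      (by rw [map_mul, map_mul, map_inv, hsπ]; rfl) (by rw [map_mul, map_mul, map_inv, hsπ]; rfl),
      commutatorElement_def, commutatorElement_def]
    group)
  have hnq : ∀ (b : Γ) (hb : b ∈ B) (x : Additive ↥Wm) (u : Γ), π u = ((x.toMul : ↥Wm) : Γ ⧸ V) →
      ρ ⟨b, hBK hb⟩ (ρ ⟨b, hBK hb⟩ x - x) - (ρ ⟨b, hBK hb⟩ x - x) ≠ 0 → ⁅b, ⁅b, u⁆⁆ ≠ 1 := by
    intro b hb x u hu hne h1
    refine hne (Subtype.ext ?_)
    show π b * (π b * ((x.toMul : ↥Wm) : Γ ⧸ V) * (π b)⁻¹ / ((x.toMul : ↥Wm) : Γ ⧸ V)) * (π b)⁻¹ /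
      (π b * ((x.toMul : ↥Wm) : Γ ⧸ V) * (π b)⁻¹ / ((x.toMul : ↥Wm) : Γ ⧸ V)) = 1
    rw [← hu, ← map_one π, ← h1, map_commutatorElement, map_commutatorElement]
    simp only [commutatorElement_def, div_eq_mul_inv]
  by_cases hmv : ∀ b ∈ B, ∀ u ∈ U', ∀ v ∈ U', b * ⁅u, v⁆ * b⁻¹ = ⁅u, v⁆
  · refine hq₀ ?_
    rw [hfin U' le_rfl (hBK.trans hKU') (Subgroup.commutator_eq_bot_iff_le_centralizer.2 fun b hb => ?_) b₀ hb₀ u₀ hu₀]
    · exact V.one_mem
    have h1 : ⁅U', U'⁆ ≤ Subgroup.centralizer ({b} : Set Γ) := Subgroup.commutator_le.2 fun u hu v hv y hy => by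
      rw [Set.mem_singleton_iff.1 hy]
      exact mul_inv_eq_iff_eq_mul.1 (hmv b hb u hu v hv)
    exact fun z hz => (h1 hz b rfl).symm
  push_neg at hmv
  obtain ⟨b₁, hb₁, u₁, hu₁, v₁, hv₁, hne₁⟩ := hmv
  obtain ⟨X, hXB, hXiso, ⟨b, hb⟩, hbB, x, hxX, hne⟩ := CfsgLib.Iso.isotropic_nonquadratic (p := p) hp2 ρ σ f halt heq
    (L.subgroupOf K) (fun l hl d => Subtype.ext (by
      show (l : Γ) * ((d.toMul : ↥Dm) : Γ) * (l : Γ)⁻¹ = ((d.toMul : ↥Dm) : Γ)
      rw [mul_inv_eq_iff_eq_mul]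
      exact (hLV hl _ (hzV d.toMul.2.1)).symm))
    (fun k => by obtain ⟨n, hn⟩ := hpow k k.2; exact ⟨n, hn⟩)
    (fun X hX => by
      let Y : Subgroup Γ :=
        { carrier := {u | u ∈ U' ∧ ∃ h : π u ∈ Wm, Additive.ofMul (⟨π u, h⟩ : ↥Wm) ∈ X}
          one_mem' := ⟨U'.one_mem, by rw [map_one]; exact one_mem _, by
            convert X.zero_mem; exact Subtype.ext (map_one π)⟩
          mul_mem' := fun {a c} ha hc => ⟨U'.mul_mem ha.1 hc.1, by rw [map_mul]; exact Wm.mul_mem ha.2.1 hc.2.1, by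
            convert X.add_mem ha.2.2 hc.2.2; exact Subtype.ext (map_mul π a c)⟩
          inv_mem' := fun {a} ha => ⟨U'.inv_mem ha.1, by rw [map_inv]; exact Wm.inv_mem ha.2.1, by
            convert X.neg_mem ha.2.2; exact Subtype.ext (map_inv π a)⟩ }
      have hVY : V ≤ Y := fun v hv => ⟨hVU' hv, by rw [hπ1.1 hv]; exact one_mem _, by
        convert X.zero_mem; exact Subtype.ext (hπ1.1 hv)⟩
      have hYK : ∀ k ∈ K, ∀ u ∈ Y, k * u * k⁻¹ ∈ Y := fun k hk u hu =>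
        ⟨(Subgroup.mem_normalizer_iff.1 (hKU' hk) u).1 hu.1, by
          rw [map_mul, map_mul, map_inv]; exact hWk ⟨k, hk⟩ ⟨_, hu.2.1⟩, by
          convert hX ⟨k, hk⟩ _ hu.2.2
          exact Subtype.ext (by show π (k * u * k⁻¹) = π k * π u * (π k)⁻¹; rw [map_mul, map_mul, map_inv])⟩
      rcases hirr Y hVY (fun u hu => hu.1) (fun k hk => Subgroup.mem_normalizer_iff.2 fun u =>
          ⟨hYK k hk u, fun h => by simpa [mul_assoc] using hYK k⁻¹ (K.inv_mem hk) _ h⟩) with h | h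
      · refine Or.inl ((Submodule.eq_bot_iff X).2 fun x hx => Subtype.ext ?_)
        show ((x.toMul : ↥Wm) : Γ ⧸ V) = 1
        rw [← hsπ x.toMul]
        exact hπ1.1 (h ⟨hsU _, by rw [hsπ]; exact x.toMul.2, by convert hx; exact Subtype.ext (hsπ _)⟩)
      · refine Or.inr (Submodule.eq_top_iff'.2 fun x => ?_)
        obtain ⟨-, h1, h2⟩ := h (hsU x.toMul)
        convert h2 using 1
        exact Subtype.ext (hsπ _).symm)
    (B.subgroupOf K) hBp.comap_subtype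
    ⟨⟨b₁, hBK hb₁⟩, hb₁, Additive.ofMul ⟨π u₁, u₁, hu₁, rfl⟩, Additive.ofMul ⟨π v₁, v₁, hv₁, rfl⟩, fun h => hne₁ (by
      have h1 : b₁ * ((F _ _ : ↥Dm) : Γ) * b₁⁻¹ = ((F _ _ : ↥Dm) : Γ) := congrArg (fun d => ((d.toMul : ↥Dm) : Γ)) h
      rwa [hF _ _ u₁ v₁ hu₁ hv₁ rfl rfl] at h1)⟩
  let A₀ : Subgroup Γ :=
    { carrier := {u | u ∈ U' ∧ ∃ h : π u ∈ Wm, Additive.ofMul (⟨π u, h⟩ : ↥Wm) ∈ X}
      one_mem' := ⟨U'.one_mem, by rw [map_one]; exact one_mem _, by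
        convert X.zero_mem; exact Subtype.ext (map_one π)⟩
      mul_mem' := fun {a c} ha hc => ⟨U'.mul_mem ha.1 hc.1, by rw [map_mul]; exact Wm.mul_mem ha.2.1 hc.2.1, by
        convert X.add_mem ha.2.2 hc.2.2; exact Subtype.ext (map_mul π a c)⟩
      inv_mem' := fun {a} ha => ⟨U'.inv_mem ha.1, by rw [map_inv]; exact Wm.inv_mem ha.2.1, by
        convert X.neg_mem ha.2.2; exact Subtype.ext (map_inv π a)⟩ }
  have hAB₀ : ∀ c ∈ B, ∀ u ∈ A₀, c * u * c⁻¹ ∈ A₀ := fun c hc u hu =>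
    ⟨(Subgroup.mem_normalizer_iff.1 (hKU' (hBK hc)) u).1 hu.1, by
      rw [map_mul, map_mul, map_inv]; exact hWk ⟨c, hBK hc⟩ ⟨_, hu.2.1⟩, by
      convert hXB ⟨c, hBK hc⟩ hc _ hu.2.2
      exact Subtype.ext (by show π (c * u * c⁻¹) = π c * π u * (π c)⁻¹; rw [map_mul, map_mul, map_inv])⟩
  have hA₀ab : ⁅A₀, A₀⁆ = ⊥ := eq_bot_iff.2 (Subgroup.commutator_le.2 fun u hu v hv => Subgroup.mem_bot.2 (by
    have h1 : ((F ⟨π u, hu.2.1⟩ ⟨π v, hv.2.1⟩ : ↥Dm) : Γ) = 1 :=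
      congrArg (fun d => ((d.toMul : ↥Dm) : Γ)) (hXiso _ hu.2.2 _ hv.2.2)
    rwa [hF _ _ u v hu.1 hv.1 rfl rfl] at h1))
  refine hnq b hbB x (s x.toMul) (hsπ _) hne (hfin A₀ (fun u hu => hu.1) (fun c hc => Subgroup.mem_normalizer_iff.2
    fun u => ⟨hAB₀ c hc u, fun h => by simpa [mul_assoc] using hAB₀ c⁻¹ (B.inv_mem hc) _ h⟩)
    (by rw [hA₀ab, Subgroup.commutator_bot_right]) b hbB _ ⟨hsU _, by rw [hsπ]; exact x.toMul.2, ?_⟩)
  convert hxX
  exact Subtype.ext (hsπ _)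

end CfsgLib.Glau
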