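import Mathlib

/-!
Two quadratic linear maps whose product has split eigenvalues: a two-dimensional non-p quotient.
-/

set_option autoImplicit false
set_option linter.style.haveILetI false
set_option linter.unusedSectionVars false

namespace CfsgLib.Fus.QuadraticPair

open Polynomial

universe u

variable {K : Type*} [Field K] [Fintype K] {p : ℕ} [hp : Fact p.Prime] [CharP K p]

theorem p_nsmul {W : Type*} [AddCommGroup W] [Module K W] (x : W) : p • x = 0 := by
  rw [← Nat.cast_smul_eq_nsmul K, CharP.cast_eq_zero, zero_smul]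

theorem pow_apply_quad {W : Type*} [AddCommGroup W] [Module K W] (a : W ≃ₗ[K] W) (w : W)
    (ha : a (a w - w) = a w - w) : ∀ n : ℕ, (a ^ n) w = w + n • (a w - w) := by
  intro n
  induction n with
  | zero => simp
  | succ n ih =>
    rw [pow_succ']
    show a ((a ^ n) w) = _
    rw [ih, map_add, map_nsmul, ha, succ_nsmul]
    abel

theorem quad_pow {W : Type*} [AddCommGroup W] [Module K W] (a : W ≃ₗ[K] W)
    (ha : ∀ w : W, a (a w - w) = a w - w) : a ^ p = 1 := by
  refine LinearEquiv.ext fun w => ?_
  rw [pow_apply_quad a w (ha w) p, p_nsmul (K := K), add_zero]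
  rfl

theorem exists_eigen {W : Type*} [AddCommGroup W] [Module K W] [Finite W] [Nontrivial W] (c : Module.End K W) (e : ℕ)
    (hc : c ^ (Fintype.card K * p ^ e) = c ^ p ^ e) : ∃ (μ : K) (v : W), v ≠ 0 ∧ c v = μ • v := by
  classical
  by_contra hno
  push Not at hno
  have hinj : ∀ μ : K, Function.Injective (aeval c (X - C μ)) := fun μ => by
    rw [injective_iff_map_eq_zero]
    intro v hv
    by_contra hv0
    simp [Algebra.algebraMap_eq_smul_one, sub_eq_zero] at hv
    exact hno μ v hv0 hv
  have hprod : ∀ s : Finset K, Function.Injective (aeval c (∏ μ ∈ s, (X - C μ))) := by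
    intro s
    induction s using Finset.induction with
    | empty => simp [Function.Injective]
    | insert x s hx ih =>
      rw [Finset.prod_insert hx, map_mul]
      exact (hinj x).comp ih
  have hq : 1 < Fintype.card K := Fintype.one_lt_card
  have hpr : (∏ μ : K, (X - C μ)) = X ^ Fintype.card K - X := by
    have hm : (X ^ Fintype.card K - X : K[X]).Monic := monic_X_pow_sub (by simpa using hq)
    have h := prod_multiset_X_sub_C_of_monic_of_roots_card_eq hm (by
      rw [FiniteField.roots_X_pow_card_sub_X, FiniteField.X_pow_card_sub_X_natDegree_eq K hq]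
      simp)
    rw [FiniteField.roots_X_pow_card_sub_X] at h
    exact h
  have h1 := hprod Finset.univ
  rw [hpr] at h1
  have h2 : (aeval c ((X : K[X]) ^ Fintype.card K - X)) ^ p ^ e = 0 := by
    rw [← map_pow, sub_pow_char_pow, ← pow_mul, map_sub, map_pow, map_pow, aeval_X, hc, sub_self]
  have h3 : ∀ n : ℕ, Function.Injective ((aeval c ((X : K[X]) ^ Fintype.card K - X)) ^ n) := by
    intro n
    induction n with
    | zero => simp [Function.Injective]
    | succ n ih => rw [pow_succ]; exact ih.comp h1
  obtain ⟨v, hv⟩ := exists_ne (0 : W)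
  have h4 := h3 (p ^ e)
  rw [h2] at h4
  exact hv (h4 (a₁ := v) (a₂ := 0) (by simp))

/-- The action on an invariant subspace. -/
noncomputable def restr {W : Type*} [AddCommGroup W] [Module K W] (U : Submodule K W) (H : Subgroup (W ≃ₗ[K] W))
    (hU : ∀ g ∈ H, ∀ u ∈ U, g u ∈ U) : ↥H →* (↥U ≃ₗ[K] ↥U) :=
  (LinearMap.GeneralLinearGroup.generalLinearEquiv K ↥U).toMonoidHom.comp
    (MonoidHom.toHomUnits
      { toFun := fun g => ((g : W ≃ₗ[K] W) : W →ₗ[K] W).restrict (fun u hu => hU g g.2 u hu)
        map_one' := LinearMap.ext fun u => Subtype.ext rfl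
        map_mul' := fun g h => LinearMap.ext fun u => Subtype.ext rfl })

theorem restr_apply {W : Type*} [AddCommGroup W] [Module K W] (U : Submodule K W) (H : Subgroup (W ≃ₗ[K] W))
    (hU : ∀ g ∈ H, ∀ u ∈ U, g u ∈ U) (g : ↥H) (u : U) : ((restr U H hU g u : U) : W) = (g : W ≃ₗ[K] W) u := rfl

/-- The action on the quotient by an invariant subspace. -/
noncomputable def quot {W : Type*} [AddCommGroup W] [Module K W] (U : Submodule K W) (H : Subgroup (W ≃ₗ[K] W))
    (hU : ∀ g ∈ H, ∀ u ∈ U, g u ∈ U) : ↥H →* ((W ⧸ U) ≃ₗ[K] (W ⧸ U)) :=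
  (LinearMap.GeneralLinearGroup.generalLinearEquiv K (W ⧸ U)).toMonoidHom.comp
    (MonoidHom.toHomUnits
      { toFun := fun g => U.mapQ U ((g : W ≃ₗ[K] W) : W →ₗ[K] W) (fun u hu => hU g g.2 u hu)
        map_one' := Submodule.linearMap_qext _ (LinearMap.ext fun _ => rfl)
        map_mul' := fun g h => Submodule.linearMap_qext _ (LinearMap.ext fun _ => rfl) })

theorem quot_apply {W : Type*} [AddCommGroup W] [Module K W] (U : Submodule K W) (H : Subgroup (W ≃ₗ[K] W))
    (hU : ∀ g ∈ H, ∀ u ∈ U, g u ∈ U) (g : ↥H) (w : W) :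
    quot U H hU g (Submodule.Quotient.mk w) = Submodule.Quotient.mk ((g : W ≃ₗ[K] W) w) := rfl

theorem isPGroup_range_of_gens {G M : Type*} [Group G] [Group M] (f : G →* M) {a b : G}
    (hgen : Subgroup.closure ({a, b} : Set G) = ⊤) (ha : f a = 1) (hb : f b = 1) : IsPGroup p f.range := by
  have h : f.range = ⊥ := by
    rw [MonoidHom.range_eq_map, ← hgen, MonoidHom.map_closure, Subgroup.closure_eq_bot_iff]
    rintro _ ⟨x, (rfl | rfl), rfl⟩ <;> simp [*]
  rw [h]
  exact IsPGroup.of_bot

theorem small_case {U : Type*} [AddCommGroup U] [Module K U] [FiniteDimensional K U] {G : Type*} [Group G]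
    (f : G →* (U ≃ₗ[K] U)) {a b : G} (hgen : Subgroup.closure ({a, b} : Set G) = ⊤) (ha : f a ^ p = 1)
    (hb : f b ^ p = 1) (hdim : Module.finrank K U ≤ 2) (hnp : ¬ IsPGroup p f.range) :
    ∃ φ : G →* Matrix.SpecialLinearGroup (Fin 2) K, ¬ IsPGroup p φ.range := by
  classical
  have hone : ∀ d : K, d ^ p = 1 → d = 1 := fun d h =>
    frobenius_inj K p (by simpa [frobenius_def] using h)
  by_cases h2 : Module.finrank K U = 2
  · let B := Module.finBasisOfFinrankEq K U h2
    let g : G →* Matrix (Fin 2) (Fin 2) K :=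
      { toFun := fun x => LinearMap.toMatrix B B ((f x : U ≃ₗ[K] U) : U →ₗ[K] U)
        map_one' := by rw [map_one]; exact LinearMap.toMatrix_one B
        map_mul' := fun x y => by rw [map_mul]; exact LinearMap.toMatrix_mul B _ _ }
    have hdet : ∀ x, (g x).det = 1 := by
      let d : G →* K := Matrix.detMonoidHom.comp g
      let L : Subgroup G := d.ker
      have hda : ∀ x, f x ^ p = 1 → d x = 1 := fun x hx => hone _ (by
        rw [← map_pow]
        show (g (x ^ p)).det = 1
        show (LinearMap.toMatrix B B ((f (x ^ p) : U ≃ₗ[K] U) : U →ₗ[K] U)).det = 1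
        rw [map_pow, hx]
        exact (congrArg Matrix.det (LinearMap.toMatrix_one B)).trans Matrix.det_one)
      have hL : L = ⊤ := by
        refine top_le_iff.1 (hgen ▸ (Subgroup.closure_le _).2 ?_)
        rintro _ (rfl | rfl)
        · exact hda _ ha
        · exact hda _ hb
      intro x
      exact MonoidHom.mem_ker.1 (hL.ge (Subgroup.mem_top x))
    let φ : G →* Matrix.SpecialLinearGroup (Fin 2) K :=
      { toFun := fun x => ⟨g x, hdet x⟩
        map_one' := Subtype.ext (map_one g)
        map_mul' := fun x y => Subtype.ext (map_mul g x y) }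
    refine ⟨φ, fun h => hnp ?_⟩
    rintro ⟨_, x, rfl⟩
    obtain ⟨k, hk⟩ := h ⟨φ x, x, rfl⟩
    refine ⟨k, Subtype.ext ?_⟩
    show f x ^ p ^ k = 1
    have h' : φ x ^ p ^ k = 1 := congrArg Subtype.val hk
    rw [← map_pow] at h' ⊢
    have h'' : g (x ^ p ^ k) = 1 := congrArg Subtype.val h'
    refine LinearEquiv.toLinearMap_injective ((LinearMap.toMatrix B B).injective ?_)
    exact h''.trans (LinearMap.toMatrix_one B).symm
  · exfalso
    have hle : Module.finrank K U ≤ 1 := by omega
    have htriv : ∀ x, f x ^ p = 1 → f x = 1 := by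
      intro x hx
      obtain ⟨v, hv⟩ := finrank_le_one_iff.1 hle
      obtain ⟨d, hd⟩ := hv (f x v)
      refine LinearEquiv.ext fun w => ?_
      obtain ⟨c, rfl⟩ := hv w
      rw [map_smul, LinearEquiv.coe_one, id, ← hd]
      by_cases hv0 : v = 0
      · simp [hv0]
      have hpow : ∀ n : ℕ, (f x ^ n) v = d ^ n • v := by
        intro n
        induction n with
        | zero => simp
        | succ n ih =>
          rw [pow_succ' (f x)]
          show f x ((f x ^ n) v) = _
          rw [ih, map_smul, ← hd, smul_smul, pow_succ]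
      have h1 := hpow p
      rw [hx] at h1
      have h1' : (1 : K) • v = d ^ p • v := by rw [one_smul]; exact h1
      rw [hone d (smul_left_injective K hv0 h1').symm, one_smul]
    exact hnp (isPGroup_range_of_gens f hgen (htriv a ha) (htriv b hb))

theorem main : ∀ (n : ℕ) (W : Type u) [AddCommGroup W] [Module K W] [FiniteDimensional K W] [Finite W]
    (H : Subgroup (W ≃ₗ[K] W)) (a b : W ≃ₗ[K] W) (e : ℕ), Module.finrank K W ≤ n → H = Subgroup.closure {a, b} →
    (∀ w : W, a (a w - w) = a w - w) → (∀ w : W, b (b w - w) = b w - w) →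
    (a * b) ^ (Fintype.card K * p ^ e) = (a * b) ^ p ^ e → ¬ IsPGroup p H →
    ∃ φ : ↥H →* Matrix.SpecialLinearGroup (Fin 2) K, ¬ IsPGroup p φ.range := by
  classical
  intro n
  induction n with
  | zero =>
    intro W _ _ _ _ H a b e hn hH _ _ _ hnp
    exfalso
    haveI : Subsingleton W := Module.finrank_zero_iff.1 (Nat.le_zero.1 hn)
    exact hnp fun g => ⟨0, Subtype.ext (LinearEquiv.ext fun w => Subsingleton.elim _ _)⟩
  | succ n ih =>
    intro W _ _ _ _ H a b e hn hH ha hb hc hnp
    by_cases hs : Subsingleton W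
    · exfalso; exact hnp fun g => ⟨0, Subtype.ext (LinearEquiv.ext fun w => Subsingleton.elim _ _)⟩
    rw [not_subsingleton_iff_nontrivial] at hs
    haveI := hs
    obtain ⟨μ, v, hv, hμ⟩ := exists_eigen (p := p) ((a * b : W ≃ₗ[K] W) : W →ₗ[K] W) e (by
      have h := congrArg (fun g : W ≃ₗ[K] W => (g : W →ₗ[K] W)) hc
      let ψ : (W ≃ₗ[K] W) →* Module.End K W :=
        { toFun := fun g => (g : W →ₗ[K] W), map_one' := rfl, map_mul' := fun _ _ => rfl }
      show ψ (a * b) ^ _ = ψ (a * b) ^ _
      rw [← map_pow, ← map_pow, hc])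
    set A := a v - v
    set U : Submodule K W := Submodule.span K {v, A}
    have hAA : a A = A := ha v
    have hav : a v = v + A := by simp [A]
    have hvU : v ∈ U := Submodule.subset_span (by simp)
    have hAU : A ∈ U := Submodule.subset_span (by simp)
    have hbv : b v = μ • (v - A) := by
      apply a.injective
      have h1 : a (b v) = μ • v := hμ
      rw [h1, map_smul, map_sub, hav, hAA, add_sub_cancel_right]
    have hbA : b A ∈ U := by
      have h1 := hb v
      rw [hbv, map_sub, map_smul, map_sub, hbv] at h1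
      by_cases hμ0 : μ = 0
      · exfalso
        rw [hμ0, zero_smul] at hbv
        exact hv (b.injective (hbv.trans (map_zero b).symm))
      have h2 : μ • b A = μ • (μ • (v - A)) - μ • (v - A) - (μ • (v - A) - v) := by
        rw [← h1, smul_sub μ (μ • (v - A))]; abel
      have h3 : μ • b A ∈ U := by
        rw [h2]
        have hvA := U.sub_mem hvU hAU
        exact U.sub_mem (U.sub_mem (U.smul_mem _ (U.smul_mem _ hvA)) (U.smul_mem _ hvA))
          (U.sub_mem (U.smul_mem _ hvA) hvU)
      have := U.smul_mem μ⁻¹ h3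
      rwa [smul_smul, inv_mul_cancel₀ hμ0, one_smul] at this
    have hgenU : ∀ g : W ≃ₗ[K] W, g v ∈ U → g A ∈ U → ∀ u ∈ U, g u ∈ U := fun g h1 h2 u hu => by
      have hle : U ≤ U.comap (g : W →ₗ[K] W) := Submodule.span_le.2 (by rintro _ (rfl | rfl) <;> assumption)
      exact hle hu
    have hU : ∀ g ∈ H, ∀ u ∈ U, g u ∈ U := by
      intro g hg
      rw [hH] at hg
      induction hg using Subgroup.closure_induction with
      | mem x hx =>
        rcases hx with rfl | rfl
        · exact hgenU _ (hav ▸ U.add_mem hvU hAU) (hAA.symm ▸ hAU)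
        · exact hgenU _ (hbv ▸ U.smul_mem μ (U.sub_mem hvU hAU)) hbA
      | one => intro u hu; exact hu
      | mul x y _ _ hx hy => intro u hu; exact hx _ (hy u hu)
      | inv x _ hx =>
        intro u hu
        have hle : U.map (x : W →ₗ[K] W) ≤ U := by rintro _ ⟨w, hw, rfl⟩; exact hx w hw
        have heq : U.map (x : W →ₗ[K] W) = U := Submodule.eq_of_le_of_finrank_eq hle (LinearEquiv.finrank_map_eq x U)
        rw [← heq] at hu
        obtain ⟨w, hw, rfl⟩ := hu
        show x⁻¹ (x w) ∈ U
        rwa [show x⁻¹ (x w) = w from x.symm_apply_apply w]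
    have haH : a ∈ H := hH ▸ Subgroup.subset_closure (by simp)
    have hbH : b ∈ H := hH ▸ Subgroup.subset_closure (by simp)
    have hgenH : Subgroup.closure ({⟨a, haH⟩, ⟨b, hbH⟩} : Set ↥H) = ⊤ := by
      refine Subgroup.map_injective H.subtype_injective ?_
      rw [MonoidHom.map_closure, ← MonoidHom.range_eq_map, Subgroup.range_subtype, Set.image_pair]
      exact hH.symm
    set r := restr U H hU
    set s := quot U H hU
    have hap : (⟨a, haH⟩ : ↥H) ^ p = 1 := Subtype.ext (quad_pow a ha)
    have hbp : (⟨b, hbH⟩ : ↥H) ^ p = 1 := Subtype.ext (quad_pow b hb)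
    by_cases hr : IsPGroup p r.range
    swap
    · refine small_case r hgenH (by rw [← map_pow, hap, map_one]) (by rw [← map_pow, hbp, map_one]) ?_ hr
      refine (finrank_span_le_card ({v, A} : Set W)).trans ?_
      rw [Set.toFinset_card]
      refine le_trans (le_of_eq (Fintype.card_congr (Equiv.refl _))) ?_
      rw [← Nat.card_eq_fintype_card, Nat.card_coe_set_eq]
      exact (Set.ncard_insert_le _ _).trans (by rw [Set.ncard_singleton])
    by_cases hs' : IsPGroup p s.range
    · exfalso
      refine hnp fun g => ?_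
      obtain ⟨i, hi⟩ := hr ⟨r g, g, rfl⟩
      obtain ⟨j, hj⟩ := hs' ⟨s g, g, rfl⟩
      have hi' : r (g ^ p ^ (i + j)) = 1 := by
        rw [map_pow, pow_add, pow_mul, show r g ^ p ^ i = 1 from congrArg Subtype.val hi, one_pow]
      have hj' : s (g ^ p ^ (i + j)) = 1 := by
        rw [map_pow, pow_add, mul_comm, pow_mul, show s g ^ p ^ j = 1 from congrArg Subtype.val hj, one_pow]
      set k := g ^ p ^ (i + j) with hk
      have hfix : ∀ u : U, (k : W ≃ₗ[K] W) u = u := fun u => by
        rw [← restr_apply U H hU k u]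
        show ((r k u : U) : W) = _
        rw [hi']; rfl
      have hmod : ∀ w : W, (k : W ≃ₗ[K] W) w - w ∈ U := fun w => by
        rw [← Submodule.Quotient.eq, ← quot_apply U H hU k w]
        show s k _ = _
        rw [hj']; rfl
      refine ⟨i + j + 1, ?_⟩
      rw [pow_succ, pow_mul, ← hk]
      exact Subtype.ext (quad_pow (k : W ≃ₗ[K] W) fun w => hfix ⟨_, hmod w⟩)
    · have hdimU : 0 < Module.finrank K U := by
        rw [Module.finrank_pos_iff]
        exact ⟨⟨⟨v, hvU⟩, 0, fun h => hv (congrArg Subtype.val h)⟩⟩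
      have hdim := Submodule.finrank_quotient_add_finrank U
      haveI : Finite (W ⧸ U) := Finite.of_surjective _ (Submodule.Quotient.mk_surjective U)
      have hmap : s.range = Subgroup.closure {s ⟨a, haH⟩, s ⟨b, hbH⟩} := by
        rw [MonoidHom.range_eq_map, ← hgenH, MonoidHom.map_closure, Set.image_pair]
      obtain ⟨φ, hφ⟩ := ih (W ⧸ U) s.range (s ⟨a, haH⟩) (s ⟨b, hbH⟩) e (by omega) hmap
        (fun q => by
          obtain ⟨w, rfl⟩ := Submodule.Quotient.mk_surjective U q
          simp only [s, quot_apply, ← Submodule.Quotient.mk_sub, ha])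
        (fun q => by
          obtain ⟨w, rfl⟩ := Submodule.Quotient.mk_surjective U q
          simp only [s, quot_apply, ← Submodule.Quotient.mk_sub, hb])
        (by rw [← map_mul, ← map_pow, ← map_pow]; exact congrArg s (Subtype.ext hc))
        hs'
      exact ⟨φ.comp s.rangeRestrict, by
        rwa [MonoidHom.range_comp, MonoidHom.range_eq_top.2 s.rangeRestrict_surjective, ← MonoidHom.range_eq_map]⟩

end CfsgLib.Fus.QuadraticPair
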