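import Cfsg.Agent.S2879
import Cfsg.Agent.Base.ZStar.QuaternionFactor
import Cfsg.Agent.Solv.PComplement
import Cfsg.Agent.Solv.CoprimeAction

/-!
Groups whose Sylow 2-subgroup is generalized quaternion: sections isomorphic to `SL(2,3)`.
-/

set_option autoImplicit false
set_option linter.style.haveILetI false

namespace CfsgLib.Fus.QuatSection

open CfsgLib.Inv

variable {G : Type*} [Group G] [Finite G]

set_option maxHeartbeats 1000000 in
theorem exists_rel {m : ℕ} [NeZero m] {Q : Subgroup G} (hQ : IsPGroup 2 Q) (f : ↥Q →* QuaternionGroup m)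
    (hf : Function.Injective f) {x : G} (hx : Odd (orderOf x)) (hxQ : ∀ u ∈ Q, x * u * x⁻¹ ∈ Q)
    (hnc : ∃ u ∈ Q, x * u * x⁻¹ ≠ u) :
    Nat.card Q = 8 ∧ ∃ a b y : G, Odd (orderOf y) ∧ Subgroup.closure {a, b} = Q ∧ a ^ 4 = 1 ∧ b ^ 2 = a ^ 2 ∧
      b * a = a ^ 3 * b ∧ y * a * y⁻¹ = b ∧ y * b * y⁻¹ = a ^ 3 * b ∧ y ^ 3 * a * (y ^ 3)⁻¹ = a ∧ y * a * y⁻¹ ≠ a := by
  obtain ⟨⟨c, hcQ⟩, hc⟩ : ∃ c : ↥Q, (Subgroup.zpowers c).index = 2 := by
    set A := (Subgroup.zpowers (QuaternionGroup.a 1 : QuaternionGroup m)).comap f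
    haveI : IsCyclic ↥A := by
      let h : ↥A →* ↥(Subgroup.zpowers (QuaternionGroup.a 1 : QuaternionGroup m)) :=
        (f.comp A.subtype).codRestrict _ fun u => u.2
      exact isCyclic_of_injective h fun u v e =>
        Subtype.ext (hf (congrArg Subtype.val e))
    obtain ⟨c, hc⟩ := IsCyclic.exists_generator (α := ↥A)
    refine ⟨c.1, ?_⟩
    have hcA : Subgroup.zpowers (c.1 : ↥Q) = A := le_antisymm (Subgroup.zpowers_le.2 c.2) fun v hv => by
      obtain ⟨i, hi⟩ := hc ⟨v, hv⟩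
      exact ⟨i, congrArg Subtype.val hi⟩
    rw [hcA]
    have hidx : (Subgroup.zpowers (QuaternionGroup.a 1 : QuaternionGroup m)).index = 2 := by
      have h := (Subgroup.zpowers (QuaternionGroup.a 1 : QuaternionGroup m)).index_mul_card
      rw [Nat.card_zpowers, QuaternionGroup.orderOf_a_one,
        show Nat.card (QuaternionGroup m) = 4 * m by rw [Nat.card_eq_fintype_card, QuaternionGroup.card]] at h
      refine Nat.eq_of_mul_eq_mul_right (show 0 < 2 * m by have := NeZero.pos m; omega) ?_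
      omega
    haveI := Subgroup.normal_of_index_eq_two hidx
    have hd : A.index ∣ 2 := by
      rw [show A.index = (Subgroup.zpowers (QuaternionGroup.a 1 : QuaternionGroup m)).relIndex f.range from
        Subgroup.index_comap _ f]
      have hd := Subgroup.relIndex_dvd_index_of_normal (Subgroup.zpowers (QuaternionGroup.a 1 : QuaternionGroup m)) f.range
      rw [hidx] at hd
      exact hd
    refine ((Nat.dvd_prime Nat.prime_two).1 hd).resolve_left fun h1 => ?_
    -- a cyclic 2-group has no automorphism of odd order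
    rw [← hcA] at h1
    obtain ⟨k, hk⟩ := IsPGroup.iff_orderOf.1 hQ c.1
    have hgen : ∀ u ∈ Q, ∃ i : ℤ, ((c.1 : ↥Q) : G) ^ i = u := fun u hu => by
      obtain ⟨i, hi⟩ : (⟨u, hu⟩ : ↥Q) ∈ Subgroup.zpowers (c.1 : ↥Q) := by
        rw [Subgroup.index_eq_one.1 h1]; trivial
      exact ⟨i, by simpa using congrArg Subtype.val hi⟩
    rw [← Subgroup.orderOf_coe] at hk
    have hfix := Q8.aut_cyclic_trivial hk hx (hgen _ (hxQ _ c.1.2))
    obtain ⟨u, hu, hne⟩ := hnc
    obtain ⟨i, rfl⟩ := hgen u hu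
    exact hne (by rw [← conj_zpow, hfix])
  have hidx : (Subgroup.zpowers c).relIndex Q = 2 := by
    rw [← hc, Subgroup.relIndex]
    congr 1
    refine Subgroup.map_injective Q.subtype_injective ?_
    rw [Subgroup.subgroupOf_map_subtype, MonoidHom.map_zpowers]
    exact inf_eq_left.2 (Subgroup.zpowers_le.2 hcQ)
  obtain ⟨hd8, h8⟩ := Q8.structure_of_auto hQ hcQ hidx hx hxQ hnc
  set b := x * c * x⁻¹ with hb
  have hbQ : b ∈ Q := hxQ c hcQ
  have hbC : b ∉ Subgroup.zpowers c := Q8.moves hQ hcQ hidx hx hxQ hnc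
  have hcard := Subgroup.relIndex_mul_relIndex ⊥ _ Q bot_le (Subgroup.zpowers_le.2 hcQ)
  rw [Subgroup.relIndex_bot_left, Subgroup.relIndex_bot_left, Nat.card_zpowers, hidx] at hcard
  have hcard8 : Nat.card Q = 8 := by
    by_contra hne8
    have hinv : ∀ u : ↥Q, u ^ 2 = 1 → u = 1 ∨ f u = QuaternionGroup.a (m : ZMod (2 * m)) := fun u hu => by
      rcases CfsgLib.Base.ZStar.quat_invol (x := f u) (by rw [← map_mul, ← pow_two, hu, map_one]) with h | h
      · exact Or.inl (hf (h.trans (map_one f).symm))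
      · exact Or.inr h
    have hc2 : c ^ 2 = 1 := by
      rw [← orderOf_dvd_iff_pow_eq_one]
      have h4 : orderOf c ∣ 2 ^ 2 := Nat.dvd_of_mul_dvd_mul_right (show 0 < 2 by norm_num)
        (by rw [hcard]; exact hd8)
      obtain ⟨i, hi, e⟩ := (Nat.dvd_prime_pow Nat.prime_two).1 h4
      rw [e]
      have hi' : i ≤ 1 := by
        by_contra hi1
        exact hne8 (by rw [← hcard, e, show i = 2 by omega]; norm_num)
      exact (pow_dvd_pow 2 hi').trans (by norm_num)
    have hb2 : b ^ 2 = 1 := by rw [hb, conj_pow, hc2]; group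
    rcases hinv ⟨c, hcQ⟩ (Subtype.ext hc2) with hc1 | hc1
    · exact hbC (by rw [hb, show c = 1 from congrArg Subtype.val hc1]; simp)
    rcases hinv ⟨b, hbQ⟩ (Subtype.ext hb2) with hb1 | hb1
    · exact hbC (by rw [show b = 1 from congrArg Subtype.val hb1]; exact one_mem _)
    exact hbC (by rw [show b = c from congrArg Subtype.val (hf (hb1.trans hc1.symm))]; exact Subgroup.mem_zpowers c)
  obtain ⟨c4, c2, hb2, -, hbc⟩ := h8 hcard8
  have hbc' : b * c = c ^ 3 * b := mul_inv_eq_iff_eq_mul.1 hbc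
  have hc4 : orderOf c = 4 := by omega
  have hCle : Subgroup.zpowers c ≤ Q := Subgroup.zpowers_le.2 hcQ
  set t := x * b * x⁻¹ with ht
  have htB : t ∉ Subgroup.zpowers b := Q8.moves hQ hbQ (Q8.relIndex_conj hcQ hidx hxQ) hx hxQ hnc
  have htC : t ∉ Subgroup.zpowers c := by
    intro h
    have hx2 : Odd (orderOf (x ^ 2)) := hx.of_dvd_nat (orderOf_pow_dvd 2)
    have h' : x ^ 2 * c * (x ^ 2)⁻¹ ∈ Subgroup.zpowers c := by
      have : x ^ 2 * c * (x ^ 2)⁻¹ = t := by rw [ht, hb]; simp [pow_two, mul_assoc]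
      rwa [this]
    have hfix := Q8.aut_cyclic_trivial (k := 2) hc4 hx2 h'
    obtain ⟨k, hk⟩ := exists_pow_eq_self_of_coprime (G := G) (x := x) (n := 2) (Nat.coprime_two_left.2 hx)
    have hall : ∀ j : ℕ, Commute ((x ^ 2) ^ j) c := fun j =>
      (show Commute (x ^ 2) c from mul_inv_eq_iff_eq_mul.1 hfix).pow_left j
    have := hall k
    rw [hk] at this
    exact hbC (by rw [hb, this.eq, mul_inv_cancel_right]; exact Subgroup.mem_zpowers c)
  have hdec : ∀ u ∈ Q, u ∉ Subgroup.zpowers c → ∃ j : ℕ, j < 4 ∧ u = c ^ j * b := by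
    intro u hu huC
    have hm := Q8.mul_mem_of_not hCle hidx hu (inv_mem hbQ) huC (fun h => hbC (by simpa using inv_mem h))
    obtain ⟨j, hj⟩ := (isOfFinOrder_of_finite c).mem_powers_iff_mem_zpowers.2 hm
    refine ⟨j % 4, Nat.mod_lt _ (by norm_num), ?_⟩
    have hj' : c ^ j = u * b⁻¹ := hj
    rw [← hc4, pow_mod_orderOf, hj', inv_mul_cancel_right]
  have hgen : Subgroup.closure {c, b} = Q := by
    refine le_antisymm ((Subgroup.closure_le _).2 (by rintro u (rfl | rfl); exacts [hcQ, hbQ])) fun u hu => ?_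
    have hcs : c ∈ Subgroup.closure {c, b} := Subgroup.subset_closure (Or.inl rfl)
    by_cases huC : u ∈ Subgroup.zpowers c
    · exact Subgroup.zpowers_le.2 hcs huC
    · obtain ⟨j, -, rfl⟩ := hdec u hu huC
      exact mul_mem (pow_mem hcs j) (Subgroup.subset_closure (Or.inr rfl))
  obtain ⟨j, hj4, hj⟩ := hdec t (hxQ b hbQ) htC
  have hb4 : b ^ 4 = 1 := by rw [show 4 = 2 * 2 from rfl, pow_mul, hb2, ← pow_mul, c4]
  have hconj : ∀ n : ℕ, x * (c ^ n * b) * x⁻¹ = b ^ n * t := fun n => by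
    rw [hb, conj_pow, ← hb, ht]; group
  have hj' : j = 1 ∨ j = 3 := by
    rcases j with _ | _ | _ | _ | j
    · exact absurd (by rw [hj, pow_zero, one_mul]; exact Subgroup.mem_zpowers b) htB
    · exact Or.inl rfl
    · exact absurd (by rw [hj, ← hb2]; exact mul_mem (pow_mem (Subgroup.mem_zpowers b) 2) (Subgroup.mem_zpowers b)) htB
    · exact Or.inr rfl
    · omega
  have hxt : x * t * x⁻¹ = c := by
    rw [hj, hconj, hj]
    rcases hj' with rfl | rfl
    · rw [pow_one, pow_one, ← mul_assoc, hbc', mul_assoc, ← pow_two, hb2, ← pow_add]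
      calc c ^ (3 + 2) = c ^ 4 * c := by rw [← pow_succ]
        _ = c := by rw [c4, one_mul]
    · rw [← hbc', ← mul_assoc, ← pow_succ, hb4, one_mul]
  have hne : x * c * x⁻¹ ≠ c := fun e => hbC (by rw [hb, e]; exact Subgroup.mem_zpowers c)
  refine ⟨hcard8, ?_⟩
  have hx3 : x ^ 3 * c * (x ^ 3)⁻¹ = c := by
    conv_rhs => rw [← hxt, ht, hb]
    simp [pow_succ, mul_assoc]
  rcases hj' with rfl | rfl
  · rw [pow_one] at hj
    have e2 : x ^ 2 * c * (x ^ 2)⁻¹ = c * b := by rw [← hj, ht, hb]; simp [pow_two, mul_assoc]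
    have hcb : b * (c * b) = c := by
      rw [← mul_assoc, hbc', mul_assoc, ← pow_two, hb2, ← pow_add]
      calc c ^ (3 + 2) = c ^ 4 * c := by rw [← pow_succ]
        _ = c := by rw [c4, one_mul]
    refine ⟨c, c * b, x ^ 2, hx.of_dvd_nat (orderOf_pow_dvd 2), ?_, c4, ?_, ?_, e2, ?_, ?_, ?_⟩
    · refine le_antisymm ((Subgroup.closure_le _).2 (by rintro u (rfl | rfl); exacts [hcQ, mul_mem hcQ hbQ])) ?_
      rw [← hgen, Subgroup.closure_le]
      rintro u (rfl | rfl)
      · exact Subgroup.subset_closure (Or.inl rfl)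
      · have h := mul_mem (inv_mem (Subgroup.subset_closure (k := ({c, c * b} : Set G)) (Or.inl rfl)))
          (Subgroup.subset_closure (k := ({c, c * b} : Set G)) (Or.inr rfl))
        simpa using h
    · rw [pow_two (c * b), mul_assoc, hcb, ← pow_two]
    · rw [mul_assoc c b c, hbc', ← mul_assoc, ← mul_assoc (c ^ 3), ← pow_succ', ← pow_succ]
    · calc x ^ 2 * (c * b) * (x ^ 2)⁻¹ = x * (x * (c ^ 1 * b) * x⁻¹) * x⁻¹ := by simp [pow_two, mul_assoc]
        _ = b := by rw [hconj, pow_one, hj, hcb, hb]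
        _ = c ^ 3 * (c * b) := by rw [← mul_assoc, ← pow_succ, c4, one_mul]
    · rw [← pow_mul, mul_comm, pow_mul, show (x ^ 3) ^ 2 = x ^ 3 * x ^ 3 from pow_two _,
        show x ^ 3 * x ^ 3 * c * (x ^ 3 * x ^ 3)⁻¹ = x ^ 3 * (x ^ 3 * c * (x ^ 3)⁻¹) * (x ^ 3)⁻¹ by group, hx3, hx3]
    · rw [e2]
      exact fun e => hbC (by rw [mul_eq_left.1 e]; exact one_mem _)
  · exact ⟨c, b, x, hx, hgen, c4, hb2, hbc', rfl, hj, hx3, hne⟩

/-- The section. -/
theorem section_of_rel {a b y : G} (hcard : Nat.card ↥(Subgroup.closure {a, b}) = 8) (hy : Odd (orderOf y))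
    (a4 : a ^ 4 = 1) (hb2 : b ^ 2 = a ^ 2) (hba : b * a = a ^ 3 * b) (hya : y * a * y⁻¹ = b)
    (hyb : y * b * y⁻¹ = a ^ 3 * b) (hy3 : y ^ 3 * a * (y ^ 3)⁻¹ = a) (hne : y * a * y⁻¹ ≠ a) :
    ∃ (H K : Subgroup G) (_ : (K.subgroupOf H).Normal),
      Nonempty ((H ⧸ K.subgroupOf H) ≃* Matrix.SpecialLinearGroup (Fin 2) (ZMod 3)) := by
  set Q := Subgroup.closure {a, b} with hQ
  have haQ : a ∈ Q := Subgroup.subset_closure (Or.inl rfl)
  have hbQ : b ∈ Q := Subgroup.subset_closure (Or.inr rfl)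
  have hyN : y ∈ Subgroup.normalizer (Q : Set G) := by
    refine Subgroup.mem_normalizer_iff_map_conj_eq.2 (Subgroup.eq_of_le_of_card_ge ?_ ?_)
    · rw [hQ, MonoidHom.map_closure, Subgroup.closure_le]
      rintro _ ⟨u, (rfl | rfl), rfl⟩
      · show y * u * y⁻¹ ∈ Q
        rw [hya]; exact hbQ
      · show y * u * y⁻¹ ∈ Q
        rw [hyb]; exact mul_mem (pow_mem haQ 3) hbQ
    · rw [Subgroup.card_map_of_injective (MulAut.conj y).injective]
  have hca : Commute (y ^ 3) a := mul_inv_eq_iff_eq_mul.1 hy3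
  have hcb : Commute (y ^ 3) b := by
    rw [← hya]
    exact ((Commute.refl y).pow_left 3).mul_right hca |>.mul_right ((Commute.refl y).pow_left 3).inv_right
  set H := Q ⊔ Subgroup.zpowers y with hH
  set K := Subgroup.zpowers (y ^ 3) with hK
  have haH : a ∈ H := Subgroup.mem_sup_left haQ
  have hbH : b ∈ H := Subgroup.mem_sup_left hbQ
  have hyH : y ∈ H := Subgroup.mem_sup_right (Subgroup.mem_zpowers y)
  have hKH : K ≤ H := Subgroup.zpowers_le.2 (pow_mem hyH 3)
  haveI hKn : (K.subgroupOf H).Normal := by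
    rw [Subgroup.normal_subgroupOf_iff_le_normalizer hKH]
    refine le_trans (sup_le ((Subgroup.closure_le _).2 ?_) (Subgroup.zpowers_le.2 ?_))
      (Subgroup.centralizer_le_normalizer (K : Set G))
    · rintro u (rfl | rfl) <;> refine Subgroup.mem_centralizer_iff.2 ?_ <;> rintro _ ⟨i, rfl⟩
      · exact (hca.zpow_left i).eq
      · exact (hcb.zpow_left i).eq
    · refine Subgroup.mem_centralizer_iff.2 ?_
      rintro _ ⟨i, rfl⟩
      exact (((Commute.refl y).pow_left 3).zpow_left i).eq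
  have h3 : 3 ∣ orderOf y := by
    by_contra h
    obtain ⟨k, hk⟩ := exists_pow_eq_self_of_coprime (G := G) (x := y) (n := 3)
      ((Nat.Prime.coprime_iff_not_dvd Nat.prime_three).2 h)
    have := hca.pow_left k
    rw [hk] at this
    exact hne (by rw [this.eq, mul_inv_cancel_right])
  have hcop : (Nat.card Q).Coprime (orderOf y) := by
    rw [hcard, show 8 = 2 ^ 3 from rfl]
    exact Nat.Coprime.pow_left _ (Nat.coprime_two_left.2 hy)
  have hcardH : Nat.card H = 8 * orderOf y := by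
    have hle : Subgroup.zpowers y ≤ Subgroup.normalizer (Q : Set G) := Subgroup.zpowers_le.2 hyN
    rw [hH, sup_comm, CfsgLib.Solv.card_sup_of_le_normalizer hle (by rw [Nat.card_zpowers]; exact hcop.symm), hcard,
      Nat.card_zpowers, mul_comm]
  have hquot : Nat.card (H ⧸ K.subgroupOf H) = 24 := by
    have h1 := Subgroup.relIndex_mul_relIndex ⊥ K H bot_le hKH
    rw [Subgroup.relIndex_bot_left, Subgroup.relIndex_bot_left, hcardH, hK, Nat.card_zpowers, orderOf_pow' y (by norm_num),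
      Nat.gcd_eq_right h3] at h1
    show K.relIndex H = 24
    obtain ⟨k, hk⟩ := h3
    have := orderOf_pos y
    rw [hk, Nat.mul_div_cancel_left k (by norm_num)] at h1
    rw [show 8 * (3 * k) = k * 24 by ring] at h1
    exact Nat.eq_of_mul_eq_mul_left (by omega) h1
  have hgen : Subgroup.closure {(⟨a, haH⟩ : ↥H), ⟨b, hbH⟩, ⟨y, hyH⟩} = ⊤ := by
    refine Subgroup.map_injective H.subtype_injective ?_
    rw [MonoidHom.map_closure, ← MonoidHom.range_eq_map, Subgroup.range_subtype]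
    simp only [Set.image_insert_eq, Set.image_singleton, Subgroup.coe_subtype]
    refine le_antisymm ((Subgroup.closure_le _).2 (by rintro u (rfl | rfl | rfl); exacts [haH, hbH, hyH])) (sup_le ?_ ?_)
    · exact Subgroup.closure_mono (by rintro u (rfl | rfl); exacts [Or.inl rfl, Or.inr (Or.inl rfl)])
    · exact Subgroup.zpowers_le.2 (Subgroup.subset_closure (Or.inr (Or.inr rfl)))
  let π := QuotientGroup.mk' (K.subgroupOf H)
  let D : Q8.Data (H ⧸ K.subgroupOf H) :=
    { a := π ⟨a, haH⟩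
      b := π ⟨b, hbH⟩
      y := π ⟨y, hyH⟩
      hcard := hquot
      hgen := by
        have h := congrArg (Subgroup.map π) hgen
        rw [MonoidHom.map_closure, Subgroup.map_top_of_surjective π (QuotientGroup.mk'_surjective _)] at h
        simpa [Set.image_insert_eq, Set.image_singleton] using h
      a4 := by rw [← map_pow, show (⟨a, haH⟩ : ↥H) ^ 4 = 1 from Subtype.ext a4, map_one]
      b2 := by rw [← map_pow, ← map_pow, show (⟨b, hbH⟩ : ↥H) ^ 2 = ⟨a, haH⟩ ^ 2 from Subtype.ext hb2]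
      ba := by rw [← map_pow, ← map_mul, ← map_mul]; exact congrArg π (Subtype.ext hba)
      y3 := by
        rw [← map_pow]
        exact (QuotientGroup.eq_one_iff _).2 (Subgroup.mem_subgroupOf.2 (Subgroup.mem_zpowers (y ^ 3)))
      ya := by rw [← map_mul, ← map_mul]; exact congrArg π (Subtype.ext (mul_inv_eq_iff_eq_mul.1 hya))
      yb := by
        rw [← map_pow, ← map_mul, ← map_mul, ← map_mul]
        exact congrArg π (Subtype.ext (mul_inv_eq_iff_eq_mul.1 hyb)) }
  exact ⟨H, K, hKn, Q8.Data.iso D Cfsg.Agent.S2879.slData⟩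

/-- The dichotomy. -/
theorem main (T : Sylow 2 G) {m : ℕ} [NeZero m] (e : ↥(T : Subgroup G) ≃* QuaternionGroup m) :
    Cfsg.HasNormalPComplement 2 G ∨ ∃ (H K : Subgroup G) (_ : (K.subgroupOf H).Normal),
      Nonempty ((H ⧸ K.subgroupOf H) ≃* Matrix.SpecialLinearGroup (Fin 2) (ZMod 3)) := by
  haveI : Fact (Nat.Prime 2) := ⟨Nat.prime_two⟩
  refine or_iff_not_imp_left.2 fun hn => ?_
  have h' : ¬ CfsgLib.Solv.FrobCond 2 G := fun hf => hn (CfsgLib.Solv.hnpc_iff_frobCond.2 hf)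
  simp only [CfsgLib.Solv.FrobCond, not_forall] at h'
  obtain ⟨Q, hQ, x, hx, hc, hxc⟩ := h'
  obtain ⟨P, hP⟩ := hQ.exists_le_sylow
  let f : ↥Q →* QuaternionGroup m := ((P.equiv T).trans e).toMonoidHom.comp (Subgroup.inclusion hP)
  obtain ⟨h8, a, b, y, hy, hgen, a4, hb2, hba, hya, hyb, hy3, hne⟩ := exists_rel hQ f
    (((P.equiv T).trans e).injective.comp (Subgroup.inclusion_injective hP))
    (Nat.coprime_two_right.1 hc) (fun u hu => (Subgroup.mem_normalizer_iff.1 hx u).1 hu)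
    (by
      by_contra hno
      push Not at hno
      exact hxc (Subgroup.mem_centralizer_iff.2 fun u hu => (mul_inv_eq_iff_eq_mul.1 (hno u hu)).symm))
  exact section_of_rel (by rw [hgen, h8]) hy a4 hb2 hba hya hyb hy3 hne

end CfsgLib.Fus.QuatSection
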