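import Cfsg.Agent.Fus.ModelConstrained
import Cfsg.Agent.Fus.SystemMaps
import Cfsg.Agent.Fus.SystemSaturation
import Cfsg.Agent.Fus.Centric

/-!
The normalizer system of a fully normalized centric radical subgroup.
-/

set_option autoImplicit false
set_option linter.style.haveILetI false

open Cfsg Cfsg.FusionSystem

namespace CfsgLib.Fus

variable {Ω : Type*} [Group Ω] {S : Subgroup Ω} {F : FusionSystem S} {p : ℕ}

theorem isNormal_self_normalizerSystem {R : Subgroup Ω} (hR : R ≤ S) {E : FusionSystem (normalizerIn S R)}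
    (hE : F.IsNormalizerSystem R E) : E.IsNormal R := by
  refine isNormal_iff.2 ⟨le_normalizerIn hR, fun P f hf => ?_⟩
  obtain ⟨-, hP, g, hg, hge, hgR⟩ := isMap_of_normalizerSystem hE hf
  exact ⟨g, isMap_normalizerSystem hE hg le_sup_right hgR (sup_le hP (le_normalizerIn hR)), hge, hgR⟩

theorem isCentric_self_normalizerSystem {R : Subgroup Ω} (hRc : F.IsCentric R) {E : FusionSystem (normalizerIn S R)}
    (hE : F.IsNormalizerSystem R E) : E.IsCentric R := by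
  refine ⟨le_normalizerIn hRc.1, fun R' hR' => ?_⟩
  obtain ⟨f, hf, hfi⟩ := isConj_iff.1 hR'
  obtain ⟨-, -, g, -, hge, hgR⟩ := isMap_of_normalizerSystem hE hf
  rw [← hfi, (img_congr fun x hx => (hge x hx).symm).trans hgR]
  intro x hx
  exact centric_center hRc hx.1.1 fun y hy => Subgroup.mem_centralizer_iff.1 (Subgroup.mem_inf.1 hx).2 y hy

/-- In a model of the normalizer system of a radical centric subgroup the core is that subgroup. -/
theorem model_core_eq [Finite S] [hp : Fact p.Prime] (hS : IsPGroup p S) {R : Subgroup Ω} (hRc : F.IsCentric R)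
    (hRr : F.IsRadical p R) {E : FusionSystem (normalizerIn S R)} (hE : F.IsNormalizerSystem R E)
    {G : Type*} [Group G] {ι : ↥(normalizerIn S R) →* G} (hm : E.IsModel p G ι) :
    (Cfsg.pCore p G : Subgroup G) = (R.subgroupOf (normalizerIn S R)).map ι := by
  classical
  obtain ⟨hfin, hr, ⟨T, hT⟩, hc⟩ := id hm
  haveI := hfin
  haveI := normal_pCore (G := G) p
  haveI := finite_of_le hRc.1
  have hRN : R ≤ normalizerIn S R := le_normalizerIn hRc.1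
  have hcr : Cfsg.pCore p G ≤ ι.range := hT ▸ normal_le_sylow inferInstance isPGroup_pCore T
  set U := (R.subgroupOf (normalizerIn S R)).map ι with hU
  have hUmem : ∀ y : G, y ∈ U ↔ ∃ r : ↥(normalizerIn S R), (r : Ω) ∈ R ∧ ι r = y := fun y => Iff.rfl
  -- `R` is invariant in the model
  have hQn := coreIn_normal hr T hT
  have hconj : ∀ g : G, ∀ r : ↥(normalizerIn S R), (r : Ω) ∈ R →
      ∃ r' : ↥(normalizerIn S R), (r' : Ω) ∈ R ∧ g * ι r * g⁻¹ = ι r' := by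
    intro g r hrR
    obtain ⟨φ, hφ, hφv⟩ := exists_realized_map hr.1 (coreIn_le (p := p) (ι := ι)) (g := g) (fun x => by
      obtain ⟨_h0, hx⟩ := mem_coreIn.1 x.2
      exact hcr (‹(Cfsg.pCore p G).Normal›.conj_mem _ hx g))
    rw [← eq_realized hr] at hφ
    obtain ⟨ψ, hψ, hψe, hψR⟩ := (isNormal_self_normalizerSystem hRc.1 hE).2 _ φ hφ
    obtain ⟨hPS, hψS⟩ := E.le_of_mem hψ
    obtain ⟨h, hh⟩ := (hr.2 _ hPS ψ hψS).1 hψ
    have hgh : h⁻¹ * g ∈ Cfsg.pCore p G := hc (Subgroup.mem_centralizer_iff.2 fun y hy => by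
      obtain ⟨s, rfl⟩ := MonoidHom.mem_range.1 (hcr hy)
      have hsQ : (s : Ω) ∈ coreIn p ι := mem_coreIn.2 ⟨s.2, hy⟩
      obtain ⟨hv, hve⟩ := hφv ⟨s, hsQ⟩
      have h1 := hh (Subgroup.inclusion le_sup_left ⟨s, hsQ⟩)
      have e : (⟨ψ (Subgroup.inclusion le_sup_left ⟨s, hsQ⟩), hψS _⟩ : ↥(normalizerIn S R)) = ⟨_, hv⟩ :=
        Subtype.ext (hψe ⟨s, hsQ⟩)
      rw [e, hve] at h1
      calc ι s * (h⁻¹ * g) = h⁻¹ * (h * ι s * h⁻¹) * g := by group
        _ = h⁻¹ * (g * ι s * g⁻¹) * g := by rw [h1]; rfl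
        _ = h⁻¹ * g * ι s := by group)
    obtain ⟨n, hn⟩ := MonoidHom.mem_range.1 (hcr hgh)
    have hnr : ((n * r * n⁻¹ : ↥(normalizerIn S R)) : Ω) ∈ R :=
      conj_mem_of_normalizer (Subgroup.mem_inf.1 n.2).2 hrR
    refine ⟨⟨ψ ⟨(n * r * n⁻¹ : ↥(normalizerIn S R)), Subgroup.mem_sup_right hnr⟩, hψS _⟩, ?_, ?_⟩
    · exact hψR.le ⟨⟨_, Subgroup.mem_sup_right hnr⟩, hnr, rfl⟩
    · rw [hh]
      show g * ι r * g⁻¹ = h * ι (n * r * n⁻¹) * h⁻¹
      rw [map_mul, map_mul, map_inv, hn]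
      group
  haveI hUn : U.Normal := ⟨fun y hy g => by
    obtain ⟨r, hrR, rfl⟩ := (hUmem y).1 hy
    obtain ⟨r', hr', he⟩ := hconj g r hrR
    exact (hUmem _).2 ⟨r', hr', he.symm⟩⟩
  have hRp : IsPGroup p (R.subgroupOf (normalizerIn S R)) :=
    (hS.to_le hRc.1).comap_of_injective _ (normalizerIn S R).subtype_injective
  refine le_antisymm (fun y hy => ?_) (le_pCore hUn (hRp.map ι))
  -- the automorphisms induced by the core
  let B : Subgroup ↥(F.autGroup R) :=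
    { carrier := {α | ∃ x ∈ Cfsg.pCore p G, ∀ r : R,
        ι ⟨(((α : MulAut R) r : R) : Ω), hRN (Subtype.prop _)⟩ = x * ι ⟨r, hRN r.2⟩ * x⁻¹}
      one_mem' := ⟨1, one_mem _, fun r => by simp⟩
      mul_mem' := fun {α β} ⟨x, hx, hxe⟩ ⟨z, hz, hze⟩ => ⟨x * z, mul_mem hx hz, fun r => by
        rw [mul_inv_rev, show x * z * ι ⟨r, hRN r.2⟩ * (z⁻¹ * x⁻¹) = x * (z * ι ⟨r, hRN r.2⟩ * z⁻¹) * x⁻¹ by group,
          ← hze r, ← hxe]
        rfl⟩
      inv_mem' := fun {α} ⟨x, hx, hxe⟩ => ⟨x⁻¹, inv_mem hx, fun r => by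
        have h1 := hxe ((α : MulAut R)⁻¹ r)
        have e : (α : MulAut R) ((α : MulAut R)⁻¹ r) = r := by rw [← MulAut.mul_apply, mul_inv_cancel, MulAut.one_apply]
        simp only [e] at h1
        rw [h1]
        simp only [Subgroup.coe_inv, inv_inv]
        group⟩ }
  have hconjaut : ∀ x : G, ∃ α ∈ F.autGroup R, ∀ r : R, ι ⟨((α r : R) : Ω), hRN (Subtype.prop _)⟩ = x * ι ⟨r, hRN r.2⟩ * x⁻¹ := by
    intro x
    obtain ⟨φ, hφ, hφv⟩ := exists_realized_map hr.1 hRN (g := x) (fun r => by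
      obtain ⟨r', -, he⟩ := hconj x ⟨r, hRN r.2⟩ r.2
      exact ⟨r', he.symm⟩)
    rw [← eq_realized hr] at hφ
    have hφR : ∀ r : R, φ r ∈ R := fun r => by
      obtain ⟨r', hr', he⟩ := hconj x ⟨r, hRN r.2⟩ r.2
      obtain ⟨hv, hve⟩ := hφv r
      have h3 : (⟨φ r, hv⟩ : ↥(normalizerIn S R)) = r' := hr.1 (hve.trans he)
      rw [show φ r = (r' : Ω) from congrArg Subtype.val h3]
      exact hr'
    let α₀ : ↥R →* ↥R := φ.codRestrict R hφR
    have hinj : Function.Injective α₀ := fun a b hab => E.injective_of_mem hφ (congrArg Subtype.val hab : φ a = φ b)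
    let α : MulAut R := MulEquiv.ofBijective α₀ ⟨hinj, Finite.injective_iff_surjective.1 hinj⟩
    refine ⟨α, (mem_autGroup hRc.1).2 ?_, fun r => ?_⟩
    · exact (isMap_of_normalizerSystem hE (⟨φ, hφ, fun r => by rw [autFun_apply]; rfl⟩ : IsMap E R (autFun α))).1
    · obtain ⟨hv, hve⟩ := hφv r
      exact hve
  have hBp : IsPGroup p B := by
    intro α
    obtain ⟨x, hx, hxe⟩ := α.2
    obtain ⟨k, hk⟩ := isPGroup_pCore (p := p) ⟨x, hx⟩
    refine ⟨k, Subtype.ext (Subtype.ext (MulEquiv.ext fun r => Subtype.ext ?_))⟩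
    have hpow : ∀ (n : ℕ) (r : R), ι ⟨(((((α : ↥(F.autGroup R)) : MulAut R) ^ n) r : R) : Ω), hRN (Subtype.prop _)⟩ =
        x ^ n * ι ⟨r, hRN r.2⟩ * (x ^ n)⁻¹ := by
      intro n
      induction n with
      | zero => intro r; simp
      | succ n ih =>
        intro r
        simp only [pow_succ, MulAut.mul_apply]
        rw [ih, hxe]
        group
    have h2 := hpow (p ^ k) r
    rw [show x ^ p ^ k = 1 from congrArg Subtype.val hk, one_mul, inv_one, mul_one] at h2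
    exact congrArg (fun s : ↥(normalizerIn S R) => (s : Ω)) (hr.1 h2)
  have hBn : B.Normal := ⟨fun α ⟨x, hx, hxe⟩ β => by
    obtain ⟨g, hg⟩ : ∃ g : G, ∀ r : R, ι ⟨(((β : MulAut R) r : R) : Ω), hRN (Subtype.prop _)⟩ = g * ι ⟨r, hRN r.2⟩ * g⁻¹ := by
      obtain ⟨φ, hφ, hφe⟩ := isMap_normalizerSystem hE ((mem_autGroup hRc.1).1 β.2) le_rfl (img_autFun _) hRN
      obtain ⟨hP, hφS⟩ := E.le_of_mem hφ
      obtain ⟨g, hg⟩ := (hr.2 _ hP φ hφS).1 hφ
      exact ⟨g, fun r => (congrArg ι (Subtype.ext ((autFun_apply _ r).symm.trans (hφe r).symm))).trans (hg r)⟩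
    refine ⟨g * x * g⁻¹, ‹(Cfsg.pCore p G).Normal›.conj_mem x hx g, fun r => ?_⟩
    have h1 := hg ((β : MulAut R)⁻¹ r)
    have e : (β : MulAut R) ((β : MulAut R)⁻¹ r) = r := by rw [← MulAut.mul_apply, mul_inv_cancel, MulAut.one_apply]
    simp only [e] at h1
    refine ((hg ((α : MulAut R) ((β : MulAut R)⁻¹ r))).trans ?_)
    rw [hxe, h1]
    group⟩
  obtain ⟨α, hα, hαe⟩ := hconjaut y
  have hαB : (⟨α, hα⟩ : ↥(F.autGroup R)) ∈ B := ⟨y, hy, hαe⟩
  have hinn : α ∈ Cfsg.Inn ↥R := by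
    rw [← hRr.2]
    exact ⟨_, le_pCore hBn hBp hαB, rfl⟩
  obtain ⟨r0, hr0⟩ := MonoidHom.mem_range.1 hinn
  obtain ⟨s, hs⟩ := MonoidHom.mem_range.1 (hcr hy)
  have hsr : (r0 : Ω)⁻¹ * (s : Ω) ∈ R := by
    refine centric_center hRc (S.mul_mem (S.inv_mem (hRc.1 r0.2)) s.2.1) fun z hz => ?_
    have h1 := hαe ⟨z, hz⟩
    rw [← hr0, ← hs, ← map_inv, ← map_mul, ← map_mul] at h1
    have h2 : (r0 : Ω) * z * (r0 : Ω)⁻¹ = (s : Ω) * z * (s : Ω)⁻¹ := congrArg (fun s : ↥(normalizerIn S R) => (s : Ω)) (hr.1 h1)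
    calc z * ((r0 : Ω)⁻¹ * s) = (r0 : Ω)⁻¹ * ((r0 : Ω) * z * (r0 : Ω)⁻¹) * s := by group
      _ = (r0 : Ω)⁻¹ * ((s : Ω) * z * (s : Ω)⁻¹) * s := by rw [h2]
      _ = (r0 : Ω)⁻¹ * (s : Ω) * z := by group
  refine (hUmem y).2 ⟨s, ?_, hs⟩
  have h3 := R.mul_mem r0.2 hsr
  rwa [mul_inv_cancel_left] at h3

end CfsgLib.Fus
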