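import Cfsg.Agent.OddLocal.SCN3
import Cfsg.Agent.OddLocal.GoodSub
import Cfsg.Agent.S4209
import Cfsg.Agent.S4225

/-!
For `p ≥ 5`, in a p-group of rank at most two the elements of order dividing `p` form a subgroup of order at most `p ^ 3`.
-/

set_option autoImplicit false
set_option linter.style.haveILetI false

namespace CfsgLib.Fus.RankTwoExponent

universe u

variable {G : Type u} [Group G] [Finite G] {p : ℕ} [hp : Fact p.Prime]

theorem pow_le_card_of_lcs_ne_bot (hG : IsPGroup p G) :
    ∀ k, (⊤ : Subgroup G).lowerCentralSeries k ≠ ⊥ →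
      p ^ k * Nat.card ↥((⊤ : Subgroup G).lowerCentralSeries k) ≤ Nat.card G := by
  haveI := hG.isNilpotent
  intro k
  induction k with
  | zero =>
    intro _
    rw [Subgroup.lowerCentralSeries_zero]
    simp
  | succ k ih =>
    intro h
    set A := (⊤ : Subgroup G).lowerCentralSeries k
    set B := (⊤ : Subgroup G).lowerCentralSeries (k + 1)
    have hle : B ≤ A := Subgroup.lowerCentralSeries_antitone (⊤ : Subgroup G) (Nat.le_succ k)
    have hne : B ≠ A := fun e => by
      obtain ⟨m, hm⟩ := (Subgroup.nilpotent_iff_lowerCentralSeries (G := G)).1 inferInstance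
      have hconst : ∀ j, (⊤ : Subgroup G).lowerCentralSeries (k + j) = A := by
        intro j
        induction j with
        | zero => rfl
        | succ j ihj =>
          calc (⊤ : Subgroup G).lowerCentralSeries (k + (j + 1)) = ⁅(⊤ : Subgroup G).lowerCentralSeries (k + j), ⊤⁆ := by
                rw [← Nat.add_assoc, Subgroup.lowerCentralSeries_succ]
            _ = ⁅A, ⊤⁆ := by rw [ihj]
            _ = B := (Subgroup.lowerCentralSeries_succ (⊤ : Subgroup G) k).symm
            _ = A := e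
      have hA : A = ⊥ := by
        rw [← hconst m, eq_bot_iff, ← hm]
        exact Subgroup.lowerCentralSeries_antitone (⊤ : Subgroup G) (Nat.le_add_left m k)
      exact h (e.trans hA)
    obtain ⟨a, ha⟩ := IsPGroup.iff_card.1 (hG.to_subgroup A)
    obtain ⟨b, hb⟩ := IsPGroup.iff_card.1 (hG.to_subgroup B)
    have hlt : b < a := by
      by_contra hab
      refine hne (Subgroup.eq_of_le_of_card_ge hle ?_)
      rw [ha, hb]
      exact Nat.pow_le_pow_right hp.out.pos (not_lt.1 hab)
    have hA0 : A ≠ ⊥ := fun e => h (eq_bot_iff.2 (e ▸ hle))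
    refine le_trans ?_ (ih hA0)
    rw [hb, ha, ← pow_add, ← pow_add]
    exact Nat.pow_le_pow_right hp.out.pos (by omega)

theorem regular_of_card_le (h3 : 3 < p) (hG : IsPGroup p G) (hcard : Nat.card G ≤ p ^ 4) :
    Cfsg.IsRegularPGroup p G := by
  refine Cfsg.Agent.S4209.result hG ?_
  by_contra h
  have h1 := pow_le_card_of_lcs_ne_bot hG _ h
  have hp5 : 5 ≤ p := by
    rcases Nat.lt_or_ge p 5 with h5 | h5
    · have h4 : p = 4 := by omega
      exact absurd (h4 ▸ hp.out) (by norm_num)
    · exact h5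
  have h2 : 1 < Nat.card ↥((⊤ : Subgroup G).lowerCentralSeries (p - 1)) :=
    Finite.one_lt_card_iff_nontrivial.2 ((Subgroup.nontrivial_iff_ne_bot _).2 h)
  have h3' : p ^ 4 ≤ p ^ (p - 1) := Nat.pow_le_pow_right hp.out.pos (by omega)
  nlinarith [pow_pos hp.out.pos (p - 1)]

theorem rank_subgroup {k : ℕ} (H : Subgroup G) (hr : Cfsg.PRankLE p k G) : Cfsg.PRankLE p k H := by
  intro A hA hAp
  have hc : IsMulCommutative (A.map H.subtype) := ⟨⟨by
    rintro ⟨_, a, ha, rfl⟩ ⟨_, b, hb, rfl⟩
    exact Subtype.ext (congrArg (fun z : A => ((z : H) : G)) (hA.is_comm.comm ⟨a, ha⟩ ⟨b, hb⟩))⟩⟩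
  have := hr (A.map H.subtype) hc (by
    rintro _ ⟨a, ha, rfl⟩
    rw [← map_pow, hAp a ha, map_one])
  rwa [Subgroup.card_map_of_injective H.subtype_injective] at this

/-- A group of exponent `p` and rank at most two has order at most `p ^ 3`. -/
theorem card_le_of_exponent (hp2 : p ≠ 2) (hexp : ∀ x : G, x ^ p = 1) (hr : Cfsg.PRankLE p 2 G) :
    Nat.card G ≤ p ^ 3 := by
  have hG : IsPGroup p G := fun x => ⟨1, by rw [pow_one]; exact hexp x⟩
  obtain ⟨E, -, hE⟩ := Finite.exists_le_maximal
    (p := fun F : Subgroup G => F.Normal ∧ Cfsg.IsElementaryAbelian p F) (a := ⊥)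
    ⟨inferInstance, ⟨⟨fun a b => Subsingleton.elim _ _⟩⟩, fun x _ => hexp x⟩
  obtain ⟨hEn, hEe⟩ := hE.1
  haveI := hEn
  have hC : Subgroup.centralizer (E : Set G) ≤ E := fun x hx =>
    CfsgLib.OddLocal.SCN3.omega_le hp2 hG hEe (fun E' h1 h2 h3 => le_antisymm (hE.2 ⟨h1, h2⟩ h3) h3) hx (hexp x)
  obtain ⟨j, hj⟩ := IsPGroup.iff_card.1 (hG.to_subgroup E)
  have hj2 : j ≤ 2 := (Nat.pow_le_pow_iff_right hp.out.one_lt).1 (hj ▸ hr E hEe.1 hEe.2)
  rcases Nat.lt_or_ge j 2 with hlt | hge
  · have htop : Subgroup.centralizer (E : Set G) = ⊤ := by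
      rw [Subgroup.centralizer_eq_top_iff_subset]
      intro e he
      rcases eq_or_ne E ⊥ with hb | hb
      · rw [hb] at he
        rw [Subgroup.mem_bot.1 he]; exact one_mem _
      · haveI : Nontrivial E := (Subgroup.nontrivial_iff_ne_bot _).2 hb
        have hE1 : Nat.card E = p := by
          have := Finite.one_lt_card (α := E)
          interval_cases j <;> simp_all
        exact CfsgLib.OddLocal.GoodSub.le_center_of_cyclic hG (F := E)
          hEe.2 (isCyclic_of_prime_card hE1) he
    have hEt : E = ⊤ := top_le_iff.1 (htop ▸ hC)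
    have h1 : Nat.card G = p ^ j := by rw [← hj, hEt, Subgroup.card_top]
    rw [h1]
    exact Nat.pow_le_pow_right hp.out.pos (by omega)
  · have hj' : j = 2 := by omega
    rw [hj'] at hj
    have hidx := CfsgLib.Solv.index_centralizer_normal_sq hG E hj
    rw [← (Subgroup.centralizer (E : Set G)).card_mul_index, pow_succ]
    exact Nat.mul_le_mul ((Subgroup.card_le_of_le hC).trans hj.le) (Nat.le_of_dvd hp.out.pos hidx)

/-- The elements of order dividing `p` are closed under multiplication. -/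
theorem mul_pow_eq_one (h3 : 3 < p) : ∀ (n : ℕ) (R : Type u) [Group R] [Finite R], Nat.card R ≤ n →
    IsPGroup p R → Cfsg.PRankLE p 2 R → ∀ x y : R, x ^ p = 1 → y ^ p = 1 → (x * y) ^ p = 1 := by
  intro n
  induction n with
  | zero =>
    intro R _ _ h
    have := Nat.card_pos (α := R)
    omega
  | succ n ih =>
    intro R _ _ hn hR hr x y hx hy
    have hsub : ∀ K : Subgroup R, K ≠ ⊤ → ∀ a ∈ K, ∀ b ∈ K, a ^ p = 1 → b ^ p = 1 → (a * b) ^ p = 1 := by
      intro K hK a ha b hb hap hbp
      have hlt : Nat.card K < Nat.card R :=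
        lt_of_le_of_ne (Subgroup.card_le_card_group K) fun e => hK (Subgroup.eq_top_of_card_eq K e)
      exact congrArg Subtype.val (ih K (by omega) (hR.to_subgroup K) (rank_subgroup K hr) ⟨a, ha⟩ ⟨b, hb⟩
        (Subtype.ext hap) (Subtype.ext hbp))
    set H := Subgroup.closure ({x, y} : Set R)
    have hxH : x ∈ H := Subgroup.subset_closure (Or.inl rfl)
    have hyH : y ∈ H := Subgroup.subset_closure (Or.inr rfl)
    by_cases hH : H = ⊤
    swap
    · exact hsub H hH x hxH y hyH hx hy
    by_cases hxy : Commute x y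
    · rw [hxy.mul_pow, hx, hy, one_mul]
    have hxt : Subgroup.zpowers x ≠ ⊤ := fun e => hxy (by
      obtain ⟨i, hi⟩ : y ∈ Subgroup.zpowers x := e ▸ Subgroup.mem_top y
      rw [← hi]; exact (Commute.refl x).zpow_right i)
    obtain ⟨M, hM, hxM⟩ := (eq_top_or_exists_le_coatom (Subgroup.zpowers x)).resolve_left hxt
    haveI := hR.isNilpotent
    haveI hMn : M.Normal := Subgroup.NormalizerCondition.normal_of_coatom _ Group.normalizerCondition_of_isNilpotent hM
    let N : Subgroup R :=
      { carrier := {m | m ∈ M ∧ m ^ p = 1}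
        one_mem' := ⟨one_mem _, one_pow _⟩
        mul_mem' := fun {a b} ha hb => ⟨mul_mem ha.1 hb.1, hsub M hM.1 a ha.1 b hb.1 ha.2 hb.2⟩
        inv_mem' := fun {a} ha => ⟨inv_mem ha.1, by rw [inv_pow, ha.2, inv_one]⟩ }
    haveI : N.Normal := ⟨fun m hm g => ⟨hMn.conj_mem m hm.1 g, by rw [conj_pow, hm.2, mul_one, mul_inv_cancel]⟩⟩
    have hN : Nat.card N ≤ p ^ 3 :=
      card_le_of_exponent (by omega) (fun a => Subtype.ext a.2.2) (rank_subgroup N hr)
    have hxN : x ∈ N := ⟨Subgroup.zpowers_le.1 hxM, hx⟩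
    have htop : N ⊔ Subgroup.zpowers y = ⊤ := top_le_iff.1 (hH ▸ (Subgroup.closure_le _).2 (by
      rintro u (rfl | rfl)
      · exact Subgroup.mem_sup_left hxN
      · exact Subgroup.mem_sup_right (Subgroup.mem_zpowers _)))
    have hidx : N.index ≤ p := by
      rw [← Subgroup.relIndex_top_right, ← htop, Subgroup.relIndex_sup_left]
      refine le_trans (Nat.le_of_dvd Nat.card_pos (Subgroup.relIndex_dvd_card _ _)) ?_
      rw [Nat.card_zpowers]
      exact orderOf_le_of_pow_eq_one hp.out.pos hy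
    have hcard : Nat.card R ≤ p ^ 4 := by
      rw [← N.card_mul_index, pow_succ]
      exact Nat.mul_le_mul hN hidx
    obtain ⟨K, -, hK⟩ := Cfsg.Agent.S4225.result (regular_of_card_le h3 hR hcard) 1
    have hmem : ∀ u : R, u ∈ K ↔ u ^ p = 1 := fun u => by
      rw [← SetLike.mem_coe, hK]; simp
    exact (hmem _).1 (mul_mem ((hmem x).2 hx) ((hmem y).2 hy))

theorem pow_eq_one_of_mem (h3 : 3 < p) (hG : IsPGroup p G) (hr : Cfsg.PRankLE p 2 G) {g : G}
    (hg : g ∈ Subgroup.closure {x : G | x ^ p = 1}) : g ^ p = 1 := by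
  induction hg using Subgroup.closure_induction with
  | mem x hx => exact hx
  | one => exact one_pow p
  | mul x y _ _ hx hy => exact mul_pow_eq_one h3 _ G le_rfl hG hr x y hx hy
  | inv x _ hx => rw [inv_pow, hx, inv_one]

end CfsgLib.Fus.RankTwoExponent
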