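import Cfsg.Agent.Fus.Biset

/-!
Every fusion system on a finite group is realized inside some finite group (Park).
-/

set_option autoImplicit false
set_option linter.style.haveILetI false

open Cfsg Cfsg.FusionSystem

namespace CfsgLib.Fus.Park

universe u

variable {Ω : Type u} [Group Ω] {S : Subgroup Ω} {F : FusionSystem S}

theorem mark_flatten {G : Type u} [Group G] (L : List (Subgroup G)) (K : Subgroup G) :
    ∀ m, mark (List.replicate m L).flatten K = m * mark L K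
  | 0 => by simp [mark]
  | m + 1 => by rw [List.replicate_succ, List.flatten_cons, mark_append, mark_flatten L K m]; ring

variable [Finite S]

theorem exists_list (F : FusionSystem S) : ∀ d : ℕ, ∃ L : List (Subgroup (↥S × ↥S)),
    (∀ Δ ∈ L, IsGraph F Δ) ∧ ∀ n, Nat.card S + 1 ≤ n + d → ∀ K, IsGraph F K → Nat.card K = n →
      mark L K ≠ 0 ∧ ∀ K', IsGraph F K' → Nat.card K' = n → mark L K' = mark L K := by
  intro d
  induction d with
  | zero =>
    refine ⟨[], by simp, fun n hn K hK hKn => ?_⟩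
    have := hK.card_fstImg ▸ Subgroup.card_le_of_le (fstImg_le K)
    omega
  | succ d ih =>
    obtain ⟨L, hL, hLn⟩ := ih
    set M := Nat.card (↥S × ↥S) with hM
    set L' := (List.replicate M L).flatten with hL'def
    have hL' : ∀ Δ ∈ L', IsGraph F Δ := fun Δ hΔ => by
      obtain ⟨l, hl, hΔl⟩ := List.mem_flatten.1 hΔ
      exact hL Δ (List.eq_of_mem_replicate hl ▸ hΔl)
    obtain ⟨C, hC⟩ := exists_mark_bound L
    let n0 := Nat.card S - d
    let 𝒦 : Set (Subgroup (↥S × ↥S)) := {K | IsGraph F K ∧ Nat.card K = n0}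
    obtain ⟨E, hE, hEt⟩ := exists_extension n0 𝒦 (fun K hK => ⟨hK.2, fun g => ⟨hK.1.conj g, by
      rw [Subgroup.card_map_of_injective (MulAut.conj g).injective]; exact hK.2⟩⟩)
      (fun _ => M * (C + 1)) (fun _ _ _ => rfl) L' fun K _ => by
        rw [hL'def, mark_flatten]
        refine ⟨Nat.mul_le_mul_left M ((hC K).trans (Nat.le_succ C)), ?_⟩
        rw [← Nat.mul_sub]
        exact dvd_mul_of_dvd_left (dvd_trans (Subgroup.relIndex_dvd_of_le_left _ bot_le)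
          (by rw [Subgroup.relIndex_bot_left, hM]; exact Subgroup.card_subgroup_dvd_card _)) _
    have hMpos : 0 < M := Nat.card_pos
    refine ⟨L' ++ E, fun Δ hΔ => ?_, fun n hn K hK hKn => ?_⟩
    · rcases List.mem_append.1 hΔ with h | h
      exacts [hL' Δ h, (hE Δ h).1]
    by_cases heq : n = n0
    · subst heq
      refine ⟨?_, fun K' hK' hn' => (hEt K' ⟨hK', hn'⟩).trans (hEt K ⟨hK, hKn⟩).symm⟩
      rw [hEt K ⟨hK, hKn⟩]
      exact Nat.mul_ne_zero hMpos.ne' (Nat.succ_ne_zero C)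
    · by_cases hgt : Nat.card S + 1 ≤ n + d
      · have hz : ∀ K' : Subgroup (↥S × ↥S), Nat.card K' = n → mark (L' ++ E) K' = M * mark L K' := fun K' h' => by
          rw [mark_append, hL'def, mark_flatten,
            mark_eq_zero_of_card_lt (n := n0) (fun D hD => (hE D hD).2.le) (by omega), add_zero]
        obtain ⟨h1, h2⟩ := hLn n hgt K hK hKn
        exact ⟨by rw [hz K hKn]; exact Nat.mul_ne_zero hMpos.ne' h1, fun K' hK' hn' => by
          rw [hz K' hn', hz K hKn, h2 K' hK' hn']⟩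
      · exact absurd (by omega : n = n0) heq

theorem exists_equiv_twist {L : List (Subgroup (↥S × ↥S))} (hL : ∀ Δ ∈ L, IsGraph F Δ)
    (hst : ∀ K K', IsGraph F K → IsGraph F K' → Nat.card K' = Nat.card K → mark L K' = mark L K)
    {P : Subgroup Ω} (hP : P ≤ S) {f : Ω → Ω} (hf : IsMap F P f) :
    ∃ e : Cosets L ≃ Cosets L, ∀ (x : Ω) (hx : x ∈ P) (s : ↥S) (z : Cosets L),
      e (((⟨x, hP hx⟩ : ↥S), s) • z) = ((⟨f x, hf.mem hx⟩ : ↥S), s) • e z := by
  set N : Subgroup (↥S × ↥S) := (P.subgroupOf S).prod ⊤ with hN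
  have hfst : fstImg N = P := le_antisymm (by rintro _ ⟨q, hq, rfl⟩; exact hq.1)
    fun x hx => ⟨(⟨x, hP hx⟩, 1), ⟨hx, trivial⟩, rfl⟩
  obtain ⟨θ, hθ, hθe, hθK⟩ := twist_spec (hfst.symm ▸ hf : IsMap F (fstImg N) f)
  have hmarks : ∀ K : Subgroup N, mark L (K.map N.subtype) = mark L (K.map θ) := by
    intro K
    have hle : K.map N.subtype ≤ N := Subgroup.map_subtype_le K
    obtain ⟨-, hiff⟩ := hθK _ hle
    have hback : (K.map N.subtype).subgroupOf N = K :=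
      Subgroup.comap_map_eq_self_of_injective N.subtype_injective K
    rw [hback] at hiff
    by_cases hg : IsGraph F (K.map N.subtype)
    · exact (hst _ _ hg (hiff.1 hg) (by
        rw [Subgroup.card_map_of_injective hθ, Subgroup.card_map_of_injective N.subtype_injective])).symm
    · rw [not_not.1 fun h => hg (isGraph_of_mark_ne_zero hL h),
        not_not.1 fun h => hg (hiff.2 (isGraph_of_mark_ne_zero hL h))]
  let A1 : MulAction N (Cosets L) := MulAction.compHom _ N.subtype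
  let A2 : MulAction N (Cosets L) := MulAction.compHom _ θ
  have hfix : ∀ (φ : ↥N →* ↥S × ↥S) (K : Subgroup N),
      @fixCard N _ K (Cosets L) (MulAction.compHom _ φ) = mark L (K.map φ) := fun φ K => by
    rw [← fixCard_cosets]
    refine Nat.card_congr (Equiv.subtypeEquivRight fun z => ?_)
    exact ⟨fun h k ⟨m, hm, hmk⟩ => hmk ▸ h m hm, fun h k hk => h (φ k) ⟨k, hk, rfl⟩⟩
  obtain ⟨e, he⟩ := @exists_equiv_of_fixCard N _ _ (Cosets L) (Cosets L) A1 A2 _ _ fun K =>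
    (hfix N.subtype K).trans ((hmarks K).trans (hfix θ K).symm)
  refine ⟨e, fun x hx s z => ?_⟩
  have hq : ((⟨x, hP hx⟩ : ↥S), s) ∈ N := ⟨hx, trivial⟩
  have h1 := he ⟨_, hq⟩ z
  have h2 : θ ⟨_, hq⟩ = ((⟨f x, hf.mem hx⟩ : ↥S), s) := Prod.ext (Subtype.ext (hθe ⟨_, hq⟩).1) (hθe ⟨_, hq⟩).2
  calc e (((⟨x, hP hx⟩ : ↥S), s) • z) = θ ⟨_, hq⟩ • e z := h1
    _ = _ := by rw [h2]

theorem exists_realization (F : FusionSystem S) :
    ∃ (G : Type u) (_ : Group G) (_ : Finite G) (ι : ↥S →* G), F.IsRealizedBy ι := by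
  obtain ⟨L, hL, hLn⟩ := exists_list F (Nat.card S + 1)
  have hst : ∀ K K', IsGraph F K → IsGraph F K' → Nat.card K' = Nat.card K → mark L K' = mark L K :=
    fun K K' hK hK' h => (hLn _ (by omega) K hK rfl).2 K' hK' h
  have hne : ∀ K, IsGraph F K → ∃ z : Cosets L, ∀ q ∈ K, q • z = z := fun K hK => by
    have h := (hLn _ (by omega) K hK rfl).1
    rw [← fixCard_cosets] at h
    obtain ⟨⟨z, hz⟩⟩ := (Nat.card_ne_zero.1 h).1
    exact ⟨z, hz⟩
  have hgr : ∀ (K : Subgroup (↥S × ↥S)) (z : Cosets L), (∀ q ∈ K, q • z = z) → IsGraph F K :=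
    fun K z hz => isGraph_of_mark_ne_zero hL (by
      rw [← fixCard_cosets]; exact Nat.card_ne_zero.2 ⟨⟨⟨z, hz⟩⟩, inferInstance⟩)
  let r : ↥S →* Equiv.Perm (Cosets L) := (MulAction.toPermHom _ _).comp (MonoidHom.inr ↥S ↥S)
  let l : ↥S →* Equiv.Perm (Cosets L) := (MulAction.toPermHom _ _).comp (MonoidHom.inl ↥S ↥S)
  let G := Subgroup.centralizer (r.range : Set (Equiv.Perm (Cosets L)))
  have hlG : ∀ s, l s ∈ G := by
    rintro s _ ⟨t, rfl⟩
    show MulAction.toPermHom (↥S × ↥S) (Cosets L) (1, t) * MulAction.toPermHom (↥S × ↥S) (Cosets L) (s, 1) =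
      MulAction.toPermHom (↥S × ↥S) (Cosets L) (s, 1) * MulAction.toPermHom (↥S × ↥S) (Cosets L) (1, t)
    rw [← map_mul, ← map_mul]
    simp
  let ι : ↥S →* G := l.codRestrict G hlG
  obtain ⟨z0, hz0⟩ := hne _ (isGraph_graph (IsMap.id' F (le_refl S)))
  have hdiag : ∀ s : ↥S, ((s, s) : ↥S × ↥S) • z0 = z0 := fun s => hz0 _ ⟨s.2, rfl⟩
  refine ⟨G, inferInstance, inferInstance, ι, ?_, fun P hP φ hφ => ⟨fun h => ?_, ?_⟩⟩
  · rw [injective_iff_map_eq_one]
    intro s hs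
    have h1 : ∀ z : Cosets L, ((s, 1) : ↥S × ↥S) • z = z := fun z =>
      Equiv.congr_fun (congrArg Subtype.val hs : l s = 1) z
    obtain ⟨f, hf, hfe⟩ := hgr (Subgroup.zpowers (s, 1)) z0 fun q hq =>
      (Subgroup.zpowers_le.2 (show ((s, 1) : ↥S × ↥S) ∈ MulAction.stabilizer _ z0 from h1 z0)) hq
    have h2 : f (s : Ω) = 1 := by simpa using hfe _ (Subgroup.mem_zpowers ((s, 1) : ↥S × ↥S))
    exact Subtype.ext ((hf.eq_one_iff ⟨(s, 1), Subgroup.mem_zpowers _, rfl⟩).1 h2)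
  · obtain ⟨e, he⟩ := exists_equiv_twist hL hst hP (IsMap.of_hom h)
    have hone : (⟨ev φ 1, (IsMap.of_hom h).mem P.one_mem⟩ : ↥S) = 1 := Subtype.ext (IsMap.of_hom h).map_one
    have heG : e ∈ G := by
      rintro _ ⟨t, rfl⟩
      refine Equiv.ext fun z => ?_
      have h1 := he 1 P.one_mem t z
      rw [hone] at h1
      exact h1.symm
    refine ⟨⟨e, heG⟩, fun x => ?_⟩
    rw [eq_mul_inv_iff_mul_eq]
    refine Subtype.ext (Equiv.ext fun z => ?_)
    have h1 := he x x.2 1 z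
    have h2 : (⟨ev φ (x : Ω), (IsMap.of_hom h).mem x.2⟩ : ↥S) = ⟨φ x, hφ x⟩ := Subtype.ext (ev_apply φ x)
    rw [h2] at h1
    exact h1.symm
  · rintro ⟨g, hg⟩
    let K : Subgroup (↥S × ↥S) :=
      { carrier := {q | ∃ x : P, (q.1 : Ω) = φ x ∧ (q.2 : Ω) = x}
        one_mem' := ⟨1, by simp, by simp⟩
        mul_mem' := by
          rintro a b ⟨x, ha1, ha2⟩ ⟨y, hb1, hb2⟩
          exact ⟨x * y, by rw [map_mul, ← ha1, ← hb1]; rfl, show (a.2 : Ω) * b.2 = (x : Ω) * y by rw [ha2, hb2]⟩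
        inv_mem' := by
          rintro a ⟨x, ha1, ha2⟩
          exact ⟨x⁻¹, by rw [map_inv, ← ha1]; rfl, by rw [Subgroup.coe_inv, ← ha2]; rfl⟩ }
    obtain ⟨f, hf, hfe⟩ := hgr K ((g : Equiv.Perm (Cosets L)) z0) (by
      rintro ⟨a, b⟩ ⟨x, ha, hb⟩
      obtain rfl : a = ⟨φ x, hφ x⟩ := Subtype.ext ha
      obtain rfl : b = ⟨x, hP x.2⟩ := Subtype.ext hb
      have h1 : ι ⟨φ x, hφ x⟩ * g = g * ι ⟨x, hP x.2⟩ := by rw [hg x, inv_mul_cancel_right]
      have h2 := g.2 _ ⟨⟨x, hP x.2⟩, rfl⟩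
      have h3 := Equiv.congr_fun (congrArg Subtype.val h1) ((((1 : ↥S), (⟨x, hP x.2⟩ : ↥S)) : ↥S × ↥S) • z0)
      have h4 := Equiv.congr_fun h2 z0
      simp only [Subgroup.coe_mul, Equiv.Perm.mul_apply] at h3 h4
      rw [show r ⟨x, hP x.2⟩ z0 = ((1 : ↥S), (⟨x, hP x.2⟩ : ↥S)) • z0 from rfl] at h4
      rw [← h4] at h3
      change ((⟨φ x, hφ x⟩ : ↥S), (1 : ↥S)) • ((((1 : ↥S), (⟨x, hP x.2⟩ : ↥S)) : ↥S × ↥S) • (g : Equiv.Perm (Cosets L)) z0) =
        (g : Equiv.Perm (Cosets L)) ((((⟨x, hP x.2⟩ : ↥S), (1 : ↥S)) : ↥S × ↥S) • ((((1 : ↥S), (⟨x, hP x.2⟩ : ↥S)) : ↥S × ↥S) • z0)) at h3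
      simp only [← mul_smul, Prod.mk_mul_mk, mul_one, one_mul, hdiag ⟨x, hP x.2⟩] at h3
      exact h3)
    obtain ⟨f', hf', hf'l, -, -⟩ := hf.inv
    have hxK : ∀ x : P, ((⟨φ x, hφ x⟩ : ↥S), (⟨x, hP x.2⟩ : ↥S)) ∈ K := fun x => ⟨x, rfl, rfl⟩
    have hfx : ∀ x : P, f (φ x) = x := fun x => hfe _ (hxK x)
    refine (hf'.mono fun y hy => ?_).hom_mem fun x => ?_
    · have h1 := mem_img_of_mem (f := f) (P := fstImg K) (x := φ ⟨y, hy⟩) ⟨_, hxK ⟨y, hy⟩, rfl⟩
      rwa [hfx ⟨y, hy⟩] at h1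
    · have h1 := hf'l (φ x) ⟨_, hxK x, rfl⟩
      rw [hfx x] at h1
      exact h1.symm

end CfsgLib.Fus.Park
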