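import Cfsg.Agent.Fus.NormalSubgroupSystem

/-!
A normal subgroup of a group realizing a system gives a normal subsystem.
-/

set_option autoImplicit false
set_option linter.style.haveILetI false

open Cfsg Cfsg.FusionSystem

namespace CfsgLib.Fus

universe u v

variable {Ω : Type u} [Group Ω] {S : Subgroup Ω} {G : Type v} [Group G]

theorem eq_realized {F : FusionSystem S} {ι : ↥S →* G} (h : F.IsRealizedBy ι) : F = realized ι h.1 := by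
  refine system_ext fun P => Set.ext fun φ => ⟨fun hφ => ?_, fun ⟨hP, hφ, hg⟩ => (h.2 P hP φ hφ).2 hg⟩
  obtain ⟨hP, hφS⟩ := F.le_of_mem hφ
  exact ⟨hP, hφS, (h.2 P hP φ hφS).1 hφ⟩

/-- Conjugation by `g` read through `ι`, as a map of the realized system. -/
theorem exists_realized_map {ι : ↥S →* G} (hι : Function.Injective ι) {P : Subgroup Ω} (hP : P ≤ S) {g : G}
    (hg : ∀ x : P, g * ι ⟨x, hP x.2⟩ * g⁻¹ ∈ ι.range) :
    ∃ φ ∈ (realized ι hι).Hom P, ∀ x : P, ∃ h : φ x ∈ S, ι ⟨φ x, h⟩ = g * ι ⟨x, hP x.2⟩ * g⁻¹ := by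
  choose f hf using fun x : P => MonoidHom.mem_range.1 (hg x)
  let φ : P →* Ω := MonoidHom.mk' (fun x => ((f x : ↥S) : Ω)) fun a b => by
    rw [← Subgroup.coe_mul]
    refine congrArg Subtype.val (hι ?_)
    rw [map_mul, hf, hf, hf]
    rw [show (⟨((a * b : P) : Ω), hP (a * b).2⟩ : ↥S) = ⟨a, hP a.2⟩ * ⟨b, hP b.2⟩ from rfl, map_mul]
    group
  exact ⟨φ, ⟨hP, fun x => (f x).2, g, hf⟩, fun x => ⟨(f x).2, hf x⟩⟩

theorem realized_normal [Finite S] [Finite G] {p : ℕ} [hp : Fact p.Prime] (ι : ↥S →* G) (hι : Function.Injective ι)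
    (Ts : Sylow p G) (hT : (Ts : Subgroup G) = ι.range) (N : Subgroup G) [hN : N.Normal] :
    ∃ (T : Subgroup Ω) (E : FusionSystem T), E.IsNormalIn (realized ι hι) p ∧
      (∀ x, x ∈ T ↔ ∃ h : x ∈ S, ι ⟨x, h⟩ ∈ N) ∧
      ∀ P φ, φ ∈ E.Hom P → ∃ (hP : P ≤ S) (hφ : ∀ x : P, φ x ∈ S), ∃ n ∈ N,
        ∀ x : P, ι ⟨φ x, hφ x⟩ = n * ι ⟨x, hP x.2⟩ * n⁻¹ := by
  classical
  have hmemT : ∀ x, x ∈ (N.comap ι).map S.subtype ↔ ∃ h : x ∈ S, ι ⟨x, h⟩ ∈ N := fun x => by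
    constructor
    · rintro ⟨s, hs, rfl⟩; exact ⟨s.2, hs⟩
    · rintro ⟨h, hx⟩; exact ⟨⟨x, h⟩, hx, rfl⟩
  set T := (N.comap ι).map S.subtype with hTdef
  have hTS : T ≤ S := Subgroup.map_subtype_le _
  have hTN : ∀ x (hx : x ∈ T), ι ⟨x, hTS hx⟩ ∈ N := fun x hx => ((hmemT x).1 hx).2
  haveI := finite_of_le hTS
  let ι' : ↥T →* ↥N := (ι.comp (Subgroup.inclusion hTS)).codRestrict N fun x => hTN x x.2
  have hι' : Function.Injective ι' := fun a b hab =>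
    Subgroup.inclusion_injective hTS (hι (congrArg Subtype.val hab))
  obtain ⟨R, hR⟩ := sylow_inf_normal_system Ts N
  have hrange : ι'.range = ((Ts : Subgroup G) ⊓ N).subgroupOf N := by
    ext y
    constructor
    · rintro ⟨x, rfl⟩
      exact Subgroup.mem_inf.2 ⟨hT ▸ ⟨_, rfl⟩, (ι' x).2⟩
    · intro hy
      obtain ⟨s, hs⟩ := MonoidHom.mem_range.1 (hT ▸ (Subgroup.mem_inf.1 hy).1 : (y : G) ∈ ι.range)
      exact ⟨⟨s, (hmemT s).2 ⟨s.2, hs ▸ y.2⟩⟩, Subtype.ext hs⟩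
  have hU : ∀ y, y ∈ (Ts : Subgroup G) ⊓ N → ∃ s : ↥S, (s : Ω) ∈ T ∧ ι s = y := fun y hy => by
    obtain ⟨s, hs⟩ := MonoidHom.mem_range.1 (hT ▸ (Subgroup.mem_inf.1 hy).1 : y ∈ ι.range)
    exact ⟨s, (hmemT s).2 ⟨s.2, hs ▸ (Subgroup.mem_inf.1 hy).2⟩, hs⟩
  have hUmem : ∀ s : ↥S, (s : Ω) ∈ T → ι s ∈ (Ts : Subgroup G) ⊓ N := fun s hs =>
    Subgroup.mem_inf.2 ⟨hT ▸ ⟨s, rfl⟩, hTN s hs⟩
  have hdom : ∀ P φ, φ ∈ (realized ι' hι').Hom P → ∃ (hP : P ≤ S) (hφ : ∀ x : P, φ x ∈ S), ∃ n ∈ N,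
      ∀ x : P, ι ⟨φ x, hφ x⟩ = n * ι ⟨x, hP x.2⟩ * n⁻¹ := by
    rintro P φ ⟨hP, hφ, g, hg⟩
    exact ⟨hP.trans hTS, fun x => hTS (hφ x), g, g.2, fun x => congrArg Subtype.val (hg x)⟩
  have hautS : ∀ α : MulAut T, α ∈ (realized ι hι).autGroup T →
      ∃ a : G, ∀ (x : T), ι ⟨α x, hTS (α x).2⟩ = a * ι ⟨x, hTS x.2⟩ * a⁻¹ := by
    intro α hα
    obtain ⟨_, hφS, a, ha⟩ := ((mem_autGroup hTS).1 hα).hom_mem (φ := T.subtype.comp α.toMonoidHom)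
      (fun x => (autFun_apply α x).symm)
    exact ⟨a, ha⟩
  refine ⟨T, realized ι' hι', ⟨⟨realized_saturated ι' hι' R (hR.trans hrange.symm),
    realized_saturated ι hι Ts hT, ?_, ⟨hTS, ?_⟩, ?_, ?_⟩, ?_⟩, hmemT, hdom⟩
  · intro P φ hφ
    obtain ⟨hP, hφS, n, -, hn⟩ := hdom P φ hφ
    exact ⟨hP, hφS, n, hn⟩
  · rintro P hP φ ⟨hPS, hφ, g, hg⟩ x
    refine (hmemT _).2 ⟨hφ x, ?_⟩
    rw [hg x]
    exact hN.conj_mem _ (hTN _ (hP x.2)) g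
  · rintro P hPT φ ⟨_hP, hφT, n, hn⟩ α hα
    obtain ⟨a, ha⟩ := hautS α hα
    set P' := (P.subgroupOf T).map (T.subtype.comp α.toMonoidHom) with hP'
    have hP'T : P' ≤ T := by
      rintro _ ⟨x, -, rfl⟩; exact (α x).2
    let n' : ↥N := ⟨a * n * a⁻¹, hN.conj_mem n n.2 a⟩
    have hval : ∀ (x : P), n' * ι' (α ⟨x, hPT x.2⟩) * n'⁻¹ = ι' (α ⟨φ x, hφT x⟩) := fun x => Subtype.ext (by
      show (a * n * a⁻¹) * ι ⟨α ⟨x, hPT x.2⟩, _⟩ * (a * n * a⁻¹)⁻¹ = ι ⟨α ⟨φ x, hφT x⟩, _⟩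
      have h1 : ι ⟨φ x, hTS (hφT x)⟩ = (n : G) * ι ⟨x, hTS (hPT x.2)⟩ * (n : G)⁻¹ := congrArg Subtype.val (hn x)
      rw [ha, ha, h1]
      group)
    obtain ⟨χ, hχ, hχv⟩ := exists_realized_map hι' hP'T (g := n') (by
      rintro ⟨_, x, hx, rfl⟩
      exact ⟨_, (hval ⟨x, hx⟩).symm⟩)
    refine ⟨χ, hχ, fun x hφx hαx => ?_⟩
    obtain ⟨h, he⟩ := hχv ⟨_, hαx⟩
    exact congrArg Subtype.val (hι' (he.trans (hval x)))
  · rintro P hPT φ ⟨hPS, hφ, g, hg⟩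
    set U := (Ts : Subgroup G) ⊓ N
    have hNU : Subgroup.normalizer (U : Set G) ⊔ N = ⊤ := by
      have h := Sylow.normalizer_sup_eq_top (N := N) R
      rwa [hR, Subgroup.map_subgroupOf_eq_of_le inf_le_right] at h
    obtain ⟨m, hm, n, hn, hgm⟩ := CfsgLib.Solv.exists_mul_of_mem_sup (M := N)
      (le_top.trans (Subgroup.normalizer_eq_top_iff.2 hN).ge) (show g⁻¹ ∈ Subgroup.normalizer (U : Set G) ⊔ N by
        rw [hNU]; exact Subgroup.mem_top _)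
    have hgeq : g = n⁻¹ * m⁻¹ := by rw [← mul_inv_rev, ← hgm, inv_inv]
    obtain ⟨φ₁, hφ₁, hφ₁v⟩ := exists_realized_map hι hTS (g := n⁻¹) (fun x => by
      obtain ⟨s, -, hs⟩ := hU _ (conj_mem_of_normalizer (inv_mem hn) (hUmem ⟨x, hTS x.2⟩ x.2))
      exact ⟨s, hs⟩)
    have hφ₁T : ∀ x : T, φ₁ x ∈ T := fun x => by
      obtain ⟨h, he⟩ := hφ₁v x
      refine (hmemT _).2 ⟨h, ?_⟩
      rw [he]
      exact hN.conj_mem _ (hTN x x.2) _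
    haveI := finite_of_le hTS
    let α₀ : ↥T →* ↥T := φ₁.codRestrict T hφ₁T
    have hinj : Function.Injective α₀ := fun x y hxy =>
      (realized ι hι).injective_of_mem hφ₁ (congrArg Subtype.val hxy : φ₁ x = φ₁ y)
    let α : MulAut T := MulEquiv.ofBijective α₀ ⟨hinj, Finite.injective_iff_surjective.1 hinj⟩
    have hα : ∀ x : T, ((α x : T) : Ω) = φ₁ x := fun x => rfl
    have hαF : α ∈ (realized ι hι).autGroup T := (mem_autGroup hTS).2 ⟨φ₁, hφ₁, fun x => by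
      rw [autFun_apply]; rfl⟩
    obtain ⟨φ₀, hφ₀, hφ₀v⟩ := exists_realized_map hι' hPT (g := (⟨m⁻¹, inv_mem hm⟩ : ↥N)) (fun x => by
      rw [hrange]
      refine Subgroup.mem_inf.2 ⟨?_, Subtype.coe_prop ((⟨m⁻¹, inv_mem hm⟩ : ↥N) * ι' ⟨(x : Ω), hPT x.2⟩ * (⟨m⁻¹, inv_mem hm⟩ : ↥N)⁻¹)⟩
      show m⁻¹ * ι ⟨x, hPS x.2⟩ * m⁻¹⁻¹ ∈ (Ts : Subgroup G)
      have h2 : m⁻¹ * ι ⟨x, hPS x.2⟩ * m⁻¹⁻¹ = n * ι ⟨φ x, hφ x⟩ * n⁻¹ := by rw [hg x, hgeq]; group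
      rw [h2]
      refine (Subgroup.mem_inf.1 (conj_mem_of_normalizer hn (Subgroup.mem_inf.2 ⟨hT ▸ ⟨_, rfl⟩, ?_⟩))).1
      rw [hg x]
      exact hN.conj_mem _ (hTN _ (hPT x.2)) g)
    refine ⟨α, hαF, φ₀, hφ₀, fun x hx => ?_⟩
    rw [hα]
    obtain ⟨h1, he1⟩ := hφ₁v ⟨φ₀ x, hx⟩
    obtain ⟨h0, he0⟩ := hφ₀v x
    have he0' : ι ⟨φ₀ x, hTS hx⟩ = m⁻¹ * ι ⟨x, hPS x.2⟩ * m⁻¹⁻¹ := congrArg Subtype.val he0
    refine congrArg (fun s : ↥S => (s : Ω)) (hι (a₁ := ⟨φ x, hφ x⟩) (a₂ := ⟨_, h1⟩) ?_)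
    rw [hg x, he1, he0', hgeq]
    group
  · intro α hα
    obtain ⟨_hT0, _hT1, n, hn⟩ := ((mem_autGroup le_rfl).1 hα).hom_mem (φ := T.subtype.comp α.toMonoidHom)
      (fun x => (autFun_apply α x).symm)
    set U := (Ts : Subgroup G) ⊓ N with hUdef
    have hnv : ∀ x : T, ι ⟨α x, hTS (α x).2⟩ = (n : G) * ι ⟨x, hTS x.2⟩ * (n : G)⁻¹ :=
      fun x => congrArg Subtype.val (hn x)
    have hnU : (n : G) ∈ Subgroup.normalizer (U : Set G) := Subgroup.mem_normalizer_fintype fun y hy => by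
      obtain ⟨s, hs, rfl⟩ := hU y hy
      rw [← show ι ⟨α ⟨s, hs⟩, hTS (α ⟨s, hs⟩).2⟩ = (n : G) * ι s * (n : G)⁻¹ from hnv ⟨s, hs⟩]
      exact hUmem _ (α _).2
    have hext := (normalSubgroup_system Ts N).2 (U.normalizerMonoidHom ⟨n, hnU⟩)
      ((mem_autGroup le_rfl).2 ⟨conjHom U n, ⟨le_rfl, fun x => conj_mem_of_normalizer hnU x.2, n, n.2, fun _ => rfl⟩,
        fun x => (normalizerMonoidHom_autFun ⟨(n : G), hnU⟩ x.2).symm⟩)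
    obtain ⟨β', hβ', hβU, hβC⟩ := hext
    have hW'T : U ⊔ centralizerIn (Ts : Subgroup G) U ≤ (Ts : Subgroup G) := sup_le inf_le_left inf_le_left
    rw [autGroup_group hW'T] at hβ'
    obtain ⟨a, -, ha⟩ := mem_autInducedBy.1 hβ'
    set W := T ⊔ centralizerIn S T with hW
    have hWS : W ≤ S := sup_le hTS inf_le_left
    have hcent : ∀ s : ↥S, (s : Ω) ∈ centralizerIn S T → ι s ∈ centralizerIn (Ts : Subgroup G) U := fun s hs => by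
      refine Subgroup.mem_inf.2 ⟨hT ▸ ⟨s, rfl⟩, Subgroup.mem_centralizer_iff.2 fun y hy => ?_⟩
      obtain ⟨t, ht, rfl⟩ := hU y hy
      rw [← map_mul, ← map_mul]
      exact congrArg ι (Subtype.ext (Subgroup.mem_centralizer_iff.1 (Subgroup.mem_inf.1 hs).2 _ ht))
    have hWle : W.subgroupOf S ≤ (U ⊔ centralizerIn (Ts : Subgroup G) U).comap ι := by
      rw [hW, Subgroup.subgroupOf_sup (A := T) (A' := centralizerIn S T) hTS inf_le_left]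
      refine sup_le (fun s hs => Subgroup.mem_sup_left (hUmem s hs)) fun s hs => Subgroup.mem_sup_right (hcent s hs)
    have hconjW : ∀ x : W, a * ι ⟨x, hWS x.2⟩ * a⁻¹ ∈ U ⊔ centralizerIn (Ts : Subgroup G) U := fun x => by
      have hx := hWle (x := ⟨x, hWS x.2⟩) x.2
      rw [← ha _ hx]
      exact autFun_mem β' hx
    obtain ⟨φ₁, hφ₁, hφ₁v⟩ := exists_realized_map hι hWS (g := a) (fun x => hT ▸ hW'T (hconjW x))
    haveI := finite_of_le hWS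
    have hTval : ∀ x (hx : x ∈ T), φ₁ ⟨x, Subgroup.mem_sup_left hx⟩ = α ⟨x, hx⟩ := by
      intro x hx
      obtain ⟨h, he⟩ := hφ₁v ⟨x, Subgroup.mem_sup_left hx⟩
      refine congrArg (fun s : ↥S => (s : Ω)) (hι (a₁ := ⟨_, h⟩) (a₂ := ⟨_, hTS (α ⟨x, hx⟩).2⟩) ?_)
      rw [he, hnv ⟨x, hx⟩]
      have hy : ι ⟨x, hTS hx⟩ ∈ U := hUmem _ hx
      have := hβU ⟨_, hy⟩
      rw [← autFun_apply β', Subgroup.coe_inclusion, ← autFun_apply (U.normalizerMonoidHom ⟨(n : G), hnU⟩),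
        normalizerMonoidHom_autFun _ hy, ha _ (Subgroup.mem_sup_left hy)] at this
      exact this
    have hCval : ∀ c (hc : c ∈ centralizerIn S T),
        c⁻¹ * φ₁ ⟨c, Subgroup.mem_sup_right hc⟩ ∈ T ⊓ Subgroup.centralizer (T : Set Ω) := by
      intro c hc
      obtain ⟨h, he⟩ := hφ₁v ⟨c, Subgroup.mem_sup_right hc⟩
      have hc' := hcent ⟨c, hc.1⟩ hc
      have h1 := hβC ⟨_, Subgroup.mem_sup_right hc'⟩ hc'
      rw [← autFun_apply β', ha _ (Subgroup.mem_sup_right hc')] at h1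
      have h2 : (ι ⟨c, hc.1⟩)⁻¹ * (a * ι ⟨c, hc.1⟩ * a⁻¹) = ι (⟨c, hc.1⟩⁻¹ * ⟨_, h⟩) := by
        rw [map_mul, map_inv, he]
      rw [h2] at h1
      obtain ⟨hU1, hU2⟩ := Subgroup.mem_inf.1 h1
      obtain ⟨s, hs, hse⟩ := hU _ hU1
      have hs' : (s : Ω) = c⁻¹ * φ₁ ⟨c, Subgroup.mem_sup_right hc⟩ := congrArg (fun s : ↥S => (s : Ω)) (hι hse)
      refine Subgroup.mem_inf.2 ⟨hs' ▸ hs, Subgroup.mem_centralizer_iff.2 fun t ht => ?_⟩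
      rw [← hs']
      have h3 := Subgroup.mem_centralizer_iff.1 hU2 _ (hUmem ⟨t, hTS ht⟩ ht)
      rw [← hse, ← map_mul, ← map_mul] at h3
      exact congrArg (fun s : ↥S => (s : Ω)) (hι h3)
    have hφ₁W : ∀ x : W, φ₁ x ∈ W := by
      have hle : (⊤ : Subgroup W) ≤ W.comap φ₁ := by
        rw [← Subgroup.subgroupOf_self, Subgroup.subgroupOf_sup (A := T) (A' := centralizerIn S T) le_sup_left le_sup_right]
        refine sup_le (fun x hx => ?_) fun x hx => ?_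
        · exact Subgroup.mem_sup_left ((hTval x hx).symm ▸ (α ⟨x, hx⟩).2)
        · have h := mul_mem (Subgroup.mem_sup_right hx : (x : Ω) ∈ W)
            (Subgroup.mem_sup_left (Subgroup.mem_inf.1 (hCval x hx)).1 : _ ∈ W)
          rwa [mul_inv_cancel_left] at h
      exact fun x => hle (Subgroup.mem_top x)
    let β₀ : ↥W →* ↥W := φ₁.codRestrict W hφ₁W
    have hinj : Function.Injective β₀ := fun x y hxy =>
      (realized ι hι).injective_of_mem hφ₁ (congrArg Subtype.val hxy : φ₁ x = φ₁ y)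
    let β : MulAut W := MulEquiv.ofBijective β₀ ⟨hinj, Finite.injective_iff_surjective.1 hinj⟩
    refine ⟨β, (mem_autGroup hWS).2 ⟨φ₁, hφ₁, fun x => by rw [autFun_apply]; rfl⟩,
      fun x => hTval x x.2, fun c hc => hCval c hc⟩

end CfsgLib.Fus
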