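import Cfsg.Agent.Fus.Group
import Cfsg.Agent.Fus.FactorMorphism

/-!
The fusion system realized by an embedding of `S` as a Sylow subgroup of a finite group, and its saturation;
the system of an extension of `S` by a group of automorphisms of order prime to `p`.
-/

set_option autoImplicit false
set_option linter.style.haveILetI false

open Cfsg Cfsg.FusionSystem

namespace CfsgLib.Fus

universe u v

variable {Ω : Type u} [Group Ω] {S : Subgroup Ω} {G : Type v} [Group G]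

/-- The fusion system on `S` of the conjugations in `G`. -/
def realized (ι : ↥S →* G) (hι : Function.Injective ι) : FusionSystem S where
  Hom P := {φ | ∃ (hP : P ≤ S) (hφ : ∀ x : P, φ x ∈ S), ∃ g : G, ∀ x : P,
    ι ⟨φ x, hφ x⟩ = g * ι ⟨x, hP x.2⟩ * g⁻¹}
  le_of_mem := fun ⟨hP, hφ, _⟩ => ⟨hP, hφ⟩
  injective_of_mem := fun {P φ} ⟨hP, hφ, g, hg⟩ x y hxy => by
    have h := hg x
    rw [show (⟨φ x, hφ x⟩ : ↥S) = ⟨φ y, hφ y⟩ from Subtype.ext hxy, hg y] at h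
    exact Subtype.ext (congrArg (fun s : ↥S => (s : Ω)) (hι (mul_left_cancel (mul_right_cancel h))).symm)
  conj_mem := fun {P g} hP hg => ⟨hP, fun x => S.mul_mem (S.mul_mem hg (hP x.2)) (S.inv_mem hg), ι ⟨g, hg⟩,
    fun x => by rw [← map_inv, ← map_mul, ← map_mul]; rfl⟩
  comp_mem := fun {P Q φ ψ} ⟨hP, hφ, g, hg⟩ ⟨hQ, hψ, k, hk⟩ h => ⟨hP, fun x => hψ _, k * g, fun x => by
    have h1 := hk ⟨φ x, h x⟩
    rw [show (⟨((⟨φ x, h x⟩ : Q) : Ω), hQ (h x)⟩ : ↥S) = ⟨φ x, hφ x⟩ from rfl, hg x] at h1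
    rw [mul_inv_rev]
    simp only [mul_assoc] at h1 ⊢
    exact h1⟩
  inv_mem := fun {P φ} ⟨hP, hφ, g, hg⟩ => by
    have hinj : Function.Injective φ := fun x y hxy => by
      have h := hg x
      rw [show (⟨φ x, hφ x⟩ : ↥S) = ⟨φ y, hφ y⟩ from Subtype.ext hxy, hg y] at h
      exact Subtype.ext (congrArg (fun s : ↥S => (s : Ω)) (hι (mul_left_cancel (mul_right_cancel h))).symm)
    let e := MonoidHom.ofInjective hinj
    refine ⟨P.subtype.comp e.symm.toMonoidHom, ⟨fun y hy => ?_, fun y => hP (e.symm y).2, g⁻¹, fun y => ?_⟩,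
      fun x => congrArg Subtype.val (e.symm_apply_apply x)⟩
    · obtain ⟨x, rfl⟩ := hy
      exact hφ x
    · obtain ⟨x, rfl⟩ := e.surjective y
      show ι ⟨((e.symm (e x) : P) : Ω), _⟩ = _
      simp only [MulEquiv.symm_apply_apply, inv_inv]
      have : ι ⟨((e x : φ.range) : Ω), (fun h => by obtain ⟨x', hx'⟩ := h; exact hx' ▸ hφ x' : _ → _) (e x).2⟩
          = g * ι ⟨x, hP x.2⟩ * g⁻¹ := hg x
      rw [this]
      simp [mul_assoc]

theorem isRealizedBy_realized (ι : ↥S →* G) (hι : Function.Injective ι) : (realized ι hι).IsRealizedBy ι :=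
  ⟨hι, fun _ hP _ hφ => ⟨fun ⟨_, _, h⟩ => h, fun h => ⟨hP, hφ, h⟩⟩⟩

theorem isMap_realized_iff {ι : ↥S →* G} {hι : Function.Injective ι} {P : Subgroup Ω} {f : Ω → Ω}
    (hP : P ≤ S) (hf : ∀ x ∈ P, f x ∈ S) :
    IsMap (realized ι hι) P f →
      ∃ g : G, ∀ x (hx : x ∈ P), ι ⟨f x, hf x hx⟩ = g * ι ⟨x, hP hx⟩ * g⁻¹ := by
  rintro ⟨φ, ⟨_, hφ, g, hg⟩, he⟩
  exact ⟨g, fun x hx => (congrArg ι (Subtype.ext (he ⟨x, hx⟩).symm)).trans (hg ⟨x, hx⟩)⟩

theorem realized_saturated [Finite S] [Finite G] {p : ℕ} [Fact p.Prime] (ι : ↥S →* G) (hι : Function.Injective ι)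
    (T : Sylow p G) (hT : (T : Subgroup G) = ι.range) : (realized ι hι).IsSaturated p := by
  let e : ↥S ≃* ↥(T : Subgroup G) := (MonoidHom.ofInjective hι).trans (MulEquiv.subgroupCongr hT.symm)
  have he : ∀ s : ↥S, ((e s : ↥(T : Subgroup G)) : G) = ι s := fun s => rfl
  let α : ↥(T : Subgroup G) →* Ω := S.subtype.comp e.symm.toMonoidHom
  have hα : ∀ t : ↥(T : Subgroup G), α t = ((e.symm t : ↥S) : Ω) := fun t => rfl
  have hι' : ∀ t : ↥(T : Subgroup G), ι (e.symm t) = (t : G) := fun t => by rw [← he, MulEquiv.apply_symm_apply]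
  refine Factor.saturated_image T.2 (group_saturated T) (F' := realized ι hι) (α := α) ⟨⟨fun t => (e.symm t).2, ?_⟩, ?_, ?_⟩
  · rintro P φ ⟨hP, hφT, g, hg⟩
    have hle : imageAlong α P ≤ S := fun y hy => by
      obtain ⟨x, -, hxT, rfl⟩ := Factor.mem_imageAlong.1 hy
      rw [Factor.th_of_mem hxT]
      exact (e.symm _).2
    have hex : ∀ y : ↥(imageAlong α P), g * ι ⟨y, hle y.2⟩ * g⁻¹ ∈ (T : Subgroup G) := fun y => by
      obtain ⟨x, hx, hxT, hxy⟩ := Factor.mem_imageAlong.1 y.2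
      have h1 : ι ⟨y, hle y.2⟩ = x := by
        rw [show (⟨(y : Ω), hle y.2⟩ : ↥S) = e.symm ⟨x, hxT⟩ from Subtype.ext (by rw [← hxy, Factor.th_of_mem hxT]; rfl)]
        exact hι' _
      rw [h1]
      exact hg ⟨x, hx⟩ ▸ hφT ⟨x, hx⟩
    let φ' : ↥(imageAlong α P) →* Ω := MonoidHom.mk' (fun y => α ⟨_, hex y⟩) fun a b => by
      rw [← map_mul α]
      refine congrArg α (Subtype.ext ?_)
      show g * ι ⟨((a * b : ↥(imageAlong α P)) : Ω), _⟩ * g⁻¹ = g * ι _ * g⁻¹ * (g * ι _ * g⁻¹)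
      rw [show (⟨((a * b : ↥(imageAlong α P)) : Ω), hle (a * b).2⟩ : ↥S) = ⟨a, hle a.2⟩ * ⟨b, hle b.2⟩ from rfl, map_mul]
      simp [mul_assoc]
    refine ⟨φ', ⟨hle, fun y => (e.symm _).2, g, fun y => hι' ⟨_, hex y⟩⟩, hP, hφT,
      fun x => ⟨⟨x, hP x.2⟩, x.2, rfl⟩, fun x => congrArg α (Subtype.ext ?_)⟩
    show g * ι (e.symm ⟨(x : G), hP x.2⟩) * g⁻¹ = φ x
    rw [hι', hg x]
  · refine le_antisymm ?_ fun s hs => ⟨e ⟨s, hs⟩, ?_⟩
    · rintro _ ⟨t, rfl⟩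
      exact (e.symm t).2
    · rw [hα, MulEquiv.symm_apply_apply]
  · rintro P' hP' φ' ⟨_, hφ', g, hg⟩
    have hmem : ∀ x : ↥(preimageAlong α P'), g * (x : G) * g⁻¹ ∈ (T : Subgroup G) := fun x => by
      obtain ⟨hxT, hxP⟩ := mem_preimageAlong.1 x.2
      have h := hg ⟨α ⟨x, hxT⟩, hxP⟩
      change ι ⟨φ' ⟨α ⟨x, hxT⟩, hxP⟩, _⟩ = g * ι (e.symm ⟨x, hxT⟩) * g⁻¹ at h
      rw [hι'] at h
      exact h ▸ (he _ ▸ (e _).2)
    refine ⟨conjHom (preimageAlong α P') g, ⟨preimageAlong_le, hmem, g, fun x => rfl⟩, preimageAlong_le, hmem,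
      fun x => (mem_preimageAlong.1 x.2).2, fun x => ?_⟩
    obtain ⟨hxT, hxP⟩ := mem_preimageAlong.1 x.2
    have h := hg ⟨α ⟨x, hxT⟩, hxP⟩
    change ι ⟨φ' ⟨α ⟨x, hxT⟩, hxP⟩, _⟩ = g * ι (e.symm ⟨x, hxT⟩) * g⁻¹ at h
    rw [hι'] at h
    show φ' _ = ((e.symm ⟨g * (x : G) * g⁻¹, hmem x⟩ : ↥S) : Ω)
    have h2 : (⟨φ' ⟨α ⟨x, hxT⟩, hxP⟩, hφ' _⟩ : ↥S) = e.symm ⟨g * (x : G) * g⁻¹, hmem x⟩ :=
      hι (h.trans (hι' ⟨g * (x : G) * g⁻¹, hmem x⟩).symm)
    exact congrArg (fun s : ↥S => (s : Ω)) h2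

/-- A group of automorphisms of order prime to `p` acts in some saturated system. -/
theorem exists_saturated_aut [Finite S] {p : ℕ} [Fact p.Prime] (hS : IsPGroup p S) (C : Subgroup (MulAut ↥S))
    (hC : (Nat.card ↥C).Coprime p) :
    ∃ F : FusionSystem S, F.IsSaturated p ∧ C ≤ F.autGroup S := by
  haveI : Finite (MulAut ↥S) := inferInstanceAs (Finite (↥S ≃* ↥S))
  haveI : Finite (↥S ⋊[C.subtype] ↥C) := Finite.of_equiv _ SemidirectProduct.equivProd.symm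
  let ι : ↥S →* ↥S ⋊[C.subtype] ↥C := SemidirectProduct.inl
  have hι : Function.Injective ι := SemidirectProduct.inl_injective
  have hcard : Nat.card ι.range = Nat.card ↥S := (Nat.card_congr (MonoidHom.ofInjective hι).toEquiv).symm
  have hp : IsPGroup p ι.range := hS.of_equiv (MonoidHom.ofInjective hι)
  obtain ⟨T, hT⟩ := hp.exists_le_sylow
  have hTe : (T : Subgroup _) = ι.range := by
    refine (Subgroup.eq_of_le_of_card_ge hT ?_).symm
    rw [hcard]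
    obtain ⟨a, ha⟩ := IsPGroup.iff_card.1 T.2
    have hdvd : p ^ a ∣ Nat.card ↥S * Nat.card ↥C := by
      rw [← ha, ← SemidirectProduct.card]
      exact Subgroup.card_subgroup_dvd_card _
    rw [ha]
    exact Nat.le_of_dvd Nat.card_pos ((Nat.Coprime.pow_left a hC.symm).dvd_of_dvd_mul_right hdvd)
  refine ⟨realized ι hι, realized_saturated ι hι T hTe, fun c hc => (mem_autGroup le_rfl).2 ?_⟩
  refine ⟨S.subtype.comp (c : ↥S ≃* ↥S).toMonoidHom,
    ⟨le_rfl, fun x => (c x).2, SemidirectProduct.inr ⟨c, hc⟩, fun x => ?_⟩, fun x => (autFun_apply c x).symm⟩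
  rw [← map_inv, ← SemidirectProduct.inl_aut]
  rfl

end CfsgLib.Fus
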