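import Cfsg.Agent.Fus.Alperin
import Cfsg.Agent.Fus.HyperfocalGroup
import Cfsg.Agent.Inv.Transfer

/-!
A saturated system is generated by its inner maps and the residuals of its automizers.
-/

set_option autoImplicit false
set_option linter.style.haveILetI false

open Cfsg Cfsg.FusionSystem

namespace CfsgLib.Fus.ResidualGen

variable {Ω : Type*} [Group Ω] {T U : Subgroup Ω}

/-- The maps of a system between subgroups of `T`. -/
def restrictTo (D : FusionSystem U) (hTU : T ≤ U) : FusionSystem T where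
  Hom P := {φ | P ≤ T ∧ (∀ x : P, φ x ∈ T) ∧ φ ∈ D.Hom P}
  le_of_mem h := ⟨h.1, h.2.1⟩
  injective_of_mem h := D.injective_of_mem h.2.2
  conj_mem {P g} hP hg := ⟨hP, fun x => T.mul_mem (T.mul_mem hg (hP x.2)) (T.inv_mem hg),
    D.conj_mem (hP.trans hTU) (hTU hg)⟩
  comp_mem {P Q φ ψ} hφ hψ h := ⟨hφ.1, fun x => hψ.2.1 _, D.comp_mem hφ.2.2 hψ.2.2 h⟩
  inv_mem {P φ} hφ := by
    obtain ⟨ψ, hψ, hψe⟩ := D.inv_mem hφ.2.2
    refine ⟨ψ, ⟨?_, ?_, hψ⟩, hψe⟩
    · rintro _ ⟨x, rfl⟩; exact hφ.2.1 x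
    · rintro ⟨_, x, rfl⟩
      rw [hψe x]
      exact hφ.1 x.2

variable {E : FusionSystem T} {p : ℕ}

/-- A saturated system is contained in any system containing its `p'`-automorphisms. -/
theorem le_of_coprime_auts [Finite T] [hp : Fact p.Prime] (hT : IsPGroup p T) (hE : E.IsSaturated p)
    (D : FusionSystem U) (hTU : T ≤ U)
    (h : ∀ P : Subgroup Ω, P ≤ T → ∀ α ∈ E.autGroup P, (orderOf α).Coprime p → α ∈ D.autGroup P) :
    E.IsSubsystemOf D := by
  have key : E ≤ restrictTo D hTU := by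
    refine CfsgLib.Fus.fusion_induction hT hE _ fun R hR _ => ?_
    haveI := finite_of_le hR.1
    have hDR : ∀ α ∈ D.autGroup R, α ∈ (restrictTo D hTU).autGroup R := fun α hα => by
      obtain ⟨φ, hφ, he⟩ := (mem_autGroup (hR.1.trans hTU)).1 hα
      refine (mem_autGroup hR.1).2 ⟨φ, ⟨hR.1, fun x => ?_, hφ⟩, he⟩
      rw [he x]
      exact hR.1 (autFun_mem α x.2)
    obtain ⟨⟨-, R₀, hR₀⟩, -⟩ := fullyNormalized_spec hT hE hR
    let A := E.autGroup R
    set N := Cfsg.pResidual p A with hN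
    haveI := CfsgLib.Inv.pResidual_normal p A
    have h1 : N ≤ ((restrictTo D hTU).autGroup R).subgroupOf A := by
      rw [hN, Cfsg.pResidual, Subgroup.closure_le]
      intro δ hδ
      refine hDR _ (h R hR.1 (δ : MulAut R) δ.2 ?_)
      rw [Subgroup.orderOf_coe]; exact hδ
    have h2 : (R₀ : Subgroup A) ≤ ((restrictTo D hTU).autGroup R).subgroupOf A := by
      rw [hR₀]
      exact Subgroup.comap_mono (autInducedBy_le_autGroup hR.1)
    have htop : N ⊔ (R₀ : Subgroup A) = ⊤ := by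
      rw [← Subgroup.index_eq_one]
      by_contra hne
      obtain ⟨j, hj⟩ := IsPGroup.iff_card.1 (CfsgLib.Inv.isPGroup_quot_pResidual (G := A) (p := p))
      rw [← Subgroup.index_eq_card] at hj
      obtain ⟨i, -, hi⟩ := (Nat.dvd_prime_pow hp.out).1 (hj ▸ Subgroup.index_dvd_of_le
        (le_sup_left : N ≤ N ⊔ (R₀ : Subgroup A)))
      rcases Nat.eq_zero_or_pos i with rfl | hi0
      · exact hne (by rw [hi, pow_zero])
      · exact R₀.not_dvd_index (((dvd_pow_self p hi0.ne').trans hi.symm.dvd).trans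
          (Subgroup.index_dvd_of_le le_sup_right))
    intro α hα
    have := sup_le h1 h2
    rw [htop] at this
    exact this (Subgroup.mem_top (⟨α, hα⟩ : A))
  exact fun P φ hφ => (key P hφ).2.2

theorem coprime_mem_of_pPowerIndex {V : Subgroup Ω} {F : FusionSystem V} {D : FusionSystem U} (hD : D.HasPPowerIndexIn F p)
    {P : Subgroup Ω} (hP : P ≤ U) {α : MulAut P} (hα : α ∈ F.autGroup P) (hc : (orderOf α).Coprime p) :
    α ∈ D.autGroup P :=
  hD.2.2 P hP ⟨⟨α, hα⟩, CfsgLib.Inv.mem_pResidual (by rwa [← Subgroup.orderOf_coe]), rfl⟩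

theorem subsystem_aut {V : Subgroup Ω} {F : FusionSystem V} (hEF : E.IsSubsystemOf F) (hTV : T ≤ V)
    {P : Subgroup Ω} (hP : P ≤ T) {α : MulAut P} (hα : α ∈ E.autGroup P) : α ∈ F.autGroup P := by
  obtain ⟨φ, hφ, he⟩ := (mem_autGroup hP).1 hα
  exact (mem_autGroup (hP.trans hTV)).2 ⟨φ, hEF P hφ, he⟩

theorem le_of_pPowerIndex {V : Subgroup Ω} [Finite V] [Fact p.Prime] (hV : IsPGroup p V) {F : FusionSystem V}
    (hTV : T ≤ V) (hE : E.IsSaturated p) (hEF : E.IsSubsystemOf F) {D : FusionSystem U}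
    (hD : D.HasPPowerIndexIn F p) (hTU : T ≤ U) : E.IsSubsystemOf D := by
  haveI := finite_of_le hTV
  exact le_of_coprime_auts (hV.to_le hTV) hE D hTU fun P hP α hα hc =>
    coprime_mem_of_pPowerIndex hD (hP.trans hTU) (subsystem_aut hEF hTV hP hα) hc

variable {G : Type*} [Group G] [Finite G]

/-- The residual system of a group is the system of its `p`-residual. -/
theorem group_residual (p : ℕ) [hp : Fact p.Prime] (S : Sylow p G)
    (E : FusionSystem ((groupFusionSystem (S : Subgroup G)).hyperfocalSubgroup p))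
    (hE : (groupFusionSystem (S : Subgroup G)).IsPResidual p E) (P : Subgroup G) :
    E.Hom P = (fusionSystemOfSubgroup (Cfsg.pResidual p G) ((S : Subgroup G) ⊓ Cfsg.pResidual p G) inf_le_right).Hom P := by
  haveI := CfsgLib.Inv.pResidual_normal p G
  set K := Cfsg.pResidual p G with hK
  set F := groupFusionSystem (S : Subgroup G) with hF
  have hH : F.hyperfocalSubgroup p = (S : Subgroup G) ⊓ K := CfsgLib.Fus.group_hyperfocal p S
  obtain ⟨R, hR⟩ := CfsgLib.Fus.sylow_inf_normal_system S K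
  set W := fusionSystemOfSubgroup K ((S : Subgroup G) ⊓ K) inf_le_right with hW
  have hWs : W.IsSaturated p := CfsgLib.Fus.subgroupSystem_saturated _ ⟨R, hR⟩
  have hWi : W.HasPPowerIndexIn F p := by
    refine ⟨?_, hH.le, fun P hP => ?_⟩
    · rintro P φ ⟨hP, hφ, g, -, hg⟩
      exact ⟨hP.trans inf_le_left, fun x => (Subgroup.mem_inf.1 (hφ x)).1, g, hg⟩
    rw [Cfsg.pResidual, MonoidHom.map_closure, Subgroup.closure_le]
    rintro _ ⟨⟨δ, hδF⟩, hδ, rfl⟩
    have hδc : (orderOf δ).Coprime p := by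
      rw [Set.mem_setOf_eq, ← Subgroup.orderOf_coe] at hδ; exact hδ
    rw [hF, autGroup_group (hP.trans inf_le_left)] at hδF
    obtain ⟨g, -, hg⟩ := mem_autInducedBy.1 hδF
    obtain ⟨a, b, hb, hn⟩ := Nat.exists_eq_pow_mul_and_not_dvd (orderOf_pos g).ne' p hp.out.ne_one
    obtain ⟨j, hj⟩ := exists_pow_eq_self_of_coprime (x := δ) (n := p ^ a) (hδc.pow_right a).symm
    have hk : (g ^ p ^ a) ^ j ∈ K := K.pow_mem (CfsgLib.Inv.mem_pResidual (by
      rw [orderOf_pow' _ (pow_ne_zero _ hp.out.pos.ne'), hn, Nat.gcd_eq_right (dvd_mul_right _ _),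
        Nat.mul_div_cancel_left _ (pow_pos hp.out.pos a)]
      exact (hp.out.coprime_iff_not_dvd.2 hb).symm)) j
    have hpow : ∀ (n : ℕ), ∀ y ∈ P, autFun (δ ^ n) y = g ^ n * y * (g ^ n)⁻¹ := by
      intro n
      induction n with
      | zero => intro y hy; simp [autFun_one hy]
      | succ n ih =>
        intro y hy
        rw [pow_succ, autFun_mul _ _ hy, ih _ (autFun_mem δ hy), hg y hy]
        group
    refine (mem_autGroup hP).2 ⟨conjHom P ((g ^ p ^ a) ^ j), ⟨hP, fun x => ?_, _, hk, fun _ => rfl⟩, fun x => ?_⟩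
    · show (g ^ p ^ a) ^ j * (x : G) * ((g ^ p ^ a) ^ j)⁻¹ ∈ _
      have h1 := hpow (p ^ a * j) x x.2
      rw [pow_mul δ, hj, pow_mul g] at h1
      rw [← h1]
      exact hP (autFun_mem δ x.2)
    · show (g ^ p ^ a) ^ j * (x : G) * ((g ^ p ^ a) ^ j)⁻¹ = _
      have h1 := hpow (p ^ a * j) x x.2
      rw [pow_mul δ, hj, pow_mul g] at h1
      exact h1.symm
  have hHS : F.hyperfocalSubgroup p ≤ (S : Subgroup G) := hH.le.trans inf_le_left
  exact Set.Subset.antisymm (le_of_pPowerIndex S.isPGroup' hHS hE.1 hE.2.1 hWi hH.le P)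
    (le_of_pPowerIndex S.isPGroup' inf_le_left hWs hWi.1 hE.2 hH.ge P)

end CfsgLib.Fus.ResidualGen
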