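import Cfsg.Agent.Fus.ResidualGenerated
import Cfsg.Prelude.Def_FusionReduction

/-!
Residual limits are unique and unchanged under subsystems of `p`-power index.
-/

set_option autoImplicit false
set_option linter.style.haveILetI false

open Cfsg Cfsg.FusionSystem

namespace CfsgLib.Fus.ResidualLimit

variable {Ω : Type*} [Group Ω] {p : ℕ}

/-- The same carrier and the same maps. -/
def Same {A B : Subgroup Ω} (X : FusionSystem A) (Y : FusionSystem B) : Prop :=
  A = B ∧ ∀ P : Subgroup Ω, X.Hom P = Y.Hom P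

theorem Same.symm {A B : Subgroup Ω} {X : FusionSystem A} {Y : FusionSystem B} (h : Same X Y) : Same Y X :=
  ⟨h.1.symm, fun P => (h.2 P).symm⟩

theorem Same.trans {A B C : Subgroup Ω} {X : FusionSystem A} {Y : FusionSystem B} {Z : FusionSystem C}
    (h : Same X Y) (h' : Same Y Z) : Same X Z :=
  ⟨h.1.trans h'.1, fun P => (h.2 P).trans (h'.2 P)⟩

theorem Same.subst {A B : Subgroup Ω} {X : FusionSystem A} {Y : FusionSystem B} (h : Same X Y)
    (motive : ∀ {C : Subgroup Ω}, FusionSystem C → Prop) (hX : motive X) : motive Y := by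
  obtain ⟨rfl, he⟩ := h
  exact CfsgLib.Fus.system_ext (F := X) (E := Y) he ▸ hX

def Stable {S : Subgroup Ω} (F : FusionSystem S) (p : ℕ) : Prop :=
  F.hyperfocalSubgroup p = S ∧ F.IsPPrimeResidual p F

variable [Fact p.Prime]

theorem same_of_index {V A B : Subgroup Ω} [Finite V] (hV : IsPGroup p V) {F : FusionSystem V} {X : FusionSystem A}
    {Y : FusionSystem B} (hAB : A = B) (hAV : A ≤ V) (hXs : X.IsSaturated p) (hXi : X.HasPPowerIndexIn F p)
    (hYs : Y.IsSaturated p) (hYi : Y.HasPPowerIndexIn F p) : Same X Y := by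
  refine ⟨hAB, fun P => Set.Subset.antisymm ?_ ?_⟩
  · exact ResidualGen.le_of_pPowerIndex hV hAV hXs hXi.1 hYi hAB.le P
  · exact ResidualGen.le_of_pPowerIndex hV (hAB ▸ hAV) hYs hYi.1 hXi hAB.ge P

theorem pResidual_le_self {S : Subgroup Ω} (F : FusionSystem S) (P : Subgroup Ω) :
    (Cfsg.pResidual p (F.autGroup P)).map (F.autGroup P).subtype ≤ F.autGroup P :=
  Subgroup.map_subtype_le _

theorem self_index {S : Subgroup Ω} [Finite S] (hS : IsPGroup p S) (F : FusionSystem S) :
    F.HasPPowerIndexIn F p :=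
  ⟨fun _ => subset_rfl, CfsgLib.Fus.hyperfocal_le hS, fun P _ => pResidual_le_self F P⟩

theorem residual_of_stable {S : Subgroup Ω} [Finite S] (hS : IsPGroup p S) {F : FusionSystem S} (hF : Stable F p)
    (D D' : FusionSystem (F.hyperfocalSubgroup p)) (hD : F.IsPResidual p D) (hD' : D.IsPPrimeResidual p D') :
    Same D' F := by
  have h1 : Same D F := same_of_index hS hF.1 (CfsgLib.Fus.hyperfocal_le hS) hD.1 hD.2 hF.2.1 (self_index hS F)
  have hX : D.IsPPrimeResidual p D :=
    h1.symm.subst (fun {C} (X : FusionSystem C) => X.IsPPrimeResidual p X) hF.2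
  have h2 : Same D' D := ⟨rfl, fun P => Set.Subset.antisymm (hD'.2.1.1 P) (hX.2.2 D' hD'.1 hD'.2.1 P)⟩
  exact h2.trans h1

omit [Fact p.Prime] in
theorem stable_unique {U S : Subgroup Ω} {A : FusionSystem U} {F : FusionSystem S}
    (h : A.IsResidualLimitOf F p) : Fact p.Prime → Finite S → IsPGroup p S → Stable F p → Same A F := by
  induction h with
  | stable F p hh hr => exact fun _ _ _ _ => ⟨rfl, fun _ => rfl⟩
  | @step S E F p D D' hD hD' _ ih =>
    intro hfp hfin hS hF
    have h1 := residual_of_stable hS hF D D' hD hD'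
    have h2 : Stable D' p := h1.symm.subst (fun {C} (X : FusionSystem C) => Stable X p) hF
    haveI := CfsgLib.Fus.finite_of_le (CfsgLib.Fus.hyperfocal_le (F := F) hS)
    exact (ih hfp inferInstance (hS.to_le (CfsgLib.Fus.hyperfocal_le hS)) h2).trans h1

theorem pPrime_unique {S : Subgroup Ω} {D D₁ D₂ : FusionSystem S} (h1 : D.IsPPrimeResidual p D₁)
    (h2 : D.IsPPrimeResidual p D₂) : Same D₁ D₂ :=
  ⟨rfl, fun P => Set.Subset.antisymm (h1.2.2 D₂ h2.1 h2.2.1 P) (h2.2.2 D₁ h1.1 h1.2.1 P)⟩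

omit [Fact p.Prime] in
theorem unique {U V S : Subgroup Ω} {A : FusionSystem U} {B : FusionSystem V} {F : FusionSystem S}
    (hA : A.IsResidualLimitOf F p) : Fact p.Prime → Finite S → IsPGroup p S → B.IsResidualLimitOf F p → Same A B := by
  induction hA with
  | stable F p hh hr => exact fun hfp hfin hS hB => (stable_unique hB hfp hfin hS ⟨hh, hr⟩).symm
  | @step S E F p D D' hD hD' hE ih =>
    intro hfp hfin hS hB
    have hle := CfsgLib.Fus.hyperfocal_le (F := F) hS
    haveI := CfsgLib.Fus.finite_of_le hle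
    cases hB with
    | stable _ _ hh hr => exact stable_unique (.step _ p D D' hD hD' hE) hfp hfin hS ⟨hh, hr⟩
    | step _ _ D₂ D₂' hD₂ hD₂' hE₂ =>
      have h1 : Same D D₂ := same_of_index hS rfl hle hD.1 hD.2 hD₂.1 hD₂.2
      have h2 : D₂.IsPPrimeResidual p D' := CfsgLib.Fus.system_ext (F := D) (E := D₂) h1.2 ▸ hD'
      have h3 := pPrime_unique hD₂' h2
      exact ih hfp inferInstance (hS.to_le hle) (CfsgLib.Fus.system_ext (F := D₂') (E := D') h3.2 ▸ hE₂)

theorem hyperfocal_eq {S T : Subgroup Ω} [Finite S] (hS : IsPGroup p S) {F : FusionSystem S} {E : FusionSystem T}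
    (hTS : T ≤ S) (hi : E.HasPPowerIndexIn F p) : E.hyperfocalSubgroup p = F.hyperfocalSubgroup p := by
  haveI := CfsgLib.Fus.finite_of_le hTS
  have hTp : IsPGroup p T := hS.to_le hTS
  refine le_antisymm (CfsgLib.Fus.hyperfocal_le_iff.2 fun P hP α hα hc x hx =>
    CfsgLib.Fus.hyperfocal_le_iff.1 le_rfl P (hP.trans hTS) α (ResidualGen.subsystem_aut hi.1 hTS hP hα) hc x hx) ?_
  refine CfsgLib.Fus.hyperfocal_le_iff.2 fun P hP α hα hc x hx => ?_
  set W := E.hyperfocalSubgroup p
  have hmod := CfsgLib.Fus.hyperfocal_le_iff.1 hi.2.1 P hP α hα hc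
  have hP0 : ∀ y ∈ P ⊓ T, autFun α y ∈ P ⊓ T := fun y hy => by
    refine Subgroup.mem_inf.2 ⟨autFun_mem α hy.1, ?_⟩
    have := T.mul_mem hy.2 (hmod y hy.1)
    rwa [mul_inv_cancel_left] at this
  have hm : IsMap F (P ⊓ T) (autFun α) := ((mem_autGroup hP).1 hα).mono inf_le_left
  haveI := CfsgLib.Fus.finite_of_le (inf_le_right.trans hTS : P ⊓ T ≤ S)
  obtain ⟨β, hβ, hβe⟩ := exists_aut hm (Subgroup.eq_of_le_of_card_ge (img_le_iff.2 hP0) hm.card_img.ge)
  have hβc : (orderOf β).Coprime p := by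
    refine hc.coprime_dvd_left (orderOf_dvd_of_pow_eq_one (aut_ext fun y hy => ?_))
    rw [← CfsgLib.Fus.autFun_pow_agree (inf_le_left : P ⊓ T ≤ P) (α := β) (β := α)
      (fun z hz => (hβe z hz).symm) _ y hy, pow_orderOf_eq_one, autFun_one hy.1, autFun_one hy]
  have hβE : β ∈ E.autGroup (P ⊓ T) := ResidualGen.coprime_mem_of_pPowerIndex hi inf_le_right hβ hβc
  have hstep : ∀ y ∈ P ⊓ T, y⁻¹ * autFun α y ∈ W := fun y hy => by
    have := CfsgLib.Fus.hyperfocal_le_iff.1 (le_refl W) _ inf_le_right β hβE hβc y hy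
    rwa [hβe y hy] at this
  set z := x⁻¹ * autFun α x with hz
  have hzP : z ∈ P ⊓ T := Subgroup.mem_inf.2 ⟨P.mul_mem (P.inv_mem hx) (autFun_mem α hx), hmod x hx⟩
  have hWn := CfsgLib.Fus.hyperfocal_normal (F := E) (p := p) hTp
  have key : ∀ n : ℕ, ∃ w ∈ W, autFun (α ^ n) x = x * z ^ n * w ∧ ∀ y ∈ P ⊓ T, autFun (α ^ n) y ∈ P ⊓ T ∧ y⁻¹ * autFun (α ^ n) y ∈ W := by
    intro n
    induction n with
    | zero =>
      refine ⟨1, W.one_mem, ?_, fun y hy => ?_⟩
      · rw [pow_zero, autFun_one hx]; simp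
      · rw [pow_zero, autFun_one hy.1, inv_mul_cancel]; exact ⟨hy, W.one_mem⟩
    | succ n ih =>
      obtain ⟨w, hw, he, hy'⟩ := ih
      refine ⟨?_, ?_, ?_, fun y hy => ?_⟩
      · exact (z ^ n)⁻¹ ^ 0 * ((z ^ (n + 1))⁻¹ * (z ^ n * w * z) * (z⁻¹ * autFun (α ^ n) z))
      · rw [pow_zero, one_mul]
        refine W.mul_mem ?_ (hy' z hzP).2
        have h1 : z⁻¹ * w * z ∈ W := by
          have h := CfsgLib.Fus.conj_mem_of_normalizer (hWn (T.inv_mem hzP.2)) hw
          rwa [inv_inv] at h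
        rw [show (z ^ (n + 1))⁻¹ * (z ^ n * w * z) = z⁻¹ * w * z by rw [pow_succ]; group]
        exact h1
      · rw [pow_succ, autFun_mul _ _ hx, show autFun α x = x * z by rw [hz, mul_inv_cancel_left],
          autFun_map_mul (α ^ n) hx hzP.1, he]
        group
      · rw [pow_succ, autFun_mul _ _ hy.1]
        refine ⟨(hy' _ (hP0 y hy)).1, ?_⟩
        have := W.mul_mem (hstep y hy) (hy' _ (hP0 y hy)).2
        rwa [mul_assoc, mul_inv_cancel_left] at this
  obtain ⟨w, hw, he, -⟩ := key (orderOf α)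
  rw [pow_orderOf_eq_one, autFun_one hx, mul_assoc, left_eq_mul] at he
  obtain ⟨i, hi'⟩ := hS ⟨z, hTS hzP.2⟩
  have hzi : z ^ p ^ i ∈ W := by
    rw [show z ^ p ^ i = 1 from congrArg Subtype.val hi']; exact W.one_mem
  have hzn : z ^ orderOf α ∈ W := by
    rw [mul_eq_one_iff_eq_inv.1 he]; exact W.inv_mem hw
  have hg : Nat.gcd (orderOf α) (p ^ i) = 1 := hc.pow_right i
  have := Nat.gcd_eq_gcd_ab (orderOf α) (p ^ i)
  rw [hg] at this
  have hz1 : z = (z ^ orderOf α) ^ (Nat.gcdA (orderOf α) (p ^ i)) * (z ^ p ^ i) ^ (Nat.gcdB (orderOf α) (p ^ i)) := by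
    rw [← zpow_natCast, ← zpow_natCast, ← zpow_mul, ← zpow_mul, ← zpow_add, ← this, Nat.cast_one, zpow_one]
  rw [hz1]
  exact W.mul_mem (W.zpow_mem hzn _) (W.zpow_mem hzi _)

theorem main {S T U V : Subgroup Ω} [Finite S] (hS : IsPGroup p S) {F : FusionSystem S} (hF : F.IsSaturated p)
    {E : FusionSystem T} (hTS : T ≤ S) (hEs : E.IsSaturated p) (hi : E.HasPPowerIndexIn F p)
    {Finf : FusionSystem U} (hFinf : Finf.IsResidualLimitOf F p) {Einf : FusionSystem V}
    (hEinf : Einf.IsResidualLimitOf E p) : ∀ P, Finf.Hom P = Einf.Hom P := by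
  haveI := CfsgLib.Fus.finite_of_le hTS
  have hTp : IsPGroup p T := hS.to_le hTS
  have hH := hyperfocal_eq hS hTS hi
  suffices h : Same Finf Einf from h.2
  have hlimE : T = S → Same Finf Einf := fun hTeq => by
    have h1 : Same E F := same_of_index hS hTeq hTS hEs hi hF (self_index hS F)
    exact unique hFinf inferInstance inferInstance hS (h1.subst (fun {C} (X : FusionSystem C) => Einf.IsResidualLimitOf X p) hEinf)
  cases hFinf with
  | stable F p hh hr =>
    exact hlimE (le_antisymm hTS (hh.ge.trans (hH.ge.trans (CfsgLib.Fus.hyperfocal_le hTp))))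
  | step F p D D' hD hD' hlim =>
    have hle := CfsgLib.Fus.hyperfocal_le (F := F) hS
    haveI := CfsgLib.Fus.finite_of_le hle
    have hp' := hS.to_le hle
    cases hEinf with
    | stable E p hh hr =>
      have h1 : Same D E := same_of_index hS (hH.symm.trans hh) hle hD.1 hD.2 hEs hi
      have hDst : Stable D p := h1.symm.subst (fun {C} (X : FusionSystem C) => Stable X p) ⟨hh, hr⟩
      have h2 : Same D' D := pPrime_unique hD' hDst.2
      have hD'st : Stable D' p := h2.symm.subst (fun {C} (X : FusionSystem C) => Stable X p) hDst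
      exact ((stable_unique hlim inferInstance inferInstance hp' hD'st).trans h2).trans h1
    | step E p D₂ D₂' hD₂ hD₂' hlim₂ =>
      have hle₂ := CfsgLib.Fus.hyperfocal_le (F := E) hTp
      have hD₂F : D₂.HasPPowerIndexIn F p := by
        refine ⟨fun P φ hφ => hi.1 P (hD₂.2.1 P hφ), hH.ge, fun P hP => ?_⟩
        rw [Cfsg.pResidual, MonoidHom.map_closure, Subgroup.closure_le]
        rintro _ ⟨δ, hδ, rfl⟩
        have hδc : (orderOf (δ : MulAut P)).Coprime p := by rw [Subgroup.orderOf_coe]; exact hδ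
        exact ResidualGen.coprime_mem_of_pPowerIndex hD₂.2 hP
          (ResidualGen.coprime_mem_of_pPowerIndex hi (hP.trans hle₂) δ.2 hδc) hδc
      have h1 : Same D D₂ := same_of_index hS hH.symm hle hD.1 hD.2 hD₂.1 hD₂F
      have h2 : Same D' D₂' := by
        refine (h1.subst (fun {C} (X : FusionSystem C) => ∀ Y : FusionSystem C, X.IsPPrimeResidual p Y → Same D' Y)
          fun Y hY => pPrime_unique hD' hY) D₂' hD₂'
      exact unique hlim inferInstance inferInstance hp'
        (h2.symm.subst (fun {C} (X : FusionSystem C) => Einf.IsResidualLimitOf X p) hlim₂)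

end CfsgLib.Fus.ResidualLimit
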