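import Cfsg.Agent.Solv.ActionPStable
import Cfsg.Agent.Solv.PSolvableOfSolvable
import Cfsg.Agent.Solv.FittingBasic
import Cfsg.Agent.Solv.CoprimeAction
import Cfsg.Agent.OddLocal.PStable
import Cfsg.Prelude.Def_OddOrderLocal
import Mathlib.GroupTheory.SchurZassenhaus

/-!
Centralizers of self-centralizing abelian subgroups of the Fitting subgroup.
-/

set_option autoImplicit false
set_option linter.style.haveILetI false
set_option linter.deprecated false

open CfsgLib.Solv
open scoped commutatorElement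

namespace CfsgLib.Fus.SCNCentralizer

variable {S : Type*} [Group S] [Finite S] [Group.IsSolvable S]

omit [Finite S] [Group.IsSolvable S] in
theorem mem_pCore_of_qpow {q : ℕ} [Fact q.Prime] {M : Subgroup S} [M.Normal]
    (hM : ∀ a ∈ M, ∀ b ∈ M, a * b = b * a) {y : S} (hy : y ∈ M) {j : ℕ} (hj : y ^ q ^ j = 1) :
    y ∈ Cfsg.pCore q S := by
  let Mq : Subgroup S :=
    { carrier := {m | m ∈ M ∧ m ^ q ^ j = 1}
      one_mem' := ⟨one_mem M, one_pow _⟩
      mul_mem' := fun {a b} ha hb => ⟨mul_mem ha.1 hb.1, by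
        rw [(show Commute a b from hM a ha.1 b hb.1).mul_pow, ha.2, hb.2, one_mul]⟩
      inv_mem' := fun {a} ha => ⟨inv_mem ha.1, by rw [inv_pow, ha.2, inv_one]⟩ }
  haveI : Mq.Normal := ⟨fun m hm g => ⟨Subgroup.Normal.conj_mem inferInstance m hm.1 g,
    by rw [conj_pow, hm.2, mul_one, mul_inv_cancel]⟩⟩
  refine le_pCore (N := Mq) (fun m => ⟨j, Subtype.ext ?_⟩) ⟨hy, hj⟩
  exact m.2.2

/-- A `p`-element centralizing a self-centralizing abelian subgroup of the Fitting subgroup. -/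
theorem mem_fitting_of_pElement {p : ℕ} [Fact p.Prime] (h5 : 5 ≤ p) (A : Subgroup S)
    (hA : ∀ a ∈ A, ∀ b ∈ A, a * b = b * a)
    (hnorm : Cfsg.fittingSubgroup S ≤ Subgroup.normalizer (A : Set S))
    (hself : ∀ f ∈ Cfsg.fittingSubgroup S, f ∈ Subgroup.centralizer (A : Set S) → f ∈ A)
    {x : S} (hx : x ∈ Subgroup.centralizer (A : Set S)) {j : ℕ} (hxp : x ^ p ^ j = 1) :
    x ∈ Cfsg.fittingSubgroup S := by
  set F := Cfsg.fittingSubgroup S with hF
  haveI : F.Normal := fittingSubgroup_normal S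
  set X := Subgroup.zpowers x
  have hXA : X ≤ Subgroup.centralizer (A : Set S) := Subgroup.zpowers_le.2 hx
  have hquad : ∀ (q : ℕ) [Fact q.Prime], ⁅⁅Cfsg.pCore q S, X⁆, X⁆ = ⊥ := by
    intro q _
    haveI : (Cfsg.pCore q S).Normal := pCore_normal S q
    have h1 : ⁅Cfsg.pCore q S, X⁆ ≤ A := by
      rw [Subgroup.commutator_le]
      intro u hu z hz
      have huF : u ∈ F := pCore_le_fittingSubgroup hu
      refine hself _ (pCore_le_fittingSubgroup (Subgroup.commutator_le_left _ _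
        (Subgroup.commutator_mem_commutator hu hz))) ?_
      rw [Subgroup.mem_centralizer_iff]
      intro a ha
      have hz' := Subgroup.mem_centralizer_iff.1 (hXA hz)
      have hu' : u⁻¹ * a * u ∈ A := by
        have := (Subgroup.mem_normalizer_iff.1 (inv_mem (hnorm huF)) a).1 ha
        rwa [inv_inv] at this
      have e1 : z * (u⁻¹ * a * u) = (u⁻¹ * a * u) * z := (hz' _ hu').symm
      have e2 : a * z⁻¹ = z⁻¹ * a := (Commute.inv_right (hz' a ha : Commute a z))
      rw [commutatorElement_def]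
      calc a * (u * z * u⁻¹ * z⁻¹) = u * ((u⁻¹ * a * u) * z) * u⁻¹ * z⁻¹ := by group
        _ = u * (z * (u⁻¹ * a * u)) * u⁻¹ * z⁻¹ := by rw [e1]
        _ = u * z * u⁻¹ * (a * z⁻¹) := by group
        _ = u * z * u⁻¹ * (z⁻¹ * a) := by rw [e2]
        _ = u * z * u⁻¹ * z⁻¹ * a := by group
    refine le_bot_iff.1 ((Subgroup.commutator_mono h1 le_rfl).trans ?_)
    rw [le_bot_iff, Subgroup.commutator_eq_bot_iff_le_centralizer]
    intro a ha
    rw [Subgroup.mem_centralizer_iff]
    intro z hz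
    exact (Subgroup.mem_centralizer_iff.1 (hXA hz) a ha).symm
  set P := Cfsg.pCore p S
  haveI : P.Normal := pCore_normal S p
  set C := Subgroup.centralizer (P : Set S)
  set N := ((Cfsg.pCore p (S ⧸ C)).comap (QuotientGroup.mk' C)) ⊓
    ⨅ q : {q : ℕ // q.Prime ∧ q ≠ p}, Subgroup.centralizer (Cfsg.pCore (q : ℕ) S : Set S) with hN
  haveI hNn : N.Normal := by
    haveI : (Cfsg.pCore p (S ⧸ C)).Normal := pCore_normal _ p
    have : ∀ q : {q : ℕ // q.Prime ∧ q ≠ p}, (Subgroup.centralizer (Cfsg.pCore (q : ℕ) S : Set S)).Normal :=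
      fun q => by
        haveI := pCore_normal S (q : ℕ)
        infer_instance
    haveI := Subgroup.normal_iInf_normal this
    rw [hN]
    infer_instance
  have hxN : x ∈ N := by
    refine ⟨?_, Subgroup.mem_iInf.2 fun ⟨q, hq, hqp⟩ => ?_⟩
    · exact pStableOn_of_normalizerStable
        (normalizerStable_of_no_qd (by omega) ⟨⊤, Subgroup.subtype _, fun y => ⟨⟨y, trivial⟩, rfl⟩⟩
          fun h => no_sl2_section_of_pSolvable h5 (isPSolvable_of_isSolvable p S) (isSec_sl2_of_qd h))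
        P (pCore_isPGroup S p) x (hquad p)
    · haveI := Fact.mk hq
      haveI : (Cfsg.pCore q S).Normal := pCore_normal S q
      obtain ⟨n, hn⟩ := (pCore_isPGroup S q : IsPGroup q (Cfsg.pCore q S)).exists_card_eq
      obtain ⟨i, -, hi⟩ := (Nat.dvd_prime_pow Fact.out).1 (orderOf_dvd_of_pow_eq_one hxp)
      have hcop : (Nat.card X).Coprime (Nat.card (Cfsg.pCore q S)) := by
        rw [Nat.card_zpowers, hi, hn]
        exact ((Nat.coprime_primes Fact.out hq).2 (Ne.symm hqp)).pow i n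
      haveI := (pCore_isPGroup S q : IsPGroup q (Cfsg.pCore q S)).isNilpotent
      have h := commutator_commutator_right (A := X) (K := Cfsg.pCore q S)
        (by rw [Subgroup.normalizer_eq_top_iff.2 inferInstance]; exact le_top) hcop (Or.inr inferInstance)
      rw [hquad q, eq_comm, Subgroup.commutator_comm, Subgroup.commutator_eq_bot_iff_le_centralizer] at h
      exact h (Subgroup.mem_zpowers x)
  have hcent : ∀ (q : ℕ) [Fact q.Prime], q ≠ p → ∀ y ∈ N, ∀ i : ℕ, y ^ q ^ i = 1 → ∀ n ∈ N, n * y = y * n := by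
    intro q _ hqp y hy i hi n hn
    have hyC : y ∈ C := by
      have h1 : QuotientGroup.mk' C y ^ q ^ i = 1 := by rw [← map_pow, hi, map_one]
      obtain ⟨e, he⟩ := (pCore_isPGroup (S ⧸ C) p) ⟨_, hy.1⟩
      have h2 : QuotientGroup.mk' C y ^ p ^ e = 1 := congrArg Subtype.val he
      refine (QuotientGroup.eq_one_iff y).1 ?_
      have hcop : Nat.Coprime (q ^ i) (p ^ e) := ((Nat.coprime_primes Fact.out Fact.out).2 hqp).pow i e
      have := pow_gcd_eq_one.2 ⟨h1, h2⟩
      rwa [hcop.gcd_eq_one, pow_one] at this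
    have hyF : y ∈ Subgroup.centralizer (F : Set S) := by
      refine (Subgroup.le_centralizer_iff.1 ?_) (Subgroup.mem_zpowers y)
      rw [hF, fittingSubgroup_eq_iSup_pCore, iSup_le_iff]
      intro l
      rw [Subgroup.le_centralizer_iff, Subgroup.zpowers_le]
      by_cases hl : (l : ℕ) = p
      · rw [hl]; exact hyC
      · exact (Subgroup.mem_iInf.1 hy.2) ⟨(l : ℕ), l.2, hl⟩
    have hFC := centralizer_fittingSubgroup_le (G := S)
    have hyq : y ∈ Cfsg.pCore q S := mem_pCore_of_qpow (M := Subgroup.centralizer (F : Set S))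
      (fun a ha b hb => (Subgroup.mem_centralizer_iff.1 ha b (hFC hb)).symm) hyF hi
    exact ((Subgroup.mem_centralizer_iff.1 ((Subgroup.mem_iInf.1 hn.2) ⟨q, Fact.out, hqp⟩)) y hyq).symm
  have hnil : Group.IsNilpotent N := by
    suffices h : IsPGroup p (N ⧸ Subgroup.center N) by
      exact Group.of_quotient_center_nilpotent h.isNilpotent
    refine IsPGroup.of_card (n := (Nat.card (N ⧸ Subgroup.center N)).primeFactorsList.length)
      (Nat.eq_prime_pow_of_unique_prime_dvd Nat.card_pos.ne' fun {q} hq hqd => ?_)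
    by_contra hqp
    haveI := Fact.mk hq
    obtain ⟨Q⟩ : Nonempty (Sylow q N) := inferInstance
    have hQ : (Q : Subgroup N) ≤ Subgroup.center N := by
      intro y hy
      obtain ⟨i, hi⟩ := Q.isPGroup' ⟨y, hy⟩
      rw [Subgroup.mem_center_iff]
      intro n
      exact Subtype.ext (hcent q hqp y y.2 i (congrArg (fun t : (Q : Subgroup N) => ((t : N) : S)) hi) n n.2)
    exact Q.not_dvd_index (hqd.trans ((Subgroup.index_eq_card (Subgroup.center N)) ▸ Subgroup.index_dvd_of_le hQ))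
  exact le_fittingSubgroup hnil hxN

omit [Finite S] [Group.IsSolvable S] in
theorem card_comap_mk (K : Subgroup S) [K.Normal] (L : Subgroup (S ⧸ K)) :
    Nat.card ↥(L.comap (QuotientGroup.mk' K)) = Nat.card K * Nat.card L := by
  have h1 := card_map_mk' K (L.comap (QuotientGroup.mk' K))
  rw [Subgroup.map_comap_eq_self_of_surjective (QuotientGroup.mk'_surjective K)] at h1
  have hle : K ≤ L.comap (QuotientGroup.mk' K) := by
    intro k hk
    show QuotientGroup.mk' K k ∈ L
    rw [QuotientGroup.mk'_apply, (QuotientGroup.eq_one_iff k).2 hk]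
    exact one_mem L
  rw [inf_eq_right.2 hle] at h1
  rw [mul_comm]
  exact h1.symm

/-- All `π`-elements centralizing a member of `SCN(F(H))` lie in it. -/
theorem mem_of_piElement (π : Set ℕ) (h2 : 2 ∉ π) (h3 : 3 ∉ π) (H : Subgroup S) (hH : Cfsg.IsPiHall π H)
    (A : Subgroup S) (hA : Cfsg.IsSCN ((Cfsg.fittingSubgroup H).map H.subtype) A)
    {q : ℕ} [Fact q.Prime] (hq : q ∈ π) {x : S} (hx : x ∈ Subgroup.centralizer (A : Set S))
    {j : ℕ} (hxq : x ^ q ^ j = 1) : x ∈ A := by
  obtain ⟨hAle, hFN, hAC⟩ := hA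
  have hAH : A ≤ H := hAle.trans (Subgroup.map_subtype_le _)
  have hAab : ∀ a ∈ A, ∀ b ∈ A, a * b = b * a := by
    intro a ha b hb
    rw [← hAC] at hb
    exact Subgroup.mem_centralizer_iff.1 hb.2 a ha
  set K := Cfsg.piCore πᶜ S with hK
  haveI : K.Normal := by
    haveI := piCore_characteristic (π := πᶜ) (G := S)
    infer_instance
  have hKπ : PiNat πᶜ (Nat.card K) := piNat_card_piCore πᶜ
  have hHπ : PiNat π (Nat.card H) := hH.1
  have hHK : ∀ z ∈ H, z ∈ K → z = 1 := fun z hz hzK =>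
    orderOf_eq_one_iff.1 (Nat.eq_one_of_dvd_coprimes (hHπ.coprime hKπ)
      (Subgroup.orderOf_dvd_natCard H hz) (Subgroup.orderOf_dvd_natCard K hzK))
  set f := QuotientGroup.mk' K
  have hf : Function.Surjective f := QuotientGroup.mk'_surjective K
  have hinjH : ∀ a ∈ H, ∀ b ∈ H, f a = f b → a = b := fun a ha b hb h =>
    inv_mul_eq_one.1 (hHK _ (mul_mem (inv_mem ha) hb) (QuotientGroup.eq.1 h))
  haveI : Group.IsSolvable (S ⧸ K) := solvable_of_surjective hf
  -- the Fitting subgroup of the quotient lies in the image of the Hall subgroup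
  have hFπ : PiNat π (Nat.card (Cfsg.fittingSubgroup (S ⧸ K))) := by
    intro l hl hld
    by_contra hlπ
    haveI := Fact.mk hl
    haveI := fittingSubgroup_normal (S ⧸ K)
    haveI hnF : Group.IsNilpotent (Cfsg.fittingSubgroup (S ⧸ K)) := fittingSubgroup_isNilpotent
    obtain ⟨z, hz⟩ := exists_prime_orderOf_dvd_card' l hld
    obtain ⟨L⟩ : Nonempty (Sylow l ↥(Cfsg.fittingSubgroup (S ⧸ K))) := inferInstance
    haveI hLn : (L : Subgroup ↥(Cfsg.fittingSubgroup (S ⧸ K))).Normal :=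
      L.normal_of_normalizerCondition normalizerCondition_of_isNilpotent
    haveI := L.characteristic_of_normal hLn
    have hLbot : (L : Subgroup ↥(Cfsg.fittingSubgroup (S ⧸ K))).map (Subgroup.subtype _) ≤ K.map f := by
      have hN : ((L : Subgroup ↥(Cfsg.fittingSubgroup (S ⧸ K))).map (Subgroup.subtype _)).comap f ≤ K := by
        haveI hn := (normal_map_subtype_of_characteristic (N := Cfsg.fittingSubgroup (S ⧸ K))
          (L : Subgroup ↥(Cfsg.fittingSubgroup (S ⧸ K)))).comap f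
        refine le_piCore ?_
        intro r hr hrd
        have hrel : Nat.card ↥(((L : Subgroup ↥(Cfsg.fittingSubgroup (S ⧸ K))).map (Subgroup.subtype _)).comap f) =
            Nat.card K * Nat.card (L : Subgroup ↥(Cfsg.fittingSubgroup (S ⧸ K))) := by
          have h := CfsgLib.Fus.SCNCentralizer.card_comap_mk K
            ((L : Subgroup ↥(Cfsg.fittingSubgroup (S ⧸ K))).map (Subgroup.subtype _))
          rwa [card_map_subtype] at h
        rw [hrel] at hrd
        rcases hr.dvd_mul.1 hrd with h | h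
        · exact hKπ r hr h
        · obtain ⟨n, hn⟩ := L.isPGroup'.exists_card_eq
          rw [hn] at h
          rw [(Nat.prime_dvd_prime_iff_eq hr hl).1 (hr.dvd_of_dvd_pow h)]
          exact hlπ
      have := Subgroup.map_mono (f := f) hN
      rwa [Subgroup.map_comap_eq_self_of_surjective hf] at this
    rw [QuotientGroup.map_mk'_self] at hLbot
    have hLb : (L : Subgroup ↥(Cfsg.fittingSubgroup (S ⧸ K))) = ⊥ := by
      rw [← Subgroup.map_eq_bot_iff_of_injective _ (Subgroup.subtype_injective _)]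
      exact le_bot_iff.1 hLbot
    exact L.ne_bot_of_dvd_card hld hLb
  haveI := fittingSubgroup_normal (S ⧸ K)
  have hFH : Cfsg.fittingSubgroup (S ⧸ K) ≤ H.map f := by
    intro z hz
    have hcop : (Nat.card (Cfsg.fittingSubgroup (S ⧸ K))).Coprime (H.map f).index := by
      refine hFπ.coprime ?_
      intro r hr hrd hrπ
      exact hH.2 r hr hrπ (hrd.trans (Subgroup.index_map_dvd H hf))
    have h1 : (H.map f).relIndex (H.map f ⊔ Cfsg.fittingSubgroup (S ⧸ K)) = 1 := by
      refine Nat.eq_one_of_dvd_coprimes hcop ?_ (Subgroup.relIndex_dvd_index_of_le le_sup_left)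
      refine ⟨Nat.card ↥(H.map f ⊓ Cfsg.fittingSubgroup (S ⧸ K)),
        Nat.eq_of_mul_eq_mul_left (Nat.card_pos (α := H.map f)) ?_⟩
      have e1 := card_sup_mul_card_inf (H.map f) (Cfsg.fittingSubgroup (S ⧸ K))
      have e2 := relIndex_mul_card (show H.map f ≤ H.map f ⊔ Cfsg.fittingSubgroup (S ⧸ K) from le_sup_left)
      rw [← e2] at e1
      linarith
    exact Subgroup.relIndex_eq_one.1 h1 (Subgroup.mem_sup_right hz)
  -- pulled back to the Hall subgroup
  have hpull : (Cfsg.fittingSubgroup (S ⧸ K)).comap (f.comp H.subtype) ≤ Cfsg.fittingSubgroup H := by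
    refine le_fittingSubgroup ?_
    haveI : Group.IsNilpotent (Cfsg.fittingSubgroup (S ⧸ K)) := fittingSubgroup_isNilpotent
    suffices hi : Function.Injective ((f.comp H.subtype).subgroupComap (Cfsg.fittingSubgroup (S ⧸ K))) by
      exact Group.nilpotent_of_mulEquiv (MonoidHom.ofInjective hi).symm
    intro a b h
    exact Subtype.ext (Subtype.ext (hinjH _ a.1.2 _ b.1.2 (congrArg Subtype.val h)))
  have hmem : ∀ z ∈ Cfsg.fittingSubgroup (S ⧸ K),
      ∃ h : S, h ∈ (Cfsg.fittingSubgroup H).map H.subtype ∧ f h = z := by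
    intro z hz
    obtain ⟨h, hh, rfl⟩ := hFH hz
    exact ⟨h, ⟨⟨h, hh⟩, hpull hz, rfl⟩, rfl⟩
  have hnorm : Cfsg.fittingSubgroup (S ⧸ K) ≤ Subgroup.normalizer ((A.map f : Subgroup _) : Set (S ⧸ K)) := by
    intro z hz
    obtain ⟨h, hh, rfl⟩ := hmem z hz
    exact Subgroup.le_normalizer_map f ⟨h, hFN hh, rfl⟩
  have hself : ∀ z ∈ Cfsg.fittingSubgroup (S ⧸ K),
      z ∈ Subgroup.centralizer ((A.map f : Subgroup _) : Set (S ⧸ K)) → z ∈ A.map f := by
    intro z hz hzC
    obtain ⟨h, hh, rfl⟩ := hmem z hz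
    refine Subgroup.mem_map_of_mem f ?_
    rw [← hAC]
    refine ⟨hh, Subgroup.mem_centralizer_iff.2 fun a ha => ?_⟩
    have hhH : h ∈ H := Subgroup.map_subtype_le _ hh
    refine hinjH _ (mul_mem (hAH ha) hhH) _ (mul_mem hhH (hAH ha)) ?_
    rw [map_mul, map_mul]
    exact Subgroup.mem_centralizer_iff.1 hzC _ (Subgroup.mem_map_of_mem f ha)
  have hxF := mem_fitting_of_pElement (S := S ⧸ K) (p := q) (j := j)
    (by
      have h4 := (Fact.out : q.Prime).two_le
      rcases lt_or_ge q 5 with h | h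
      · interval_cases q
        · exact absurd hq h2
        · exact absurd hq h3
        · exact absurd (Fact.out : (4 : ℕ).Prime) (by decide)
      · exact h)
    (A.map f)
    (by rintro _ ⟨a, ha, rfl⟩ _ ⟨b, hb, rfl⟩; rw [← map_mul, ← map_mul, hAab a ha b hb])
    hnorm hself (x := f x)
    (by
      rw [Subgroup.mem_centralizer_iff]
      rintro _ ⟨a, ha, rfl⟩
      rw [← map_mul, ← map_mul, Subgroup.mem_centralizer_iff.1 hx a ha])
    (by rw [← map_pow, hxq, map_one])
  have hxC' : f x ∈ Subgroup.centralizer ((A.map f : Subgroup _) : Set (S ⧸ K)) := by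
    rw [Subgroup.mem_centralizer_iff]
    rintro _ ⟨a, ha, rfl⟩
    rw [← map_mul, ← map_mul, Subgroup.mem_centralizer_iff.1 hx a ha]
  obtain ⟨a, ha, hax⟩ := hself _ hxF hxC'
  have hk : a⁻¹ * x ∈ K := QuotientGroup.eq.1 hax
  have hord : PiNat π (orderOf (a⁻¹ * x)) := by
    have hcomm : Commute a⁻¹ x := (Commute.inv_left (Subgroup.mem_centralizer_iff.1 hx a ha : Commute a x))
    refine PiNat.of_dvd (PiNat.mul (m := orderOf a) (n := q ^ j) (hHπ.of_dvd
      (Subgroup.orderOf_dvd_natCard H (hAH ha))) ?_) ?_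
    · intro r hr hrd
      rw [(Nat.prime_dvd_prime_iff_eq hr Fact.out).1 (hr.dvd_of_dvd_pow hrd)]
      exact hq
    · refine orderOf_dvd_of_pow_eq_one ?_
      rw [hcomm.mul_pow, inv_pow, pow_mul a, pow_orderOf_eq_one, one_pow, inv_one, one_mul, pow_mul', hxq, one_pow]
  have h1 : a⁻¹ * x = 1 := orderOf_eq_one_iff.1 (Nat.eq_one_of_dvd_coprimes (PiNat.coprime hord hKπ) dvd_rfl
    (Subgroup.orderOf_dvd_natCard K hk))
  rw [inv_mul_eq_one] at h1
  rwa [← h1]

theorem main (π : Set ℕ) (h2 : 2 ∉ π) (h3 : 3 ∉ π) (H : Subgroup S) (hH : Cfsg.IsPiHall π H)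
    (A : Subgroup S) (hA : Cfsg.IsSCN ((Cfsg.fittingSubgroup H).map H.subtype) A) :
    ∃ D : Subgroup S, D ≤ Subgroup.centralizer (A : Set S) ∧
      (∀ c ∈ Subgroup.centralizer (A : Set S), ∀ d ∈ D, c * d * c⁻¹ ∈ D) ∧
      A ⊓ D = ⊥ ∧ A ⊔ D = Subgroup.centralizer (A : Set S) ∧
      ∀ q : ℕ, q.Prime → q ∣ Nat.card D → q ∉ π := by
  set C := Subgroup.centralizer (A : Set S) with hC
  have hAC : A ≤ C := by
    intro a ha
    rw [← hA.2.2] at ha
    exact ha.2
  have hAπ : PiNat π (Nat.card A) :=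
    PiNat.of_dvd hH.1 (Subgroup.card_dvd_of_le (hA.1.trans (Subgroup.map_subtype_le _)))
  have hiπ : PiNat πᶜ (A.subgroupOf C).index := by
    intro r hr hrd hrπ
    haveI := Fact.mk hr
    obtain ⟨R⟩ : Nonempty (Sylow r C) := inferInstance
    have hR : (R : Subgroup C) ≤ A.subgroupOf C := by
      intro y hy
      obtain ⟨i, hi⟩ := R.isPGroup' ⟨y, hy⟩
      exact mem_of_piElement π h2 h3 H hH A hA hrπ y.2 (congrArg (fun t : (R : Subgroup C) => ((t : C) : S)) hi)
    exact R.not_dvd_index (hrd.trans (Subgroup.index_dvd_of_le hR))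
  have hcentral : A.subgroupOf C ≤ Subgroup.center C := by
    intro a ha
    rw [Subgroup.mem_center_iff]
    intro g
    exact Subtype.ext (Subgroup.mem_centralizer_iff.1 g.2 _ ha).symm
  haveI : (A.subgroupOf C).Normal := ⟨fun a ha g => by
    rw [Subgroup.mem_center_iff.1 (hcentral ha) g, mul_inv_cancel_right]
    exact ha⟩
  obtain ⟨D₀, hD₀⟩ := Subgroup.exists_right_complement'_of_coprime
    (show (Nat.card (A.subgroupOf C)).Coprime (A.subgroupOf C).index by
      rw [card_subgroupOf hAC]; exact hAπ.coprime hiπ)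
  haveI hDn : D₀.Normal := ⟨fun d hd g => by
    obtain ⟨⟨⟨a, ha⟩, ⟨e, he⟩⟩, hae⟩ := (Subgroup.isComplement'_def.1 hD₀).2 g
    rw [← show a * e = g from hae]
    have h : a * e * d * (a * e)⁻¹ = e * d * e⁻¹ := by
      calc a * e * d * (a * e)⁻¹ = a * (e * d * e⁻¹) * a⁻¹ := by group
        _ = (e * d * e⁻¹) * a * a⁻¹ := by rw [Subgroup.mem_center_iff.1 (hcentral ha) (e * d * e⁻¹)]
        _ = e * d * e⁻¹ := by group
    rw [h]
    exact mul_mem (mul_mem he hd) (inv_mem he)⟩
  refine ⟨D₀.map C.subtype, Subgroup.map_subtype_le _, ?_, ?_, ?_, ?_⟩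
  · rintro c hc _ ⟨d, hd, rfl⟩
    exact ⟨⟨c, hc⟩ * d * ⟨c, hc⟩⁻¹, hDn.conj_mem d hd _, rfl⟩
  · rw [eq_bot_iff]
    rintro z ⟨hzA, ⟨d, hd, rfl⟩⟩
    exact congrArg C.subtype (Subgroup.mem_bot.1 (hD₀.disjoint.le_bot ⟨(show d ∈ A.subgroupOf C from hzA), hd⟩))
  · refine le_antisymm (sup_le hAC (Subgroup.map_subtype_le _)) ?_
    intro c hc
    obtain ⟨⟨⟨a, ha⟩, ⟨e, he⟩⟩, hae⟩ := (Subgroup.isComplement'_def.1 hD₀).2 ⟨c, hc⟩
    rw [show c = (a : S) * e from (congrArg C.subtype hae).symm]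
    exact Subgroup.mul_mem_sup ha ⟨e, he, rfl⟩
  · intro r hr hrd
    rw [card_map_subtype, ← hD₀.symm.index_eq_card] at hrd
    exact hiπ r hr hrd

end CfsgLib.Fus.SCNCentralizer
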