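import Cfsg.Agent.Fus.Dickson
import Cfsg.Agent.Lie.SL2Sylow

/-!
An element of order p of SL₂ in characteristic p acting nontrivially on a p'-subgroup.
-/

set_option autoImplicit false
set_option linter.style.haveILetI false
set_option linter.unusedSectionVars false

namespace CfsgLib.Fus.SL2Coprime

open Matrix CfsgLib.Dickson

variable {F : Type*} [Field F] [Fintype F] {p : ℕ} [hp : Fact p.Prime] [CharP F p]

local notation "SL2" => Matrix.SpecialLinearGroup (Fin 2) F

theorem two_ne (hp2 : p ≠ 2) : (2 : F) ≠ 0 := fun h => by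
  have h1 : ((2 : ℕ) : F) = 0 := by simpa using h
  have h2 := (CharP.cast_eq_zero_iff F p 2).1 h1
  exact hp2 ((Nat.prime_dvd_prime_iff_eq hp.out Nat.prime_two).1 h2)

theorem scal_of_pow (hp2 : p ≠ 2) {r : SL2} (h1 : r ^ (2 * p) = 1) (hr : (orderOf r).Coprime p) : Scal r := by
  refine scal_of_sq (two_ne hp2) (orderOf_dvd_iff_pow_eq_one.1 ?_)
  exact hr.dvd_of_dvd_mul_right (orderOf_dvd_iff_pow_eq_one.2 h1)

theorem tr_sq_ne (hp2 : p ≠ 2) {r : SL2} (hr : ¬ Scal r) (hc : (orderOf r).Coprime p) : tr r ^ 2 ≠ 4 := by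
  intro h
  refine hr (scal_of_pow hp2 ?_ hc)
  have h' : (tr r - 2) * (tr r + 2) = 0 := by linear_combination h
  rcases mul_eq_zero.1 h' with h1 | h1
  · rw [mul_comm, pow_mul, pow_eq_one_of_tr p (sub_eq_zero.1 h1), one_pow]
  · have h2 : tr (m1 F * r) = 2 := by rw [tr_m1_mul]; linear_combination -h1
    have h3 := congrArg (fun x => x ^ 2) (pow_eq_one_of_tr p h2)
    simp only [one_pow, ← pow_mul] at h3
    rw [(show Commute (m1 F) r from m1_mul r).mul_pow, mul_comm p 2, pow_mul (m1 F), pow_two (m1 F), m1_sq,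
      one_pow, one_mul] at h3
    exact h3

theorem not_scal_of_pow (hp2 : p ≠ 2) {y : SL2} (hy : y ^ p = 1) (hy1 : y ≠ 1) : ¬ Scal y := by
  intro h
  rcases scal_iff.1 h with rfl | rfl
  · exact hy1 rfl
  · obtain ⟨c, hc⟩ := hp.out.odd_of_ne_two hp2
    rw [hc, pow_succ, pow_mul, pow_two, m1_sq, one_pow, one_mul] at hy
    exact hy1 hy

theorem scal_of_commute (hp2 : p ≠ 2) {y r : SL2} (hy : y ^ p = 1) (hy1 : y ≠ 1) (hc : (orderOf r).Coprime p)
    (h : Commute r y) : Scal r := by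
  by_contra hs
  refine tr_sq_ne hp2 hs hc (tr_sq_of_comm (not_scal_of_pow hp2 hy hy1) ?_ h)
  rw [tr_eq_two_of_pow p hy]; norm_num

theorem commute_of_conj (hp2 : p ≠ 2) {y s : SL2} (hy : y ^ p = 1) (hs : ¬ Scal s) (hc : (orderOf s).Coprime p)
    (h : Commute (y * s * y⁻¹) s) : Commute s y := by
  obtain ⟨c, hcp⟩ := hp.out.odd_of_ne_two hp2
  have hy2 : Commute s (y ^ 2) := by
    have e : y ^ 2 * s * (y ^ 2)⁻¹ = s := by
      rcases eq_or_eq_inv (two_ne hp2) hs (tr_sq_ne hp2 hs hc) h (tr_conj s y) with e | e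
      · rw [pow_two, show y * y * s * (y * y)⁻¹ = y * (y * s * y⁻¹) * y⁻¹ by group, e, e]
      · rw [pow_two, show y * y * s * (y * y)⁻¹ = y * (y * s * y⁻¹) * y⁻¹ by group, e,
          show y * s⁻¹ * y⁻¹ = (y * s * y⁻¹)⁻¹ by group, e, inv_inv]
    exact (mul_inv_eq_iff_eq_mul.1 e).symm
  have h3 := hy2.pow_right (c + 1)
  rwa [← pow_mul, show 2 * (c + 1) = p + 1 by omega, pow_succ, hy, one_mul] at h3

theorem fixed_free (hp2 : p ≠ 2) {y s : SL2} (hy : y ^ p = 1) (hy1 : y ≠ 1) (hc : (orderOf s).Coprime p)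
    (h : Commute (y * s * y⁻¹) s) : Scal s := by
  by_contra hs
  exact hs (scal_of_commute hp2 hy hy1 hc (commute_of_conj hp2 hy hs hc h))

theorem quaternion_comm (n : ℕ) [NeZero n] : ∀ x y : QuaternionGroup n, x ^ 4 ≠ 1 → y ^ 4 ≠ 1 → x * y = y * x := by
  rintro (i | i) (j | j) hx hy
  · rw [QuaternionGroup.a_mul_a, QuaternionGroup.a_mul_a, add_comm]
  · exact absurd (by rw [← QuaternionGroup.orderOf_xa j]; exact pow_orderOf_eq_one _) hy
  · exact absurd (by rw [← QuaternionGroup.orderOf_xa i]; exact pow_orderOf_eq_one _) hx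
  · exact absurd (by rw [← QuaternionGroup.orderOf_xa j]; exact pow_orderOf_eq_one _) hy

theorem main (hp2 : p ≠ 2) (a : SL2) (ha : IsPGroup p ↥(Subgroup.zpowers a)) (R : Subgroup SL2)
    (hR : (Nat.card R).Coprime p) (haR : a ∈ Subgroup.normalizer (R : Set SL2))
    (hnt : ⁅R, Subgroup.zpowers a⁆ ≠ ⊥) :
    p = 3 ∧ Nonempty (↥R ≃* QuaternionGroup 2) ∧
      Nonempty (↥(R ⊔ Subgroup.zpowers a) ≃* Matrix.SpecialLinearGroup (Fin 2) (ZMod 3)) := by
  classical
  have hco : ∀ r ∈ R, (orderOf r).Coprime p := fun r hr =>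
    hR.coprime_dvd_left (Subgroup.orderOf_dvd_natCard _ hr)
  obtain ⟨r₀, hr₀, hra⟩ : ∃ r ∈ R, ¬ Commute r a := by
    by_contra h
    push Not at h
    refine hnt ((Subgroup.commutator_eq_bot_iff_le_centralizer).2 fun r hr => Subgroup.mem_centralizer_iff.2 ?_)
    rintro _ ⟨i, rfl⟩
    exact ((h r hr).zpow_right i).eq.symm
  have ha1 : a ≠ 1 := fun e => hra (e ▸ Commute.one_right r₀)
  have hap : a ^ p = 1 := by
    obtain ⟨k, hk⟩ := ha ⟨a, Subgroup.mem_zpowers a⟩
    exact pow_eq_one_of_tr p (tr_eq_two_of_ppow p (congrArg Subtype.val hk))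
  have hmem : ∀ {y : SL2}, y ∈ Subgroup.normalizer (R : Set SL2) → ∀ r ∈ R, y * r * y⁻¹ ∈ R := fun hy r hr =>
    (Subgroup.mem_normalizer_iff.1 hy r).1 hr
  have hao : orderOf a = p := orderOf_eq_prime hap ha1
  -- the group is a 2-group
  have h2 : IsPGroup 2 ↥R := by
    have hpr : ∀ q : ℕ, q.Prime → q ∣ Nat.card R → q = 2 := by
      intro q hq hqd
      by_contra hq2
      haveI := Fact.mk hq
      obtain ⟨S⟩ : Nonempty (Sylow q ↥R) := inferInstance
      let φ : ↥R ≃* ↥R :=
        { toFun := fun r => ⟨a * r * a⁻¹, hmem haR r r.2⟩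
          invFun := fun r => ⟨a⁻¹ * r * a, by simpa using hmem (inv_mem haR) r r.2⟩
          left_inv := fun r => Subtype.ext (by group)
          right_inv := fun r => Subtype.ext (by group)
          map_mul' := fun r s => Subtype.ext (by simp [mul_assoc]) }
      obtain ⟨r, hr⟩ := MulAction.exists_smul_eq ↥R S (S.mapSurjective (f := φ.toMonoidHom) φ.surjective)
      set T := (S : Subgroup ↥R).map R.subtype with hT
      set n : SL2 := (r : SL2)⁻¹ * a with hn
      have hnT : ∀ x ∈ T, n * x * n⁻¹ ∈ T := by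
        rintro _ ⟨x, hx, rfl⟩
        have h1 : φ x ∈ ((r • S : Sylow q ↥R) : Subgroup ↥R) := by rw [hr]; exact ⟨x, hx, rfl⟩
        rw [Sylow.coe_subgroup_smul] at h1
        obtain ⟨z, hz, hze⟩ := h1
        refine ⟨z, hz, ?_⟩
        have h2' : (r : SL2) * (z : SL2) * (r : SL2)⁻¹ = a * (x : SL2) * a⁻¹ := congrArg Subtype.val hze
        show (z : SL2) = n * (x : SL2) * n⁻¹
        calc (z : SL2) = (r : SL2)⁻¹ * ((r : SL2) * z * (r : SL2)⁻¹) * r := by group
          _ = _ := by rw [h2', hn]; group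
      have hnN : n ∈ Subgroup.normalizer (R : Set SL2) :=
        mul_mem (inv_mem (Subgroup.le_normalizer r.2)) haR
      have hpow : ∀ j : ℕ, n ^ j * (a ^ j)⁻¹ ∈ R := by
        intro j
        induction j with
        | zero => simp
        | succ j ih =>
          rw [show n ^ (j + 1) * (a ^ (j + 1))⁻¹ = n * (n ^ j * (a ^ j)⁻¹) * n⁻¹ * (r : SL2)⁻¹ by
            rw [pow_succ', pow_succ', hn]; group]
          exact mul_mem (hmem hnN _ ih) (inv_mem r.2)
      have hpo : p ∣ orderOf n := by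
        have h1 := hpow (orderOf n)
        rw [pow_orderOf_eq_one, one_mul, inv_mem_iff] at h1
        have h3 : orderOf (a ^ orderOf n) ∣ p := hao ▸ orderOf_pow_dvd _
        have h4 : a ^ orderOf n = 1 := orderOf_eq_one_iff.1 (Nat.Coprime.eq_one_of_dvd ((hco _ h1)) h3)
        rw [← hao]; exact orderOf_dvd_of_pow_eq_one h4
      set y := n ^ (orderOf n / p)
      have hyo : orderOf y = p := orderOf_pow_orderOf_div (orderOf_pos n).ne' hpo
      have hy : y ^ p = 1 := hyo ▸ pow_orderOf_eq_one y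
      have hy1 : y ≠ 1 := fun e => by rw [e, orderOf_one] at hyo; exact hp.out.one_lt.ne hyo
      have hyT : ∀ x ∈ T, y * x * y⁻¹ ∈ T := by
        have hj : ∀ (j : ℕ), ∀ x ∈ T, n ^ j * x * (n ^ j)⁻¹ ∈ T := by
          intro j
          induction j with
          | zero => intro x hx; simpa using hx
          | succ j ih =>
            intro x hx
            rw [show n ^ (j + 1) * x * (n ^ (j + 1))⁻¹ = n * (n ^ j * x * (n ^ j)⁻¹) * n⁻¹ by rw [pow_succ']; group]
            exact hnT _ (ih x hx)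
        exact hj _
      haveI : Nontrivial (S : Subgroup ↥R) := (Subgroup.nontrivial_iff_ne_bot _).2 (S.ne_bot_of_dvd_card hqd)
      haveI : Nontrivial T := (Subgroup.nontrivial_iff_ne_bot _).2 fun e =>
        S.ne_bot_of_dvd_card hqd ((Subgroup.map_eq_bot_iff_of_injective _ R.subtype_injective).1 e)
      haveI := (S.isPGroup'.map R.subtype).center_nontrivial
      obtain ⟨⟨⟨s, hsT⟩, hsc⟩, hs1⟩ := exists_ne (1 : Subgroup.center ↥T)
      have hsR : s ∈ R := Subgroup.map_subtype_le _ hsT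
      have hcm : Commute (y * s * y⁻¹) s := congrArg Subtype.val (Subgroup.mem_center_iff.1 hsc ⟨_, hyT s hsT⟩)
      have hsq : s ^ 2 = 1 := by
        rcases scal_iff.1 (fixed_free hp2 hy hy1 (hco s hsR) hcm) with rfl | rfl
        · exact one_pow _
        · rw [pow_two, m1_sq]
      obtain ⟨k, hk⟩ := IsPGroup.iff_orderOf.1 (S.isPGroup'.map R.subtype) ⟨s, hsT⟩
      rw [Subgroup.orderOf_mk] at hk
      have h5 : orderOf s ∣ 2 := orderOf_dvd_of_pow_eq_one hsq
      rw [hk] at h5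
      have h6 : q ^ k = 1 := Nat.Coprime.eq_one_of_dvd (((Nat.coprime_primes hq Nat.prime_two).2 hq2).pow_left k) h5
      exact hs1 (Subtype.ext (Subtype.ext (orderOf_eq_one_iff.1 (hk.trans h6))))
    exact IsPGroup.of_card (n := (Nat.card R).primeFactorsList.length)
      (Nat.eq_prime_pow_of_unique_prime_dvd Nat.card_pos.ne' fun {q} hq hqd => hpr q hq hqd)
  haveI hFo : Fact (Nat.Prime 2) := ⟨Nat.prime_two⟩
  have hodd : Fintype.card F % 2 = 1 := by
    obtain ⟨n, _, hn⟩ := FiniteField.card F p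
    rw [hn, Nat.pow_mod, Nat.odd_iff.1 (hp.out.odd_of_ne_two hp2), one_pow]; norm_num
  have hnc : ∃ x ∈ R, ∃ y ∈ R, x * y ≠ y * x := by
    by_contra h
    push Not at h
    exact hra (scal_comm (fixed_free hp2 hap ha1 (hco r₀ hr₀) (h _ (hmem haR r₀ hr₀) r₀ hr₀)))
  obtain ⟨k, hk, ⟨e⟩⟩ := CfsgLib.Lie.SL2Sylow.quaternion_of_noncomm hodd h2 hnc
  have hk1 : k = 1 := by
    by_contra hne
    have hbig : (QuaternionGroup.a 1 : QuaternionGroup (2 ^ k)) ^ 4 ≠ 1 := by
      intro h
      have h1 := orderOf_dvd_of_pow_eq_one h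
      rw [QuaternionGroup.orderOf_a_one] at h1
      have h3 : 2 ^ 2 ≤ 2 ^ k := Nat.pow_le_pow_right (by norm_num) (by omega)
      have := Nat.le_of_dvd (by norm_num) h1
      omega
    set s := e.symm (QuaternionGroup.a 1)
    have hs : ¬ Scal (s : SL2) := fun h => hbig (by
      have h2' : s ^ 4 = 1 := Subtype.ext (by
        rw [Subgroup.coe_pow]
        rcases scal_iff.1 h with h | h <;> rw [h]
        · simp
        · rw [show (4 : ℕ) = 2 * 2 from rfl, pow_mul, pow_two (m1 F), m1_sq, one_pow]; rfl)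
      have := congrArg e h2'
      rwa [map_pow, MulEquiv.apply_symm_apply, map_one] at this)
    refine hs (fixed_free hp2 hap ha1 (hco _ s.2) ?_)
    set u : ↥R := ⟨a * s * a⁻¹, hmem haR s s.2⟩
    have hu : e u ^ 4 ≠ 1 := by
      intro h
      rw [← map_pow, EmbeddingLike.map_eq_one_iff] at h
      have h' : (a * (s : SL2) * a⁻¹) ^ 4 = 1 := congrArg Subtype.val h
      rw [conj_pow, mul_inv_eq_one, mul_eq_left] at h'
      refine hbig ?_
      have h'' : s ^ 4 = 1 := Subtype.ext h'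
      have := congrArg e h''
      rwa [map_pow, MulEquiv.apply_symm_apply, map_one] at this
    have h := quaternion_comm _ _ _ hu (show (e s) ^ 4 ≠ 1 by rwa [MulEquiv.apply_symm_apply])
    rw [← map_mul, ← map_mul] at h
    exact congrArg Subtype.val (e.injective h)
  subst hk1
  have e' : ↥R ≃* QuaternionGroup 2 := e
  have hR8 : Nat.card R = 8 := by rw [Nat.card_congr e'.toEquiv, Nat.card_eq_fintype_card, QuaternionGroup.card]
  have hp3 : p = 3 := by
    set X := {r : SL2 // r ∈ R ∧ ¬ Scal r}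
    letI : MulAction ↥(Subgroup.zpowers a) X :=
      { smul := fun g r => ⟨(g : SL2) * r.1 * (g : SL2)⁻¹,
          hmem (Subgroup.zpowers_le.2 haR g.2) _ r.2.1, fun h => r.2.2 ((scal_conj _).1 h)⟩
        one_smul := fun r => Subtype.ext (by show ((1 : ↥(Subgroup.zpowers a)) : SL2) * r.1 * _ = r.1; simp)
        mul_smul := fun g h r => Subtype.ext (by
          show ((g * h : ↥(Subgroup.zpowers a)) : SL2) * r.1 * ((g * h : ↥(Subgroup.zpowers a)) : SL2)⁻¹ = _
          simp [mul_assoc, HSMul.hSMul, SMul.smul]) }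
    have hm1 : m1 F ∈ R := by
      obtain ⟨q, hq⟩ : ∃ q : ↥R, orderOf q = 2 := exists_prime_orderOf_dvd_card' 2 (by rw [hR8]; norm_num)
      have h1 : Scal (q : SL2) := scal_of_sq (two_ne hp2) (by
        rw [← Subgroup.coe_pow, show q ^ 2 = 1 from orderOf_dvd_iff_pow_eq_one.1 hq.dvd, OneMemClass.coe_one])
      rcases scal_iff.1 h1 with h | h
      · rw [show q = 1 from Subtype.ext h, orderOf_one] at hq; norm_num at hq
      · exact h ▸ q.2
    have hdvd := dvd_of_free (P := ↥(Subgroup.zpowers a)) (X := X) fun g r hg => by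
      by_contra hg1
      have hgp : (g : SL2) ^ p = 1 := by
        obtain ⟨i, hi⟩ := Subgroup.mem_zpowers_iff.1 g.2
        rw [← hi, ← zpow_natCast (a ^ i), ← _root_.zpow_mul, mul_comm i, _root_.zpow_mul, zpow_natCast, hap, _root_.one_zpow]
      refine r.2.2 (scal_of_commute hp2 hgp (fun e => hg1 (Subtype.ext e)) (hco _ r.2.1) ?_)
      have hg' : (g : SL2) * r.1 * (g : SL2)⁻¹ = r.1 := congrArg Subtype.val hg
      exact (mul_inv_eq_iff_eq_mul.1 hg').symm
    rw [Nat.card_zpowers, hao] at hdvd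
    have hX : Nat.card X ≤ 8 := hR8 ▸ Nat.card_le_card_of_injective (fun r : X => (⟨r.1, r.2.1⟩ : ↥R))
      fun u v h => Subtype.ext (congrArg (fun z : ↥R => (z : SL2)) h)
    haveI : Nonempty X := ⟨⟨r₀, hr₀, fun h => hra (scal_comm h)⟩⟩
    have hX0 : 0 < Nat.card X := Nat.card_pos
    have hp7 : p ≤ 8 := (Nat.le_of_dvd hX0 hdvd).trans hX
    have hp5 : p ≠ 2 := hp2
    rcases (show p = 3 ∨ p = 5 ∨ p = 7 by
      have := hp.out.two_le
      have h4 : p ≠ 4 := fun h => absurd (h ▸ hp.out) (by norm_num)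
      have h6 : p ≠ 6 := fun h => absurd (h ▸ hp.out) (by norm_num)
      have h8 : p ≠ 8 := fun h => absurd (h ▸ hp.out) (by norm_num)
      omega) with h | h | h
    · exact h
    all_goals
      exfalso
      have h6 : Nat.card X = 6 := by
        let j : X ⊕ Bool → ↥R := fun t => match t with
          | Sum.inl r => ⟨r.1, r.2.1⟩
          | Sum.inr true => 1
          | Sum.inr false => ⟨m1 F, hm1⟩
        have hj : Function.Injective j := by
          rintro (u | _ | _) (v | _ | _) h <;> simp [j, Subtype.ext_iff] at h ⊢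
          · exact Subtype.ext h
          · exact u.2.2 (h ▸ (scal_iff.2 (Or.inr rfl)))
          · exact u.2.2 (h ▸ (scal_iff.2 (Or.inl rfl)))
          · exact v.2.2 (h ▸ (scal_iff.2 (Or.inr rfl)))
          · exact (m1_ne_one (two_ne hp2)) h
          · exact v.2.2 (h ▸ (scal_iff.2 (Or.inl rfl)))
          · exact (m1_ne_one (two_ne hp2)) h.symm
        have hjs : Function.Surjective j := fun t => by
          by_cases ht : Scal (t : SL2)
          · rcases scal_iff.1 ht with ht | ht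
            · exact ⟨Sum.inr true, Subtype.ext ht.symm⟩
            · exact ⟨Sum.inr false, Subtype.ext ht.symm⟩
          · exact ⟨Sum.inl ⟨t, t.2, ht⟩, rfl⟩
        have := Nat.card_eq_of_bijective j ⟨hj, hjs⟩
        rw [Nat.card_sum, hR8, Nat.card_eq_fintype_card (α := Bool), Fintype.card_bool] at this
        omega
      subst h
      omega
  subst hp3
  refine ⟨rfl, ⟨e'⟩, ?_⟩
  set X := R ⊔ Subgroup.zpowers a
  have haX : a ∈ X := Subgroup.mem_sup_right (Subgroup.mem_zpowers a)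
  have hbX : r₀ * a * r₀⁻¹ ∈ X :=
    mul_mem (mul_mem (Subgroup.mem_sup_left hr₀) haX) (inv_mem (Subgroup.mem_sup_left hr₀))
  have hab : ¬ Commute a (r₀ * a * r₀⁻¹) := by
    intro h
    have hd : r₀ * a * r₀⁻¹ * a⁻¹ ∈ R := by
      rw [show r₀ * a * r₀⁻¹ * a⁻¹ = r₀ * (a * r₀⁻¹ * a⁻¹) by group]
      exact mul_mem hr₀ (hmem haR _ (inv_mem hr₀))
    have h3 : (r₀ * a * r₀⁻¹ * a⁻¹) ^ 3 = 1 := by
      rw [(h.symm.inv_right).mul_pow, conj_pow, inv_pow, hap]; simp
    have h4 := orderOf_eq_one_iff.1 (Nat.Coprime.eq_one_of_dvd (hco _ hd) (orderOf_dvd_of_pow_eq_one h3))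
    rw [mul_inv_eq_one, mul_inv_eq_iff_eq_mul] at h4
    exact hra h4
  obtain ⟨k, b, hb, hU, hL⟩ := exists_transvections 3 (two_ne hp2) X haX hbX hap (by rw [conj_pow, hap]; simp) hab
  let ι := (MulAut.conj k).toMonoidHom.comp (embed 3 b hb)
  have hι : Function.Injective ι := (MulAut.conj k).injective.comp (embed_injective 3 b hb)
  have hle : ι.range ≤ X := by rintro _ ⟨M, rfl⟩; exact embed_mem 3 hb hU hL M
  have hXc : Nat.card X ≤ 24 := by
    have hnorm : Subgroup.zpowers a ≤ Subgroup.normalizer (R : Set SL2) := Subgroup.zpowers_le.2 haR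
    have hset := Subgroup.coe_mul_of_right_le_normalizer_left R (Subgroup.zpowers a) hnorm
    let f : ↥R × ↥(Subgroup.zpowers a) → ↥X := fun t => ⟨t.1 * t.2, Subgroup.mul_mem_sup t.1.2 t.2.2⟩
    have hf : Function.Surjective f := fun x => by
      have hx : (x : SL2) ∈ ((R ⊔ Subgroup.zpowers a : Subgroup SL2) : Set SL2) := x.2
      rw [hset] at hx
      obtain ⟨u, hu, v, hv, huv⟩ := hx
      exact ⟨(⟨u, hu⟩, ⟨v, hv⟩), Subtype.ext huv⟩
    have := Nat.card_le_card_of_surjective f hf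
    rw [Nat.card_prod, hR8, Nat.card_zpowers, hao] at this
    exact this
  have h24 : Nat.card (Matrix.SpecialLinearGroup (Fin 2) (ZMod 3)) = 24 := by
    rw [Nat.card_eq_fintype_card]; decide +kernel
  have heq : ι.range = X := Subgroup.eq_of_le_of_card_ge hle (by
    rw [← Nat.card_congr (MonoidHom.ofInjective hι).toEquiv, h24]; exact hXc)
  exact ⟨((MonoidHom.ofInjective hι).trans (MulEquiv.subgroupCongr heq)).symm⟩

end CfsgLib.Fus.SL2Coprime
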