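import Cfsg.Agent.Fus.QdData
import Cfsg.Agent.Fus.Group
import Cfsg.Agent.Fus.FusionCore
import Cfsg.Agent.Fus.NormalizerSystem
import Cfsg.Prelude.Def_FusionReduction

/-!
The fusion system of a group is free of `qd p` exactly when the group is, p odd.
-/

set_option autoImplicit false
set_option linter.style.haveILetI false

open Cfsg Cfsg.FusionSystem
open scoped commutatorElement

namespace CfsgLib.Fus

universe u

open CfsgLib.Glau (Syl cj)
open CfsgLib.Dickson (HasQdData involves_qd_iff_data)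

variable {G : Type u} [Group G] [Finite G] {p : ℕ} [hp : Fact p.Prime]

/-- A model of a normalizer system in the fusion system of a group without `qd p` section has none. -/
theorem sectionFree_of_qdFree (hp2 : p ≠ 2) (P : Sylow p G) (hqd : ¬ Cfsg.Involves ↥(Cfsg.qd p) G) :
    (groupFusionSystem (P : Subgroup G)).IsSectionFree p ↥(Cfsg.qd p) := by
  classical
  intro Q _ _ N hN L _ ι hL hinv
  obtain ⟨hfin, ⟨hιinj, hreal⟩, ⟨T, hT⟩, -⟩ := hL
  haveI := hfin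
  obtain ⟨A, B, x, y, hA, hBA, hxA, hxB, hyA, hyB, hab, hexp, hqx, hqy, hnp⟩ := (involves_qd_iff_data hp2).1 hinv
  -- move `A` into the image of the Sylow subgroup
  obtain ⟨c, -, hc⟩ := (CfsgLib.Glau.syl_top T).exists_conj_le le_top hA
  rw [hT] at hc
  choose e₀ he₀ using fun a : ↥A => hc (CfsgLib.Glau.conj_mem_cj (g := c) a.2)
  let e : ↥A →* G :=
    { toFun := fun a => (e₀ a : G)
      map_one' := by
        rw [show e₀ 1 = 1 from hιinj (by rw [he₀, map_one]; simp)]; rfl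
      map_mul' := fun a b => by
        rw [show e₀ (a * b) = e₀ a * e₀ b from hιinj (by rw [map_mul, he₀, he₀, he₀]; simp [mul_assoc])]; rfl }
  have he : Function.Injective e := fun a b h => by
    have h' : e₀ a = e₀ b := Subtype.ext h
    have h2 := congrArg ι h'
    rw [he₀, he₀] at h2
    exact Subtype.ext (mul_left_cancel (mul_right_cancel h2))
  set A' := e.range with hA'
  have hA'S : A' ≤ (normalizerIn (P : Subgroup G) Q) := by rintro _ ⟨a, rfl⟩; exact (e₀ a).2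
  have lift : ∀ (w : L) (hw : w ∈ Subgroup.normalizer (A : Set L)), ∃ g : G, ∀ a : ↥A,
      g * e a * g⁻¹ = e ⟨w * a * w⁻¹, (Subgroup.mem_normalizer_iff.1 hw _).1 a.2⟩ := by
    intro w hw
    let conjA : ↥A →* ↥A :=
      { toFun := fun a => ⟨w * a * w⁻¹, (Subgroup.mem_normalizer_iff.1 hw _).1 a.2⟩
        map_one' := Subtype.ext (by simp)
        map_mul' := fun a b => Subtype.ext (by simp [mul_assoc]) }
    let φ : ↥A' →* G := (e.comp conjA).comp (MonoidHom.ofInjective he).symm.toMonoidHom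
    have hφ : ∀ a : ↥A, φ ⟨e a, a, rfl⟩ = e (conjA a) := fun a => by
      show e (conjA ((MonoidHom.ofInjective he).symm ⟨e a, a, rfl⟩)) = _
      rw [show (MonoidHom.ofInjective he).symm ⟨e a, a, rfl⟩ = a from
        (MulEquiv.symm_apply_eq _).2 (Subtype.ext rfl)]
    have hφS : ∀ z : ↥A', φ z ∈ (normalizerIn (P : Subgroup G) Q) := fun z => hA'S ⟨_, rfl⟩
    have hmem : φ ∈ N.Hom A' := by
      refine (hreal A' hA'S φ hφS).2 ⟨c * w * c⁻¹, ?_⟩
      rintro ⟨_, a, rfl⟩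
      have h1 : (⟨φ ⟨e a, a, rfl⟩, hφS _⟩ : ↥(normalizerIn (P : Subgroup G) Q)) = e₀ (conjA a) := Subtype.ext (hφ a)
      have h2 : (⟨e a, hA'S ⟨a, rfl⟩⟩ : ↥(normalizerIn (P : Subgroup G) Q)) = e₀ a := rfl
      rw [h1, h2, he₀, he₀]
      show c * (w * a * w⁻¹) * c⁻¹ = _
      simp [mul_assoc]
    rw [hN A'] at hmem
    obtain ⟨-, -, g, hg⟩ := hmem.1
    exact ⟨g, fun a => (hg ⟨e a, a, rfl⟩).symm.trans (hφ a)⟩
  obtain ⟨gx, hgx⟩ := lift x hxA
  obtain ⟨gy, hgy⟩ := lift y hyA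
  exact hqd ((involves_qd_iff_data hp2).2
    (HasQdData.transfer hA hBA hxA hxB hyA hyB hab hexp hqx hqy hnp e he gx gy hgx hgy))

/-- The quotient of the normalizer of a fully normalized subgroup `Q`, whose Sylow `p`-subgroups of the centralizer lie in `Q`, by its
largest normal `p'`-subgroup is a model of the normalizer system. -/
theorem exists_model (P : Sylow p G) {Q : Subgroup G} (hQ : Q ≤ (P : Subgroup G))
    (hsy : SylowIn p (normalizerIn (P : Subgroup G) Q) (Subgroup.normalizer (Q : Set G)))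
    (hcen : ∀ R : Subgroup G, IsPGroup p R → R ≤ Subgroup.centralizer (Q : Set G) → R ≤ Q) :
    (groupFusionSystem (P : Subgroup G)).IsCentric Q ∧
    ∃ (N : FusionSystem (normalizerIn (P : Subgroup G) Q))
      (ι : ↥(normalizerIn (P : Subgroup G) Q) →* ↥(Subgroup.normalizer (Q : Set G)) ⧸
        pPrimeCore p ↥(Subgroup.normalizer (Q : Set G))),
      (groupFusionSystem (P : Subgroup G)).IsNormalizerSystem Q N ∧
      N.IsModel p (↥(Subgroup.normalizer (Q : Set G)) ⧸ pPrimeCore p ↥(Subgroup.normalizer (Q : Set G))) ι := by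
  classical
  constructor
  · refine ⟨hQ, fun R hR x hx => ?_⟩
    obtain ⟨-, hRS, g, rfl⟩ := isConj_group_iff.1 hR
    have hle : Subgroup.zpowers (g⁻¹ * x * g) ≤ Subgroup.centralizer (Q : Set G) := Subgroup.zpowers_le.2 fun q hq => by
      have h : g * q * g⁻¹ * x = x * (g * q * g⁻¹) := hx.2 _ ⟨q, hq, rfl⟩
      calc q * (g⁻¹ * x * g) = g⁻¹ * (g * q * g⁻¹ * x) * g := by group
        _ = g⁻¹ * x * g * q := by rw [h]; group
    have hpz : IsPGroup p ↥(Subgroup.zpowers (g⁻¹ * x * g)) := by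
      refine (P.isPGroup'.map (MulAut.conj g⁻¹).toMonoidHom).to_le (Subgroup.zpowers_le.2 ?_)
      exact ⟨x, hx.1, by simp⟩
    exact ⟨g⁻¹ * x * g, hcen _ hpz hle (Subgroup.mem_zpowers _), by simp [mul_assoc]⟩
  obtain ⟨Nsys, hNsys⟩ := exists_normalizerSystem (groupFusionSystem (P : Subgroup G)) hQ
  set NQ := Subgroup.normalizer (Q : Set G) with hNQ
  haveI := CfsgLib.Solv.pPrimeCore_normal ↥NQ p
  set K := pPrimeCore p ↥NQ with hK
  have hKc : ¬ p ∣ Nat.card K := CfsgLib.Solv.not_dvd_card_pPrimeCore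
  have hS₀N : (normalizerIn (P : Subgroup G) Q) ≤ NQ := inf_le_right
  let π : ↥NQ →* ↥NQ ⧸ K := QuotientGroup.mk' K
  let ι : ↥(normalizerIn (P : Subgroup G) Q) →* ↥NQ ⧸ K := π.comp (Subgroup.inclusion hS₀N)
  set S' := (normalizerIn (P : Subgroup G) Q).subgroupOf NQ with hS'
  have hS'p : IsPGroup p S' := (isPGroup_normalizerIn P Q).comap_subtype
  have hdisj : S' ⊓ K = ⊥ := CfsgLib.Glau.inf_eq_bot_of_card hS'p hKc
  have hιinj : Function.Injective ι := (injective_iff_map_eq_one _).2 fun s hs => by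
    have h : Subgroup.inclusion hS₀N s ∈ S' ⊓ K := ⟨s.2, (QuotientGroup.eq_one_iff _).1 hs⟩
    rw [hdisj, Subgroup.mem_bot] at h
    exact Subtype.ext (congrArg Subtype.val h :)
  have hrange : ι.range = S'.map π := le_antisymm (by rintro _ ⟨s, rfl⟩; exact ⟨_, s.2, rfl⟩)
    (by rintro _ ⟨n, hn, rfl⟩; exact ⟨⟨n, hn⟩, rfl⟩)
  have hS'syl : Syl p S' ⊤ := by
    refine ⟨le_top, hS'p, ?_⟩
    rw [Subgroup.relIndex_top_right]
    exact (sylowIn_iff (isPGroup_normalizerIn P Q) hS₀N).1 hsy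
  refine ⟨Nsys, ι, hNsys, inferInstance, ⟨hιinj, fun R hR φ hφ => ⟨fun hmem => ?_, ?_⟩⟩, ?_, ?_⟩
  · rw [hNsys R] at hmem
    obtain ⟨-, -, -, ψ, hψ, hψe, hψQ⟩ := hmem
    obtain ⟨-, -, g, hg⟩ := hψ
    have hgN : g ∈ NQ := Subgroup.mem_normalizer_fintype fun q hq => by
      show g * q * g⁻¹ ∈ Q
      have hm : ψ ⟨q, le_sup_right (a := R) hq⟩ ∈ (Q.subgroupOf (R ⊔ Q)).map ψ := ⟨_, hq, rfl⟩
      rwa [hψQ, hg] at hm
    refine ⟨π ⟨g, hgN⟩, fun x => ?_⟩
    show π _ = π _ * π _ * (π _)⁻¹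
    rw [← map_inv, ← map_mul, ← map_mul]
    refine congrArg π (Subtype.ext ?_)
    show φ x = g * (x : G) * g⁻¹
    rw [← hψe x, hg]; rfl
  · rintro ⟨n₀, hn₀⟩
    obtain ⟨n, rfl⟩ := QuotientGroup.mk'_surjective K n₀
    -- correct the conjugating element inside `K`
    let θ : ↥R →* ↥NQ := (φ.codRestrict NQ fun x => hS₀N (hφ x))
    set Y := θ.range with hY
    have hYp : IsPGroup p Y := hS'p.to_le (by rintro _ ⟨x, rfl⟩; exact hφ x)
    let r : ↥R →* ↥NQ := Subgroup.inclusion (hR.trans hS₀N)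
    have hX : cj n r.range ≤ Y ⊔ K := by
      rintro _ ⟨_, ⟨x, rfl⟩, rfl⟩
      have h := hn₀ x
      have h' : π (θ x) = π (n * r x * n⁻¹) := by rw [map_mul, map_mul, map_inv]; exact h
      show n * r x * n⁻¹ ∈ Y ⊔ K
      rw [show n * r x * n⁻¹ = θ x * ((θ x)⁻¹ * (n * r x * n⁻¹)) by group]
      exact Subgroup.mul_mem_sup ⟨x, rfl⟩ (QuotientGroup.eq.1 h')
    have hXp : IsPGroup p ↥(cj n r.range) := CfsgLib.Glau.isPGroup_cj n
      (hS'p.to_le (by rintro _ ⟨x, rfl⟩; exact hR x.2))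
    obtain ⟨z, hz, hzle⟩ := (CfsgLib.Glau.syl_sup hYp hKc).exists_conj_le hX hXp
    obtain ⟨b, hb, k, hk, rfl⟩ := Subgroup.mem_sup_of_normal_right.1 hz
    have heq : ∀ x : ↥R, φ x = ((k * n : ↥NQ) : G) * x * ((k * n : ↥NQ) : G)⁻¹ := by
      intro x
      have h1 : b * k * (n * r x * n⁻¹) * (b * k)⁻¹ ∈ Y := hzle (CfsgLib.Glau.conj_mem_cj (CfsgLib.Glau.conj_mem_cj ⟨x, rfl⟩))
      have h2 : k * (n * r x * n⁻¹) * k⁻¹ ∈ Y := by
        have := Y.mul_mem (Y.mul_mem (Y.inv_mem hb) h1) hb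
        simpa [mul_assoc] using this
      have h3 : (θ x)⁻¹ * (k * (n * r x * n⁻¹) * k⁻¹) ∈ Y ⊓ K := by
        refine ⟨Y.mul_mem (Y.inv_mem ⟨x, rfl⟩) h2, (QuotientGroup.eq_one_iff _).1 ?_⟩
        show π ((θ x)⁻¹ * (k * (n * r x * n⁻¹) * k⁻¹)) = 1
        rw [map_mul, map_inv, map_mul π (k * (n * r x * n⁻¹)), map_mul π k,
          show π k = 1 from (QuotientGroup.eq_one_iff _).2 hk, map_inv, show π k = 1 from (QuotientGroup.eq_one_iff _).2 hk,
          one_mul, inv_one, mul_one, map_mul, map_mul, map_inv]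
        exact inv_mul_eq_one.2 (hn₀ x)
      rw [CfsgLib.Glau.inf_eq_bot_of_card hYp hKc, Subgroup.mem_bot, inv_mul_eq_one] at h3
      have h4 := congrArg Subtype.val h3
      show φ x = _
      refine h4.trans ?_
      show ((k * (n * r x * n⁻¹) * k⁻¹ : ↥NQ) : G) = _
      simp [r, mul_assoc]
    set g : G := ((k * n : ↥NQ) : G) with hg
    have hgN : g ∈ NQ := (k * n : ↥NQ).2
    have hRQ : ∀ x : ↥(R ⊔ Q), g * x * g⁻¹ ∈ (P : Subgroup G) := fun x => by
      have hle : R ⊔ Q ≤ (P : Subgroup G).comap (MulAut.conj g).toMonoidHom := sup_le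
        (fun r hr => show g * r * g⁻¹ ∈ _ by rw [← heq ⟨r, hr⟩]; exact (hφ ⟨r, hr⟩).1)
        (fun q hq => hQ ((Subgroup.mem_normalizer_iff.1 hgN q).1 hq))
      exact hle x.2
    let ψ : ↥(R ⊔ Q) →* G :=
      { toFun := fun x => g * x * g⁻¹
        map_one' := by simp
        map_mul' := fun a b => by simp [mul_assoc] }
    rw [hNsys R]
    refine ⟨⟨hR.trans inf_le_left, fun x => (hφ x).1, g, heq⟩, hR, hφ, ψ,
      ⟨sup_le (hR.trans inf_le_left) hQ, hRQ, g, fun _ => rfl⟩, fun x => (heq x).symm, ?_⟩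
    refine le_antisymm ?_ fun q hq => ?_
    · rintro _ ⟨x, hx, rfl⟩; exact (Subgroup.mem_normalizer_iff.1 hgN _).1 hx
    · have hq' := (Subgroup.mem_normalizer_iff.1 (inv_mem hgN) q).1 hq
      refine ⟨⟨g⁻¹ * q * g⁻¹⁻¹, le_sup_right (a := R) hq'⟩, hq', ?_⟩
      show g * (g⁻¹ * q * g⁻¹⁻¹) * g⁻¹ = q
      group
  · have hT : Syl p ι.range ⊤ := by
      have h := hS'syl.map π
      rwa [Subgroup.map_top_of_surjective π (QuotientGroup.mk'_surjective K), ← hrange] at h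
    exact ⟨⟨ι.range, hT.pg, fun {R} hR hle => hT.eq_of_le hle le_top hR⟩, rfl⟩
  · -- the centralizer of the image of `Q`
    set Q' := Q.subgroupOf NQ with hQ'
    have hQ'p : IsPGroup p Q' := (P.isPGroup'.to_le hQ).comap_subtype
    haveI : Q'.Normal := Subgroup.normal_in_normalizer
    haveI : (Q'.map π).Normal := (inferInstance : Q'.Normal).map π (QuotientGroup.mk'_surjective K)
    have hle : Q'.map π ≤ pCore p (↥NQ ⧸ K) := CfsgLib.Solv.le_pCore (hQ'p.map π)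
    refine (Subgroup.centralizer_le hle).trans (le_trans ?_ hle)
    intro v hv
    obtain ⟨n, rfl⟩ := QuotientGroup.mk'_surjective K v
    set C := Subgroup.centralizer (Q' : Set ↥NQ) with hC
    have hKQ : K ≤ C := fun k hk q hq => by
      have hm : q * k * q⁻¹ * k⁻¹ ∈ Q' ⊓ K := by
        refine ⟨?_, K.mul_mem ((inferInstance : K.Normal).conj_mem k hk q) (K.inv_mem hk)⟩
        rw [show q * k * q⁻¹ * k⁻¹ = q * (k * q⁻¹ * k⁻¹) by group]
        exact Q'.mul_mem hq ((inferInstance : Q'.Normal).conj_mem _ (Q'.inv_mem hq) k)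
      rw [CfsgLib.Glau.inf_eq_bot_of_card hQ'p hKc, Subgroup.mem_bot, mul_inv_eq_one, mul_inv_eq_iff_eq_mul] at hm
      exact hm
    have hnC : n ∈ C := fun q hq => by
      have h1 := hv (π q) ⟨q, hq, rfl⟩
      have hm : q * n * q⁻¹ * n⁻¹ ∈ Q' ⊓ K := by
        refine ⟨?_, (QuotientGroup.eq_one_iff _).1 ?_⟩
        · rw [show q * n * q⁻¹ * n⁻¹ = q * (n * q⁻¹ * n⁻¹) by group]
          exact Q'.mul_mem hq ((inferInstance : Q'.Normal).conj_mem _ (Q'.inv_mem hq) n)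
        · show π (q * n * q⁻¹ * n⁻¹) = 1
          rw [map_mul, map_mul, map_mul, map_inv, map_inv, h1, mul_inv_cancel_right, mul_inv_cancel]
      rw [CfsgLib.Glau.inf_eq_bot_of_card hQ'p hKc, Subgroup.mem_bot, mul_inv_eq_one, mul_inv_eq_iff_eq_mul] at hm
      exact hm
    haveI : C.Normal := by rw [hC]; infer_instance
    have hCQ : ∀ R : Subgroup ↥NQ, IsPGroup p R → R ≤ C → R ≤ Q' := fun R hR hRC r hr =>
      hcen (R.map NQ.subtype) (hR.map _) (by
        rintro _ ⟨t, ht, rfl⟩ q hq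
        exact congrArg Subtype.val (hRC ht ⟨q, Subgroup.le_normalizer hq⟩ hq)) ⟨r, hr, rfl⟩
    obtain ⟨Z⟩ := (inferInstance : Nonempty (Sylow p ↥C))
    have hZQ : (Z : Subgroup ↥C).map C.subtype ≤ Q' := hCQ _ (Z.isPGroup'.map _) (Subgroup.map_subtype_le _)
    have hcomm : Subgroup.normalizer ((Z : Subgroup ↥C) : Set ↥C) ≤ Subgroup.centralizer ((Z : Subgroup ↥C) : Set ↥C) :=
      fun c _ z hz => Subtype.ext (c.2 _ (hZQ ⟨z, hz, rfl⟩))
    have hcomp := MonoidHom.ker_transferSylow_isComplement' Z hcomm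
    set D := (MonoidHom.transferSylow Z hcomm).ker
    have hDc : (Nat.card D).Coprime p := by
      rw [Nat.coprime_comm, hp.out.coprime_iff_not_dvd, ← hcomp.index_eq_card]
      exact Z.not_dvd_index
    have hDK : D.map C.subtype ≤ K := by
      refine (Subgroup.map_mono (CfsgLib.Solv.le_pPrimeCore hDc)).trans ?_
      rw [CfsgLib.Solv.map_pPrimeCore_subtype_eq_inf]
      exact inf_le_left
    have htop : (⟨n, hnC⟩ : ↥C) ∈ D ⊔ (Z : Subgroup ↥C) := hcomp.sup_eq_top.symm ▸ Subgroup.mem_top _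
    obtain ⟨d, hd, z, hz, he⟩ := Subgroup.mem_sup_of_normal_left.1 htop
    refine ⟨(z : ↥NQ), hZQ ⟨z, hz, rfl⟩, ?_⟩
    have he' : (d : ↥NQ) * (z : ↥NQ) = n := congrArg Subtype.val he
    rw [← he', map_mul, show π (d : ↥NQ) = 1 from (QuotientGroup.eq_one_iff _).2 (hDK ⟨d, hd, rfl⟩), one_mul]

/-- A section `qd p` of the group is seen in a model of the normalizer system of a fully normalized centric subgroup. -/
theorem qdFree_of_sectionFree (hp2 : p ≠ 2) (P : Sylow p G)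
    (hfree : (groupFusionSystem (P : Subgroup G)).IsSectionFree p ↥(Cfsg.qd p)) :
    ¬ Cfsg.Involves ↥(Cfsg.qd p) G := by
  classical
  intro hinv
  obtain ⟨A, B, x, y, hA, hBA, hxA, hxB, hyA, hyB, hab, hexp, hqx, hqy, hnp⟩ := (involves_qd_iff_data hp2).1 hinv
  set NA := Subgroup.normalizer (A : Set G) with hNA
  set C := Subgroup.centralizer (A : Set G) with hC
  obtain ⟨D, -, hD⟩ := CfsgLib.Glau.exists_syl (p := p) C bot_le IsPGroup.of_bot
  -- a conjugating element normalizing `D` with the same action on `A`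
  have fix : ∀ w ∈ NA, ∃ w' ∈ NA ⊓ Subgroup.normalizer (D : Set G), ∀ a ∈ A, w' * a * w'⁻¹ = w * a * w⁻¹ := by
    intro w hw
    have hwC : cj w D ≤ C := by
      rintro _ ⟨d, hd, rfl⟩ a ha
      show a * (w * d * w⁻¹) = w * d * w⁻¹ * a
      have h := hD.le hd _ ((Subgroup.mem_normalizer_iff''.1 hw a).1 ha)
      calc a * (w * d * w⁻¹) = w * (w⁻¹ * a * w * d) * w⁻¹ := by group
        _ = w * d * w⁻¹ * a := by rw [h]; group
    obtain ⟨c, hc, hcle⟩ := hD.exists_conj_le hwC (CfsgLib.Glau.isPGroup_cj w hD.pg)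
    rw [← CfsgLib.Glau.cj_mul] at hcle
    refine ⟨c * w, ⟨mul_mem (Subgroup.centralizer_le_normalizer _ hc) hw, CfsgLib.Glau.mem_normalizer_iff_cj.2
      (Subgroup.eq_of_le_of_card_ge hcle (CfsgLib.Glau.card_cj _ D).ge)⟩, fun a ha => ?_⟩
    have ha' : w * a * w⁻¹ ∈ A := (Subgroup.mem_normalizer_iff.1 hw a).1 ha
    calc c * w * a * (c * w)⁻¹ = c * (w * a * w⁻¹) * c⁻¹ := by group
      _ = w * a * w⁻¹ := by rw [← hc _ ha', mul_inv_cancel_right]
  obtain ⟨x', ⟨hx'A, hx'D⟩, hx'e⟩ := fix x hxA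
  obtain ⟨y', ⟨hy'A, hy'D⟩, hy'e⟩ := fix y hyA
  have hAD : D ≤ NA := hD.le.trans (Subgroup.centralizer_le_normalizer _)
  set Q := A ⊔ D with hQdef
  have hQp : IsPGroup p Q := hA.to_sup_of_normal_left' hD.pg hAD
  have hQcen : ∀ R : Subgroup G, IsPGroup p R → R ≤ Subgroup.centralizer (Q : Set G) → R ≤ Q := by
    intro R hR hRC
    have hRC' : R ≤ C := hRC.trans (Subgroup.centralizer_le (show A ≤ Q from le_sup_left))
    have hRD : R ≤ Subgroup.normalizer (D : Set G) :=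
      (hRC.trans (Subgroup.centralizer_le (show D ≤ Q from le_sup_right))).trans (Subgroup.centralizer_le_normalizer _)
    have h := hD.eq_of_le le_sup_left (sup_le hD.le hRC') (hD.pg.to_sup_of_normal_left' hR hRD)
    exact (le_sup_right.trans h.le).trans le_sup_right
  have hQn : ∀ w ∈ NA ⊓ Subgroup.normalizer (D : Set G), w ∈ Subgroup.normalizer (Q : Set G) := fun w hw =>
    CfsgLib.Glau.mem_normalizer_iff_cj.2 (by
      rw [hQdef, CfsgLib.Glau.cj, Subgroup.map_sup]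
      exact congrArg₂ (· ⊔ ·) (CfsgLib.Glau.mem_normalizer_iff_cj.1 hw.1) (CfsgLib.Glau.mem_normalizer_iff_cj.1 hw.2))
  -- conjugate to a fully normalized subgroup
  obtain ⟨a₁, -, ha₁⟩ := (CfsgLib.Glau.syl_top P).exists_conj_le le_top hQp
  obtain ⟨a₂, hQ'S, hsy⟩ := exists_conj_normalizer_sylow P ha₁
  set a := a₂ * a₁ with hadef
  set Q' := (Q.map (MulAut.conj a₁).toMonoidHom).map (MulAut.conj a₂).toMonoidHom
  have hQ'a : Q' = cj a Q := (CfsgLib.Glau.cj_mul a₂ a₁ Q).symm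
  have hcen' : ∀ R : Subgroup G, IsPGroup p R → R ≤ Subgroup.centralizer (Q' : Set G) → R ≤ Q' := by
    intro R hR hRC
    have h := CfsgLib.Glau.cj_mono a (hQcen (cj a⁻¹ R) (CfsgLib.Glau.isPGroup_cj _ hR) (by
      rintro _ ⟨r, hr, rfl⟩ q hq
      show q * (a⁻¹ * r * a⁻¹⁻¹) = a⁻¹ * r * a⁻¹⁻¹ * q
      have h := hRC hr (a * q * a⁻¹) (hQ'a ▸ CfsgLib.Glau.conj_mem_cj hq)
      calc q * (a⁻¹ * r * a⁻¹⁻¹) = a⁻¹ * (a * q * a⁻¹ * r) * a := by group
        _ = a⁻¹ * r * a⁻¹⁻¹ * q := by rw [h]; group))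
    rwa [CfsgLib.Glau.cj_cj_inv, ← hQ'a] at h
  obtain ⟨hcentric, N, ι, hN, hmodel⟩ := exists_model P hQ'S hsy hcen'
  refine hfree Q' ((group_fullyNormalized_iff P hQ'S).2 hsy) hcentric N hN _ ι hmodel ?_
  -- the data in the model
  set NQ := Subgroup.normalizer (Q' : Set G) with hNQ
  have hmemN : ∀ w ∈ Subgroup.normalizer (Q : Set G), a * w * a⁻¹ ∈ NQ := fun w hw => by
    rw [hNQ, hQ'a, ← CfsgLib.Glau.cj_normalizer]; exact CfsgLib.Glau.conj_mem_cj hw
  have hAQ : ∀ b ∈ A, a * b * a⁻¹ ∈ NQ := fun b hb =>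
    hmemN b (Subgroup.le_normalizer (Subgroup.mem_sup_left hb))
  haveI := CfsgLib.Solv.pPrimeCore_normal ↥NQ p
  let π : ↥NQ →* ↥NQ ⧸ pPrimeCore p ↥NQ := QuotientGroup.mk' _
  let e₁ : ↥A →* ↥NQ :=
    { toFun := fun b => ⟨a * b * a⁻¹, hAQ b b.2⟩
      map_one' := Subtype.ext (by simp)
      map_mul' := fun b c => Subtype.ext (by simp [mul_assoc]) }
  have he₁ : Function.Injective (π.comp e₁) := (injective_iff_map_eq_one _).2 fun b hb => by
    have hm : e₁ b ∈ e₁.range ⊓ pPrimeCore p ↥NQ := ⟨⟨b, rfl⟩, (QuotientGroup.eq_one_iff _).1 hb⟩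
    rw [CfsgLib.Glau.inf_eq_bot_of_card (hA.of_surjective e₁.rangeRestrict e₁.rangeRestrict_surjective)
      CfsgLib.Solv.not_dvd_card_pPrimeCore, Subgroup.mem_bot] at hm
    have h : a * (b : G) * a⁻¹ = 1 := congrArg Subtype.val hm
    exact Subtype.ext (by simpa [mul_assoc] using congrArg (fun t => a⁻¹ * t * a) h)
  have hconj : ∀ (w w' : G) (hwA : w ∈ NA) (hw' : w' ∈ Subgroup.normalizer (Q : Set G)),
      (∀ b ∈ A, w' * b * w'⁻¹ = w * b * w⁻¹) → ∀ b : ↥A,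
      π ⟨a * w' * a⁻¹, hmemN w' hw'⟩ * π.comp e₁ b * (π ⟨a * w' * a⁻¹, hmemN w' hw'⟩)⁻¹ =
        π.comp e₁ ⟨w * b * w⁻¹, (Subgroup.mem_normalizer_iff.1 hwA _).1 b.2⟩ := by
    intro w w' hwA hw' hwe b
    show π _ * π _ * (π _)⁻¹ = π _
    rw [← map_inv, ← map_mul, ← map_mul]
    refine congrArg π (Subtype.ext ?_)
    show a * w' * a⁻¹ * (a * b * a⁻¹) * (a * w' * a⁻¹)⁻¹ = a * (w * b * w⁻¹) * a⁻¹
    rw [← hwe b b.2]; group
  exact (involves_qd_iff_data hp2).2 (HasQdData.transfer hA hBA hxA hxB hyA hyB hab hexp hqx hqy hnp (π.comp e₁) he₁ _ _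
    (hconj x x' hxA (hQn x' ⟨hx'A, hx'D⟩) hx'e) (hconj y y' hyA (hQn y' ⟨hy'A, hy'D⟩) hy'e))

end CfsgLib.Fus
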