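import Cfsg.Agent.Fus.System
import Cfsg.Prelude.Def_LocalEven

/-!
A `p`-section of a group is involved in its Sylow subgroup.
-/

set_option autoImplicit false
set_option linter.style.haveILetI false

open Cfsg Cfsg.FusionSystem

namespace CfsgLib.Fus

theorem involves_of_surj {G H : Type*} [Group G] [Group H] {M : Subgroup G} (f : ↥M →* H)
    (hf : Function.Surjective f) : Cfsg.Involves H G := by
  have hker : f.ker = (f.ker.map M.subtype).subgroupOf M :=
    (Subgroup.comap_map_eq_self_of_injective M.subtype_injective _).symm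
  haveI hn' : ((f.ker.map M.subtype).subgroupOf M).Normal := hker ▸ inferInstance
  exact ⟨M, f.ker.map M.subtype, hn',
    ⟨(QuotientGroup.quotientMulEquivOfEq hker.symm).trans (QuotientGroup.quotientKerEquivOfSurjective f hf)⟩⟩

theorem involves_sylow_image {L H A : Type*} [Group L] [Finite L] [Group H] [Group A] {p : ℕ} [hp : Fact p.Prime]
    (h : Cfsg.Involves H L) {Q : Subgroup H} (hQ : IsPGroup p Q) (ι : A →* L) (hι : Function.Injective ι)
    (T : Sylow p L) (hT : (T : Subgroup L) = ι.range) : Cfsg.Involves ↥Q A := by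
  obtain ⟨K, R, hn, ⟨e⟩⟩ := h
  haveI := hn
  let f : ↥K →* H := e.toMonoidHom.comp (QuotientGroup.mk' _)
  have hf : Function.Surjective f := e.surjective.comp (QuotientGroup.mk'_surjective _)
  let f' : ↥(Q.comap f) →* ↥Q := f.subgroupComap Q
  have hf' : Function.Surjective f' := f.subgroupComap_surjective_of_surjective Q hf
  obtain ⟨U⟩ := (Sylow.nonempty : Nonempty (Sylow p ↥(Q.comap f)))
  have hU : (U.mapSurjective hf' : Subgroup ↥Q) = ⊤ := by
    have hd : (U.mapSurjective hf' : Subgroup ↥Q).index = 1 := by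
      haveI : Finite ↥Q := Finite.of_surjective f' hf'
      obtain ⟨k, hk⟩ := IsPGroup.iff_card.1 hQ
      obtain ⟨j, -, hj⟩ := (Nat.dvd_prime_pow hp.out).1 (hk ▸ (U.mapSurjective hf' : Subgroup ↥Q).index_dvd_card)
      cases j with
      | zero => simpa using hj
      | succ j => exact absurd (hj ▸ dvd_pow_self p j.succ_ne_zero) (U.mapSurjective hf').not_dvd_index
    exact Subgroup.index_eq_one.1 hd
  let M₀ : Subgroup L := ((U : Subgroup ↥(Q.comap f)).map (Q.comap f).subtype).map K.subtype
  obtain ⟨W, hW⟩ := ((U.2.map (Q.comap f).subtype).map K.subtype : IsPGroup p M₀).exists_le_sylow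
  obtain ⟨c, hc⟩ := MulAction.exists_smul_eq L W T
  let j : ↥(U : Subgroup ↥(Q.comap f)) →* L :=
    (MulAut.conj c).toMonoidHom.comp (K.subtype.comp ((Q.comap f).subtype.comp (U : Subgroup ↥(Q.comap f)).subtype))
  have hj : ∀ u, j u ∈ ι.range := fun u => by
    rw [← hT, ← hc, Sylow.coe_subgroup_smul]
    exact Subgroup.smul_mem_pointwise_smul _ _ _ (hW ⟨_, ⟨u, u.2, rfl⟩, rfl⟩)
  let j' : ↥(U : Subgroup ↥(Q.comap f)) →* A := (MonoidHom.ofInjective hι).symm.toMonoidHom.comp (j.codRestrict ι.range hj)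
  have hjinj : Function.Injective j' := by
    intro a b hab
    have h1 := congrArg Subtype.val ((MonoidHom.ofInjective hι).symm.injective hab : j.codRestrict ι.range hj a = j.codRestrict ι.range hj b)
    exact Subtype.ext (Subtype.ext (Subtype.ext ((MulAut.conj c).injective h1)))
  let g : ↥j'.range →* ↥Q :=
    (f'.comp (U : Subgroup ↥(Q.comap f)).subtype).comp (MonoidHom.ofInjective hjinj).symm.toMonoidHom
  have h1 : Function.Surjective (f'.comp (U : Subgroup ↥(Q.comap f)).subtype) := fun q => by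
    have hq : q ∈ (U.mapSurjective hf' : Subgroup ↥Q) := hU ▸ Subgroup.mem_top q
    rw [Sylow.coe_mapSurjective] at hq
    obtain ⟨u, hu, rfl⟩ := hq
    exact ⟨⟨u, hu⟩, rfl⟩
  exact involves_of_surj g (h1.comp (MonoidHom.ofInjective hjinj).symm.surjective)

end CfsgLib.Fus
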