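import Mathlib

/-!
No sharply two-transitive set of semilinear maps on the points of a projective space of dimension at least two.
-/

set_option autoImplicit false
set_option linter.style.haveILetI false
set_option linter.unusedSectionVars false

namespace CfsgLib.Fus.SharpSemilinear

open scoped Classical
open Module

variable {F : Type*} [Field F] [Finite F] {n : ℕ}

theorem points_one (U : Submodule F (Fin n → F)) (hU : U ≠ ⊥) :
    (Nat.card {x : Projectivization F (Fin n → F) // x.rep ∈ U} : ZMod (Nat.card F)) = 1 := by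
  haveI : Fintype F := Fintype.ofFinite F
  have hmem : ∀ y : Projectivization F U, (Projectivization.map U.subtype U.subtype_injective y).rep ∈ U := by
    intro y
    induction y using Projectivization.ind with
    | h v hv =>
      rw [Projectivization.map_mk]
      obtain ⟨c, hc⟩ := Projectivization.exists_smul_eq_mk_rep F (U.subtype v)
        (fun h => hv (U.subtype_injective (h.trans (map_zero U.subtype).symm)))
      rw [← hc]
      exact (U.smul_mem_iff' c).2 v.2
  have hcard : Nat.card {x : Projectivization F (Fin n → F) // x.rep ∈ U} = Nat.card (Projectivization F U) := by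
    refine (Nat.card_congr (Equiv.ofBijective (fun y : Projectivization F U =>
      (⟨Projectivization.map U.subtype U.subtype_injective y, hmem y⟩ :
        {x : Projectivization F (Fin n → F) // x.rep ∈ U})) ⟨?_, ?_⟩)).symm
    · intro y y' h
      exact Projectivization.map_injective U.subtype U.subtype_injective (congrArg Subtype.val h)
    · rintro ⟨x, hx⟩
      refine ⟨Projectivization.mk F (⟨x.rep, hx⟩ : U) (fun h => x.rep_nonzero (congrArg Subtype.val h)), Subtype.ext ?_⟩
      dsimp only
      rw [Projectivization.map_mk]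
      exact x.mk_rep
  rw [hcard]
  have h := Projectivization.card' F U
  have hU' : Nat.card U = Nat.card F ^ finrank F U := Module.natCard_eq_pow_finrank
  have h1 : 1 ≤ finrank F U := Submodule.one_le_finrank_iff.2 hU
  have hq : 1 ≤ Nat.card F := Nat.card_pos
  have h' := congrArg (fun k : ℕ => (k : ZMod (Nat.card F))) (hU'.symm.trans h)
  simp only [Nat.cast_pow, Nat.cast_add, Nat.cast_mul, Nat.cast_one, ZMod.natCast_self, Nat.cast_sub hq,
    zero_pow (Nat.one_le_iff_ne_zero.1 h1), zero_sub] at h'
  linear_combination h'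

theorem main (hn : 3 ≤ n) (S : Set (Equiv.Perm (Projectivization F (Fin n → F))))
    (hS : ∀ s ∈ S, ∃ (σ : F ≃+* F) (f : (Fin n → F) →ₛₗ[(σ : F →+* F)] (Fin n → F)) (hf : Function.Injective f),
      ∀ x, s x = Projectivization.map f hf x) :
    ¬ (∀ a b c d : Projectivization F (Fin n → F), a ≠ b → c ≠ d →
        ∃! s, s ∈ S ∧ s a = c ∧ s b = d) := by
  intro hsharp
  haveI : Fintype F := Fintype.ofFinite F
  haveI : Finite (Projectivization F (Fin n → F)) := Quotient.finite _
  haveI : Fintype (Projectivization F (Fin n → F)) := Fintype.ofFinite _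
  have he0 : (Pi.single (⟨0, by omega⟩ : Fin n) (1 : F) : Fin n → F) ≠ 0 := fun h => by
    simpa using congrFun h ⟨0, by omega⟩
  set i₀ : Fin n := ⟨0, by omega⟩
  set a := Projectivization.mk F _ he0
  let W : Submodule F (Fin n → F) := LinearMap.ker (LinearMap.proj i₀)
  let H : Finset (Projectivization F (Fin n → F)) := Finset.univ.filter fun x => x.rep ∈ W
  have hWne : W ≠ ⊥ := by
    intro h
    have : (Pi.single (⟨1, by omega⟩ : Fin n) (1 : F) : Fin n → F) ∈ W := by
      simp [W, i₀, Pi.single_apply, Fin.ext_iff]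
    rw [h, Submodule.mem_bot] at this
    simpa using congrFun this ⟨1, by omega⟩
  have haH : a ∉ H := by
    intro h
    have h' : a.rep ∈ W := (Finset.mem_filter.1 h).2
    obtain ⟨c, hc⟩ := Projectivization.exists_smul_eq_mk_rep F _ he0
    rw [← hc] at h'
    have h2 := (Submodule.smul_mem_iff' W c).1 h'
    simp [W, i₀] at h2
  let T : Finset (Equiv.Perm (Projectivization F (Fin n → F))) := Finset.univ.filter fun s => s ∈ S ∧ s a = a
  let R := ZMod (Nat.card F)
  have hH1 : ((H.card : ℕ) : R) = 1 := by
    rw [show H.card = Nat.card {x : Projectivization F (Fin n → F) // x.rep ∈ W} by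
      rw [Nat.card_eq_fintype_card, Fintype.card_subtype]]
    exact points_one W hWne
  have hinner : ∀ s ∈ T, (((H.filter fun y => s y ∈ H).card : ℕ) : R) = 1 := by
    intro s hs
    obtain ⟨σ, f, hf, hmap⟩ := hS s (Finset.mem_filter.1 hs).2.1
    let L : (Fin n → F) →ₗ[F] F × F :=
      { toFun := fun v => (v i₀, σ.symm (f v i₀))
        map_add' := fun u v => by simp
        map_smul' := fun c v => by simp }
    have hL : LinearMap.ker L ≠ ⊥ := by
      intro h
      have hle := LinearMap.finrank_le_finrank_of_injective (LinearMap.ker_eq_bot.1 h)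
      rw [Module.finrank_fin_fun, Module.finrank_prod, Module.finrank_self] at hle
      omega
    have heq : H.filter (fun y => s y ∈ H) = Finset.univ.filter fun y => y.rep ∈ LinearMap.ker L := by
      ext y
      have hsy : s y = Projectivization.mk F (f y.rep) (fun h => y.rep_nonzero (hf (by rw [h, map_zero]))) := by
        conv_lhs => rw [hmap, ← y.mk_rep]
        exact Projectivization.map_mk _ _ _ _
      obtain ⟨c, hc⟩ := Projectivization.exists_smul_eq_mk_rep F (f y.rep) (fun h => y.rep_nonzero (hf (by rw [h, map_zero])))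
      have hmem : (s y).rep ∈ W ↔ f y.rep ∈ W := by rw [hsy, ← hc]; exact Submodule.smul_mem_iff' W c
      simp only [H, Finset.mem_filter, Finset.mem_univ, true_and, hmem]
      simp [L, W, LinearMap.mem_ker, Prod.ext_iff]
    rw [heq, show (Finset.univ.filter fun y : Projectivization F (Fin n → F) => y.rep ∈ LinearMap.ker L).card =
      Nat.card {y : Projectivization F (Fin n → F) // y.rep ∈ LinearMap.ker L} by
        rw [Nat.card_eq_fintype_card, Fintype.card_subtype]]
    exact points_one _ hL
  have hone : ∀ y ∈ H, ∀ x ∈ H, (T.filter fun s => s y = x).card = 1 := by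
    intro y hy x hx
    obtain ⟨s, ⟨hsS, hsa, hsy⟩, huniq⟩ := hsharp a y a x (fun h => haH (h ▸ hy)) (fun h => haH (h ▸ hx))
    rw [Finset.card_eq_one]
    refine ⟨s, Finset.eq_singleton_iff_unique_mem.2 ⟨by simp [T, hsS, hsa, hsy], fun t ht => ?_⟩⟩
    simp only [T, Finset.mem_filter, Finset.mem_univ, true_and] at ht
    exact huniq t ⟨ht.1.1, ht.1.2, ht.2⟩
  have hsum : ∑ s ∈ T, (H.filter fun y => s y ∈ H).card = H.card * H.card := by
    simp only [Finset.card_filter]
    rw [Finset.sum_comm, ← smul_eq_mul, ← Finset.sum_const]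
    refine Finset.sum_congr rfl fun y hy => ?_
    rw [← Finset.card_filter, Finset.card_eq_sum_card_fiberwise (s := T.filter fun s => s y ∈ H) (f := fun s => s y) (t := H)
      (fun s hs => (Finset.mem_filter.1 hs).2)]
    rw [Finset.card_eq_sum_ones H]
    refine Finset.sum_congr rfl fun x hx => ?_
    rw [Finset.filter_filter]
    rw [← hone y hy x hx]
    congr 1
    exact Finset.filter_congr fun s _ => ⟨fun h => h.2, fun h => ⟨h ▸ hx, h⟩⟩
  -- the number of elements fixing `a`
  obtain ⟨b, hb⟩ : ∃ b, b ∈ H := Finset.card_pos.1 (by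
    rw [Finset.card_pos]
    by_contra h
    rw [Finset.not_nonempty_iff_eq_empty] at h
    rw [h, Finset.card_empty, Nat.cast_zero] at hH1
    have := (ZMod.natCast_eq_zero_iff 1 (Nat.card F)).1 (by simpa using hH1.symm)
    exact (Finite.one_lt_card (α := F)).ne' (Nat.dvd_one.1 this))
  have hTcard : T.card + 1 = Fintype.card (Projectivization F (Fin n → F)) := by
    have hba : a ≠ b := fun h => haH (h ▸ hb)
    have h1 : T.card = (Finset.univ.erase a).card := by
      refine Finset.card_bij (fun s _ => s b) ?_ ?_ ?_
      · intro s hs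
        exact Finset.mem_erase.2 ⟨fun h => hba (s.injective ((Finset.mem_filter.1 hs).2.2.trans h.symm)), Finset.mem_univ _⟩
      · intro s hs t ht h
        obtain ⟨_, -, huniq⟩ := hsharp a b a (s b) hba (fun h' => hba (s.injective ((Finset.mem_filter.1 hs).2.2.trans h')))
        exact (huniq s ⟨(Finset.mem_filter.1 hs).2.1, (Finset.mem_filter.1 hs).2.2, rfl⟩).trans
          (huniq t ⟨(Finset.mem_filter.1 ht).2.1, (Finset.mem_filter.1 ht).2.2, h.symm⟩).symm
      · intro x hx
        obtain ⟨s, ⟨h1, h2, h3⟩, -⟩ := hsharp a b a x hba (Finset.ne_of_mem_erase hx).symm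
        exact ⟨s, Finset.mem_filter.2 ⟨Finset.mem_univ _, h1, h2⟩, h3⟩
    rw [h1, Finset.card_erase_of_mem (Finset.mem_univ a), Finset.card_univ]
    have := Fintype.card_pos_iff.2 ⟨a⟩
    omega
  have hall : ((Fintype.card (Projectivization F (Fin n → F)) : ℕ) : R) = 1 := by
    have h := points_one (⊤ : Submodule F (Fin n → F)) (fun h => hWne (le_bot_iff.1 (h ▸ le_top)))
    rw [Nat.card_congr (Equiv.subtypeUnivEquiv fun x => Submodule.mem_top)] at h
    rw [← Nat.card_eq_fintype_card]
    exact h
  have hT0 : ((T.card : ℕ) : R) = 0 := by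
    rw [← hTcard, Nat.cast_add, Nat.cast_one] at hall
    linear_combination hall
  have hfin : ∑ s ∈ T, (((H.filter fun y => s y ∈ H).card : ℕ) : R) = ((H.card : ℕ) : R) * ((H.card : ℕ) : R) := by
    rw [← Nat.cast_sum, hsum, Nat.cast_mul]
  rw [Finset.sum_congr rfl hinner, hH1, mul_one] at hfin
  have hfin' : ((T.card : ℕ) : R) = 1 := by simpa using hfin
  rw [hT0] at hfin'
  have := (ZMod.natCast_eq_zero_iff 1 (Nat.card F)).1 (by simpa using hfin'.symm)
  exact (Finite.one_lt_card (α := F)).ne' (Nat.dvd_one.1 this)

end CfsgLib.Fus.SharpSemilinear
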