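import Cfsg.Agent.Fus.SmallCenterBasic

/-!
Saturated systems without normal `p`-subgroup and equal to their `p`-residual, over groups with centre of
index at most `p²`: the group is extraspecial of order `p³`.
-/

set_option autoImplicit false
set_option linter.style.haveILetI false

open Cfsg Cfsg.FusionSystem
open scoped commutatorElement

namespace CfsgLib.Fus

variable {Ω : Type*} [Group Ω] {S : Subgroup Ω} {F : FusionSystem S} {p : ℕ}

/-- An automorphism of `S` inverting `⁅S, S⁆` and trivial modulo it on the centre. -/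
structure NegMap (F : FusionSystem S) (f : Ω → Ω) : Prop where
  map : IsMap F S f
  neg : ∀ s ∈ ⁅S, S⁆, f s = s⁻¹
  cen : ∀ z ∈ Zc S, z⁻¹ * f z ∈ ⁅S, S⁆

theorem NegMap.agree [Finite S] [Fact p.Prime] (hs : Small p F) {f f' : Ω → Ω} (h : NegMap F f)
    (h' : NegMap F f') : ∀ z ∈ Zc S, f z = f' z :=
  agree_Zc hs h.map h'.map (fun s hs' => by rw [h.neg s hs', h'.neg s hs']) h.cen h'.cen

theorem ess_odd [Finite S] [hp : Fact p.Prime] (hp2 : p ≠ 2) (hs : Small p F) {A : Subgroup Ω}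
    (hA : F.IsEssential p A) :
    (∃ f, NegMap F f) ∧ ∀ f, NegMap F f →
      (∀ z ∈ Zc S, ∃ s ∈ ⁅S, S⁆, ∃ c ∈ Zc S, f c = c ∧ z = s * c) ∧
      (∀ γ ∈ F.autGroup A, ∀ c ∈ Zc S, f c = c → autFun γ c ∈ Zc S ∧ f (autFun γ c) = autFun γ c) ∧
      ∀ a ∈ A, ∃ a' c, c ∈ Zc S ∧ f c = c ∧ a' ^ p = 1 ∧ a = a' * c := by
  have hm := essential_mid hs hA
  letI := commOf (fun _ ha _ hb => hm.comm hs ha hb)
  haveI := finite_of_le hm.le
  have hAp : IsPGroup p ↥A := hs.pg.to_le hm.le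
  obtain ⟨u, hu, hsyl, hker, hrange, ⟨γ₀, hγ₀, hne₀⟩, hext⟩ := ess_aut hs hA
  have hv₀ := hu.conj hγ₀
  -- the map attached to an opposite transvection
  have hmk : ∀ v, Trans.Tv p (F.autGroup A) v → Subgroup.zpowers u ≠ Subgroup.zpowers v →
      ∃ f, NegMap F f ∧ ∀ c : A, u c = c → v c = c → f c = c := by
    intro v hv hne
    obtain ⟨ι, hι, hιu, hιs, hιc⟩ := Trans.exists_neg hAp hsyl hu hv hne
    obtain ⟨f, hf, hfe⟩ := hext ι hι hιu
    have hfe' : ∀ x : A, f x = ((ι x : A) : Ω) := fun x => by rw [hfe x x.2, autFun_apply]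
    refine ⟨f, ⟨hf, fun s hsd => ?_, fun z hz => ?_⟩, fun c h1 h2 => by rw [hfe', hιc c h1 h2]⟩
    · have hsA : s ∈ A := hm.gt.le (hs.derived hsd)
      rw [hfe' ⟨s, hsA⟩, hιs _ ((hrange ⟨s, hsA⟩).2 hsd)]
      rfl
    · obtain ⟨c, s, hc1, hc2, hsr, he⟩ :=
        Trans.decomp_ker hAp hsyl hu hv hne (x := ⟨z, hm.gt.le hz⟩) ((hker _).2 hz)
      have h1 := hfe' ⟨z, hm.gt.le hz⟩
      rw [he, map_mul, hιs s hsr, hιc c hc1 hc2] at h1
      have h2 : z = (s : Ω) * c := congrArg Subtype.val he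
      show z⁻¹ * f z ∈ _
      rw [show f z = ((s⁻¹ * c : A) : Ω) from h2 ▸ h1, h2]
      have h3 : ((s * c)⁻¹ * (s⁻¹ * c) : A) = s⁻¹ * s⁻¹ := by
        rw [mul_inv_rev, mul_comm s⁻¹ c, mul_assoc, mul_comm c⁻¹, mul_assoc, mul_assoc, mul_comm c]
        simp
      have h4 := congrArg Subtype.val h3
      simp only [Subgroup.coe_mul, Subgroup.coe_inv] at h4 ⊢
      rw [h4]
      exact mul_mem (inv_mem ((hrange s).1 hsr)) (inv_mem ((hrange s).1 hsr))
  obtain ⟨f₀, hf₀, -⟩ := hmk _ hv₀ hne₀.symm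
  refine ⟨⟨f₀, hf₀⟩, fun f hf => ?_⟩
  have hfix : ∀ v, Trans.Tv p (F.autGroup A) v → Subgroup.zpowers u ≠ Subgroup.zpowers v →
      ∀ c : A, u c = c → (v c = c ↔ f c = c) := by
    intro v hv hne c hc
    obtain ⟨g, hg, hgc⟩ := hmk v hv hne
    refine ⟨fun h => by rw [hf.agree hs hg _ ((hker c).1 hc), hgc c hc h], fun h => ?_⟩
    obtain ⟨d, s, hd1, hd2, hsr, rfl⟩ := Trans.decomp_ker hAp hsyl hu hv hne hc
    have hsd := (hrange s).1 hsr
    have hdZ := (hker d).1 hd1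
    rw [Subgroup.coe_mul, hf.map.map_mul (Zc_le (hs.derived hsd)) (Zc_le hdZ), hf.neg _ hsd,
      hf.agree hs hg _ hdZ, hgc d hd1 hd2] at h
    have h1 : (s : Ω)⁻¹ = (s : Ω) := mul_right_cancel h
    have h2 : s * s = 1 := by
      apply Subtype.ext
      rw [Subgroup.coe_mul, Subgroup.coe_one]
      exact inv_eq_iff_mul_eq_one.1 h1
    have h3 : s ^ p = 1 := by
      have := congrArg Subtype.val (pow_card_eq_one' (x := (⟨s, hsr⟩ : (Trans.dlt u).range)))
      rwa [hu.card] at this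
    obtain ⟨q, hq⟩ := hp.out.odd_of_ne_two hp2
    rw [hq, pow_succ, pow_mul, pow_two, h2, one_pow, one_mul] at h3
    rw [h3, one_mul, hd2]
  have hallfix : ∀ γ ∈ F.autGroup A, ∀ c : A, (c : Ω) ∈ Zc S → f c = c → (γ * u * γ⁻¹) c = c := by
    intro γ hγ c hc hfc
    by_cases h : Subgroup.zpowers u = Subgroup.zpowers (γ * u * γ⁻¹)
    · obtain ⟨k, hk⟩ := Subgroup.mem_zpowers_iff.1 (h.ge (Subgroup.mem_zpowers _))
      rw [← hk]
      let Fx : Subgroup (MulAut ↥A) :=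
        { carrier := {x | x c = c}
          one_mem' := rfl
          mul_mem' := fun {a b} ha hb => show a (b c) = c by rw [show b c = c from hb]; exact ha
          inv_mem' := fun {a} ha => show a⁻¹ c = c by
            conv_lhs => rw [← show a c = c from ha]
            exact MulAut.inv_apply_self _ _ _ }
      exact Fx.zpow_mem (show u ∈ Fx from (hker c).2 hc) k
    · exact (hfix _ (hu.conj hγ) h c ((hker c).2 hc)).2 hfc
  refine ⟨fun z hz => ?_, fun γ hγ c hc hfc => ?_, fun a ha => ?_⟩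
  · obtain ⟨c, s, hc1, hc2, hsr, he⟩ :=
      Trans.decomp_ker hAp hsyl hu hv₀ hne₀.symm (x := ⟨z, hm.gt.le hz⟩) ((hker _).2 hz)
    exact ⟨s, (hrange s).1 hsr, c, (hker c).1 hc1, (hfix _ hv₀ hne₀.symm c hc1).1 hc2,
      congrArg Subtype.val he⟩
  · have hcA : c ∈ A := hm.gt.le hc
    have hkey : ∀ δ ∈ F.autGroup A, (δ * u * δ⁻¹) (γ ⟨c, hcA⟩) = γ ⟨c, hcA⟩ := fun δ hδ => by
      have h1 := hallfix (γ⁻¹ * δ) ((F.autGroup A).mul_mem ((F.autGroup A).inv_mem hγ) hδ) ⟨c, hcA⟩ hc hfc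
      have h2 : δ * u * δ⁻¹ * γ = γ * (γ⁻¹ * δ * u * (γ⁻¹ * δ)⁻¹) := by group
      rw [← MulAut.mul_apply, h2, MulAut.mul_apply, h1]
    have h1 := hkey 1 (one_mem _)
    rw [one_mul, inv_one, mul_one] at h1
    rw [autFun_of_mem γ hcA]
    exact ⟨(hker _).1 h1, (hfix _ hv₀ hne₀.symm _ h1).1 (hkey γ₀ hγ₀)⟩
  · obtain ⟨c, s, t, hc1, hc2, hsr, htr, he⟩ := Trans.decomp_full hAp hsyl hu hv₀ hne₀.symm ⟨a, ha⟩
    refine ⟨((s * t : A) : Ω), c, (hker c).1 hc1, (hfix _ hv₀ hne₀.symm c hc1).1 hc2, ?_, congrArg Subtype.val he⟩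
    have hsp : s ^ p = 1 := by
      have := congrArg Subtype.val (pow_card_eq_one' (x := (⟨s, hsr⟩ : (Trans.dlt u).range)))
      rwa [hu.card] at this
    have htp : t ^ p = 1 := by
      have := congrArg Subtype.val (pow_card_eq_one' (x := (⟨t, htr⟩ : (Trans.dlt (γ₀ * u * γ₀⁻¹)).range)))
      rwa [hv₀.card] at this
    rw [← Subgroup.coe_pow, mul_pow, hsp, htp, one_mul]
    rfl

theorem card_derived [Finite S] [hp : Fact p.Prime] (hs : Small p F) {A : Subgroup Ω}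
    (hA : F.IsEssential p A) : Nat.card ↥⁅S, S⁆ = p := by
  have hm := essential_mid hs hA
  letI := commOf (fun _ ha _ hb => hm.comm hs ha hb)
  haveI := finite_of_le hm.le
  obtain ⟨u, hu, -, -, hrange, -, -⟩ := ess_aut hs hA
  rw [← hu.card]
  exact Nat.card_congr
    { toFun := fun x => ⟨⟨x, hm.gt.le (hs.derived x.2)⟩, (hrange _).2 x.2⟩
      invFun := fun x => ⟨(x.1 : Ω), (hrange x.1).1 x.2⟩
      left_inv := fun x => rfl
      right_inv := fun x => rfl }

theorem pow_class_two {G : Type*} [Group G] {a b c : G} (hab : b * a = c * a * b) (hca : Commute c a)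
    (hcb : Commute c b) (n : ℕ) : (a * b) ^ n = a ^ n * b ^ n * c ^ n.choose 2 := by
  have h1 : ∀ k : ℕ, b ^ k * a = c ^ k * a * b ^ k := by
    intro k
    induction k with
    | zero => simp
    | succ k ih =>
      calc b ^ (k + 1) * a = b * (b ^ k * a) := by rw [pow_succ', mul_assoc]
        _ = (b * c ^ k) * a * b ^ k := by rw [ih]; simp [mul_assoc]
        _ = c ^ k * (b * a) * b ^ k := by rw [← (hcb.pow_left k).eq]; simp [mul_assoc]
        _ = _ := by rw [hab, pow_succ c, pow_succ' b]; simp [mul_assoc]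
  induction n with
  | zero => simp
  | succ n ih =>
    have hc : ∀ k, Commute (c ^ k) (a * b) := fun k => (hca.mul_right hcb).pow_left k
    calc (a * b) ^ (n + 1) = a ^ n * b ^ n * (a * b) * c ^ n.choose 2 := by
          rw [pow_succ, ih, mul_assoc _ _ (a * b), (hc _).eq, mul_assoc, mul_assoc, mul_assoc]
          simp [mul_assoc]
      _ = a ^ n * (b ^ n * a) * b * c ^ n.choose 2 := by simp [mul_assoc]
      _ = a ^ n * (c ^ n * a) * (b ^ n * b) * c ^ n.choose 2 := by rw [h1]; simp [mul_assoc]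
      _ = a ^ (n + 1) * (c ^ n * b ^ (n + 1)) * c ^ n.choose 2 := by
          rw [(hca.pow_left n).eq, pow_succ a, ← pow_succ b]; simp [mul_assoc]
      _ = a ^ (n + 1) * b ^ (n + 1) * c ^ (n + 1).choose 2 := by
          rw [((hcb.pow_left n).pow_right (n + 1)).eq, Nat.choose_succ_succ, Nat.choose_one_right, pow_add c n]
          simp [mul_assoc, pow_add]

theorem fix_normal [Finite S] [hp : Fact p.Prime] (hp2 : p ≠ 2) (hs : Small p F) {f : Ω → Ω}
    (hf : NegMap F f) :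
    ∃ C : Subgroup Ω, F.IsNormal C ∧ ∀ x, x ∈ C ↔ x ∈ Zc S ∧ f x = x := by
  let C : Subgroup Ω :=
    { carrier := {x | x ∈ Zc S ∧ f x = x}
      one_mem' := ⟨one_mem _, hf.map.map_one⟩
      mul_mem' := fun {a b} ha hb => ⟨mul_mem ha.1 hb.1, by
        rw [hf.map.map_mul ha.1.1 hb.1.1, ha.2, hb.2]⟩
      inv_mem' := fun {a} ha => ⟨inv_mem ha.1, by rw [hf.map.map_inv ha.1.1, ha.2]⟩ }
  refine ⟨C, normal_criterion hs.pg hs.sat fun P hP => ?_, fun x => Iff.rfl⟩
  refine ⟨fun x hx => Zc_le_centric (crit_cases hs.pg hs.sat hP).1 hx.1, fun α hα x hx => ?_⟩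
  rcases hP with rfl | hP
  · -- invariance under the automorphisms of the whole group
    haveI := finite_mulAut (le_refl P)
    have hαm := (mem_autGroup le_rfl).1 hα
    have hZ : ∀ z ∈ Zc P, ∀ β : MulAut P, autFun β z ∈ Zc P := fun z hz β =>
      mem_Zc (autFun_mem β hz.1) fun y hy => by
        have h := congrArg (autFun β) (Zc_comm hz (autFun_mem β⁻¹ hy))
        rwa [autFun_map_mul β (autFun_mem β⁻¹ hy) hz.1, autFun_map_mul β hz.1 (autFun_mem β⁻¹ hy),
          autFun_inv_apply β hy] at h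
    have hdle : ⁅P, P⁆ ≤ P := hs.derived.trans Zc_le
    have hinvm : IsMap F P (autFun α⁻¹) := (mem_autGroup le_rfl).1 ((F.autGroup P).inv_mem hα)
    have hneg : NegMap F (autFun α ∘ f ∘ autFun α⁻¹) := by
      refine ⟨(hinvm.comp hf.map fun y hy => autFun_mem _ hy).comp hαm fun y hy => hf.map.mem (autFun_mem _ hy),
        fun s hsd => ?_, fun z hz => ?_⟩
      · show autFun α (f (autFun α⁻¹ s)) = s⁻¹
        rw [hf.neg _ (derived_map _ hinvm hsd), autFun_map_inv α (autFun_mem _ (hdle hsd)),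
          autFun_inv_apply α (hdle hsd)]
      · show z⁻¹ * autFun α (f (autFun α⁻¹ z)) ∈ _
        have h1 := derived_map _ hαm (hf.cen _ (hZ z hz α⁻¹))
        rwa [autFun_map_mul α (inv_mem (autFun_mem _ hz.1)) (hf.map.mem (autFun_mem _ hz.1)),
          autFun_map_inv α (autFun_mem _ hz.1), autFun_inv_apply α hz.1] at h1
    refine ⟨hZ x hx.1 α, ?_⟩
    rw [hf.agree hs hneg _ (hZ x hx.1 α)]
    show autFun α (f (autFun α⁻¹ (autFun α x))) = autFun α x
    rw [autFun_inv_apply' α hx.1.1, hx.2]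
  · exact ((ess_odd hp2 hs hP).2 f hf).2.1 α hα x hx.1 hx.2

theorem odd_case [Finite S] [hp : Fact p.Prime] (hp2 : p ≠ 2) (hs : Small p F) (hS1 : S ≠ ⊥)
    (hcore : F.core = ⊥) : Zc S = ⁅S, S⁆ ∧ Nat.card ↥(Zc S) = p ∧ Monoid.exponent ↥S = p := by
  obtain ⟨A, hA⟩ := exists_essential hs.pg hs.sat hS1 hcore
  obtain ⟨f, hf⟩ := (ess_odd hp2 hs hA).1
  obtain ⟨C, hCn, hC⟩ := fix_normal hp2 hs hf
  have hCbot : ∀ c, c ∈ Zc S → f c = c → c = 1 := fun c h1 h2 => by
    have : C ≤ ⊥ := hcore ▸ le_sSup hCn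
    exact Subgroup.mem_bot.1 (this ((hC c).2 ⟨h1, h2⟩))
  have hZd : Zc S = ⁅S, S⁆ := le_antisymm (fun z hz => by
    obtain ⟨s, hsd, c, hc, hfc, rfl⟩ := ((ess_odd hp2 hs hA).2 f hf).1 z hz
    rwa [hCbot c hc hfc, mul_one]) hs.derived
  have hcZ : Nat.card ↥(Zc S) = p := by rw [hZd, card_derived hs hA]
  have hel : ∀ B, F.IsEssential p B → ∀ b ∈ B, b ^ p = 1 := fun B hB b hb => by
    obtain ⟨b', c, hc, hfc, hbp, rfl⟩ := ((ess_odd hp2 hs hB).2 f hf).2.2 b hb
    rw [hCbot c hc hfc, mul_one]; exact hbp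
  have hm := essential_mid hs hA
  refine ⟨hZd, hcZ, ?_⟩
  -- two elementary abelian maximal subgroups
  obtain ⟨B, hB, hne, hBe⟩ : ∃ B, Mid S B ∧ A ≠ B ∧ ∀ b ∈ B, b ^ p = 1 := by
    by_contra hno
    push Not at hno
    have hn : F.IsNormal A := normal_criterion hs.pg hs.sat fun P hP => by
      rcases hP with rfl | hP
      · refine ⟨hm.le, fun α hα x hx => ?_⟩
        have hαm := (mem_autGroup le_rfl).1 hα
        by_contra hx'
        obtain ⟨y, hy, hy1⟩ := hno _ (hm.img hαm) fun h => hx' (h.ge (mem_img_of_mem hx))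
        obtain ⟨a, ha, rfl⟩ := (hαm.mono hm.le).mem_img.1 hy
        rw [← hαm.map_pow (hm.le ha), hel A hA a ha, hαm.map_one] at hy1
        exact hy1 rfl
      · obtain rfl : A = P := by
          by_contra h
          obtain ⟨b, hb, hb1⟩ := hno P (essential_mid hs hP) h
          exact hb1 (hel P hP b hb)
        exact ⟨le_rfl, fun α _ x hx => autFun_mem α hx⟩
    have hbot : A ≤ ⊥ := hcore ▸ le_sSup hn
    exact absurd (bot_le.trans_lt hm.gt) (le_bot_iff.1 hbot ▸ lt_irrefl _)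
  have hpow : ∀ x ∈ S, x ^ p = 1 := by
    intro x hx
    have hAn : ∀ y ∈ B, ∀ a ∈ A, y * a * y⁻¹ ∈ A := fun y hy a ha => hm.conj_mem hs.derived (hB.le hy) ha
    have hle := le_normalizer_of_forall hAn
    rw [← hm.sup_eq hs hB hne, ← SetLike.mem_coe, Subgroup.coe_mul_of_right_le_normalizer_left A B hle] at hx
    obtain ⟨a, ha, b, hb, rfl⟩ := hx
    have hcm := comm_mem hs.derived (hB.le hb) (hm.le ha)
    have hc : ∀ y ∈ S, Commute (b * a * b⁻¹ * a⁻¹) y := fun y hy => (Zc_comm hcm hy).symm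
    rw [pow_class_two (c := b * a * b⁻¹ * a⁻¹) (by simp [mul_assoc]) (hc a (hm.le ha)) (hc b (hB.le hb)),
      hel A hA a ha, hBe b hb, one_mul, one_mul]
    haveI := finite_of_le hm.le
    have h1 : (b * a * b⁻¹ * a⁻¹) ^ p = 1 := by
      have := congrArg Subtype.val (pow_card_eq_one' (x := (⟨_, hcm⟩ : Zc S)))
      rwa [hcZ] at this
    obtain ⟨q, hq⟩ := hp.out.odd_of_ne_two hp2
    rw [Nat.choose_two_right, show p * (p - 1) / 2 = p * q by
      rw [Nat.mul_div_assoc _ (by omega : 2 ∣ p - 1), show (p - 1) / 2 = q by omega], pow_mul, h1, one_pow]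
  have hd : Monoid.exponent ↥S ∣ p := Monoid.exponent_dvd_of_forall_pow_eq_one fun x =>
    Subtype.ext (by rw [Subgroup.coe_pow]; exact hpow x x.2)
  refine ((Nat.dvd_prime hp.out).1 hd).resolve_left fun h => hS1 ?_
  refine (Subgroup.eq_bot_iff_forall _).2 fun x hx => ?_
  have := Monoid.pow_exponent_eq_one (⟨x, hx⟩ : S)
  rw [h, pow_one] at this
  exact congrArg Subtype.val this

end CfsgLib.Fus
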