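import Cfsg.Agent.Fus.SmallNormal
import Cfsg.Agent.Fus.SystemSaturation
import Cfsg.Agent.Fus.Alperin

/-!
Abelian subgroups of small exponent control fusion in saturated systems.
-/

set_option autoImplicit false
set_option linter.style.haveILetI false

open Cfsg Cfsg.FusionSystem
open scoped commutatorElement

namespace CfsgLib.Fus.SmallCtrl

universe u

variable {Ω : Type u} [Group Ω] {S : Subgroup Ω} {p : ℕ}

/-- Abelian subgroups of `S` inside `H` of exponent dividing `n`. -/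
structure Small (S H : Subgroup Ω) (n : ℕ) (X : Subgroup Ω) : Prop where
  le : X ≤ S
  leH : X ≤ H
  comm : ∀ a ∈ X, ∀ b ∈ X, a * b = b * a
  pow : ∀ a ∈ X, a ^ n = 1

variable {H : Subgroup Ω} {n : ℕ}

theorem Small.zpowers {y : Ω} (hS : y ∈ S) (hH : y ∈ H) (hy : y ^ n = 1) :
    Small S H n (Subgroup.zpowers y) := by
  refine ⟨Subgroup.zpowers_le.2 hS, Subgroup.zpowers_le.2 hH, fun a ha b hb => ?_, fun a ha => ?_⟩
  · obtain ⟨i, rfl⟩ := Subgroup.mem_zpowers_iff.1 ha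
    obtain ⟨j, rfl⟩ := Subgroup.mem_zpowers_iff.1 hb
    exact ((Commute.refl y).zpow_zpow i j).eq
  · obtain ⟨i, rfl⟩ := Subgroup.mem_zpowers_iff.1 ha
    rw [← zpow_natCast, ← zpow_mul, mul_comm, zpow_mul, zpow_natCast, hy, one_zpow]

theorem Small.sup {X Y : Subgroup Ω} (hX : Small S H n X) (hY : Small S H n Y)
    (hXY : ∀ a ∈ X, ∀ b ∈ Y, a * b = b * a) : Small S H n (X ⊔ Y) := by
  have hc : X ⊔ Y ≤ Subgroup.centralizer ((X ⊔ Y : Subgroup Ω) : Set Ω) := by
    refine sup_le ?_ ?_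
    · intro a ha
      refine Subgroup.mem_centralizer_iff.2 fun b hb => ?_
      have h : X ⊔ Y ≤ Subgroup.centralizer {a} := sup_le
        (fun c hc => Subgroup.mem_centralizer_iff.2 fun d hd => by
          rw [Set.mem_singleton_iff] at hd; subst hd; exact hX.comm d ha c hc)
        (fun c hc => Subgroup.mem_centralizer_iff.2 fun d hd => by
          rw [Set.mem_singleton_iff] at hd; subst hd; exact hXY d ha c hc)
      exact (Subgroup.mem_centralizer_iff.1 (h hb) a rfl).symm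
    · intro a ha
      refine Subgroup.mem_centralizer_iff.2 fun b hb => ?_
      have h : X ⊔ Y ≤ Subgroup.centralizer {a} := sup_le
        (fun c hc => Subgroup.mem_centralizer_iff.2 fun d hd => by
          rw [Set.mem_singleton_iff] at hd; subst hd; exact (hXY c hc d ha).symm)
        (fun c hc => Subgroup.mem_centralizer_iff.2 fun d hd => by
          rw [Set.mem_singleton_iff] at hd; subst hd; exact hY.comm d ha c hc)
      exact (Subgroup.mem_centralizer_iff.1 (h hb) a rfl).symm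
  have hcomm : ∀ a ∈ X ⊔ Y, ∀ b ∈ X ⊔ Y, a * b = b * a := fun a ha b hb =>
    (Subgroup.mem_centralizer_iff.1 (hc ha) b hb).symm
  refine ⟨sup_le hX.le hY.le, sup_le hX.leH hY.leH, hcomm, fun a ha => ?_⟩
  let M : Subgroup Ω :=
    { carrier := {b | b ∈ X ⊔ Y ∧ b ^ n = 1}
      one_mem' := ⟨one_mem _, one_pow n⟩
      mul_mem' := fun {a b} ha hb => ⟨mul_mem ha.1 hb.1, by
        rw [(show Commute a b from hcomm a ha.1 b hb.1).mul_pow, ha.2, hb.2, one_mul]⟩
      inv_mem' := fun {a} ha => ⟨inv_mem ha.1, by rw [inv_pow, ha.2, inv_one]⟩ }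
  have hle : X ⊔ Y ≤ M := sup_le (fun b hb => ⟨Subgroup.mem_sup_left hb, hX.pow b hb⟩)
    (fun b hb => ⟨Subgroup.mem_sup_right hb, hY.pow b hb⟩)
  exact (hle ha).2

theorem Small.img {F : FusionSystem S} (hcl : ∀ P f, IsMap F P f → ∀ x ∈ P, x ∈ H → f x ∈ H) {X : Subgroup Ω}
    (hX : Small S H n X) {f : Ω → Ω} (hf : IsMap F X f) : Small S H n (img f X) := by
  refine ⟨hf.img_le, img_le_iff.2 fun x hx => hcl X f hf x hx (hX.leH hx), fun a ha b hb => ?_, fun a ha => ?_⟩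
  · obtain ⟨x, hx, rfl⟩ := hf.mem_img.1 ha
    obtain ⟨y, hy, rfl⟩ := hf.mem_img.1 hb
    rw [← hf.map_mul hx hy, ← hf.map_mul hy hx, hX.comm x hx y hy]
  · obtain ⟨x, hx, rfl⟩ := hf.mem_img.1 ha
    rw [← hf.map_pow hx, hX.pow x hx, hf.map_one]

variable [Finite S] [hp : Fact p.Prime]

/-- A `p`-subgroup of `Aut_F(R)` normalized by `Aut_S(R)` lies in it, for `R` fully automized. -/
theorem le_autInducedBy {F : FusionSystem S} (hS : IsPGroup p S) {R : Subgroup Ω} (hR : F.IsFullyAutomized p R)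
    {K : Subgroup (MulAut R)} (hKA : K ≤ F.autGroup R) (hKp : IsPGroup p K)
    (hn : ∀ γ ∈ autInducedBy S R, ∀ κ ∈ K, γ * κ * γ⁻¹ ∈ K) : K ≤ autInducedBy S R := by
  haveI := finite_mulAut hR.1
  obtain ⟨P, hP⟩ := hR.2
  have hN : autInducedBy S R ≤ Subgroup.normalizer (K : Set (MulAut R)) := fun γ hγ =>
    mem_normalizer_of_conj (fun y hy => hn γ hγ y hy) fun y hy => by
      simpa [mul_assoc] using hn γ⁻¹ (inv_mem hγ) y hy
  have hU : IsPGroup p ↥(autInducedBy S R ⊔ K) :=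
    IsPGroup.to_sup_of_normal_right' (isPGroup_autInducedBy hS) hKp hN
  have h1 : (P : Subgroup ↥(F.autGroup R)) ≤ (autInducedBy S R ⊔ K).subgroupOf (F.autGroup R) := by
    rw [hP]; exact Subgroup.comap_mono le_sup_left
  have h2 := P.is_maximal' (hU.comap_of_injective _ (Subgroup.subtype_injective _)) h1
  intro κ hκ
  have h3 : (⟨κ, hKA hκ⟩ : F.autGroup R) ∈ (autInducedBy S R ⊔ K).subgroupOf (F.autGroup R) :=
    Subgroup.mem_sup_right hκ
  have h4 : (⟨κ, hKA hκ⟩ : F.autGroup R) ∈ (P : Subgroup ↥(F.autGroup R)) := h2 ▸ h3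
  rw [hP] at h4
  exact h4

/-- Groups of automorphisms without nontrivial elements of order prime to `p` are `p`-groups. -/
theorem isPGroup_of_coprime {G : Type*} [Group G] [Finite G] (W : Subgroup G)
    (h : ∀ δ ∈ W, (orderOf δ).Coprime p → δ = 1) : IsPGroup p W := isPGroup_of_ppow W fun γ hγ => by
  obtain ⟨k, b, hb, hn⟩ := Nat.exists_eq_pow_mul_and_not_dvd (orderOf_pos γ).ne' p hp.out.ne_one
  refine ⟨k, h _ (W.pow_mem hγ _) ?_⟩
  rw [orderOf_pow' _ (pow_ne_zero _ hp.out.pos.ne'), hn, Nat.gcd_eq_right (dvd_mul_right _ _),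
    Nat.mul_div_cancel_left _ (pow_pos hp.out.pos k)]
  exact (hp.out.coprime_iff_not_dvd.2 hb).symm

set_option maxHeartbeats 1600000 in
/-- The induction: small abelian subgroups control fusion in systems with a fixed small central subgroup. -/
theorem le_of_small (H : Subgroup Ω) (n : ℕ) (hn : ∀ z : Ω, (z ^ p = 1 ∨ (p = 2 ∧ z ^ 4 = 1)) → z ^ n = 1)
    (m : ℕ) : ∀ (S : Subgroup Ω) [Finite S] (F E : FusionSystem S) (A : Subgroup Ω), IsPGroup p S →
    F.IsSaturated p → E.IsSaturated p → E ≤ F →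
    (∀ P f, IsMap F P f → ∀ x ∈ P, x ∈ H → f x ∈ H) → PTriv F p H →
    (∀ X, Small S H n X → ∀ f, IsMap F X f → IsMap E X f) →
    Small S H n A → S ≤ Subgroup.centralizer (A : Set Ω) →
    (∀ P f, IsMap F P f → ∃ g, IsMap F (P ⊔ A) g ∧ (∀ x ∈ P, g x = f x) ∧ ∀ x ∈ A, g x = x) →
    Nat.card S - Nat.card A = m → F ≤ E := by
  induction m using Nat.strong_induction_on with
  | _ m ih =>
  intro S _ F E A hS hF hE hEF hcl hshift hsmall hA hAc hext hm
  have hEFm := le_iff.1 hEF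
  refine fusion_induction hS hF E fun R hR big α hα => ?_
  haveI := finite_of_le hR.1
  haveI := finite_mulAut hR.1
  have hαm : IsMap F R (autFun α) := (mem_autGroup hR.1).1 hα
  by_cases hAR : ¬ A ≤ R
  · obtain ⟨g, hg, hge, -⟩ := hext R _ hαm
    refine (mem_autGroup hR.1).2 (((big _ hg.le ?_ g hg).mono le_sup_left).congr hge)
    haveI := finite_of_le hg.le
    exact card_lt_of_lt hg.le (lt_of_le_of_ne le_sup_left fun h => hAR (h ▸ le_sup_right))
  push Not at hAR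
  have hRfix : ∀ γ ∈ F.autGroup R, ∀ x ∈ A, autFun γ x = x := fun γ hγ x hx => by
    obtain ⟨g, -, hge, hgA⟩ := hext R _ ((mem_autGroup hR.1).1 hγ)
    rw [← hge x (hAR hx), hgA x hx]
  have hRfa := (fullyNormalized_spec hS hF hR).1
  have hTE : autInducedBy S R ≤ E.autGroup R := autInducedBy_le_autGroup hR.1
  -- the hyperfocal part of `R`
  set K₀ := R ⊓ H with hK₀
  have hK₀inv : ∀ γ ∈ F.autGroup R, ∀ x ∈ K₀, autFun γ x ∈ K₀ := fun γ hγ x hx =>
    Subgroup.mem_inf.2 ⟨autFun_mem γ hx.1, hcl R _ ((mem_autGroup hR.1).1 hγ) x hx.1 hx.2⟩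
  haveI := finite_of_le ((inf_le_left : K₀ ≤ R).trans hR.1)
  obtain ⟨D₀, hDsmall, hDchar, hDfix⟩ :=
    SmallNormal.small_subgroup (isPGroup_of_le hS ((inf_le_left : K₀ ≤ R).trans hR.1))
  set D := D₀.map K₀.subtype with hD
  have hDK : D ≤ K₀ := Subgroup.map_subtype_le D₀
  have hDinv : ∀ γ ∈ F.autGroup R, ∀ z ∈ D, autFun γ z ∈ D := by
    rintro γ hγ _ ⟨z, hz, rfl⟩
    obtain ⟨a, -, ha⟩ := exists_restrict_aut (inf_le_left : K₀ ≤ R) γ (hK₀inv γ hγ)
    exact ⟨a z, CfsgLib.Solv.map_mem_of_characteristic (hA := hDchar) a hz, (autFun_apply a z).symm.trans (ha z z.2)⟩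
  have hDn : ∀ x ∈ normalizerIn S R, ∀ z ∈ D, x * z * x⁻¹ ∈ D := fun x hx z hz => by
    obtain ⟨γ, hγ, hγe⟩ := exists_autInducedBy (K := S) hx.1 hx.2
    rw [← hγe z (hDK hz).1]
    exact hDinv γ (autInducedBy_le_autGroup hR.1 hγ) z hz
  by_cases hDA : D ≤ A
  · refine hTE (le_autInducedBy hS hRfa le_rfl ?_ (fun γ hγ κ hκ => Subgroup.mul_mem _ (Subgroup.mul_mem _
      (autInducedBy_le_autGroup hR.1 hγ) hκ) (Subgroup.inv_mem _ (autInducedBy_le_autGroup hR.1 hγ))) hα)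
    refine isPGroup_of_coprime _ fun δ hδ hco => ?_
    obtain ⟨a, hao, ha⟩ := exists_restrict_aut (inf_le_left : K₀ ≤ R) δ (hK₀inv δ hδ)
    have ha1 := hDfix a (hco.of_dvd_left hao) fun z hz => Subtype.ext (by
      rw [← autFun_apply a z, ha z z.2]
      exact hRfix δ hδ z (hDA ⟨z, hz, rfl⟩))
    exact aut_ext fun y hy => by
      rw [autFun_one hy]
      refine fix_of_fix_quotient hS hR.1 hco hy ?_
      have hmem : y⁻¹ * autFun δ y ∈ K₀ :=
        Subgroup.mem_inf.2 ⟨R.mul_mem (R.inv_mem hy) (autFun_mem δ hy), hshift R hR.1 δ hδ hco y hy⟩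
      rw [← ha _ hmem, ha1, autFun_one hmem]
  -- a larger small subgroup normalized by `N_S(R)`
  classical
  set Z : ℕ → Subgroup Ω := fun i => (Subgroup.upperCentralSeries ↥S i).map S.subtype with hZ
  have hex : ∃ i, ∃ z ∈ D, z ∈ Z i ∧ z ∉ A := by
    obtain ⟨z, hz, hzA⟩ := SetLike.not_le_iff_exists.1 hDA
    haveI := hS.isNilpotent
    obtain ⟨k, hk⟩ := Group.IsNilpotent.nilpotent' (G := ↥S)
    exact ⟨k, z, hz, ⟨⟨z, hR.1 (hDK hz).1⟩, hk ▸ Subgroup.mem_top _, rfl⟩, hzA⟩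
  obtain ⟨y, hyD, hyZ, hyA⟩ := Nat.find_spec hex
  obtain ⟨i, hi⟩ : ∃ i, Nat.find hex = i + 1 := by
    refine Nat.exists_eq_succ_of_ne_zero fun h0 => hyA ?_
    rw [h0, hZ] at hyZ
    simp only [Subgroup.upperCentralSeries_zero, Subgroup.map_bot, Subgroup.mem_bot] at hyZ
    exact hyZ ▸ A.one_mem
  rw [hi] at hyZ
  have hlow : ∀ z ∈ D, z ∈ Z i → z ∈ A := fun z hz hzi => by
    by_contra h
    exact Nat.find_min hex (show i < Nat.find hex by omega) ⟨z, hz, hzi, h⟩
  have hyR : y ∈ R := (hDK hyD).1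
  have hyn : y ^ n = 1 := by
    obtain ⟨z, hz, rfl⟩ := id hyD
    refine hn _ ?_
    rcases hDsmall z hz with e | ⟨e2, e⟩
    · exact Or.inl (congrArg Subtype.val e)
    · exact Or.inr ⟨e2, congrArg Subtype.val e⟩
  set B := A ⊔ Subgroup.zpowers y with hB
  have hBs : Small S H n B := hA.sup (Small.zpowers (hR.1 hyR) (hDK hyD).2 hyn) fun a ha b hb =>
    Subgroup.mem_centralizer_iff.1 (hAc (Subgroup.zpowers_le.2 (hR.1 hyR) hb)) a ha
  have hBR : B ≤ R := sup_le hAR (Subgroup.zpowers_le.2 hyR)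
  have hAB : Nat.card A < Nat.card B :=
    card_lt_of_lt hBs.le (lt_of_le_of_ne le_sup_left fun h =>
      hyA (h.ge (Subgroup.mem_sup_right (Subgroup.mem_zpowers y))))
  have hBn : ∀ x ∈ normalizerIn S R, ∀ b ∈ B, x * b * x⁻¹ ∈ B := by
    intro x hx b hb
    have hle : B ≤ B.comap (MulAut.conj x).toMonoidHom := by
      refine sup_le (fun a ha => ?_) (Subgroup.zpowers_le.2 ?_)
      · show x * a * x⁻¹ ∈ B
        rw [← Subgroup.mem_centralizer_iff.1 (hAc hx.1) a ha, mul_inv_cancel_right]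
        exact Subgroup.mem_sup_left ha
      · show x * y * x⁻¹ ∈ B
        have h2 : y⁻¹ * (x * y * x⁻¹) ∈ Z i := by
          obtain ⟨v, hv, hve⟩ := (Z (i + 1)).inv_mem hyZ
          refine ⟨⁅v, ⟨x, hx.1⟩⁆, Subgroup.mem_upperCentralSeries_succ_iff.1 hv _, ?_⟩
          change (v : Ω) = y⁻¹ at hve
          show (v : Ω) * x * (v : Ω)⁻¹ * x⁻¹ = y⁻¹ * (x * y * x⁻¹)
          rw [hve]; group
        have h3 : x * y * x⁻¹ = y * (y⁻¹ * (x * y * x⁻¹)) := (mul_inv_cancel_left _ _).symm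
        rw [h3]
        exact B.mul_mem (Subgroup.mem_sup_right (Subgroup.mem_zpowers y))
          (Subgroup.mem_sup_left (hlow _ (D.mul_mem (D.inv_mem hyD) (hDn x hx y hyD)) h2))
    exact hle hb
  -- the centralizer of `B` in `R`
  set C1 := centralizerIn R B with hC1
  have hBC1 : B ≤ C1 := fun b hb => ⟨hBR hb, Subgroup.mem_centralizer_iff.2 fun c hc => hBs.comm c hc b hb⟩
  have hC1R : C1 ≤ R := inf_le_left
  have hC1n : ∀ x ∈ normalizerIn S R, ∀ c ∈ C1, x * c * x⁻¹ ∈ C1 := by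
    intro x hx c hc
    refine ⟨conj_mem_of_normalizer hx.2 hc.1, Subgroup.mem_centralizer_iff.2 fun b hb => ?_⟩
    have hb' := hBn x⁻¹ ((normalizerIn S R).inv_mem hx) b hb
    have h := Subgroup.mem_centralizer_iff.1 hc.2 _ hb'
    have h' := congrArg (fun z => x * z * x⁻¹) h
    simpa [mul_assoc] using h'
  have hRN : R ≤ normalizerIn S R := le_normalizerIn hR.1
  let K : Subgroup (MulAut R) :=
    { carrier := {κ | κ ∈ F.autGroup R ∧ ∀ c ∈ C1, autFun κ c = c}
      one_mem' := ⟨one_mem _, fun c hc => autFun_one (hC1R hc)⟩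
      mul_mem' := fun {a b} ha hb => ⟨mul_mem ha.1 hb.1, fun c hc => by
        rw [autFun_mul _ _ (hC1R hc), hb.2 c hc, ha.2 c hc]⟩
      inv_mem' := fun {a} ha => ⟨inv_mem ha.1, fun c hc => by
        have h := autFun_inv_apply' a (hC1R hc)
        rwa [ha.2 c hc] at h⟩ }
  have hKT : K ≤ autInducedBy S R := by
    refine le_autInducedBy hS hRfa (fun κ hκ => hκ.1) ?_ ?_
    · refine isPGroup_of_coprime _ fun δ hδ hco => aut_ext fun r hr => ?_
      rw [autFun_one hr]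
      refine fix_of_fix_quotient hS hR.1 hco hr ?_
      have hu : r⁻¹ * autFun δ r ∈ R := R.mul_mem (R.inv_mem hr) (autFun_mem δ hr)
      refine hδ.2 _ ⟨hu, Subgroup.mem_centralizer_iff.2 fun b hb => ?_⟩
      have hb1 := hBn r (hRN hr) b hb
      have h1 : autFun δ (r * b * r⁻¹) = r * b * r⁻¹ := hδ.2 _ (hBC1 hb1)
      rw [((mem_autGroup hR.1).1 hδ.1).map_conj hr (hBR hb), hδ.2 b (hBC1 hb)] at h1
      have h2 := congrArg (fun z => r⁻¹ * z * autFun δ r) h1
      simpa [mul_assoc] using h2.symm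
    · intro γ hγ κ hκ
      refine ⟨mul_mem (mul_mem (autInducedBy_le_autGroup hR.1 hγ) hκ.1)
        (inv_mem (autInducedBy_le_autGroup hR.1 hγ)), fun c hc => ?_⟩
      obtain ⟨x, hx, hxe⟩ := mem_autInducedBy.1 (inv_mem hγ)
      have hc' : autFun γ⁻¹ c ∈ C1 := by
        rw [hxe c (hC1R hc)]
        refine hC1n x ⟨hx, mem_normalizer_of_aut (α := γ⁻¹) hxe⟩ c hc
      rw [autFun_conj _ _ (hC1R hc), hκ.2 _ hc', autFun_inv_apply γ (hC1R hc)]
  -- the restriction of `α` to `C1`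
  set f := autFun α with hf
  have hfR : img f R = R := img_autFun α
  have hRn1 : ∀ Q : Subgroup Ω, Q ≤ R → (∀ r ∈ R, ∀ c ∈ Q, r * c * r⁻¹ ∈ Q) →
      R ≤ normalizerIn S (img f Q) := by
    intro Q hQ hQn r hr
    have key : ∀ r ∈ R, ∀ d ∈ img f Q, r * d * r⁻¹ ∈ img f Q := by
      intro r hr d hd
      obtain ⟨c, hc, rfl⟩ := (hαm.mono hQ).mem_img.1 hd
      obtain ⟨r', hr', rfl⟩ := hαm.mem_img.1 (hfR.ge hr)
      rw [← hαm.map_conj hr' (hQ hc)]
      exact mem_img_of_mem (hQn r' hr' c hc)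
    exact ⟨hR.1 hr, mem_normalizer_of_conj (key r hr) fun d hd => by
      simpa [mul_assoc] using key r⁻¹ (R.inv_mem hr) d hd⟩
  have hconjE : ∀ {X Y : Subgroup Ω}, Small S H n X → F.IsConj X Y → E.IsConj X Y := fun hX hc => by
    obtain ⟨g, hg, hgi⟩ := isConj_iff.1 hc
    exact isConj_iff.2 ⟨g, hsmall _ hX g hg, hgi⟩
  have hEconj : ∀ {X Y : Subgroup Ω}, E.IsConj X Y → F.IsConj X Y := fun hc => by
    obtain ⟨g, hg, hgi⟩ := isConj_iff.1 hc
    exact isConj_iff.2 ⟨g, hEFm _ g hg, hgi⟩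
  have hC1E : IsMap E C1 f := by
    obtain ⟨B', hBB', hB'n⟩ := exists_fullyNormalized (F := F) hBs.le
    have hB'nE : E.IsFullyNormalized B' := ⟨hB'n.1, fun Q hQ => hB'n.2 Q (hEconj hQ)⟩
    have hB's : Small S H n B' := by
      obtain ⟨g, hg, rfl⟩ := isConj_iff.1 hBB'
      exact hBs.img hcl hg
    have hB1 : F.IsConj B (img f B) := isConj_iff.2 ⟨f, hαm.mono hBR, rfl⟩
    have hB1s : Small S H n (img f B) := hBs.img hcl (hαm.mono hBR)
    obtain ⟨g1, hg1, hg1i, -⟩ := exists_normalizer_map_fn hS hE hB'nE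
      (hconjE hB1s (isConj_trans (isConj_symm hB1) hBB'))
    have hRN1 : R ≤ normalizerIn S (img f B) := hRn1 B hBR fun r hr => hBn r (hRN hr)
    have hfN : ∀ x ∈ R, f x ∈ normalizerIn S (img f B) := fun x hx => hRN1 (autFun_mem α hx)
    have hφ : IsMap F R (g1 ∘ f) := hαm.comp (hEFm _ _ hg1) hfN
    have hφB : img (g1 ∘ f) B = B' := by rw [(hαm.mono hBR).img_comp, hg1i]
    obtain ⟨ψ, hψ, hψe⟩ := extend (fullyNormalized_spec hS hE hB'nE).2
      (hsmall B hBs _ (hφ.mono hBR)) hφB (N := R) fun r hr =>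
        ⟨hR.1 hr, mem_normalizer_of_conj (hBn r (hRN hr)) (fun b hb => by
          simpa [mul_assoc] using hBn r⁻¹ ((normalizerIn S R).inv_mem (hRN hr)) b hb),
          (g1 ∘ f) r, hφ.mem hr, fun b hb => hφ.map_conj hr (hBR hb)⟩
    have hψC : IsMap E C1 ψ := hψ.mono (hC1R.trans le_sup_right)
    obtain ⟨ψ', hψ', hψl, hψr, -⟩ := hψC.inv
    set P' := img ψ C1 with hP'
    have hμ : IsMap F P' ((g1 ∘ f) ∘ ψ') := (hEFm _ _ hψ').comp hφ fun x hx => by
      obtain ⟨c, hc, rfl⟩ := hψC.mem_img.1 hx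
      rw [hψl c hc]; exact hC1R hc
    have hB'P : B' ≤ P' := by
      intro b hb
      obtain ⟨a, ha, rfl⟩ := (hφ.mono hBR).mem_img.1 (hφB.ge hb)
      rw [← hψe a ha]; exact mem_img_of_mem (hBC1 ha)
    have hfix : ∀ x ∈ B', ((g1 ∘ f) ∘ ψ') x = x := by
      intro b hb
      obtain ⟨a, ha, rfl⟩ := (hφ.mono hBR).mem_img.1 (hφB.ge hb)
      conv_lhs => rw [Function.comp_apply, ← hψe a ha, hψl a (hBC1 ha)]
    have hP'C : P' ≤ centralizerIn S B' := by
      intro x hx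
      obtain ⟨c, hc, rfl⟩ := hψC.mem_img.1 hx
      refine ⟨hψC.mem hc, Subgroup.mem_centralizer_iff.2 fun b hb => ?_⟩
      obtain ⟨a, ha, rfl⟩ := (hφ.mono hBR).mem_img.1 (hφB.ge hb)
      rw [← hψe a ha, ← hψC.map_mul (hBC1 ha) hc, ← hψC.map_mul hc (hBC1 ha),
        Subgroup.mem_centralizer_iff.1 hc.2 a ha]
    obtain ⟨CF, hCF⟩ := exists_centralizerSystem F hB'n.1
    obtain ⟨CE, hCE⟩ := exists_centralizerSystem E hB'n.1
    haveI := finite_of_le (centralizerIn_le (S := S) B')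
    have hB'C : B' ≤ centralizerIn S B' := hB'P.trans hP'C
    have hB'card : Nat.card B' = Nat.card B := card_eq_of_isConj hBB'
    have hlt : Nat.card ↥(centralizerIn S B') - Nat.card B' < m := by
      have h1 := Subgroup.card_le_of_le (centralizerIn_le (S := S) B')
      have h2 := Subgroup.card_le_of_le hB'C
      omega
    have hCFE : ∀ P g, IsMap CF P g → IsMap F P g := fun P g h => (isMap_of_centralizerSystem hCF h).1
    have hIH : CF ≤ CE := ih _ hlt (centralizerIn S B') CF CE B' (isPGroup_of_le hS (centralizerIn_le B'))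
      (centralizerSystem_saturated hS hF (fullyCentralized_of_fullyNormalized hS hF hB'n) hCF)
      (centralizerSystem_saturated hS hE (fullyCentralized_of_fullyNormalized hS hE hB'nE) hCE)
      (le_iff.2 fun P g hg => by
        obtain ⟨-, hPC, k, hk, hke, hkfix⟩ := isMap_of_centralizerSystem hCE hg
        exact (isMap_centralizer_of_fix hCF (hEFm _ _ hk) le_sup_left le_sup_right hkfix hPC).congr hke)
      (fun P g hg => hcl P g (hCFE P g hg))
      (fun P hP γ hγ => hshift P (hP.trans (centralizerIn_le B')) γ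
        ((mem_autGroup (hP.trans (centralizerIn_le B'))).2 (hCFE _ _ ((mem_autGroup hP).1 hγ))))
      (fun X hX g hg => by
        obtain ⟨-, hXC, k, hk, hke, hkfix⟩ := isMap_of_centralizerSystem hCF hg
        have hXs : Small S H n X := ⟨hX.le.trans (centralizerIn_le B'), hX.leH, hX.comm, hX.pow⟩
        have hk' := hsmall _ (hXs.sup hB's fun a ha b hb =>
          (Subgroup.mem_centralizer_iff.1 (hXC ha).2 b hb).symm) k hk
        exact (isMap_centralizer_of_fix hCE hk' le_sup_left le_sup_right hkfix hXC).congr hke)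
      ⟨hB'C, hB's.leH, hB's.comm, hB's.pow⟩ inf_le_right
      (fun P g hg => by
        obtain ⟨-, hPC, k, hk, hke, hkfix⟩ := isMap_of_centralizerSystem hCF hg
        exact ⟨k, isMap_centralizer_of_fix hCF hk le_rfl le_sup_right hkfix (sup_le hPC hB'C), hke, hkfix⟩)
      rfl
    have hμE : IsMap E P' ((g1 ∘ f) ∘ ψ') :=
      (isMap_of_centralizerSystem hCE (le_iff.1 hIH _ _
        (isMap_centralizer_of_fix hCF hμ le_rfl hB'P hfix hP'C))).1
    obtain ⟨g1', hg1', hg1l, -, -⟩ := hg1.inv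
    have h1 : IsMap E C1 (((g1 ∘ f) ∘ ψ') ∘ ψ) := hψC.comp hμE fun c hc => mem_img_of_mem hc
    refine (h1.comp hg1' fun c hc => ?_).congr fun c hc => ?_
    · simp only [Function.comp_apply]; rw [hψl c hc]; exact mem_img_of_mem (hfN c (hC1R hc))
    · simp only [Function.comp_apply]; rw [hψl c hc, hg1l _ (hfN c (hC1R hc))]
  -- moving the image of `C1` to a fully normalized subgroup of `E`
  obtain ⟨C3, hC23, hC3⟩ := exists_fullyNormalized (F := E) (P := img f C1) hC1E.img_le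
  obtain ⟨g2, hg2, hg2i, -⟩ := exists_normalizer_map_fn hS hE hC3 hC23
  have hRN2 : R ≤ normalizerIn S (img f C1) := hRn1 C1 hC1R fun r hr => hC1n r (hRN hr)
  have hfN : ∀ x ∈ R, f x ∈ normalizerIn S (img f C1) := fun x hx => hRN2 (autFun_mem α hx)
  have hβ : IsMap F R (g2 ∘ f) := hαm.comp (hEFm _ _ hg2) hfN
  obtain ⟨β', hβ', hβl, hβr, hβi⟩ := hβ.inv
  set R'' := img (g2 ∘ f) R with hR''
  haveI := finite_of_le hβ.img_le
  suffices hβE : IsMap E R (g2 ∘ f) by
    obtain ⟨g2', hg2', hg2l, -, -⟩ := hg2.inv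
    refine (mem_autGroup hR.1).2 ((hβE.comp hg2' fun x hx => mem_img_of_mem (hfN x hx)).congr fun x hx => ?_)
    simp only [Function.comp_apply]
    exact hg2l _ (hfN x hx)
  have hC3i : img (g2 ∘ f) C1 = C3 := by rw [(hαm.mono hC1R).img_comp, hg2i]
  have hR''N : R'' ≤ normalizerIn S C3 := by
    intro u hu
    refine ⟨hβ.img_le hu, mem_normalizer_of_conj ?_ ?_⟩ <;> intro d hd <;>
      obtain ⟨c, hc, rfl⟩ := (hβ.mono hC1R).mem_img.1 (hC3i.ge hd) <;>
      obtain ⟨r, hr, rfl⟩ := hβ.mem_img.1 hu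
    · rw [← hβ.map_conj hr (hC1R hc), ← hC3i]
      exact mem_img_of_mem (hC1n r (hRN hr) c hc)
    · rw [← hC3i]
      have h := hC1n r⁻¹ (hRN (R.inv_mem hr)) c hc
      rw [inv_inv] at h
      rw [show ((g2 ∘ f) r)⁻¹ * (g2 ∘ f) c * (g2 ∘ f) r = (g2 ∘ f) (r⁻¹ * c * r) by
        rw [hβ.map_mul (R.mul_mem (R.inv_mem hr) (hC1R hc)) hr, hβ.map_mul (R.inv_mem hr) (hC1R hc),
          hβ.map_inv hr]]
      exact mem_img_of_mem h
  by_cases hZc : ∀ z ∈ centralizerIn S C3, z ∈ Subgroup.normalizer (R'' : Set Ω) → z ∈ R''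
  · have hZR : centralizerIn S C3 ≤ R'' := by
      haveI := finite_of_le (normalizerIn_le (S := S) C3)
      refine le_of_normalizer_le (S := normalizerIn S C3) (isPGroup_of_le hS (normalizerIn_le C3)) hR''N
        (centralizerIn_le_normalizerIn C3) ?_ hZc
      intro x hx
      have key : ∀ x ∈ normalizerIn S C3, ∀ z ∈ centralizerIn S C3, x * z * x⁻¹ ∈ centralizerIn S C3 := by
        intro x hx z hz
        refine ⟨S.mul_mem (S.mul_mem hx.1 hz.1) (S.inv_mem hx.1), Subgroup.mem_centralizer_iff.2 fun d hd => ?_⟩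
        have h := congrArg (fun w => x * w * x⁻¹)
          (Subgroup.mem_centralizer_iff.1 hz.2 _ (conj_mem_of_normalizer' hx.2 hd))
        simpa [mul_assoc] using h
      exact mem_normalizer_of_conj (key x hx) fun z hz => by
        simpa using key x⁻¹ ((normalizerIn S C3).inv_mem hx) z hz
    have hφ3 : IsMap E C1 (g2 ∘ f) := hC1E.comp hg2 fun c hc => hfN c (hC1R hc)
    obtain ⟨e, he, hee⟩ := extend (fullyNormalized_spec hS hE hC3).2 hφ3 hC3i (N := R) fun r hr =>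
      ⟨hR.1 hr, mem_normalizer_of_conj (hC1n r (hRN hr)) (fun c hc => by
        simpa [mul_assoc] using hC1n r⁻¹ ((normalizerIn S R).inv_mem (hRN hr)) c hc),
        (g2 ∘ f) r, hβ.mem hr, fun c hc => hβ.map_conj hr (hC1R hc)⟩
    have heR : IsMap E R e := he.mono le_sup_right
    have hmem : ∀ u ∈ R, e u ∈ R'' := by
      intro u hu
      have hw : ((g2 ∘ f) u)⁻¹ * e u ∈ centralizerIn S C3 := by
        refine ⟨S.mul_mem (S.inv_mem (hβ.mem hu)) (heR.mem hu), Subgroup.mem_centralizer_iff.2 fun d hd => ?_⟩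
        obtain ⟨c, hc, rfl⟩ := hφ3.mem_img.1 (hC3i.ge hd)
        have h1 := hee _ (hC1n u (hRN hu) c hc)
        rw [heR.map_conj hu (hC1R hc), hee c hc, hβ.map_conj hu (hC1R hc)] at h1
        have h2 := congrArg (fun z => ((g2 ∘ f) u)⁻¹ * z * e u) h1
        simpa [mul_assoc] using h2.symm
      have h3 := R''.mul_mem (mem_img_of_mem hu) (hZR hw)
      rwa [mul_inv_cancel_left] at h3
    have hν : IsMap F R (β' ∘ e) := (hEFm _ _ heR).comp hβ' hmem
    have hνi : img (β' ∘ e) R = R := Subgroup.eq_of_le_of_card_ge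
      (img_le_iff.2 fun u hu => hβi ▸ mem_img_of_mem (hmem u hu)) hν.card_img.ge
    obtain ⟨κ, hκ, hκe⟩ := exists_aut hν hνi
    have hκK : κ ∈ K := ⟨hκ, fun c hc => by
      rw [hκe c (hC1R hc), Function.comp_apply, hee c hc, hβl c (hC1R hc)]⟩
    have hκinv : IsMap E R (autFun κ⁻¹) := (mem_autGroup hR.1).1 (inv_mem (hTE (hKT hκK)))
    refine (hκinv.comp heR fun x hx => autFun_mem _ hx).congr fun x hx => ?_
    have h1 := congrArg (g2 ∘ f) (hκe (autFun κ⁻¹ x) (autFun_mem _ hx))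
    rw [autFun_inv_apply κ hx, Function.comp_apply (f := β'), hβr _ (hmem _ (autFun_mem _ hx))] at h1
    exact h1.symm
  · push Not at hZc
    obtain ⟨z₀, hz₀, hz₀N, hz₀R⟩ := hZc
    set N := centralizerIn S C3 ⊓ Subgroup.normalizer (R'' : Set Ω) with hN
    obtain ⟨k, hk, hke⟩ := extend (fullyNormalized_spec hS hF hR).2 hβ' hβi (N := N) (by
      intro z hz
      have hzS : z ∈ S := hz.1.1
      have hconj : IsMap F R'' (conjF z) := IsMap.conj F hβ.img_le hzS
      have hc1 : ∀ u ∈ R, conjF z ((g2 ∘ f) u) ∈ R'' := fun u hu => by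
        rw [conjF_apply]; exact conj_mem_of_normalizer hz.2 (mem_img_of_mem hu)
      have hκ0 : IsMap F R (β' ∘ conjF z ∘ (g2 ∘ f)) :=
        (hβ.comp hconj fun u hu => mem_img_of_mem hu).comp hβ' hc1
      have hκi : img (β' ∘ conjF z ∘ (g2 ∘ f)) R = R := Subgroup.eq_of_le_of_card_ge
        (img_le_iff.2 fun u hu => hβi ▸ mem_img_of_mem (hc1 u hu)) hκ0.card_img.ge
      obtain ⟨κ, hκ, hκe⟩ := exists_aut hκ0 hκi
      have hκK : κ ∈ K := ⟨hκ, fun c hc => by
        rw [hκe c (hC1R hc), Function.comp_apply, Function.comp_apply, conjF_apply,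
          ← Subgroup.mem_centralizer_iff.1 hz.1.2 ((g2 ∘ f) c) (hC3i ▸ mem_img_of_mem hc),
          mul_inv_cancel_right, hβl c (hC1R hc)]⟩
      obtain ⟨x, hx, hxe⟩ := mem_autInducedBy.1 (hKT hκK)
      refine ⟨hzS, hz.2, x, hx, fun v hv => ?_⟩
      obtain ⟨u, hu, rfl⟩ := hβ.mem_img.1 hv
      rw [hβl u hu, ← hxe u hu, hκe u hu]
      rfl)
    have hlt : Nat.card R < Nat.card ↥(R'' ⊔ N) := by
      rw [← hβ.card_img]
      exact card_lt_of_lt hk.le (lt_of_le_of_ne le_sup_left fun h =>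
        hz₀R (h.ge (Subgroup.mem_sup_right ⟨hz₀, hz₀N⟩)))
    have hβ'E : IsMap E R'' β' := ((big _ hk.le hlt k hk).mono le_sup_left).congr hke
    obtain ⟨β'', hβ'', hβ''l, -, -⟩ := hβ'E.inv
    rw [hβi] at hβ''
    exact hβ''.congr fun u hu => by
      conv_lhs => rw [← hβl u hu]
      exact hβ''l _ (mem_img_of_mem hu)

/-- Small abelian subgroups of the hyperfocal subgroup control fusion. -/
theorem hom_eq_of_small (hS : IsPGroup p S) {E F : FusionSystem S} (hE : E.IsSaturated p) (hF : F.IsSaturated p)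
    (hEF : E.IsSubsystemOf F)
    (hodd : p ≠ 2 → ∀ A B : Subgroup Ω, A ≤ F.hyperfocalSubgroup p → B ≤ F.hyperfocalSubgroup p →
      IsElementaryAbelian p A → IsElementaryAbelian p B → E.homSet A B = F.homSet A B)
    (htwo : p = 2 → ∀ A B : Subgroup Ω, A ≤ F.hyperfocalSubgroup p → B ≤ F.hyperfocalSubgroup p →
      IsMulCommutative ↥A → IsMulCommutative ↥B → (∀ a ∈ A, a ^ 4 = 1) → (∀ b ∈ B, b ^ 4 = 1) →
      E.homSet A B = F.homSet A B)
    (P : Subgroup Ω) : E.Hom P = F.Hom P := by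
  set Hy := F.hyperfocalSubgroup p with hHy
  have hEFm := isSubsystemOf_iff.1 hEF
  have hcl : ∀ P f, IsMap F P f → ∀ x ∈ P, x ∈ Hy → f x ∈ Hy := fun P f hf x hx hxT => by
    obtain ⟨c, hc, hce⟩ := conj_mod hS hF (hyperfocal_normal hS) (hyperfocal_le_iff.1 le_rfl) hf
    have h := Subgroup.mul_mem _ (conj_mem_of_normalizer (hyperfocal_normal hS hc) hxT) (hce x hx)
    rwa [mul_inv_cancel_left] at h
  set n := if p = 2 then 4 else p with hn
  have hmain : F ≤ E := by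
    refine le_of_small Hy n ?_ _ S F E ⊥ hS hF hE (le_iff.2 hEFm) hcl (hyperfocal_le_iff.1 le_rfl) ?_
      ⟨bot_le, bot_le, fun a ha b _ => by rw [Subgroup.mem_bot.1 ha, one_mul, mul_one],
        fun a ha => by rw [Subgroup.mem_bot.1 ha, one_pow]⟩
      (fun x _ => Subgroup.mem_centralizer_iff.2 fun a ha => by
        rw [Subgroup.mem_bot.1 ha, one_mul, mul_one])
      (fun P f hf => ⟨f, by rwa [sup_bot_eq], fun _ _ => rfl, fun x hx => by
        rw [Subgroup.mem_bot.1 hx, hf.map_one]⟩) rfl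
    · rintro z (hz | ⟨hp2, hz⟩)
      · by_cases hp2 : p = 2
        · rw [hn, if_pos hp2, show (4 : ℕ) = p * 2 by omega, pow_mul, hz, one_pow]
        · rw [hn, if_neg hp2]; exact hz
      · rw [hn, if_pos hp2]; exact hz
    · intro X hX g hg
      have hY := hX.img hcl hg
      obtain ⟨φ, hφ, hφe⟩ := hg
      have hmem : φ ∈ F.homSet X (img g X) := ⟨hφ, fun x => hφe x ▸ mem_img_of_mem x.2⟩
      have hcom : ∀ {Z : Subgroup Ω}, Small S Hy n Z → IsMulCommutative ↥Z := fun hZ =>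
        ⟨⟨fun a b => Subtype.ext (hZ.comm a a.2 b b.2)⟩⟩
      by_cases hp2 : p = 2
      · have hpow : ∀ {Z : Subgroup Ω}, Small S Hy n Z → ∀ a ∈ Z, a ^ 4 = 1 := fun hZ a ha => by
          simpa [hn, hp2] using hZ.pow a ha
        rw [← htwo hp2 X _ hX.leH hY.leH (hcom hX) (hcom hY) (hpow hX) (hpow hY)] at hmem
        exact ⟨φ, hmem.1, hφe⟩
      · have hpow : ∀ {Z : Subgroup Ω}, Small S Hy n Z → ∀ a ∈ Z, a ^ p = 1 := fun hZ a ha => by
          simpa [hn, hp2] using hZ.pow a ha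
        rw [← hodd hp2 X _ hX.leH hY.leH ⟨hcom hX, hpow hX⟩ ⟨hcom hY, hpow hY⟩] at hmem
        exact ⟨φ, hmem.1, hφe⟩
  exact hom_ext (fun P f => ⟨hEFm P f, le_iff.1 hmain P f⟩) P

end CfsgLib.Fus.SmallCtrl
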