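import Cfsg.Agent.Fus.SmallElements
import Cfsg.Agent.Solv.ClassTwo

/-!
Maps between small cyclic subgroups of the hyperfocal subgroup extending to `S` force `S` to be normal.
-/

set_option autoImplicit false
set_option linter.style.haveILetI false

open Cfsg Cfsg.FusionSystem
open scoped commutatorElement

namespace CfsgLib.Fus.SmallNormal

variable {Ω : Type*} [Group Ω] {S : Subgroup Ω} {F : FusionSystem S} {p : ℕ}

/-- The small elements of a critical subgroup form a subgroup. -/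
theorem small_subgroup {G : Type*} [Group G] [Finite G] [hp : Fact p.Prime] (hG : IsPGroup p G) :
    ∃ D : Subgroup G, (∀ x ∈ D, x ^ p = 1 ∨ (p = 2 ∧ x ^ 4 = 1)) ∧ D.Characteristic ∧
      ∀ a : MulAut G, Nat.Coprime (orderOf a) p → (∀ x ∈ D, a x = x) → a = 1 := by
  obtain ⟨H, hHc, h1, h2, h3⟩ := CfsgLib.Solv.exists_critical hG
  haveI := hHc
  set n := if p = 2 then 4 else p with hn
  have hsmall : ∀ x : G, x ^ n = 1 → (x ^ p = 1 ∨ (p = 2 ∧ x ^ 4 = 1)) := by
    intro x hx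
    by_cases hp2 : p = 2
    · exact Or.inr ⟨hp2, by rwa [hn, if_pos hp2] at hx⟩
    · exact Or.inl (by rwa [hn, if_neg hp2] at hx)
  have hsmall' : ∀ x : G, (x ^ p = 1 ∨ (p = 2 ∧ x ^ 4 = 1)) → x ^ n = 1 := by
    rintro x (hx | ⟨hp2, hx⟩)
    · by_cases hp2 : p = 2
      · rw [hn, if_pos hp2, show (4 : ℕ) = p * 2 by omega, pow_mul, hx, one_pow]
      · rw [hn, if_neg hp2]; exact hx
    · rw [hn, if_pos hp2]; exact hx
  let D : Subgroup G :=
    { carrier := {x | x ∈ H ∧ x ^ n = 1}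
      one_mem' := ⟨H.one_mem, one_pow n⟩
      inv_mem' := fun {x} hx => ⟨H.inv_mem hx.1, by rw [inv_pow, hx.2, inv_one]⟩
      mul_mem' := by
        rintro x y ⟨hx, hxn⟩ ⟨hy, hyn⟩
        refine ⟨H.mul_mem hx hy, ?_⟩
        have hc1 : Commute ⁅y, x⁆ x := CfsgLib.Solv.commute_of_critical h2 hy hx hx
        have hc2 : Commute ⁅y, x⁆ y := CfsgLib.Solv.commute_of_critical h2 hy hx hy
        have hd : ⁅y, x⁆ ^ p = 1 := by
          rw [← CfsgLib.Solv.pow_commutator_right hc1, commutatorElement_eq_one_iff_mul_comm]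
          have hz : x ^ p ∈ Subgroup.centralizer (H : Set G) :=
            h1 ⟨(⟨x, hx⟩ : H) ^ p, CfsgLib.Solv.pow_mem_frattini (hG.to_subgroup H) ⟨x, hx⟩, rfl⟩
          exact Subgroup.mem_centralizer_iff.1 hz y hy
        by_cases hp2 : p = 2
        · rw [hn, if_pos hp2] at hxn hyn ⊢
          rw [CfsgLib.Solv.pow_mul_of_commutator hc1 hc2, show Nat.choose 4 2 = 2 * 3 by rfl, pow_mul, ← hp2, hd,
            one_pow, one_mul, hxn, hyn, one_mul]
        · rw [hn, if_neg hp2] at hxn hyn ⊢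
          rw [CfsgLib.Solv.mul_pow_prime hp2 hc1 hc2 hd, hxn, hyn, one_mul] }
  refine ⟨D, fun x hx => hsmall x hx.2, ?_, fun a ha hfix => ?_⟩
  · rw [Subgroup.characteristic_iff_map_le]
    rintro a _ ⟨x, hx, rfl⟩
    exact ⟨CfsgLib.Solv.map_mem_of_characteristic a hx.1, by
      show (a x) ^ n = 1
      rw [← map_pow, hx.2, map_one]⟩
  · refine CfsgLib.Solv.aut_eq_one_of_fix hG h3 ha ?_
    -- the restriction to the critical subgroup
    let b : MulAut H := (a.subgroupMap H).trans (MulEquiv.subgroupCongr (Subgroup.characteristic_iff_map_eq.1 hHc a))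
    have hb : ∀ x : H, (b x : G) = a x := fun x => rfl
    have hord : orderOf b ∣ orderOf a := by
      refine orderOf_dvd_of_pow_eq_one (MulEquiv.ext fun x => Subtype.ext ?_)
      have hbn : ∀ (k : ℕ) (y : H), ((b ^ k) y : G) = (a ^ k) y := by
        intro k
        induction k with
        | zero => intro y; rfl
        | succ k ih => intro y; rw [pow_succ, pow_succ, MulAut.mul_apply, MulAut.mul_apply, ih, hb]
      rw [hbn, pow_orderOf_eq_one]; rfl
    have h := CfsgLib.Base.SmallFix.aut_eq_one_of_fix_small (hG.to_subgroup H) (ha.of_dvd_left hord) fun x hx =>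
      Subtype.ext ((hb x).trans (hfix x ⟨x.2, hsmall' _ (by
        rcases hx with hx | ⟨e, hx⟩
        · exact Or.inl (congrArg Subtype.val hx)
        · exact Or.inr ⟨e, congrArg Subtype.val hx⟩)⟩))
    intro x hx
    rw [← hb ⟨x, hx⟩, h]; rfl

universe u

theorem normal_of_small_extend {Ω : Type u} [Group Ω] {S : Subgroup Ω} {F : FusionSystem S} [Finite S]
    [hp : Fact p.Prime] (hS : IsPGroup p S) (hF : F.IsSaturated p)
    (h : ∀ A B : Subgroup Ω, A ≤ (F.hyperfocalSubgroup p) → B ≤ (F.hyperfocalSubgroup p) → IsCyclic ↥A →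
      (Nat.card ↥A = p ∨ Nat.card ↥A = 4) → IsCyclic ↥B → (Nat.card ↥B = p ∨ Nat.card ↥B = 4) →
      F.homSet A B ⊆ F.normalizerHom S A) :
    F.IsNormal S := by
  refine normal_of_closed hS hF ⟨le_rfl, fun R _ φ hφ x => (F.le_of_mem hφ).2 x⟩ fun P hc hr => ?_
  refine le_of_normalizer_le hS hc.1 le_rfl Subgroup.le_normalizer fun x hx hxn => ?_
  haveI := finite_of_le hc.1
  haveI := finite_mulAut hc.1
  set A := F.autGroup P with hA
  -- the subgroup generated by the shifts of the elements of order prime to `p`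
  set K : Subgroup Ω := Subgroup.closure {z | ∃ α ∈ A, (orderOf α).Coprime p ∧ ∃ y ∈ P, z = y⁻¹ * autFun α y}
    with hK
  have hKP : K ≤ P := (Subgroup.closure_le _).2 (by
    rintro _ ⟨α, -, -, y, hy, rfl⟩; exact P.mul_mem (P.inv_mem hy) (autFun_mem α hy))
  have hKH : K ≤ F.hyperfocalSubgroup p := (Subgroup.closure_le _).2 (by
    rintro _ ⟨α, hα, hco, y, hy, rfl⟩; exact hyperfocal_le_iff.1 le_rfl P hc.1 α hα hco y hy)
  have hKinv : ∀ β ∈ A, ∀ z ∈ K, autFun β z ∈ K := by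
    intro β hβ z hz
    induction hz using Subgroup.closure_induction with
    | mem z hz =>
      obtain ⟨α, hα, hco, y, hy, rfl⟩ := hz
      refine Subgroup.subset_closure ⟨β * α * β⁻¹, A.mul_mem (A.mul_mem hβ hα) (A.inv_mem hβ), ?_,
        autFun β y, autFun_mem β hy, ?_⟩
      · rwa [← MulAut.conj_apply, MulEquiv.orderOf_eq]
      · rw [autFun_map_mul β (P.inv_mem hy) (autFun_mem α hy), autFun_map_inv β hy,
          autFun_conj _ _ (autFun_mem β hy), autFun_inv_apply' β hy]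
    | one =>
      rw [autFun_of_mem β P.one_mem, show (⟨1, P.one_mem⟩ : P) = 1 from rfl, map_one]
      exact K.one_mem
    | mul a b ha hb iha ihb => rw [autFun_map_mul β (hKP ha) (hKP hb)]; exact K.mul_mem iha ihb
    | inv a ha iha => rw [autFun_map_inv β (hKP ha)]; exact K.inv_mem iha
  haveI := finite_of_le (hKP.trans hc.1)
  obtain ⟨D₀, hDsmall, hDchar, hDfix⟩ := small_subgroup (hS.to_le (hKP.trans hc.1))
  set D := D₀.map K.subtype with hD
  have hDK : D ≤ K := Subgroup.map_subtype_le D₀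
  have hDinv : ∀ β ∈ A, ∀ z ∈ D, autFun β z ∈ D := by
    rintro β hβ _ ⟨z, hz, rfl⟩
    obtain ⟨a, -, ha⟩ := exists_restrict_aut hKP β (hKinv β hβ)
    exact ⟨a z, CfsgLib.Solv.map_mem_of_characteristic (hA := hDchar) a hz, (autFun_apply a z).symm.trans (ha z z.2)⟩
  have hDs : ∀ z ∈ D, z ^ p = 1 ∨ (p = 2 ∧ z ^ 4 = 1) := by
    rintro _ ⟨z, hz, rfl⟩
    rcases hDsmall z hz with e | ⟨e2, e⟩
    · exact Or.inl (congrArg Subtype.val e)
    · exact Or.inr ⟨e2, congrArg Subtype.val e⟩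
  set Z : ℕ → Subgroup Ω := fun i => (Subgroup.upperCentralSeries ↥S i).map S.subtype with hZ
  have hcyc : ∀ z ∈ D, z ≠ 1 → Nat.card ↥(Subgroup.zpowers z) = p ∨ Nat.card ↥(Subgroup.zpowers z) = 4 := by
    intro z hz hz1
    rw [Nat.card_zpowers]
    by_cases e : z ^ p = 1
    · exact Or.inl (orderOf_eq_prime e hz1)
    · obtain ⟨rfl, e4⟩ := (hDs z hz).resolve_left e
      exact Or.inr (orderOf_eq_prime_pow (n := 1) (by simpa using e) (by simpa using e4))
  -- the layers are invariant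
  have hlayer : ∀ β ∈ A, ∀ i, ∀ z ∈ D, z ∈ Z i → autFun β z ∈ Z i := by
    intro β hβ i z hz hzi
    by_cases hz1 : z = 1
    · subst hz1
      rw [autFun_of_mem β P.one_mem, show (⟨1, P.one_mem⟩ : P) = 1 from rfl, map_one]
      exact (Z i).one_mem
    have hzP : z ∈ P := hKP (hDK hz)
    have hz' := hDinv β hβ z hz
    have hz'1 : autFun β z ≠ 1 := fun e => hz1 (by
      have e2 := autFun_inv_apply' β hzP
      rw [e, autFun_of_mem _ P.one_mem, show (⟨1, P.one_mem⟩ : P) = 1 from rfl, map_one] at e2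
      exact e2.symm)
    have hzP' : Subgroup.zpowers z ≤ P := Subgroup.zpowers_le.2 hzP
    obtain ⟨φ, hφ, hφe⟩ := ((mem_autGroup hc.1).1 hβ).mono hzP'
    have hmem : φ ∈ F.homSet (Subgroup.zpowers z) (Subgroup.zpowers (autFun β z)) := by
      refine ⟨hφ, fun y => ?_⟩
      obtain ⟨j, hj⟩ := Subgroup.mem_zpowers_iff.1 y.2
      rw [show y = (⟨z, Subgroup.mem_zpowers z⟩ : Subgroup.zpowers z) ^ j from Subtype.ext hj.symm, map_zpow,
        hφe ⟨z, Subgroup.mem_zpowers z⟩]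
      exact Subgroup.zpow_mem _ (Subgroup.mem_zpowers _) _
    obtain ⟨-, -, -, ψ, hψ, hψe, hψS⟩ := h _ _ (Subgroup.zpowers_le.2 (hKH (hDK hz)))
      (Subgroup.zpowers_le.2 (hKH (hDK hz'))) inferInstance (hcyc z hz hz1) inferInstance (hcyc _ hz' hz'1) hmem
    let g : ↥S →* ↥S := MonoidHom.mk' (fun s => ⟨ψ (Subgroup.inclusion le_sup_right s), hψS.le
      ⟨Subgroup.inclusion le_sup_right s, s.2, rfl⟩⟩) fun a b => Subtype.ext (by simp)
    have hg : Function.Surjective g := Finite.injective_iff_surjective.1 fun a b hab =>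
      Subgroup.inclusion_injective le_sup_right (F.injective_of_mem hψ (congrArg Subtype.val hab))
    obtain ⟨s, hs, hsz⟩ := hzi
    subst hsz
    refine ⟨g s, Subgroup.upperCentralSeries.map hg i ⟨s, hs, rfl⟩, ?_⟩
    show ψ (Subgroup.inclusion le_sup_right s) = _
    exact (hψe ⟨s, Subgroup.mem_zpowers _⟩).trans (hφe ⟨s, Subgroup.mem_zpowers _⟩)
  let W : Subgroup (MulAut P) :=
    { carrier := {κ | κ ∈ A ∧ ∀ i, ∀ z ∈ D, z ∈ Z (i + 1) → z⁻¹ * autFun κ z ∈ Z i}
      one_mem' := ⟨A.one_mem, fun i z hz _ => by rw [autFun_one (hKP (hDK hz)), inv_mul_cancel]; exact one_mem _⟩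
      mul_mem' := by
        rintro κ μ ⟨hκA, hκ⟩ ⟨hμA, hμ⟩
        refine ⟨A.mul_mem hκA hμA, fun i z hz hzi => ?_⟩
        rw [autFun_mul _ _ (hKP (hDK hz))]
        have := (Z i).mul_mem (hμ i z hz hzi) (hκ i _ (hDinv μ hμA z hz) (hlayer μ hμA _ z hz hzi))
        simpa [mul_assoc] using this
      inv_mem' := by
        rintro κ ⟨hκA, hκ⟩
        refine ⟨A.inv_mem hκA, fun i z hz hzi => ?_⟩
        have h1 := hκ i _ (hDinv κ⁻¹ (A.inv_mem hκA) z hz) (hlayer κ⁻¹ (A.inv_mem hκA) _ z hz hzi)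
        rw [autFun_inv_apply κ (hKP (hDK hz))] at h1
        simpa using (Z i).inv_mem h1 }
  have hWn : ∀ β ∈ A, ∀ κ ∈ W, β * κ * β⁻¹ ∈ W := by
    rintro β hβ κ ⟨hκA, hκ⟩
    refine ⟨A.mul_mem (A.mul_mem hβ hκA) (A.inv_mem hβ), fun i z hz hzi => ?_⟩
    have hzP := hKP (hDK hz)
    set u := autFun β⁻¹ z with hu
    have huD : u ∈ D := hDinv _ (A.inv_mem hβ) z hz
    have h1 := hκ i u huD (hlayer _ (A.inv_mem hβ) _ z hz hzi)
    have h2 := hlayer β hβ i _ (D.mul_mem (D.inv_mem huD) (hDinv κ hκA u huD)) h1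
    rw [autFun_map_mul β (P.inv_mem (hKP (hDK huD))) (autFun_mem κ (hKP (hDK huD))),
      autFun_map_inv β (hKP (hDK huD)), hu, autFun_inv_apply β hzP] at h2
    rwa [autFun_conj _ _ hzP]
  have hconjZ : ∀ i, ∀ s ∈ S, ∀ y ∈ Z (i + 1), y⁻¹ * (s * y * s⁻¹) ∈ Z i := by
    intro i s hs y hy
    obtain ⟨u, hu, hue⟩ := (Z (i + 1)).inv_mem hy
    refine ⟨⁅u, ⟨s, hs⟩⁆, Subgroup.mem_upperCentralSeries_succ_iff.1 hu _, ?_⟩
    change (u : Ω) = y⁻¹ at hue
    show (u : Ω) * s * (u : Ω)⁻¹ * s⁻¹ = y⁻¹ * (s * y * s⁻¹)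
    rw [hue]; group
  have hWp : IsPGroup p W := isPGroup_of_ppow _ fun γ hγ => by
    obtain ⟨k, b, hb, hn⟩ := Nat.exists_eq_pow_mul_and_not_dvd (orderOf_pos γ).ne' p hp.out.ne_one
    refine ⟨k, ?_⟩
    set δ := γ ^ p ^ k with hδdef
    have hδW : δ ∈ W := W.pow_mem hγ _
    have hδo : orderOf δ = b := by
      rw [hδdef, orderOf_pow' _ (pow_ne_zero _ hp.out.pos.ne'), hn, Nat.gcd_eq_right (dvd_mul_right _ _),
        Nat.mul_div_cancel_left _ (pow_pos hp.out.pos k)]
    have hco : (orderOf δ).Coprime p := hδo ▸ (hp.out.coprime_iff_not_dvd.2 hb).symm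
    have key : ∀ i, ∀ z ∈ D, z ∈ Z i → autFun δ z = z := by
      intro i
      induction i with
      | zero =>
        intro z hz hzi
        rw [hZ] at hzi
        simp only [Subgroup.upperCentralSeries_zero, Subgroup.map_bot, Subgroup.mem_bot] at hzi
        subst hzi
        rw [autFun_of_mem δ (hKP (hDK hz))]
        exact congrArg Subtype.val (map_one δ)
      | succ i ih =>
        intro z hz hzi
        exact fix_of_fix_quotient hS hc.1 hco (hKP (hDK hz))
          (ih _ (D.mul_mem (D.inv_mem hz) (hDinv δ hδW.1 z hz)) (hδW.2 i z hz hzi))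
    haveI := hS.isNilpotent
    obtain ⟨n, hn⟩ := Group.IsNilpotent.nilpotent' (G := ↥S)
    obtain ⟨a, hao, ha⟩ := exists_restrict_aut hKP δ (hKinv δ hδW.1)
    have ha1 := hDfix a (hco.of_dvd_left hao) fun z hz => Subtype.ext (by
      rw [← autFun_apply a z, ha z z.2]
      exact key n z ⟨z, hz, rfl⟩ ⟨⟨z, (hKP.trans hc.1) z.2⟩, hn ▸ Subgroup.mem_top _, rfl⟩)
    exact aut_ext fun y hy => by
      rw [autFun_one hy]
      refine fix_of_fix_quotient hS hc.1 hco hy ?_
      have hmem : y⁻¹ * autFun δ y ∈ K := Subgroup.subset_closure ⟨δ, hδW.1, hco, y, hy, rfl⟩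
      rw [← ha _ hmem, ha1, autFun_one hmem]
  obtain ⟨κ, hκ, hκe⟩ := exists_autInducedBy (K := S) hx hxn
  exact mem_of_centric_radical hc hr W (fun γ hγ => hγ.1) hWp hWn hx
    (show κ ∈ W from ⟨autInducedBy_le_autGroup hc.1 hκ, fun i z hz hzi => by
      rw [hκe z (hKP (hDK hz))]; exact hconjZ i x hx z hzi⟩) hκe

end CfsgLib.Fus.SmallNormal
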