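import Cfsg.Agent.Perm.PrimePSL

/-!
Data for the projective special linear groups of degree eleven and thirteen.
-/

set_option autoImplicit false

namespace CfsgLib.Fus.SmallPSL

open CfsgLib.Perm.PrimePSL

theorem cert_eleven : cert 11 2 5 = true := by decide +kernel
theorem cert_thirteen : cert 13 2 6 = true := by decide +kernel

theorem data_eleven : Data 11 2 5 := ⟨by norm_num, by decide, by decide, by decide +kernel, cert_eleven⟩
theorem data_thirteen : Data 13 2 6 := ⟨by norm_num, by decide, by decide +kernel, by decide +kernel, cert_thirteen⟩

end CfsgLib.Fus.SmallPSL
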