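import Cfsg.Agent.Fus.SmallElements

/-!
Small elements of the focal subgroup generating normal subgroups of `S`.
-/

set_option autoImplicit false
set_option linter.style.haveILetI false

open Cfsg Cfsg.FusionSystem

namespace CfsgLib.Fus

variable {Ω : Type*} [Group Ω] {S : Subgroup Ω} {F : FusionSystem S} {p : ℕ}

/-- A `p`-element normalizing a subgroup of order `p` centralizes it. -/
theorem conj_eq_of_prime {G : Type*} [Group G] {p : ℕ} [hp : Fact p.Prime] {x y : G} {k : ℕ}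
    (hxk : x ^ p ^ k = 1) (hy : y ^ p = 1) (h : x * y * x⁻¹ ∈ Subgroup.zpowers y) : x * y * x⁻¹ = y := by
  rcases eq_or_ne y 1 with rfl | hy1
  · simp
  obtain ⟨i, hi⟩ := h
  have hord : orderOf y = p :=
    ((Nat.dvd_prime hp.out).1 (orderOf_dvd_of_pow_eq_one hy)).resolve_left (fun e => hy1 (orderOf_eq_one_iff.1 e))
  have hit : ∀ n : ℕ, x ^ n * y * (x ^ n)⁻¹ = y ^ (i ^ n) := by
    intro n
    induction n with
    | zero => simp
    | succ n ih =>
      calc x ^ (n + 1) * y * (x ^ (n + 1))⁻¹ = x * (x ^ n * y * (x ^ n)⁻¹) * x⁻¹ := by rw [pow_succ']; group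
        _ = (x * y * x⁻¹) ^ (i ^ n) := by rw [ih, conj_zpow]
        _ = y ^ (i ^ (n + 1)) := by
          change y ^ i = x * y * x⁻¹ at hi
          rw [← hi, ← zpow_mul, pow_succ']
  have h1 := hit (p ^ k)
  rw [hxk, one_mul, inv_one, mul_one] at h1
  have h2 : (1 : ℤ) ≡ i ^ (p ^ k) [ZMOD (p : ℤ)] := by
    have := zpow_eq_zpow_iff_modEq.1 (((zpow_one y).trans h1) : y ^ (1 : ℤ) = y ^ (i ^ p ^ k))
    rwa [hord] at this
  have h3 : ((i : ℤ) : ZMod p) = 1 := by
    have := (ZMod.intCast_eq_intCast_iff _ _ p).2 h2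
    rw [Int.cast_one, Int.cast_pow, ZMod.pow_card_pow] at this
    exact this.symm
  have h4 : i ≡ 1 [ZMOD (p : ℤ)] := (ZMod.intCast_eq_intCast_iff _ _ p).1 (by rw [h3, Int.cast_one])
  change y ^ i = x * y * x⁻¹ at hi
  rw [← hi]
  conv_rhs => rw [← zpow_one y]
  rw [zpow_eq_zpow_iff_modEq, hord]
  exact h4

theorem normal_of_small_power [Finite S] [hp : Fact p.Prime] (hS : IsPGroup p S) (hF : F.IsSaturated p)
    (h : ∀ x ∈ F.focalSubgroup, (x ^ p = 1 ∨ (p = 2 ∧ x ^ 4 = 1)) → ∀ s ∈ S, s * x * s⁻¹ ∈ Subgroup.zpowers x) :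
    F.IsNormal S := by
  refine normal_of_closed hS hF ⟨le_rfl, fun R _ φ hφ x => (F.le_of_mem hφ).2 x⟩ fun P hc hr => ?_
  refine le_of_normalizer_le hS hc.1 le_rfl Subgroup.le_normalizer fun x hx hxn => ?_
  haveI := finite_of_le hc.1
  haveI := finite_mulAut hc.1
  have hmul : ∀ (β : MulAut P) {u : Ω}, u ∈ P → u ∈ F.focalSubgroup → β ∈ F.autGroup P → autFun β u ∈ F.focalSubgroup := by
    intro β u hu huf hβ
    have h1 := mem_focal_of_map (F := F) ((mem_autGroup hc.1).1 hβ) hu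
    have := F.focalSubgroup.mul_mem huf h1
    rwa [mul_inv_cancel_left] at this
  have hpow : ∀ (β : MulAut P) {u : Ω}, u ∈ P → ∀ i : ℤ, autFun β (u ^ i) = autFun β u ^ i := by
    intro β u hu i
    rw [autFun_of_mem β hu, autFun_of_mem β (P.zpow_mem hu i), show (⟨u ^ i, P.zpow_mem hu i⟩ : P) = ⟨u, hu⟩ ^ i from rfl,
      map_zpow]
    rfl
  have hpown : ∀ (β : MulAut P) {u : Ω}, u ∈ P → ∀ n : ℕ, autFun β u ^ n = autFun β (u ^ n) := fun β u hu n => by
    rw [← zpow_natCast, ← hpow β hu, zpow_natCast]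
  let M : Submonoid (MulAut P) :=
    { carrier := {κ | κ ∈ F.autGroup P ∧ ∀ y ∈ P, y ∈ F.focalSubgroup → (y ^ p = 1 ∨ (p = 2 ∧ y ^ 4 = 1)) →
        autFun κ y ∈ Subgroup.zpowers y ∧ (y ^ p = 1 → autFun κ y = y)}
      one_mem' := ⟨Subgroup.one_mem _, fun y hy _ _ => by rw [autFun_one hy]; exact ⟨Subgroup.mem_zpowers y, fun _ => rfl⟩⟩
      mul_mem' := by
        rintro κ μ ⟨hκA, hκ⟩ ⟨hμA, hμ⟩
        refine ⟨Subgroup.mul_mem _ hκA hμA, fun y hy hyf hys => ?_⟩
        obtain ⟨⟨i, hi⟩, hfix⟩ := hμ y hy hyf hys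
        rw [autFun_mul _ _ hy]
        refine ⟨?_, fun e => by rw [hfix e]; exact (hκ y hy hyf hys).2 e⟩
        obtain ⟨⟨j, hj⟩, -⟩ := hκ y hy hyf hys
        change y ^ i = autFun μ y at hi
        change y ^ j = autFun κ y at hj
        rw [← hi, hpow κ hy, ← hj, ← zpow_mul]
        exact ⟨j * i, rfl⟩ }
  let W : Subgroup (MulAut P) :=
    { M with
      inv_mem' := fun {a} ha => by
        show a⁻¹ ∈ M
        rw [inv_eq_of_mul_eq_one_right (show a * a ^ (orderOf a - 1) = 1 by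
          rw [← pow_succ', Nat.sub_add_cancel (orderOf_pos a), pow_orderOf_eq_one])]
        exact M.pow_mem ha _ }
  have hWn : ∀ β ∈ F.autGroup P, ∀ κ ∈ W, β * κ * β⁻¹ ∈ W := by
    rintro β hβ κ ⟨hκA, hκ⟩
    refine ⟨Subgroup.mul_mem _ (Subgroup.mul_mem _ hβ hκA) (Subgroup.inv_mem _ hβ), fun y hy hyf hys => ?_⟩
    set u := autFun β⁻¹ y with hu
    have huP : u ∈ P := autFun_mem _ hy
    have hus : u ^ p = 1 ∨ (p = 2 ∧ u ^ 4 = 1) := by
      rcases hys with e | ⟨h2, e⟩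
      · left; rw [hu, hpown _ hy, e, autFun_of_mem _ P.one_mem]; exact congrArg Subtype.val (map_one _)
      · right; refine ⟨h2, ?_⟩; rw [hu, hpown _ hy, e, autFun_of_mem _ P.one_mem]; exact congrArg Subtype.val (map_one _)
    obtain ⟨⟨i, hi⟩, hfix⟩ := hκ u huP (hmul _ hy hyf (Subgroup.inv_mem _ hβ)) hus
    rw [autFun_conj _ _ hy, ← hu]
    refine ⟨?_, fun e => ?_⟩
    · change u ^ i = autFun κ u at hi
      rw [← hi, hpow β huP, hu, autFun_inv_apply β hy]
      exact ⟨i, rfl⟩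
    · have hup : u ^ p = 1 := by rw [hu, hpown _ hy, e, autFun_of_mem _ P.one_mem]; exact congrArg Subtype.val (map_one _)
      rw [hfix hup, hu, autFun_inv_apply β hy]
  have hWp : IsPGroup p W := isPGroup_of_ppow _ fun γ hγ => by
    obtain ⟨k, b, hb, hn⟩ := Nat.exists_eq_pow_mul_and_not_dvd (orderOf_pos γ).ne' p hp.out.ne_one
    refine ⟨k, ?_⟩
    set δ := γ ^ p ^ k with hδdef
    have hδW : δ ∈ W := W.pow_mem hγ _
    have hδo : orderOf δ = b := by
      rw [hδdef, orderOf_pow' _ (pow_ne_zero _ hp.out.pos.ne'), hn, Nat.gcd_eq_right (dvd_mul_right _ _),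
        Nat.mul_div_cancel_left _ (pow_pos hp.out.pos k)]
    have hco : (orderOf δ).Coprime p := hδo ▸ (hp.out.coprime_iff_not_dvd.2 hb).symm
    set R := P ⊓ F.focalSubgroup with hR
    have hfixR : ∀ y ∈ R, autFun δ y = y := by
      refine fix_of_fix_small hS hc.1 inf_le_left hco
        (fun y hy => Subgroup.mem_inf.2 ⟨autFun_mem δ hy.1, hmul δ hy.1 hy.2 hδW.1⟩) fun y hy hys => ?_
      obtain ⟨⟨i, hi⟩, hfix⟩ := hδW.2 y hy.1 hy.2 hys
      rcases hys with e | ⟨h2, e⟩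
      · exact hfix e
      by_cases he : y ^ p = 1
      · exact hfix he
      change y ^ i = autFun δ y at hi
      subst h2
      have ho : orderOf y = 4 := orderOf_eq_prime_pow (p := 2) (n := 1) (by simpa using he) (by simpa using e)
      have hz : autFun δ y = y ∨ autFun δ y = y⁻¹ := by
        have hsq : ¬ (autFun δ y) ^ 2 = 1 := fun h1 => by
          rw [hpown δ hy.1] at h1
          refine he ?_
          have := congrArg (autFun δ⁻¹) h1
          rwa [autFun_inv_apply' δ (P.pow_mem hy.1 2), autFun_of_mem _ P.one_mem,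
            show (⟨1, P.one_mem⟩ : P) = 1 from rfl, map_one] at this
        rw [← hi] at hsq ⊢
        rcases (by omega : i % 4 = 0 ∨ i % 4 = 1 ∨ i % 4 = 2 ∨ i % 4 = 3) with h0 | h0 | h0 | h0
        all_goals
          have hyi : y ^ i = y ^ (i % 4) := by rw [← zpow_mod_orderOf, ho]; rfl
          rw [hyi, h0] at hsq ⊢
        · simp at hsq
        · exact Or.inl (zpow_one y)
        · exact absurd (by rw [← zpow_natCast, ← zpow_mul]; exact_mod_cast e) hsq
        · right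
          rw [eq_inv_iff_mul_eq_one, ← zpow_add_one]
          exact_mod_cast e
      have h2 : autFun (δ ^ 2) y = y := by
        rw [pow_two, autFun_mul _ _ hy.1]
        rcases hz with h1 | h1
        · rw [h1, h1]
        · rw [h1, autFun_map_inv δ hy.1, h1, inv_inv]
      obtain ⟨j, hj⟩ := exists_pow_eq_self_of_coprime (x := δ) (n := 2) hco.symm
      have h3 : ∀ j : ℕ, autFun ((δ ^ 2) ^ j) y = y := by
        intro j
        induction j with
        | zero => simp [autFun_one hy.1]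
        | succ j ih => rw [pow_succ, autFun_mul _ _ hy.1, h2, ih]
      rw [← hj]
      exact h3 j
    exact aut_ext fun y hy => by
      rw [autFun_one hy]
      exact fix_of_fix_quotient hS hc.1 hco hy (hfixR _ (Subgroup.mem_inf.2
        ⟨P.mul_mem (P.inv_mem hy) (autFun_mem δ hy), mem_focal_of_map ((mem_autGroup hc.1).1 hδW.1) hy⟩))
  obtain ⟨κ, hκ, hκe⟩ := exists_autInducedBy (K := S) hx hxn
  refine mem_of_centric_radical hc hr W (fun γ hγ => hγ.1) hWp hWn hx
    (show κ ∈ W from ⟨autInducedBy_le_autGroup hc.1 hκ, fun y hy hyf hys => ?_⟩) hκe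
  rw [hκe y hy]
  refine ⟨h y hyf hys x hx, fun e => ?_⟩
  obtain ⟨k, hk⟩ := hS ⟨x, hx⟩
  exact conj_eq_of_prime (congrArg Subtype.val hk) e (h y hyf hys x hx)

end CfsgLib.Fus
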