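import Cfsg.Agent.Solv.PComplement
import Cfsg.Agent.Inv.DihedralSylow
import Mathlib.GroupTheory.SpecificGroups.Dihedral

/-!
Odd elements normalizing small or dihedral `2`-subgroups.
-/

set_option autoImplicit false
set_option linter.style.haveILetI false

open CfsgLib.Solv

namespace CfsgLib.Fus.SmallTwo

theorem prime_auto_small {Q : Type*} [Group Q] [Finite Q] (σ : MulAut Q) {r : ℕ} [hr : Fact r.Prime]
    (hσ : orderOf σ = r) : ∃ F : Subgroup Q, F ≠ ⊤ ∧ Nat.card Q ≡ Nat.card F [MOD r] := by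
  let F : Subgroup Q := MonoidHom.eqLocus σ.toMonoidHom (MonoidHom.id Q)
  refine ⟨F, fun h => ?_, ?_⟩
  · have : σ = 1 := MulEquiv.ext fun x => (show x ∈ F from h ▸ Subgroup.mem_top x)
    rw [this, orderOf_one] at hσ
    exact hr.out.one_lt.ne hσ
  · have hP : IsPGroup r (Subgroup.zpowers σ) := IsPGroup.of_card (n := 1) (by rw [Nat.card_zpowers, hσ, pow_one])
    have h := hP.card_modEq_card_fixedPoints Q
    have e : MulAction.fixedPoints (Subgroup.zpowers σ) Q = (F : Set Q) := Set.ext fun x => by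
      refine ⟨fun hx => hx ⟨σ, Subgroup.mem_zpowers σ⟩, fun hx s => ?_⟩
      have hst : σ ∈ MulAction.stabilizer (MulAut Q) x := hx
      exact (Subgroup.zpowers_le.2 hst) s.2
    rw [e] at h
    exact h

theorem exists_auto_of_not_hnpc {G : Type*} [Group G] [Finite G] (h : ¬ Cfsg.HasNormalPComplement 2 G) :
    ∃ Q : Subgroup G, IsPGroup 2 Q ∧ ∃ σ : MulAut Q, ∃ r : ℕ, r.Prime ∧ r ≠ 2 ∧ orderOf σ = r ∧ r ∣ Nat.card G := by
  have h' : ¬ FrobCond 2 G := fun hf => h (hnpc_iff_frobCond.2 hf)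
  simp only [FrobCond, not_forall] at h'
  obtain ⟨Q, hQ, g, hg, hc, hgc⟩ := h'
  set n : ↥(Subgroup.normalizer (Q : Set G)) := ⟨g, hg⟩
  have hd : orderOf (Q.normalizerMonoidHom n) ∣ orderOf g :=
    (orderOf_map_dvd _ n).trans (Subgroup.orderOf_mk g hg).dvd
  have h1 : orderOf (Q.normalizerMonoidHom n) ≠ 1 := fun he => hgc (by
    have hk : n ∈ Q.normalizerMonoidHom.ker := orderOf_eq_one_iff.1 he
    rw [Subgroup.normalizerMonoidHom_ker, Subgroup.mem_subgroupOf] at hk
    exact hk)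
  obtain ⟨r, hr, hrd⟩ := Nat.exists_prime_and_dvd h1
  refine ⟨Q, hQ, (Q.normalizerMonoidHom n) ^ (orderOf (Q.normalizerMonoidHom n) / r), r, hr, ?_, ?_,
    (hrd.trans hd).trans (orderOf_dvd_natCard g)⟩
  · rintro rfl
    exact Nat.prime_two.one_lt.ne' (Nat.eq_one_of_dvd_coprimes hc (hrd.trans hd) dvd_rfl)
  · exact orderOf_pow_orderOf_div (orderOf_pos _).ne' hrd

theorem dvd_of_simple {G : Type*} [Group G] [Finite G] [IsSimpleGroup G] (hG : ¬ IsMulCommutative G)
    (h2 : Even (Nat.card G)) : 12 ∣ Nat.card G ∨ 16 ∣ Nat.card G ∨ 56 ∣ Nat.card G := by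
  by_cases h16 : 16 ∣ Nat.card G
  · exact Or.inr (Or.inl h16)
  have hn : ¬ Cfsg.HasNormalPComplement 2 G := fun h => by
    haveI := CfsgLib.Inv.pResidual_normal 2 G
    rcases Subgroup.Normal.eq_bot_or_eq_top (inferInstance : (Cfsg.pResidual 2 G).Normal) with hb | hb
    · obtain ⟨m, hm⟩ := exists_index_pResidual (G := G) (p := 2)
      rw [hb, Subgroup.index_bot] at hm
      have hP : IsPGroup 2 G := IsPGroup.of_card hm
      haveI : Nontrivial (Subgroup.center G) := hP.center_nontrivial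
      rcases Subgroup.Normal.eq_bot_or_eq_top (inferInstance : (Subgroup.center G).Normal) with hz | hz
      · exact Subgroup.nontrivial_iff_ne_bot _ |>.1 inferInstance hz
      · exact hG ⟨⟨fun a b => (Subgroup.mem_center_iff.1 (hz ▸ Subgroup.mem_top a) b).symm⟩⟩
    · have := hnpc_iff.1 h
      rw [hb, Subgroup.card_top] at this
      exact this (even_iff_two_dvd.1 h2)
  obtain ⟨Q, hQ, σ, r, hr, hr2, hσ, hrG⟩ := exists_auto_of_not_hnpc hn
  haveI := Fact.mk hr
  obtain ⟨F, hF, hmod⟩ := prime_auto_small σ hσ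
  obtain ⟨k, hk⟩ := IsPGroup.iff_card.1 hQ
  obtain ⟨j, hj, hjc⟩ := (Nat.dvd_prime_pow Nat.prime_two).1 (hk ▸ F.card_subgroup_dvd_card)
  have hjk : j < k := by
    refine lt_of_le_of_ne hj fun e => hF (Subgroup.eq_top_of_card_eq F (by rw [hjc, hk, e]))
  have hk3 : k ≤ 3 := by
    by_contra hk4
    exact h16 (((pow_dvd_pow 2 (show 4 ≤ k by omega)).trans hk.symm.dvd).trans Q.card_subgroup_dvd_card)
  have hd : (r : ℤ) ∣ ((Nat.card F : ℕ) : ℤ) - ((Nat.card Q : ℕ) : ℤ) := Nat.modEq_iff_dvd.1 hmod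
  rw [hk, hjc] at hd
  have h2r : ∀ i : ℕ, ¬ r ∣ 2 ^ i := fun i hi => hr2 ((Nat.prime_dvd_prime_iff_eq hr Nat.prime_two).1 (hr.dvd_of_dvd_pow hi))
  have hcase : (r = 3 ∧ 2 ≤ k) ∨ (r = 7 ∧ k = 3) := by
    interval_cases k <;> interval_cases j <;> norm_num at hd <;>
      rw [Int.natCast_dvd] at hd <;> norm_num at hd <;>
      first
        | exact absurd hd hr.one_lt.ne'
        | exact absurd (hd.trans (dvd_refl _)) (h2r 1)
        | exact absurd (hd.trans (dvd_refl _)) (h2r 2)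
        | (left; exact ⟨(Nat.prime_dvd_prime_iff_eq hr Nat.prime_three).1 hd, by norm_num⟩)
        | (left; refine ⟨(Nat.prime_dvd_prime_iff_eq hr Nat.prime_three).1 (((Nat.Prime.dvd_mul hr).1 (show r ∣ 2 * 3 from hd)).resolve_left (h2r 1)), ?_⟩; norm_num)
        | (right; exact ⟨(Nat.prime_dvd_prime_iff_eq hr (by norm_num)).1 hd, rfl⟩)
  rcases hcase with ⟨rfl, hk2⟩ | ⟨rfl, rfl⟩
  · left
    have h4 : 4 ∣ Nat.card G := ((pow_dvd_pow 2 hk2).trans hk.symm.dvd).trans Q.card_subgroup_dvd_card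
    exact Nat.Coprime.mul_dvd_of_dvd_of_dvd (by norm_num : Nat.Coprime 4 3) h4 hrG
  · right; right
    have h8 : 8 ∣ Nat.card G := (show 2 ^ 3 ∣ Nat.card Q from hk.symm.dvd).trans Q.card_subgroup_dvd_card
    exact Nat.Coprime.mul_dvd_of_dvd_of_dvd (by norm_num : Nat.Coprime 8 7) h8 hrG

theorem commute_of_pow {G : Type*} [Group G] {g y w : G} (hy : g * y * g⁻¹ = y * w) (hgw : Commute g w) :
    ∀ k : ℕ, g ^ k * y * (g ^ k)⁻¹ = y * w ^ k := by
  intro k
  induction k with
  | zero => simp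
  | succ k ih =>
    calc g ^ (k + 1) * y * (g ^ (k + 1))⁻¹ = g * (g ^ k * y * (g ^ k)⁻¹) * g⁻¹ := by rw [pow_succ']; group
      _ = g * (y * w ^ k) * g⁻¹ := by rw [ih]
      _ = (g * y * g⁻¹) * (g * w ^ k * g⁻¹) := by group
      _ = y * w ^ (k + 1) := by rw [hy, (hgw.pow_right k).eq, mul_inv_cancel_right, pow_succ']; group

/-- An element of odd order centralizing an involution of a dihedral `2`-group it normalizes centralizes the group. -/
theorem centralizes {G : Type*} [Group G] [Finite G] {n : ℕ} {U : Subgroup G} (hU : IsPGroup 2 U)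
    (f : ↥U →* DihedralGroup n) (hf : Function.Injective f) {t g : G} (htU : t ∈ U) (ht : orderOf t = 2)
    (hgU : g ∈ Subgroup.normalizer (U : Set G)) (hgt : Commute g t) (hg : Odd (orderOf g)) :
    ∀ y ∈ U, Commute g y := by
  have hgconj : ∀ x ∈ U, g * x * g⁻¹ ∈ U := fun x hx => (Subgroup.mem_normalizer_iff.1 hgU x).1 hx
  let R : Subgroup ↥U := (Subgroup.zpowers (DihedralGroup.r (1 : ZMod n))).comap f
  have hR : ∀ x : U, x ∈ R ↔ ∃ i, f x = DihedralGroup.r i := by
    intro x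
    show f x ∈ Subgroup.zpowers _ ↔ _
    rw [Subgroup.mem_zpowers_iff]
    constructor
    · rintro ⟨k, hk⟩
      exact ⟨(k : ZMod n), by rw [← hk, DihedralGroup.r_one_zpow]⟩
    · rintro ⟨i, hi⟩
      obtain ⟨k, rfl⟩ := ZMod.intCast_surjective i
      exact ⟨k, by rw [DihedralGroup.r_one_zpow, hi]⟩
  have hout : ∀ x : U, x ∉ R → ∃ i, f x = DihedralGroup.sr i := by
    intro x hx
    cases hfx : f x with
    | r i => exact absurd ((hR x).2 ⟨i, hfx⟩) hx
    | sr i => exact ⟨i, rfl⟩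
  have hmul : ∀ x y : U, x ∉ R → y ∉ R → x⁻¹ * y ∈ R := by
    intro x y hx hy
    obtain ⟨i, hi⟩ := hout x hx
    obtain ⟨j, hj⟩ := hout y hy
    refine (hR _).2 ⟨j - i, ?_⟩
    rw [map_mul, map_inv, hi, hj]
    simp
  haveI : IsCyclic R := isCyclic_of_injective ((f.comp R.subtype).codRestrict (Subgroup.zpowers (DihedralGroup.r (1 : ZMod n))) fun x => x.2)
    (fun a b e => Subtype.ext (hf (congrArg Subtype.val e)))
  obtain ⟨⟨c, hcR⟩, hcgen⟩ := IsCyclic.exists_generator (α := R)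
  have hgenR : ∀ x ∈ R, ∃ k : ℤ, (c : U) ^ k = x := fun x hx => by
    obtain ⟨k, hk⟩ := Subgroup.mem_zpowers_iff.1 (hcgen ⟨x, hx⟩)
    exact ⟨k, congrArg Subtype.val hk⟩
  obtain ⟨d, hd⟩ := hg
  have hsq : ∀ x : G, Commute (g ^ 2) x → Commute g x := fun x hx => by
    have he : (g ^ 2) ^ (d + 1) = g := by
      rw [← pow_mul, show 2 * (d + 1) = orderOf g + 1 by omega, pow_succ, pow_orderOf_eq_one, one_mul]
    exact he ▸ hx.pow_left _
  have hgc : Commute g (c : G) := by
    by_cases hc2 : c ^ 2 = 1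
    · have hcases : ∀ x ∈ R, x = 1 ∨ x = c := fun x hx => by
        obtain ⟨k, rfl⟩ := hgenR x hx
        rw [← Int.ediv_mul_add_emod k 2, zpow_add, mul_comm, zpow_mul, zpow_ofNat, hc2, one_zpow, one_mul]
        rcases Int.emod_two_eq_zero_or_one k with h | h <;> simp [h]
      set c' : U := ⟨g * c * g⁻¹, hgconj _ c.2⟩
      rcases eq_or_ne c 1 with rfl | hc1
      · exact Commute.one_right g
      by_cases htR : (⟨t, htU⟩ : U) ∈ R
      · rcases hcases _ htR with h | h
        · have h' : t = 1 := congrArg Subtype.val h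
          rw [h'] at ht; simp at ht
        · exact (show t = c from congrArg Subtype.val h) ▸ hgt
      · refine hsq _ ?_
        by_cases hcR' : c' ∈ R
        · rcases hcases _ hcR' with h | h
          · exact absurd (Subtype.ext (conj_eq_one_iff.1 (congrArg Subtype.val h))) hc1
          · exact (mul_inv_eq_iff_eq_mul.1 (congrArg Subtype.val h : g * c * g⁻¹ = c) : g * c = c * g) |> fun e => Commute.pow_left e 2
        · have h1 := hmul _ _ htR hcR'
          rcases hcases _ h1 with h | h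
          · have h2 : g * (c : G) * g⁻¹ = t := (congrArg Subtype.val (inv_mul_eq_one.1 h)).symm
            have h3 : (c : G) = t := by
              calc (c : G) = g⁻¹ * (g * c * g⁻¹) * g := by group
                _ = g⁻¹ * (t * g) := by rw [h2]; group
                _ = t := by rw [← hgt.eq, inv_mul_cancel_left]
            exact absurd ((show c = ⟨t, htU⟩ from Subtype.ext h3) ▸ hcR) htR
          · have h2 : g * (c : G) * g⁻¹ = t * c := congrArg Subtype.val (inv_mul_eq_iff_eq_mul.1 h)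
            have htt : t * t = 1 := by rw [← pow_two, ← ht, pow_orderOf_eq_one]
            have h3 : g ^ 2 * (c : G) * (g ^ 2)⁻¹ = c := by
              calc g ^ 2 * (c : G) * (g ^ 2)⁻¹ = g * (g * c * g⁻¹) * g⁻¹ := by rw [pow_two]; group
                _ = g * (t * c) * g⁻¹ := by rw [h2]
                _ = (g * t * g⁻¹) * (g * c * g⁻¹) := by group
                _ = c := by rw [hgt.eq, mul_inv_cancel_right, h2, ← mul_assoc, htt, one_mul]
            exact mul_inv_eq_iff_eq_mul.1 h3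
    · have hgc' : g * c * g⁻¹ ∈ Subgroup.zpowers (c : G) := by
        have hin : (⟨g * c * g⁻¹, hgconj _ c.2⟩ : U) ∈ R := by
          by_contra hno
          obtain ⟨i, hi⟩ := hout _ hno
          refine hc2 (Subtype.ext ?_)
          have h1 := congrArg Subtype.val (hf (a₁ := (⟨g * c * g⁻¹, hgconj _ c.2⟩ : U) ^ 2) (a₂ := 1)
            (by rw [map_pow, hi, map_one, pow_two, DihedralGroup.sr_mul_self]))
          simp only [SubmonoidClass.coe_pow, OneMemClass.coe_one, conj_pow] at h1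
          exact conj_eq_one_iff.1 h1
        obtain ⟨k, hk⟩ := hgenR _ hin
        exact ⟨k, congrArg Subtype.val hk⟩
      obtain ⟨k, hk⟩ := IsPGroup.iff_orderOf.1 hU c
      exact CfsgLib.Inv.commute_of_cyclic_two ⟨d, hd⟩ k (c : G) (by rw [Subgroup.orderOf_coe, hk]) hgc'
  have hgR : ∀ x ∈ R, Commute g (x : G) := fun x hx => by
    obtain ⟨k, rfl⟩ := hgenR x hx
    rw [SubgroupClass.coe_zpow]; exact hgc.zpow_right k
  intro y hy
  by_cases hyR : (⟨y, hy⟩ : U) ∈ R
  · exact hgR _ hyR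
  · have hyR' : (⟨g * y * g⁻¹, hgconj y hy⟩ : U) ∉ R := fun h => by
      refine hyR ?_
      have h1 : Commute g (g * y * g⁻¹) := hgR _ h
      have h2 : g * y * g⁻¹ = y := by
        calc g * y * g⁻¹ = g⁻¹ * (g * (g * y * g⁻¹)) := by group
          _ = g⁻¹ * (g * y * g⁻¹ * g) := by rw [h1.eq]
          _ = y := by group
      convert h using 1
      exact Subtype.ext h2.symm
    have hw := hmul _ _ hyR hyR'
    set w : G := y⁻¹ * (g * y * g⁻¹) with hwdef
    have hgw : Commute g w := hgR _ hw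
    have h2 := commute_of_pow (y := y) (by rw [hwdef, mul_inv_cancel_left]) hgw (orderOf g)
    rw [pow_orderOf_eq_one, one_mul, inv_one, mul_one, left_eq_mul] at h2
    have hwU : w ∈ U := mul_mem (inv_mem hy) (hgconj y hy)
    obtain ⟨k, hk⟩ := IsPGroup.iff_orderOf.1 hU ⟨w, hwU⟩
    rw [Subgroup.orderOf_mk] at hk
    have hw1 : w = 1 := orderOf_eq_one_iff.1 (Nat.eq_one_of_dvd_coprimes
      (Nat.Coprime.pow_right k (Nat.coprime_two_right.2 ⟨d, hd⟩)) (orderOf_dvd_of_pow_eq_one h2) hk.dvd)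
    rw [hwdef, inv_mul_eq_one] at hw1
    exact mul_inv_eq_iff_eq_mul.1 hw1.symm

theorem centralizer_complement {X : Type*} [Group X] [Finite X] (S : Sylow 2 X) {n : ℕ}
    (e : ↥(S : Subgroup X) ≃* DihedralGroup n) {t : X} (ht : orderOf t = 2) :
    ∃ N : Subgroup (Subgroup.centralizer ({t} : Set X)), N.Normal ∧ Odd (Nat.card N) ∧ ∃ k : ℕ, N.index = 2 ^ k := by
  set C := Subgroup.centralizer ({t} : Set X)
  haveI := CfsgLib.Inv.pResidual_normal 2 ↥C
  refine ⟨Cfsg.pResidual 2 ↥C, inferInstance, ?_, exists_index_pResidual⟩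
  rw [← Nat.not_even_iff_odd, even_iff_two_dvd]
  refine hnpc_iff.1 (hnpc_iff_frobCond.2 fun Q hQ g hg hc => ?_)
  have htC : t ∈ C := Subgroup.mem_centralizer_singleton_iff.2 rfl
  have hgt : Commute (g : X) t := Subgroup.mem_centralizer_singleton_iff.1 g.2
  set U : Subgroup X := Q.map C.subtype ⊔ Subgroup.zpowers t
  have hQC : Q.map C.subtype ≤ Subgroup.centralizer ((Subgroup.zpowers t : Subgroup X) : Set X) := by
    rintro _ ⟨q, -, rfl⟩
    rw [Subgroup.mem_centralizer_iff]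
    rintro _ ⟨k, rfl⟩
    exact ((show Commute (q : X) t from Subgroup.mem_centralizer_singleton_iff.1 q.2).zpow_right k).symm
  have hU : IsPGroup 2 U := (hQ.map C.subtype).to_sup_of_normal_right'
    (IsPGroup.of_card (n := 1) (by rw [Nat.card_zpowers, ht, pow_one]))
    (hQC.trans (Subgroup.centralizer_le_normalizer (Subgroup.zpowers t : Set X)))
  obtain ⟨P, hP⟩ := hU.exists_le_sylow
  let f : ↥U →* DihedralGroup n := ((P.equiv S).trans e).toMonoidHom.comp (Subgroup.inclusion hP)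
  have hf : Function.Injective f := ((P.equiv S).trans e).injective.comp (Subgroup.inclusion_injective hP)
  have hconj : ∀ h : C, h ∈ Subgroup.normalizer (Q : Set C) → ∀ x ∈ U, (h : X) * x * (h : X)⁻¹ ∈ U := by
    intro h hh
    suffices U ≤ U.comap (MulAut.conj (h : X)).toMonoidHom from fun x hx => this hx
    refine sup_le ?_ (Subgroup.zpowers_le.2 ?_)
    · rintro _ ⟨q, hq, rfl⟩
      exact Subgroup.mem_sup_left ⟨h * q * h⁻¹, (Subgroup.mem_normalizer_iff.1 hh q).1 hq, rfl⟩
    · show (h : X) * t * (h : X)⁻¹ ∈ U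
      rw [(show Commute (h : X) t from Subgroup.mem_centralizer_singleton_iff.1 h.2).eq, mul_inv_cancel_right]
      exact Subgroup.mem_sup_right (Subgroup.mem_zpowers t)
  have hgU : (g : X) ∈ Subgroup.normalizer (U : Set X) := by
    refine Subgroup.mem_normalizer_iff.2 fun x => ⟨hconj g hg x, fun hx => ?_⟩
    have := hconj g⁻¹ (inv_mem hg) _ hx
    simpa [mul_assoc] using this
  have hodd : Odd (orderOf (g : X)) := by
    rw [Subgroup.orderOf_coe]; exact Nat.coprime_two_right.1 hc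
  have := centralizes hU f hf (Subgroup.mem_sup_right (Subgroup.mem_zpowers t)) ht hgU hgt hodd
  exact Subgroup.mem_centralizer_iff.2 fun q hq => Subtype.ext (this _ (Subgroup.mem_sup_left ⟨q, hq, rfl⟩)).symm.eq

end CfsgLib.Fus.SmallTwo
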