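import Cfsg.Agent.Fus.FactorSaturated
import Cfsg.Agent.Fus.Normal
import Cfsg.Agent.Fus.NormalizerSystem
import Cfsg.Agent.Fus.Centric
import Cfsg.Agent.Fus.Quotient

/-!
Solvable systems and chains of strongly closed subgroups with abelian steps.
-/

set_option autoImplicit false
set_option linter.style.haveILetI false

open Cfsg Cfsg.FusionSystem
open scoped commutatorElement

namespace CfsgLib.Fus

variable {Ω : Type*} [Group Ω] {S : Subgroup Ω} {F : FusionSystem S} {p : ℕ}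
variable {Ω' : Type*} [Group Ω'] {S' : Subgroup Ω'} {θ : ↥S →* Ω'} {T : Subgroup Ω} {E : FusionSystem S'}

theorem stronglyClosed_preimage_factor [Finite S] [Fact p.Prime] (hS : IsPGroup p S) (hF : F.IsSaturated p)
    (hT : F.StronglyClosed T) (hE : F.IsFactorSystem T θ E) {U' : Subgroup Ω'} (hU : E.StronglyClosed U') :
    F.StronglyClosed (preimageAlong θ U') := by
  refine stronglyClosed_iff.2 ⟨preimageAlong_le, fun P f hf x hxP hx => ?_⟩
  obtain ⟨g, hg, hge⟩ := exists_quot_map hS hF hT hf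
  set P' := ((P ⊔ T).subgroupOf S).map θ with hP'
  have hpre : preimageAlong θ P' ≤ P ⊔ T := fun z hz => by
    obtain ⟨hzS, q, hq, hqe⟩ := mem_preimageAlong.1 hz
    have h1 : ((q⁻¹ * ⟨z, hzS⟩ : ↥S) : Ω) ∈ T := (hE.2.1 _).1 (by rw [map_mul, map_inv, hqe, inv_mul_cancel])
    have h2 := Subgroup.mul_mem _ (show (q : Ω) ∈ P ⊔ T from hq) (Subgroup.mem_sup_right h1)
    simpa using h2
  have hP'S : P' ≤ S' := by
    rintro _ ⟨s, -, rfl⟩
    exact hE.2.2.1 ▸ ⟨s, rfl⟩
  obtain ⟨f', hf', hfv⟩ := Factor.push hT hE hP'S (hg.mono hpre)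
  have hxS : x ∈ S := hf.le hxP
  have hxpre : x ∈ preimageAlong θ P' :=
    mem_preimageAlong.2 ⟨hxS, ⟨x, hxS⟩, Subgroup.mem_sup_left hxP, rfl⟩
  obtain ⟨-, hxU⟩ := Factor.mem_pre.1 hx
  have h1 := (stronglyClosed_iff.1 hU).2 P' f' hf' _ (Factor.mem_pre.1 hxpre).2 hxU
  rw [hfv x hxpre] at h1
  refine Factor.mem_pre.2 ⟨hf.mem hxP, ?_⟩
  rwa [(Factor.th_eq_iff hE (hf.mem hxP) (hg.mem (Subgroup.mem_sup_left hxP))).2 (hge x hxP)]

theorem stronglyClosed_image_factor (hE : F.IsFactorSystem T θ E) {U : Subgroup Ω}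
    (hU : F.StronglyClosed U) : E.StronglyClosed ((U.subgroupOf S).map θ) := by
  refine stronglyClosed_iff.2 ⟨?_, fun P' f' hf' y hy hyU => ?_⟩
  · rintro _ ⟨s, -, rfl⟩
    exact hE.2.2.1 ▸ ⟨s, rfl⟩
  obtain ⟨u, hu, rfl⟩ := hyU
  obtain ⟨f, hf, hfv⟩ := Factor.lift hE hf'
  have hpre : (u : Ω) ∈ preimageAlong θ P' := mem_preimageAlong.2 ⟨u.2, hy⟩
  have h1 := hfv u hpre
  rw [Factor.th_coe] at h1
  rw [h1, Factor.th_of_mem (hf.mem hpre)]
  exact ⟨⟨_, hf.mem hpre⟩, (stronglyClosed_iff.1 hU).2 _ f hf u hpre hu, rfl⟩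

/-- A strongly closed subgroup of class at most two modulo a strongly closed central part is normal. -/
theorem isNormal_of_two_step [Finite S] [Fact p.Prime] (hS : IsPGroup p S) (hF : F.IsSaturated p) {A B : Subgroup Ω}
    (hA : F.StronglyClosed A) (hB : F.StronglyClosed B) (hBA : B ≤ A) (hAA : ⁅A, A⁆ ≤ B) (hBc : ⁅B, A⁆ = ⊥) :
    F.IsNormal A := by
  refine normal_of_series hS hF hA 2 (fun i => if i = 0 then ⊥ else if i = 1 then B else A) rfl rfl ?_ ?_ ?_
  · intro i _; split_ifs <;> simp [hBA]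
  · intro i hi; interval_cases i
    · simp [hBc]
    · simpa using hAA
  · intro i hi; interval_cases i
    · show F.WeaklyClosed ⊥
      refine weaklyClosed_iff.2 ⟨bot_le, fun f hf => ?_⟩
      refine eq_bot_iff.2 (img_le_iff.2 fun x hx => ?_)
      rw [Subgroup.mem_bot] at hx ⊢
      subst hx
      exact hf.map_one
    · exact stronglyClosed_weaklyClosed hB

theorem chain_of_solvable [Finite S] [hp : Fact p.Prime] (hS : IsPGroup p S) (hF : F.IsSaturated p)
    (h : F.IsSolvableSystem) : ∀ (d : ℕ) (R : Subgroup Ω), Nat.card S - Nat.card R = d → F.StronglyClosed R →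
      ∃ (n : ℕ) (C : ℕ → Subgroup Ω), C 0 = R ∧ C n = S ∧ (∀ i, C i ≤ C (i + 1)) ∧ (∀ i, F.StronglyClosed (C i)) ∧
        ∀ i < n, ⁅C (i + 1), C (i + 1)⁆ ≤ C i := by
  intro d
  induction d using Nat.strong_induction_on with
  | _ d ih =>
  intro R hd hR
  rcases eq_or_ne R S with rfl | hne
  · exact ⟨0, fun _ => R, rfl, rfl, fun _ => le_rfl, fun _ => hR, fun i hi => absurd hi (Nat.not_lt_zero i)⟩
  haveI hRn : (R.subgroupOf S).Normal :=
    ⟨fun a ha b => conj_mem_of_normalizer (P := R) (stronglyClosed_normal hR b.2) ha⟩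
  obtain ⟨E, hE⟩ := exists_factorSystem F hR
  have hcore := h R hR hne E hE
  have hEs := Factor.saturated hS hF hR hE
  haveI := Factor.finite_range hE
  have hEp := Factor.isPGroup_range hS hE
  have hQ := isNormal_core (F := E)
  set Q := E.core with hQdef
  haveI := finite_of_le hQ.1
  haveI : Nontrivial ↥Q := (Subgroup.nontrivial_iff_ne_bot _).2 hcore
  haveI := (hEp.to_le hQ.1).center_nontrivial
  set U' := (Subgroup.center ↥Q).map Q.subtype with hU'
  have hU'Q : U' ≤ Q := Subgroup.map_subtype_le _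
  have hU'n : E.IsNormal U' := isNormal_of_char hQ hU'Q (by
    rw [hU', show ((Subgroup.center ↥Q).map Q.subtype).subgroupOf Q = Subgroup.center ↥Q from
      Subgroup.comap_map_eq_self_of_injective Q.subtype_injective _]
    infer_instance)
  set U := preimageAlong (QuotientGroup.mk' (R.subgroupOf S)) U' with hU
  have hUc : F.StronglyClosed U := stronglyClosed_preimage_factor hS hF hR hE (isNormal_stronglyClosed hU'n)
  have hRU : R ≤ U := Factor.le_pre hE U'
  have hcomm : ⁅U, U⁆ ≤ R := Subgroup.commutator_le.2 fun a ha b hb => by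
    obtain ⟨haS, a', ha', hae⟩ := mem_preimageAlong.1 ha
    obtain ⟨hbS, b', hb', hbe⟩ := mem_preimageAlong.1 hb
    refine (hE.2.1 ⁅(⟨a, haS⟩ : ↥S), ⟨b, hbS⟩⁆).1 ?_
    rw [map_commutatorElement, ← hae, ← hbe]
    show ⁅Q.subtype a', Q.subtype b'⁆ = 1
    rw [← map_commutatorElement, commutatorElement_eq_one_iff_mul_comm.2 (Subgroup.mem_center_iff.1 hb' a'), map_one]
  have hne' : R ≠ U := by
    intro he
    obtain ⟨z, hz⟩ := exists_ne (1 : ↥(Subgroup.center ↥Q))
    have hzU' : ((z : ↥Q) : ↥S ⧸ R.subgroupOf S) ∈ U' := ⟨z, z.2, rfl⟩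
    obtain ⟨s, hs⟩ := QuotientGroup.mk'_surjective (R.subgroupOf S) ((z : ↥Q) : ↥S ⧸ R.subgroupOf S)
    have h1 : (s : Ω) ∈ U := mem_preimageAlong.2 ⟨s.2, hs ▸ hzU'⟩
    rw [← he] at h1
    refine hz (Subtype.ext (Subtype.ext ?_))
    rw [← hs]
    exact (hE.2.1 s).2 h1
  haveI := finite_of_le hUc.1
  have hlt : Nat.card R < Nat.card U := card_lt_of_lt hUc.1 (lt_of_le_of_ne hRU hne')
  have hle : Nat.card U ≤ Nat.card S := Subgroup.card_le_of_le hUc.1
  obtain ⟨n, C, h0, hn, hmono, hcl, hab⟩ := ih _ (by omega) U rfl hUc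
  refine ⟨n + 1, fun i => if i = 0 then R else C (i - 1), if_pos rfl, ?_, fun i => ?_, fun i => ?_, fun i hi => ?_⟩
  · simp [hn]
  · rcases i with - | i
    · simp [h0, hRU]
    · simpa using hmono i
  · rcases i with - | i
    · simpa using hR
    · simpa using hcl i
  · rcases i with - | i
    · simpa [h0] using hcomm
    · simpa using hab i (by omega)

theorem solvable_of_chain [Finite S] [hp : Fact p.Prime] (hS : IsPGroup p S) (hF : F.IsSaturated p) {n : ℕ}
    (C : ℕ → Subgroup Ω) (h0 : C 0 = ⊥) (hn : C n = S) (hcl : ∀ i ≤ n, F.StronglyClosed (C i))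
    (hab : ∀ i < n, ⁅C (i + 1), C (i + 1)⁆ ≤ C i) : F.IsSolvableSystem := by
  classical
  intro R hR hne hRn E hE
  obtain ⟨j, hjn, hjR⟩ : ∃ j, j ≤ n ∧ ¬ C j ≤ R := ⟨n, le_rfl, fun hle => hne (le_antisymm hR.1 (hn ▸ hle))⟩
  have hex : ∃ i, ¬ C i ≤ R := ⟨j, hjR⟩
  set i := Nat.find hex with hi
  have hiR : ¬ C i ≤ R := Nat.find_spec hex
  have hin : i ≤ n := (Nat.find_min' hex hjR).trans hjn
  obtain ⟨k, hk⟩ : ∃ k, i = k + 1 := Nat.exists_eq_succ_of_ne_zero (fun e => hiR (by rw [e, h0]; exact bot_le))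
  have hkR : C k ≤ R := not_not.1 (Nat.find_min hex (show k < i by omega))
  set A := ((C i).subgroupOf S).map (QuotientGroup.mk' (R.subgroupOf S)) with hA
  have hAc : E.StronglyClosed A := stronglyClosed_image_factor hE (hcl i hin)
  have hAA : ⁅A, A⁆ = ⊥ := by
    rw [hA, ← Subgroup.map_commutator, Subgroup.map_eq_bot_iff, QuotientGroup.ker_mk']
    refine Subgroup.commutator_le.2 fun a ha b hb => ?_
    refine hkR ?_
    refine hab k (by omega) ?_
    rw [← hk]
    exact Subgroup.commutator_mem_commutator ha hb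
  haveI := Factor.finite_range hE
  have hAn := isNormal_of_two_step (Factor.isPGroup_range hS hE) (Factor.saturated hS hF hR hE) hAc hAc le_rfl
    (hAA.le.trans bot_le) hAA
  refine ne_bot_of_le_ne_bot (fun hb => hiR fun x hx => ?_) (le_core hAn)
  have h1 : QuotientGroup.mk' (R.subgroupOf S) ⟨x, (hcl i hin).1 hx⟩ ∈ A := ⟨_, hx, rfl⟩
  rw [hb, Subgroup.mem_bot] at h1
  exact (hE.2.1 _).1 h1

theorem constrained_of_solvable [Finite S] [hp : Fact p.Prime] (hS : IsPGroup p S) (hF : F.IsSaturated p)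
    (h : F.IsSolvableSystem) : F.IsConstrained p := by
  classical
  have hbot : F.StronglyClosed ⊥ := stronglyClosed_iff.2 ⟨bot_le, fun P f hf x hxP hx => by
    rw [Subgroup.mem_bot] at hx ⊢
    subst hx; exact hf.map_one⟩
  obtain ⟨n, C, h0, hn, -, hcl, hab⟩ := chain_of_solvable hS hF h _ ⊥ rfl hbot
  have hQ := isNormal_core (F := F)
  set Q := F.core with hQdef
  set D := centralizerIn S Q with hD
  have hQc := isNormal_stronglyClosed hQ
  have hDc : F.StronglyClosed D := stronglyClosed_iff.2 ⟨inf_le_left, fun P f hf x hxP hx => by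
    obtain ⟨g, hg, hge, hgQ⟩ := (isNormal_iff.1 hQ).2 P f hf
    refine Subgroup.mem_inf.2 ⟨hf.mem hxP, Subgroup.mem_centralizer_iff.2 fun y hy => ?_⟩
    obtain ⟨u, hu, rfl⟩ := (hg.mono (le_sup_right : Q ≤ P ⊔ Q)).mem_img.1 (hgQ.ge hy)
    rw [← hge x hxP, ← hg.map_mul (Subgroup.mem_sup_right hu) (Subgroup.mem_sup_left hxP),
      Subgroup.mem_centralizer_iff.1 (Subgroup.mem_inf.1 hx).2 u hu,
      hg.map_mul (Subgroup.mem_sup_left hxP) (Subgroup.mem_sup_right hu)]⟩
  have hDQ : ∀ i ≤ n, C i ⊓ D ≤ Q := by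
    intro i
    induction i with
    | zero => intro _; rw [h0]; simp
    | succ i ih =>
      intro hi
      set A := C (i + 1) ⊓ D with hA
      have hAc : F.StronglyClosed A := stronglyClosed_iff.2 ⟨inf_le_right.trans hDc.1, fun P f hf x hxP hx =>
        Subgroup.mem_inf.2 ⟨(stronglyClosed_iff.1 (hcl _)).2 P f hf x hxP (Subgroup.mem_inf.1 hx).1,
          (stronglyClosed_iff.1 hDc).2 P f hf x hxP (Subgroup.mem_inf.1 hx).2⟩⟩
      have hBc : F.StronglyClosed (A ⊓ Q) := stronglyClosed_iff.2 ⟨inf_le_right.trans hQ.1, fun P f hf x hxP hx =>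
        Subgroup.mem_inf.2 ⟨(stronglyClosed_iff.1 hAc).2 P f hf x hxP (Subgroup.mem_inf.1 hx).1,
          (stronglyClosed_iff.1 hQc).2 P f hf x hxP (Subgroup.mem_inf.1 hx).2⟩⟩
      refine le_core (isNormal_of_two_step hS hF hAc hBc inf_le_left ?_ ?_)
      · refine Subgroup.commutator_le.2 fun a ha b hb => ?_
        have h1 : ⁅a, b⁆ ∈ C i := hab i (by omega) (Subgroup.commutator_mem_commutator ha.1 hb.1)
        have h2 : ⁅a, b⁆ ∈ D := D.mul_mem (D.mul_mem (D.mul_mem ha.2 hb.2) (D.inv_mem ha.2)) (D.inv_mem hb.2)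
        exact Subgroup.mem_inf.2 ⟨Subgroup.mem_inf.2 ⟨hab i (by omega) (Subgroup.commutator_mem_commutator ha.1 hb.1) |>
          fun h => (A.mul_mem (A.mul_mem (A.mul_mem ha hb) (A.inv_mem ha)) (A.inv_mem hb)).1, h2⟩,
          ih (by omega) (Subgroup.mem_inf.2 ⟨h1, h2⟩)⟩
      · refine Subgroup.commutator_eq_bot_iff_le_centralizer.2 fun b hb => Subgroup.mem_centralizer_iff.2 fun a ha => ?_
        exact (Subgroup.mem_centralizer_iff.1 (Subgroup.mem_inf.1 ha.2).2 b hb.2).symm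
  refine ⟨hF, Q, hQ, hQ.1, fun R hR => ?_⟩
  obtain ⟨f, hf, hfi⟩ := isConj_iff.1 hR
  rw [← hfi, (weaklyClosed_iff.1 (stronglyClosed_weaklyClosed hQc)).2 f hf]
  intro x hx
  exact hDQ n le_rfl (Subgroup.mem_inf.2 ⟨hn.symm ▸ hx.1, hx⟩)

end CfsgLib.Fus
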