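import Cfsg.Agent.Fus.Centric

/-!
Weakly normal subsystems over the same subgroup `S`.
-/

set_option autoImplicit false
set_option linter.style.haveILetI false

open Cfsg Cfsg.FusionSystem

namespace CfsgLib.Fus

variable {Ω : Type*} [Group Ω] {S : Subgroup Ω} {F E : FusionSystem S} {p : ℕ}

theorem invariant_frattini (h : E.IsInvariantIn F) {P : Subgroup Ω} {f : Ω → Ω} (hf : IsMap F P f) :
    ∃ β ∈ F.autGroup S, ∃ g, IsMap E P g ∧ ∀ x ∈ P, f x = autFun β (g x) := by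
  obtain ⟨φ, hφ, hφf⟩ := hf
  obtain ⟨β, hβ, φ₀, hφ₀, he⟩ := h.2.2.2 P (F.le_of_mem hφ).1 φ hφ
  refine ⟨β, hβ, ev φ₀, IsMap.of_hom hφ₀, fun x hx => ?_⟩
  have hx' := (E.le_of_mem hφ₀).2 ⟨x, hx⟩
  rw [ev_of_mem φ₀ hx, ← hφf ⟨x, hx⟩, autFun_of_mem β hx']
  exact he ⟨x, hx⟩ hx'

theorem invariant_transport (h : E.IsInvariantIn F) {P : Subgroup Ω} {g : Ω → Ω} (hg : IsMap E P g)
    {β : MulAut S} (hβ : β ∈ F.autGroup S) :
    ∃ c, IsMap E (img (autFun β) P) c ∧ ∀ x ∈ P, c (autFun β x) = autFun β (g x) := by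
  obtain ⟨φ, hφ, hφg⟩ := hg
  have hPS := (E.le_of_mem hφ).1
  obtain ⟨χ, hχ, he⟩ := h.2.2.1 P hPS φ hφ β hβ
  have himg : (P.subgroupOf S).map (S.subtype.comp β.toMonoidHom) = img (autFun β) P := by
    rw [map_subgroupOf_eq_img _ hPS]
    rfl
  refine ⟨ev χ, himg ▸ IsMap.of_hom hχ, fun x hx => ?_⟩
  have hφx := (E.le_of_mem hφ).2 ⟨x, hx⟩
  have hmem : autFun β x ∈ (P.subgroupOf S).map (S.subtype.comp β.toMonoidHom) :=
    himg.symm ▸ mem_img_of_mem hx
  rw [ev_of_mem χ hmem, ← hφg ⟨x, hx⟩, autFun_of_mem β hφx]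
  simp only [autFun_of_mem β (hPS hx)] at hmem ⊢
  exact he ⟨x, hx⟩ hφx hmem

/-- The automizers of an invariant subsystem are normalised by those of the system. -/
theorem invariant_aut_normal (h : E.IsInvariantIn F) {R : Subgroup Ω} (hR : R ≤ S)
    {α κ : MulAut R} (hα : α ∈ F.autGroup R) (hκ : κ ∈ E.autGroup R) :
    α * κ * α⁻¹ ∈ E.autGroup R := by
  obtain ⟨β, hβ, g, hg, hge⟩ := invariant_frattini h ((mem_autGroup hR).1 hα)
  obtain ⟨g', hg', hg'g, -, hg'i⟩ := hg.inv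
  have hk := (mem_autGroup hR).1 hκ
  have hm : IsMap E (img g R) (g ∘ autFun κ ∘ g') := by
    have h1 : IsMap E (img g R) (autFun κ ∘ g') :=
      hg'.comp hk fun x hx => hg'.mem_of_img_eq hg'i hx
    exact h1.comp hg fun x hx => autFun_mem κ (hg'.mem_of_img_eq hg'i hx)
  obtain ⟨c, hc, hce⟩ := invariant_transport h hm hβ
  have himg : img (autFun β) (img g R) = R := by
    rw [← hg.img_comp]
    exact (img_congr fun x hx => (hge x hx).symm).trans (img_autFun α)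
  rw [himg] at hc
  refine (mem_autGroup hR).2 (hc.congr fun y hy => ?_)
  have hx : autFun α⁻¹ y ∈ R := autFun_mem _ hy
  have hy' : y = autFun β (g (autFun α⁻¹ y)) := by rw [← hge _ hx, autFun_inv_apply α hy]
  conv_lhs => rw [hy']
  rw [hce _ (mem_img_of_mem hx)]
  simp only [Function.comp_apply, hg'g _ hx]
  rw [← hge _ (autFun_mem κ hx), autFun_mul _ _ hy, autFun_mul _ _ hx]

/-- An invariant saturated subsystem on the same group contains all `p`-elements of the automizer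
of a fully normalized subgroup. -/
theorem invariant_pElement [Finite S] [Fact p.Prime] (hS : IsPGroup p S) (hF : F.IsSaturated p)
    (h : E.IsInvariantIn F) {R : Subgroup Ω} (hR : F.IsFullyNormalized R) {α : MulAut R}
    (hα : α ∈ F.autGroup R) {k : ℕ} (hk : α ^ p ^ k = 1) : α ∈ E.autGroup R := by
  haveI := finite_mulAut hR.1
  set A := F.autGroup R with hA
  obtain ⟨T, hT⟩ : ∃ T : Sylow p ↥A, (T : Subgroup ↥A) = (autInducedBy S R).subgroupOf A :=
    (fullyNormalized_spec hS hF hR).1.2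
  set N : Subgroup ↥A := (E.autGroup R).subgroupOf A
  haveI : N.Normal := ⟨fun a ha b => invariant_aut_normal h hR.1 b.2 ha⟩
  have hTN : (T : Subgroup ↥A) ≤ N := by
    rw [hT]
    exact Subgroup.comap_mono (autInducedBy_le_autGroup hR.1)
  have hp : IsPGroup p ↥(Subgroup.zpowers (⟨α, hα⟩ : ↥A)) := fun x => by
    obtain ⟨x, m, rfl⟩ := x
    refine ⟨k, Subtype.ext ?_⟩
    have h1 : ((⟨α, hα⟩ : ↥A) ^ p ^ k) = 1 := Subtype.ext hk
    simp only [SubmonoidClass.coe_pow, OneMemClass.coe_one]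
    rw [← zpow_natCast, ← zpow_mul, mul_comm, zpow_mul, zpow_natCast, h1, one_zpow]
  obtain ⟨U, hU⟩ := hp.exists_le_sylow
  obtain ⟨a, ha⟩ := MulAction.exists_smul_eq ↥A T U
  have hmem : (⟨α, hα⟩ : ↥A) ∈ (U : Subgroup ↥A) := hU (Subgroup.mem_zpowers _)
  rw [← ha, Sylow.coe_subgroup_smul] at hmem
  obtain ⟨t, ht, hte⟩ := Set.mem_smul_set.1 hmem
  have hc : MulAut.conj a • t = a * t * a⁻¹ := rfl
  rw [hc] at hte
  have := (inferInstance : N.Normal).conj_mem t (hTN ht) a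
  rw [hte] at this
  exact this

theorem invariant_eq_of_aut (h : E.IsInvariantIn F) (hA : F.autGroup S ≤ E.autGroup S) : E = F := by
  refine eq_of_le_le h.1 (le_iff.2 fun P f hf => ?_)
  obtain ⟨β, hβ, g, hg, hge⟩ := invariant_frattini h hf
  exact (hg.comp ((mem_autGroup le_rfl).1 (hA hβ)) fun x hx => hg.mem hx).congr
    fun x hx => (hge x hx).symm

end CfsgLib.Fus
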