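import Cfsg.Agent.Fus.SolvableChain
import Cfsg.Agent.Fus.WeaklyNormal

/-!
Solvability passes to and from a normal subsystem and its factor system.
-/

set_option autoImplicit false
set_option linter.style.haveILetI false

open Cfsg Cfsg.FusionSystem
open scoped commutatorElement

namespace CfsgLib.Fus.SolvNormal

variable {Ω : Type*} [Group Ω] {S T : Subgroup Ω} {F : FusionSystem S} {E : FusionSystem T} {p : ℕ}

theorem frattini' (h : E.IsInvariantIn F) {P : Subgroup Ω} {f : Ω → Ω} (hf : IsMap F P f) (hP : P ≤ T) :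
    ∃ β ∈ F.autGroup T, ∃ g, IsMap E P g ∧ ∀ x ∈ P, f x = autFun β (g x) := by
  obtain ⟨φ, hφ, hφf⟩ := hf
  obtain ⟨β, hβ, φ₀, hφ₀, he⟩ := h.2.2.2 P hP φ hφ
  refine ⟨β, hβ, ev φ₀, IsMap.of_hom hφ₀, fun x hx => ?_⟩
  have hx' := (E.le_of_mem hφ₀).2 ⟨x, hx⟩
  rw [ev_of_mem φ₀ hx, ← hφf ⟨x, hx⟩, autFun_of_mem β hx']
  exact he ⟨x, hx⟩ hx'

theorem transport' (h : E.IsInvariantIn F) {P : Subgroup Ω} {g : Ω → Ω} (hg : IsMap E P g)
    {β : MulAut T} (hβ : β ∈ F.autGroup T) :
    ∃ c, IsMap E (img (autFun β) P) c ∧ ∀ x ∈ P, c (autFun β x) = autFun β (g x) := by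
  obtain ⟨φ, hφ, hφg⟩ := hg
  have hPS := (E.le_of_mem hφ).1
  obtain ⟨χ, hχ, he⟩ := h.2.2.1 P hPS φ hφ β hβ
  have himg : (P.subgroupOf T).map (T.subtype.comp β.toMonoidHom) = img (autFun β) P := by
    rw [map_subgroupOf_eq_img _ hPS]
    rfl
  refine ⟨ev χ, himg ▸ IsMap.of_hom hχ, fun x hx => ?_⟩
  have hφx := (E.le_of_mem hφ).2 ⟨x, hx⟩
  have hmem : autFun β x ∈ (P.subgroupOf T).map (T.subtype.comp β.toMonoidHom) :=
    himg.symm ▸ mem_img_of_mem hx
  rw [ev_of_mem χ hmem, ← hφg ⟨x, hx⟩, autFun_of_mem β hφx]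
  simp only [autFun_of_mem β (hPS hx)] at hmem ⊢
  exact he ⟨x, hx⟩ hφx hmem

/-- The smallest strongly closed subgroup of `E` above a subgroup. -/
def scl (E : FusionSystem T) (X : Subgroup Ω) : Subgroup Ω :=
  sInf {U | E.StronglyClosed U ∧ X ≤ U}

/-- The iterated strongly closed derived series. -/
def series (E : FusionSystem T) : ℕ → Subgroup Ω
  | 0 => T
  | i + 1 => scl E ⁅series E i, series E i⁆

theorem stronglyClosed_self : E.StronglyClosed T :=
  stronglyClosed_iff.2 ⟨le_rfl, fun _ _ hf _ hx _ => hf.mem hx⟩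

theorem scl_spec {X : Subgroup Ω} (hX : X ≤ T) : E.StronglyClosed (scl E X) ∧ X ≤ scl E X := by
  refine ⟨stronglyClosed_iff.2 ⟨sInf_le ⟨stronglyClosed_self, hX⟩, fun P f hf x hxP hx => ?_⟩,
    le_sInf fun U hU => hU.2⟩
  rw [scl, Subgroup.mem_sInf] at hx ⊢
  exact fun U hU => (stronglyClosed_iff.1 hU.1).2 P f hf x hxP (hx U hU)

theorem series_stronglyClosed : ∀ i, E.StronglyClosed (series E i)
  | 0 => stronglyClosed_self
  | i + 1 => by
    have h := series_stronglyClosed i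
    exact (scl_spec (Subgroup.commutator_le.2 fun a ha b hb =>
      T.mul_mem (T.mul_mem (T.mul_mem (h.1 ha) (h.1 hb)) (T.inv_mem (h.1 ha))) (T.inv_mem (h.1 hb)))).1

theorem series_step (i : ℕ) : ⁅series E i, series E i⁆ ≤ series E (i + 1) :=
  le_sInf fun _ hU => hU.2

theorem series_le (n : ℕ) (C : ℕ → Subgroup Ω) (hn : C n = T) (hcl : ∀ i, E.StronglyClosed (C i))
    (hab : ∀ i < n, ⁅C (i + 1), C (i + 1)⁆ ≤ C i) : ∀ j ≤ n, series E j ≤ C (n - j) := by
  intro j
  induction j with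
  | zero => intro _; rw [Nat.sub_zero, hn]; exact le_rfl
  | succ j ih =>
    intro hj
    refine sInf_le ⟨hcl _, ?_⟩
    have h := hab (n - (j + 1)) (by omega)
    rw [show n - (j + 1) + 1 = n - j by omega] at h
    exact (Subgroup.commutator_mono (ih (by omega)) (ih (by omega))).trans h

theorem series_aut [Finite T] (hE : E.IsInvariantIn F) : ∀ i, ∀ β ∈ F.autGroup T, ∀ x ∈ series E i,
    autFun β x ∈ series E i := by
  intro i
  induction i with
  | zero => intro β _ x hx; exact autFun_mem β hx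
  | succ i ih =>
    intro β hβ x hx
    set K := series E (i + 1) with hK
    have hKT : K ≤ T := (series_stronglyClosed (i + 1)).1
    have hL : E.StronglyClosed (((K.subgroupOf T).map (β⁻¹ : MulAut T).toMonoidHom).map T.subtype) := by
      refine stronglyClosed_iff.2 ⟨Subgroup.map_subtype_le _, fun P f hf y hyP hy => ?_⟩
      obtain ⟨_, ⟨k, hk, rfl⟩, rfl⟩ := hy
      obtain ⟨c, hc, hce⟩ := transport' hE hf hβ
      have hyT : T.subtype ((β⁻¹ : MulAut T).toMonoidHom k) ∈ T := Subtype.prop _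
      have e : autFun β (T.subtype ((β⁻¹ : MulAut T).toMonoidHom k)) = (k : Ω) := by
        show autFun β (((β⁻¹ : MulAut T) k : T) : Ω) = k
        rw [← autFun_apply (β⁻¹ : MulAut T), autFun_inv_apply β k.2]
      have hfy : autFun β (f (T.subtype ((β⁻¹ : MulAut T).toMonoidHom k))) ∈ K := by
        have h1 := hce _ hyP
        rw [e] at h1
        rw [← h1]
        exact (stronglyClosed_iff.1 (series_stronglyClosed (i + 1))).2 _ c hc _ (e ▸ mem_img_of_mem hyP) hk
      refine ⟨_, ⟨⟨_, hKT hfy⟩, hfy, rfl⟩, ?_⟩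
      show (((β⁻¹ : MulAut T) ⟨_, hKT hfy⟩ : T) : Ω) = _
      rw [← autFun_of_mem (β⁻¹ : MulAut T) (hKT hfy), autFun_inv_apply' β (hf.mem hyP)]
    have hle : K ≤ ((K.subgroupOf T).map (β⁻¹ : MulAut T).toMonoidHom).map T.subtype := by
      refine sInf_le ⟨hL, Subgroup.commutator_le.2 fun a ha b hb => ?_⟩
      have hs := series_stronglyClosed (E := E) i
      have ha' := ih β hβ a ha
      have hb' := ih β hβ b hb
      have hmem : ⁅autFun β a, autFun β b⁆ ∈ K := series_step i (Subgroup.commutator_mem_commutator ha' hb')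
      refine ⟨_, ⟨⟨_, hKT hmem⟩, hmem, rfl⟩, ?_⟩
      show (((β⁻¹ : MulAut T) ⟨⁅autFun β a, autFun β b⁆, _⟩ : T) : Ω) = ⁅a, b⁆
      rw [show (⟨⁅autFun β a, autFun β b⁆, hKT hmem⟩ : T) = ⁅(⟨_, autFun_mem β (hs.1 ha)⟩ : T), ⟨_, autFun_mem β (hs.1 hb)⟩⁆ from rfl,
        map_commutatorElement]
      show ⁅(((β⁻¹ : MulAut T) ⟨_, autFun_mem β (hs.1 ha)⟩ : T) : Ω), (((β⁻¹ : MulAut T) ⟨_, autFun_mem β (hs.1 hb)⟩ : T) : Ω)⁆ = _
      rw [← autFun_of_mem, ← autFun_of_mem, autFun_inv_apply' β (hs.1 ha), autFun_inv_apply' β (hs.1 hb)]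
    obtain ⟨_, ⟨k, hk, rfl⟩, hkx⟩ := hle hx
    rw [← hkx]
    show autFun β (((β⁻¹ : MulAut T) k : T) : Ω) ∈ K
    rw [← autFun_apply (β⁻¹ : MulAut T), autFun_inv_apply β k.2]
    exact hk

theorem series_closed_big [Finite T] (hE : E.IsInvariantIn F) (i : ℕ) : F.StronglyClosed (series E i) := by
  have hs := series_stronglyClosed (E := E) i
  refine stronglyClosed_iff.2 ⟨hs.1.trans hE.2.1.1, fun P f hf x hxP hx => ?_⟩
  obtain ⟨β, hβ, g, hg, hge⟩ := frattini' hE (hf.mono (inf_le_left : P ⊓ T ≤ P)) inf_le_right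
  have hxI : x ∈ P ⊓ T := Subgroup.mem_inf.2 ⟨hxP, hs.1 hx⟩
  rw [hge x hxI]
  exact series_aut hE i β hβ _ ((stronglyClosed_iff.1 hs).2 _ g hg x hxI hx)

theorem solvable_iff [Finite S] [hp : Fact p.Prime] (hS : IsPGroup p S) (hF : F.IsSaturated p)
    (hE : E.IsWeaklyNormalIn F p) {Ω' : Type*} [Group Ω'] {S' : Subgroup Ω'} (θ : ↥S →* Ω') (D : FusionSystem S')
    (hD : F.IsFactorSystem T θ D) : F.IsSolvableSystem ↔ (E.IsSolvableSystem ∧ D.IsSolvableSystem) := by
  classical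
  obtain ⟨hEs, -, hinv⟩ := hE
  have hTc := hinv.2.1
  haveI := finite_of_le hTc.1
  haveI := Factor.finite_range hD
  have hTp := hS.to_le hTc.1
  have hS' := Factor.isPGroup_range hS hD
  have hDs := Factor.saturated hS hF hTc hD
  have hbot : F.StronglyClosed ⊥ := stronglyClosed_iff.2 ⟨bot_le, fun P f hf x hxP hx => by
    rw [Subgroup.mem_bot] at hx ⊢
    subst hx; exact hf.map_one⟩
  have hbotE : E.StronglyClosed ⊥ := stronglyClosed_iff.2 ⟨bot_le, fun P f hf x hxP hx => by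
    rw [Subgroup.mem_bot] at hx ⊢
    subst hx; exact hf.map_one⟩
  have hbotD : D.StronglyClosed ⊥ := stronglyClosed_iff.2 ⟨bot_le, fun P f hf x hxP hx => by
    rw [Subgroup.mem_bot] at hx ⊢
    subst hx; exact hf.map_one⟩
  constructor
  · intro h
    obtain ⟨n, C, h0, hn, -, hcl, hab⟩ := chain_of_solvable hS hF h _ ⊥ rfl hbot
    refine ⟨solvable_of_chain hTp hEs (fun i => C i ⊓ T) (n := n) (by simp [h0]) (by simp [hn, hTc.1])
      (fun i _ => stronglyClosed_iff.2 ⟨inf_le_right, fun P f hf x hxP hx =>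
        Subgroup.mem_inf.2 ⟨(stronglyClosed_iff.1 (hcl i)).2 P f (by
          obtain ⟨φ, hφ, hφe⟩ := hf
          exact ⟨φ, hinv.1 P hφ, hφe⟩) x hxP hx.1, hf.mem hxP⟩⟩) (fun i hi => ?_), ?_⟩
    · exact Subgroup.commutator_le.2 fun a ha b hb => Subgroup.mem_inf.2
        ⟨hab i hi (Subgroup.commutator_mem_commutator ha.1 hb.1),
          T.mul_mem (T.mul_mem (T.mul_mem ha.2 hb.2) (T.inv_mem ha.2)) (T.inv_mem hb.2)⟩
    · have hsup : ∀ i, F.StronglyClosed (T ⊔ C i) := fun i => stronglyClosed_sup hS hF hTc (hcl i).1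
        fun P g hg y hy hyC => Subgroup.mem_sup_right ((stronglyClosed_iff.1 (hcl i)).2 _ g hg y hy hyC)
      have himg : ∀ i, ((T ⊔ C i).subgroupOf S).map θ = ((C i).subgroupOf S).map θ := fun i => by
        rw [Subgroup.subgroupOf_sup hTc.1 (hcl i).1, Subgroup.map_sup, (Subgroup.map_eq_bot_iff _).2, bot_sup_eq]
        exact fun s hs => (hD.2.1 s).2 hs
      refine solvable_of_chain hS' hDs (fun i => ((C i).subgroupOf S).map θ) (n := n) ?_ ?_ (fun i _ => ?_) fun i hi => ?_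
      · rw [h0, Subgroup.bot_subgroupOf, Subgroup.map_bot]
      · rw [hn, Subgroup.subgroupOf_self, ← MonoidHom.range_eq_map]; exact hD.2.2.1
      · rw [← himg]; exact stronglyClosed_image_factor hD (hsup i)
      · rw [← Subgroup.map_commutator]
        refine Subgroup.map_mono (Subgroup.commutator_le.2 fun a ha b hb => ?_)
        exact hab i hi (Subgroup.commutator_mem_commutator ha hb)
  · rintro ⟨hEsol, hDsol⟩
    obtain ⟨m, A, hA0, hAm, -, hAcl, hAab⟩ := chain_of_solvable hTp hEs hEsol _ ⊥ rfl hbotE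
    obtain ⟨k, B, hB0, hBk, -, hBcl, hBab⟩ := chain_of_solvable hS' hDs hDsol _ ⊥ rfl hbotD
    have hKm : series E m = ⊥ := eq_bot_iff.2 (by
      have := series_le m A hAm hAcl hAab m le_rfl
      rwa [Nat.sub_self, hA0] at this)
    let C : ℕ → Subgroup Ω := fun i => if i ≤ m then series E (m - i) else preimageAlong θ (B (i - m))
    have hBT : preimageAlong θ (B 0) = T := by
      rw [hB0]
      ext x
      rw [mem_preimageAlong]
      exact ⟨fun ⟨h, hx⟩ => (hD.2.1 ⟨x, h⟩).1 (Subgroup.mem_bot.1 hx),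
        fun hx => ⟨hTc.1 hx, Subgroup.mem_bot.2 ((hD.2.1 _).2 hx)⟩⟩
    refine solvable_of_chain hS hF C (n := m + k) ?_ ?_ (fun i _ => ?_) fun i hi => ?_
    · show ite _ _ _ = _; rw [if_pos (Nat.zero_le m), Nat.sub_zero, hKm]
    · show ite _ _ _ = _
      split_ifs with h
      · have : k = 0 := by omega
        subst this
        rw [show m - (m + 0) = 0 by omega]
        show T = S
        rw [← hBT, hBk]
        exact le_antisymm preimageAlong_le fun s hs => mem_preimageAlong.2 ⟨hs, hD.2.2.1.le ⟨_, rfl⟩⟩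
      · rw [show m + k - m = k by omega, hBk]
        exact le_antisymm preimageAlong_le fun s hs => mem_preimageAlong.2 ⟨hs, hD.2.2.1.le ⟨_, rfl⟩⟩
    · show F.StronglyClosed (ite _ _ _)
      split_ifs
      · exact series_closed_big hinv _
      · exact stronglyClosed_preimage_factor hS hF hTc hD (hBcl _)
    · show ⁅ite _ _ _, ite _ _ _⁆ ≤ ite _ _ _
      by_cases h1 : i + 1 ≤ m
      · rw [if_pos h1, if_pos (by omega : i ≤ m), show m - i = m - (i + 1) + 1 by omega]
        exact series_step _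
      · rw [if_neg h1]
        have hstep : ∀ j < k, ⁅preimageAlong θ (B (j + 1)), preimageAlong θ (B (j + 1))⁆ ≤ preimageAlong θ (B j) := by
          intro j hj
          refine Subgroup.commutator_le.2 fun a ha b hb => ?_
          obtain ⟨haS, ha'⟩ := mem_preimageAlong.1 ha
          obtain ⟨hbS, hb'⟩ := mem_preimageAlong.1 hb
          have h := hBab j hj (Subgroup.commutator_mem_commutator ha' hb')
          rw [← map_commutatorElement] at h
          exact mem_preimageAlong.2 ⟨_, h⟩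
        by_cases h2 : i ≤ m
        · rw [if_pos h2, show i = m by omega, Nat.sub_self, show m + 1 - m = 1 by omega]
          exact (hstep 0 (by omega)).trans hBT.le
        · rw [if_neg h2, show i + 1 - m = (i - m) + 1 by omega]
          exact hstep _ (by omega)

end CfsgLib.Fus.SolvNormal
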