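import Cfsg.Agent.Fus.GroupStable
import Cfsg.Agent.Fus.QdStable
import Cfsg.Prelude.Def_FusionComponents

/-!
The fusion system of a group without `qd p` section, `p` odd, is solvable.
-/

set_option autoImplicit false
set_option linter.style.haveILetI false

open Cfsg Cfsg.FusionSystem

namespace CfsgLib.Fus

universe u

theorem solvableSystem_of_qdFree {G : Type u} [Group G] [Finite G] {p : ℕ} [Fact p.Prime] (hp : p ≠ 2)
    (hqd : ¬ Cfsg.Involves ↥(Cfsg.qd p) G) (P : Sylow p G) :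
    (groupFusionSystem (P : Subgroup G)).IsSolvableSystem := by
  classical
  intro R hR hRS hRn E hE
  set S := (P : Subgroup G) with hSdef
  have hRle : R ≤ S := (stronglyClosed_iff.1 hR).1
  set N := Subgroup.normalizer (R : Set G) with hN
  have hSN : S ≤ N := stronglyClosed_normal hR
  haveI : (R.subgroupOf N).Normal := Subgroup.normal_in_normalizer
  let π : ↥N →* ↥N ⧸ R.subgroupOf N := QuotientGroup.mk' _
  have hπ1 : ∀ n : ↥N, π n = 1 ↔ (n : G) ∈ R := fun n => QuotientGroup.eq_one_iff n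
  set T := (S.subgroupOf N).map π with hT
  have hst : IsNormalizerPStable p (↥N ⧸ R.subgroupOf N) := by
    by_contra h
    exact hqd (CfsgLib.Dickson.involves_of_isSec (CfsgLib.Dickson.isSec_trans
      (CfsgLib.Dickson.isSec_quot' N (R.subgroupOf N)) (CfsgLib.Dickson.isSec_qd_of_not_stable hp h)))
  have hT' : CfsgLib.Glau.Syl p T ⊤ := by
    have hi : ¬ p ∣ (S.subgroupOf N).relIndex ⊤ := by
      rw [Subgroup.relIndex_top_right]
      intro hd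
      exact P.not_dvd_index (hd.trans (Subgroup.relIndex_dvd_index_of_le hSN))
    have h := CfsgLib.Glau.Syl.map ⟨le_top, P.isPGroup'.comap_subtype, hi⟩ π
    rwa [Subgroup.map_top_of_surjective π (QuotientGroup.mk'_surjective _)] at h
  have hfus := CfsgLib.Glau.fusion_of_stable hp _ hst T hT'
  set W := inducedFunctor kInfLower T with hW
  have hWT : W ≤ T := Subgroup.map_subtype_le _
  -- reading the factor inside the normalizer
  let j : ↥S ⧸ R.subgroupOf S →* ↥N ⧸ R.subgroupOf N :=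
    QuotientGroup.map _ _ (Subgroup.inclusion hSN) fun s hs => hs
  have hj : ∀ s : ↥S, j (QuotientGroup.mk' _ s) = π (Subgroup.inclusion hSN s) := fun s => rfl
  have hjinj : Function.Injective j := (injective_iff_map_eq_one _).2 fun v hv => by
    obtain ⟨s, rfl⟩ := QuotientGroup.mk'_surjective _ v
    exact (QuotientGroup.eq_one_iff _).2 ((hπ1 _).1 hv)
  have hjT : ∀ v, j v ∈ T := fun v => by
    obtain ⟨s, rfl⟩ := QuotientGroup.mk'_surjective _ v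
    exact ⟨_, s.2, rfl⟩
  set W' := W.comap j with hW'
  have hW'ne : W' ≠ ⊥ := by
    intro hb
    have hT0 : T ≠ ⊥ := fun h => hRS (le_antisymm hRle fun s hs =>
      (hπ1 ⟨s, hSN hs⟩).1 (Subgroup.mem_bot.1 (h.le ⟨⟨s, hSN hs⟩, hs, rfl⟩)))
    refine (CfsgLib.KInf.inducedFunctor_conjugacy (CfsgLib.KInf.isCharPFunctor_lower p) _ hT'.pg).2.1 hT0
      (eq_bot_iff.2 fun w hw => ?_)
    obtain ⟨n, hn, rfl⟩ := hWT hw
    have hm : QuotientGroup.mk' (R.subgroupOf S) ⟨n, hn⟩ ∈ W' := by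
      show j _ ∈ W
      rw [hj]; exact hw
    rw [hb, Subgroup.mem_bot] at hm
    exact Subgroup.mem_bot.2 ((hπ1 _).2 ((QuotientGroup.eq_one_iff _).1 hm :))
  refine ne_bot_of_le_ne_bot hW'ne (le_sSup (isNormal_iff.2 ⟨le_top, fun P' f hf => ?_⟩))
  obtain ⟨φ', hφ', hφf⟩ := hf
  obtain ⟨-, φ, hφ, hpre, hφS, hP', hind⟩ := (hE.2.2.2 P' φ').1 hφ'
  obtain ⟨-, -, g, hg⟩ := hφ
  have hRpre : R ≤ preimageAlong (QuotientGroup.mk' (R.subgroupOf S)) P' := fun r hr =>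
    ⟨⟨r, hRle hr⟩, show QuotientGroup.mk' _ _ ∈ P' by
      rw [show QuotientGroup.mk' (R.subgroupOf S) ⟨r, hRle hr⟩ = 1 from (QuotientGroup.eq_one_iff _).2 hr]
      exact P'.one_mem, rfl⟩
  have hgN : g ∈ N := Subgroup.mem_normalizer_fintype fun r hr => by
    show g * r * g⁻¹ ∈ R
    exact (stronglyClosed_iff.1 hR).2 R (fun y => g * y * g⁻¹) (isMap_group_iff.2 ⟨hRle, g, fun y hy => ⟨rfl, by
      show g * y * g⁻¹ ∈ S
      rw [← hg ⟨y, hRpre hy⟩]; exact hφS _⟩⟩) r hr hr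
  -- fusion in the quotient
  have hB : P'.map j ≤ T := by rintro _ ⟨v, -, rfl⟩; exact hjT v
  have himage : ∀ (v : ↥P'), j (φ' v) = π ⟨g, hgN⟩ * j v * (π ⟨g, hgN⟩)⁻¹ := by
    rintro ⟨v, hv⟩
    obtain ⟨s, rfl⟩ := QuotientGroup.mk'_surjective _ v
    have hsp : (s : G) ∈ preimageAlong (QuotientGroup.mk' (R.subgroupOf S)) P' := ⟨s, hv, rfl⟩
    rw [show φ' ⟨QuotientGroup.mk' _ s, hv⟩ = QuotientGroup.mk' _ ⟨φ ⟨s, hsp⟩, hφS _⟩ from hind ⟨s, hsp⟩, hj, hj,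
      ← map_inv, ← map_mul, ← map_mul]
    exact congrArg π (Subtype.ext (hg ⟨s, hsp⟩))
  obtain ⟨x, hx, hxe⟩ := hfus (P'.map j) hB (π ⟨g, hgN⟩) trivial (by
    rintro _ ⟨_, ⟨v, hv, rfl⟩, rfl⟩
    show π ⟨g, hgN⟩ * j v * (π ⟨g, hgN⟩)⁻¹ ∈ T
    rw [← himage ⟨v, hv⟩]; exact hjT _)
  obtain ⟨⟨x₀, hx₀⟩, rfl⟩ := QuotientGroup.mk'_surjective _ x
  have hxW : CfsgLib.Glau.cj (π ⟨x₀, hx₀⟩) W = W := CfsgLib.Glau.mem_normalizer_iff_cj.1 hx
  have hin : ∀ v ∈ P' ⊔ W', π ⟨x₀, hx₀⟩ * j v * (π ⟨x₀, hx₀⟩)⁻¹ ∈ T := by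
    intro v hv
    have h : (P' ⊔ W').map j ≤ (T.comap (MulAut.conj (π ⟨x₀, hx₀⟩)).toMonoidHom) := by
      rw [Subgroup.map_sup]
      refine sup_le ?_ ?_
      · rintro _ ⟨v, hv, rfl⟩
        show π ⟨x₀, hx₀⟩ * j v * (π ⟨x₀, hx₀⟩)⁻¹ ∈ T
        rw [hxe _ ⟨v, hv, rfl⟩, ← himage ⟨v, hv⟩]; exact hjT _
      · rintro _ ⟨v, hv, rfl⟩
        exact hWT (hxW.le (CfsgLib.Glau.conj_mem_cj hv))
    exact h ⟨v, hv, rfl⟩
  have hpS : ∀ s : ↥S, QuotientGroup.mk' _ s ∈ P' ⊔ W' → x₀ * (s : G) * x₀⁻¹ ∈ S := by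
    intro s hs
    obtain ⟨n, hn, hne⟩ := hin _ hs
    rw [hj, ← map_inv, ← map_mul, ← map_mul] at hne
    have h1 := (hπ1 _).1 (show π (n⁻¹ * (⟨x₀, hx₀⟩ * Subgroup.inclusion hSN s * ⟨x₀, hx₀⟩⁻¹)) = 1 by
      rw [map_mul π n⁻¹, map_inv π n, ← hne, inv_mul_cancel])
    have h2 := S.mul_mem hn (hRle h1)
    simpa using h2
  let pre := preimageAlong (QuotientGroup.mk' (R.subgroupOf S)) (P' ⊔ W')
  let ψ : ↥pre →* G :=
    { toFun := fun y => x₀ * y * x₀⁻¹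
      map_one' := by simp
      map_mul' := fun a b => by simp [mul_assoc] }
  have hψmem : ψ ∈ (groupFusionSystem S).Hom pre := by
    refine ⟨Subgroup.map_subtype_le _, ?_, x₀, fun _ => rfl⟩
    rintro ⟨_, s, hs, rfl⟩
    exact hpS s hs
  have hrange : ∀ v : ↥(P' ⊔ W'), ∃ w, j w = π ⟨x₀, hx₀⟩ * j v * (π ⟨x₀, hx₀⟩)⁻¹ := fun v => by
    obtain ⟨n, hn, hne⟩ := hin v v.2
    exact ⟨QuotientGroup.mk' _ ⟨n, hn⟩, hne⟩
  choose w hw using hrange
  let φ'' : ↥(P' ⊔ W') →* ↥S ⧸ R.subgroupOf S :=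
    { toFun := w
      map_one' := hjinj (by rw [hw, Subgroup.coe_one, map_one j]; group)
      map_mul' := fun a b => hjinj (by rw [map_mul, hw, hw, hw, Subgroup.coe_mul, map_mul j]; group) }
  have hφ'' : φ'' ∈ E.Hom (P' ⊔ W') := by
    refine (hE.2.2.2 _ _).2 ⟨le_top, ψ, hψmem, Subgroup.map_subtype_le _, ?_, ?_, ?_⟩
    · rintro ⟨_, s, hs, rfl⟩; exact hpS s hs
    · rintro ⟨_, s, hs, rfl⟩; exact hs
    · rintro ⟨_, s, hs, rfl⟩
      refine hjinj ?_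
      show j (w ⟨QuotientGroup.mk' _ s, hs⟩) = _
      rw [hw, hj, hj, ← map_inv, ← map_mul, ← map_mul]
      rfl
  refine ⟨ev φ'', IsMap.of_hom hφ'', fun v hv => ?_, ?_⟩
  · rw [← hφf ⟨v, hv⟩, ev_of_mem φ'' (le_sup_left (b := W') hv)]
    refine hjinj ?_
    show j (w _) = _
    rw [hw, himage ⟨v, hv⟩]
    exact hxe _ ⟨v, hv, rfl⟩
  · apply le_antisymm
    · refine img_le_iff.2 fun v hv => ?_
      rw [ev_of_mem φ'' (le_sup_right (a := P') hv)]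
      show j (w _) ∈ W
      rw [hw]
      exact hxW.le (CfsgLib.Glau.conj_mem_cj hv)
    · intro v hv
      obtain ⟨u, hu, hue⟩ := hxW.ge (show j v ∈ W from hv)
      obtain ⟨n, hn, hne⟩ := hWT hu
      have hu' : QuotientGroup.mk' _ ⟨n, hn⟩ ∈ W' := by
        show j _ ∈ W
        rw [hj]; exact hne.symm ▸ hu
      have he : ev φ'' (QuotientGroup.mk' _ ⟨n, hn⟩) = v := by
        rw [ev_of_mem φ'' (le_sup_right (a := P') hu')]
        refine hjinj ?_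
        show j (w _) = _
        rw [hw, ← hue]
        show π ⟨x₀, hx₀⟩ * j (QuotientGroup.mk' _ ⟨n, hn⟩) * (π ⟨x₀, hx₀⟩)⁻¹ = π ⟨x₀, hx₀⟩ * u * (π ⟨x₀, hx₀⟩)⁻¹
        rw [hj, show π (Subgroup.inclusion hSN ⟨n, hn⟩) = u from hne]
      exact he ▸ mem_img_of_mem hu'

end CfsgLib.Fus
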