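import Cfsg.Agent.Fus.RealizedSystem
import Cfsg.Agent.Fus.SmallElements

/-!
Fusion systems without proper saturated subsystems other than inner ones.
-/

set_option autoImplicit false
set_option linter.style.haveILetI false

open Cfsg Cfsg.FusionSystem

namespace CfsgLib.Fus.Sparse

universe u

variable {Ω : Type u} [Group Ω] {S : Subgroup Ω} {p : ℕ} [Finite S] [hp : Fact p.Prime]

/-- An automorphism of prime order other than `p` in a system gives the subsystem of a semidirect product. -/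
theorem semidirect_subsystem (hS : IsPGroup p S) {F : FusionSystem S} {R : Subgroup Ω} (hR : R ≤ S)
    {β : MulAut R} (hβ : β ∈ F.autGroup R) {q : ℕ} (hq : q.Prime) (hqp : q ≠ p) (hβq : orderOf β = q) :
    ∃ E : FusionSystem R, E.IsSaturated p ∧ E.IsSubsystemOf F ∧ β ∈ E.autGroup R ∧ β ∉ Inn R ∧
      ∀ P f, IsMap E P f → ∃ γ ∈ Subgroup.zpowers β, ∃ r ∈ R, ∀ x ∈ P, f x = r * autFun γ x * r⁻¹ := by
  haveI := finite_of_le hR
  haveI := finite_mulAut hR
  set C := Subgroup.zpowers β with hCdef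
  have hC : (Nat.card ↥C).Coprime p := by
    rw [hCdef, Nat.card_zpowers, hβq]; exact (Nat.coprime_primes hq hp.out).2 hqp
  have hRp := isPGroup_of_le hS hR
  haveI : Finite (↥R ⋊[C.subtype] ↥C) := Finite.of_equiv _ SemidirectProduct.equivProd.symm
  let ι : ↥R →* ↥R ⋊[C.subtype] ↥C := SemidirectProduct.inl
  have hι : Function.Injective ι := SemidirectProduct.inl_injective
  have hcard : Nat.card ι.range = Nat.card ↥R := (Nat.card_congr (MonoidHom.ofInjective hι).toEquiv).symm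
  have hpg : IsPGroup p ι.range := hRp.of_equiv (MonoidHom.ofInjective hι)
  obtain ⟨T, hT⟩ := hpg.exists_le_sylow
  have hTe : (T : Subgroup _) = ι.range := by
    refine (Subgroup.eq_of_le_of_card_ge hT ?_).symm
    rw [hcard]
    obtain ⟨a, ha⟩ := IsPGroup.iff_card.1 T.2
    have hdvd : p ^ a ∣ Nat.card ↥R * Nat.card ↥C := by
      rw [← ha, ← SemidirectProduct.card]
      exact Subgroup.card_subgroup_dvd_card _
    rw [ha]
    exact Nat.le_of_dvd Nat.card_pos ((Nat.Coprime.pow_left a hC.symm).dvd_of_dvd_mul_right hdvd)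
  have hmaps : ∀ P f, IsMap (realized ι hι) P f → ∃ γ ∈ C, ∃ r ∈ R, ∀ x ∈ P, f x = r * autFun γ x * r⁻¹ := by
    intro P f hf
    obtain ⟨g, hg⟩ := isMap_realized_iff hf.le (fun x hx => hf.mem hx) hf
    refine ⟨g.right, g.right.2, g.left, g.left.2, fun x hx => ?_⟩
    have h1 : ι ⟨f x, hf.mem hx⟩ =
        ι (g.left * (g.right : MulAut R) (⟨x, hf.le hx⟩ : ↥R) * g.left⁻¹) := by
      rw [hg x hx, map_mul, map_mul, map_inv]
      conv_lhs => rw [← SemidirectProduct.inl_left_mul_inr_right g]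
      rw [show ι ((g.right : MulAut R) (⟨x, hf.le hx⟩ : ↥R)) =
        SemidirectProduct.inr g.right * ι ⟨x, hf.le hx⟩ * SemidirectProduct.inr g.right⁻¹ from
          SemidirectProduct.inl_aut (φ := C.subtype) g.right (⟨x, hf.le hx⟩ : ↥R)]
      simp only [ι, map_inv]
      simp only [mul_inv_rev, mul_assoc]
    rw [autFun_of_mem _ (hf.le hx)]
    exact congrArg Subtype.val (hι h1)
  refine ⟨realized ι hι, realized_saturated ι hι T hTe, isSubsystemOf_iff.2 fun P f hf => ?_, ?_, fun hinn => ?_, hmaps⟩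
  · obtain ⟨γ, hγ, r, hr, he⟩ := hmaps P f hf
    have hγA : γ ∈ F.autGroup R := Subgroup.zpowers_le.2 hβ hγ
    exact ((((mem_autGroup hR).1 hγA).mono hf.le).comp (IsMap.conj F hR (hR hr))
      fun x hx => autFun_mem γ (hf.le hx)).congr fun x hx => (he x hx).symm
  · refine (mem_autGroup le_rfl).2 ⟨R.subtype.comp (β : ↥R ≃* ↥R).toMonoidHom,
      ⟨le_rfl, fun x => (β x).2, SemidirectProduct.inr ⟨β, Subgroup.mem_zpowers β⟩, fun x => ?_⟩,
      fun x => (autFun_apply β x).symm⟩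
    rw [← map_inv, ← SemidirectProduct.inl_aut]
    rfl
  · obtain ⟨k, hk⟩ := inn_isPGroup hS hR ⟨β, hinn⟩
    obtain ⟨m, -, hm⟩ := (Nat.dvd_prime_pow hp.out).1
      (orderOf_dvd_of_pow_eq_one (congrArg Subtype.val hk : β ^ p ^ k = 1))
    rw [hβq] at hm
    rcases Nat.eq_zero_or_pos m with rfl | hm0
    · exact hq.ne_one (by simpa using hm)
    · exact hqp ((Nat.prime_dvd_prime_iff_eq hp.out hq).1 (hm ▸ dvd_pow_self p hm0.ne')).symm

theorem sparse (hS : IsPGroup p S) {F : FusionSystem S} (hF : F.IsSaturated p)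
    (hne : ¬ ∀ P : Subgroup Ω, F.Hom P = (innerFusionSystem S).Hom P)
    (h : ∀ (T : Subgroup Ω) (E : FusionSystem T), E.IsSaturated p → E.IsSubsystemOf F →
      (T = S ∧ ∀ P : Subgroup Ω, E.Hom P = F.Hom P) ∨ ∀ P : Subgroup Ω, E.Hom P = (innerFusionSystem T).Hom P) :
    F.IsNormal S ∧ F.focalSubgroup = S ∧ F.hyperfocalSubgroup p = S ∧
      ∃ (q : ℕ) (β : MulAut ↥S), q.Prime ∧ q ≠ p ∧ β ∈ F.autGroup S ∧ orderOf β = q ∧
        (F.autGroup S : Subgroup (MulAut ↥S)) = Inn ↥S ⊔ Subgroup.zpowers β := by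
  -- an automorphism of prime order other than `p` lives on `S` and gives everything
  have hclaim : ∀ R ≤ S, ∀ β ∈ F.autGroup R, ∀ q : ℕ, q.Prime → q ≠ p → orderOf β = q →
      R = S ∧ ∀ P f, IsMap F P f → ∃ γ ∈ Subgroup.zpowers β, ∃ r ∈ R, ∀ x ∈ P, f x = r * autFun γ x * r⁻¹ := by
    intro R hR β hβ q hq hqp hβq
    obtain ⟨E, hEs, hEF, hβE, hβI, hmaps⟩ := semidirect_subsystem hS hR hβ hq hqp hβq
    rcases h R E hEs hEF with ⟨rfl, hEeq⟩ | hinn
    · refine ⟨rfl, fun P f ⟨φ, hφ, hφf⟩ => hmaps P f ⟨φ, ?_, hφf⟩⟩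
      rw [hEeq]; exact hφ
    · exfalso
      obtain ⟨φ, hφ, hφe⟩ := (mem_autGroup le_rfl).1 hβE
      rw [hinn] at hφ
      obtain ⟨-, r, hr, hre⟩ := hφ
      refine hβI ?_
      rw [inn_eq_autInducedBy]
      exact mem_autInducedBy.2 ⟨r, hr, fun x hx => (hφe ⟨x, hx⟩).symm.trans (hre ⟨x, hx⟩)⟩
  -- there is one
  obtain ⟨R, hR, β, hβ, q, hq, hqp, hβq⟩ : ∃ R ≤ S, ∃ β ∈ F.autGroup R, ∃ q : ℕ, q.Prime ∧ q ≠ p ∧
      orderOf β = q := by
    by_contra hall
    refine hne (inner_of_ptriv hS hF fun P hP α hα hco x hx => ?_)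
    have hα1 : α = 1 := by
      by_contra h1
      obtain ⟨q, hq, hqd⟩ := Nat.exists_prime_and_dvd (fun h2 => h1 (orderOf_eq_one_iff.1 h2))
      haveI := finite_mulAut hP
      obtain ⟨d, hd⟩ := hqd
      refine hall ⟨P, hP, α ^ d, pow_mem hα d, q, hq, ?_, ?_⟩
      · rintro rfl
        exact hp.out.ne_one (Nat.eq_one_of_dvd_coprimes hco ⟨d, hd⟩ dvd_rfl)
      · rw [orderOf_pow, hd, Nat.gcd_mul_left_left, Nat.mul_div_cancel q (Nat.pos_of_ne_zero fun h0 => by
          rw [h0, Nat.mul_zero] at hd; exact (orderOf_pos α).ne' hd)]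
    rw [hα1, autFun_one hx, inv_mul_cancel]
    exact one_mem _
  obtain ⟨rfl, hmaps⟩ := hclaim R hR β hβ q hq hqp hβq
  have hβm := (mem_autGroup le_rfl).1 hβ
  have hgen : ∀ γ ∈ Subgroup.zpowers β, γ ∈ F.autGroup R := fun γ hγ => Subgroup.zpowers_le.2 hβ hγ
  have hhyp : F.hyperfocalSubgroup p = R := by
    refine le_antisymm (hyperfocal_le hS) ?_
    set T := F.hyperfocalSubgroup p with hT
    have hTle : T ≤ R := hyperfocal_le hS
    have hco : (orderOf β).Coprime p := by rw [hβq]; exact (Nat.coprime_primes hq hp.out).2 hqp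
    have hsh : ∀ y ∈ R, y⁻¹ * autFun β y ∈ T := fun y hy => hyperfocal_le_iff.1 le_rfl R le_rfl β hβ hco y hy
    have hinv : ∀ y ∈ T, autFun β y ∈ T := fun y hy => by
      have := T.mul_mem hy (hsh y (hTle hy))
      rwa [mul_inv_cancel_left] at this
    haveI := finite_of_le hTle
    obtain ⟨a, hao, ha⟩ := exists_restrict_aut hTle β hinv
    by_cases ha1 : a = 1
    · exfalso
      refine hq.ne_one ?_
      rw [← hβq, orderOf_eq_one_iff]
      exact aut_ext fun y hy => by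
        rw [autFun_one hy]
        refine fix_of_fix_quotient hS le_rfl hco hy ?_
        rw [← ha _ (hsh y hy), ha1, autFun_one (hsh y hy)]
    · have haA : a ∈ F.autGroup T := (mem_autGroup hTle).2 ((hβm.mono hTle).congr fun y hy => (ha y hy).symm)
      have hao' : orderOf a = q :=
        ((Nat.dvd_prime hq).1 (hβq ▸ hao)).resolve_left fun h1 => ha1 (orderOf_eq_one_iff.1 h1)
      exact (hclaim T hTle a haA q hq hqp hao').1.ge
  refine ⟨⟨le_rfl, fun P φ hφ => ?_⟩, ?_, hhyp, q, β, hq, hqp, hβ, hβq, ?_⟩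
  · have hP := (F.le_of_mem hφ).1
    obtain ⟨γ, hγ, r, hr, he⟩ := hmaps P _ (IsMap.of_hom hφ)
    have hm : IsMap F R (conjF r ∘ autFun γ) :=
      ((mem_autGroup le_rfl).1 (hgen γ hγ)).comp (IsMap.conj F le_rfl hr) fun x hx => autFun_mem γ hx
    obtain ⟨ψ, hψ, hψe⟩ := hm.mono (sup_le hP le_rfl : P ⊔ R ≤ R)
    refine ⟨ψ, hψ, fun x => ?_, ?_⟩
    · rw [hψe, ← ev_apply φ x, he x x.2]; rfl
    · rw [map_subgroupOf_eq_img ψ le_sup_right,
        img_congr (g := conjF r ∘ autFun γ) fun x hx => (ev_of_mem ψ (le_sup_right (a := P) hx)).trans (hψe _)]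
      exact Subgroup.eq_of_le_of_card_ge hm.img_le hm.card_img.ge
  · refine le_antisymm ((Subgroup.closure_le _).2 ?_) ?_
    · rintro _ ⟨P, φ, x, hφ, rfl⟩
      exact R.mul_mem (R.inv_mem ((F.le_of_mem hφ).1 x.2)) ((F.le_of_mem hφ).2 x)
    · conv_lhs => rw [← hhyp]
      exact hyperfocal_le_iff.2 fun P hP α hα _ x hx => mem_focal_of_map ((mem_autGroup hP).1 hα) hx
  · refine le_antisymm (fun α hα => ?_) (sup_le (inn_le_autGroup le_rfl) (Subgroup.zpowers_le.2 hβ))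
    obtain ⟨γ, hγ, r, hr, he⟩ := hmaps R _ ((mem_autGroup le_rfl).1 hα)
    have heq : α = MulAut.conj (⟨r, hr⟩ : R) * γ := aut_ext fun x hx => by
      rw [he x hx, autFun_mul _ _ hx, autFun_of_mem (MulAut.conj (⟨r, hr⟩ : R)) (autFun_mem γ hx)]
      rfl
    rw [heq]
    exact Subgroup.mul_mem_sup ⟨_, rfl⟩ hγ

end CfsgLib.Fus.Sparse
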