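import Cfsg.Agent.Fus.JInduction
import Cfsg.Agent.Fus.Model
import Cfsg.Agent.Fus.Control

/-!
Inductions over fully normalized subgroups ordered by the size of the normalizer and then of the subgroup: for properties of
maps that hold for all maps fixing some central elements pointwise, and for automorphism groups being `p`-groups; passage
between stabilizing maps and the model.
-/

set_option autoImplicit false
set_option linter.style.haveILetI false

open Cfsg Cfsg.FusionSystem

namespace CfsgLib.Fus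

variable {Ω : Type*} [Group Ω] {S : Subgroup Ω} {F : FusionSystem S} {p : ℕ}

/-- `Y` precedes `X`: its normalizer is larger, or as large and the subgroup itself is larger. -/
def Prior (S X Y : Subgroup Ω) : Prop :=
  Nat.card ↥(normalizerIn S X) < Nat.card ↥(normalizerIn S Y) ∨
    (Nat.card ↥(normalizerIn S X) ≤ Nat.card ↥(normalizerIn S Y) ∧ Nat.card ↥X < Nat.card ↥Y)

theorem prior_rec [Finite S] {X Y : Subgroup Ω} (hY : Y ≤ S) (h : Prior S X Y) :
    (Nat.card S - Nat.card ↥(normalizerIn S Y)) * (Nat.card S + 1) + (Nat.card S - Nat.card ↥Y) <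
      (Nat.card S - Nat.card ↥(normalizerIn S X)) * (Nat.card S + 1) + (Nat.card S - Nat.card ↥X) := by
  have h1 : Nat.card ↥(normalizerIn S Y) ≤ Nat.card S := Subgroup.card_le_of_le (normalizerIn_le Y)
  have h2 : Nat.card ↥Y ≤ Nat.card S := Subgroup.card_le_of_le hY
  rcases h with h | ⟨h, h'⟩
  · have : (Nat.card S - Nat.card ↥(normalizerIn S Y) + 1) * (Nat.card S + 1) ≤
        (Nat.card S - Nat.card ↥(normalizerIn S X)) * (Nat.card S + 1) :=
      Nat.mul_le_mul_right _ (by omega)
    rw [Nat.add_mul, one_mul] at this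
    omega
  · have : (Nat.card S - Nat.card ↥(normalizerIn S Y)) * (Nat.card S + 1) ≤
        (Nat.card S - Nat.card ↥(normalizerIn S X)) * (Nat.card S + 1) :=
      Nat.mul_le_mul_right _ (by omega)
    omega

theorem prior_of_conj {X R₁ Y : Subgroup Ω} (h : Prior S X R₁) (hY : F.IsFullyNormalized Y) (hc : F.IsConj R₁ Y) :
    Prior S X Y := by
  have hN : Nat.card ↥(normalizerIn S R₁) ≤ Nat.card ↥(normalizerIn S Y) := hY.2 _ (isConj_symm hc)
  rcases h with h | ⟨h, h'⟩
  · exact Or.inl (h.trans_le hN)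
  · exact Or.inr ⟨h.trans hN, by rw [card_eq_of_isConj hc]; exact h'⟩

theorem prior_of_lt [Finite S] {X R₁ : Subgroup Ω} (hlt : X < R₁) (hR₁ : R₁ ≤ S)
    (hN : normalizerIn S X ≤ normalizerIn S R₁) : Prior S X R₁ := by
  haveI := finite_of_le (normalizerIn_le (S := S) R₁)
  exact Or.inr ⟨Subgroup.card_le_of_le hN, card_lt_of_lt hR₁ hlt⟩

/-- A subgroup of `X` or of `N_S(X) < S` normalized by `N_S(N_S(X))` precedes `X`. -/
theorem prior_of_normalizer [Finite S] [Fact p.Prime] (hS : IsPGroup p S) {X Y : Subgroup Ω}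
    (hlt : normalizerIn S X ≠ S) (hN : normalizerIn S (normalizerIn S X) ≤ normalizerIn S Y) : Prior S X Y := by
  haveI := finite_of_le (normalizerIn_le (S := S) Y)
  exact Or.inl ((card_lt_of_lt (normalizerIn_le _) (lt_normalizerIn hS
    (lt_of_le_of_ne (normalizerIn_le X) hlt))).trans_le (Subgroup.card_le_of_le hN))

/-- The maps stabilizing a prior subgroup lie in `E`, when this makes sense for its fully normalized conjugates. -/
def Move (F E : FusionSystem S) (Z₀ X : Subgroup Ω) : Prop :=
  ∀ R₁ : Subgroup Ω, R₁ ≤ S → Prior S X R₁ → (∀ Y, F.IsConj R₁ Y → F.IsFullyNormalized Y → Z₀ ≤ Y) →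
    ∀ (M : Subgroup Ω) g, IsMap F M g → R₁ ≤ M → M ≤ normalizerIn S R₁ → img g R₁ = R₁ → IsMap E M g

/-- For a property of maps that holds whenever the central elements `Z₀` are fixed, it is enough to treat the stabilizers of
fully normalized centric subgroups, assuming it for the stabilizers of the prior subgroups. -/
theorem pointed_induction [Finite S] [Fact p.Prime] (hS : IsPGroup p S) (hF : F.IsSaturated p) (E : FusionSystem S)
    (Z₀ : Subgroup Ω) (hZ₀ : Z₀ ≤ Zc S)
    (hfix : ∀ (P : Subgroup Ω) f, IsMap F P f → Z₀ ≤ P → (∀ v ∈ Z₀, f v = v) → IsMap E P f)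
    (step : ∀ X : Subgroup Ω, F.IsFullyNormalized X → F.IsCentric X → Move F E Z₀ X → StabIn F E X) : F ≤ E := by
  have key : ∀ (n : ℕ) (X : Subgroup Ω),
      (Nat.card S - Nat.card ↥(normalizerIn S X)) * (Nat.card S + 1) + (Nat.card S - Nat.card ↥X) = n →
      F.IsFullyNormalized X → Z₀ ≤ X → StabIn F E X := by
    intro n
    induction n using Nat.strong_induction_on with
    | _ n ih =>
    intro X hn hX hZX
    have hXS := hX.1
    haveI := finite_of_le hXS
    haveI := finite_of_le (normalizerIn_le (S := S) X)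
    have lex : ∀ Y, F.IsFullyNormalized Y → Z₀ ≤ Y → Prior S X Y → StabIn F E Y := fun Y hY hZY hp =>
      ih _ (hn ▸ prior_rec hY.1 hp) Y rfl hY hZY
    have hbig : ∀ P f, IsMap F P f → Nat.card ↥X < Nat.card ↥P →
        Nat.card ↥(normalizerIn S X) ≤ Nat.card ↥P → IsMap E P f := fun P f hf h1 h2 => by
      refine maps_ge hS hF E (max (Nat.card ↥X + 1) (Nat.card ↥(normalizerIn S X))) (fun Q hQ hQc hm => ?_) hf
        (max_le h1 h2)
      haveI := finite_of_le (normalizerIn_le (S := S) Q)
      have hQN : Nat.card ↥Q ≤ Nat.card ↥(normalizerIn S Q) := Subgroup.card_le_of_le (le_normalizerIn hQ.1)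
      have hst := lex Q hQ (hZ₀.trans (Zc_le_centric hQc))
        (Or.inr ⟨((le_max_right _ _).trans hm).trans hQN, (le_max_left _ _).trans hm⟩)
      exact (autGroup_le_iff hQ.1 hQ.1).2 fun f hf hfi => hst Q f hf le_rfl (le_normalizerIn hQ.1) hfi
    have hmove : Move F E Z₀ X := by
      intro R₁ hR₁ hp hZ M g hg hRM hMN hgR
      haveI := finite_of_le hR₁
      haveI := finite_of_le (normalizerIn_le (S := S) R₁)
      obtain ⟨Y, hRY, hY⟩ := exists_fullyNormalized (F := F) hR₁
      have h1 : Nat.card ↥R₁ ≤ Nat.card ↥(normalizerIn S R₁) := Subgroup.card_le_of_le (le_normalizerIn hR₁)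
      have h2 : Nat.card ↥X ≤ Nat.card ↥(normalizerIn S X) := Subgroup.card_le_of_le (le_normalizerIn hXS)
      refine stab_of_conj hS hF E hY hRY (fun f hf => hbig _ f hf ?_ ?_)
        (lex Y hY (hZ Y hRY hY) (prior_of_conj hp hY hRY)) hg hRM hMN hgR
      · rcases hp with h | ⟨h, h'⟩ <;> omega
      · rcases hp with h | ⟨h, h'⟩ <;> omega
    by_cases hC : centralizerIn S X ≤ X
    · exact step X hX (centric_of_fc (fullyCentralized_of_fullyNormalized hS hF hX) hC) hmove
    intro P f hf hXP hPN hfX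
    set C := centralizerIn S X with hCdef
    obtain ⟨g, hg, hgX, hgC, κ, hκ, -, hκe⟩ := split_stab hS hF hX ⊥ (fun α _ κ hκ => by
      rw [Subgroup.mem_bot] at hκ ⊢
      rw [hκ, mul_one, mul_inv_cancel]) hf hXP hPN hfX (R₁ := C) (centralizerIn_le_normalizerIn X) fun r hr => by
        refine ⟨fun h γ hγ => Subgroup.mem_bot.2 (aut_ext fun x hx => ?_), fun h => ⟨hr.1, fun x hx => ?_⟩⟩
        · rw [hγ x hx, autFun_one hx, ← h.2 x hx, mul_inv_cancel_right]
        · obtain ⟨γ, -, hγ⟩ := exists_autInducedBy (K := S) hr.1 hr.2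
          have h1 := hγ x hx
          rw [Subgroup.mem_bot.1 (h γ hγ), autFun_one hx, eq_comm, mul_inv_eq_iff_eq_mul] at h1
          exact h1.symm
    have hXC : X ⊔ C ≤ normalizerIn S X := sup_le (le_normalizerIn hXS) (centralizerIn_le_normalizerIn X)
    have hNN : normalizerIn S X ≤ normalizerIn S (X ⊔ C) := by
      have hconj : ∀ a ∈ normalizerIn S X, ∀ y ∈ X ⊔ C, a * y * a⁻¹ ∈ X ⊔ C := by
        intro a ha y hy
        have hle : X ⊔ C ≤ (X ⊔ C).comap (MulAut.conj a).toMonoidHom := sup_le
          (fun x hx => Subgroup.mem_sup_left (conj_mem_of_normalizer ha.2 hx))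
          (fun x hx => Subgroup.mem_sup_right ⟨S.mul_mem (S.mul_mem ha.1 hx.1) (S.inv_mem ha.1),
            conj_mem_of_normalizer (CfsgLib.Glau.centralizer_normalizer ha.2) hx.2⟩)
        exact hle hy
      exact fun a ha => ⟨ha.1, mem_normalizer_of_conj (hconj a ha) fun y hy => by
        simpa using hconj a⁻¹ ((normalizerIn S X).inv_mem ha) y hy⟩
    have hlt : X < X ⊔ C := lt_of_le_of_ne le_sup_left fun h => hC (h.ge.trans' le_sup_right)
    have hc : F.IsCentric (X ⊔ C) := centric_of_centralizer_le (fullyCentralized_of_fullyNormalized hS hF hX)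
      le_sup_left (hXC.trans (normalizerIn_le X)) le_sup_right
    have hM : X ⊔ C ≤ P ⊔ C := sup_le_sup_right hXP C
    have hgE := (hmove (X ⊔ C) (hXC.trans (normalizerIn_le X)) (prior_of_lt hlt (hXC.trans (normalizerIn_le X)) hNN)
      (fun Y hY _ => hZ₀.trans (Zc_le_centric (centric_of_isConj hc hY))) _ g hg hM
      ((sup_le hPN (centralizerIn_le_normalizerIn X)).trans hNN)
      (by rw [(hg.mono hM).img_sup le_sup_left le_sup_right, hgX, hgC])).mono (le_sup_left (b := C))
    obtain ⟨k, hk, hkl, -, hki⟩ := (hg.mono (le_sup_left (b := C))).inv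
    have hγ : IsMap F (img g P) (f ∘ k) := hk.comp hf fun y hy => hki.le (mem_img_of_mem hy)
    have hXg : X ≤ img g P := hgX.symm.le.trans (img_mono hXP)
    have hγE : IsMap E (img g P) (f ∘ k) := hfix _ _ hγ (hZX.trans hXg) fun v hv => by
      obtain ⟨x, hx, rfl⟩ := ((hg.mono (le_sup_left (b := C))).mono hXP).mem_img.1 (hgX.ge (hZX hv))
      rw [Function.comp_apply, hkl x (hXP hx), hκe x hx, Subgroup.mem_bot.1 hκ, autFun_one]
      exact hgX.le (mem_img_of_mem hx)
    exact (hgE.comp hγE fun x hx => mem_img_of_mem hx).congr fun x hx => by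
      rw [Function.comp_apply, Function.comp_apply, hkl x hx]
  refine le_iff.2 fun P f hf => maps_ge hS hF E 0 (fun Q hQ hQc _ => ?_) hf (Nat.zero_le _)
  exact (autGroup_le_iff hQ.1 hQ.1).2 fun f hf hfi =>
    key _ Q rfl hQ (hZ₀.trans (Zc_le_centric hQc)) Q f hf le_rfl (le_normalizerIn hQ.1) hfi

/-- To show that all automorphism groups are `p`-groups it is enough to treat fully normalized centric subgroups, the prior ones
being known. -/
theorem autP_induction [Finite S] [Fact p.Prime] (hS : IsPGroup p S) (hF : F.IsSaturated p)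
    (step : ∀ X : Subgroup Ω, F.IsFullyNormalized X → F.IsCentric X →
      (∀ Y : Subgroup Ω, Y ≤ S → Prior S X Y → IsPGroup p (F.autGroup Y)) → IsPGroup p (F.autGroup X)) :
    ∀ P : Subgroup Ω, P ≤ S → IsPGroup p (F.autGroup P) := by
  have tr : ∀ P Y : Subgroup Ω, F.IsConj P Y → IsPGroup p (F.autGroup Y) → IsPGroup p (F.autGroup P) := by
    intro P Y h hY
    haveI := finite_mulAut (S := S) (isConj_le h).1
    haveI := finite_mulAut (S := S) (isConj_le h).2
    obtain ⟨n, hn⟩ := IsPGroup.iff_card.1 hY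
    exact IsPGroup.of_card (n := n) (by rw [← card_autGroup_eq h, hn])
  have key : ∀ (n : ℕ) (X : Subgroup Ω),
      (Nat.card S - Nat.card ↥(normalizerIn S X)) * (Nat.card S + 1) + (Nat.card S - Nat.card ↥X) = n →
      F.IsFullyNormalized X → IsPGroup p (F.autGroup X) := by
    intro n
    induction n using Nat.strong_induction_on with
    | _ n ih =>
    intro X hn hX
    have hXS := hX.1
    have lex : ∀ Y : Subgroup Ω, Y ≤ S → Prior S X Y → IsPGroup p (F.autGroup Y) := fun Y hY hp => by
      obtain ⟨Y', hYY', hY'⟩ := exists_fullyNormalized (F := F) hY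
      exact tr Y Y' hYY' (ih _ (hn ▸ prior_rec hY'.1 (prior_of_conj hp hY' hYY')) Y' rfl hY')
    by_cases hC : centralizerIn S X ≤ X
    · exact step X hX (centric_of_fc (fullyCentralized_of_fullyNormalized hS hF hX) hC) lex
    set C := centralizerIn S X with hCdef
    set Y := X ⊔ C with hY
    have hYS : Y ≤ S := sup_le hXS (centralizerIn_le X)
    have hNN : normalizerIn S X ≤ normalizerIn S Y := by
      have hconj : ∀ a ∈ normalizerIn S X, ∀ y ∈ Y, a * y * a⁻¹ ∈ Y := by
        intro a ha y hy
        have hle : Y ≤ Y.comap (MulAut.conj a).toMonoidHom := sup_le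
          (fun x hx => Subgroup.mem_sup_left (conj_mem_of_normalizer ha.2 hx))
          (fun x hx => Subgroup.mem_sup_right ⟨S.mul_mem (S.mul_mem ha.1 hx.1) (S.inv_mem ha.1),
            conj_mem_of_normalizer (CfsgLib.Glau.centralizer_normalizer ha.2) hx.2⟩)
        exact hle hy
      exact fun a ha => ⟨ha.1, mem_normalizer_of_conj (hconj a ha) fun y hy => by
        simpa using hconj a⁻¹ ((normalizerIn S X).inv_mem ha) y hy⟩
    have hYp := lex Y hYS (prior_of_lt (lt_of_le_of_ne le_sup_left fun h => hC (h.ge.trans' le_sup_right)) hYS hNN)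
    haveI := finite_mulAut (S := S) hXS
    obtain ⟨-, hrec⟩ := fullyNormalized_spec hS hF hX
    intro α
    obtain ⟨g, hg, hge⟩ := extend_aut hrec α.2 (N := C) (centralizerIn_le_normalizerIn X) fun r hr γ hγ => by
      have hγ1 : γ = 1 := aut_ext fun x hx => by
        rw [hγ x hx, autFun_one hx, ← hr.2 x hx, mul_inv_cancel_right]
      rw [hγ1, mul_one, mul_inv_cancel]
      exact one_mem _
    have hgX : img g X = X := (img_congr hge).trans (img_autFun _)
    have hgY : img g Y = Y := by
      haveI := finite_of_le hYS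
      refine Subgroup.eq_of_le_of_card_ge ?_ hg.card_img.ge
      rw [hg.img_sup le_sup_left le_sup_right, hgX]
      refine sup_le le_sup_left (le_sup_of_le_right ?_)
      have := (hg.img_centralizerIn_le (P := X) le_sup_left le_sup_right)
      rwa [hgX] at this
    obtain ⟨β, hβ, hβe⟩ := exists_aut hg hgY
    obtain ⟨k, hk⟩ := hYp ⟨β, hβ⟩
    refine ⟨k, Subtype.ext (aut_ext fun x hx => ?_)⟩
    have hit : ∀ m : ℕ, autFun ((α : MulAut X) ^ m) x = autFun (β ^ m) x := by
      intro m
      induction m with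
      | zero => rw [pow_zero, pow_zero, autFun_one hx, autFun_one (le_sup_left (b := C) hx : x ∈ Y)]
      | succ m ihm =>
        rw [pow_succ', pow_succ', autFun_mul _ _ hx, autFun_mul _ _ (le_sup_left (b := C) hx : x ∈ Y), ← ihm,
          hβe _ (le_sup_left (b := C) (autFun_mem _ hx)), hge _ (autFun_mem _ hx)]
    rw [SubmonoidClass.coe_pow, OneMemClass.coe_one, hit, autFun_one hx,
      show β ^ p ^ k = 1 from congrArg Subtype.val hk, autFun_one (le_sup_left (b := C) hx : x ∈ Y)]
  intro P hP
  obtain ⟨Y, hPY, hY⟩ := exists_fullyNormalized (F := F) hP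
  exact tr P Y hPY (key _ Y rfl hY)

end CfsgLib.Fus
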