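import Cfsg.Agent.Fus.GroupStable
import Cfsg.Agent.Fus.SystemSaturation

/-!
Stability of a fusion system and of its normalizer systems.
-/

set_option autoImplicit false
set_option linter.style.haveILetI false

open Cfsg Cfsg.FusionSystem
open scoped commutatorElement

namespace CfsgLib.Fus.StableNorm

variable {Ω : Type*} [Group Ω] {S : Subgroup Ω} {p : ℕ}

/-- `χ` acts quadratically. -/
def Quad {H : Type*} [Group H] (χ : MulAut H) : Prop := ∀ a : H, (χ a⁻¹) * a * (χ a⁻¹) * (χ (χ a)) = 1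

/-- Quadratic elements of the automizer of `Q` lie in its `p`-core. -/
def StableAt (F : FusionSystem S) (p : ℕ) (Q : Subgroup Ω) : Prop :=
  ∀ χ : MulAut ↥Q, χ ∈ F.autGroup Q → Quad χ →
    χ ∈ ((pCore p ↥(F.autGroup Q)).map (F.autGroup Q).subtype : Subgroup (MulAut ↥Q))

theorem quad_fix {H : Type*} [Group H] {χ : MulAut H} (h : Quad χ) (a : H) : χ (a⁻¹ * χ a) = a⁻¹ * χ a := by
  have h1 := h a
  rw [map_inv, mul_assoc, mul_assoc] at h1
  have h2 : χ (χ a) = χ a * (a⁻¹ * χ a) := by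
    calc χ (χ a) = χ a * (a⁻¹ * χ a) * ((χ a)⁻¹ * (a * ((χ a)⁻¹ * χ (χ a)))) := by group
      _ = χ a * (a⁻¹ * χ a) := by rw [h1, mul_one]
  rw [map_mul, map_inv, h2, inv_mul_cancel_left]

theorem quad_pow {H : Type*} [Group H] {χ : MulAut H} (h : Quad χ) (a : H) (n : ℕ) :
    (χ ^ n) a = a * (a⁻¹ * χ a) ^ n := by
  induction n with
  | zero => simp
  | succ n ih =>
    rw [pow_succ' χ, MulAut.mul_apply, ih, map_mul, map_pow, quad_fix h, pow_succ' (a⁻¹ * χ a), ← mul_assoc,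
      mul_inv_cancel_left]

theorem mem_core_of_normal {A : Type*} [Group A] {G K : Subgroup A} (hKG : K ≤ G) (hKp : IsPGroup p K)
    (hKn : ∀ α ∈ G, ∀ κ ∈ K, α * κ * α⁻¹ ∈ K) {χ : A} (hχ : χ ∈ K) :
    χ ∈ (pCore p ↥G).map G.subtype := by
  haveI : (K.subgroupOf G).Normal := ⟨fun a ha b => hKn b b.2 a ha⟩
  have hle : K.subgroupOf G ≤ pCore p ↥G :=
    le_sSup ⟨inferInstance, hKp.comap_of_injective _ (Subgroup.subtype_injective _)⟩
  exact ⟨⟨χ, hKG hχ⟩, hle hχ, rfl⟩

theorem core_isPGroup' {A : Type*} [Group A] (G : Subgroup A) [Finite G] :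
    IsPGroup p ↥((pCore p ↥G).map G.subtype) :=
  (CfsgLib.Solv.pCore_isPGroup ↥G p).map _

theorem core_normal' {A : Type*} [Group A] (G : Subgroup A) :
    ∀ α ∈ G, ∀ κ ∈ (pCore p ↥G).map G.subtype, α * κ * α⁻¹ ∈ (pCore p ↥G).map G.subtype := by
  rintro α hα _ ⟨k, hk, rfl⟩
  exact ⟨⟨α, hα⟩ * k * ⟨α, hα⟩⁻¹, (CfsgLib.Solv.pCore_normal ↥G p).conj_mem k hk ⟨α, hα⟩, rfl⟩

variable {F : FusionSystem S} [Finite S] [hp : Fact p.Prime]

/-- Stability at a subgroup passes to its conjugates. -/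
theorem stableAt_conj {Q R : Subgroup Ω} (hQR : F.IsConj R Q) (h : StableAt F p Q) : StableAt F p R := by
  intro χ hχ hq
  obtain ⟨f, hf, hfi⟩ := isConj_iff.1 hQR
  obtain ⟨e, he⟩ := hf.equiv hfi
  haveI := finite_mulAut (isConj_le hQR).1
  haveI := finite_mulAut (isConj_le hQR).2
  have hq' : Quad (MulAut.congr e χ) := fun a => by
    have := congrArg e (hq (e.symm a))
    simpa [MulAut.congr_apply] using this
  have hmem := h _ (congr_mem_autGroup hf hfi he hχ) hq'
  set C := (pCore p ↥(F.autGroup Q)).map (F.autGroup Q).subtype with hC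
  refine mem_core_of_normal (K := C.comap (MulAut.congr e).toMonoidHom) ?_ ?_ ?_ hmem
  · intro κ hκ
    have h1 : MulAut.congr e κ ∈ F.autGroup Q := Subgroup.map_subtype_le _ hκ
    rw [← map_autGroup hf hfi he] at h1
    obtain ⟨b, hb, hbe⟩ := h1
    exact (MulAut.congr e).injective hbe ▸ hb
  · exact (core_isPGroup' _).comap_of_injective _ (MulAut.congr e).injective
  · intro α hα κ hκ
    show MulAut.congr e (α * κ * α⁻¹) ∈ C
    rw [map_mul, map_mul, map_inv]
    exact core_normal' _ _ (congr_mem_autGroup hf hfi he hα) _ hκ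

theorem stableAt_cyclic (hS : IsPGroup p S) {Q : Subgroup Ω} (hQ : Q ≤ S) (hc : IsCyclic ↥Q) :
    StableAt F p Q := by
  intro χ hχ hq
  haveI := finite_of_le hQ
  haveI := finite_mulAut hQ
  obtain ⟨c, hcard⟩ := IsPGroup.iff_card.1 (isPGroup_of_le hS hQ)
  have h1 : χ ^ p ^ c = 1 := MulEquiv.ext fun a => by
    rw [quad_pow hq, ← hcard, pow_card_eq_one', mul_one, MulAut.one_apply]
  refine mem_core_of_normal (K := Subgroup.zpowers χ) (Subgroup.zpowers_le.2 hχ) (fun z => ?_) ?_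
    (Subgroup.mem_zpowers χ)
  · obtain ⟨j, hj⟩ := Subgroup.mem_zpowers_iff.1 z.2
    exact ⟨c, Subtype.ext (by
      rw [SubmonoidClass.coe_pow, ← hj, ← zpow_natCast, ← zpow_mul, mul_comm, zpow_mul, zpow_natCast, h1, one_zpow]
      rfl)⟩
  · intro α _ κ hκ
    have hcm : α * κ = κ * α := (IsCyclic.mulAutMulEquiv ↥Q).injective (by rw [map_mul, map_mul, mul_comm])
    rw [hcm, mul_inv_cancel_right]; exact hκ

theorem stable_iff (hS : IsPGroup p S) (hF : F.IsSaturated p) :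
    (∀ Q : Subgroup Ω, F.IsFullyNormalized Q → StableAt F p Q) ↔
      ∀ R : Subgroup Ω, F.IsFullyNormalized R → ¬ IsCyclic ↥R → ∀ N : FusionSystem (normalizerIn S R),
        F.IsNormalizerSystem R N → ∀ Q : Subgroup Ω, N.IsFullyNormalized Q → StableAt N p Q := by
  constructor
  · intro h R hR _ N hN Q hQ χ hχ hq
    have hQS : Q ≤ S := hQ.1.trans (normalizerIn_le R)
    haveI := finite_mulAut hQS
    obtain ⟨Q', hc, hQ'⟩ := exists_fullyNormalized (F := F) hQS
    have hNF : N.autGroup Q ≤ F.autGroup Q := (autGroup_le_iff hQ.1 hQS).2 fun f hf _ =>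
      ((isMap_normalizerSystem_iff hR.1 hN Q f).1 hf).1
    have h1 := stableAt_conj hc (h Q' hQ') χ (hNF hχ) hq
    set C := (pCore p ↥(F.autGroup Q)).map (F.autGroup Q).subtype with hC
    refine mem_core_of_normal (K := N.autGroup Q ⊓ C) inf_le_left ?_ ?_ (Subgroup.mem_inf.2 ⟨hχ, h1⟩)
    · exact (core_isPGroup' _).to_le inf_le_right
    · exact fun α hα κ hκ => Subgroup.mem_inf.2 ⟨mul_mem (mul_mem hα hκ.1) (inv_mem hα),
        core_normal' _ α (hNF hα) κ hκ.2⟩
  · intro h Q hQ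
    by_cases hc : IsCyclic ↥Q
    · exact stableAt_cyclic hS hQ.1 hc
    obtain ⟨N, hN⟩ := exists_normalizerSystem F hQ.1
    haveI := finite_of_le (normalizerIn_le (S := S) Q)
    have hQN : Q ≤ normalizerIn S Q := le_normalizerIn hQ.1
    have hfn : N.IsFullyNormalized Q := ⟨hQN, fun R hR => by
      obtain ⟨f, hf, hfi⟩ := isConj_iff.1 hR
      obtain ⟨-, -, -, g, -, hge, hgQ⟩ := (isMap_normalizerSystem_iff hQ.1 hN Q f).1 hf
      rw [← hfi, img_congr fun x hx => (hge x hx).symm, hgQ]⟩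
    have heq : N.autGroup Q = F.autGroup Q := le_antisymm
      ((autGroup_le_iff hQN hQ.1).2 fun f hf _ => ((isMap_normalizerSystem_iff hQ.1 hN Q f).1 hf).1)
      ((autGroup_le_iff hQ.1 hQN).2 fun f hf hfi => (isMap_normalizerSystem_iff hQ.1 hN Q f).2
        ⟨hf, hQN, fun x hx => hQN (hfi ▸ mem_img_of_mem hx), f, by rwa [sup_idem], fun _ _ => rfl, hfi⟩)
    intro χ hχ hq
    have := h Q hQ hc N hN Q hfn χ (heq ▸ hχ) hq
    rwa [heq] at this

/-- Stability of a group gives stability of its fusion system. -/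
theorem stableAt_of_group {G : Type*} [Group G] [Finite G] (P : Sylow p G) (hst : IsNormalizerPStable p G)
    {Q : Subgroup G} (hQ : Q ≤ (P : Subgroup G)) : StableAt (groupFusionSystem (P : Subgroup G)) p Q := by
  intro χ hχ hq
  obtain ⟨g, -, hg⟩ := mem_autInducedBy.1 (autInducedBy_le_group hχ)
  have hgN : g ∈ Subgroup.normalizer (Q : Set G) := mem_normalizer_of_aut (α := χ) hg
  have hgi : ∀ a : ↥Q, ((χ a : ↥Q) : G) = g * a * g⁻¹ := fun a => (autFun_apply χ a).symm.trans (hg a a.2)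
  have hcomm : ⁅⁅Q, Subgroup.zpowers g⁆, Subgroup.zpowers g⁆ = ⊥ := by
    rw [Subgroup.commutator_eq_bot_iff_le_centralizer]
    refine Subgroup.commutator_le.2 fun b hb c hc => ?_
    obtain ⟨n, rfl⟩ := (Submonoid.mem_powers_iff _ _).1 (mem_powers_iff_mem_zpowers.2 hc)
    have hpn : ∀ n : ℕ, ∀ a : ↥Q, ((χ ^ n) a : G) = g ^ n * a * (g ^ n)⁻¹ := by
      intro n
      induction n with
      | zero => intro a; simp
      | succ n ih => intro a; rw [pow_succ' χ, MulAut.mul_apply, hgi, ih, pow_succ' g]; group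
    set a : ↥Q := ⟨b⁻¹, Q.inv_mem hb⟩ with ha
    have h1 := congrArg Subtype.val (quad_pow hq a n)
    rw [hpn, Subgroup.coe_mul] at h1
    have h3 : ⁅b, g ^ n⁆ = (((a⁻¹ * χ a) ^ n : ↥Q) : G) := by
      rw [commutatorElement_def, show b * g ^ n * b⁻¹ * (g ^ n)⁻¹ = b * (g ^ n * (a : G) * (g ^ n)⁻¹) by
        simp [ha, mul_assoc], h1, ← mul_assoc, show b * (a : G) = 1 by simp [ha], one_mul]
    rw [h3]
    refine Subgroup.mem_centralizer_iff.2 fun y hy => ?_
    obtain ⟨m, rfl⟩ := Subgroup.mem_zpowers_iff.1 hy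
    have hfix : Commute g (((a⁻¹ * χ a) ^ n : ↥Q) : G) := by
      have h2 := congrArg Subtype.val (congrArg (· ^ n) (quad_fix hq a))
      simp only [← map_pow] at h2
      rw [hgi] at h2
      exact mul_inv_eq_iff_eq_mul.1 h2
    exact (hfix.zpow_left m).eq
  have h := hst Q (P.2.to_le hQ) g hgN hcomm
  set A := (groupFusionSystem (P : Subgroup G)).autGroup Q with hA
  have hAe : A = autInducedBy ⊤ Q := autGroup_group hQ
  let θ : ↥(Subgroup.normalizer (Q : Set G)) →* ↥A := Q.normalizerMonoidHom.codRestrict A fun n =>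
    hAe ▸ mem_autInducedBy.2 ⟨n, trivial, fun w hw => normalizerMonoidHom_autFun n hw⟩
  haveI : ((Subgroup.centralizer (Q : Set G)).subgroupOf (Subgroup.normalizer (Q : Set G))).Normal :=
    Subgroup.normal_subgroupOf_centralizer_normalizer _
  let θ' : ↥(Subgroup.normalizer (Q : Set G)) ⧸
      (Subgroup.centralizer (Q : Set G)).subgroupOf (Subgroup.normalizer (Q : Set G)) →* ↥A :=
    QuotientGroup.lift _ θ fun n hn => Subtype.ext (aut_ext fun w hw => by
      show autFun (Q.normalizerMonoidHom n) w = autFun 1 w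
      rw [normalizerMonoidHom_autFun n hw, autFun_one hw,
        ← Subgroup.mem_centralizer_iff.1 (Subgroup.mem_subgroupOf.1 hn) w hw, mul_inv_cancel_right])
  have hsur : Function.Surjective θ' := by
    rintro ⟨α, hα⟩
    obtain ⟨n, -, hn⟩ := mem_autInducedBy.1 (hAe ▸ hα)
    exact ⟨QuotientGroup.mk ⟨n, mem_normalizer_of_aut (α := α) hn⟩, Subtype.ext (aut_ext fun w hw =>
      (normalizerMonoidHom_autFun _ hw).trans (hn w hw).symm)⟩
  have hmem : θ' (QuotientGroup.mk ⟨g, hgN⟩) ∈ pCore p ↥A := CfsgLib.Solv.map_pCore_le hsur ⟨_, h, rfl⟩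
  exact ⟨_, hmem, aut_ext fun w hw => (normalizerMonoidHom_autFun _ hw).trans (hg w hw).symm⟩

end CfsgLib.Fus.StableNorm
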