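import Cfsg.Agent.Fus.StableNormalizers
import Cfsg.Agent.Fus.Normal
import Cfsg.Agent.Fus.Alperin

/-!
Stability is decided by the normalizer systems of the centric radical subgroups.
-/

set_option autoImplicit false
set_option linter.style.haveILetI false

open Cfsg Cfsg.FusionSystem

namespace CfsgLib.Fus.StableNorm

variable {Ω : Type*} [Group Ω] {S : Subgroup Ω} {p : ℕ} {F : FusionSystem S} [Finite S] [hp : Fact p.Prime]

/-- Every automorphism of `Q` extends to one of `R`. -/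
def ExtAll (F : FusionSystem S) (Q R : Subgroup Ω) : Prop :=
  Q ≤ R ∧ R ≤ S ∧ ∀ α ∈ F.autGroup Q, ∃ g, IsMap F R g ∧ img g R = R ∧ ∀ x ∈ Q, g x = autFun α x

omit hp in
/-- The extension property moves along maps. -/
theorem extAll_img {Q R : Subgroup Ω} (h : ExtAll F Q R) {f : Ω → Ω} (hf : IsMap F R f) :
    ExtAll F (img f Q) (img f R) := by
  refine ⟨img_mono h.1, hf.img_le, fun α hα => ?_⟩
  obtain ⟨l, hl, hll, hlr, hli⟩ := hf.inv
  have hfQ := hf.mono h.1
  have hfQS := hfQ.img_le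
  have hα' := (mem_autGroup hfQS).1 hα
  have hβm : IsMap F Q (l ∘ autFun α ∘ f) :=
    (hfQ.comp hα' fun x hx => mem_img_of_mem hx).comp hl fun x hx =>
      img_mono h.1 (autFun_mem α (mem_img_of_mem hx))
  have hβi : img (l ∘ autFun α ∘ f) Q = Q := by
    haveI := finite_of_le hfQ.le
    refine Subgroup.eq_of_le_of_card_ge (img_le_iff.2 fun x hx => ?_) hβm.card_img.ge
    obtain ⟨y, hy, hye⟩ := hfQ.mem_img.1 (autFun_mem α (mem_img_of_mem (f := f) hx))
    show l (autFun α (f x)) ∈ Q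
    rw [← hye, hll y (h.1 hy)]
    exact hy
  obtain ⟨β, hβ, hβe⟩ := exists_aut hβm hβi
  obtain ⟨g, hg, hgi, hge⟩ := h.2.2 β hβ
  have hlR : ∀ x ∈ img f R, l x ∈ R := fun x hx => hli ▸ mem_img_of_mem hx
  refine ⟨f ∘ g ∘ l, (hl.comp hg hlR).comp hf fun x hx => hgi ▸ mem_img_of_mem (hlR x hx), ?_, ?_⟩
  · rw [(hl.comp hg hlR).img_comp, hl.img_comp, hli, hgi]
  · intro x hx
    obtain ⟨y, hy, rfl⟩ := hfQ.mem_img.1 hx
    show f (g (l (f y))) = autFun α (f y)
    rw [hll y (h.1 hy), hge y hy, hβe y hy]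
    exact hlr _ (img_mono h.1 (autFun_mem α (mem_img_of_mem hy)))

/-- A fully normalized subgroup either grows or is centric and radical. -/
theorem grow_or_crit (hS : IsPGroup p S) (hF : F.IsSaturated p) {R : Subgroup Ω} (hR : F.IsFullyNormalized R) :
    (F.IsCentric R ∧ F.IsRadical p R) ∨ ∃ T, R < T ∧ T ≤ S ∧
      ∀ f, IsMap F R f → img f R = R → ∃ g, IsMap F T g ∧ img g T = T ∧ ∀ x ∈ R, g x = f x := by
  obtain ⟨hfa, hrec⟩ := fullyNormalized_spec hS hF hR
  haveI := finite_mulAut hR.1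
  set C := (pCore p ↥(F.autGroup R)).map (F.autGroup R).subtype with hC
  have hCA : C ≤ F.autGroup R := Subgroup.map_subtype_le _
  obtain ⟨-, Rs, hRs⟩ := hfa
  have hCS : C ≤ autInducedBy S R := by
    rintro _ ⟨k, hk, rfl⟩
    exact Subgroup.mem_subgroupOf.1 (hRs.le (CfsgLib.Solv.pCore_le_sylow Rs hk))
  haveI := inn_subgroupOf_autGroup_normal (F := F) R
  have hinn : Inn R ≤ C := fun α hα =>
    ⟨⟨α, inn_le_autGroup hR.1 hα⟩, (le_sSup ⟨inferInstance,
      (inn_isPGroup hS hR.1).comap_of_injective _ (Subgroup.subtype_injective _)⟩ :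
      (Inn R).subgroupOf (F.autGroup R) ≤ pCore p ↥(F.autGroup R)) (Subgroup.mem_subgroupOf.2 hα), rfl⟩
  set T := S ⊓ (C.comap R.normalizerMonoidHom).map (Subgroup.normalizer (R : Set Ω)).subtype with hT
  have hmemT : ∀ g, g ∈ T ↔ g ∈ normalizerIn S R ∧ ∃ κ ∈ C, ∀ x ∈ R, autFun κ x = g * x * g⁻¹ := by
    intro g
    constructor
    · rintro ⟨hgS, n, hn, rfl⟩
      exact ⟨⟨hgS, n.2⟩, _, hn, fun x hx => normalizerMonoidHom_autFun n hx⟩
    · rintro ⟨⟨hgS, hgn⟩, κ, hκ, he⟩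
      refine ⟨hgS, ⟨g, hgn⟩, ?_, rfl⟩
      show R.normalizerMonoidHom ⟨g, hgn⟩ ∈ C
      rwa [show R.normalizerMonoidHom ⟨g, hgn⟩ = κ from aut_ext fun x hx =>
        (normalizerMonoidHom_autFun _ hx).trans (he x hx).symm]
  have hRT : R ≤ T := fun r hr => (hmemT r).2 ⟨le_normalizerIn hR.1 hr, by
    obtain ⟨κ, hκ, hκe⟩ := exists_autInducedBy (K := R) hr (Subgroup.le_normalizer hr)
    exact ⟨κ, hinn (inn_eq_autInducedBy R ▸ hκ), hκe⟩⟩
  rcases hRT.eq_or_lt with heq | hlt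
  · left
    have hcent : centralizerIn S R ≤ R := fun c hc => heq.ge ((hmemT c).2
      ⟨centralizerIn_le_normalizerIn R hc, 1, one_mem C, fun x hx => by
        rw [autFun_one hx, ← Subgroup.mem_centralizer_iff.1 hc.2 x hx, mul_inv_cancel_right]⟩)
    refine ⟨centric_of_fc (fullyCentralized_of_receptive hrec) hcent, hR.1, le_antisymm (fun κ hκ => ?_) hinn⟩
    obtain ⟨s, hs, hse⟩ := mem_autInducedBy.1 (hCS hκ)
    rw [inn_eq_autInducedBy]
    exact mem_autInducedBy.2 ⟨s, heq.ge ((hmemT s).2 ⟨⟨hs, mem_normalizer_of_aut hse⟩, κ, hκ, hse⟩), hse⟩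
  · refine Or.inr ⟨T, hlt, inf_le_left, fun f hf hfi => ?_⟩
    obtain ⟨α, hα, hαe⟩ := exists_aut hf hfi
    have hconj : ∀ g ∈ T, ∃ κ ∈ C, ∀ x ∈ R, autFun κ (f x) = f (g * x * g⁻¹) := by
      intro g hg
      obtain ⟨-, κ, hκ, hκe⟩ := (hmemT g).1 hg
      refine ⟨α * κ * α⁻¹, core_normal' _ α hα κ hκ, fun x hx => ?_⟩
      have h1 : autFun α⁻¹ (autFun α x) = x := autFun_inv_apply' α hx
      rw [← hαe x hx, autFun_mul _ _ (autFun_mem α hx), h1, autFun_mul _ _ hx, hκe x hx,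
        hαe _ (hκe x hx ▸ autFun_mem κ hx)]
    obtain ⟨g, hg, hge⟩ := extend hrec hf hfi (N := T) fun a ha => by
      obtain ⟨κ, hκ, hκe⟩ := hconj a ha
      obtain ⟨s, hs, hse⟩ := mem_autInducedBy.1 (hCS hκ)
      refine ⟨ha.1, ((hmemT a).1 ha).1.2, s, hs, fun x hx => ?_⟩
      rw [← hκe x hx, hse _ (hfi ▸ mem_img_of_mem hx)]
    rw [sup_eq_right.2 hRT] at hg
    refine ⟨g, hg, ?_, hge⟩
    haveI := finite_of_le (inf_le_left (a := S) (b := (C.comap R.normalizerMonoidHom).map (Subgroup.normalizer (R : Set Ω)).subtype))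
    refine Subgroup.eq_of_le_of_card_ge (img_le_iff.2 fun a ha => ?_) hg.card_img.ge
    obtain ⟨κ, hκ, hκe⟩ := hconj a ha
    have hact : ∀ y ∈ R, autFun κ y = g a * y * (g a)⁻¹ := by
      intro y hy
      obtain ⟨x, hx, rfl⟩ := hf.mem_img.1 (hfi.symm ▸ hy : y ∈ img f R)
      have hn := conj_mem_of_normalizer ((hmemT a).1 ha).1.2 hx
      rw [hκe x hx, ← hge _ hn, hg.map_conj ha (hRT hx), hge x hx]
    exact (hmemT _).2 ⟨⟨hg.mem ha, mem_normalizer_of_aut hact⟩, κ, hκ, hact⟩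

/-- Every subgroup has a conjugate whose automizer lifts to a centric radical fully normalized subgroup. -/
theorem exists_crit (hS : IsPGroup p S) (hF : F.IsSaturated p) {Q : Subgroup Ω} (hQ : Q ≤ S) :
    ∃ Q' R, F.IsConj Q Q' ∧ ExtAll F Q' R ∧ F.IsFullyNormalized R ∧ F.IsCentric R ∧ F.IsRadical p R := by
  suffices key : ∀ n : ℕ, ∀ Q' R : Subgroup Ω, Nat.card S - Nat.card ↥R = n → F.IsConj Q Q' → ExtAll F Q' R →
      ∃ Q' R, F.IsConj Q Q' ∧ ExtAll F Q' R ∧ F.IsFullyNormalized R ∧ F.IsCentric R ∧ F.IsRadical p R from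
    key _ Q Q rfl (isConj_refl hQ) ⟨le_rfl, hQ, fun α hα => ⟨autFun α, (mem_autGroup hQ).1 hα, img_autFun α,
      fun _ _ => rfl⟩⟩
  intro n
  induction n using Nat.strong_induction_on with
  | _ n ih =>
  intro Q' R hn hc hext
  obtain ⟨R', hRR', hR'⟩ := exists_fullyNormalized (F := F) hext.2.1
  obtain ⟨f, hf, rfl⟩ := isConj_iff.1 hRR'
  have hc' : F.IsConj Q (img f Q') := isConj_trans hc (isConj_iff.2 ⟨f, hf.mono hext.1, rfl⟩)
  have hext' := extAll_img hext hf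
  rcases grow_or_crit hS hF hR' with ⟨hcen, hrad⟩ | ⟨T, hlt, hTS, hT⟩
  · exact ⟨_, _, hc', hext', hR', hcen, hrad⟩
  · haveI := finite_of_le hTS
    have h1 := card_lt_of_lt hTS hlt
    have h2 := Subgroup.card_le_of_le hTS
    have h3 := hf.card_img
    refine ih (Nat.card S - Nat.card ↥T) (by omega) (img f Q') T rfl hc' ⟨hext'.1.trans hlt.le, hTS, fun α hα => ?_⟩
    obtain ⟨g, hg, hgi, hge⟩ := hext'.2.2 α hα
    obtain ⟨g', hg', hgi', hge'⟩ := hT g hg hgi
    exact ⟨g', hg', hgi', fun x hx => (hge' x (hext'.1 hx)).trans (hge x hx)⟩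

/-- Stability is decided at the centric radical subgroups. -/
theorem stable_iff_crit (hS : IsPGroup p S) (hF : F.IsSaturated p) :
    (∀ Q : Subgroup Ω, F.IsFullyNormalized Q → StableAt F p Q) ↔
      ∀ R : Subgroup Ω, F.IsFullyNormalized R → F.IsCentric R → F.IsRadical p R →
        ∀ N : FusionSystem (normalizerIn S R), F.IsNormalizerSystem R N →
          ∀ Q : Subgroup Ω, N.IsFullyNormalized Q → StableAt N p Q := by
  constructor
  · intro h R hR _ _ N hN Q hQ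
    by_cases hc : IsCyclic ↥R
    · intro χ hχ hq
      have hQS : Q ≤ S := hQ.1.trans (normalizerIn_le R)
      haveI := finite_mulAut hQS
      obtain ⟨Q', hc', hQ'⟩ := exists_fullyNormalized (F := F) hQS
      have hNF : N.autGroup Q ≤ F.autGroup Q := (autGroup_le_iff hQ.1 hQS).2 fun f hf _ =>
        ((isMap_normalizerSystem_iff hR.1 hN Q f).1 hf).1
      have h1 := stableAt_conj hc' (h Q' hQ') χ (hNF hχ) hq
      refine mem_core_of_normal (K := N.autGroup Q ⊓ (pCore p ↥(F.autGroup Q)).map (F.autGroup Q).subtype)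
        inf_le_left ((core_isPGroup' _).to_le inf_le_right) ?_ (Subgroup.mem_inf.2 ⟨hχ, h1⟩)
      exact fun α hα κ hκ => Subgroup.mem_inf.2 ⟨mul_mem (mul_mem hα hκ.1) (inv_mem hα),
        core_normal' _ α (hNF hα) κ hκ.2⟩
    · exact (stable_iff hS hF).1 h R hR hc N hN Q hQ
  · intro h Q hQ
    obtain ⟨Q', R, hc, ⟨hQ'R, hRS, hext⟩, hR, hcen, hrad⟩ := exists_crit hS hF hQ.1
    refine stableAt_conj hc ?_
    obtain ⟨N, hN⟩ := exists_normalizerSystem F hR.1
    haveI := finite_of_le (normalizerIn_le (S := S) R)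
    have hQ'N : Q' ≤ normalizerIn S R := hQ'R.trans (le_normalizerIn hR.1)
    have hQ'S : Q' ≤ S := hQ'R.trans hRS
    obtain ⟨Q'', hcN, hfn⟩ := exists_fullyNormalized (F := N) hQ'N
    have hst := stableAt_conj hcN (h R hR hcen hrad N hN Q'' hfn)
    have heq : N.autGroup Q' = F.autGroup Q' := le_antisymm
      ((autGroup_le_iff hQ'N hQ'S).2 fun f hf _ => ((isMap_normalizerSystem_iff hR.1 hN Q' f).1 hf).1)
      (fun α hα => by
        obtain ⟨g, hg, hgi, hge⟩ := hext α hα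
        refine (mem_autGroup hQ'N).2 ((isMap_normalizerSystem_iff hR.1 hN Q' _).2
          ⟨(mem_autGroup hQ'S).1 hα, hQ'N, fun x hx => hQ'N (autFun_mem α hx), g, ?_, hge, hgi⟩)
        rwa [sup_eq_right.2 hQ'R])
    intro χ hχ hq
    have := hst χ (heq ▸ hχ) hq
    rwa [heq] at this

end CfsgLib.Fus.StableNorm
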