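import Cfsg.Agent.Fus.Biset
import Mathlib.GroupTheory.Perm.Cycle.Basic
import Mathlib.Dynamics.PeriodicPts.Lemmas

/-!
The stable transfer of a saturated fusion system into a central subgroup of a quotient of `S`.
-/

set_option autoImplicit false
set_option linter.style.haveILetI false

open Cfsg Cfsg.FusionSystem

namespace CfsgLib.Fus

/-- Products of two functions agree when they agree around every cycle of a permutation. -/
theorem prod_eq_of_cycles {I M : Type*} [Fintype I] [DecidableEq I] [CommMonoid M] (σ : Equiv.Perm I)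
    (a b : I → M) (h : ∀ i n, 0 < n → σ^[n] i = i →
      ∏ k ∈ Finset.range n, a (σ^[k] i) = ∏ k ∈ Finset.range n, b (σ^[k] i)) :
    ∏ i, a i = ∏ i, b i := by
  classical
  let Q := Quotient (Equiv.Perm.SameCycle.setoid σ)
  let mk : I → Q := Quotient.mk _
  rw [← Finset.prod_fiberwise Finset.univ mk a, ← Finset.prod_fiberwise Finset.univ mk b]
  refine Finset.prod_congr rfl fun q _ => ?_
  obtain ⟨i, rfl⟩ := Quotient.exists_rep q
  set n := Function.minimalPeriod σ i with hn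
  have hper : i ∈ Function.periodicPts σ := σ.injective.mem_periodicPts i
  have hpos : 0 < n := Function.minimalPeriod_pos_of_mem_periodicPts hper
  have hfib : (Finset.univ.filter fun j => mk j = Quotient.mk _ i) =
      (Finset.range n).image fun k => σ^[k] i := by
    ext j
    simp only [Finset.mem_filter, Finset.mem_univ, true_and, Finset.mem_image, Finset.mem_range]
    constructor
    · intro hj
      obtain ⟨k, hk⟩ := (Quotient.exact hj.symm : σ.SameCycle i j).exists_nat_pow_eq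
      exact ⟨k % n, Nat.mod_lt _ hpos, by
        rw [hn, Function.iterate_mod_minimalPeriod_eq, ← Equiv.Perm.coe_pow, hk]⟩
    · rintro ⟨k, -, rfl⟩
      refine Quotient.sound ?_
      show σ.SameCycle (σ^[k] i) i
      rw [← Equiv.Perm.coe_pow]
      exact Equiv.Perm.sameCycle_pow_left.2 (Equiv.Perm.SameCycle.refl σ i)
  have hinj : Set.InjOn (fun k => σ^[k] i) ↑(Finset.range n) := by
    rw [Finset.coe_range]
    exact Function.iterate_injOn_Iio_minimalPeriod
  rw [hfib, Finset.prod_image hinj, Finset.prod_image hinj]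
  exact h i n hpos (Function.iterate_minimalPeriod)

/-- An action pulled back along a homomorphism. -/
def Tw {H G : Type*} [Group H] [Group G] (_τ : H →* G) (X : Type*) : Type _ := X

instance twAction {H G : Type*} [Group H] [Group G] (τ : H →* G) (X : Type*) [MulAction G X] :
    MulAction H (Tw τ X) :=
  MulAction.compHom X τ

theorem fixCard_tw {H G : Type*} [Group H] [Group G] (τ : H →* G) (X : Type*) [MulAction G X]
    (K : Subgroup H) : fixCard K (Tw τ X) = fixCard (K.map τ) X := by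
  refine Nat.card_congr (Equiv.subtypeEquivRight fun x => ⟨?_, ?_⟩)
  · rintro h _ ⟨k, hk, rfl⟩; exact h k hk
  · intro h k hk; exact h _ ⟨k, hk, rfl⟩

theorem comm_aux {M : Type*} [CommMonoid M] (D H h T U : M) :
    h * (D * H * T) * U = D * (H * h) * (T * U) := by ac_rfl

variable {Ω : Type*} [Group Ω] {S : Subgroup Ω} {F : FusionSystem S} {p : ℕ}

/-- Twisting the left action by an automorphism gives an isomorphic set. -/
theorem exists_twist_equiv [Finite S] {L : List (Subgroup (↥S × ↥S))} (hL : ∀ Δ ∈ L, IsGraph F Δ)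
    (hst : StableFrom F L 0) {P : Subgroup Ω} {α : MulAut P} (hα : IsMap F P (autFun α)) :
    ∃ β : Cosets L ≃ Cosets L, ∀ (g g' : ↥S) (s : ↥S) (x : Cosets L), (g : Ω) ∈ P → (g' : Ω) = autFun α g →
      β (((g, s) : ↥S × ↥S) • x) = ((g', s) : ↥S × ↥S) • β x := by
  classical
  let PS : Subgroup (↥S × ↥S) := (P.subgroupOf S).comap (MonoidHom.fst _ _)
  have hfst : fstImg PS = P := le_antisymm (by rintro _ ⟨q, hq, rfl⟩; exact hq)
    fun x hx => ⟨(⟨x, hα.le hx⟩, 1), hx, rfl⟩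
  obtain ⟨θ, -, hθe, hθK⟩ := twist_spec (F := F) (N := PS) (ψ := autFun α) (hfst.symm ▸ hα)
  haveI : Finite (Cosets L) := inferInstance
  haveI : Finite (Tw PS.subtype (Cosets L)) := inferInstanceAs (Finite (Cosets L))
  haveI : Finite (Tw θ (Cosets L)) := inferInstanceAs (Finite (Cosets L))
  obtain ⟨e, he⟩ := exists_equiv_of_fixCard (G := ↥PS) (X := Tw PS.subtype (Cosets L))
    (Y := Tw θ (Cosets L)) fun K => by
      rw [fixCard_tw, fixCard_tw, fixCard_cosets, fixCard_cosets]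
      obtain ⟨hsnd, hiff⟩ := hθK (K.map PS.subtype) (Subgroup.map_subtype_le K)
      rw [show (K.map PS.subtype).subgroupOf PS = K from
        Subgroup.comap_map_eq_self_of_injective PS.subtype_injective K] at hsnd hiff
      by_cases hg : IsGraph F (K.map PS.subtype)
      · rw [hst _ hg (Nat.zero_le _) (sndImg_le _), hst _ (hiff.1 hg) (Nat.zero_le _) (sndImg_le _)]
        simp only [hsnd]
      · rw [not_not.1 fun h => hg (isGraph_of_mark_ne_zero hL h),
          not_not.1 fun h => hg (hiff.2 (isGraph_of_mark_ne_zero hL h))]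
  refine ⟨(e : Cosets L ≃ Cosets L), fun g g' s x hg hg' => ?_⟩
  have h := he ⟨(g, s), hg⟩ x
  refine h.trans ?_
  show θ ⟨(g, s), hg⟩ • (show Cosets L from e x) = _
  congr 1
  exact Prod.ext (Subtype.ext ((hθe _).1.trans hg'.symm)) (hθe _).2

set_option maxHeartbeats 1000000 in
/-- The stable transfer into a central subgroup `Z` of a `p`-group receiving `S`, when every map of
the system is conjugation modulo `Z`. -/
theorem exists_stable_transfer [Finite S] [Fact p.Prime] (hS : IsPGroup p S) (hF : F.IsSaturated p)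
    {B : Type*} [Group B] (hB : IsPGroup p B) (π : ↥S →* B) (Z : Subgroup B)
    (hZ : Z ≤ Subgroup.center B)
    (hconj : ∀ (P : Subgroup Ω) (f : Ω → Ω), IsMap F P f → ∃ c : B, ∀ q : ↥S × ↥S,
      (q.1 : Ω) ∈ P → f q.1 = q.2 → (c * π q.1 * c⁻¹)⁻¹ * π q.2 ∈ Z) :
    ∃ (m : ℕ) (D : ↥S →* Z), ¬ p ∣ m ∧
      (∀ (P : Subgroup Ω) (α : MulAut P), P ≤ S → α ∈ F.autGroup P → (orderOf α).Coprime p →
        (∀ g g' : ↥S, (g : Ω) ∈ P → (g' : Ω) = autFun α g → (π g)⁻¹ * π g' ∈ Z) →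
        ∀ g g' : ↥S, (g : Ω) ∈ P → (g' : Ω) = autFun α g →
          (D (g⁻¹ * g') : B) = ((π g)⁻¹ * π g') ^ m) ∧
      (∀ z : ↥S, π z ∈ Subgroup.center B →
        (∀ (P : Subgroup Ω) (f : Ω → Ω), IsMap F P f → ∀ n : ℕ, ((z ^ n : ↥S) : Ω) ∈ P →
          f ((z ^ n : ↥S) : Ω) = ((z ^ n : ↥S) : Ω)) → D z = 1) := by
  classical
  obtain ⟨L, hL, hst, hsize⟩ := exists_stable hS hF
  haveI : Z.Normal := ⟨fun z hz b => by
    rw [Subgroup.mem_center_iff.1 (hZ hz) b, mul_inv_cancel_right]; exact hz⟩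
  have hcomm : ∀ z ∈ Z, ∀ b : B, b * z = z * b := fun z hz b => Subgroup.mem_center_iff.1 (hZ hz) b
  letI : CommGroup Z := { (inferInstance : Group Z) with
    mul_comm := fun a b => Subtype.ext (hcomm b b.2 a) }
  let μ : B →* B ⧸ Z := QuotientGroup.mk' Z
  have hμ : ∀ b, b ∈ Z ↔ μ b = 1 := fun b => (QuotientGroup.eq_one_iff b).symm
  -- the points
  have hstab : ∀ x : Cosets L, IsGraph F (MulAction.stabilizer (↥S × ↥S) x) := by
    rintro ⟨i, y⟩
    obtain ⟨a, rfl⟩ := QuotientGroup.mk_surjective y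
    refine ((hL _ (List.getElem_mem i.2)).conj a).mono fun k hk => ?_
    exact ⟨a⁻¹ * k * a, smul_coset_eq_iff.1 (eq_of_heq (Sigma.ext_iff.1 hk).2), by simp [mul_assoc]⟩
  have hgraph : ∀ (x : Cosets L) (g s : ↥S), ((g, s) : ↥S × ↥S) • x = x → g = 1 → s = 1 := by
    intro x g s h hg
    obtain ⟨f, hf, he⟩ := hstab x
    have h1 := he _ h
    rw [hg, Subgroup.coe_one, hf.map_one] at h1
    exact Subtype.ext h1.symm
  -- base labels
  let orb := Quotient (MulAction.orbitRel (↥S × ↥S) (Cosets L))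
  have hrep : ∀ x : Cosets L, ∃ q : ↥S × ↥S, q • (Quotient.mk (MulAction.orbitRel _ _) x : orb).out = x :=
    fun x => (MulAction.orbitRel_apply.1 (Quotient.exact
      (Quotient.out_eq (Quotient.mk (MulAction.orbitRel (↥S × ↥S) (Cosets L)) x)).symm))
  choose q hq using hrep
  have hc : ∀ o : orb, ∃ c : B, ∀ k ∈ MulAction.stabilizer (↥S × ↥S) o.out,
      μ (π k.1 * c⁻¹ * (π k.2)⁻¹) = μ c⁻¹ := by
    intro o
    obtain ⟨f, hf, he⟩ := hstab o.out
    obtain ⟨c, hc⟩ := hconj _ f hf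
    refine ⟨c, fun k hk => ?_⟩
    have h := (hμ _).1 (hc k ⟨k, hk, rfl⟩ (he k hk))
    rw [map_mul, map_inv, inv_mul_eq_one] at h
    rw [map_mul, map_mul, map_inv μ, map_inv μ, ← h]
    simp [mul_assoc]
  choose c hc using hc
  let l0 : Cosets L → B := fun x => π (q x).1 * (c (Quotient.mk _ x))⁻¹ * (π (q x).2)⁻¹
  have hl0 : ∀ (k : ↥S × ↥S) (x : Cosets L), μ (l0 (k • x)) = μ (π k.1 * l0 x * (π k.2)⁻¹) := by
    intro k x
    have ho : (Quotient.mk _ (k • x) : orb) = Quotient.mk _ x := Quotient.sound ⟨k, rfl⟩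
    have h1 : (q (k • x))⁻¹ * k * q x ∈ MulAction.stabilizer (↥S × ↥S)
        ((Quotient.mk _ x : orb).out) := by
      rw [MulAction.mem_stabilizer_iff, mul_smul, mul_smul, hq x, inv_smul_eq_iff]
      conv_lhs => rw [← hq (k • x)]
      rw [ho]
    have h2 := hc _ _ h1
    simp only [l0, ho, Prod.fst_mul, Prod.snd_mul, Prod.fst_inv, Prod.snd_inv, map_mul, map_inv,
      mul_inv_rev, inv_inv] at h2 ⊢
    conv_lhs => rw [← h2]
    simp [mul_assoc]
  -- right orbits
  let rst : Setoid (Cosets L) := ⟨fun x y => ∃ s : ↥S, ((1, s) : ↥S × ↥S) • x = y,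
    fun x => ⟨1, one_smul (↥S × ↥S) x⟩,
    fun {x y} ⟨s, h⟩ => ⟨s⁻¹, by rw [← h, ← mul_smul, Prod.mk_mul_mk, one_mul, inv_mul_cancel]; exact one_smul (↥S × ↥S) x⟩,
    fun {x y z} ⟨s, h⟩ ⟨t, h'⟩ => ⟨t * s, by rw [← h', ← h, ← mul_smul]; simp⟩⟩
  let I := Quotient rst
  haveI : Fintype I := Fintype.ofFinite I
  have hro : ∀ x : Cosets L, ∃ s : ↥S, ((1, s) : ↥S × ↥S) • (Quotient.mk rst x).out = x :=
    fun x => Quotient.exact (Quotient.out_eq (Quotient.mk rst x))
  choose rs hrs using hro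
  let l : Cosets L → B := fun x => l0 (Quotient.mk rst x).out * (π (rs x))⁻¹
  have hlr : ∀ (s : ↥S) x, l (((1, s) : ↥S × ↥S) • x) = l x * (π s)⁻¹ := by
    intro s x
    have ho : Quotient.mk rst (((1, s) : ↥S × ↥S) • x) = Quotient.mk rst x :=
      (Quotient.sound (⟨s, rfl⟩ : ∃ t, ((1, t) : ↥S × ↥S) • x = _)).symm
    have hu : rs (((1, s) : ↥S × ↥S) • x) = s * rs x := by
      have h1 := hrs (((1, s) : ↥S × ↥S) • x)
      rw [ho] at h1
      have h2 : ((1, (rs x)⁻¹ * (s⁻¹ * rs (((1, s) : ↥S × ↥S) • x))) : ↥S × ↥S) •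
          (Quotient.mk rst x).out = (Quotient.mk rst x).out := by
        have e : ((1, (rs x)⁻¹ * (s⁻¹ * rs (((1, s) : ↥S × ↥S) • x))) : ↥S × ↥S) =
            ((1, rs x) : ↥S × ↥S)⁻¹ * (((1, s) : ↥S × ↥S)⁻¹ * (1, rs (((1, s) : ↥S × ↥S) • x))) := by simp
        rw [e, mul_smul, mul_smul, h1, inv_smul_smul, inv_smul_eq_iff, hrs x]
      have h3 := hgraph _ 1 _ h2 rfl
      rw [inv_mul_eq_one, eq_inv_mul_iff_mul_eq] at h3
      exact h3.symm
    simp only [l, ho, hu, map_mul, mul_inv_rev, mul_assoc]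
  have hll : ∀ (k : ↥S × ↥S) x, μ (l (k • x)) = μ (π k.1 * l x * (π k.2)⁻¹) := by
    have h0 : ∀ x, μ (l x) = μ (l0 x) := fun x => by
      conv_rhs => rw [← hrs x, hl0]
      simp [l]
    intro k x
    rw [h0, hl0]
    simp only [map_mul, h0]
  -- the cocycle
  let li : ↥S → I → I := fun g => Quotient.map (fun x => ((g, 1) : ↥S × ↥S) • x) (by
    rintro x y ⟨s, rfl⟩
    exact ⟨s, by rw [← mul_smul, ← mul_smul]; simp⟩)
  let toZ : B → Z := fun b => if h : b ∈ Z then ⟨b, h⟩ else 1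
  have htoZ : ∀ b, b ∈ Z → (toZ b : B) = b := fun b hb => by simp [toZ, hb]
  let ζ : (Cosets L → B) → ↥S → Cosets L → B := fun lab g x => (lab (((g, 1) : ↥S × ↥S) • x))⁻¹ * π g * lab x
  let IsLab : Subgroup Ω → (Cosets L → B) → Prop := fun P lab =>
    (∀ (s : ↥S) x, lab (((1, s) : ↥S × ↥S) • x) = lab x * (π s)⁻¹) ∧
    (∀ g : ↥S, (g : Ω) ∈ P → ∀ x, ζ lab g x ∈ Z)
  have hζinv : ∀ {P lab}, IsLab P lab → ∀ g : ↥S, (g : Ω) ∈ P → ∀ x, ∀ s : ↥S,
      ζ lab g (((1, s) : ↥S × ↥S) • x) = ζ lab g x := by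
    intro P lab hlab g hg x s
    have e : ((g, 1) : ↥S × ↥S) • ((1, s) : ↥S × ↥S) • x = ((1, s) : ↥S × ↥S) • ((g, 1) : ↥S × ↥S) • x := by
      rw [← mul_smul, ← mul_smul]; simp
    simp only [ζ, e, hlab.1]
    calc (lab (((g, 1) : ↥S × ↥S) • x) * (π s)⁻¹)⁻¹ * π g * (lab x * (π s)⁻¹)
        = π s * ζ lab g x * (π s)⁻¹ := by simp [ζ, mul_assoc]
      _ = ζ lab g x := by rw [hcomm _ (hlab.2 g hg x), mul_inv_cancel_right]
  have hζout : ∀ {P lab}, IsLab P lab → ∀ g : ↥S, (g : Ω) ∈ P → ∀ x,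
      ζ lab g (Quotient.mk rst x).out = ζ lab g x := by
    intro P lab hlab g hg x
    conv_rhs => rw [← hrs x, hζinv hlab g hg]
  have hζmul : ∀ lab (g g' : ↥S) x,
      ζ lab (g * g') x = ζ lab g (((g', 1) : ↥S × ↥S) • x) * ζ lab g' x := by
    intro lab g g' x
    simp only [ζ]
    rw [← mul_smul, Prod.mk_mul_mk, one_mul, map_mul]
    simp [mul_assoc]
  let Df : (Cosets L → B) → ↥S → Z := fun lab g => ∏ i : I, toZ (ζ lab g i.out)
  have hDmul : ∀ {P lab}, IsLab P lab → ∀ g g' : ↥S, (g : Ω) ∈ P → (g' : Ω) ∈ P →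
      Df lab (g * g') = Df lab g * Df lab g' := by
    intro P lab hlab g g' hg hg'
    have hli : Function.Bijective (li g') := by
      refine Finite.injective_iff_bijective.1 fun i j h => ?_
      obtain ⟨x, rfl⟩ := Quotient.exists_rep i
      obtain ⟨y, rfl⟩ := Quotient.exists_rep j
      obtain ⟨s, hs⟩ := Quotient.exact h
      refine Quotient.sound ⟨s, ?_⟩
      rw [← mul_smul, show ((1, s) : ↥S × ↥S) * (g', 1) = (g', 1) * (1, s) by simp, mul_smul,
        smul_left_cancel_iff] at hs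
      exact hs
    simp only [Df]
    have hterm : ∀ i : I, toZ (ζ lab (g * g') i.out) = toZ (ζ lab g (li g' i).out) * toZ (ζ lab g' i.out) := by
      intro i
      have h1 : ζ lab g (li g' i).out = ζ lab g (((g', 1) : ↥S × ↥S) • i.out) := by
        conv_lhs => rw [← Quotient.out_eq i]
        exact hζout hlab g hg _
      refine Subtype.ext ?_
      rw [Subgroup.coe_mul, htoZ _ (hlab.2 _ (P.mul_mem hg hg') _), htoZ _ (hlab.2 g hg _),
        htoZ _ (hlab.2 g' hg' _), h1, hζmul]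
    rw [Finset.prod_congr rfl fun i _ => hterm i, Finset.prod_mul_distrib]
    exact congrArg (· * _) (hli.prod_comp fun i => toZ (ζ lab g i.out))
  have hlabS : IsLab S l := ⟨hlr, fun g _ x => by
    rw [hμ]
    simp only [ζ, map_mul, map_inv, hll]
    simp [mul_assoc]⟩
  let D : ↥S →* Z := MonoidHom.mk' (fun g => Df l g) fun a b => hDmul hlabS a b a.2 b.2
  -- products around cycles
  have hcyc : ∀ {P lab}, IsLab P lab → ∀ y : ↥S, (y : Ω) ∈ P → ∀ i : I, ∀ n,
      ∏ k ∈ Finset.range n, toZ (ζ lab y ((li y)^[k] i).out) = toZ (ζ lab (y ^ n) i.out) ∧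
        (li y)^[n] i = Quotient.mk rst (((y ^ n, 1) : ↥S × ↥S) • i.out) := by
    intro P lab hlab y hy i n
    induction n with
    | zero =>
      refine ⟨Subtype.ext ?_, ?_⟩
      · rw [Finset.prod_range_zero, pow_zero, htoZ _ (hlab.2 1 (P.one_mem) _)]
        simp [ζ, show ((1, 1) : ↥S × ↥S) = 1 from rfl]
      · rw [pow_zero, show ((1, 1) : ↥S × ↥S) = 1 from rfl, one_smul, Quotient.out_eq]; rfl
    | succ n ih =>
      have hyn : ((y ^ n : ↥S) : Ω) ∈ P := by rw [Subgroup.coe_pow]; exact P.pow_mem hy n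
      refine ⟨Subtype.ext ?_, ?_⟩
      · rw [Finset.prod_range_succ, Subgroup.coe_mul, ih.1, htoZ _ (hlab.2 _ hyn _), htoZ _ (hlab.2 _ hy _),
          ih.2, hζout hlab y hy, htoZ _ (hlab.2 _ (by rw [Subgroup.coe_pow]; exact P.pow_mem hy _) _),
          pow_succ' y, hζmul, ← hcomm _ (hlab.2 _ hy _)]
      · rw [Function.iterate_succ_apply', ih.2]
        show Quotient.mk rst (((y, 1) : ↥S × ↥S) • ((y ^ n, 1) : ↥S × ↥S) • i.out) = _
        rw [← mul_smul, Prod.mk_mul_mk, one_mul, pow_succ']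
  have hfix : ∀ {P lab}, IsLab P lab → ∀ y : ↥S, π y ∈ Subgroup.center B → ∀ i : I, ∀ n (s : ↥S),
      ((1, s) : ↥S × ↥S) • i.out = ((y ^ n, 1) : ↥S × ↥S) • i.out → ζ lab (y ^ n) i.out = π s * π y ^ n := by
    intro P lab hlab y hy i n s h
    have hz : π y ^ n ∈ Subgroup.center B := Subgroup.pow_mem _ hy n
    simp only [ζ, ← h, hlab.1, mul_inv_rev, inv_inv, map_pow, mul_assoc]
    rw [← Subgroup.mem_center_iff.1 hz (lab i.out), inv_mul_cancel_left]
  have hliperm : ∀ y : ↥S, ∃ σ : Equiv.Perm I, ⇑σ = li y := fun y => by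
    have hb : Function.Bijective (li y) := Finite.surjective_iff_bijective.1 fun i => by
      obtain ⟨x, rfl⟩ := Quotient.exists_rep i
      exact ⟨Quotient.mk rst (((y⁻¹, 1) : ↥S × ↥S) • x), congrArg (Quotient.mk rst) (by
        show ((y, 1) : ↥S × ↥S) • ((y⁻¹, 1) : ↥S × ↥S) • x = x
        rw [← mul_smul, Prod.mk_mul_mk, mul_inv_cancel, mul_one]; exact one_smul _ x)⟩
    exact ⟨Equiv.ofBijective _ hb, rfl⟩
  -- the number of right orbits
  have hcardI : Nat.card I = orbitCount L := by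
    have e : I × ↥S ≃ Cosets L := Equiv.ofBijective (fun w => ((1, w.2) : ↥S × ↥S) • w.1.out) ⟨by
      rintro ⟨i, s⟩ ⟨j, t⟩ h
      replace h : ((1, s) : ↥S × ↥S) • i.out = ((1, t) : ↥S × ↥S) • j.out := h
      have hij : i = j := by
        rw [← Quotient.out_eq i, ← Quotient.out_eq j]
        exact Quotient.sound ⟨t⁻¹ * s, by
          rw [show ((1, t⁻¹ * s) : ↥S × ↥S) = ((1, t) : ↥S × ↥S)⁻¹ * (1, s) by simp, mul_smul, h,
            inv_smul_smul]⟩
      subst hij
      have h2 : ((1, t⁻¹ * s) : ↥S × ↥S) • i.out = i.out := by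
        rw [show ((1, t⁻¹ * s) : ↥S × ↥S) = ((1, t) : ↥S × ↥S)⁻¹ * (1, s) by simp, mul_smul, h, inv_smul_smul]
      rw [inv_mul_eq_one.1 (hgraph _ 1 _ h2 rfl)],
      fun x => ⟨⟨Quotient.mk rst x, rs x⟩, hrs x⟩⟩
    have h1 := Nat.card_congr e
    rw [Nat.card_prod, Nat.card_sigma] at h1
    have h2 : ∀ Δ ∈ L, Nat.card ((↥S × ↥S) ⧸ Δ) = Nat.card S / Nat.card Δ * Nat.card S := fun Δ hΔ => by
      have hd : Nat.card Δ ∣ Nat.card S := by
        rw [(hL Δ hΔ).card_fstImg]; exact Subgroup.card_dvd_of_le (fstImg_le Δ)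
      have h3 := Subgroup.card_eq_card_quotient_mul_card_subgroup Δ
      rw [Nat.card_prod] at h3
      refine mul_right_cancel₀ (Nat.card_pos (α := ↥Δ)).ne' ?_
      rw [mul_right_comm, Nat.div_mul_cancel hd, ← h3]
    rw [Finset.sum_congr rfl fun i _ => h2 _ (List.getElem_mem i.2), ← Finset.sum_mul] at h1
    refine (Nat.eq_of_mul_eq_mul_right Nat.card_pos h1).trans ?_
    unfold orbitCount
    conv_rhs => rw [← List.ofFn_getElem (xs := L), List.map_ofFn, List.sum_ofFn]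
    rfl
  set m := Fintype.card I with hm
  refine ⟨m, D, ?_, ?_, ?_⟩
  · rw [hm, ← Nat.card_eq_fintype_card, hcardI]; exact hsize
  · intro P α hP hα hcop hmodZ g g' hg hg'
    have hαm := (mem_autGroup hP).1 hα
    obtain ⟨β, hβ⟩ := exists_twist_equiv hL hst hαm
    have hPS : ∀ a : ↥S, (a : Ω) ∈ P → ∃ a' : ↥S, (a' : Ω) = autFun α a := fun a _ => ⟨⟨_, hαm.mem ‹_›⟩, rfl⟩
    have hlP : IsLab P l := ⟨hlr, fun a _ => hlabS.2 a a.2⟩
    have hβr : ∀ (s : ↥S) x, β (((1, s) : ↥S × ↥S) • x) = ((1, s) : ↥S × ↥S) • β x := fun s x =>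
      hβ 1 1 s x P.one_mem (by rw [Subgroup.coe_one, hαm.map_one])
    let l' : Cosets L → B := l ∘ β
    have hζβ : ∀ a a' : ↥S, (a : Ω) ∈ P → (a' : Ω) = autFun α a → ∀ x,
        ζ l a' (β x) = ζ l' a x * ((π a)⁻¹ * π a') := by
      intro a a' ha ha' x
      have hz := hmodZ a a' ha ha'
      simp only [ζ, l', Function.comp_apply, hβ a a' 1 x ha ha']
      have h : π a' * l (β x) = π a * l (β x) * ((π a)⁻¹ * π a') := by
        rw [mul_assoc (π a) (l (β x)), hcomm _ hz (l (β x)), ← mul_assoc (π a), mul_inv_cancel_left]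
      rw [mul_assoc _ (π a'), h]
      simp only [mul_assoc]
    have hl' : IsLab P l' := ⟨fun s x => by simp only [l', Function.comp_apply, hβr, hlr],
      fun a ha x => by
        obtain ⟨a', ha'⟩ := hPS a ha
        have h := Z.mul_mem (hlabS.2 a' a'.2 (β x)) (Z.inv_mem (hmodZ a a' ha ha'))
        rwa [hζβ a a' ha ha', mul_inv_cancel_right] at h⟩
    -- transport along `β`
    have hstep : ∀ a a' : ↥S, (a : Ω) ∈ P → (a' : Ω) = autFun α a →
        Df l a' = Df l' a * toZ ((π a)⁻¹ * π a') ^ m := by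
      intro a a' ha ha'
      let γ : I → I := Quotient.map β (by rintro x y ⟨s, rfl⟩; exact ⟨s, (hβr s x).symm⟩)
      have hγ : Function.Bijective γ := Finite.surjective_iff_bijective.1 fun i => by
        obtain ⟨x, rfl⟩ := Quotient.exists_rep i
        exact ⟨Quotient.mk rst (β.symm x), congrArg (Quotient.mk rst) (β.apply_symm_apply x)⟩
      have hterm : ∀ i : I, toZ (ζ l a' (γ i).out) = toZ (ζ l' a i.out) * toZ ((π a)⁻¹ * π a') := by
        intro i
        have h1 : ζ l a' (γ i).out = ζ l a' (β i.out) := by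
          conv_lhs => rw [← Quotient.out_eq i]
          exact hζout hlabS a' a'.2 _
        refine Subtype.ext ?_
        rw [Subgroup.coe_mul, htoZ _ (hlabS.2 a' a'.2 _), htoZ _ (hl'.2 a ha _),
          htoZ _ (hmodZ a a' ha ha'), h1, hζβ a a' ha ha']
      show (∏ i : I, toZ (ζ l a' i.out)) = _
      rw [← hγ.prod_comp, Finset.prod_congr rfl fun i _ => hterm i, Finset.prod_mul_distrib,
        Finset.prod_const, Finset.card_univ]
    -- both labels agree on the centre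
    have hcentre : ∀ y : ↥S, (y : Ω) ∈ P → π y ∈ Z → Df l' y = Df l y := by
      intro y hy hyZ
      obtain ⟨σ, hσ⟩ := hliperm y
      refine prod_eq_of_cycles σ _ _ fun i n _ hfx => ?_
      rw [hσ] at hfx ⊢
      rw [(hcyc hl' y hy i n).1, (hcyc hlP y hy i n).1]
      have h := (hcyc hlP y hy i n).2
      rw [hfx] at h
      obtain ⟨s, hs⟩ := Quotient.exact ((Quotient.out_eq i).trans h)
      rw [hfix hl' y (hZ hyZ) i n s hs, hfix hlP y (hZ hyZ) i n s hs]
    -- the defect is invariant under `α`, hence trivial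
    have hh : ∀ a a' : ↥S, (a : Ω) ∈ P → (a' : Ω) = autFun α a →
        Df l' a' * (Df l a')⁻¹ = Df l' a * (Df l a)⁻¹ := by
      intro a a' ha ha'
      have ha'P : (a' : Ω) ∈ P := ha' ▸ autFun_mem α ha
      have hy : ((a⁻¹ * a' : ↥S) : Ω) ∈ P := P.mul_mem (P.inv_mem ha) ha'P
      have he := hcentre (a⁻¹ * a') hy (by rw [map_mul, map_inv]; exact hmodZ a a' ha ha')
      have e : a' = a * (a⁻¹ * a') := (mul_inv_cancel_left _ _).symm
      rw [e, hDmul hl' a _ ha hy, hDmul hlP a _ ha hy, he, mul_inv_rev, mul_assoc,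
        mul_inv_cancel_left]
    obtain ⟨hg0, hg0def⟩ : ∃ z : Z, z = Df l' g * (Df l g)⁻¹ := ⟨_, rfl⟩
    have hiter : ∀ j : ℕ, ∃ a : ↥S, (a : Ω) = autFun (α ^ j) g ∧ (a : Ω) ∈ P ∧
        (π g)⁻¹ * π a ∈ Z ∧ Df l' a * (Df l a)⁻¹ = hg0 ∧
        Df l a = Df l g * hg0 ^ j * toZ ((π g)⁻¹ * π a) ^ m := by
      intro j
      induction j with
      | zero =>
        refine ⟨g, by rw [pow_zero, autFun_one hg], hg, by rw [inv_mul_cancel]; exact Z.one_mem, hg0def.symm, ?_⟩
        have : toZ ((π g)⁻¹ * π g) = 1 := Subtype.ext (by rw [inv_mul_cancel, htoZ _ Z.one_mem]; rfl)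
        rw [pow_zero, mul_one, this, one_pow, mul_one]
      | succ j ih =>
        obtain ⟨a, hae, haP, haZ, hah, haD⟩ := ih
        obtain ⟨a', ha'⟩ := hPS a haP
        have hz := hmodZ a a' haP ha'
        have hmul : (π g)⁻¹ * π a' = (π g)⁻¹ * π a * ((π a)⁻¹ * π a') := by
          rw [mul_assoc, mul_inv_cancel_left]
        have hzz : (π g)⁻¹ * π a' ∈ Z := hmul ▸ Z.mul_mem haZ hz
        have htt : toZ ((π g)⁻¹ * π a') = toZ ((π g)⁻¹ * π a) * toZ ((π a)⁻¹ * π a') := Subtype.ext (by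
          rw [Subgroup.coe_mul, htoZ _ hzz, htoZ _ haZ, htoZ _ hz, hmul])
        refine ⟨a', by rw [ha', hae, ← autFun_mul _ _ hg, pow_succ'], ha' ▸ autFun_mem α haP, hzz,
          (hh a a' haP ha').trans hah, ?_⟩
        rw [hstep a a' haP ha', ← mul_inv_cancel_right (Df l' a) (Df l a)⁻¹, inv_inv, hah, htt, mul_pow, haD,
          pow_succ]
        exact comm_aux _ _ _ _ _
    have hg1 : hg0 = 1 := by
      obtain ⟨a, hae, -, -, -, haD⟩ := hiter (orderOf α)
      rw [pow_orderOf_eq_one, autFun_one hg] at hae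
      obtain rfl : a = g := Subtype.ext hae
      have : toZ ((π a)⁻¹ * π a) = 1 := Subtype.ext (by rw [inv_mul_cancel, htoZ _ Z.one_mem]; rfl)
      rw [this, one_pow, mul_one, left_eq_mul] at haD
      obtain ⟨k, hk⟩ := hB (hg0 : B)
      exact orderOf_eq_one_iff.1 (Nat.eq_one_of_dvd_coprimes (hcop.pow_right k) (orderOf_dvd_of_pow_eq_one haD)
        (orderOf_dvd_of_pow_eq_one (Subtype.ext hk)))
    show ((D (g⁻¹ * g') : Z) : B) = _
    have hst' := hstep g g' hg hg'
    rw [mul_inv_eq_one.1 (hg0def.symm.trans hg1)] at hst'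
    rw [map_mul, map_inv, show D g' = Df l g * toZ ((π g)⁻¹ * π g') ^ m from hst',
      show D g = Df l g from rfl, inv_mul_cancel_left, SubgroupClass.coe_pow, htoZ _ (hmodZ g g' hg hg')]
  · intro z hzc hzfix
    obtain ⟨σ, hσ⟩ := hliperm z
    show (∏ i : I, toZ (ζ l z i.out)) = 1
    rw [← Finset.prod_const_one (s := (Finset.univ : Finset I))]
    refine prod_eq_of_cycles σ _ _ fun i n _ hfx => ?_
    rw [hσ] at hfx ⊢
    rw [(hcyc hlabS z z.2 i n).1, Finset.prod_const_one]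
    have h := (hcyc hlabS z z.2 i n).2
    rw [hfx] at h
    obtain ⟨s, hs⟩ := Quotient.exact ((Quotient.out_eq i).trans h)
    refine Subtype.ext ?_
    rw [htoZ _ (hlabS.2 _ (z ^ n : ↥S).2 _), hfix hlabS z hzc i n s hs]
    obtain ⟨f, hf, he⟩ := hstab i.out
    have hk : ((z ^ n, s⁻¹) : ↥S × ↥S) ∈ MulAction.stabilizer (↥S × ↥S) i.out := by
      rw [MulAction.mem_stabilizer_iff, show ((z ^ n, s⁻¹) : ↥S × ↥S) = ((1, s) : ↥S × ↥S)⁻¹ * (z ^ n, 1) by simp,
        mul_smul, ← hs, inv_smul_smul]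
    have h1 := he _ hk
    rw [hzfix _ f hf n ⟨_, hk, rfl⟩] at h1
    have h2 : z ^ n = s⁻¹ := Subtype.ext h1
    rw [← map_pow, h2, map_inv, mul_inv_cancel]
    rfl

end CfsgLib.Fus
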