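import Cfsg.Agent.Fus.SolvableNormal
import Cfsg.Agent.Fus.Quotient

/-!
Invariant subsystems are the strongly invariant ones.
-/

set_option autoImplicit false
set_option linter.style.haveILetI false

open Cfsg Cfsg.FusionSystem

namespace CfsgLib.Fus.StrongInv

variable {Ω : Type*} [Group Ω] {S T : Subgroup Ω} {F : FusionSystem S} {E : FusionSystem T} {p : ℕ}

/-- Maps between subgroups of `T` transport maps of `E`. -/
def SInv (E : FusionSystem T) (F : FusionSystem S) : Prop :=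
  ∀ P Q : Subgroup Ω, P ≤ Q → Q ≤ T → ∀ f, IsMap E P f → (∀ x ∈ P, f x ∈ Q) → ∀ g, IsMap F Q g →
    ∃ c, IsMap E (img g P) c ∧ ∀ x ∈ P, c (g x) = g (f x)

/-- `f` is a map of `E` followed by an automorphism of `T` in `F`. -/
def Dec (E : FusionSystem T) (F : FusionSystem S) (P : Subgroup Ω) (f : Ω → Ω) : Prop :=
  ∃ β ∈ F.autGroup T, ∃ g, IsMap E P g ∧ ∀ x ∈ P, f x = autFun β (g x)

theorem dec_mono {P Q : Subgroup Ω} {f : Ω → Ω} (h : Dec E F P f) (hQ : Q ≤ P) : Dec E F Q f := by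
  obtain ⟨β, hβ, g, hg, he⟩ := h
  exact ⟨β, hβ, g, hg.mono hQ, fun x hx => he x (hQ hx)⟩

theorem dec_congr {P : Subgroup Ω} {f f' : Ω → Ω} (h : Dec E F P f) (hf : ∀ x ∈ P, f x = f' x) :
    Dec E F P f' := by
  obtain ⟨β, hβ, g, hg, he⟩ := h
  exact ⟨β, hβ, g, hg, fun x hx => (hf x hx).symm.trans (he x hx)⟩

theorem dec_of_map {P : Subgroup Ω} {g : Ω → Ω} (hg : IsMap E P g) : Dec E F P g :=
  ⟨1, one_mem _, g, hg, fun x hx => (autFun_one (hg.mem hx)).symm⟩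

/-- Automorphisms of `T` transport maps of `E`. -/
def TInv (E : FusionSystem T) (F : FusionSystem S) : Prop :=
  ∀ P g, IsMap E P g → ∀ β ∈ F.autGroup T,
    ∃ c, IsMap E (img (autFun β) P) c ∧ ∀ x ∈ P, c (autFun β x) = autFun β (g x)

variable (hT : F.StronglyClosed T) (hSI : SInv E F) (hTI : TInv E F)

include hT hSI in
theorem transport : TInv E F := fun P g hg β hβ =>
  hSI P T hg.le le_rfl g hg (fun _ hx => hg.mem hx) _ ((mem_autGroup hT.1).1 hβ)

include hTI in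
theorem dec_comp {P : Subgroup Ω} {f f' : Ω → Ω} (h : Dec E F P f) (h' : Dec E F (img f P) f') :
    Dec E F P (f' ∘ f) := by
  obtain ⟨β₁, hβ₁, g₁, hg₁, he₁⟩ := h
  obtain ⟨β₂, hβ₂, g₂, hg₂, he₂⟩ := h'
  obtain ⟨c, hc, hce⟩ := hTI _ _ hg₂ _ (inv_mem hβ₁)
  have hm : ∀ x ∈ P, g₁ x ∈ img (autFun β₁⁻¹) (img f P) := fun x hx => by
    have := mem_img_of_mem (f := autFun β₁⁻¹) (mem_img_of_mem (f := f) hx)
    rwa [he₁ x hx, autFun_inv_apply' β₁ (hg₁.mem hx)] at this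
  refine ⟨β₂ * β₁, mul_mem hβ₂ hβ₁, c ∘ g₁, hg₁.comp hc hm, fun x hx => ?_⟩
  have h1 : f x ∈ img f P := mem_img_of_mem hx
  have h2 := hce _ h1
  rw [he₁ x hx, autFun_inv_apply' β₁ (hg₁.mem hx)] at h2
  show f' (f x) = autFun (β₂ * β₁) (c (g₁ x))
  rw [he₂ _ h1, h2, autFun_mul _ _ (autFun_mem β₁⁻¹ (hg₂.mem (he₁ x hx ▸ h1))),
    autFun_inv_apply β₁ (hg₂.mem (he₁ x hx ▸ h1)), ← he₁ x hx]

include hT hTI in
theorem dec_inv {P : Subgroup Ω} {f f' : Ω → Ω} (h : Dec E F P f) (hl : ∀ x ∈ P, f' (f x) = x) :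
    Dec E F (img f P) f' := by
  obtain ⟨β, hβ, g, hg, he⟩ := h
  obtain ⟨g', hg', hg'g, -, -⟩ := hg.inv
  obtain ⟨c, hc, hce⟩ := hTI _ _ hg' _ hβ
  have hi : img f P = img (autFun β) (img g P) := by
    rw [← hg.img_comp]
    exact img_congr he
  refine ⟨β⁻¹, inv_mem hβ, c, hi ▸ hc, fun y hy => ?_⟩
  rw [hi] at hy
  obtain ⟨z, hz, rfl⟩ := (((mem_autGroup hT.1).1 hβ).mono hg.img_le).mem_img.1 hy
  obtain ⟨x, hx, rfl⟩ := hg.mem_img.1 hz
  have h1 := hg'.mem hz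
  rw [hg'g x hx] at h1
  rw [hce _ hz, hg'g x hx, autFun_inv_apply' β h1, ← he x hx, hl x hx]

include hT in
theorem dec_top [Finite T] {f : Ω → Ω} (hf : IsMap F T f) : Dec E F T f := by
  have hi : img f T = T := Subgroup.eq_of_le_of_card_ge
    (img_le_iff.2 fun x hx => (stronglyClosed_iff.1 hT).2 T f hf x hx hx)
    hf.card_img.ge
  obtain ⟨α, hα⟩ := hf.equiv hi
  have hαf : ∀ x ∈ T, autFun α x = f x := fun x hx => (autFun_of_mem α hx).trans (hα ⟨x, hx⟩)
  exact ⟨α, (mem_autGroup hT.1).2 (hf.congr fun x hx => (hαf x hx).symm), id, IsMap.id' E le_rfl,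
    fun x hx => (hαf x hx).symm⟩

include hT hSI in
theorem aut_normal {P : Subgroup Ω} (hP : P ≤ T) {α κ : MulAut P} (hα : α ∈ F.autGroup P)
    (hκ : κ ∈ E.autGroup P) : α * κ * α⁻¹ ∈ E.autGroup P := by
  obtain ⟨c, hc, hce⟩ := hSI P P le_rfl hP _ ((mem_autGroup hP).1 hκ) (fun x hx => autFun_mem κ hx)
    _ ((mem_autGroup (hP.trans hT.1)).1 hα)
  rw [img_autFun] at hc
  refine (mem_autGroup hP).2 (hc.congr fun x hx => ?_)
  rw [autFun_conj _ _ hx]
  conv_lhs => rw [← autFun_inv_apply α hx]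
  exact hce _ (autFun_mem _ hx)

include hT hSI in
theorem dec_all [Finite S] [hp : Fact p.Prime] (hS : IsPGroup p S) (hF : F.IsSaturated p) :
    ∀ n, ∀ P : Subgroup Ω, P ≤ T → Nat.card T < Nat.card P + n → ∀ f, IsMap F P f → Dec E F P f := by
  haveI : Finite T := finite_of_le hT.1
  intro n
  induction n with
  | zero =>
    intro P hP hn
    exact absurd hn (not_lt.2 (Subgroup.card_le_of_le hP))
  | succ n ih =>
    intro P hP hn f hf
    rcases hP.eq_or_lt with rfl | hlt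
    · exact dec_top hT hf
    have hTp : IsPGroup p T := isPGroup_of_le hS hT.1
    have hscl := (stronglyClosed_iff.1 hT).2
    have hcl : ∀ (R : Subgroup Ω) (g : Ω → Ω), R ≤ T → IsMap F R g → img g R ≤ T := fun R g hR hg =>
      img_le_iff.2 fun x hx => hscl R g hg x hx (hR hx)
    obtain ⟨P0, hc, hP0⟩ := exists_fullyNormalized (F := F) (hP.trans hT.1)
    have hstep : ∀ Q, Q < T → Nat.card Q = Nat.card P → F.IsConj Q P0 →
        ∃ ψ, IsMap F Q ψ ∧ img ψ Q = P0 ∧ Dec E F Q ψ := fun Q hQ hQc hQ0 => by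
      obtain ⟨ψ, hψ, hψi, -⟩ := exists_normalizer_map_fn hS hF hP0 hQ0
      have hle : normalizerIn T Q ≤ normalizerIn S Q := fun x hx => ⟨hT.1 hx.1, hx.2⟩
      have hlt' := lt_normalizerIn hTp hQ
      haveI : Finite ↥(normalizerIn T Q) := finite_of_le (normalizerIn_le (S := T) Q)
      have hcard : Nat.card Q < Nat.card ↥(normalizerIn T Q) :=
        lt_of_not_ge fun h => hlt'.ne (Subgroup.eq_of_le_of_card_ge hlt'.le h)
      refine ⟨ψ, hψ.mono (le_normalizerIn (hQ.le.trans hT.1)), hψi, ?_⟩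
      exact dec_mono (ih _ (normalizerIn_le _) (by omega) ψ (hψ.mono hle)) hlt'.le
    obtain ⟨ψ, hψ, hψi, hψd⟩ := hstep P hlt rfl hc
    have hP'T := hcl P f hP hf
    obtain ⟨ψ', hψ', hψ'i, hψ'd⟩ := hstep (img f P) (lt_of_le_of_ne hP'T fun he => hlt.ne
      (Subgroup.eq_of_le_of_card_ge hP (by rw [← hf.card_img, he]))) hf.card_img
      (isConj_trans (isConj_symm (isConj_iff.2 ⟨f, hf, rfl⟩)) hc)
    obtain ⟨φ, hφ, hφψ, hψφ, hφi⟩ := hψ.inv
    rw [hψi] at hφ hφi hψφ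
    obtain ⟨φ', -, hφ'ψ, -, hφ'i⟩ := hψ'.inv
    have hγ : IsMap F P0 (ψ' ∘ (f ∘ φ)) :=
      (hφ.comp hf fun x hx => hφ.mem_of_img_eq hφi hx).comp hψ' fun x hx =>
        mem_img_of_mem (hφ.mem_of_img_eq hφi hx)
    have hγi : img (ψ' ∘ (f ∘ φ)) P0 = P0 := by
      rw [(hφ.comp hf fun x hx => hφ.mem_of_img_eq hφi hx).img_comp, hφ.img_comp, hφi, hψ'i]
    obtain ⟨α, hα⟩ := hγ.equiv hγi
    have hαe : ∀ x ∈ P0, autFun α x = ψ' (f (φ x)) := fun x hx =>
      (autFun_of_mem α hx).trans (hα ⟨x, hx⟩)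
    have hP0T : P0 ≤ T := hψi ▸ hcl P ψ hP hψ
    have hαF : α ∈ F.autGroup P0 :=
      (mem_autGroup hP0.1).2 (hγ.congr fun x hx => (hαe x hx).symm)
    have hP0c : Nat.card P0 = Nat.card P := card_eq_of_isConj hc
    have hP0lt : P0 < T := lt_of_le_of_ne hP0T fun he => hlt.ne
      (Subgroup.eq_of_le_of_card_ge hP (by rw [← hP0c, he]))
    obtain ⟨hA, hR⟩ := fullyNormalized_spec hS hF hP0
    obtain ⟨β, hβ, κ, hκ, hαβ, hβn⟩ := frattini_aut hA (E.autGroup P0)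
      (fun a ha k hk => aut_normal hT hSI hP0T ha hk) hαF
    have hle : normalizerIn T P0 ≤ normalizerIn S P0 := fun x hx => ⟨hT.1 hx.1, hx.2⟩
    obtain ⟨b, hb, hbe⟩ := extend_aut hR hβ hle fun g hg γ hγe =>
      hβn γ (mem_autInducedBy.2 ⟨g, hT.1 hg.1, hγe⟩)
        (autInducedBy_le_autGroup hP0T (mem_autInducedBy.2 ⟨g, hg.1, hγe⟩))
    rw [sup_eq_right.2 (le_normalizerIn hP0T)] at hb
    have hlt' := lt_normalizerIn hTp hP0lt
    haveI : Finite ↥(normalizerIn T P0) := finite_of_le (normalizerIn_le (S := T) P0)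
    have hcard : Nat.card P0 < Nat.card ↥(normalizerIn T P0) :=
      lt_of_not_ge fun h => hlt'.ne (Subgroup.eq_of_le_of_card_ge hlt'.le h)
    have hbd : Dec E F P0 (autFun β) :=
      dec_congr (dec_mono (ih _ (normalizerIn_le _) (by omega) b hb) hlt'.le) hbe
    have hαd : Dec E F P0 (autFun α) := by
      have h1 : Dec E F P0 (autFun β ∘ autFun κ) :=
        dec_comp (transport hT hSI) (dec_of_map ((mem_autGroup hP0T).1 hκ)) ((img_autFun κ).symm ▸ hbd)
      exact dec_congr h1 fun x hx => by rw [Function.comp_apply, hαβ, autFun_mul _ _ hx]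
    have h2 : Dec E F P (autFun α ∘ ψ) := dec_comp (transport hT hSI) hψd (hψi.symm ▸ hαd)
    have h3 : Dec E F (img (autFun α ∘ ψ) P) φ' := by
      rw [hψ.img_comp, hψi, img_autFun, ← hψ'i]
      exact dec_inv hT (transport hT hSI) hψ'd hφ'ψ
    refine dec_congr (dec_comp (transport hT hSI) h2 h3) fun x hx => ?_
    simp only [Function.comp_apply]
    rw [hαe _ (hψ.mem_of_img_eq hψi hx), hφψ x hx, hφ'ψ _ (mem_img_of_mem hx)]

include hT in
/-- Invariance is the same as strong invariance. -/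
theorem invariant_iff [Finite S] [hp : Fact p.Prime] (hS : IsPGroup p S) (hF : F.IsSaturated p)
    (hE : E.IsSubsystemOf F) : E.IsInvariantIn F ↔ SInv E F := by
  constructor
  · intro h P Q hPQ hQ f hf hfQ g hg
    obtain ⟨β, hβ, e, he, hee⟩ := SolvNormal.frattini' h hg hQ
    obtain ⟨e', he', he'e, -, he'i⟩ := (he.mono hPQ).inv
    have hm : IsMap E (img e P) (e ∘ (f ∘ e')) :=
      (he'.comp hf fun x hx => he'.mem_of_img_eq he'i hx).comp he fun x hx =>
        hfQ _ (he'.mem_of_img_eq he'i hx)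
    obtain ⟨c, hc, hce⟩ := SolvNormal.transport' h hm hβ
    have hi : img g P = img (autFun β) (img e P) := by
      rw [← (he.mono hPQ).img_comp]
      exact img_congr fun x hx => hee x (hPQ hx)
    refine ⟨c, hi ▸ hc, fun x hx => ?_⟩
    rw [hee x (hPQ hx), hce _ (mem_img_of_mem hx)]
    simp only [Function.comp_apply]
    rw [he'e x hx, hee _ (hfQ x hx)]
  · intro hSI
    refine ⟨hE, hT, fun P hPT φ hφ α hα => ?_, fun P hPT φ hφ => ?_⟩
    · obtain ⟨c, hc, hce⟩ := transport hT hSI _ _ (IsMap.of_hom hφ) _ hα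
      obtain ⟨χ, hχ, hχc⟩ := hc
      have himg : (P.subgroupOf T).map (T.subtype.comp α.toMonoidHom) = img (autFun α) P :=
        map_subgroupOf_eq_img _ hPT
      rw [himg]
      refine ⟨χ, hχ, fun x hφx hαx => ?_⟩
      rw [hχc]
      have h1 := hce x x.2
      rw [autFun_of_mem α (hPT x.2), ev_apply, autFun_of_mem α hφx] at h1
      exact h1
    · haveI : Finite T := finite_of_le hT.1
      obtain ⟨β, hβ, g, hg, he⟩ := dec_all hT hSI hS hF (Nat.card T + 1) P hPT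
        (by omega) _ (IsMap.of_hom hφ)
      obtain ⟨φ₀, hφ₀, hφ₀g⟩ := hg
      refine ⟨β, hβ, φ₀, hφ₀, fun x hx => ?_⟩
      have h1 := he x x.2
      rw [ev_apply, ← hφ₀g x, autFun_of_mem β hx] at h1
      exact h1

end CfsgLib.Fus.StrongInv
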