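import Cfsg.Agent.Fus.InnerCriteria

/-!
The Glauberman-Thompson criterion relative to a strongly closed subgroup.
-/

set_option autoImplicit false
set_option linter.style.haveILetI false

open Cfsg Cfsg.FusionSystem

namespace CfsgLib.Fus

universe u

variable {Ω : Type u} [Group Ω] {S : Subgroup Ω} {F : FusionSystem S} {p : ℕ}

/-- The centre of the Thompson subgroup of a strongly closed subgroup is normal in `S`. -/
theorem normalizerIn_zJ_closed {D : Subgroup Ω} (hD : F.StronglyClosed D) :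
    normalizerIn S (centerThompsonAOf D) = S := by
  refine le_antisymm (normalizerIn_le _) fun a ha => ⟨ha, ?_⟩
  have hcl : ∀ b ∈ S, ∀ x ∈ D, b * x * b⁻¹ ∈ D := fun b hb x hx => by
    obtain ⟨φ, hφ, hφf⟩ := IsMap.conj F hD.1 hb
    have h := hD.2 D le_rfl φ hφ ⟨x, hx⟩
    rwa [hφf] at h
  have hmap : ∀ b ∈ S, D.map (MulAut.conj b).toMonoidHom = D := fun b hb => by
    refine le_antisymm (by rintro _ ⟨x, hx, rfl⟩; exact hcl b hb x hx) fun x hx => ?_
    exact ⟨b⁻¹ * x * b, by simpa using hcl b⁻¹ (S.inv_mem hb) x hx, by simp [mul_assoc]⟩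
  rw [CfsgLib.Inv.ZJ.centerThompsonAOf_eq]
  have hz : ∀ b ∈ S, ∀ x ∈ CfsgLib.Inv.ZJ.zJ 0 D, b * x * b⁻¹ ∈ CfsgLib.Inv.ZJ.zJ 0 D := fun b hb x hx => by
    have h : (MulAut.conj b).toMonoidHom x ∈ (CfsgLib.Inv.ZJ.zJ 0 D).map (MulAut.conj b).toMonoidHom := ⟨x, hx, rfl⟩
    rw [CfsgLib.Inv.ZJ.map_zJ (MulAut.conj b).injective, hmap b hb] at h
    exact h
  exact mem_normalizer_of_conj (hz a ha) fun x hx => by simpa using hz a⁻¹ (S.inv_mem ha) x hx

/-- The criterion. -/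
theorem eq_inner_of_zJ_closed [Finite S] [Fact p.Prime] (hS : IsPGroup p S) (hF : F.IsSaturated p) (hp : p ≠ 2)
    {D : Subgroup Ω} (hD : F.StronglyClosed D)
    (hN : ∀ N : FusionSystem (normalizerIn S (centerThompsonAOf D)), F.IsNormalizerSystem (centerThompsonAOf D) N →
      ∀ P : Subgroup Ω, N.Hom P = (innerFusionSystem (normalizerIn S (centerThompsonAOf D))).Hom P) :
    F = innerFusionSystem S := by
  refine eq_inner_of_models hS hF (Or.inl hp) ?_
  intro X hXn hXc hRS L _ _ ι θ N T hNs hι hconj hθι hker hT _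
  have hDR : D ≤ normalizerIn S X := hRS.ge.trans' hD.1
  set DL := (D.subgroupOf (normalizerIn S X)).map ι with hDL
  have hclosed : IsStronglyClosed DL (T : Subgroup L) := by
    refine ⟨hT ▸ Subgroup.map_le_range ι _, ?_⟩
    rintro _ ⟨r, hr, rfl⟩ g hg
    rw [hT] at hg
    obtain ⟨r', hr'⟩ := hg
    have hrange : ∀ r₁ : ↥(normalizerIn S X), (r₁ : Ω) ∈ Subgroup.zpowers (r : Ω) → g * ι r₁ * g⁻¹ ∈ ι.range := by
      rintro r₁ ⟨k, hk⟩
      refine ⟨r' ^ k, ?_⟩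
      have hk' : r₁ = r ^ k := Subtype.ext (by rw [SubgroupClass.coe_zpow]; exact hk.symm)
      rw [map_zpow, hr', hk', map_zpow, conj_zpow]
    obtain ⟨f, hf, hfe⟩ := exists_model_map hNs hι (Subgroup.zpowers_le.2 r.2) hrange
    obtain ⟨φ, hφ, hφf⟩ := hf
    have h := hD.2 _ (Subgroup.zpowers_le.2 hr) φ hφ ⟨r, Subgroup.mem_zpowers _⟩
    have h' : f r ∈ D := by
      have e := hφf ⟨(r : Ω), Subgroup.mem_zpowers _⟩
      exact e ▸ h
    rw [hfe r (Subgroup.mem_zpowers _) r' hr'.symm] at h'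
    exact ⟨r', h', hr'⟩
  have hread : ((CfsgLib.Inv.ZJ.zJ 0 DL).comap ι).map (normalizerIn S X).subtype = centerThompsonAOf D := by
    rw [hDL, ← CfsgLib.Inv.ZJ.map_zJ hι.1, Subgroup.comap_map_eq_self_of_injective hι.1,
      CfsgLib.Inv.ZJ.map_zJ (normalizerIn S X).subtype_injective, Subgroup.subgroupOf_map_subtype, inf_eq_left.2 hDR,
      CfsgLib.Inv.ZJ.centerThompsonAOf_eq]
  refine CfsgLib.Inv.ZJ.hnpc_of_zJ hp (Or.inl rfl) L T DL hclosed ?_
  refine hnpc_normalizer_of_inner hS hXn hRS hNs hι hconj hθι hker hT ?_ fun f hf hfY => ?_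
  · exact (inf_le_left.trans (CfsgLib.Inv.ZJ.jOf_le _)).trans hclosed.1
  rw [hread] at hfY hf
  obtain ⟨s, hs, h⟩ := inner_of_normalizer
    (((CfsgLib.Inv.ZJ.centerThompsonAOf_eq D).le.trans (inf_le_left.trans (CfsgLib.Inv.ZJ.jOf_le _))).trans hD.1)
    (normalizerIn_zJ_closed hD) hN hf le_sup_right hfY
  exact ⟨s, hs, fun x hx => h x (Subgroup.mem_sup_left hx)⟩

end CfsgLib.Fus
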