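import Cfsg.Agent.Fus.Saturation
import Cfsg.Prelude.Def_FusionComponents

/-!
Fully normalized subgroups in subnormal subsystems.
-/

set_option autoImplicit false
set_option linter.style.haveILetI false

open Cfsg Cfsg.FusionSystem

namespace CfsgLib.Fus

variable {Ω : Type*} [Group Ω] {S T : Subgroup Ω} {F : FusionSystem S} {E : FusionSystem T} {p : ℕ}

theorem subnormal_base_le (hE : E.IsSubnormalIn F p) : T ≤ S := by
  induction hE with
  | refl => exact le_rfl
  | @step U S E D F p hED hDF ih => exact ih.trans hDF.1.2.2.2.1.1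

theorem fullyNormalized_sub [Finite S] [hp : Fact p.Prime] (hS : IsPGroup p S) (hF : F.IsSaturated p)
    (hsub : E.IsSubsystemOf F) (hT : F.StronglyClosed T) {P : Subgroup Ω} (hPT : P ≤ T) (hP : F.IsFullyNormalized P) :
    E.IsFullyNormalized P := by
  refine ⟨hPT, fun R hR => ?_⟩
  obtain ⟨φ, hφ, hφR⟩ := hR
  have hc : F.IsConj R P := isConj_symm ⟨φ, hsub P hφ, hφR⟩
  obtain ⟨g, hg, hgi, hgle⟩ := exists_normalizer_map_fn hS hF hP hc
  haveI := finite_of_le (hT.1)
  haveI : Finite ↥(normalizerIn T P) := finite_of_le ((normalizerIn_le P).trans hT.1)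
  have hle : normalizerIn T R ≤ normalizerIn S R := inf_le_inf_right _ hT.1
  rw [← (hg.mono hle).card_img]
  refine Subgroup.card_le_of_le (img_le_iff.2 fun x hx => ?_)
  refine ⟨(stronglyClosed_iff.1 hT).2 _ g hg x (hle hx) hx.1, ?_⟩
  exact (hgle (mem_img_of_mem (hle hx))).2

theorem fullyNormalized_subnormal_aux (hE : E.IsSubnormalIn F p) :
    Fact p.Prime → Finite S → IsPGroup p S → F.IsSaturated p →
      ∀ P ≤ T, F.IsFullyNormalized P → E.IsFullyNormalized P := by
  induction hE with
  | refl => exact fun _ _ _ _ _ _ h => h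
  | @step U S E D F p hED hDF ih =>
    intro hp hfin hS hF P hPT hP
    obtain ⟨⟨hDs, -, hinv⟩, -⟩ := hDF
    exact ih hp (finite_of_le hinv.2.1.1) (hS.to_le hinv.2.1.1) hDs P hPT
      (fullyNormalized_sub hS hF hinv.1 hinv.2.1 (hPT.trans (subnormal_base_le hED)) hP)

theorem fullyNormalized_subnormal [hfin : Finite S] [hp : Fact p.Prime] (hS : IsPGroup p S) (hF : F.IsSaturated p)
    (hE : E.IsSubnormalIn F p) {P : Subgroup Ω} (hPT : P ≤ T) (hP : F.IsFullyNormalized P) : E.IsFullyNormalized P :=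
  fullyNormalized_subnormal_aux hE hp hfin hS hF P hPT hP

end CfsgLib.Fus
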