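import Cfsg.Agent.Fus.SubnormalizerCount

/-!
The subnormalizer count along a chain with `p`- and `p'`-factors.
-/

set_option autoImplicit false
set_option linter.style.haveILetI false
set_option linter.unusedSectionVars false

namespace CfsgLib.Fus.SubnormalizerChain

open scoped Classical Pointwise

variable {G : Type*} [Group G] [Finite G] {p : ℕ} [hp : Fact p.Prime]

noncomputable local instance : Fintype G := Fintype.ofFinite G

/-- Elements conjugating `H` into `X`. -/
noncomputable def into (H X : Subgroup G) : Finset G :=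
  Finset.univ.filter fun g => ∀ h ∈ H, g⁻¹ * h * g ∈ X

/-- Elements of `M'` centralizing `H` modulo `M`. -/
noncomputable def cmod (H M M' : Subgroup G) : Finset G :=
  Finset.univ.filter fun u => u ∈ M' ∧ ∀ h ∈ H, h * u * h⁻¹ * u⁻¹ ∈ M

theorem sup_facts (P : Sylow p G) (M M' : Subgroup G) [M.Normal] [M'.Normal] (hle : M ≤ M') :
    Nat.card ↥(M' ⊔ (P : Subgroup G)) * Nat.card ↥(M' ⊓ (P : Subgroup G)) * Nat.card M =
      M.relIndex M' * Nat.card ↥(M ⊔ (P : Subgroup G)) * Nat.card ↥(M ⊓ (P : Subgroup G)) * Nat.card M := by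
  have h1 := CfsgLib.Solv.card_sup_mul_card_inf (P : Subgroup G) M'
  have h2 := CfsgLib.Solv.card_sup_mul_card_inf (P : Subgroup G) M
  rw [sup_comm, inf_comm] at h1 h2
  have h3 : M.relIndex M' * Nat.card M = Nat.card M' := by
    rw [mul_comm, ← Subgroup.relIndex_bot_left M, ← Subgroup.relIndex_bot_left M',
      Subgroup.relIndex_mul_relIndex _ _ _ bot_le hle]
  rw [h1, mul_assoc (M.relIndex M') (Nat.card _) (Nat.card _), h2, ← h3]
  ring

theorem sup_of_coprime (P : Sylow p G) (M M' : Subgroup G) [M.Normal] [M'.Normal] (hle : M ≤ M')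
    (hf : (M.relIndex M').Coprime p) :
    M' ⊓ (P : Subgroup G) ≤ M ∧ Nat.card ↥(M' ⊔ (P : Subgroup G)) = M.relIndex M' * Nat.card ↥(M ⊔ (P : Subgroup G)) := by
  have hPp : IsPGroup p ↥(M' ⊓ (P : Subgroup G)) := P.2.to_le inf_le_right
  have hin : M' ⊓ (P : Subgroup G) ≤ M := by
    intro x hx
    obtain ⟨k, hk⟩ := hPp ⟨x, hx⟩
    have hk' : x ^ p ^ k = 1 := congrArg Subtype.val hk
    let y : M' ⧸ M.subgroupOf M' := QuotientGroup.mk' _ ⟨x, hx.1⟩
    have h1 : orderOf y ∣ M.relIndex M' := orderOf_dvd_natCard y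
    have h2 : orderOf y ∣ p ^ k := orderOf_dvd_of_pow_eq_one (by
      rw [← map_pow, show (⟨x, hx.1⟩ : M') ^ p ^ k = 1 from Subtype.ext hk', map_one])
    have h3 : y = 1 := orderOf_eq_one_iff.1 (Nat.eq_one_of_dvd_coprimes (hf.pow_right k) h1 h2)
    exact Subgroup.mem_subgroupOf.1 ((QuotientGroup.eq_one_iff _).1 h3)
  refine ⟨hin, ?_⟩
  have h := sup_facts P M M' hle
  have heq : M' ⊓ (P : Subgroup G) = M ⊓ (P : Subgroup G) :=
    le_antisymm (le_inf hin inf_le_right) (inf_le_inf_right _ hle)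
  rw [heq] at h
  exact mul_right_cancel₀ Nat.card_pos.ne' (mul_right_cancel₀ Nat.card_pos.ne' h)

theorem sup_of_pow (P : Sylow p G) (M M' : Subgroup G) [M.Normal] [M'.Normal] (hle : M ≤ M')
    (m : ℕ) (hf : M.relIndex M' = p ^ m) : M' ⊔ (P : Subgroup G) = M ⊔ (P : Subgroup G) := by
  have hXX : M ⊔ (P : Subgroup G) ≤ M' ⊔ (P : Subgroup G) := sup_le_sup_right hle _
  have h := sup_facts P M M' hle
  set X := M ⊔ (P : Subgroup G)
  set X' := M' ⊔ (P : Subgroup G)
  have hd : X.relIndex X' ∣ p ^ m * Nat.card ↥(M ⊓ (P : Subgroup G)) := by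
    have h3 : X.relIndex X' * Nat.card X = Nat.card X' := by
      rw [mul_comm, ← Subgroup.relIndex_bot_left X, ← Subgroup.relIndex_bot_left X',
        Subgroup.relIndex_mul_relIndex _ _ _ bot_le hXX]
    rw [hf, ← h3] at h
    refine ⟨Nat.card ↥(M' ⊓ (P : Subgroup G)), mul_right_cancel₀ (b := Nat.card X * Nat.card M)
      (mul_ne_zero Nat.card_pos.ne' Nat.card_pos.ne') ?_⟩
    linarith
  obtain ⟨k, hk⟩ := IsPGroup.iff_card.1 (P.2.to_le (inf_le_right : M ⊓ (P : Subgroup G) ≤ P))
  rw [hk, ← pow_add] at hd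
  have h1 : X.relIndex X' ∣ (P : Subgroup G).index :=
    (Subgroup.relIndex_dvd_of_le_left X' (le_sup_right : (P : Subgroup G) ≤ X)).trans
      (Subgroup.relIndex_dvd_index_of_le le_sup_right)
  have h2 : X.relIndex X' = 1 :=
    Nat.eq_one_of_dvd_coprimes ((Nat.coprime_comm.1 (hp.out.coprime_iff_not_dvd.2 P.not_dvd_index)).pow_right _) h1 hd
  exact le_antisymm (Subgroup.relIndex_eq_one.1 h2) hXX

theorem step (P : Sylow p G) (H : Subgroup G) (hH : IsPGroup p H) (M M' : Subgroup G) [M.Normal] [hM' : M'.Normal]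
    (hle : M ≤ M') (hf : (M.relIndex M').Coprime p) :
    (into H (M ⊔ (P : Subgroup G))).card * Nat.card M' =
      (into H (M' ⊔ (P : Subgroup G))).card * (cmod H M M').card := by
  obtain ⟨hin, -⟩ := sup_of_coprime P M M' hle hf
  set X := M ⊔ (P : Subgroup G)
  set X' := M' ⊔ (P : Subgroup G)
  have hXX : X ≤ X' := sup_le_sup_right hle _
  have hXM : ∀ x ∈ X, x ∈ M' → x ∈ M := by
    intro x hx hx'
    rw [← SetLike.mem_coe, Subgroup.normal_mul] at hx
    obtain ⟨a, ha, b, hb, rfl⟩ := Set.mem_mul.1 hx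
    have : b ∈ M' := by
      have := M'.mul_mem (M'.inv_mem (hle ha)) hx'
      rwa [inv_mul_cancel_left] at this
    exact M.mul_mem ha (hin ⟨this, hb⟩)
  let T := ((into H X') ×ˢ (Finset.univ.filter (· ∈ M'))).filter fun q : G × G => q.1 * q.2 ∈ into H X
  have hA : T.card = (into H X).card * Nat.card M' := by
    rw [Nat.card_eq_fintype_card, Fintype.card_subtype, ← Finset.card_product]
    refine Finset.card_bij' (fun q _ => (q.1 * q.2, q.2)) (fun q _ => (q.1 * q.2⁻¹, q.2)) ?_ ?_ ?_ ?_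
    · intro q hq
      simp only [T, Finset.mem_filter, Finset.mem_product, Finset.mem_univ, true_and] at hq ⊢
      exact ⟨hq.2, hq.1.2⟩
    · intro q hq
      simp only [T, Finset.mem_filter, Finset.mem_product, Finset.mem_univ, true_and, inv_mul_cancel_right] at hq ⊢
      refine ⟨⟨?_, hq.2⟩, hq.1⟩
      simp only [into, Finset.mem_filter, Finset.mem_univ, true_and] at hq ⊢
      intro h hh
      have hm : q.2 ∈ X' := le_sup_left (b := (P : Subgroup G)) hq.2
      have := X'.mul_mem (X'.mul_mem hm (hXX (hq.1 h hh))) (X'.inv_mem hm)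
      rwa [show q.2 * (q.1⁻¹ * h * q.1) * q.2⁻¹ = (q.1 * q.2⁻¹)⁻¹ * h * (q.1 * q.2⁻¹) by group] at this
    · intro q _; simp
    · intro q _; simp
  have hB : T.card = (into H X').card * (cmod H M M').card := by
    rw [Finset.card_eq_sum_card_fiberwise (f := Prod.fst) (t := into H X')
      (fun q hq => (Finset.mem_product.1 (Finset.mem_filter.1 hq).1).1)]
    rw [← smul_eq_mul, ← Finset.sum_const]
    refine Finset.sum_congr rfl fun g hg => ?_
    -- one solution in the coset
    obtain ⟨m₀, hm₀, hg₀⟩ : ∃ m ∈ M', g * m ∈ into H X := by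
      let K : Subgroup G := H.map (MulAut.conj g⁻¹).toMonoidHom
      have hK : K ≤ X' := by
        rintro _ ⟨h, hh, rfl⟩
        simpa using (Finset.mem_filter.1 hg).2 h hh
      obtain ⟨Q, hQ⟩ := ((hH.map (MulAut.conj g⁻¹).toMonoidHom).comap_of_injective X'.subtype
        X'.subtype_injective).exists_le_sylow
      obtain ⟨x, hx⟩ := MulAction.exists_smul_eq X' (P.subtype (le_sup_right : (P : Subgroup G) ≤ X')) Q
      have hxM : ((x : G)) ∈ (M' : Set G) * ((P : Subgroup G) : Set G) := by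
        rw [← Subgroup.normal_mul]; exact x.2
      obtain ⟨m, hm, y, hy, hmy⟩ := Set.mem_mul.1 hxM
      refine ⟨m, hm, Finset.mem_filter.2 ⟨Finset.mem_univ _, fun h hh => ?_⟩⟩
      have hk : g⁻¹ * h * g ∈ K := ⟨h, hh, by simp⟩
      have hq : (⟨g⁻¹ * h * g, hK hk⟩ : X') ∈ (Q : Subgroup X') := hQ hk
      rw [← hx, Sylow.coe_subgroup_smul, Subgroup.mem_pointwise_smul_iff_inv_smul_mem] at hq
      have hq' : (x : G)⁻¹ * (g⁻¹ * h * g) * x ∈ (P : Subgroup G) := by
        simpa [MulAut.smul_def, Subgroup.mem_subgroupOf] using hq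
      have := X.mul_mem (X.mul_mem (le_sup_right (a := M) hy) (le_sup_right (a := M) hq'))
        (X.inv_mem (le_sup_right (a := M) hy))
      rwa [← hmy, show y * ((m * y)⁻¹ * (g⁻¹ * h * g) * (m * y)) * y⁻¹ = (g * m)⁻¹ * h * (g * m) by group] at this
    simp only [into, Finset.mem_filter, Finset.mem_univ, true_and] at hg₀
    set a := g * m₀ with ha
    refine Finset.card_bij' (fun q _ => a * (m₀⁻¹ * q.2) * a⁻¹) (fun u _ => (g, m₀ * (a⁻¹ * u * a))) ?_ ?_ ?_ ?_
    · rintro ⟨g', m⟩ hq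
      simp only [T, into, Finset.mem_filter, Finset.mem_product, Finset.mem_univ, true_and] at hq
      obtain ⟨⟨⟨-, hm⟩, hgm⟩, rfl⟩ := hq
      simp only [cmod, Finset.mem_filter, Finset.mem_univ, true_and]
      set v := m₀⁻¹ * m
      have hv : v ∈ M' := M'.mul_mem (M'.inv_mem hm₀) hm
      refine ⟨hM'.conj_mem v hv a, fun h hh => ?_⟩
      set k := a⁻¹ * h * a
      have hk : k ∈ X := hg₀ h hh
      have hk' : v⁻¹ * k * v ∈ X := by
        have := hgm h hh
        rwa [show g' * m = a * v by simp [ha, v, mul_assoc],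
          show (a * v)⁻¹ * h * (a * v) = v⁻¹ * k * v by simp [k, mul_assoc]] at this
      have h1 : k⁻¹ * (v⁻¹ * k * v) ∈ M := hXM _ (X.mul_mem (X.inv_mem hk) hk') (by
        have := M'.mul_mem (hM'.conj_mem v⁻¹ (M'.inv_mem hv) k⁻¹) hv
        rwa [inv_inv, show k⁻¹ * v⁻¹ * k * v = k⁻¹ * (v⁻¹ * k * v) by group] at this)
      have h3 : h * (a * v * a⁻¹) * h⁻¹ * (a * v * a⁻¹)⁻¹ =
          (a * v * k) * (k⁻¹ * (v⁻¹ * k * v)) * (a * v * k)⁻¹ := by simp [k]; group
      rw [h3]
      exact (inferInstance : M.Normal).conj_mem _ h1 _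
    · intro u hu
      simp only [cmod, Finset.mem_filter, Finset.mem_univ, true_and] at hu
      have hw : a⁻¹ * u * a ∈ M' := by simpa using hM'.conj_mem u hu.1 a⁻¹
      simp only [T, into, Finset.mem_filter, Finset.mem_product, Finset.mem_univ, true_and, and_true]
      refine ⟨⟨(Finset.mem_filter.1 hg).2, M'.mul_mem hm₀ hw⟩, fun h hh => ?_⟩
      have h1 : a⁻¹ * (u⁻¹ * (h * u * h⁻¹ * u⁻¹) * u) * a ∈ M := by
        simpa [mul_assoc] using (inferInstance : M.Normal).conj_mem _
          ((inferInstance : M.Normal).conj_mem _ (hu.2 h hh) u⁻¹) a⁻¹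
      have := X.mul_mem (le_sup_left (b := (P : Subgroup G)) h1) (hg₀ h hh)
      rwa [show a⁻¹ * (u⁻¹ * (h * u * h⁻¹ * u⁻¹) * u) * a * (a⁻¹ * h * a) =
        (g * (m₀ * (a⁻¹ * u * a)))⁻¹ * h * (g * (m₀ * (a⁻¹ * u * a))) by simp [ha]; group] at this
    · rintro ⟨g', m⟩ hq
      obtain ⟨-, rfl⟩ := Finset.mem_filter.1 hq
      simp [mul_assoc]
    · intro u _; simp [mul_assoc]
  rw [← hA, hB]

theorem cmod_dvd (H M M' : Subgroup G) [hM : M.Normal] (hle : M ≤ M') :
    Nat.card M ∣ (cmod H M M').card := by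
  let C : Subgroup G :=
    { carrier := {u | u ∈ M' ∧ ∀ h ∈ H, h * u * h⁻¹ * u⁻¹ ∈ M}
      one_mem' := ⟨M'.one_mem, fun h _ => by simp⟩
      mul_mem' := fun {u v} hu hv => ⟨M'.mul_mem hu.1 hv.1, fun h hh => by
        have := M.mul_mem (hu.2 h hh) (hM.conj_mem _ (hv.2 h hh) u)
        rwa [show h * u * h⁻¹ * u⁻¹ * (u * (h * v * h⁻¹ * v⁻¹) * u⁻¹) = h * (u * v) * h⁻¹ * (u * v)⁻¹ by group] at this⟩
      inv_mem' := fun {u} hu => ⟨M'.inv_mem hu.1, fun h hh => by
        have := hM.conj_mem _ (M.inv_mem (hu.2 h hh)) u⁻¹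
        rwa [show u⁻¹ * (h * u * h⁻¹ * u⁻¹)⁻¹ * u⁻¹⁻¹ = h * u⁻¹ * h⁻¹ * u⁻¹⁻¹ by group] at this⟩ }
  have hC : M ≤ C := fun u hu => ⟨hle hu, fun h _ => M.mul_mem (hM.conj_mem u hu h) (M.inv_mem hu)⟩
  have h : Nat.card C = (cmod H M M').card := by
    rw [Nat.card_eq_fintype_card, Fintype.card_subtype]
    congr 1
    ext u
    simp only [cmod, Finset.mem_filter, Finset.mem_univ, true_and]
    rfl
  exact h ▸ Subgroup.card_dvd_of_le hC

/-- The number of elements carrying `H` into a Sylow subgroup. -/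
theorem card_transporter (H : Subgroup G) (P : Sylow p G) :
    Nat.card {g : G // ∀ x ∈ H, g * x * g⁻¹ ∈ (P : Subgroup G)} =
      Nat.card {Q : Sylow p G // H ≤ (Q : Subgroup G)} * Nat.card (Subgroup.normalizer ((P : Subgroup G) : Set G)) := by
  haveI : Fintype (Sylow p G) := Fintype.ofFinite _
  let Φ : G → Sylow p G := fun g => g⁻¹ • P
  have hmem : ∀ g x, x ∈ ((Φ g : Sylow p G) : Subgroup G) ↔ g * x * g⁻¹ ∈ (P : Subgroup G) := fun g x => by
    rw [Sylow.coe_subgroup_smul, Subgroup.mem_pointwise_smul_iff_inv_smul_mem]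
    simp [MulAut.smul_def, mul_assoc]
  rw [Nat.card_eq_fintype_card (α := {g : G // _}), Fintype.card_subtype,
    Finset.card_eq_sum_card_fiberwise (s := Finset.univ.filter fun g : G => ∀ x ∈ H, g * x * g⁻¹ ∈ (P : Subgroup G)) (f := Φ) (t := Finset.univ.filter fun Q : Sylow p G => H ≤ (Q : Subgroup G))
    (fun g hg => Finset.mem_filter.2 ⟨Finset.mem_univ _, fun x hx => (hmem g x).2 ((Finset.mem_filter.1 hg).2 x hx)⟩),
    Nat.card_eq_fintype_card (α := {Q : Sylow p G // _}), Fintype.card_subtype, ← smul_eq_mul, ← Finset.sum_const]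
  refine Finset.sum_congr rfl fun Q hQ => ?_
  obtain ⟨a, ha⟩ := MulAction.exists_smul_eq G P Q
  rw [Nat.card_eq_fintype_card, Fintype.card_subtype]
  refine Finset.card_equiv (Equiv.mulRight a) fun g => ?_
  simp only [Finset.mem_filter, Finset.mem_univ, true_and, Equiv.coe_mulRight]
  rw [← show (g * a) • P = P ↔ g * a ∈ Subgroup.normalizer ((P : Subgroup G) : Set G) from
    Sylow.smul_eq_iff_mem_normalizer, mul_smul, ha]
  constructor
  · rintro ⟨-, h⟩; rw [← h]; exact smul_inv_smul g P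
  · intro h
    have hQ' : Φ g = Q := by simp only [Φ]; rw [← h, inv_smul_smul]
    refine ⟨fun x hx => (hmem g x).1 ?_, hQ'⟩
    rw [hQ']; exact (Finset.mem_filter.1 hQ).2 hx

theorem main (H : Subgroup G) (hH : IsPGroup p H) (P : Sylow p G)
    (n : ℕ) (M : Fin (n + 1) → Subgroup G) (h0 : M 0 = ⊥) (hn : M (Fin.last n) = ⊤) (hmono : Monotone M)
    (hnormal : ∀ i, (M i).Normal)
    (hfac : ∀ i : Fin n, (∃ m : ℕ, (M i.castSucc).relIndex (M i.succ) = p ^ m) ∨
      ((M i.castSucc).relIndex (M i.succ)).Coprime p) :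
    Nat.card {g : G // (H.subgroupOf (H ⊔ Subgroup.zpowers g)).IsSubnormal} =
      Nat.card (P : Subgroup G) *
        ∏ i : Fin n, (if ((M i.castSucc).relIndex (M i.succ)).Coprime p then
          Nat.card {u : G // u ∈ M i.succ ∧ ∀ h ∈ H, h * u * h⁻¹ * u⁻¹ ∈ M i.castSucc} / Nat.card (M i.castSucc)
          else 1) := by
  haveI := hnormal
  set c : Fin n → ℕ := fun i => if ((M i.castSucc).relIndex (M i.succ)).Coprime p then
      Nat.card {u : G // u ∈ M i.succ ∧ ∀ h ∈ H, h * u * h⁻¹ * u⁻¹ ∈ M i.castSucc} / Nat.card (M i.castSucc)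
      else 1 with hcdef
  have key : ∀ i : Fin (n + 1), (into H (M i ⊔ (P : Subgroup G))).card =
      Nat.card ↥(M i ⊔ (P : Subgroup G)) * ∏ j ∈ Finset.univ.filter (fun j : Fin n => i ≤ j.castSucc), c j := by
    intro i
    induction i using Fin.reverseInduction with
    | last =>
      rw [hn, top_sup_eq, Subgroup.card_top, Finset.filter_false_of_mem, Finset.prod_empty, mul_one]
      · simp [into]
      · intro j _; exact (Fin.castSucc_lt_last j).not_ge
    | cast i ih =>
      have hle : M i.castSucc ≤ M i.succ := hmono (Fin.castSucc_lt_succ (i := i)).le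
      have hfilt : Finset.univ.filter (fun j : Fin n => i.castSucc ≤ j.castSucc) =
          insert i (Finset.univ.filter (fun j : Fin n => i.succ ≤ j.castSucc)) := by
        ext j
        simp only [Finset.mem_filter, Finset.mem_univ, true_and, Finset.mem_insert, Fin.le_def, Fin.val_castSucc,
          Fin.val_succ, Fin.ext_iff]
        omega
      rw [hfilt, Finset.prod_insert (by simp)]
      by_cases hf : ((M i.castSucc).relIndex (M i.succ)).Coprime p
      · have h1 := step P H hH (M i.castSucc) (M i.succ) hle hf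
        rw [ih, (sup_of_coprime P _ _ hle hf).2] at h1
        have hc : c i = (cmod H (M i.castSucc) (M i.succ)).card / Nat.card (M i.castSucc) := by
          simp only [hcdef, if_pos hf]
          rw [Nat.card_eq_fintype_card, Fintype.card_subtype]
          rfl
        have h2 : Nat.card (M i.castSucc) * c i = (cmod H (M i.castSucc) (M i.succ)).card := by
          rw [hc, Nat.mul_div_cancel' (cmod_dvd H _ _ hle)]
        have h3 : (M i.castSucc).relIndex (M i.succ) * Nat.card (M i.castSucc) = Nat.card (M i.succ) := by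
          rw [mul_comm, ← Subgroup.relIndex_bot_left (M i.castSucc), ← Subgroup.relIndex_bot_left (M i.succ),
            Subgroup.relIndex_mul_relIndex _ _ _ bot_le hle]
        rw [← h2, ← h3] at h1
        refine mul_right_cancel₀ (b := (M i.castSucc).relIndex (M i.succ) * Nat.card (M i.castSucc)) ?_ ?_
        · rw [h3]; exact Nat.card_pos.ne'
        · rw [h1]; ring
      · obtain ⟨m, hm⟩ := (hfac i).resolve_right hf
        rw [← sup_of_pow P _ _ hle m hm, ih, show c i = 1 by simp [hcdef, hf], one_mul]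
  have h := key 0
  rw [h0, bot_sup_eq, Finset.filter_true_of_mem (fun j _ => Fin.zero_le _)] at h
  rw [SubnormalizerCount.main hH P, ← h]
  have hS : (into H (P : Subgroup G)).card = Nat.card {g : G // ∀ x ∈ H, g * x * g⁻¹ ∈ (P : Subgroup G)} := by
    rw [Nat.card_eq_fintype_card, Fintype.card_subtype]
    exact Finset.card_equiv (Equiv.inv G) (by simp [into])
  rw [hS]
  exact (card_transporter H P).symm

end CfsgLib.Fus.SubnormalizerChain
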