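import Cfsg.Agent.Inv.CharP2
import Cfsg.Agent.Solv.Engel

/-!
Casolo's formula for the number of elements of the subnormalizer of a `p`-subgroup.
-/

set_option autoImplicit false
set_option linter.style.haveILetI false
set_option linter.unusedSectionVars false

namespace CfsgLib.Fus.SubnormalizerCount

open scoped Classical Pointwise

universe u

variable {G : Type u} [Group G] [Finite G] {p : ℕ} [hp : Fact p.Prime]

noncomputable local instance : Fintype G := Fintype.ofFinite G
noncomputable local instance : Fintype (Subgroup G) := Fintype.ofFinite _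

/-- The open interval above `H` below `E`. -/
noncomputable def below (H E : Subgroup G) : Finset (Subgroup G) :=
  Finset.univ.filter fun D => H < D ∧ D ≤ E

/-- Weights summing to one on every interval `(H, E]`. -/
noncomputable def coef (H : Subgroup G) : Subgroup G → ℤ :=
  (wellFounded_lt (α := Subgroup G)).fix fun D f =>
    1 - ∑ E ∈ ((below H D).erase D).attach,
      f E.1 (lt_of_le_of_ne (Finset.mem_filter.1 (Finset.mem_of_mem_erase E.2)).2.2 (Finset.ne_of_mem_erase E.2))

theorem sum_below {H D : Subgroup G} (h : H < D) : ∑ E ∈ below H D, coef H E = 1 := by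
  have hD : D ∈ below H D := by simp [below, h]
  rw [← Finset.add_sum_erase _ _ hD]
  conv_lhs => arg 1; rw [coef, WellFounded.fix_eq]
  rw [Finset.sum_attach _ (fun E => (wellFounded_lt (α := Subgroup G)).fix _ E)]
  show (1 - ∑ E ∈ (below H D).erase D, coef H E) + _ = 1
  abel

/-- A downward closed family stable under joining with `V` has total weight one. -/
theorem sum_cone {H V : Subgroup G} (hV : H < V) :
    ∀ (n : ℕ) (Γ : Finset (Subgroup G)), Γ.card ≤ n → (∀ D ∈ Γ, H < D) →
      (∀ D ∈ Γ, ∀ D', H < D' → D' ≤ D → D' ∈ Γ) → (∀ D ∈ Γ, D ⊔ V ∈ Γ) → V ∈ Γ →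
      ∑ D ∈ Γ, coef H D = 1 := by
  intro n
  induction n with
  | zero =>
    intro Γ hn _ _ _ hVΓ
    exact absurd hVΓ (by rw [Finset.card_eq_zero.1 (Nat.le_zero.1 hn)]; simp)
  | succ n ih =>
    intro Γ hn hpos hdown hjoin hVΓ
    by_cases hall : ∀ D ∈ Γ, D ≤ V
    · have : Γ = below H V := by
        ext D
        simp only [below, Finset.mem_filter, Finset.mem_univ, true_and]
        exact ⟨fun hD => ⟨hpos D hD, hall D hD⟩, fun hD => hdown V hVΓ D hD.1 hD.2⟩
      rw [this, sum_below hV]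
    push Not at hall
    obtain ⟨D₀, hD₀, hD₀V⟩ := hall
    obtain ⟨E, hD₀E, hE⟩ := Γ.finite_toSet.exists_le_maximal (Finset.mem_coe.2 hD₀)
    have hEΓ : E ∈ Γ := hE.1
    have hEV : E ⊔ V = E := (hE.eq_of_le (hjoin E hEΓ) le_sup_left).symm
    have hVE : V ≤ E := hEV ▸ le_sup_right
    have hVne : V ⊔ V ≠ E := fun h => hD₀V (by rw [sup_idem] at h; exact h ▸ hD₀E)
    let Γ₁ := Γ.filter fun D => D ⊔ V ≠ E
    let ΓE := (below H E).filter fun D => D ⊔ V ≠ E
    have hcard : ∀ S : Finset (Subgroup G), S ⊆ Γ → E ∉ S → S.card ≤ n := fun S hS hES => by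
      have := Finset.card_lt_card (s := S) (t := Γ) ⟨hS, fun h => hES (h hEΓ)⟩
      omega
    have h1 : ∑ D ∈ Γ₁, coef H D = 1 := by
      refine ih Γ₁ (hcard _ (Finset.filter_subset _ _) (by simp [Γ₁, hEV])) ?_ ?_ ?_ ?_
      · exact fun D hD => hpos D (Finset.mem_filter.1 hD).1
      · intro D hD D' h1 h2
        obtain ⟨hDΓ, hne⟩ := Finset.mem_filter.1 hD
        refine Finset.mem_filter.2 ⟨hdown D hDΓ D' h1 h2, fun h => hne ?_⟩
        exact (hE.eq_of_le (hjoin D hDΓ) (h ▸ sup_le_sup_right h2 V)).symm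
      · intro D hD
        obtain ⟨hDΓ, hne⟩ := Finset.mem_filter.1 hD
        exact Finset.mem_filter.2 ⟨hjoin D hDΓ, by rwa [sup_assoc, sup_idem]⟩
      · exact Finset.mem_filter.2 ⟨hVΓ, hVne⟩
    have h2 : ∑ D ∈ ΓE, coef H D = 1 := by
      refine ih ΓE (hcard _ ?_ (by simp [ΓE, hEV])) ?_ ?_ ?_ ?_
      · intro D hD
        obtain ⟨hDb, -⟩ := Finset.mem_filter.1 hD
        obtain ⟨-, hHD, hDE⟩ := Finset.mem_filter.1 hDb
        exact hdown E hEΓ D hHD hDE
      · exact fun D hD => (Finset.mem_filter.1 (Finset.mem_filter.1 hD).1).2.1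
      · intro D hD D' h1 h2
        obtain ⟨hDb, hne⟩ := Finset.mem_filter.1 hD
        obtain ⟨-, hHD, hDE⟩ := Finset.mem_filter.1 hDb
        refine Finset.mem_filter.2 ⟨by simp [below, h1, h2.trans hDE], fun h => hne ?_⟩
        exact le_antisymm (sup_le hDE hVE) (h ▸ sup_le_sup_right h2 V)
      · intro D hD
        obtain ⟨hDb, hne⟩ := Finset.mem_filter.1 hD
        obtain ⟨-, hHD, hDE⟩ := Finset.mem_filter.1 hDb
        exact Finset.mem_filter.2 ⟨by simp [below, lt_of_lt_of_le hHD (le_sup_left (b := V)), hDE, hVE],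
          by rwa [sup_assoc, sup_idem]⟩
      · exact Finset.mem_filter.2 ⟨by simp [below, hV, hVE], hVne⟩
    have hfib : Γ.filter (fun D => ¬ D ⊔ V ≠ E) = (below H E).filter (fun D => ¬ D ⊔ V ≠ E) := by
      ext D
      simp only [below, Finset.mem_filter, Finset.mem_univ, true_and, not_not]
      exact ⟨fun ⟨hD, h⟩ => ⟨⟨hpos D hD, h ▸ le_sup_left⟩, h⟩,
        fun ⟨⟨h1, h2⟩, h⟩ => ⟨hdown E hEΓ D h1 h2, h⟩⟩
    have h3 := Finset.sum_filter_add_sum_filter_not Γ (fun D => D ⊔ V ≠ E) (coef H)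
    have h4 := Finset.sum_filter_add_sum_filter_not (below H E) (fun D => D ⊔ V ≠ E) (coef H)
    rw [sum_below (lt_of_lt_of_le hV hVE)] at h4
    rw [hfib] at h3
    change ∑ D ∈ Γ₁, coef H D + _ = _ at h3
    change ∑ D ∈ ΓE, coef H D + _ = _ at h4
    linarith

/-- Some `p`-subgroup of `M` above `H` is normalized by `g`. -/
def Good (p : ℕ) (M H : Subgroup G) (g : G) : Prop :=
  ∃ T : Subgroup G, IsPGroup p T ∧ H ≤ T ∧ T ≤ M ∧ g ∈ Subgroup.normalizer (T : Set G)

/-- A maximal `p`-subgroup of `M`. -/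
def IsSylIn (p : ℕ) (M Q : Subgroup G) : Prop :=
  Q ≤ M ∧ IsPGroup p Q ∧ ∀ R : Subgroup G, R ≤ M → IsPGroup p R → Q ≤ R → R = Q

theorem lt_inf_normalizer {H T : Subgroup G} (hT : IsPGroup p T) (h : H < T) :
    H < T ⊓ Subgroup.normalizer (H : Set G) := by
  haveI : Group.IsNilpotent T := hT.isNilpotent
  have hne : H.subgroupOf T < ⊤ := lt_top_iff_ne_top.2 fun he => h.not_ge (Subgroup.subgroupOf_eq_top.1 he)
  have h1 := Group.normalizerCondition_of_isNilpotent (H.subgroupOf T) hne
  refine lt_of_le_of_ne (le_inf h.le Subgroup.le_normalizer) fun he => h1.not_ge fun x hx => ?_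
  rw [← Subgroup.subgroupOf_normalizer_eq h.le] at hx
  have : (x : G) ∈ T ⊓ Subgroup.normalizer (H : Set G) := ⟨x.2, hx⟩
  rw [← he] at this
  exact this

theorem card_sylow_mul {K : Type*} [Group K] [Finite K] (P : Sylow p K) :
    Nat.card (Sylow p K) * Nat.card (Subgroup.normalizer ((P : Subgroup K) : Set K)) = Nat.card K := by
  rw [P.card_eq_index_normalizer]
  exact Subgroup.index_mul_card _

theorem sum_sylIn_normalizer (N : Subgroup G) :
    ∑ Q ∈ Finset.univ.filter (IsSylIn p N),
      (Nat.card ↥(Subgroup.normalizer (Q : Set G) ⊓ N) : ℤ) = Nat.card N := by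
  haveI : Fintype (Sylow p N) := Fintype.ofFinite _
  have hmem : ∀ P : Sylow p N, IsSylIn p N ((P : Subgroup N).map N.subtype) := by
    intro P
    refine ⟨Subgroup.map_subtype_le _, P.2.map _, fun R hRN hR hle => ?_⟩
    have h := P.3 (hR.comap_of_injective N.subtype N.subtype_injective) (Subgroup.map_le_iff_le_comap.1 hle)
    rw [← h]
    exact (Subgroup.map_comap_eq_self (by rwa [Subgroup.range_subtype])).symm
  have hbij : Finset.univ.filter (IsSylIn p N) =
      (Finset.univ : Finset (Sylow p N)).image (fun P : Sylow p N => (P : Subgroup N).map N.subtype) := by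
    ext Q
    simp only [Finset.mem_filter, Finset.mem_univ, true_and, Finset.mem_image]
    constructor
    · intro hQ
      refine ⟨⟨Q.subgroupOf N, hQ.2.1.comap_of_injective N.subtype N.subtype_injective, fun {R} hR hle => ?_⟩, ?_⟩
      · have h := hQ.2.2 (R.map N.subtype) (Subgroup.map_subtype_le _) (hR.map _) (by
          rw [← Subgroup.map_subgroupOf_eq_of_le hQ.1]; exact Subgroup.map_mono hle)
        rw [← h]
        exact (Subgroup.comap_map_eq_self_of_injective N.subtype_injective R).symm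
      · exact Subgroup.map_subgroupOf_eq_of_le hQ.1
    · rintro ⟨P, rfl⟩; exact hmem P
  rw [hbij, Finset.sum_image fun P _ P' _ h => Sylow.ext (Subgroup.map_injective N.subtype_injective h)]
  obtain ⟨P₀⟩ := Sylow.nonempty (p := p) (G := N)
  have hc : ∀ P : Sylow p N, Nat.card ↥(Subgroup.normalizer (((P : Subgroup N).map N.subtype : Subgroup G) : Set G) ⊓ N) =
      Nat.card (Subgroup.normalizer ((P₀ : Subgroup N) : Set N)) := by
    intro P
    have e : (Subgroup.normalizer (((P : Subgroup N).map N.subtype : Subgroup G) : Set G)).subgroupOf N =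
        Subgroup.normalizer ((P : Subgroup N) : Set N) := by
      rw [Subgroup.subgroupOf_normalizer_eq (Subgroup.map_subtype_le _), Subgroup.subgroupOf,
        Subgroup.comap_map_eq_self_of_injective N.subtype_injective]
    rw [← Subgroup.inf_subgroupOf_right, ] at e
    rw [← Nat.card_congr (Subgroup.subgroupOfEquivOfLe (inf_le_right : _ ⊓ N ≤ N)).toEquiv, e]
    refine mul_left_cancel₀ (a := Nat.card (Sylow p N)) Nat.card_pos.ne' ?_
    rw [card_sylow_mul P, card_sylow_mul P₀]
  simp only [hc]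
  rw [Finset.sum_const, Finset.card_univ, nsmul_eq_mul, ← Nat.card_eq_fintype_card, ← Nat.cast_mul,
    card_sylow_mul P₀]

theorem count (n : ℕ) : ∀ (M H : Subgroup G), H ≤ M → IsPGroup p H → Nat.card M - Nat.card H ≤ n →
    ∑ g : G, (if g ∈ M ∧ Good p M H g then (1 : ℤ) else 0) =
      ∑ Q ∈ Finset.univ.filter (fun Q => IsSylIn p M Q ∧ H ≤ Q),
        (Nat.card ↥(Subgroup.normalizer (Q : Set G) ⊓ M) : ℤ) := by
  induction n using Nat.strong_induction_on with
  | _ n ih =>
  intro M H hHM hH hn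
  by_cases hS : IsSylIn p M H
  · have h1 : Finset.univ.filter (fun Q => IsSylIn p M Q ∧ H ≤ Q) = {H} := by
      ext Q
      simp only [Finset.mem_filter, Finset.mem_univ, true_and, Finset.mem_singleton]
      exact ⟨fun h => hS.2.2 Q h.1.1 h.1.2.1 h.2, fun h => by subst h; exact ⟨hS, le_rfl⟩⟩
    rw [h1, Finset.sum_singleton, Finset.sum_boole, Nat.card_eq_fintype_card, Fintype.card_subtype]
    congr 2
    ext g
    simp only [Finset.mem_filter, Finset.mem_univ, true_and, Subgroup.mem_inf]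
    constructor
    · rintro ⟨hg, T, hT, hHT, hTM, hgT⟩
      exact ⟨hS.2.2 T hTM hT hHT ▸ hgT, hg⟩
    · exact fun h => ⟨h.2, H, hH, le_rfl, hHM, h.1⟩
  set N := Subgroup.normalizer (H : Set G) ⊓ M with hN
  have hHN : H ≤ N := le_inf Subgroup.le_normalizer hHM
  set DS := Finset.univ.filter (fun D : Subgroup G => H < D ∧ D ≤ N ∧ IsPGroup p D) with hDS
  have hmemDS : ∀ D, D ∈ DS ↔ H < D ∧ D ≤ N ∧ IsPGroup p D := fun D => by simp [hDS]
  -- intervals inside a p-subgroup
  have hsumQ : ∀ Q : Subgroup G, Q ≤ M → IsPGroup p Q → H < Q →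
      ∑ D ∈ DS.filter (· ≤ Q), coef H D = 1 := by
    intro Q hQM hQ hlt
    have heq : DS.filter (· ≤ Q) = below H (Q ⊓ Subgroup.normalizer (H : Set G)) := by
      ext D
      simp only [Finset.mem_filter, hmemDS, below, Finset.mem_univ, true_and]
      constructor
      · rintro ⟨⟨h1, h2, -⟩, h3⟩; exact ⟨h1, le_inf h3 (h2.trans inf_le_left)⟩
      · rintro ⟨h1, h2⟩
        exact ⟨⟨h1, le_inf (h2.trans inf_le_right) ((h2.trans inf_le_left).trans hQM),
          hQ.to_le (h2.trans inf_le_left)⟩, h2.trans inf_le_left⟩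
    rw [heq, sum_below (lt_inf_normalizer hQ hlt)]
  have hnotN : ∀ Q : Subgroup G, IsSylIn p N Q → H < Q := by
    intro Q hQ
    have hle : H ≤ Q := by
      have h := hQ.2.2 (Q ⊔ H) (sup_le hQ.1 hHN)
        (hQ.2.1.to_sup_of_normal_right' hH (hQ.1.trans inf_le_left)) le_sup_left
      exact h ▸ le_sup_right
    refine lt_of_le_of_ne hle fun he => hS ⟨hHM, hH, fun R hRM hR hHR => ?_⟩
    by_contra hne
    have hlt := lt_inf_normalizer hR (lt_of_le_of_ne hHR (Ne.symm hne))
    have h := hQ.2.2 (R ⊓ Subgroup.normalizer (H : Set G))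
      (le_inf inf_le_right (inf_le_left.trans hRM)) (hR.to_le inf_le_left) (he ▸ hlt.le)
    exact hlt.ne (he.trans h.symm)
  -- the inductive hypothesis for D
  have hcard : ∀ D, H < D → D ≤ M → ∀ M' : Subgroup G, M' ≤ M → D ≤ M' → Nat.card M' - Nat.card D < n := by
    intro D hD hDM M' hM' hDM'
    have h1 : Nat.card H < Nat.card D := by
      refine lt_of_le_of_ne (Subgroup.card_le_of_le hD.le) fun he => hD.ne ?_
      exact Subgroup.eq_of_le_of_card_ge hD.le he.ge
    have h2 : Nat.card M' ≤ Nat.card M := Subgroup.card_le_of_le hM'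
    have h3 : Nat.card D ≤ Nat.card M' := Subgroup.card_le_of_le hDM'
    omega
  -- pointwise identity outside the normalizer
  have hpt : ∀ g : G, g ∈ M → g ∉ N → (if Good p M H g then (1 : ℤ) else 0) =
      ∑ D ∈ DS.filter (fun D => Good p M D g), coef H D := by
    intro g hgM hgN
    by_cases hG : Good p M H g
    · rw [if_pos hG]
      let T₀ : Subgroup G := sInf {T | H ≤ T ∧ g ∈ Subgroup.normalizer (T : Set G)}
      have hmin : ∀ T : Subgroup G, H ≤ T → g ∈ Subgroup.normalizer (T : Set G) → T₀ ≤ T :=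
        fun T h1 h2 => sInf_le ⟨h1, h2⟩
      have hH0 : H ≤ T₀ := le_sInf fun T hT => hT.1
      have hg0 : g ∈ Subgroup.normalizer (T₀ : Set G) := by
        rw [Subgroup.mem_normalizer_iff]
        intro h
        simp only [T₀, Subgroup.mem_sInf]
        exact forall₂_congr fun T hT => Subgroup.mem_normalizer_iff.1 hT.2 h
      obtain ⟨T, hT, hHT, hTM, hgT⟩ := hG
      have hT0M : T₀ ≤ M := (hmin T hHT hgT).trans hTM
      have hp0 : IsPGroup p T₀ := hT.to_le (hmin T hHT hgT)
      have hne : H < T₀ := lt_of_le_of_ne hH0 fun he => hgN ⟨he ▸ hg0, hgM⟩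
      set V := T₀ ⊓ Subgroup.normalizer (H : Set G)
      have hVN : V ≤ N := le_inf inf_le_right (inf_le_left.trans hT0M)
      refine (sum_cone (lt_inf_normalizer hp0 hne) _ _ le_rfl ?_ ?_ ?_ ?_).symm
      · exact fun D hD => ((hmemDS D).1 (Finset.mem_filter.1 hD).1).1
      · intro D hD D' h1 h2
        obtain ⟨hDS', T', hT', hDT, hTM', hgT'⟩ := Finset.mem_filter.1 hD
        obtain ⟨-, hDN, hDp⟩ := (hmemDS D).1 hDS'
        exact Finset.mem_filter.2 ⟨(hmemDS D').2 ⟨h1, h2.trans hDN, hDp.to_le h2⟩, T', hT', h2.trans hDT, hTM', hgT'⟩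
      · intro D hD
        obtain ⟨hDS', T', hT', hDT, hTM', hgT'⟩ := Finset.mem_filter.1 hD
        obtain ⟨hHD, hDN, -⟩ := (hmemDS D).1 hDS'
        have hle : D ⊔ V ≤ T' := sup_le hDT (inf_le_left.trans (hmin T' (hHD.le.trans hDT) hgT'))
        exact Finset.mem_filter.2 ⟨(hmemDS _).2 ⟨lt_of_lt_of_le hHD le_sup_left, sup_le hDN hVN, hT'.to_le hle⟩,
          T', hT', hle, hTM', hgT'⟩
      · exact Finset.mem_filter.2 ⟨(hmemDS _).2 ⟨lt_inf_normalizer hp0 hne, hVN, hp0.to_le inf_le_left⟩,
          T₀, hp0, inf_le_left, hT0M, hg0⟩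
    · rw [if_neg hG, Finset.filter_false_of_mem, Finset.sum_empty]
      intro D hD ⟨T, hT, hDT, hTM, hgT⟩
      exact hG ⟨T, hT, ((hmemDS D).1 hD).1.le.trans hDT, hTM, hgT⟩
  -- the sum over the normalizer
  have hgoodN : ∀ D ∈ DS, ∀ g : G, (g ∈ N ∧ Good p M D g) ↔ (g ∈ N ∧ Good p N D g) := by
    intro D hD g
    refine and_congr_right fun hg => ⟨?_, fun ⟨T, h1, h2, h3, h4⟩ => ⟨T, h1, h2, h3.trans inf_le_right, h4⟩⟩
    rintro ⟨T, hT, hDT, -, hgT⟩
    refine ⟨T ⊓ N, hT.to_le inf_le_left, le_inf hDT ((hmemDS D).1 hD).2.1, inf_le_right, ?_⟩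
    rw [Subgroup.mem_normalizer_iff]
    intro h
    exact and_congr (Subgroup.mem_normalizer_iff.1 hgT h)
      (Subgroup.mem_normalizer_iff.1 (Subgroup.le_normalizer hg) h)
  have hmid : ∑ D ∈ DS, coef H D * ∑ g : G, (if g ∈ N ∧ Good p M D g then (1 : ℤ) else 0) = Nat.card N := by
    calc _ = ∑ D ∈ DS, coef H D * ∑ Q ∈ Finset.univ.filter (fun Q => IsSylIn p N Q ∧ D ≤ Q),
            (Nat.card ↥(Subgroup.normalizer (Q : Set G) ⊓ N) : ℤ) := by
          refine Finset.sum_congr rfl fun D hD => ?_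
          obtain ⟨h1, h2, h3⟩ := (hmemDS D).1 hD
          congr 1
          rw [← ih _ (hcard D h1 (h2.trans inf_le_right) N inf_le_right h2) N D h2 h3 le_rfl]
          exact Finset.sum_congr rfl fun g _ => if_congr (hgoodN D hD g) rfl rfl
      _ = ∑ Q ∈ Finset.univ.filter (IsSylIn p N),
            (∑ D ∈ DS.filter (· ≤ Q), coef H D) * (Nat.card ↥(Subgroup.normalizer (Q : Set G) ⊓ N) : ℤ) := by
          simp only [Finset.mul_sum, Finset.sum_mul, Finset.sum_filter]
          rw [Finset.sum_comm]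
          refine Finset.sum_congr rfl fun Q _ => ?_
          split_ifs with hQ <;> simp [hQ]
      _ = Nat.card N := by
          rw [← sum_sylIn_normalizer (p := p) N]
          refine Finset.sum_congr rfl fun Q hQ => ?_
          have hQ' := (Finset.mem_filter.1 hQ).2
          rw [hsumQ Q (hQ'.1.trans inf_le_right) hQ'.2.1 (hnotN Q hQ'), one_mul]
  have hA : ∑ D ∈ DS, coef H D * ∑ g : G, (if g ∈ M ∧ Good p M D g then (1 : ℤ) else 0) =
      ∑ g : G, (if g ∈ M ∧ Good p M H g then (1 : ℤ) else 0) := by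
    have hsplit : ∀ D, ∑ g : G, (if g ∈ M ∧ Good p M D g then (1 : ℤ) else 0) =
        ∑ g : G, (if g ∈ N ∧ Good p M D g then (1 : ℤ) else 0) +
        ∑ g : G, (if (g ∈ M ∧ g ∉ N) ∧ Good p M D g then (1 : ℤ) else 0) := by
      intro D
      rw [← Finset.sum_add_distrib]
      refine Finset.sum_congr rfl fun g _ => ?_
      have : g ∈ N → g ∈ M := fun h => h.2
      by_cases hN' : g ∈ N
      · simp only [hN', this hN', not_true_eq_false, and_false, false_and, true_and, if_false, add_zero]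
      · simp only [hN', not_false_eq_true, and_true, false_and, if_false, zero_add]
    rw [Finset.sum_congr rfl fun D _ => by rw [hsplit D, mul_add], Finset.sum_add_distrib, hmid, hsplit H]
    congr 1
    · rw [Finset.sum_boole, Nat.card_eq_fintype_card, Fintype.card_subtype]
      congr 2
      refine Finset.filter_congr fun g _ => ?_
      exact ⟨fun hg => ⟨hg, H, hH, le_rfl, hHM, hg.1⟩, fun h => h.1⟩
    · simp only [Finset.mul_sum]
      rw [Finset.sum_comm]
      refine Finset.sum_congr rfl fun g _ => ?_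
      by_cases hg : g ∈ M ∧ g ∉ N
      · have h := hpt g hg.1 hg.2
        rw [Finset.sum_filter] at h
        rw [if_congr (and_iff_right hg) rfl rfl, h]
        exact Finset.sum_congr rfl fun D _ => by
          rw [if_congr (and_iff_right hg) rfl rfl]; split_ifs <;> simp
      · simp only [hg, false_and, if_false, mul_zero, Finset.sum_const_zero]
  rw [← hA]
  calc _ = ∑ D ∈ DS, coef H D * ∑ Q ∈ Finset.univ.filter (fun Q => IsSylIn p M Q ∧ D ≤ Q),
          (Nat.card ↥(Subgroup.normalizer (Q : Set G) ⊓ M) : ℤ) := by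
        refine Finset.sum_congr rfl fun D hD => ?_
        obtain ⟨h1, h2, h3⟩ := (hmemDS D).1 hD
        rw [ih _ (hcard D h1 (h2.trans inf_le_right) M le_rfl (h2.trans inf_le_right)) M D (h2.trans inf_le_right) h3 le_rfl]
    _ = ∑ Q ∈ Finset.univ.filter (fun Q => IsSylIn p M Q ∧ H ≤ Q),
          (∑ D ∈ DS.filter (· ≤ Q), coef H D) * (Nat.card ↥(Subgroup.normalizer (Q : Set G) ⊓ M) : ℤ) := by
        simp only [Finset.mul_sum, Finset.sum_mul, Finset.sum_filter]
        rw [Finset.sum_comm]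
        refine Finset.sum_congr rfl fun Q _ => ?_
        by_cases hQ : IsSylIn p M Q ∧ H ≤ Q
        · simp [hQ]
        · rw [if_neg hQ]
          refine Finset.sum_eq_zero fun D hD => ?_
          rw [if_neg]
          · simp
          · exact fun h => hQ ⟨h.1, ((hmemDS D).1 hD).1.le.trans h.2⟩
    _ = _ := by
        refine Finset.sum_congr rfl fun Q hQ => ?_
        obtain ⟨hQs, hle⟩ := (Finset.mem_filter.1 hQ).2
        rw [hsumQ Q hQs.1 hQs.2.1 (lt_of_le_of_ne hle fun h => hS (h ▸ hQs)), one_mul]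

/-- Subnormality in `⟨H, g⟩` in terms of normalized `p`-overgroups. -/
theorem good_iff {H : Subgroup G} (hH : IsPGroup p H) (g : G) :
    (H.subgroupOf (H ⊔ Subgroup.zpowers g)).IsSubnormal ↔ Good p ⊤ H g := by
  set K := H ⊔ Subgroup.zpowers g
  constructor
  · intro h
    refine ⟨(Cfsg.pCore p K).map K.subtype, (CfsgLib.Solv.pCore_isPGroup _ _).map _, ?_, le_top, ?_⟩
    · intro x hx
      exact ⟨⟨x, le_sup_left (b := Subgroup.zpowers g) hx⟩,
        CfsgLib.Inv.subnormal_pgroup_le_pCore h (hH.comap_of_injective K.subtype K.subtype_injective) hx, rfl⟩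
    · haveI : (Cfsg.pCore p K).Normal := CfsgLib.Solv.pCore_normal _ _
      have hgK : g ∈ K := le_sup_right (a := H) (Subgroup.mem_zpowers g)
      exact (Subgroup.le_normalizer_map K.subtype) ⟨⟨g, hgK⟩, by
        rw [Subgroup.normalizer_eq_top]; trivial, rfl⟩
  · rintro ⟨T, hT, hHT, -, hgT⟩
    have hKN : K ≤ Subgroup.normalizer (T : Set G) :=
      sup_le (hHT.trans Subgroup.le_normalizer) ((Subgroup.zpowers_le).2 hgT)
    set T' := T.subgroupOf K with hT'
    haveI hn : T'.Normal := Subgroup.normal_subgroupOf_of_le_normalizer hKN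
    have hTp : IsPGroup p T' := hT.comap_of_injective K.subtype K.subtype_injective
    haveI : Group.IsNilpotent T' := hTp.isNilpotent
    exact Subgroup.IsSubnormal.trans (K := T') (Subgroup.comap_mono hHT)
      (CfsgLib.Solv.isSubnormal_of_isNilpotent _) hn.isSubnormal

theorem main {H : Subgroup G} (hH : IsPGroup p H) (P : Sylow p G) :
    Nat.card {g : G // (H.subgroupOf (H ⊔ Subgroup.zpowers g)).IsSubnormal} =
      Nat.card {Q : Sylow p G // H ≤ (Q : Subgroup G)} * Nat.card (Subgroup.normalizer ((P : Subgroup G) : Set G)) := by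
  have h := count (p := p) (Nat.card (⊤ : Subgroup G)) ⊤ H le_top hH (Nat.sub_le _ _)
  simp only [Subgroup.mem_top, true_and, inf_top_eq] at h
  rw [Finset.sum_boole] at h
  have hc : ∀ Q : Subgroup G, IsSylIn p ⊤ Q → Nat.card (Subgroup.normalizer (Q : Set G)) =
      Nat.card (Subgroup.normalizer ((P : Subgroup G) : Set G)) := by
    intro Q hQ
    let S : Sylow p G := ⟨Q, hQ.2.1, fun hR hle => hQ.2.2 _ le_top hR hle⟩
    refine mul_left_cancel₀ (a := Nat.card (Sylow p G)) Nat.card_pos.ne' ?_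
    rw [card_sylow_mul P]
    exact card_sylow_mul S
  rw [Finset.sum_congr rfl fun Q hQ => by rw [hc Q (Finset.mem_filter.1 hQ).2.1], Finset.sum_const, nsmul_eq_mul,
    ← Nat.cast_mul, Nat.cast_inj] at h
  rw [Nat.card_congr (Equiv.subtypeEquivRight fun g => good_iff hH g), Nat.card_eq_fintype_card,
    Fintype.card_subtype, h]
  congr 1
  rw [← Fintype.card_subtype, ← Nat.card_eq_fintype_card]
  exact Nat.card_congr
    { toFun := fun Q => ⟨⟨Q.1, Q.2.1.2.1, fun hR hle => Q.2.1.2.2 _ le_top hR hle⟩, Q.2.2⟩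
      invFun := fun Q => ⟨Q.1, ⟨le_top, Q.1.2, fun _ _ hR hle => Q.1.3 hR hle⟩, Q.2⟩
      left_inv := fun _ => rfl
      right_inv := fun _ => rfl }

/-- Conjugates in a Sylow subgroup against Sylow subgroups over a subgroup. -/
theorem conj_count (H : Subgroup G) (P : Sylow p G) :
    Nat.card {Q : Sylow p G // H ≤ (Q : Subgroup G)} * Nat.card (Subgroup.normalizer ((P : Subgroup G) : Set G)) =
      Nat.card {K : Subgroup G // K ≤ (P : Subgroup G) ∧ ∃ g : G, K = H.map (MulAut.conj g).toMonoidHom} *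
        Nat.card (Subgroup.normalizer (H : Set G)) := by
  haveI : Fintype (Sylow p G) := Fintype.ofFinite _
  let c : G → Subgroup G := fun g => H.map (MulAut.conj g).toMonoidHom
  let Φ : G → Sylow p G := fun g => g⁻¹ • P
  have hle : ∀ g, c g ≤ (P : Subgroup G) ↔ H ≤ (Φ g : Subgroup G) := by
    intro g
    rw [Subgroup.map_le_iff_le_comap]
    have hmem : ∀ x, x ∈ ((g⁻¹ • P : Sylow p G) : Subgroup G) ↔ g * x * g⁻¹ ∈ (P : Subgroup G) := fun x => by
      rw [Sylow.coe_subgroup_smul, Subgroup.mem_pointwise_smul_iff_inv_smul_mem]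
      simp [MulAut.smul_def, mul_assoc]
    exact ⟨fun h x hx => (hmem x).2 (h hx), fun h x hx => (hmem x).1 (h hx)⟩
  let S := Finset.univ.filter fun g : G => c g ≤ (P : Subgroup G)
  have hA : S.card = Nat.card {Q : Sylow p G // H ≤ (Q : Subgroup G)} *
      Nat.card (Subgroup.normalizer ((P : Subgroup G) : Set G)) := by
    rw [Finset.card_eq_sum_card_fiberwise (f := Φ) (t := Finset.univ.filter fun Q : Sylow p G => H ≤ (Q : Subgroup G))
      (fun g hg => by simpa [hle] using (Finset.mem_filter.1 hg).2)]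
    rw [Nat.card_eq_fintype_card (α := {Q : Sylow p G // _}), Fintype.card_subtype, ← smul_eq_mul, ← Finset.sum_const]
    refine Finset.sum_congr rfl fun Q hQ => ?_
    obtain ⟨a, ha⟩ := MulAction.exists_smul_eq G P Q
    have hfib : S.filter (fun g => Φ g = Q) = Finset.univ.filter (fun g : G => g * a ∈ Subgroup.normalizer ((P : Subgroup G) : Set G)) := by
      ext g
      simp only [S, Finset.mem_filter, Finset.mem_univ, true_and, hle]
      rw [← show (g * a) • P = P ↔ g * a ∈ Subgroup.normalizer ((P : Subgroup G) : Set G) from Sylow.smul_eq_iff_mem_normalizer, mul_smul, ha]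
      constructor
      · rintro ⟨-, h⟩; rw [← h]; simp [Φ]
      · intro h
        have : Φ g = Q := by simp only [Φ]; rw [← h, inv_smul_smul]
        exact ⟨this ▸ (Finset.mem_filter.1 hQ).2, this⟩
    rw [hfib, Nat.card_eq_fintype_card, Fintype.card_subtype]
    exact Finset.card_equiv (Equiv.mulRight a) (by simp)
  have hB : S.card = Nat.card {K : Subgroup G // K ≤ (P : Subgroup G) ∧ ∃ g : G, K = c g} *
      Nat.card (Subgroup.normalizer (H : Set G)) := by
    rw [Finset.card_eq_sum_card_fiberwise (f := c)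
      (t := Finset.univ.filter fun K : Subgroup G => K ≤ (P : Subgroup G) ∧ ∃ g, K = c g)
      (fun g hg => Finset.mem_filter.2 ⟨Finset.mem_univ _, (Finset.mem_filter.1 hg).2, g, rfl⟩)]
    rw [Nat.card_eq_fintype_card (α := {K : Subgroup G // _}), Fintype.card_subtype, ← smul_eq_mul, ← Finset.sum_const]
    refine Finset.sum_congr rfl fun K hK => ?_
    obtain ⟨hKP, a, rfl⟩ := (Finset.mem_filter.1 hK).2
    have hfib : S.filter (fun g => c g = c a) =
        Finset.univ.filter (fun g : G => a⁻¹ * g ∈ Subgroup.normalizer (H : Set G)) := by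
      ext g
      simp only [S, Finset.mem_filter, Finset.mem_univ, true_and]
      rw [Subgroup.mem_normalizer_iff]
      constructor
      · rintro ⟨-, h⟩ x
        have hx := SetLike.ext_iff.1 h (g * x * g⁻¹)
        simp only [c, Subgroup.mem_map, MulEquiv.coe_toMonoidHom, MulAut.conj_apply] at hx
        constructor
        · intro hxH
          obtain ⟨y, hy, he⟩ := hx.1 ⟨x, hxH, rfl⟩
          rwa [show a⁻¹ * g * x * (a⁻¹ * g)⁻¹ = a⁻¹ * (g * x * g⁻¹) * a by group, ← he,
            show a⁻¹ * (a * y * a⁻¹) * a = y by group]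
        · intro hxH
          obtain ⟨y, hy, he⟩ := hx.2 ⟨_, hxH, by group⟩
          rwa [show x = g⁻¹ * (g * x * g⁻¹) * g by group, ← he, show g⁻¹ * (g * y * g⁻¹) * g = y by group]
      · intro h
        have heq : c g = c a := by
          ext x
          simp only [c, Subgroup.mem_map, MulEquiv.coe_toMonoidHom, MulAut.conj_apply]
          constructor
          · rintro ⟨y, hy, rfl⟩; exact ⟨_, (h y).1 hy, by group⟩
          · rintro ⟨y, hy, rfl⟩
            refine ⟨(a⁻¹ * g)⁻¹ * y * (a⁻¹ * g), (h _).2 ?_, by group⟩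
            rwa [show a⁻¹ * g * ((a⁻¹ * g)⁻¹ * y * (a⁻¹ * g)) * (a⁻¹ * g)⁻¹ = y by group]
        exact ⟨heq ▸ hKP, heq⟩
    rw [hfib, Nat.card_eq_fintype_card, Fintype.card_subtype]
    exact Finset.card_equiv (Equiv.mulLeft a⁻¹) (by simp)
  exact hA.symm.trans hB

end CfsgLib.Fus.SubnormalizerCount
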