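import Cfsg.Agent.Fus.RealizedSystem
import Cfsg.Agent.Fus.Normal
import Cfsg.Agent.Solv.Eigen
import Cfsg.Agent.Fus.SmallCenterBasic
import Mathlib.GroupTheory.SchurZassenhaus

/-!
Supersoluble saturated systems: chains of strongly closed subgroups with cyclic steps force `S` normal and
abelian `p'`-groups of automorphisms of exponent dividing `p - 1`, and conversely.
-/

set_option autoImplicit false
set_option linter.style.haveILetI false

open Cfsg Cfsg.FusionSystem
open scoped commutatorElement Pointwise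

namespace CfsgLib.Fus.SS

universe u

variable {Ω : Type u} [Group Ω] {S : Subgroup Ω} {F : FusionSystem S} {p : ℕ}

/-- A chain of strongly closed subgroups with cyclic steps from `T` to `S`. -/
def Up (F : FusionSystem S) (T : Subgroup Ω) : Prop :=
  ∃ (m : ℕ) (c : Fin (m + 1) → Subgroup Ω), c 0 = T ∧ c (Fin.last m) = S ∧
    (∀ i : Fin (m + 1), F.StronglyClosed (c i)) ∧
    ∀ i : Fin m, c i.castSucc ≤ c i.succ ∧ ∃ x ∈ S, c i.succ = c i.castSucc ⊔ Subgroup.zpowers x

theorem up_top : Up F S :=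
  ⟨0, fun _ => S, rfl, rfl, fun _ => stronglyClosed_iff.2 ⟨le_rfl, fun _ _ hf _ hx _ => hf.mem hx⟩, fun i => i.elim0⟩

theorem up_step {T T' : Subgroup Ω} (h : Up F T') (hT : F.StronglyClosed T) (hle : T ≤ T') {x : Ω} (hx : x ∈ S)
    (he : T' = T ⊔ Subgroup.zpowers x) : Up F T := by
  obtain ⟨m, c, h0, hl, hsc, hstep⟩ := h
  refine ⟨m + 1, Fin.cons T c, rfl, ?_, fun i => ?_, fun i => ?_⟩
  · rw [← Fin.succ_last, Fin.cons_succ, hl]
  · cases i using Fin.cases with
    | zero => exact hT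
    | succ j => rw [Fin.cons_succ]; exact hsc j
  · cases i using Fin.cases with
    | zero => rw [Fin.cons_succ, Fin.castSucc_zero, Fin.cons_zero, h0]; exact ⟨hle, x, hx, he⟩
    | succ j => rw [← Fin.succ_castSucc, Fin.cons_succ, Fin.cons_succ]; exact hstep j

/-- A step of order dividing `p`. -/
def Cyc (p : ℕ) (T T' : Subgroup Ω) : Prop :=
  T ≤ T' ∧ T' ≤ Subgroup.normalizer (T : Set Ω) ∧ ∃ w ∈ T', w ^ p ∈ T ∧ ∀ y ∈ T', ∃ n : ℤ, (w ^ n)⁻¹ * y ∈ T

/-- A series of strongly closed subgroups with steps of order dividing `p` up to `T`. -/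
def Reach (F : FusionSystem S) (p : ℕ) (T : Subgroup Ω) : Prop :=
  ∃ (n : ℕ) (C : ℕ → Subgroup Ω), C 0 = ⊥ ∧ C n = T ∧ (∀ i ≤ n, F.StronglyClosed (C i)) ∧
    ∀ i < n, Cyc p (C i) (C (i + 1))

theorem reach_step {T T' : Subgroup Ω} (h : Reach F p T) (hT' : F.StronglyClosed T') (hc : Cyc p T T') :
    Reach F p T' := by
  obtain ⟨n, C, h0, hn, hsc, hcy⟩ := h
  refine ⟨n + 1, fun i => if i ≤ n then C i else T', ?_, ?_, fun i hi => ?_, fun i hi => ?_⟩
  · simp [h0]
  · simp
  · by_cases h : i ≤ n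
    · simp only [h, if_true]; exact hsc i h
    · simp only [h, if_false]; exact hT'
  · by_cases h : i + 1 ≤ n
    · simp only [h, if_true, show i ≤ n by omega]; exact hcy i h
    · obtain rfl : i = n := by omega
      simp only [h, if_false, le_refl, if_true, hn]; exact hc

theorem reach_refine [Finite S] [hp : Fact p.Prime] (hS : IsPGroup p S) {T T' : Subgroup Ω} (hT : F.StronglyClosed T)
    (hT' : F.StronglyClosed T') (hle : T ≤ T') {x : Ω} (hx : x ∈ S) (he : T' = T ⊔ Subgroup.zpowers x)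
    (hr : Reach F p T) : Reach F p T' := by
  have hn := stronglyClosed_normal hT
  let N : Subgroup ↥S := T.subgroupOf S
  haveI hNn : N.Normal := ⟨fun a ha g =>
    show (g : Ω) * a * (g : Ω)⁻¹ ∈ T from conj_mem_of_normalizer (hn g.2) ha⟩
  let π := QuotientGroup.mk' N
  obtain ⟨k, hk⟩ := IsPGroup.iff_orderOf.1 (hS.to_quotient N) (π ⟨x, hx⟩)
  have hmem : ∀ (a : ℤ), x ^ a ∈ T ↔ ((p ^ k : ℕ) : ℤ) ∣ a := fun a => by
    rw [← hk, orderOf_dvd_iff_zpow_eq_one, ← map_zpow]
    refine Iff.trans ?_ (QuotientGroup.eq_one_iff _).symm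
    rw [Subgroup.mem_subgroupOf, Subgroup.coe_zpow]
  let D : ℕ → Subgroup Ω := fun i => T ⊔ Subgroup.zpowers (x ^ p ^ i)
  have hTS := hT.1
  have hdec : ∀ i, ∀ y ∈ D i, ∃ t ∈ T, ∃ n : ℤ, y = t * x ^ (((p ^ i : ℕ) : ℤ) * n) := by
    intro i y hy
    have : y ∈ (T : Set Ω) * (Subgroup.zpowers (x ^ p ^ i) : Set Ω) := by
      rw [← Subgroup.coe_mul_of_right_le_normalizer_left T (Subgroup.zpowers (x ^ p ^ i))
        (Subgroup.zpowers_le.2 (Subgroup.pow_mem _ (hn hx) _))]
      exact hy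
    obtain ⟨t, ht, q, hq, rfl⟩ := this
    obtain ⟨n, rfl⟩ := Subgroup.mem_zpowers_iff.1 hq
    exact ⟨t, ht, n, by rw [← zpow_natCast, ← zpow_mul]⟩
  have hchar : ∀ i ≤ k, ∀ y, y ∈ D i ↔ y ∈ T' ∧ y ^ p ^ (k - i) ∈ T := by
    intro i hi y
    have hpow : ∀ t ∈ T, ∀ (a : ℤ) (j : ℕ), (t * x ^ a) ^ j ∈ T ↔ x ^ (a * (j : ℤ)) ∈ T := by
      intro t ht a j
      have h1 : ∀ j : ℕ, (t * x ^ a) ^ j * (x ^ (a * (j : ℤ)))⁻¹ ∈ T := by
        intro j
        induction j with
        | zero => simp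
        | succ j ih =>
          have hc : (t * x ^ a) ^ (j + 1) * (x ^ (a * ((j + 1 : ℕ) : ℤ)))⁻¹ =
              (t * x ^ a) ^ j * (x ^ (a * (j : ℤ)))⁻¹ * (x ^ (a * (j : ℤ)) * t * (x ^ (a * (j : ℤ)))⁻¹) := by
            rw [pow_succ, show x ^ (a * ((j + 1 : ℕ) : ℤ)) = x ^ (a * (j : ℤ)) * x ^ a by
              rw [← zpow_add]; congr 1; push_cast; ring]
            simp [mul_assoc]
          rw [hc]
          exact T.mul_mem ih (conj_mem_of_normalizer (Subgroup.zpow_mem _ (hn hx) _) ht)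
      refine ⟨fun h => ?_, fun h => ?_⟩
      · have := T.mul_mem (T.inv_mem (h1 j)) h
        simpa using this
      · have := T.mul_mem (h1 j) h
        simpa using this
    constructor
    · intro hy
      obtain ⟨t, ht, n, rfl⟩ := hdec i y hy
      refine ⟨he ▸ Subgroup.mul_mem_sup ht (Subgroup.zpow_mem_zpowers x _), (hpow t ht _ _).2 ((hmem _).2 ⟨n, ?_⟩)⟩
      rw [mul_right_comm, ← Nat.cast_mul, ← pow_add, Nat.add_sub_cancel' hi]
    · rintro ⟨hyT, hyp⟩
      have hy0 : y ∈ D 0 := by simpa [D, ← he] using hyT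
      obtain ⟨t, ht, n, rfl⟩ := hdec 0 y hy0
      rw [pow_zero, Nat.cast_one, one_mul] at hyp ⊢
      have h1 := (hmem _).1 ((hpow t ht _ _).1 hyp)
      have hsplit : ((p ^ k : ℕ) : ℤ) = ((p ^ i : ℕ) : ℤ) * ((p ^ (k - i) : ℕ) : ℤ) := by
        rw [← Nat.cast_mul, ← pow_add, Nat.add_sub_cancel' hi]
      rw [hsplit] at h1
      obtain ⟨m, rfl⟩ := Int.dvd_of_mul_dvd_mul_right (by exact_mod_cast pow_ne_zero _ hp.out.ne_zero) h1
      refine Subgroup.mul_mem_sup ht ?_
      rw [zpow_mul, zpow_natCast]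
      exact Subgroup.zpow_mem_zpowers _ m
  have hDsc : ∀ i ≤ k, F.StronglyClosed (D i) := fun i hi => stronglyClosed_iff.2
    ⟨sup_le hTS (Subgroup.zpowers_le.2 (S.pow_mem hx _)), fun P f hf y hy hyD => by
      obtain ⟨h1, h2⟩ := (hchar i hi y).1 hyD
      refine (hchar i hi _).2 ⟨(stronglyClosed_iff.1 hT').2 P f hf y hy h1, ?_⟩
      rw [← hf.map_pow hy]
      exact (stronglyClosed_iff.1 hT).2 P f hf _ (P.pow_mem hy _) h2⟩
  have hDk : D k = T := sup_eq_left.2 (Subgroup.zpowers_le.2 (by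
    rw [← zpow_natCast]; exact (hmem _).2 dvd_rfl))
  suffices h : ∀ j ≤ k, Reach F p (D (k - j)) by
    have := h k le_rfl
    rw [Nat.sub_self] at this
    have hD0 : D 0 = T' := by simp [D, he]
    rwa [hD0] at this
  intro j hj
  induction j with
  | zero => rw [Nat.sub_zero, hDk]; exact hr
  | succ j ih =>
    refine reach_step (ih (by omega)) (hDsc _ (by omega)) ?_
    obtain ⟨i, hi⟩ : ∃ i, k - (j + 1) = i := ⟨_, rfl⟩
    rw [hi, show k - j = i + 1 by omega]
    have hw : x ^ p ^ i ∈ D i := le_sup_right (a := T) (Subgroup.mem_zpowers _)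
    have hsucc : (x ^ p ^ i) ^ p ∈ D (i + 1) := by
      rw [← pow_mul, ← pow_succ]; exact le_sup_right (a := T) (Subgroup.mem_zpowers _)
    refine ⟨sup_le le_sup_left (Subgroup.zpowers_le.2 (by rw [pow_succ, pow_mul]; exact (D i).pow_mem hw p)),
      (sup_le hTS (Subgroup.zpowers_le.2 (S.pow_mem hx _))).trans (stronglyClosed_normal (hDsc (i + 1) (by omega))),
      _, hw, hsucc, fun y hy => ?_⟩
    obtain ⟨t, ht, n, rfl⟩ := hdec i y hy
    refine ⟨n, le_sup_left (b := Subgroup.zpowers (x ^ p ^ (i + 1))) ?_⟩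
    rw [zpow_mul, zpow_natCast, ← mul_assoc]
    exact conj_mem_of_normalizer' (Subgroup.zpow_mem _ (Subgroup.pow_mem _ (hn hx) _) _) ht

theorem reach_of_up [Finite S] [Fact p.Prime] (hS : IsPGroup p S) (h : Up F ⊥) : Reach F p S := by
  obtain ⟨m, c, h0, hl, hsc, hstep⟩ := h
  suffices h : ∀ i : Fin (m + 1), Reach F p (c i) by
    have h' := h (Fin.last m)
    rwa [hl] at h'
  intro i
  induction i using Fin.induction with
  | zero => exact ⟨0, fun _ => ⊥, rfl, h0.symm, fun i _ => h0 ▸ hsc 0, fun i hi => absurd hi (Nat.not_lt_zero i)⟩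
  | succ j ih =>
    obtain ⟨hle, x, hx, he⟩ := hstep j
    exact reach_refine hS (hsc _) (hsc _) hle hx he ih

/-- A step of order dividing `p` is central in a `p`-group. -/
theorem commutator_step [Finite S] [hp : Fact p.Prime] (hS : IsPGroup p S) {T T' : Subgroup Ω}
    (hT : F.StronglyClosed T) (hT' : F.StronglyClosed T') (hc : Cyc p T T') : ⁅T', S⁆ ≤ T := by
  have hn := stronglyClosed_normal hT
  have hn' := stronglyClosed_normal hT'
  let N : Subgroup ↥S := T.subgroupOf S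
  haveI hNn : N.Normal := ⟨fun a ha g =>
    show (g : Ω) * a * (g : Ω)⁻¹ ∈ T from conj_mem_of_normalizer (hn g.2) ha⟩
  let π := QuotientGroup.mk' N
  obtain ⟨-, -, w, hw, hwp, hgen⟩ := hc
  have hT'S := hT'.1
  set W := π ⟨w, hT'S hw⟩ with hW
  have hWp : W ^ p = 1 := by
    rw [hW, ← map_pow]; exact (QuotientGroup.eq_one_iff _).2 hwp
  have hY : ∀ y (hy : y ∈ T'), ∃ n : ℤ, π ⟨y, hT'S hy⟩ = W ^ n := fun y hy => by
    obtain ⟨n, hn⟩ := hgen y hy
    refine ⟨n, ?_⟩
    rw [hW, ← map_zpow, ← inv_mul_eq_one, ← map_inv, ← map_mul]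
    refine (QuotientGroup.eq_one_iff _).2 ?_
    rw [Subgroup.mem_subgroupOf]
    have := T.inv_mem hn
    simpa using this
  have hcW : ∀ g : ↥S ⧸ N, g * W = W * g := by
    intro g
    obtain ⟨s, rfl⟩ := QuotientGroup.mk'_surjective N g
    obtain ⟨n, hne⟩ := hY _ (conj_mem_of_normalizer (hn' s.2) hw)
    have h1 : π s * W * (π s)⁻¹ = W ^ n := by
      rw [hW, ← map_mul, ← map_inv, ← map_mul]; exact hne
    have h2 : ∀ j : ℕ, π s ^ j * W * (π s ^ j)⁻¹ = W ^ (n ^ j) := by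
      intro j
      induction j with
      | zero => simp
      | succ j ih =>
        rw [pow_succ', mul_inv_rev, show π s * π s ^ j * W * ((π s ^ j)⁻¹ * (π s)⁻¹) =
          π s * (π s ^ j * W * (π s ^ j)⁻¹) * (π s)⁻¹ by simp [mul_assoc], ih, ← conj_zpow, h1, ← zpow_mul,
          pow_succ']
    obtain ⟨k, hk⟩ := hS s
    have h3 := h2 (p ^ k)
    rw [← map_pow, hk, map_one, one_mul, inv_one, mul_one] at h3
    have h4 : W ^ (n - 1) = 1 := by
      rcases (Nat.dvd_prime hp.out).1 (orderOf_dvd_of_pow_eq_one hWp) with h | h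
      · rw [orderOf_eq_one_iff.1 h, one_zpow]
      · refine orderOf_dvd_iff_zpow_eq_one.1 ?_
        rw [h, ← ZMod.intCast_eq_intCast_iff_dvd_sub, Int.cast_one]
        have h5 : ((n ^ p ^ k : ℤ) : ZMod p) = ((1 : ℤ) : ZMod p) := by
          rw [ZMod.intCast_eq_intCast_iff_dvd_sub]
          have h6 := orderOf_dvd_iff_zpow_eq_one.2 (show W ^ (1 - n ^ p ^ k) = 1 by
            rw [zpow_sub, zpow_one, ← h3, mul_inv_cancel])
          rwa [h] at h6
        rw [Int.cast_pow, ZMod.pow_card_pow, Int.cast_one] at h5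
        exact h5.symm
    have h6 : W ^ n = W := by
      rw [zpow_sub, zpow_one, mul_inv_eq_one] at h4; exact h4
    rw [h6] at h1
    exact mul_inv_eq_iff_eq_mul.1 h1
  refine Subgroup.commutator_le.2 fun y hy s hs => ?_
  obtain ⟨n, hyW⟩ := hY y hy
  have : ⁅(⟨y, hT'S hy⟩ : ↥S), ⟨s, hs⟩⁆ ∈ N := by
    rw [← QuotientGroup.ker_mk' N, MonoidHom.mem_ker, map_commutatorElement, commutatorElement_eq_one_iff_mul_comm]
    rw [show (QuotientGroup.mk' N) ⟨y, hT'S hy⟩ = W ^ n from hyW]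
    exact (Commute.zpow_right (hcW (π ⟨s, hs⟩)) n).symm
  exact this

theorem normal_of_reach [Finite S] [Fact p.Prime] (hS : IsPGroup p S) (hF : F.IsSaturated p) (h : Reach F p S) :
    F.IsNormal S := by
  obtain ⟨n, C, h0, hn, hsc, hcy⟩ := h
  exact normal_of_series hS hF (stronglyClosed_iff.2 ⟨le_rfl, fun _ _ hf _ hx _ => hf.mem hx⟩) n C h0 hn
    (fun i hi => (hsc i hi).1) (fun i hi => commutator_step hS (hsc i hi.le) (hsc _ hi) (hcy i hi))
    fun i hi => stronglyClosed_weaklyClosed (hsc i hi.le)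

/-- Automorphisms of order prime to `p` preserving a series with steps of order dividing `p`. -/
theorem cond_of_series [Finite S] [hp : Fact p.Prime] (hS : IsPGroup p S) (H : Subgroup (MulAut ↥S))
    (hH : (Nat.card ↥H).Coprime p) (n : ℕ) (C : ℕ → Subgroup Ω) (h0 : C 0 = ⊥) (hn : C n = S)
    (hle : ∀ i ≤ n, C i ≤ S) (hinv : ∀ h ∈ H, ∀ i ≤ n, ∀ y ∈ C i, autFun h y ∈ C i)
    (hcy : ∀ i < n, Cyc p (C i) (C (i + 1))) :
    IsMulCommutative ↥H ∧ ∀ h ∈ H, h ^ (p - 1) = 1 := by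
  classical
  haveI : Finite (MulAut ↥S) := inferInstanceAs (Finite (↥S ≃* ↥S))
  have htriv : ∀ γ ∈ H, (∀ i < n, ∀ y ∈ C (i + 1), y⁻¹ * autFun γ y ∈ C i) → γ = 1 := by
    intro γ hγ hmov
    have hfix : ∀ i ≤ n, ∀ y ∈ C i, autFun γ y = y := by
      intro i
      induction i with
      | zero =>
        intro _ y hy
        rw [h0, Subgroup.mem_bot] at hy
        rw [hy, autFun_of_mem γ S.one_mem]
        exact congrArg Subtype.val (map_one γ)
      | succ i ih =>
        intro hi y hy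
        have hyS := hle _ hi hy
        let d := y⁻¹ * autFun γ y
        have hd : d ∈ C i := hmov i (by omega) y hy
        have hpow : ∀ j : ℕ, autFun (γ ^ j) y = y * d ^ j := by
          intro j
          induction j with
          | zero => rw [pow_zero, pow_zero, mul_one, autFun_one hyS]
          | succ j ihj =>
            rw [pow_succ', autFun_mul _ _ hyS, ihj, autFun_map_mul γ hyS (hle i (by omega) ((C i).pow_mem hd j)),
              ih (by omega) _ ((C i).pow_mem hd j), pow_succ', ← mul_assoc y, mul_inv_cancel_left]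
        have h1 := hpow (orderOf γ)
        rw [pow_orderOf_eq_one, autFun_one hyS, left_eq_mul] at h1
        obtain ⟨k, hk⟩ := hS ⟨d, hle i (by omega) hd⟩
        have hd1 : d = 1 := orderOf_eq_one_iff.1 (Nat.eq_one_of_dvd_coprimes
          (Nat.Coprime.pow_right k (Nat.Coprime.coprime_dvd_left (Subgroup.orderOf_dvd_natCard _ hγ) hH))
          (orderOf_dvd_of_pow_eq_one h1) (orderOf_dvd_of_pow_eq_one (congrArg Subtype.val hk)))
        rw [← mul_inv_cancel_left y (autFun γ y), show y⁻¹ * autFun γ y = 1 from hd1, mul_one]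
    refine aut_ext fun y hy => ?_
    rw [hfix n le_rfl y (hn.ge hy), autFun_one hy]
  have hstep : ∀ i < n, ∀ h ∈ H, ∀ k ∈ H, ∀ y ∈ C (i + 1),
      y⁻¹ * autFun ((k * h)⁻¹ * (h * k)) y ∈ C i ∧ y⁻¹ * autFun (h ^ (p - 1)) y ∈ C i := by
    intro i hi h hh k hk
    obtain ⟨hT, hnor, w, hw, hwp, hgen⟩ := hcy i hi
    set T := C i
    set T' := C (i + 1)
    haveI hNn : (T.subgroupOf T').Normal := ⟨fun a ha g =>
      show (g : Ω) * a * (g : Ω)⁻¹ ∈ T from conj_mem_of_normalizer (hnor g.2) ha⟩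
    let π := QuotientGroup.mk' (T.subgroupOf T')
    set W := π ⟨w, hw⟩ with hW
    have hWp : W ^ p = 1 := by
      rw [hW, ← map_pow]; exact (QuotientGroup.eq_one_iff _).2 hwp
    have hY : ∀ y : ↥T', ∃ a : ℤ, π y = W ^ a := fun y => by
      obtain ⟨a, ha⟩ := hgen y y.2
      refine ⟨a, ?_⟩
      rw [hW, ← map_zpow, ← inv_mul_eq_one, ← map_inv, ← map_mul]
      refine (QuotientGroup.eq_one_iff _).2 ?_
      rw [Subgroup.mem_subgroupOf]
      have := T.inv_mem ha
      simpa using this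
    let res : MulAut ↥S → ↥T' → ↥T' := fun g y =>
      if hg : g ∈ H then ⟨autFun g y, hinv g hg (i + 1) hi y y.2⟩ else y
    have hres : ∀ g ∈ H, ∀ y : ↥T', ((res g y : ↥T') : Ω) = autFun g y := fun g hg y => by
      simp only [res, dif_pos hg]
    have hexp : ∀ g ∈ H, ∃ m : ℤ, ∀ y : ↥T', π (res g y) = π y ^ m := by
      intro g hg
      obtain ⟨m, hm⟩ := hY (res g ⟨w, hw⟩)
      have hres' : ∀ y z : ↥T', π (res g (y * z)) = π (res g y) * π (res g z) := fun y z => by
        rw [← map_mul]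
        refine congrArg π (Subtype.ext ?_)
        rw [Subgroup.coe_mul, hres g hg, hres g hg, hres g hg, Subgroup.coe_mul,
          autFun_map_mul g (hle _ hi y.2) (hle _ hi z.2)]
      let φ : ↥T' →* ↥T' ⧸ T.subgroupOf T' := MonoidHom.mk' (fun y => π (res g y)) hres'
      refine ⟨m, fun y => ?_⟩
      obtain ⟨a, ha⟩ := hY y
      have ht : (⟨w, hw⟩ ^ a : ↥T')⁻¹ * y ∈ T.subgroupOf T' := by
        rw [← QuotientGroup.ker_mk' (T.subgroupOf T'), MonoidHom.mem_ker, map_mul, map_inv, map_zpow]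
        rw [show (QuotientGroup.mk' (T.subgroupOf T')) y = W ^ a from ha]
        exact inv_mul_cancel _
      have h1 : φ ((⟨w, hw⟩ ^ a : ↥T')⁻¹ * y) = 1 := (QuotientGroup.eq_one_iff _).2 (by
        rw [Subgroup.mem_subgroupOf, hres g hg]
        exact hinv g hg i hi.le _ ht)
      rw [map_mul, map_inv, map_zpow, inv_mul_eq_one] at h1
      show φ y = _
      rw [← h1, show φ ⟨w, hw⟩ = W ^ m from hm, ha, ← zpow_mul, ← zpow_mul, mul_comm]
    have hmulres : ∀ g ∈ H, ∀ g' ∈ H, ∀ y : ↥T', res (g * g') y = res g (res g' y) := fun g hg g' hg' y =>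
      Subtype.ext (by rw [hres _ (mul_mem hg hg'), hres g hg, hres g' hg', autFun_mul _ _ (hle _ hi y.2)])
    intro y hy
    obtain ⟨m, hm⟩ := hexp h hh
    obtain ⟨l, hl⟩ := hexp k hk
    have hgoal : ∀ g ∈ H, π (res g ⟨y, hy⟩) = π ⟨y, hy⟩ → y⁻¹ * autFun g y ∈ C i := fun g hg he => by
      have h1 : (⟨y, hy⟩ : ↥T')⁻¹ * res g ⟨y, hy⟩ ∈ T.subgroupOf T' := by
        rw [← QuotientGroup.ker_mk' (T.subgroupOf T'), MonoidHom.mem_ker, map_mul, map_inv]
        rw [show (QuotientGroup.mk' (T.subgroupOf T')) (res g ⟨y, hy⟩) = π ⟨y, hy⟩ from he]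
        exact inv_mul_cancel _
      rw [Subgroup.mem_subgroupOf, Subgroup.coe_mul, Subgroup.coe_inv, hres g hg] at h1
      exact h1
    refine ⟨hgoal _ (mul_mem (inv_mem (mul_mem hk hh)) (mul_mem hh hk)) ?_, hgoal _ (pow_mem hh _) ?_⟩
    · obtain ⟨r, hr⟩ := hexp _ (inv_mem (mul_mem hk hh))
      have hid : ∀ z, π (res ((k * h)⁻¹) (res (k * h) z)) = π z := fun z => by
        refine congrArg π (Subtype.ext ?_)
        rw [hres _ (inv_mem (mul_mem hk hh)), hres _ (mul_mem hk hh), autFun_inv_apply' (k * h) (hle _ hi z.2)]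
      have hz := hid ⟨y, hy⟩
      rw [hr, hmulres k hk h hh, hl, hm] at hz
      rw [hmulres _ (inv_mem (mul_mem hk hh)) _ (mul_mem hh hk), hr, hmulres h hh k hk, hm, hl]
      rw [← zpow_mul (π ⟨y, hy⟩) m l] at hz
      rw [← zpow_mul (π ⟨y, hy⟩) l m, mul_comm l m]
      exact hz
    · have hpows : ∀ j : ℕ, π (res (h ^ j) ⟨y, hy⟩) = π ⟨y, hy⟩ ^ (m ^ j) := by
        intro j
        induction j with
        | zero =>
          rw [pow_zero, pow_zero, zpow_one]
          exact congrArg π (Subtype.ext (by rw [hres _ (one_mem H), autFun_one (hle _ hi hy)]))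
        | succ j ihj => rw [pow_succ', hmulres h hh _ (pow_mem hh j), hm, ihj, ← zpow_mul, ← pow_succ]
      rw [hpows]
      obtain ⟨a, ha⟩ := hY ⟨y, hy⟩
      rw [ha]
      by_cases hW1 : W = 1
      · rw [hW1, one_zpow, one_zpow]
      have hord : orderOf W = p := orderOf_eq_prime hWp hW1
      rw [← zpow_mul]
      rw [← sub_add_cancel (a * m ^ (p - 1)) a, zpow_add, orderOf_dvd_iff_zpow_eq_one.1, one_mul]
      rw [hord, ← ZMod.intCast_eq_intCast_iff_dvd_sub, Int.cast_mul, Int.cast_pow]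
      by_cases hm0 : (m : ZMod p) = 0
      · exfalso
        refine hW1 ?_
        obtain ⟨r, hr⟩ := hexp _ (inv_mem hh)
        have h1 : π (res h⁻¹ (res h ⟨w, hw⟩)) = W := by
          refine congrArg π (Subtype.ext ?_)
          rw [hres _ (inv_mem hh), hres h hh, autFun_inv_apply' h (hle _ hi hw)]
        have hWm : W ^ m = 1 := orderOf_dvd_iff_zpow_eq_one.1 (by
          rw [hord]; exact (ZMod.intCast_zmod_eq_zero_iff_dvd _ _).1 hm0)
        rw [hr, hm, ← hW, hWm, one_zpow] at h1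
        exact h1.symm
      · rw [ZMod.pow_card_sub_one_eq_one hm0, mul_one]
  refine ⟨⟨⟨fun a b => Subtype.ext ?_⟩⟩, fun h hh => htriv _ (pow_mem hh _) fun i hi y hy =>
    (hstep i hi h hh h hh y hy).2⟩
  exact (inv_mul_eq_one.1 (htriv _ (mul_mem (inv_mem (mul_mem b.2 a.2)) (mul_mem a.2 b.2)) fun i hi y hy =>
    (hstep i hi a a.2 b b.2 y hy).1)).symm

/-- A common eigenvector of commuting endomorphisms of order dividing `p - 1`. -/
theorem common_line {V : Type*} [CommGroup V] [Finite V] [Nontrivial V] [Fact p.Prime] (he : ∀ x : V, x ^ p = 1)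
    (L : Set (V →* V)) (hc : ∀ f ∈ L, ∀ g ∈ L, ∀ x, f (g x) = g (f x)) (hp1 : ∀ f ∈ L, ∀ x, f^[p - 1] x = x) :
    ∃ v : V, v ≠ 1 ∧ ∀ f ∈ L, f v ∈ Subgroup.zpowers v := by
  classical
  suffices key : ∀ (n : ℕ) (W : Subgroup V), Nat.card ↥W = n → W ≠ ⊥ → (∀ f ∈ L, ∀ x ∈ W, f x ∈ W) →
      ∃ v : V, v ≠ 1 ∧ ∀ f ∈ L, f v ∈ Subgroup.zpowers v from
    key _ ⊤ rfl top_ne_bot fun _ _ _ _ => Subgroup.mem_top _
  intro n
  induction n using Nat.strong_induction_on with
  | _ n ih =>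
    intro W hcard hW hinv
    by_cases hall : ∀ f ∈ L, ∃ c : ℕ, ∀ x ∈ W, f x = x ^ c
    · obtain ⟨⟨v, hvW⟩, hv⟩ := Subgroup.ne_bot_iff_exists_ne_one.1 hW
      refine ⟨v, fun h => hv (Subtype.ext h), fun f hf => ?_⟩
      obtain ⟨c, hcf⟩ := hall f hf
      rw [hcf v hvW]
      exact Subgroup.pow_mem _ (Subgroup.mem_zpowers v) c
    push Not at hall
    obtain ⟨f, hf, hne⟩ := hall
    haveI : Nontrivial ↥W := (Subgroup.nontrivial_iff_ne_bot W).2 hW
    let f' : ↥W →* ↥W := (f.comp W.subtype).codRestrict W fun x => hinv f hf x x.2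
    have hit : ∀ j (x : ↥W), ((f'^[j] x : ↥W) : V) = f^[j] x := by
      intro j
      induction j with
      | zero => intro x; rfl
      | succ j ihj => intro x; rw [Function.iterate_succ_apply', Function.iterate_succ_apply', ← ihj]; rfl
    obtain ⟨⟨w, hwW⟩, hw1, c, hwc⟩ := CfsgLib.Solv.exists_eigen (N := ↥W)
      (fun x => Subtype.ext (he (x : V))) f' fun x => Subtype.ext ((hit _ x).trans (hp1 f hf x))
    let W' : Subgroup V :=
      { carrier := {x | x ∈ W ∧ f x = x ^ c}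
        one_mem' := ⟨one_mem _, by rw [map_one, one_pow]⟩
        mul_mem' := fun {a b} ha hb => ⟨mul_mem ha.1 hb.1, by rw [map_mul, ha.2, hb.2, mul_pow]⟩
        inv_mem' := fun {a} ha => ⟨inv_mem ha.1, by rw [map_inv, ha.2, inv_pow]⟩ }
    have hwW' : w ∈ W' := ⟨hwW, congrArg Subtype.val hwc⟩
    have hlt : W' < W := lt_of_le_not_ge (fun x hx => hx.1) fun hge => by
      obtain ⟨x, hx, hxc⟩ := hne c
      exact hxc (hge hx).2
    refine ih _ ?_ W' rfl (fun hb => hw1 (Subtype.ext (Subgroup.mem_bot.1 (hb ▸ hwW')))) fun g hg x hx =>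
      ⟨hinv g hg x hx.1, by rw [hc f hf g hg, hx.2, map_pow]⟩
    rw [← hcard]
    exact lt_of_le_of_ne (Subgroup.card_le_of_le hlt.le) fun he' =>
      hlt.ne (Subgroup.eq_of_le_of_card_ge hlt.le he'.ge)

/-- When `S` is normal, invariance under `Aut_F(S)` gives strong closure. -/
theorem stronglyClosed_of_inv [Finite S] (hN : F.IsNormal S) {T : Subgroup Ω} (hT : T ≤ S)
    (h : ∀ α ∈ F.autGroup S, ∀ y ∈ T, autFun α y ∈ T) : F.StronglyClosed T :=
  stronglyClosed_iff.2 ⟨hT, fun P f hf y hy hyT => by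
    obtain ⟨g, hg, hge, hgS⟩ := (isNormal_iff.1 hN).2 P f hf
    obtain ⟨α, hα, hαe⟩ := exists_aut (hg.mono le_sup_right) hgS
    rw [← hge y hy, ← hαe y (hT hyT)]
    exact h α hα y hyT⟩

theorem up_of_cond [Finite S] [hp : Fact p.Prime] (hS : IsPGroup p S) (hF : F.IsSaturated p) (hN : F.IsNormal S)
    (hcond : ∀ H : Subgroup (MulAut ↥S), (Nat.card ↥H).Coprime p →
      IsMulCommutative ↥H ∧ ∀ h ∈ H, h ^ (p - 1) = 1) : Up F ⊥ := by
  haveI : Finite (MulAut ↥S) := inferInstanceAs (Finite (↥S ≃* ↥S))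
  let A := F.autGroup S
  haveI hInn : ((Inn S).subgroupOf A).Normal := ⟨fun a ha g => by
    rw [Subgroup.mem_subgroupOf, inn_eq_autInducedBy] at ha ⊢
    obtain ⟨s, hs, hse⟩ := mem_autInducedBy.1 ha
    have hgs := autFun_mem (g : MulAut ↥S) hs
    refine mem_autInducedBy.2 ⟨_, hgs, fun x hx => ?_⟩
    rw [Subgroup.coe_mul, Subgroup.coe_mul, Subgroup.coe_inv, autFun_conj _ _ hx, hse _ (autFun_mem _ hx),
      autFun_map_mul _ (S.mul_mem hs (autFun_mem _ hx)) (S.inv_mem hs), autFun_map_mul _ hs (autFun_mem _ hx),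
      autFun_map_inv _ hs, autFun_inv_apply _ hx]⟩
  have hidx : ((Inn S).subgroupOf A).index.Coprime p := by
    have := ((fa_iff hS).1 (fullyNormalized_spec hS hF (fullyNormalized_top (F := F))).1).2
    rw [inn_eq_autInducedBy]
    exact ((hp.out.coprime_iff_not_dvd).2 this).symm
  have hle : Inn S ≤ A := by rw [inn_eq_autInducedBy]; exact autInducedBy_le_autGroup le_rfl
  obtain ⟨K, hK⟩ := Subgroup.exists_right_complement'_of_coprime (N := (Inn S).subgroupOf A) (by
    obtain ⟨e, he⟩ := IsPGroup.iff_card.1 ((inn_isPGroup hS le_rfl (S := S)).of_equiv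
      (Subgroup.subgroupOfEquivOfLe hle).symm)
    rw [he]
    exact Nat.Coprime.pow_left e hidx.symm)
  let H : Subgroup (MulAut ↥S) := K.map A.subtype
  have hHc : (Nat.card ↥H).Coprime p := by
    rw [Subgroup.card_map_of_injective A.subtype_injective]
    have h1 := hK.card_mul
    rw [← ((Inn S).subgroupOf A).card_mul_index] at h1
    rwa [Nat.eq_of_mul_eq_mul_left Nat.card_pos h1]
  obtain ⟨hHab, hHexp⟩ := hcond H hHc
  have hdec : ∀ α ∈ A, ∃ s ∈ S, ∃ h ∈ H, ∀ x ∈ S, autFun α x = s * autFun h x * s⁻¹ := by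
    intro α hα
    obtain ⟨⟨⟨i, hi⟩, ⟨k, hk⟩⟩, hik⟩ := hK.2 ⟨α, hα⟩
    rw [SetLike.mem_coe, Subgroup.mem_subgroupOf, inn_eq_autInducedBy] at hi
    obtain ⟨s, hs, hse⟩ := mem_autInducedBy.1 hi
    refine ⟨s, hs, k, ⟨k, hk, rfl⟩, fun x hx => ?_⟩
    have : α = (i : MulAut ↥S) * (k : MulAut ↥S) := (congrArg Subtype.val hik).symm
    rw [this, autFun_mul _ _ hx, hse _ (autFun_mem _ hx)]
  suffices key : ∀ (n : ℕ) (T : Subgroup Ω), T ≤ S → (∀ α ∈ A, ∀ y ∈ T, autFun α y ∈ T) →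
      Nat.card S - Nat.card ↥T = n → Up F T from key _ ⊥ bot_le (fun α _ y hy => by
    rw [Subgroup.mem_bot] at hy ⊢
    rw [hy, autFun_of_mem α S.one_mem]
    exact congrArg Subtype.val (map_one α)) rfl
  intro n
  induction n using Nat.strong_induction_on with
  | _ n ih =>
    intro T hTS hinv hcard
    by_cases hTeq : T = S
    · rw [hTeq]; exact up_top
    have hTsc := stronglyClosed_of_inv hN hTS hinv
    have hnT := stronglyClosed_normal hTsc
    let N : Subgroup ↥S := T.subgroupOf S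
    haveI hNn : N.Normal := ⟨fun a ha g =>
      show (g : Ω) * a * (g : Ω)⁻¹ ∈ T from conj_mem_of_normalizer (hnT g.2) ha⟩
    let π := QuotientGroup.mk' N
    haveI : Nontrivial (↥S ⧸ N) := by
      refine Finite.one_lt_card_iff_nontrivial.1 ?_
      have hne : N.index ≠ 1 := fun h1 => hTeq (le_antisymm hTS (Subgroup.relIndex_eq_one.1 h1))
      have := Subgroup.index_ne_zero_of_finite (H := N)
      show 1 < N.index
      omega
    have hQp := hS.to_quotient N
    let V : Subgroup (↥S ⧸ N) :=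
      { carrier := {q | q ∈ Subgroup.center _ ∧ q ^ p = 1}
        one_mem' := ⟨one_mem _, one_pow p⟩
        mul_mem' := fun {a b} ha hb => ⟨mul_mem ha.1 hb.1, by
          rw [Commute.mul_pow (Subgroup.mem_center_iff.1 hb.1 a), ha.2, hb.2, one_mul]⟩
        inv_mem' := fun {a} ha => ⟨inv_mem ha.1, by rw [inv_pow, ha.2, inv_one]⟩ }
    haveI : Nontrivial ↥V := by
      haveI := hQp.center_nontrivial
      obtain ⟨q, hq⟩ := exists_prime_orderOf_dvd_card' (G := ↥(Subgroup.center (↥S ⧸ N))) p (by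
        obtain ⟨e, he⟩ := IsPGroup.iff_card.1 (hQp.to_subgroup (Subgroup.center (↥S ⧸ N)))
        rw [he]
        refine dvd_pow_self p fun h0 => ?_
        rw [h0, pow_zero] at he
        exact absurd he (Finite.one_lt_card_iff_nontrivial.2 inferInstance).ne')
      refine ⟨⟨⟨q, q.2, ?_⟩, 1, fun h => ?_⟩⟩
      · rw [← Subgroup.coe_pow, ← hq, pow_orderOf_eq_one, Subgroup.coe_one]
      · rw [show q = 1 from Subtype.ext (congrArg (fun t : ↥V => (t : ↥S ⧸ N)) h), orderOf_one] at hq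
        exact hp.out.one_lt.ne hq
    letI : CommGroup ↥V := commOf fun a ha b hb => Subgroup.mem_center_iff.1 hb.1 a
    let qa : ↥H → (↥S ⧸ N →* ↥S ⧸ N) := fun h => QuotientGroup.map N N (h : MulAut ↥S).toMonoidHom (fun y hy => by
      obtain ⟨a, -, he⟩ := h.2
      show (((h : MulAut ↥S) y : ↥S) : Ω) ∈ T
      rw [← autFun_apply, ← he]
      exact hinv _ a.2 y hy)
    have hqa : ∀ h s, qa h (π s) = π ((h : MulAut ↥S) s) := fun h s => rfl
    have hqV : ∀ h, ∀ q ∈ V, qa h q ∈ V := by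
      rintro h q ⟨hqc, hqp⟩
      refine ⟨Subgroup.mem_center_iff.2 fun g => ?_, by rw [← map_pow, hqp, map_one]⟩
      obtain ⟨s, rfl⟩ := QuotientGroup.mk'_surjective N g
      obtain ⟨t, rfl⟩ := (h : MulAut ↥S).surjective s
      rw [← hqa, ← map_mul, ← map_mul, Subgroup.mem_center_iff.1 hqc]
    let fa : ↥H → (↥V →* ↥V) := fun h => ((qa h).comp V.subtype).codRestrict V fun x => hqV h x x.2
    have hfa : ∀ h (x : ↥V), ((fa h x : ↥V) : ↥S ⧸ N) = qa h x := fun h x => rfl
    have hfam : ∀ h k x, fa (h * k) x = fa h (fa k x) := fun h k x => by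
      obtain ⟨s, hs⟩ := QuotientGroup.mk'_surjective N (x : ↥S ⧸ N)
      refine Subtype.ext ?_
      rw [hfa, hfa, hfa, ← hs]
      rfl
    obtain ⟨v, hv1, hv⟩ := common_line (p := p) (fun x : ↥V => Subtype.ext x.2.2) (Set.range fa)
      (by
        rintro _ ⟨h, rfl⟩ _ ⟨k, rfl⟩ x
        rw [← hfam, ← hfam, show h * k = k * h from hHab.is_comm.comm h k])
      (by
        rintro _ ⟨h, rfl⟩ x
        have hit : ∀ j, (fa h)^[j] x = fa (h ^ j) x := by
          intro j
          induction j with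
          | zero =>
            obtain ⟨s, hs⟩ := QuotientGroup.mk'_surjective N (x : ↥S ⧸ N)
            refine Subtype.ext ?_
            rw [pow_zero, hfa, Function.iterate_zero_apply, ← hs]
            rfl
          | succ j ihj => rw [Function.iterate_succ_apply', ihj, pow_succ', hfam]
        rw [hit, show h ^ (p - 1) = 1 from Subtype.ext (hHexp h h.2)]
        exact ((hit 0).trans (by rw [pow_zero])).symm)
    obtain ⟨x, hxv⟩ := QuotientGroup.mk'_surjective N (v : ↥S ⧸ N)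
    let T' := T ⊔ Subgroup.zpowers (x : Ω)
    have hT'S : T' ≤ S := sup_le hTS (Subgroup.zpowers_le.2 x.2)
    have hmemT' : ∀ (s : ↥S) (j : ℤ), π s = (v : ↥S ⧸ N) ^ j → (s : Ω) ∈ T' := fun s j hsj => by
      have h1 : (x ^ j)⁻¹ * s ∈ N := by
        rw [← QuotientGroup.ker_mk' N, MonoidHom.mem_ker, map_mul, map_inv, map_zpow]
        rw [hxv, ← hsj]
        exact inv_mul_cancel _
      have h2 : ((x : Ω) ^ j) * ((x : Ω) ^ j)⁻¹ * s ∈ T' := by
        rw [mul_assoc]
        exact T'.mul_mem (le_sup_right (a := T) (Subgroup.zpow_mem_zpowers _ j))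
          (le_sup_left (b := Subgroup.zpowers (x : Ω)) (by simpa using Subgroup.mem_subgroupOf.1 h1))
      simpa using h2
    have hinv' : ∀ α ∈ A, ∀ y ∈ T', autFun α y ∈ T' := by
      intro α hα
      let P : Subgroup Ω :=
        { carrier := {y | y ∈ S ∧ autFun α y ∈ T'}
          one_mem' := ⟨S.one_mem, by
            rw [autFun_of_mem α S.one_mem]
            exact (congrArg Subtype.val (map_one α) : _) ▸ T'.one_mem⟩
          mul_mem' := fun {a b} ha hb => ⟨S.mul_mem ha.1 hb.1, by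
            rw [autFun_map_mul α ha.1 hb.1]; exact T'.mul_mem ha.2 hb.2⟩
          inv_mem' := fun {a} ha => ⟨S.inv_mem ha.1, by rw [autFun_map_inv α ha.1]; exact T'.inv_mem ha.2⟩ }
      suffices hP : T' ≤ P from fun y hy => (hP hy).2
      refine sup_le (fun y hy => ⟨hTS hy, le_sup_left (b := Subgroup.zpowers (x : Ω)) (hinv α hα y hy)⟩)
        (Subgroup.zpowers_le.2 ⟨x.2, ?_⟩)
      obtain ⟨s, hs, h, hh, he⟩ := hdec α hα
      rw [he x x.2, autFun_apply]
      obtain ⟨j, hj⟩ := Subgroup.mem_zpowers_iff.1 (hv _ ⟨⟨h, hh⟩, rfl⟩)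
      refine hmemT' (⟨s, hs⟩ * h x * ⟨s, hs⟩⁻¹) j ?_
      have h1 : π (h x) = (v : ↥S ⧸ N) ^ j := by
        rw [← Subgroup.coe_zpow, hj, hfa, ← hxv]
        rfl
      rw [map_mul, map_mul, map_inv, h1, Subgroup.mem_center_iff.1 ((Subgroup.center _).zpow_mem v.2.1 j),
        mul_inv_cancel_right]
    have hlt : T < T' := lt_of_le_not_ge le_sup_left fun hle' => hv1 (Subtype.ext (by
      rw [← hxv]
      exact (QuotientGroup.eq_one_iff _).2 (hle' (le_sup_right (a := T) (Subgroup.mem_zpowers _)))))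
    refine up_step (ih _ ?_ T' hT'S hinv' rfl) hTsc le_sup_left x.2 rfl
    have := card_lt_of_lt hT'S hlt
    have := Subgroup.card_le_of_le hT'S
    omega

/-- The criterion: `S` is resistant and its `p'`-automorphism groups are abelian of exponent dividing `p - 1`. -/
theorem criterion [Finite S] [Fact p.Prime] (hS : IsPGroup p S) :
    (∀ F : FusionSystem S, F.IsSaturated p → Up F ⊥) ↔
      (∀ F : FusionSystem S, F.IsSaturated p → F.IsNormal S) ∧
        ∀ H : Subgroup (MulAut ↥S), (Nat.card ↥H).Coprime p → IsMulCommutative ↥H ∧ ∀ h ∈ H, h ^ (p - 1) = 1 := by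
  constructor
  · intro h
    refine ⟨fun F hF => normal_of_reach hS hF (reach_of_up hS (h F hF)), fun H hH => ?_⟩
    obtain ⟨F, hF, hHF⟩ := exists_saturated_aut hS H hH
    obtain ⟨n, C, h0, hn, hsc, hcy⟩ := reach_of_up hS (h F hF)
    exact cond_of_series hS H hH n C h0 hn (fun i hi => (hsc i hi).1)
      (fun g hg i hi y hy => autFun_mem_of_stronglyClosed (hsc i hi) le_rfl (hHF hg) ((hsc i hi).1 hy) hy) hcy
  · rintro ⟨h1, h2⟩ F hF
    exact up_of_cond hS hF (h1 F hF) h2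

end CfsgLib.Fus.SS
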