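import Cfsg.Agent.Fus.Supersoluble
import Mathlib.GroupTheory.FiniteAbelian.Basic

/-!
Supersolubility over abelian `p`-groups: distinct invariants give a chain of characteristic subgroups with cyclic
steps; a repeated invariant gives a non-abelian or too large `p'`-group of automorphisms.
-/

set_option autoImplicit false
set_option linter.style.haveILetI false

open Cfsg Cfsg.FusionSystem

namespace CfsgLib.Fus.SS

universe u

/-- Automorphism-invariant chains with cyclic steps in an abelian `p`-group with distinct invariants. -/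
theorem char_chain {A : Type*} [CommGroup A] [Finite A] {p : ℕ} [hp : Fact p.Prime] (hA : IsPGroup p A)
    {ι : Type*} [Fintype ι] (a : ι → ℕ) (ha : Function.Injective a)
    (e : A ≃* ((i : ι) → Multiplicative (ZMod (p ^ a i))))
    (Q : Subgroup A → Prop) (htop : Q ⊤)
    (hstep : ∀ (W W' : Subgroup A) (g : A), (∀ α : A ≃* A, ∀ y ∈ W, α y ∈ W) → W' = W ⊔ Subgroup.zpowers g →
      Q W' → Q W) : Q ⊥ := by
  classical
  obtain ⟨M, hM⟩ := IsPGroup.iff_card.1 hA
  have hexp : ∀ x : A, x ^ p ^ M = 1 := fun x => by rw [← hM]; exact pow_card_eq_one'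
  let U : ℕ → Subgroup A := fun k =>
    (powMonoidHom (p ^ k) : A →* A).ker ⊔ (powMonoidHom p : A →* A).range
  let T : ℕ → ℕ → Subgroup A := fun j k => (U k).map (powMonoidHom (p ^ j))
  have hTinv : ∀ j k, ∀ α : A ≃* A, ∀ y ∈ T j k, α y ∈ T j k := by
    intro j k α y hy
    obtain ⟨u, hu, rfl⟩ := Subgroup.mem_map.1 hy
    obtain ⟨x, hx, z, hz, rfl⟩ := Subgroup.mem_sup.1 hu
    obtain ⟨w, rfl⟩ := hz
    refine Subgroup.mem_map.2 ⟨α x * powMonoidHom p (α w), Subgroup.mul_mem_sup ?_ ⟨α w, rfl⟩, ?_⟩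
    · rw [MonoidHom.mem_ker, powMonoidHom_apply] at hx ⊢
      rw [← map_pow, hx, map_one]
    · simp [powMonoidHom_apply]
  have hU : ∀ k, ∃ g : A, U (k + 1) = U k ⊔ Subgroup.zpowers g := by
    intro k
    let γ : (i : ι) → Multiplicative (ZMod (p ^ a i)) := fun i =>
      if a i = k + 1 then Multiplicative.ofAdd 1 else 1
    have hg : (e.symm γ) ^ p ^ (k + 1) = 1 := by
      refine e.injective (funext fun i => ?_)
      rw [map_pow, e.apply_symm_apply, map_one, Pi.pow_apply, Pi.one_apply]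
      by_cases h : a i = k + 1
      · simp only [γ, h, if_true]
        rw [← ofAdd_nsmul, nsmul_one]
        refine ofAdd_eq_one.2 ((ZMod.natCast_eq_zero_iff _ _).2 ?_)
        rw [h]
      · simp only [γ, h, if_false, one_pow]
    refine ⟨e.symm γ, le_antisymm (sup_le (fun x hx => ?_) ((le_sup_right).trans le_sup_left))
      (sup_le (sup_le ?_ le_sup_right) (Subgroup.zpowers_le.2 (le_sup_left (b := (powMonoidHom p : A →* A).range)
        (MonoidHom.mem_ker.2 (by rw [powMonoidHom_apply, hg])))))⟩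
    · rw [MonoidHom.mem_ker, powMonoidHom_apply] at hx
      have hxi : ∀ i, (e x i) ^ p ^ (k + 1) = 1 := fun i => by
        rw [← Pi.pow_apply, ← map_pow, hx, map_one, Pi.one_apply]
      have hbig : ∀ i, ∃ z : Multiplicative (ZMod (p ^ a i)),
          k + 2 ≤ a i → e x i = z ^ p := by
        intro i
        by_cases hi : k + 2 ≤ a i
        · haveI : NeZero (p ^ a i) := ⟨pow_ne_zero _ hp.out.ne_zero⟩
          set v := (Multiplicative.toAdd (e x i)).val with hv
          have hev : e x i = Multiplicative.ofAdd ((v : ℕ) : ZMod (p ^ a i)) := by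
            rw [hv, ZMod.natCast_zmod_val, ofAdd_toAdd]
          have h1 := hxi i
          rw [hev, ← ofAdd_nsmul, ofAdd_eq_one, nsmul_eq_mul, ← Nat.cast_mul,
            ZMod.natCast_eq_zero_iff] at h1
          have h2 : p ^ (k + 1) * p ∣ p ^ (k + 1) * v :=
            dvd_trans (by rw [← pow_succ]; exact pow_dvd_pow p hi) h1
          obtain ⟨w, hw⟩ := Nat.dvd_of_mul_dvd_mul_left (pow_pos hp.out.pos _) h2
          refine ⟨Multiplicative.ofAdd ((w : ℕ) : ZMod (p ^ a i)), fun _ => ?_⟩
          rw [hev, hw, ← ofAdd_nsmul, nsmul_eq_mul, Nat.cast_mul]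
        · exact ⟨1, fun h => absurd h hi⟩
      choose z hz using hbig
      let ζ : (i : ι) → Multiplicative (ZMod (p ^ a i)) := fun i => if k + 2 ≤ a i then z i else 1
      let η : (i : ι) → Multiplicative (ZMod (p ^ a i)) := fun i => if a i ≤ k then e x i else 1
      obtain ⟨m, hm⟩ : ∃ m : ℕ, ∀ i, a i = k + 1 → e x i = (Multiplicative.ofAdd 1) ^ m := by
        by_cases h : ∃ i, a i = k + 1
        · obtain ⟨i, hi⟩ := h
          haveI : NeZero (p ^ a i) := ⟨pow_ne_zero _ hp.out.ne_zero⟩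
          refine ⟨(Multiplicative.toAdd (e x i)).val, fun j hj => ?_⟩
          obtain rfl := ha (hj.trans hi.symm)
          rw [← ofAdd_nsmul, nsmul_one, ZMod.natCast_zmod_val, ofAdd_toAdd]
        · exact ⟨0, fun i hi => absurd ⟨i, hi⟩ h⟩
      have hxe : x = e.symm η * powMonoidHom p (e.symm ζ) * (e.symm γ) ^ m := by
        refine e.injective (funext fun i => ?_)
        rw [map_mul, map_mul, powMonoidHom_apply, map_pow, map_pow, e.apply_symm_apply, e.apply_symm_apply,
          e.apply_symm_apply, Pi.mul_apply, Pi.mul_apply, Pi.pow_apply, Pi.pow_apply]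
        rcases lt_trichotomy (a i) (k + 1) with h | h | h
        · simp [η, ζ, γ, show a i ≤ k by omega, show ¬ k + 2 ≤ a i by omega, show a i ≠ k + 1 by omega]
        · simp only [η, ζ, γ, if_pos h, if_neg (show ¬ a i ≤ k by omega), if_neg (show ¬ k + 2 ≤ a i by omega),
            one_pow, one_mul]
          exact hm i h
        · simp only [η, ζ, γ, if_pos (show k + 2 ≤ a i by omega), if_neg (show ¬ a i ≤ k by omega),
            if_neg (show a i ≠ k + 1 by omega), one_pow, one_mul, mul_one]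
          exact hz i (by omega)
      rw [hxe]
      refine Subgroup.mul_mem_sup (Subgroup.mul_mem_sup (MonoidHom.mem_ker.2 ?_) ⟨_, rfl⟩)
        (Subgroup.pow_mem _ (Subgroup.mem_zpowers _) m)
      refine e.injective (funext fun i => ?_)
      rw [powMonoidHom_apply, map_pow, e.apply_symm_apply, map_one, Pi.pow_apply, Pi.one_apply]
      by_cases h : a i ≤ k
      · simp only [η, h, if_true]
        haveI : NeZero (p ^ a i) := ⟨pow_ne_zero _ hp.out.ne_zero⟩
        have hc : Nat.card (Multiplicative (ZMod (p ^ a i))) = p ^ a i := by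
          rw [Nat.card_congr Multiplicative.toAdd, Nat.card_zmod]
        rw [← Nat.sub_add_cancel h, pow_add, mul_comm, pow_mul]
        conv_lhs => arg 1; arg 2; rw [← hc]
        rw [pow_card_eq_one', one_pow]
      · simp only [η, h, if_false, one_pow]
    · intro y hy
      refine le_sup_left (b := (powMonoidHom p : A →* A).range) ?_
      rw [MonoidHom.mem_ker, powMonoidHom_apply] at hy ⊢
      rw [pow_succ, pow_mul, hy, one_pow]
  have hUtop : U M = ⊤ := eq_top_iff.2 fun x _ =>
    le_sup_left (b := (powMonoidHom p : A →* A).range) (MonoidHom.mem_ker.2 (hexp x))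
  have hTM : ∀ j, T j M = (powMonoidHom (p ^ j) : A →* A).range := fun j => by
    show (U M).map _ = _
    rw [hUtop, ← MonoidHom.range_eq_map]
  have hT0 : ∀ j, T j 0 = (powMonoidHom (p ^ (j + 1)) : A →* A).range := fun j => by
    refine le_antisymm ?_ ?_
    · rintro _ ⟨u, hu, rfl⟩
      obtain ⟨x, hx, _, ⟨w, rfl⟩, rfl⟩ := Subgroup.mem_sup.1 hu
      rw [MonoidHom.mem_ker, powMonoidHom_apply, pow_zero, pow_one] at hx
      refine ⟨w, ?_⟩
      simp only [powMonoidHom_apply, hx, one_mul]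
      rw [← pow_mul, pow_succ']
    · rintro _ ⟨w, rfl⟩
      refine ⟨powMonoidHom p w, le_sup_right (a := (powMonoidHom (p ^ 0) : A →* A).ker) ⟨w, rfl⟩, ?_⟩
      simp only [powMonoidHom_apply]
      rw [← pow_mul, pow_succ']
  have hone : ∀ j, Q (T j M) → Q (T j 0) := by
    intro j hj
    suffices h : ∀ d ≤ M, Q (T j (M - d)) by simpa using h M le_rfl
    intro d hd
    induction d with
    | zero => simpa using hj
    | succ d ih =>
      obtain ⟨g, hg⟩ := hU (M - (d + 1))
      refine hstep _ _ (powMonoidHom (p ^ j) g) (hTinv j _) ?_ (ih (by omega))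
      show (U (M - d)).map _ = _
      rw [show M - d = M - (d + 1) + 1 by omega, hg, Subgroup.map_sup, MonoidHom.map_zpowers]
  have hall : ∀ j, Q (powMonoidHom (p ^ j) : A →* A).range := by
    intro j
    induction j with
    | zero =>
      convert htop
      exact MonoidHom.range_eq_top.2 fun x => ⟨x, by simp [powMonoidHom_apply]⟩
    | succ j ih => rw [← hT0]; exact hone j (hTM j ▸ ih)
  convert hall M
  exact ((eq_bot_iff.2 (by rintro _ ⟨x, rfl⟩; exact hexp x)) : (powMonoidHom (p ^ M) : A →* A).range = ⊥).symm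

/-- Split off two factors with equal exponents. -/
theorem exists_square_factor {p : ℕ} [Fact p.Prime] {A : Type*} [CommGroup A] {ι : Type} [Fintype ι] (a : ι → ℕ)
    (h1 : ∀ i, 0 < a i) (e : A ≃* ((i : ι) → Multiplicative (ZMod (p ^ a i)))) {i i' : ι} (hne : i' ≠ i)
    (hii : a i' = a i) :
    ∃ (n : ℕ) (H : Type) (_ : CommGroup H), 0 < n ∧
      Nonempty (A ≃* (Multiplicative (ZMod (p ^ n)) × Multiplicative (ZMod (p ^ n))) × H) := by
  classical
  refine ⟨a i, (j : {j : {j // j ≠ i} // j ≠ ⟨i', hne⟩}) → Multiplicative (ZMod (p ^ a j.1.1)), inferInstance,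
    h1 i, ⟨e.trans ?_⟩⟩
  let e1 : ((j : ι) → Multiplicative (ZMod (p ^ a j))) ≃*
      Multiplicative (ZMod (p ^ a i)) × ((j : {j // j ≠ i}) → Multiplicative (ZMod (p ^ a j.1))) :=
    { Equiv.piSplitAt i (fun j => Multiplicative (ZMod (p ^ a j))) with map_mul' := fun _ _ => rfl }
  let e2 : ((j : {j // j ≠ i}) → Multiplicative (ZMod (p ^ a j.1))) ≃* Multiplicative (ZMod (p ^ a i')) ×
      ((j : {j : {j // j ≠ i} // j ≠ ⟨i', hne⟩}) → Multiplicative (ZMod (p ^ a j.1.1))) :=
    { Equiv.piSplitAt (⟨i', hne⟩ : {j // j ≠ i}) (fun j => Multiplicative (ZMod (p ^ a j.1))) with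
      map_mul' := fun _ _ => rfl }
  let c : Multiplicative (ZMod (p ^ a i')) ≃* Multiplicative (ZMod (p ^ a i)) :=
    AddEquiv.toMultiplicative (ZMod.ringEquivCongr (by rw [hii])).toAddEquiv
  exact e1.trans (((MulEquiv.refl _).prodCongr (e2.trans (c.prodCongr (MulEquiv.refl _)))).trans
    MulEquiv.prodAssoc.symm)

variable {Ω : Type u} [Group Ω] {S : Subgroup Ω} {F : FusionSystem S} {p : ℕ}

theorem normal_of_abelian [Finite S] [Fact p.Prime] (hS : IsPGroup p S) (hab : IsMulCommutative ↥S)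
    (hF : F.IsSaturated p) : F.IsNormal S := by
  have hsc : F.StronglyClosed S := stronglyClosed_iff.2 ⟨le_rfl, fun _ _ hf _ hx _ => hf.mem hx⟩
  refine normal_of_series hS hF hsc 1 (fun i => if i = 0 then ⊥ else S) rfl rfl (fun i _ => ?_) (fun i hi => ?_)
    fun i hi => ?_
  · split_ifs
    exacts [bot_le, le_rfl]
  · obtain rfl : i = 0 := by omega
    refine Subgroup.commutator_le.2 fun x hx y hy => ?_
    rw [if_pos rfl, Subgroup.mem_bot, commutatorElement_eq_one_iff_mul_comm]
    exact congrArg Subtype.val (hab.is_comm.comm ⟨x, hx⟩ ⟨y, hy⟩)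
  · obtain rfl : i = 0 := by omega
    refine stronglyClosed_weaklyClosed (stronglyClosed_iff.2 ⟨bot_le, fun P f hf x hx h => ?_⟩)
    simp only [if_true] at h ⊢
    rw [Subgroup.mem_bot] at h ⊢
    rw [h]
    exact hf.map_one

theorem up_of_distinct [Finite S] [Fact p.Prime] (hS : IsPGroup p S) (hab : IsMulCommutative ↥S)
    (hF : F.IsSaturated p) {ι : Type*} [Fintype ι] (a : ι → ℕ) (ha : Function.Injective a)
    (e : ↥S ≃* ((i : ι) → Multiplicative (ZMod (p ^ a i)))) : Up F ⊥ := by
  letI : CommGroup ↥S := { (inferInstance : Group ↥S) with mul_comm := fun a b => hab.is_comm.comm a b }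
  have hN := normal_of_abelian hS hab hF
  have key := char_chain hS a ha e (fun W => Up F (W.map S.subtype)) ?_ ?_
  · simpa using key
  · rw [← MonoidHom.range_eq_map, Subgroup.range_subtype]
    exact up_top
  · intro W W' g hW hW' hQ
    refine up_step hQ (stronglyClosed_of_inv hN (Subgroup.map_subtype_le W) fun α _ y hy => ?_) ?_ g.2 ?_
    · obtain ⟨z, hz, rfl⟩ := Subgroup.mem_map.1 hy
      exact ⟨α z, hW α z hz, (autFun_apply α z).symm⟩
    · exact Subgroup.map_mono (hW' ▸ le_sup_left)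
    · rw [hW', Subgroup.map_sup, MonoidHom.map_zpowers]
      rfl

/-- The automorphism group of a group of shape `(C × C) × K`, `C` cyclic, fails the condition. -/
theorem not_cond {A K : Type*} [Group A] [Finite A] [CommGroup K] [hp : Fact p.Prime] {n : ℕ} (hn : 0 < n)
    (e : A ≃* (Multiplicative (ZMod (p ^ n)) × Multiplicative (ZMod (p ^ n))) × K)
    (hcond : ∀ H : Subgroup (MulAut A), (Nat.card ↥H).Coprime p → IsMulCommutative ↥H ∧ ∀ h ∈ H, h ^ (p - 1) = 1) :
    False := by
  let c : Multiplicative (ZMod (p ^ n)) := Multiplicative.ofAdd 1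
  let B := (Multiplicative (ZMod (p ^ n)) × Multiplicative (ZMod (p ^ n))) × K
  haveI : Finite B := Finite.of_equiv _ e.toEquiv
  haveI : Finite (MulAut B) :=
    Finite.of_injective (fun f : MulAut B => (f : B → B)) DFunLike.coe_injective
  have hcB : ∀ H : Subgroup (MulAut B), (Nat.card ↥H).Coprime p →
      IsMulCommutative ↥H ∧ ∀ h ∈ H, h ^ (p - 1) = 1 := by
    intro H hH
    have hinj : Function.Injective (MulAut.congr e.symm).toMonoidHom := (MulAut.congr e.symm).injective
    obtain ⟨h1, h2⟩ := hcond (H.map (MulAut.congr e.symm).toMonoidHom) (by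
      rwa [Subgroup.card_map_of_injective hinj])
    refine ⟨⟨⟨fun x y => Subtype.ext (hinj ?_)⟩⟩, fun h hh => hinj ?_⟩
    · rw [Subgroup.coe_mul, Subgroup.coe_mul, map_mul, map_mul]
      exact congrArg Subtype.val (h1.is_comm.comm ⟨_, x, x.2, rfl⟩ ⟨_, y, y.2, rfl⟩)
    · rw [map_pow, map_one]
      exact h2 _ ⟨h, hh, rfl⟩
  have hord : orderOf c = p ^ n := by
    rw [orderOf_ofAdd_eq_addOrderOf, ZMod.addOrderOf_one]
  have hc1 : c ≠ 1 := fun h => by
    rw [h, orderOf_one] at hord
    exact (Nat.one_lt_pow hn.ne' hp.out.one_lt).ne hord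
  by_cases hp2 : p = 2
  · let γ : MulAut B :=
      { toFun := fun z => ((z.1.2⁻¹, z.1.1 * z.1.2⁻¹), z.2)
        invFun := fun z => ((z.1.2 * z.1.1⁻¹, z.1.1⁻¹), z.2)
        left_inv := fun z => by simp
        right_inv := fun z => by simp [mul_comm]
        map_mul' := fun (z w : (Multiplicative (ZMod (p ^ n)) × Multiplicative (ZMod (p ^ n))) × K) => by
          refine Prod.ext (Prod.ext (mul_inv z.1.2 w.1.2) ?_) rfl
          show z.1.1 * w.1.1 * (z.1.2 * w.1.2)⁻¹ = z.1.1 * z.1.2⁻¹ * (w.1.1 * w.1.2⁻¹)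
          rw [mul_inv, mul_mul_mul_comm] }
    have h3 : γ ^ 3 = 1 := by
      refine MulEquiv.ext fun z => ?_
      simp [γ, pow_succ, mul_comm, mul_left_comm]
    have hγ : γ ≠ 1 := fun h => hc1 (by
      have := congrArg (fun f : MulAut B => (f ((c, 1), 1)).1.1) h
      change (1 : Multiplicative (ZMod (p ^ n)))⁻¹ = c at this
      exact this.symm.trans inv_one)
    have hor : orderOf γ = 3 := by
      haveI : Fact (Nat.Prime 3) := ⟨Nat.prime_three⟩
      exact orderOf_eq_prime h3 hγ
    obtain ⟨-, h2⟩ := hcB (Subgroup.zpowers γ) (by rw [Nat.card_zpowers, hor, hp2]; decide)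
    exact hγ (by simpa [hp2] using h2 γ (Subgroup.mem_zpowers γ))
  · let D : Submonoid (MulAut B) :=
      { carrier := {f | ∃ ε δ : ℤˣ, (∀ z : B, f z = ((z.1.1 ^ (ε : ℤ), z.1.2 ^ (δ : ℤ)), z.2)) ∨
          ∀ z : B, f z = ((z.1.2 ^ (ε : ℤ), z.1.1 ^ (δ : ℤ)), z.2)}
        one_mem' := ⟨1, 1, Or.inl fun z => by simp⟩
        mul_mem' := by
          rintro f g ⟨ε, δ, hf | hf⟩ ⟨ε', δ', hg | hg⟩
          · exact ⟨ε' * ε, δ' * δ, Or.inl fun z => by rw [MulAut.mul_apply, hg, hf]; simp [zpow_mul]⟩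
          · exact ⟨ε' * ε, δ' * δ, Or.inr fun z => by rw [MulAut.mul_apply, hg, hf]; simp [zpow_mul]⟩
          · exact ⟨δ' * ε, ε' * δ, Or.inr fun z => by rw [MulAut.mul_apply, hg, hf]; simp [zpow_mul]⟩
          · exact ⟨δ' * ε, ε' * δ, Or.inl fun z => by rw [MulAut.mul_apply, hg, hf]; simp [zpow_mul]⟩ }
    have h4 : ∀ f ∈ D, f ^ 4 = 1 := by
      rintro f ⟨ε, δ, hf | hf⟩ <;> refine MulEquiv.ext fun z => ?_ <;>
        rcases Int.units_eq_one_or ε with rfl | rfl <;> rcases Int.units_eq_one_or δ with rfl | rfl <;>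
        simp [pow_succ, hf]
    let H : Subgroup (MulAut B) :=
      { D with
        inv_mem' := fun {f} hf => by
          rw [show f⁻¹ = f ^ 3 from inv_eq_of_mul_eq_one_left (by rw [← pow_succ, h4 f hf])]
          exact D.pow_mem hf 3 }
    have hH : (Nat.card ↥H).Coprime p := by
      haveI : Fact (Nat.Prime 2) := ⟨Nat.prime_two⟩
      obtain ⟨k, hk⟩ := IsPGroup.iff_card.1 (show IsPGroup 2 ↥H from fun f =>
        ⟨2, Subtype.ext (h4 f f.2)⟩)
      rw [hk]
      exact Nat.Coprime.pow_left k ((Nat.coprime_primes Nat.prime_two hp.out).2 (Ne.symm hp2))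
    obtain ⟨h1, -⟩ := hcB H hH
    let s : MulAut B := (MulEquiv.prodComm).prodCongr (MulEquiv.refl K)
    let t : MulAut B := ((MulEquiv.inv _).prodCongr (MulEquiv.refl _)).prodCongr (MulEquiv.refl K)
    have hs : s ∈ H := ⟨1, 1, Or.inr fun z => by simp only [Units.val_one, zpow_one]; rfl⟩
    have ht : t ∈ H := ⟨-1, 1, Or.inl fun z => by simp only [Units.val_one, Units.val_neg, zpow_neg, zpow_one]; rfl⟩
    have hst := congrArg Subtype.val (h1.is_comm.comm ⟨s, hs⟩ ⟨t, ht⟩)
    have := congrArg (fun f : MulAut B => (f ((c, 1), 1)).1.2) hst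
    change c⁻¹ = c at this
    have h2 : c ^ 2 = 1 := by rw [pow_two]; nth_rewrite 1 [← this]; simp
    have h3 := orderOf_dvd_of_pow_eq_one h2
    rw [hord] at h3
    exact hp2 ((Nat.prime_dvd_prime_iff_eq hp.out Nat.prime_two).1 ((dvd_pow_self p hn.ne').trans h3))

end CfsgLib.Fus.SS
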