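import Cfsg.Agent.Fus.Supersoluble
import Cfsg.Agent.Fus.PSL2Dihedral
import Cfsg.Agent.Lie.SL2Sylow
import Cfsg.Agent.Inv.QuasiDihedral
import Cfsg.Agent.Inv.Dihedral
import Mathlib

/-!
Saturated systems that are not supersoluble over dihedral, semidihedral and quaternion groups, realized in
`PSL₂(q)`, `GL₂(q)` and `SL₂(q)`.
-/

set_option autoImplicit false
set_option linter.style.haveILetI false

open Cfsg Cfsg.FusionSystem

namespace CfsgLib.Fus.SS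

universe u v

variable {Ω : Type u} [Group Ω] {S : Subgroup Ω}

/-- A class of elements fused in `G`, reached by every strongly closed subgroup outside a central subgroup and
containing two elements that do not commute, excludes supersolubility. -/
theorem not_up {G : Type v} [Group G] (ι : ↥S →* G) (hι : Function.Injective ι) (Z : Subgroup ↥S)
    (hZ : Z ≤ Subgroup.center ↥S) (Y : Set ↥S) (hcls : ∀ a ∈ Y, ∀ b ∈ Y, ∃ g : G, g * ι a * g⁻¹ = ι b)
    (hpick : ∀ T : Subgroup ↥S, T.Normal → ¬ T ≤ Z → ∃ a ∈ Y, a ∈ T)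
    (hnc : ∃ a ∈ Y, ∃ b ∈ Y, a * b ≠ b * a) : ¬ Up (realized ι hι) ⊥ := by
  classical
  rintro ⟨m, c, h0, hl, hsc, hstep⟩
  obtain ⟨a, ha, b, hb, hab⟩ := hnc
  have hall : ∀ T : Subgroup Ω, (realized ι hι).StronglyClosed T → ¬ T.subgroupOf S ≤ Z →
      ∀ y ∈ Y, (y : Ω) ∈ T := by
    intro T hT hTZ y hy
    have hn := stronglyClosed_normal hT
    obtain ⟨y₀, hy₀, hy₀T⟩ := hpick (T.subgroupOf S) ⟨fun t ht g =>
      show (g : Ω) * t * (g : Ω)⁻¹ ∈ T from conj_mem_of_normalizer (hn g.2) ht⟩ hTZ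
    obtain ⟨g, hg⟩ := hcls y₀ hy₀ y hy
    let P : Subgroup Ω := Subgroup.zpowers (y₀ : Ω)
    have hPS : P ≤ S := Subgroup.zpowers_le.2 y₀.2
    have hmem : ∀ x : ↥P, g * ι ⟨x, hPS x.2⟩ * g⁻¹ ∈ ι.range := by
      rintro ⟨x, hx⟩
      obtain ⟨k, rfl⟩ := Subgroup.mem_zpowers_iff.1 hx
      refine ⟨y ^ k, ?_⟩
      rw [map_zpow, ← hg, conj_zpow, ← map_zpow]
      congr 2
    let e := MonoidHom.ofInjective hι
    let φ : ↥P →* Ω := MonoidHom.mk' (fun x => ((e.symm ⟨_, hmem x⟩ : ↥S) : Ω)) fun x x' => by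
      rw [← Subgroup.coe_mul, ← map_mul]
      refine congrArg (fun t : ↥S => (t : Ω)) (congrArg e.symm (Subtype.ext ?_))
      show g * ι ⟨_, _⟩ * g⁻¹ = g * ι ⟨x, _⟩ * g⁻¹ * (g * ι ⟨x', _⟩ * g⁻¹)
      rw [show g * ι ⟨x, hPS x.2⟩ * g⁻¹ * (g * ι ⟨x', hPS x'.2⟩ * g⁻¹) =
        g * (ι ⟨x, hPS x.2⟩ * ι ⟨x', hPS x'.2⟩) * g⁻¹ by group, ← map_mul]
      rfl
    have hφS : ∀ x, φ x ∈ S := fun x => (e.symm ⟨_, hmem x⟩).2
    have hφval : ∀ x, ι ⟨φ x, hφS x⟩ = g * ι ⟨x, hPS x.2⟩ * g⁻¹ := fun x =>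
      congrArg Subtype.val (e.apply_symm_apply ⟨_, hmem x⟩)
    have hφ : φ ∈ (realized ι hι).Hom P := ⟨hPS, hφS, g, hφval⟩
    have h1 := hT.2 P (Subgroup.zpowers_le.2 hy₀T) φ hφ ⟨y₀, Subgroup.mem_zpowers _⟩
    have h2 : (⟨φ ⟨y₀, Subgroup.mem_zpowers _⟩, hφS _⟩ : ↥S) = y := hι ((hφval _).trans hg)
    rwa [← congrArg Subtype.val h2]
  have hsmall : ∀ i, (c i).subgroupOf S ≤ Z := by
    intro i
    induction i using Fin.induction with
    | zero =>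
      intro x hx
      rw [h0, Subgroup.mem_subgroupOf, Subgroup.mem_bot] at hx
      rw [show x = 1 from Subtype.ext hx]
      exact Z.one_mem
    | succ j ih =>
      by_contra hbig
      obtain ⟨-, x, hx, he⟩ := hstep j
      have hdec : ∀ y ∈ Y, ∃ z ∈ Z, ∃ k : ℤ, y = z * (⟨x, hx⟩ : ↥S) ^ k := by
        intro y hy
        have h1 := hall _ (hsc _) hbig y hy
        rw [he] at h1
        obtain ⟨t, ht, w, hw, hte⟩ : ∃ t ∈ c j.castSucc, ∃ w ∈ Subgroup.zpowers x, t * w = (y : Ω) := by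
          rw [← SetLike.mem_coe, Subgroup.coe_mul_of_right_le_normalizer_left (c j.castSucc) (Subgroup.zpowers x)
            (Subgroup.zpowers_le.2 (stronglyClosed_normal (hsc _) hx))] at h1
          obtain ⟨t, ht, w, hw, hte⟩ := h1
          exact ⟨t, ht, w, hw, hte⟩
        obtain ⟨k, rfl⟩ := Subgroup.mem_zpowers_iff.1 hw
        exact ⟨⟨t, (hsc _).1 ht⟩, ih ht, k, Subtype.ext hte.symm⟩
      obtain ⟨z, hz, k, rfl⟩ := hdec a ha
      obtain ⟨z', hz', k', rfl⟩ := hdec b hb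
      refine hab ?_
      have c1 := Subgroup.mem_center_iff.1 (hZ hz)
      have c2 := Subgroup.mem_center_iff.1 (hZ hz')
      calc z * (⟨x, hx⟩ : ↥S) ^ k * (z' * (⟨x, hx⟩ : ↥S) ^ k')
          = z * ((⟨x, hx⟩ : ↥S) ^ k * z') * (⟨x, hx⟩ : ↥S) ^ k' := by group
        _ = z * z' * (⟨x, hx⟩ : ↥S) ^ (k + k') := by rw [c2]; group
        _ = z' * z * (⟨x, hx⟩ : ↥S) ^ (k' + k) := by rw [c1 z', add_comm]
        _ = z' * (⟨x, hx⟩ : ↥S) ^ k' * (z * (⟨x, hx⟩ : ↥S) ^ k) := by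
          rw [show z' * (⟨x, hx⟩ : ↥S) ^ k' * (z * (⟨x, hx⟩ : ↥S) ^ k) =
            z' * ((⟨x, hx⟩ : ↥S) ^ k' * z) * (⟨x, hx⟩ : ↥S) ^ k by group, c1 ((⟨x, hx⟩ : ↥S) ^ k')]
          group
  refine hab (Subgroup.mem_center_iff.1 (hZ (hsmall (Fin.last m) ?_)) a).symm.symm
  rw [hl, Subgroup.mem_subgroupOf]
  exact b.2

/-- An element of order four among the powers. -/
theorem exists_order_four {A : Type*} [Group A] (hA : IsPGroup 2 A) {T : Subgroup A} {g : A} (hg : g ∈ T)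
    (h2 : g ^ 2 ≠ 1) : ∃ y ∈ T, orderOf y = 4 := by
  haveI : Fact (Nat.Prime 2) := ⟨Nat.prime_two⟩
  obtain ⟨k, hk⟩ := IsPGroup.iff_orderOf.1 hA g
  have hk2 : 2 ≤ k := by
    by_contra h
    refine h2 (orderOf_dvd_iff_pow_eq_one.1 ?_)
    rw [hk]
    calc 2 ^ k ∣ 2 ^ 1 := pow_dvd_pow 2 (by omega)
      _ = 2 := pow_one 2
  refine ⟨g ^ 2 ^ (k - 2), T.pow_mem hg _, ?_⟩
  rw [orderOf_pow' _ (pow_ne_zero _ two_ne_zero), hk, Nat.gcd_eq_right (pow_dvd_pow 2 (by omega)),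
    Nat.pow_div (by omega) two_pos, show k - (k - 2) = 2 by omega]
  rfl

/-- The order of a Sylow 2-subgroup. -/
theorem card_sylow_two {G : Type*} [Group G] [Finite G] (P : Sylow 2 G) {e m : ℕ} (h : Nat.card G = 2 ^ e * m)
    (hm : Odd m) : Nat.card P = 2 ^ e := by
  haveI : Fact (Nat.Prime 2) := ⟨Nat.prime_two⟩
  rw [P.card_eq_multiplicity, h, Nat.factorization_mul (pow_ne_zero _ two_ne_zero) hm.pos.ne',
    Finsupp.add_apply, Nat.Prime.factorization_pow Nat.prime_two, Finsupp.single_eq_same,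
    Nat.factorization_eq_zero_of_not_dvd (fun h2 => Nat.not_even_iff_odd.2 hm (even_iff_two_dvd.2 h2)), add_zero]

/-- Primes `q` with `q + 1` exactly divisible by a given power of two. -/
theorem exists_prime_val (v : ℕ) (hv : 2 ≤ v) : ∃ q : ℕ, q.Prime ∧ ∃ t : ℕ, q = 2 ^ (v + 1) * t + (2 ^ v - 1) := by
  have hcop : (2 ^ v - 1).Coprime (2 ^ (v + 1)) := by
    refine Nat.Coprime.pow_right _ (Nat.coprime_two_right.2 (Nat.Even.sub_odd Nat.one_le_two_pow ?_ odd_one))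
    exact Nat.even_pow.2 ⟨even_two, by omega⟩
  obtain ⟨q, -, hq, hmod⟩ := Nat.forall_exists_prime_gt_and_modEq 0 (pow_ne_zero (v + 1) two_ne_zero) hcop
  have hlt : 2 ^ v - 1 < 2 ^ (v + 1) := by
    have := Nat.pow_le_pow_right two_pos (Nat.le_succ v)
    have := Nat.one_le_two_pow (n := v)
    simp only [Nat.succ_eq_add_one] at *
    omega
  have h1 : q % 2 ^ (v + 1) = 2 ^ v - 1 := by
    rw [hmod, Nat.mod_eq_of_lt hlt]
  exact ⟨q, hq, q / 2 ^ (v + 1), by have := Nat.div_add_mod q (2 ^ (v + 1)); omega⟩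

theorem val_split {v q t : ℕ} (hv : 2 ≤ v) (hq : q = 2 ^ (v + 1) * t + (2 ^ v - 1)) :
    q % 4 = 3 ∧ ∃ m : ℕ, Odd m ∧ q ^ 2 - 1 = 2 ^ (v + 1) * m ∧ ∃ m' : ℕ, Odd m' ∧ q - 1 = 2 * m' := by
  obtain ⟨w, rfl⟩ : ∃ w, v = w + 2 := ⟨v - 2, by omega⟩
  obtain ⟨W, hW, hWdef⟩ : ∃ W, 1 ≤ W ∧ 2 ^ w = W := ⟨_, Nat.one_le_two_pow, rfl⟩
  rw [show 2 ^ (w + 2 + 1) = 8 * W by rw [← hWdef]; ring, show 2 ^ (w + 2) = 4 * W by rw [← hWdef]; ring] at *
  subst hq
  have e1 : 8 * W * t + (4 * W - 1) = 8 * (W * t) + 4 * W - 1 := by rw [Nat.mul_assoc]; omega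
  refine ⟨by omega, (2 * t + 1) * (4 * (W * t) + 2 * W - 1), ?_, ?_, 4 * (W * t) + 2 * W - 1, ?_, by omega⟩
  · refine Odd.mul ⟨t, rfl⟩ ⟨2 * (W * t) + W - 1, by omega⟩
  · obtain ⟨r, hr⟩ : ∃ r, 4 * W - 1 + 8 * W * t = r + 1 := ⟨4 * W - 2 + 8 * W * t, by omega⟩
    have h1 : 4 * (W * t) + 2 * W - 1 + (4 * (W * t) + 2 * W - 1) = r := by
      rw [Nat.mul_assoc] at hr; omega
    have h2 : 8 * W * t + (4 * W - 1) = r + 1 := by omega
    have h3 : (4 * W) * (2 * t + 1) = r + 2 := by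
      rw [show (4 * W) * (2 * t + 1) = 8 * W * t + 4 * W by ring]; omega
    rw [h2, show (r + 1) ^ 2 = r * (r + 2) + 1 by ring, Nat.add_sub_cancel, ← h3, ← h1]
    ring
  · exact ⟨2 * (W * t) + W - 1, by omega⟩

theorem realizes [Finite S] {G : Type v} [Group G] [Finite G] (P : Sylow 2 G) (e : ↥S ≃* ↥(P : Subgroup G))
    (Z : Subgroup ↥S) (hZ : Z ≤ Subgroup.center ↥S) (Y : Set ↥S)
    (hcls : ∀ a ∈ Y, ∀ b ∈ Y, ∃ g : G, g * (e a : G) * g⁻¹ = e b)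
    (hpick : ∀ T : Subgroup ↥S, T.Normal → ¬ T ≤ Z → ∃ a ∈ Y, a ∈ T)
    (hnc : ∃ a ∈ Y, ∃ b ∈ Y, a * b ≠ b * a) : ∃ F : FusionSystem S, F.IsSaturated 2 ∧ ¬ Up F ⊥ := by
  haveI : Fact (Nat.Prime 2) := ⟨Nat.prime_two⟩
  let ι : ↥S →* G := (P : Subgroup G).subtype.comp e.toMonoidHom
  have hι : Function.Injective ι := (P : Subgroup G).subtype_injective.comp e.injective
  refine ⟨realized ι hι, realized_saturated ι hι P ?_, not_up ι hι Z hZ Y hcls hpick hnc⟩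
  rw [MonoidHom.range_comp, MonoidHom.range_eq_top.2 e.surjective, ← MonoidHom.range_eq_map, Subgroup.range_subtype]

theorem dihedral [Finite S] (hS : IsPGroup 2 ↥S) {n : ℕ} (hn : 3 ≤ n) (e : ↥S ≃* DihedralGroup n) :
    ∃ F : FusionSystem S, F.IsSaturated 2 ∧ ¬ Up F ⊥ := by
  classical
  haveI : Fact (Nat.Prime 2) := ⟨Nat.prime_two⟩
  obtain ⟨j, hj⟩ := IsPGroup.iff_card.1 hS
  rw [Nat.card_congr e.toEquiv, DihedralGroup.nat_card] at hj
  have hj3 : 3 ≤ j := by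
    by_contra h
    have := Nat.pow_le_pow_right two_pos (show j ≤ 2 by omega)
    omega
  obtain ⟨q, hq, t, ht⟩ := exists_prime_val j (by omega)
  obtain ⟨hq4, m, hm, hm2, m', hm', hm1⟩ := val_split (by omega) ht
  haveI : Fact q.Prime := ⟨hq⟩
  have hcF : Fintype.card (ZMod q) = q := ZMod.card q
  obtain ⟨D, r, s, hD, hr, hs, hDe, -⟩ := CfsgLib.Fus.PSL2Two.exists_sylow_data (F := ZMod q)
    (by rw [hcF]; omega)
    (by rw [hcF, hm2]; exact Dvd.dvd.mul_right (show 2 ^ 4 ∣ 2 ^ (j + 1) from pow_dvd_pow 2 (by omega)) _)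
  obtain ⟨-, hDp, hDi⟩ := hD
  rw [Subgroup.relIndex_top_right] at hDi
  let P := hDp.toSylow hDi
  have hcard : Nat.card ↥D = 2 ^ j := by
    refine card_sylow_two P (m := q * m) ?_ ((Nat.odd_iff.2 (by omega)).mul hm)
    have h1 := CfsgLib.Lie.ProjLine.card_PSL_two (F := ZMod q) hcF
    rw [hm2, Nat.gcd_eq_left (show 2 ∣ q - 1 by omega), pow_succ] at h1
    refine Nat.eq_of_mul_eq_mul_left two_pos (h1.trans ?_)
    ring
  obtain ⟨e'⟩ := CfsgLib.Inv.dihedral_equiv hr hs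
  have hn' : orderOf (r * s) = n := by
    have := Nat.card_congr e'.toEquiv
    rw [← hDe, hcard, DihedralGroup.nat_card, ← hj] at this
    omega
  rw [hn'] at e'
  let E : ↥S ≃* ↥(P : Subgroup (Matrix.ProjectiveSpecialLinearGroup (Fin 2) (ZMod q))) :=
    e.trans (e'.symm.trans (MulEquiv.subgroupCongr hDe.symm))
  refine realizes P E ⊥ bot_le {a | orderOf a = 2} (fun a ha b hb => ?_) (fun T _ hT => ?_)
    ⟨e.symm (.sr 0), ?_, e.symm (.sr 1), ?_, fun h => ?_⟩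
  · exact CfsgLib.Fus.PSL2Two.one_class (by rw [hcF]; omega)
      (by rw [Subgroup.orderOf_coe, E.orderOf_eq]; exact ha) (by rw [Subgroup.orderOf_coe, E.orderOf_eq]; exact hb)
  · obtain ⟨g, hgT, hg⟩ := Subgroup.ne_bot_iff_exists_ne_one.1 (fun h => hT h.le) |>
      fun ⟨⟨g, hgT⟩, hg⟩ => (⟨g, hgT, fun h => hg (Subtype.ext h)⟩ : ∃ g, g ∈ T ∧ g ≠ 1)
    haveI : Nontrivial ↥T := ⟨⟨g, hgT⟩, 1, fun h => hg (congrArg Subtype.val h)⟩
    obtain ⟨k, hk⟩ := IsPGroup.iff_card.1 (hS.to_subgroup T)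
    have hk0 : k ≠ 0 := fun h => (Finite.one_lt_card_iff_nontrivial.2 ‹Nontrivial ↥T›).ne' (by rw [hk, h, pow_zero])
    obtain ⟨y, hy⟩ := exists_prime_orderOf_dvd_card' (G := ↥T) 2 (by rw [hk]; exact dvd_pow_self 2 hk0)
    exact ⟨y, (Subgroup.orderOf_coe y).trans hy, y.2⟩
  · show orderOf _ = 2
    rw [e.symm.orderOf_eq, DihedralGroup.orderOf_sr]
  · show orderOf _ = 2
    rw [e.symm.orderOf_eq, DihedralGroup.orderOf_sr]
  · rw [← map_mul, ← map_mul] at h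
    have h1 := e.symm.injective h
    simp only [DihedralGroup.sr_mul_sr, DihedralGroup.r.injEq, sub_zero, zero_sub] at h1
    have h2 : ((2 : ℕ) : ZMod n) = 0 := by rw [Nat.cast_ofNat]; linear_combination h1
    rw [ZMod.natCast_eq_zero_iff] at h2
    exact absurd (Nat.le_of_dvd two_pos h2) (by omega)

theorem quaternion [Finite S] (hS : IsPGroup 2 ↥S) {n : ℕ} (hn : 2 ≤ n) (e : ↥S ≃* QuaternionGroup n) :
    ∃ F : FusionSystem S, F.IsSaturated 2 ∧ ¬ Up F ⊥ := by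
  classical
  haveI : Fact (Nat.Prime 2) := ⟨Nat.prime_two⟩
  haveI : NeZero n := ⟨by omega⟩
  obtain ⟨j, hj⟩ := IsPGroup.iff_card.1 hS
  rw [Nat.card_congr e.toEquiv, Nat.card_eq_fintype_card, QuaternionGroup.card] at hj
  have hj3 : 3 ≤ j := by
    by_contra h
    have := Nat.pow_le_pow_right two_pos (show j ≤ 2 by omega)
    omega
  obtain ⟨v, rfl⟩ : ∃ v, j = v + 1 := ⟨j - 1, by omega⟩
  obtain ⟨q, hq, t, ht⟩ := exists_prime_val v (by omega)
  obtain ⟨hq4, m, hm, hm2, m', hm', hm1⟩ := val_split (by omega) ht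
  haveI : Fact q.Prime := ⟨hq⟩
  have hcF : Fintype.card (ZMod q) = q := ZMod.card q
  have hodd : Fintype.card (ZMod q) % 2 = 1 := by rw [hcF]; omega
  let P : Sylow 2 (Matrix.SpecialLinearGroup (Fin 2) (ZMod q)) := default
  obtain ⟨k, hk, ⟨e'⟩⟩ := CfsgLib.Lie.SL2Sylow.sylow_quaternion hodd P
  have hnk : 2 ^ k = n := by
    have h1 := card_sylow_two P (e := v + 1) (m := q * m)
      (by rw [CfsgLib.Lie.Orders.card_SL_two hcF, hm2]; ring) ((Nat.odd_iff.2 (by omega)).mul hm)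
    haveI : NeZero (2 ^ k) := ⟨pow_ne_zero _ two_ne_zero⟩
    have h2 := Nat.card_congr e'.toEquiv
    rw [Nat.card_eq_fintype_card (α := QuaternionGroup (2 ^ k)), QuaternionGroup.card] at h2
    rw [h2, ← hj] at h1
    omega
  subst hnk
  let E : ↥S ≃* ↥(P : Subgroup (Matrix.SpecialLinearGroup (Fin 2) (ZMod q))) := e.trans e'.symm
  let Z : Subgroup ↥S := (Subgroup.center _).comap ((P : Subgroup (Matrix.SpecialLinearGroup (Fin 2) (ZMod q))).subtype.comp E.toMonoidHom)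
  have hZ : Z ≤ Subgroup.center ↥S := fun z hz => Subgroup.mem_center_iff.2 fun g => E.injective (Subtype.ext (by
    rw [map_mul, map_mul, Subgroup.coe_mul, Subgroup.coe_mul]
    exact Subgroup.mem_center_iff.1 (Subgroup.mem_comap.1 hz) _))
  have hsq : ∀ a : ↥S, orderOf a = 4 →
      ((E a : Matrix.SpecialLinearGroup (Fin 2) (ZMod q))) * (E a : Matrix.SpecialLinearGroup (Fin 2) (ZMod q)) = -1 := by
    intro a ha
    have ha' : orderOf (E a : Matrix.SpecialLinearGroup (Fin 2) (ZMod q)) = 4 := by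
      rw [Subgroup.orderOf_coe, E.orderOf_eq, ha]
    set g := (E a : Matrix.SpecialLinearGroup (Fin 2) (ZMod q))
    refine (CfsgLib.Fus.PSL2Two.sq_eq_one_cases hodd (g := g * g) ?_).resolve_left fun h => ?_
    · rw [show g * g * (g * g) = g ^ 4 by rw [pow_succ, pow_succ, pow_succ, pow_one, mul_assoc (g * g)], orderOf_dvd_iff_pow_eq_one.1 ha'.dvd]
    · have := orderOf_dvd_of_pow_eq_one (x := g) (n := 2) (by rw [pow_two]; exact h)
      rw [ha'] at this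
      exact absurd (Nat.le_of_dvd two_pos this) (by norm_num)
  refine realizes P E Z hZ {a | orderOf a = 4} (fun a ha b hb => ?_) (fun T _ hT => ?_)
    ⟨e.symm (.xa 0), ?_, e.symm (.a ((2 ^ (k - 1) : ℕ) : ZMod (2 * 2 ^ k))), ?_, fun h => ?_⟩
  · obtain ⟨g, hg⟩ := CfsgLib.Fus.PSL2Two.exists_conj_j hodd (hsq a ha)
    obtain ⟨g', hg'⟩ := CfsgLib.Fus.PSL2Two.exists_conj_j hodd (hsq b hb)
    exact ⟨g' * g⁻¹, by rw [hg, hg']; group⟩
  · obtain ⟨g, hgT, hgZ⟩ := SetLike.not_le_iff_exists.1 hT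
    obtain ⟨y, hy, hy4⟩ := exists_order_four hS hgT fun h2 => hgZ (Subgroup.mem_comap.2 (by
      show (E g : Matrix.SpecialLinearGroup (Fin 2) (ZMod q)) ∈ _
      rcases CfsgLib.Fus.PSL2Two.sq_eq_one_cases hodd (g := (E g : Matrix.SpecialLinearGroup (Fin 2) (ZMod q)))
        (by rw [← Subgroup.coe_mul, ← map_mul, ← pow_two, h2, map_one, Subgroup.coe_one]) with h | h <;> rw [h]
      · exact one_mem _
      · exact CfsgLib.Fus.PSL2Two.neg_one_mem_center))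
    exact ⟨y, hy4, hy⟩
  · show orderOf _ = 4
    rw [e.symm.orderOf_eq, QuaternionGroup.orderOf_xa]
  · show orderOf _ = 4
    have hlt : 2 ^ (k - 1) < 2 * 2 ^ k := by
      have := Nat.pow_le_pow_right two_pos (show k - 1 ≤ k by omega)
      have := Nat.two_pow_pos k
      omega
    rw [e.symm.orderOf_eq, QuaternionGroup.orderOf_a, ZMod.val_natCast, Nat.mod_eq_of_lt hlt, ← pow_succ',
      Nat.gcd_eq_right (pow_dvd_pow 2 (by omega)), Nat.pow_div (by omega) two_pos,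
      show k + 1 - (k - 1) = 2 by omega]
    rfl
  · rw [← map_mul, ← map_mul] at h
    have h1 := e.symm.injective h
    simp only [QuaternionGroup.xa_mul_a, QuaternionGroup.a_mul_xa, QuaternionGroup.xa.injEq, zero_add, zero_sub] at h1
    have h2 : ((2 ^ k : ℕ) : ZMod (2 * 2 ^ k)) = 0 := by
      have hd : 2 ^ (k - 1) + 2 ^ (k - 1) = 2 ^ k := by rw [← two_mul, ← pow_succ']; congr 1; omega
      rw [show ((2 ^ k : ℕ) : ZMod (2 * 2 ^ k)) = ((2 ^ (k - 1) : ℕ) : ZMod (2 * 2 ^ k)) + ((2 ^ (k - 1) : ℕ) : ZMod (2 * 2 ^ k)) by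
        rw [← Nat.cast_add]; exact congrArg Nat.cast hd.symm]
      linear_combination h1
    rw [ZMod.natCast_eq_zero_iff] at h2
    have := Nat.le_of_dvd (Nat.two_pow_pos k) h2
    have := Nat.two_pow_pos k
    omega

end CfsgLib.Fus.SS
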