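import Cfsg.Agent.Fus.SupersolubleAbelian
import Cfsg.Agent.Fus.MetacyclicOdd
import Cfsg.Agent.Fus.MetacyclicTwo
import Cfsg.Agent.Fus.MetacyclicTwoAut
import Cfsg.Agent.Fus.SmallCenter
import Cfsg.Agent.Solv.SmallTransfer
import Mathlib.GroupTheory.SpecificGroups.Cyclic

/-!
Metacyclic `p`-groups outside the homocyclic and maximal class exceptions: the `p'`-groups of automorphisms are
abelian of exponent dividing `p - 1`.
-/

set_option autoImplicit false
set_option linter.style.haveILetI false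

open Cfsg Cfsg.FusionSystem
open scoped commutatorElement

namespace CfsgLib.Fus.SS

universe u

variable {p : ℕ}

/-- A metacyclic group has at most `n²` solutions of `x ^ n = 1` among commuting elements. -/
theorem card_ker_le {G : Type*} [CommGroup G] [Finite G] (hm : Cfsg.IsMetacyclic G) {n : ℕ} (hn : 0 < n) :
    Nat.card ↥(powMonoidHom n : G →* G).ker ≤ n * n := by
  classical
  obtain ⟨N, hN, hNc, hQc⟩ := hm
  haveI := hN
  haveI := hNc
  haveI := hQc
  haveI := Fintype.ofFinite ↥N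
  haveI := Fintype.ofFinite (G ⧸ N)
  let f : ↥(powMonoidHom n : G →* G).ker →* G ⧸ N := (QuotientGroup.mk' N).comp (Subgroup.subtype _)
  rw [← f.ker.card_mul_index, Subgroup.index_ker]
  refine Nat.mul_le_mul ?_ ?_
  · refine le_trans (Nat.card_le_card_of_injective
      (fun x : ↥f.ker => (⟨⟨(x : G), (QuotientGroup.eq_one_iff _).1 x.2⟩, Subtype.ext x.1.2⟩ : {y : ↥N // y ^ n = 1}))
      fun x y h => Subtype.ext (Subtype.ext (congrArg (fun t : {y : ↥N // y ^ n = 1} => ((t : ↥N) : G)) h))) ?_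
    rw [Nat.card_eq_fintype_card, Fintype.card_subtype]
    exact IsCyclic.card_pow_eq_one_le hn
  · refine le_trans (Nat.card_le_card_of_injective
      (fun x : ↥f.range => (⟨(x : G ⧸ N), by
        obtain ⟨_, y, rfl⟩ := x
        show ((QuotientGroup.mk' N) (y : G)) ^ n = 1
        rw [← map_pow, show (y : G) ^ n = 1 from y.2, map_one]⟩ : {z : G ⧸ N // z ^ n = 1}))
      fun x y h => Subtype.ext (congrArg (fun t : {z : G ⧸ N // z ^ n = 1} => (t : G ⧸ N)) h)) ?_
    rw [Nat.card_eq_fintype_card, Fintype.card_subtype]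
    exact IsCyclic.card_pow_eq_one_le hn

/-- In a metacyclic abelian group, a repeated invariant leaves no room for a third factor. -/
theorem eq_square_of_factor [hp : Fact p.Prime] {G K : Type*} [CommGroup G] [Finite G] [CommGroup K]
    (hG : IsPGroup p G) (hm : Cfsg.IsMetacyclic G) {n : ℕ} (hn : 0 < n)
    (e : G ≃* (Multiplicative (ZMod (p ^ n)) × Multiplicative (ZMod (p ^ n))) × K) :
    Nonempty (G ≃* Multiplicative (ZMod (p ^ n)) × Multiplicative (ZMod (p ^ n))) := by
  haveI : Finite ((Multiplicative (ZMod (p ^ n)) × Multiplicative (ZMod (p ^ n))) × K) := Finite.of_equiv _ e.toEquiv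
  haveI : NeZero (p ^ n) := ⟨pow_ne_zero _ hp.out.ne_zero⟩
  haveI : Finite K := Finite.of_injective
    (fun k : K => e.symm (((1 : Multiplicative (ZMod (p ^ n))), (1 : Multiplicative (ZMod (p ^ n)))), k))
    fun a b h => congrArg Prod.snd (e.symm.injective h)
  haveI : Subsingleton K := by
    by_contra hK
    rw [not_subsingleton_iff_nontrivial] at hK
    haveI := hK
    obtain ⟨M, hM⟩ := IsPGroup.iff_card.1 hG
    have hdvd : Nat.card K ∣ p ^ M := by
      rw [← hM, Nat.card_congr e.toEquiv, Nat.card_prod]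
      exact Dvd.intro_left _ rfl
    obtain ⟨j, -, hj⟩ := (Nat.dvd_prime_pow hp.out).1 hdvd
    have hj0 : j ≠ 0 := fun h => (Finite.one_lt_card_iff_nontrivial.2 hK).ne' (by rw [hj, h, pow_zero])
    obtain ⟨k, hk⟩ := exists_prime_orderOf_dvd_card' (G := K) p (by rw [hj]; exact dvd_pow_self p hj0)
    obtain ⟨c, hc⟩ := exists_prime_orderOf_dvd_card' (G := Multiplicative (ZMod (p ^ n))) p (by
      rw [Nat.card_congr Multiplicative.toAdd, Nat.card_zmod]; exact dvd_pow_self p hn.ne')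
    let C := Subgroup.zpowers c
    have hcp : ∀ z ∈ C, z ^ p = 1 := fun z hz => by
      obtain ⟨i, rfl⟩ := Subgroup.mem_zpowers_iff.1 hz
      rw [← zpow_natCast, ← zpow_mul, mul_comm, zpow_mul, zpow_natCast, orderOf_dvd_iff_pow_eq_one.1 hc.dvd, one_zpow]
    have hkp : ∀ z ∈ Subgroup.zpowers k, z ^ p = 1 := fun z hz => by
      obtain ⟨i, rfl⟩ := Subgroup.mem_zpowers_iff.1 hz
      rw [← zpow_natCast, ← zpow_mul, mul_comm, zpow_mul, zpow_natCast, orderOf_dvd_iff_pow_eq_one.1 hk.dvd, one_zpow]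
    have h3 := Nat.card_le_card_of_injective
      (fun z : (↥C × ↥C) × ↥(Subgroup.zpowers k) => (⟨e.symm (((z.1.1 : Multiplicative (ZMod (p ^ n))),
        (z.1.2 : Multiplicative (ZMod (p ^ n)))), (z.2 : K)), by
          rw [MonoidHom.mem_ker, powMonoidHom_apply, ← map_pow]
          simp only [Prod.pow_mk, hcp _ z.1.1.2, hcp _ z.1.2.2, hkp _ z.2.2]
          exact map_one _⟩ : ↥(powMonoidHom p : G →* G).ker))
      fun a b h => by
        have h' := e.symm.injective (congrArg (fun t : ↥(powMonoidHom p : G →* G).ker => (t : G)) h)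
        simp only [Prod.ext_iff] at h'
        exact Prod.ext (Prod.ext (Subtype.ext h'.1.1) (Subtype.ext h'.1.2)) (Subtype.ext h'.2)
    have h4 := card_ker_le hm hp.out.pos
    rw [Nat.card_prod, Nat.card_prod, Nat.card_zpowers, Nat.card_zpowers, hc, hk] at h3
    have := hp.out.one_lt
    nlinarith [Nat.mul_pos hp.out.pos hp.out.pos]
  letI : Unique K := uniqueOfSubsingleton 1
  exact ⟨e.trans MulEquiv.prodUnique⟩

/-- The condition from a characteristic subgroup strictly between the Frattini subgroup of index at most `p²` and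
the group. -/
theorem cond_of_line {G : Type u} [Group G] [Finite G] [hp : Fact p.Prime] (hG : IsPGroup p G) {x y : G}
    (hgen : Subgroup.closure ({x, y} : Set G) = ⊤) {K : Subgroup G} (hK : ∀ (α : MulAut G), ∀ g ∈ K, α g ∈ K)
    (hΦK : frattini G < K) (hKtop : K ≠ ⊤) (H : Subgroup (MulAut G)) (hH : (Nat.card ↥H).Coprime p) :
    IsMulCommutative ↥H ∧ ∀ h ∈ H, h ^ (p - 1) = 1 := by
  classical
  haveI : Finite (MulAut G) := inferInstanceAs (Finite (G ≃* G))
  let Φ := frattini G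
  let π := QuotientGroup.mk' Φ
  have hV : IsPGroup p (G ⧸ Φ) := hG.to_quotient _
  have hpp : ∀ v : G ⧸ Φ, v ^ p = 1 := fun v => by
    obtain ⟨g, rfl⟩ := QuotientGroup.mk'_surjective Φ v
    rw [← map_pow]
    exact (QuotientGroup.eq_one_iff _).2 (CfsgLib.Solv.pow_mem_frattini hG g)
  have hcomm : ∀ v w : G ⧸ Φ, v * w = w * v := fun v w => by
    obtain ⟨g, rfl⟩ := QuotientGroup.mk'_surjective Φ v
    obtain ⟨k, rfl⟩ := QuotientGroup.mk'_surjective Φ w
    rw [← commutatorElement_eq_one_iff_mul_comm, ← map_commutatorElement]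
    exact (QuotientGroup.eq_one_iff _).2 (CfsgLib.Solv.commutator_le_frattini hG (Subgroup.commutator_mem_commutator
      (Subgroup.mem_top g) (Subgroup.mem_top k)))
  letI : CommGroup (G ⧸ Φ) := { (inferInstance : Group (G ⧸ Φ)) with mul_comm := hcomm }
  have hcard : Nat.card (G ⧸ Φ) ≤ p * p := by
    have hf : Function.Surjective (fun ij : Fin p × Fin p => π x ^ (ij.1 : ℕ) * π y ^ (ij.2 : ℕ)) := by
      intro v
      have hv : v ∈ Subgroup.closure ({π x, π y} : Set (G ⧸ Φ)) := by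
        have : Subgroup.closure ({π x, π y} : Set (G ⧸ Φ)) = ⊤ := by
          rw [← Set.image_pair, ← MonoidHom.map_closure, hgen,
            Subgroup.map_top_of_surjective _ (QuotientGroup.mk'_surjective Φ)]
        rw [this]; trivial
      obtain ⟨i, j, rfl⟩ := Subgroup.mem_closure_pair.1 hv
      have hred : ∀ (w : G ⧸ Φ) (i : ℤ), ∃ a : Fin p, w ^ i = w ^ (a : ℕ) := fun w i => by
        refine ⟨⟨(i % p).toNat, ?_⟩, ?_⟩
        · have := Int.emod_lt_of_pos i (b := (p : ℤ)) (by exact_mod_cast hp.out.pos)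
          have := Int.emod_nonneg i (show (p : ℤ) ≠ 0 by exact_mod_cast hp.out.ne_zero)
          omega
        · rw [← zpow_natCast, Int.toNat_of_nonneg (Int.emod_nonneg i (show (p : ℤ) ≠ 0 by
            exact_mod_cast hp.out.ne_zero))]
          conv_lhs => rw [← Int.emod_add_mul_ediv i p, zpow_add, zpow_mul, zpow_natCast, hpp, one_zpow, mul_one]
      obtain ⟨a, ha⟩ := hred (π x) i
      obtain ⟨b, hb⟩ := hred (π y) j
      exact ⟨(a, b), by rw [ha, hb]⟩
    have := Nat.card_le_card_of_surjective _ hf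
    simpa [Nat.card_prod] using this
  -- the action on the quotient
  have hΦchar : ∀ α : MulAut G, Φ.map (α : G →* G) = Φ := fun α =>
    Subgroup.characteristic_iff_map_eq.1 frattini_characteristic α
  let ρ : MulAut G →* MulAut (G ⧸ Φ) :=
    { toFun := fun α => QuotientGroup.congr Φ Φ α (hΦchar α)
      map_one' := MulEquiv.ext fun v => by
        obtain ⟨g, rfl⟩ := QuotientGroup.mk_surjective v
        rfl
      map_mul' := fun α β => MulEquiv.ext fun v => by
        obtain ⟨g, rfl⟩ := QuotientGroup.mk_surjective v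
        rfl }
  let c : MulAut (G ⧸ Φ) →* MulAut ↥(⊤ : Subgroup (G ⧸ Φ)) := (MulAut.congr Subgroup.topEquiv.symm).toMonoidHom
  let f : ↥H →* MulAut ↥(⊤ : Subgroup (G ⧸ Φ)) := c.comp (ρ.comp H.subtype)
  have hfinj : Function.Injective f := by
    rw [injective_iff_map_eq_one]
    intro h hh
    have h1 : ρ h = 1 := (MulAut.congr Subgroup.topEquiv.symm).injective (hh.trans (map_one _).symm)
    obtain ⟨k, hk⟩ := MetaTwo.ppow_of_trivial_mod_frattini hG (h : MulAut G) fun g => by
      rw [← QuotientGroup.eq]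
      exact (congrArg (fun t : MulAut (G ⧸ Φ) => t (g : G ⧸ Φ)) h1).symm
    refine Subtype.ext (orderOf_eq_one_iff.1 (Nat.eq_one_of_dvd_coprimes
      (Nat.Coprime.pow_right k (Nat.Coprime.coprime_dvd_left (Subgroup.orderOf_dvd_natCard _ h.2) hH)) dvd_rfl
      (orderOf_dvd_of_pow_eq_one hk)))
  have hcH : (Nat.card ↥f.range).Coprime p := by
    rwa [← Nat.card_congr (MonoidHom.ofInjective hfinj).toEquiv]
  let L := K.map π
  have hL1 : L ≠ ⊥ := fun h => hΦK.not_ge fun g hg => (QuotientGroup.eq_one_iff g).1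
    (Subgroup.mem_bot.1 (h ▸ Subgroup.mem_map_of_mem π hg))
  have hL2 : L ≠ ⊤ := fun h => hKtop (eq_top_iff.2 fun g _ => by
    obtain ⟨k, hk, hke⟩ : π g ∈ L := h ▸ Subgroup.mem_top _
    have := hΦK.le ((QuotientGroup.eq).1 hke : k⁻¹ * g ∈ Φ)
    simpa using K.mul_mem hk this)
  have hstep : ∀ (A B : Subgroup (G ⧸ Φ)), A < B → Nat.card B ≤ p * Nat.card A → Cyc p A B := by
    intro A B hlt hle
    obtain ⟨w, hw, hwA⟩ := SetLike.exists_of_lt hlt
    refine ⟨hlt.le, fun b _ => Subgroup.mem_normalizer_iff.2 fun a => by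
      rw [hcomm b a, mul_inv_cancel_right], w, hw, by rw [hpp]; exact one_mem _, fun z hz => ?_⟩
    have hsup : A ⊔ Subgroup.zpowers w = B := by
      refine Subgroup.eq_of_le_of_card_ge (sup_le hlt.le (Subgroup.zpowers_le.2 hw)) (hle.trans ?_)
      obtain ⟨i, hi⟩ := IsPGroup.iff_card.1 (hV.to_subgroup A)
      obtain ⟨j, hj⟩ := IsPGroup.iff_card.1 (hV.to_subgroup (A ⊔ Subgroup.zpowers w))
      have hlt' : Nat.card A < Nat.card ↥(A ⊔ Subgroup.zpowers w) :=
        card_lt_of_lt le_rfl (lt_of_le_of_ne le_sup_left fun he =>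
          hwA (he.symm ▸ le_sup_right (a := A) (Subgroup.mem_zpowers w)))
      rw [hi, hj] at hlt' ⊢
      rw [← pow_succ']
      exact Nat.pow_le_pow_right hp.out.pos (Nat.pow_lt_pow_iff_right hp.out.one_lt |>.1 hlt')
    rw [← hsup] at hz
    obtain ⟨a, ha, _, ⟨n, rfl⟩, rfl⟩ := Subgroup.mem_sup.1 hz
    exact ⟨n, by rw [hcomm a, ← mul_assoc, inv_mul_cancel, one_mul]; exact ha⟩
  have hcardL : Nat.card L = p ∧ Nat.card (G ⧸ Φ) = p * p := by
    obtain ⟨i, hi⟩ := IsPGroup.iff_card.1 (hV.to_subgroup L)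
    obtain ⟨j, hj⟩ := IsPGroup.iff_card.1 hV
    have h1 : i ≠ 0 := fun h => hL1 (Subgroup.card_eq_one.1 (by rw [hi, h, pow_zero]))
    have h2 : Nat.card L < Nat.card (G ⧸ Φ) := lt_of_le_of_ne (Subgroup.card_le_card_group L) fun h =>
      hL2 (Subgroup.eq_top_of_card_eq L h)
    rw [hi, hj] at h2
    have h3 := (Nat.pow_lt_pow_iff_right hp.out.one_lt).1 h2
    rw [hj, ← pow_two] at hcard
    have h4 := (Nat.pow_le_pow_iff_right hp.out.one_lt).1 hcard
    obtain ⟨rfl, rfl⟩ : i = 1 ∧ j = 2 := by omega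
    exact ⟨by rw [hi, pow_one], by rw [hj, pow_two]⟩
  obtain ⟨h1, h2⟩ := cond_of_series (p := p) (S := (⊤ : Subgroup (G ⧸ Φ)))
    (fun v => by obtain ⟨k, hk⟩ := hV (v : G ⧸ Φ); exact ⟨k, Subtype.ext hk⟩) f.range hcH 2
    (fun i => if i = 0 then ⊥ else if i = 1 then L else ⊤) rfl rfl (fun i _ => le_top)
    (by
      rintro _ ⟨h, rfl⟩ i - v hv
      rw [autFun_of_mem _ (Subgroup.mem_top v)]
      show ρ (h : MulAut G) v ∈ _
      split_ifs at hv ⊢
      · rw [Subgroup.mem_bot] at hv ⊢; rw [hv, map_one]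
      · obtain ⟨g, hg, rfl⟩ := hv
        exact ⟨(h : MulAut G) g, hK _ g hg, rfl⟩
      · exact Subgroup.mem_top _)
    (by
      intro i hi
      obtain rfl | rfl : i = 0 ∨ i = 1 := by omega
      · simp only [if_true, Nat.zero_add, one_ne_zero, if_false]
        exact hstep _ _ (bot_lt_iff_ne_bot.2 hL1) (by rw [Subgroup.card_bot, mul_one, hcardL.1])
      · simp only [show (1 + 1 : ℕ) ≠ 0 by omega, show (1 + 1 : ℕ) ≠ 1 by omega, one_ne_zero, if_false, if_true]
        exact hstep _ _ (lt_top_iff_ne_top.2 hL2) (by rw [Subgroup.card_top, hcardL.2, hcardL.1]))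
  refine ⟨⟨⟨fun a b => hfinj ?_⟩⟩, fun h hh => congrArg Subtype.val (hfinj (a₁ := ⟨h, hh⟩ ^ (p - 1)) (a₂ := 1) ?_)⟩
  · rw [map_mul, map_mul]
    exact congrArg Subtype.val (h1.is_comm.comm ⟨_, a, rfl⟩ ⟨_, b, rfl⟩)
  · rw [map_pow, map_one]
    exact h2 _ ⟨_, rfl⟩

/-- A characteristic subgroup between the Frattini subgroup and a non-abelian metacyclic group, `p` odd. -/
theorem exists_line {G : Type u} [Group G] [Finite G] [hp : Fact p.Prime] (hp2 : p ≠ 2) (hG : IsPGroup p G)
    (hm : Cfsg.IsMetacyclic G) (hab : ¬ ∀ a b : G, a * b = b * a) :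
    ∃ (x y : G) (K : Subgroup G), Subgroup.closure ({x, y} : Set G) = ⊤ ∧ (∀ (α : MulAut G), ∀ g ∈ K, α g ∈ K) ∧
      frattini G < K ∧ K ≠ ⊤ := by
  classical
  obtain ⟨N, hN, hNc, hQc⟩ := hm
  haveI := hN
  obtain ⟨⟨x, hxN⟩, hxg⟩ := hNc.exists_generator
  obtain ⟨yq, hyg⟩ := hQc.exists_generator
  obtain ⟨y, rfl⟩ := QuotientGroup.mk_surjective yq
  have hNx : N = Subgroup.zpowers x := le_antisymm (fun z hz => by
    obtain ⟨k, hk⟩ := Subgroup.mem_zpowers_iff.1 (hxg ⟨z, hz⟩)
    exact ⟨k, congrArg Subtype.val hk⟩) (Subgroup.zpowers_le.2 hxN)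
  have hgen : Subgroup.closure ({x, y} : Set G) = ⊤ := eq_top_iff.2 fun g _ => by
    obtain ⟨k, hk⟩ := Subgroup.mem_zpowers_iff.1 (hyg (g : G ⧸ N))
    rw [← QuotientGroup.mk_zpow, QuotientGroup.eq, hNx] at hk
    obtain ⟨i, hi⟩ := Subgroup.mem_zpowers_iff.1 hk
    rw [show g = y ^ k * x ^ i by rw [hi]; group]
    exact mul_mem (zpow_mem (Subgroup.subset_closure (by simp)) _) (zpow_mem (Subgroup.subset_closure (by simp)) _)
  have frattini_le_of : ∀ (K : Subgroup G), (∀ g, g ^ p ∈ K) → (∀ g k : G, ⁅g, k⁆ ∈ K) → frattini G ≤ K :=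
    fun K h1 h2 => CfsgLib.Solv.frattini_le_of_elementary (p := p) K
      ((Subgroup.commutator_le (H₁ := ⊤) (H₂ := ⊤)).2 fun g _ k _ => h2 g k) h1
  let D : Subgroup G := commutator G
  haveI hDn : D.Normal := inferInstanceAs (commutator G).Normal
  have hDN : D ≤ N := by
    refine (Subgroup.commutator_le (H₁ := ⊤) (H₂ := ⊤)).2 fun a _ b _ => ?_
    rw [← QuotientGroup.eq_one_iff, ← QuotientGroup.mk'_apply, map_commutatorElement,
      commutatorElement_eq_one_iff_mul_comm]
    haveI := hQc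
    exact IsMulCommutative.is_comm.comm _ _
  have hΦne : frattini G ≠ ⊤ := fun h => by
    refine hab fun a b => ?_
    haveI := frattini_nilpotent (G := G)
    have := frattini_nongenerating (K := (⊥ : Subgroup G)) (by rw [h, bot_sup_eq])
    rw [Subgroup.mem_bot.1 (this.symm ▸ Subgroup.mem_top a : a ∈ (⊥ : Subgroup G)),
      Subgroup.mem_bot.1 (this.symm ▸ Subgroup.mem_top b : b ∈ (⊥ : Subgroup G))]
  -- neither generator lies in the Frattini subgroup
  have hxΦ : x ∉ frattini G := fun h => hab fun a b => by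
    have h1 : Subgroup.zpowers y = ⊤ := frattini_nongenerating (by
      rw [eq_top_iff, ← hgen, Subgroup.closure_le]
      rintro z (rfl | rfl)
      · exact le_sup_right (a := Subgroup.zpowers y) h
      · exact le_sup_left (b := frattini G) (Subgroup.mem_zpowers z))
    obtain ⟨i, rfl⟩ := Subgroup.mem_zpowers_iff.1 (h1.symm ▸ Subgroup.mem_top a)
    obtain ⟨j, rfl⟩ := Subgroup.mem_zpowers_iff.1 (h1.symm ▸ Subgroup.mem_top b)
    exact zpow_mul_comm y i j
  have hmodD : ∀ a b : G, (QuotientGroup.mk' D) a * QuotientGroup.mk' D b =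
      QuotientGroup.mk' D b * QuotientGroup.mk' D a := fun a b => by
    rw [← commutatorElement_eq_one_iff_mul_comm, ← map_commutatorElement]
    exact (QuotientGroup.eq_one_iff _).2 (Subgroup.commutator_mem_commutator (Subgroup.mem_top a) (Subgroup.mem_top b))
  have hpowD : ∀ (a b : G) (k : ℕ), ((a * b) ^ k)⁻¹ * (a ^ k * b ^ k) ∈ D := fun a b k => by
    rw [← QuotientGroup.ker_mk' D, MonoidHom.mem_ker, map_mul, map_inv, map_mul, map_pow, map_pow, map_pow, map_mul,
      Commute.mul_pow (hmodD a b), inv_mul_cancel]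
  obtain ⟨M, hM⟩ := IsPGroup.iff_card.1 hG
  have hexM : ∃ a, ∀ g : G, g ^ p ^ a ∈ D := ⟨M, fun g => by rw [← hM, pow_card_eq_one']; exact one_mem _⟩
  let a := Nat.find hexM
  have ha : ∀ g : G, g ^ p ^ a ∈ D := Nat.find_spec hexM
  have hDne : D ≠ ⊤ := fun h => hΦne (eq_top_iff.2 (h ▸ CfsgLib.Solv.commutator_le_frattini hG))
  have ha0 : a ≠ 0 := fun h => hDne (eq_top_iff.2 fun g _ => by simpa [h] using ha g)
  obtain ⟨b, hb⟩ : ∃ b, a = b + 1 := ⟨a - 1, by omega⟩
  have hmin : ¬ ∀ g : G, g ^ p ^ b ∈ D := Nat.find_min hexM (by omega)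
  have hDchar : ∀ (α : MulAut G), ∀ g ∈ D, α g ∈ D := fun α g hg => by
    have h := Subgroup.map_commutator (⊤ : Subgroup G) ⊤ (α : G →* G)
    rw [Subgroup.map_top_of_surjective (α : G →* G) α.surjective] at h
    exact h.le ⟨g, hg, rfl⟩
  have hlt : ∀ K : Subgroup G, frattini G ≤ K → (∃ g ∈ K, g ∉ frattini G) → frattini G < K :=
    fun K hle ⟨g, hg, hgn⟩ => lt_of_le_not_ge hle fun h => hgn (h hg)
  by_cases hxb : x ^ p ^ b ∈ D
  · let K : Subgroup G :=
      { carrier := {g | g ^ p ^ b ∈ D}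
        one_mem' := by show (1 : G) ^ p ^ b ∈ D; rw [one_pow]; exact one_mem _
        mul_mem' := fun {g k} hg hk => by
          have := D.mul_mem (D.mul_mem hg hk) (D.inv_mem (hpowD g k (p ^ b)))
          simpa [mul_inv_rev, mul_assoc] using this
        inv_mem' := fun {g} hg => by
          show g⁻¹ ^ p ^ b ∈ D
          rw [inv_pow]; exact D.inv_mem hg }
    refine ⟨x, y, K, hgen, fun α g hg => ?_, hlt K ?_ ⟨x, hxb, hxΦ⟩, fun h => hmin fun g => ?_⟩
    · show α g ^ p ^ b ∈ D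
      rw [← map_pow]; exact hDchar α _ hg
    · refine frattini_le_of K (fun g => ?_) fun g k => ?_
      · show (g ^ p) ^ p ^ b ∈ D
        rw [← pow_mul, ← pow_succ', ← hb]; exact ha g
      · show ⁅g, k⁆ ^ p ^ b ∈ D
        exact D.pow_mem (Subgroup.commutator_mem_commutator (Subgroup.mem_top g) (Subgroup.mem_top k)) _
    · have : g ∈ K := h ▸ Subgroup.mem_top g
      exact this
  · -- the derived group is generated by `x ^ p ^ a`
    have hord : orderOf (QuotientGroup.mk' D x) = p ^ a := by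
      rw [hb]
      refine orderOf_eq_prime_pow ?_ ?_
      · rw [← map_pow]; exact fun h => hxb ((QuotientGroup.eq_one_iff _).1 h)
      · rw [← map_pow, ← hb]; exact (QuotientGroup.eq_one_iff _).2 (ha x)
    set z := x ^ p ^ a with hz
    have hDz : D = Subgroup.zpowers z := le_antisymm (fun d hd => by
      obtain ⟨j, rfl⟩ := Subgroup.mem_zpowers_iff.1 (hNx ▸ hDN hd)
      have h1 := orderOf_dvd_iff_zpow_eq_one.2 (show (QuotientGroup.mk' D x) ^ j = 1 by
        rw [← map_zpow]; exact (QuotientGroup.eq_one_iff _).2 hd)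
      rw [hord] at h1
      obtain ⟨t, rfl⟩ := h1
      rw [zpow_mul, zpow_natCast]
      exact Subgroup.zpow_mem_zpowers _ t) (Subgroup.zpowers_le.2 (ha x))
    have hz1 : z ≠ 1 := fun h => hab fun g k => by
      have h1 : ⁅g, k⁆ ∈ D := Subgroup.commutator_mem_commutator (Subgroup.mem_top g) (Subgroup.mem_top k)
      rw [hDz, h, Subgroup.zpowers_one_eq_bot, Subgroup.mem_bot, commutatorElement_eq_one_iff_mul_comm] at h1
      exact h1
    let R := Subgroup.zpowers (z ^ p)
    have hRchar : ∀ (α : MulAut G), ∀ g ∈ R, α g ∈ R := fun α g hg => by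
      obtain ⟨i, rfl⟩ := Subgroup.mem_zpowers_iff.1 hg
      obtain ⟨j, hj⟩ := Subgroup.mem_zpowers_iff.1 (hDz ▸ hDchar α z (hDz ▸ Subgroup.mem_zpowers z))
      rw [map_zpow, map_pow, ← hj, ← zpow_natCast (z ^ j), ← zpow_mul, ← zpow_mul, mul_left_comm,
        zpow_mul, zpow_natCast]
      exact Subgroup.zpow_mem_zpowers _ _
    haveI hRn : R.Normal := ⟨fun g hg k => hRchar (MulAut.conj k) g hg⟩
    have hzR : z ∉ R := fun h => by
      obtain ⟨i, hi⟩ := Subgroup.mem_zpowers_iff.1 h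
      obtain ⟨k, hk⟩ := IsPGroup.iff_orderOf.1 hG z
      have hk0 : k ≠ 0 := fun h0 => hz1 (orderOf_eq_one_iff.1 (by rw [hk, h0, pow_zero]))
      have h1 := orderOf_dvd_iff_zpow_eq_one.2 (show z ^ ((p : ℤ) * i - 1) = 1 by
        rw [zpow_sub, zpow_mul, zpow_natCast, hi, zpow_one, mul_inv_cancel])
      rw [hk] at h1
      have h2 : (p : ℤ) ∣ (p : ℤ) * i - 1 := dvd_trans (by exact_mod_cast dvd_pow_self p hk0) h1
      have h3 : (p : ℤ) ∣ 1 := by simpa using dvd_sub (Dvd.intro i rfl) h2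
      have h4 : p ∣ 1 := by exact_mod_cast h3
      exact hp.out.not_dvd_one h4
    let π := QuotientGroup.mk' R
    have hQ : IsPGroup p (G ⧸ R) := hG.to_quotient R
    have hDbar : ∀ d ∈ D, π d ∈ Subgroup.center (G ⧸ R) ∧ π d ^ p = 1 := by
      have hzp : π z ^ p = 1 := by
        rw [← map_pow]; exact (QuotientGroup.eq_one_iff _).2 (Subgroup.mem_zpowers _)
      have hDm : D.map π = Subgroup.zpowers (π z) := by rw [hDz, MonoidHom.map_zpowers]
      haveI : (D.map π).Normal := hDn.map _ (QuotientGroup.mk'_surjective R)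
      have hc : Nat.card ↥(D.map π) = p := by
        rw [hDm, Nat.card_zpowers]
        exact orderOf_eq_prime hzp fun h => hzR ((QuotientGroup.eq_one_iff _).1 h)
      intro d hd
      refine ⟨CfsgLib.Solv.le_center_of_card_prime hQ hc (Subgroup.mem_map_of_mem π hd), ?_⟩
      obtain ⟨i, rfl⟩ := Subgroup.mem_zpowers_iff.1 (hDz ▸ hd)
      rw [map_zpow, ← zpow_natCast, ← zpow_mul, mul_comm, zpow_mul, zpow_natCast, hzp, one_zpow]
    have hpa : p ∣ (p ^ a).choose 2 := by
      rw [hb, Nat.choose_two_right]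
      have hodd : Odd p := hp.out.odd_of_ne_two hp2
      obtain ⟨t, ht⟩ := (even_iff_two_dvd.1 (Nat.Odd.sub_odd (hodd.pow (n := b + 1)) odd_one))
      rw [ht, mul_left_comm, Nat.mul_div_cancel_left _ two_pos]
      exact Dvd.dvd.mul_right (dvd_pow_self p (by omega)) _
    have hhom : ∀ g k : G, π ((g * k) ^ p ^ a) = π (g ^ p ^ a) * π (k ^ p ^ a) := by
      intro g k
      have hc := hDbar ⁅k, g⁆ (Subgroup.commutator_mem_commutator (Subgroup.mem_top k) (Subgroup.mem_top g))
      rw [map_pow, map_pow, map_pow, map_mul, pow_class_two (c := π ⁅k, g⁆)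
        (by rw [← map_mul, ← map_mul, ← map_mul, commutatorElement_def]; congr 1; group)
        (Subgroup.mem_center_iff.1 hc.1 _).symm (Subgroup.mem_center_iff.1 hc.1 _).symm]
      obtain ⟨t, ht⟩ := hpa
      rw [ht, pow_mul, hc.2, one_pow, mul_one]
    let K : Subgroup G :=
      { carrier := {g | g ^ p ^ a ∈ R}
        one_mem' := by show (1 : G) ^ p ^ a ∈ R; rw [one_pow]; exact one_mem _
        mul_mem' := fun {g k} hg hk => by
          show (g * k) ^ p ^ a ∈ R
          rw [← QuotientGroup.ker_mk' R, MonoidHom.mem_ker, hhom, show π (g ^ p ^ a) = 1 from (QuotientGroup.eq_one_iff _).2 hg,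
            show π (k ^ p ^ a) = 1 from (QuotientGroup.eq_one_iff _).2 hk, mul_one]
        inv_mem' := fun {g} hg => by
          show g⁻¹ ^ p ^ a ∈ R
          rw [inv_pow]; exact R.inv_mem hg }
    have hxK : x ∉ K := hzR
    have hΦK : frattini G ≤ K := by
      have hDp : ∀ d ∈ D, d ^ p ∈ R := fun d hd => by
        obtain ⟨i, rfl⟩ := Subgroup.mem_zpowers_iff.1 (hDz ▸ hd)
        rw [← zpow_natCast, ← zpow_mul, mul_comm, zpow_mul, zpow_natCast]
        exact Subgroup.zpow_mem_zpowers _ i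
      refine frattini_le_of K (fun g => ?_) fun g k => ?_
      · show (g ^ p) ^ p ^ a ∈ R
        rw [← pow_mul, mul_comm, pow_mul]; exact hDp _ (ha g)
      · show ⁅g, k⁆ ^ p ^ a ∈ R
        rw [hb, pow_succ', pow_mul]
        exact R.pow_mem (hDp _ (Subgroup.commutator_mem_commutator (Subgroup.mem_top g) (Subgroup.mem_top k))) _
    refine ⟨x, y, K, hgen, fun α g hg => ?_, hlt K hΦK ?_, fun h => hxK (h ▸ Subgroup.mem_top x)⟩
    · show α g ^ p ^ a ∈ R
      rw [← map_pow]; exact hRchar α _ hg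
    · obtain ⟨i, hi⟩ := Subgroup.mem_zpowers_iff.1 (hDz ▸ ha y)
      refine ⟨x ^ (-i) * y, ?_, fun h => ?_⟩
      · show (x ^ (-i) * y) ^ p ^ a ∈ R
        rw [← QuotientGroup.ker_mk' R, MonoidHom.mem_ker, hhom, ← map_mul]
        rw [show (x ^ (-i)) ^ p ^ a = z ^ (-i) by
          rw [hz, ← zpow_natCast, ← zpow_mul, mul_comm, zpow_mul, zpow_natCast], ← hi, ← zpow_add, neg_add_cancel,
          zpow_zero, map_one]
      · refine hab fun g k => ?_
        have h1 : Subgroup.zpowers x = ⊤ := frattini_nongenerating (by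
          rw [eq_top_iff, ← hgen, Subgroup.closure_le]
          rintro w (rfl | rfl)
          · exact le_sup_left (b := frattini G) (Subgroup.mem_zpowers w)
          · rw [show w = x ^ i * (x ^ (-i) * w) by group]
            exact Subgroup.mul_mem_sup (Subgroup.zpow_mem_zpowers x i) h)
        obtain ⟨i', rfl⟩ := Subgroup.mem_zpowers_iff.1 (h1.symm ▸ Subgroup.mem_top g)
        obtain ⟨j', rfl⟩ := Subgroup.mem_zpowers_iff.1 (h1.symm ▸ Subgroup.mem_top k)
        exact zpow_mul_comm x i' j'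

end CfsgLib.Fus.SS
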