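import Cfsg.Agent.Fus.SupersolubleExceptions

/-!
A semidihedral group as a Sylow 2-subgroup of `GL₂(q)` and a saturated system over it that is not supersoluble.
-/

set_option autoImplicit false
set_option linter.style.haveILetI false

open Cfsg Cfsg.FusionSystem
open scoped Matrix

namespace CfsgLib.Fus.SS

variable {q : ℕ} [hq : Fact q.Prime]

local notation "GL2" => GL (Fin 2) (ZMod q)
local notation "M2" => Matrix (Fin 2) (Fin 2) (ZMod q)

theorem sq_neg_one_false (h4 : q % 4 = 3) (a : ZMod q) : a * a ≠ -1 := fun h =>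
  ZMod.exists_sq_eq_neg_one_iff.1 (⟨a, h.symm⟩ : IsSquare (-1 : ZMod q)) h4

theorem sum_sq_ne_zero (h4 : q % 4 = 3) {a b : ZMod q} (h : a ≠ 0 ∨ b ≠ 0) : a * a + b * b ≠ 0 := by
  intro h0
  by_cases hb : b = 0
  · rw [hb, mul_zero, add_zero, mul_self_eq_zero] at h0
    exact h.elim (fun g => g h0) fun g => g hb
  · refine sq_neg_one_false h4 (a * b⁻¹) ?_
    have hbb : b * b⁻¹ = 1 := mul_inv_cancel₀ hb
    linear_combination b⁻¹ * b⁻¹ * h0 - (b * b⁻¹ + 1) * hbb

/-- Invertible matrices with square `-1` are conjugate. -/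
theorem gl_conj (h4 : q % 4 = 3) {g g' : GL2} (h : (g : M2) * (g : M2) = -1) (h' : (g' : M2) * (g' : M2) = -1) :
    ∃ k : GL2, k * g * k⁻¹ = g' := by
  suffices key : ∀ g : GL2, (g : M2) * (g : M2) = -1 → ∃ k : GL2, (g : M2) * (k : M2) = (k : M2) * !![0, -1; 1, 0] by
    obtain ⟨k, hk⟩ := key g h
    obtain ⟨k', hk'⟩ := key g' h'
    refine ⟨k' * k⁻¹, ?_⟩
    have e1 : (k⁻¹ * g * k : GL2).val = !![0, -1; 1, 0] := by
      rw [Units.val_mul, Units.val_mul, mul_assoc, hk, ← mul_assoc, Units.inv_mul, one_mul]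
    have e2 : (k'⁻¹ * g' * k' : GL2).val = !![0, -1; 1, 0] := by
      rw [Units.val_mul, Units.val_mul, mul_assoc, hk', ← mul_assoc, Units.inv_mul, one_mul]
    have e3 : k⁻¹ * g * k = k'⁻¹ * g' * k' := Units.ext (e1.trans e2.symm)
    calc k' * k⁻¹ * g * (k' * k⁻¹)⁻¹ = k' * (k⁻¹ * g * k) * k'⁻¹ := by group
      _ = g' := by rw [e3]; group
  intro g hg
  have e00 : (g : M2) 0 0 * (g : M2) 0 0 + (g : M2) 0 1 * (g : M2) 1 0 = -1 := by
    have := congrFun (congrFun hg 0) 0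
    simpa [Matrix.mul_apply, Fin.sum_univ_two] using this
  have e10 : (g : M2) 1 0 * (g : M2) 0 0 + (g : M2) 1 1 * (g : M2) 1 0 = 0 := by
    have := congrFun (congrFun hg 1) 0
    simpa [Matrix.mul_apply, Fin.sum_univ_two] using this
  have h10 : (g : M2) 1 0 ≠ 0 := fun h0 => sq_neg_one_false h4 ((g : M2) 0 0) (by rw [h0, mul_zero, add_zero] at e00; exact e00)
  refine ⟨Matrix.GeneralLinearGroup.mkOfDetNeZero !![1, (g : M2) 0 0; 0, (g : M2) 1 0]
    (by simpa [Matrix.det_fin_two] using h10), ?_⟩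
  show (g : M2) * !![1, (g : M2) 0 0; 0, (g : M2) 1 0] = !![1, (g : M2) 0 0; 0, (g : M2) 1 0] * !![0, -1; 1, 0]
  ext i j
  fin_cases i <;> fin_cases j <;> simp [Matrix.mul_apply, Fin.sum_univ_two, e00, e10]

/-- An element of order four squares to `-1`. -/
theorem sq_of_order_four (h4 : q % 4 = 3) {g : GL2} (hg : orderOf g = 4) : (g : M2) * (g : M2) = -1 := by
  have hodd : Fintype.card (ZMod q) % 2 = 1 := by rw [ZMod.card]; omega
  have h1 : g ^ 4 = 1 := orderOf_dvd_iff_pow_eq_one.1 hg.dvd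
  have h2 : g ^ 2 ≠ 1 := fun h => by
    have := Nat.le_of_dvd two_pos (hg ▸ orderOf_dvd_of_pow_eq_one h)
    omega
  set d := (g : M2).det with hd
  have hm : ((g : M2) * g) * ((g : M2) * g) = 1 := by
    have := congrArg (fun u : GL2 => (u : M2)) h1
    simpa [pow_succ, mul_assoc] using this
  have hd4 : d * d * (d * d) = 1 := by
    have := congrArg Matrix.det hm
    simpa [Matrix.det_mul] using this
  have hdd : d * d = 1 := (mul_self_eq_one_iff.1 hd4).resolve_right (sq_neg_one_false h4 d)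
  have hdet : ((g : M2) * g).det = 1 := by rw [Matrix.det_mul]; exact hdd
  rcases CfsgLib.Fus.PSL2Two.sq_eq_one_cases hodd (g := (⟨(g : M2) * g, hdet⟩ : Matrix.SpecialLinearGroup (Fin 2) (ZMod q)))
    (Subtype.ext hm) with h | h
  · exfalso
    refine h2 (Units.ext ?_)
    rw [pow_two, Units.val_mul]
    exact congrArg Subtype.val h
  · exact congrArg Subtype.val h

/-- The matrices commuting with `!![0, -1; 1, 0]`. -/
theorem entries_of_comm {A : M2} (h : A * !![0, -1; 1, 0] = !![0, -1; 1, 0] * A) :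
    A 1 1 = A 0 0 ∧ A 1 0 = -A 0 1 := by
  have e00 := congrFun (congrFun h 0) 0
  have e10 := congrFun (congrFun h 1) 0
  simp [Matrix.mul_apply, Fin.sum_univ_two] at e00 e10
  exact ⟨e10, by linear_combination e00⟩

set_option maxHeartbeats 1000000 in
theorem exists_qd_sylow {v t : ℕ} (hv : 2 ≤ v) (hqe : q = 2 ^ (v + 1) * t + (2 ^ v - 1)) :
    ∃ P : Sylow 2 GL2, Nat.card P = 2 ^ (v + 2) ∧ Cfsg.IsQuasiDihedral ↥(P : Subgroup GL2) := by
  classical
  haveI : Fact (Nat.Prime 2) := ⟨Nat.prime_two⟩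
  obtain ⟨h4, m, hm, hm2, m', hm', hm1⟩ := val_split hv hqe
  let J : M2 := !![0, -1; 1, 0]
  let R := Subring.centralizer ({J} : Set M2)
  have hR : ∀ A : M2, A ∈ R ↔ A * J = J * A := fun A => by
    rw [Subring.mem_centralizer_iff]; simp [eq_comm]
  have hform : ∀ A : M2, A ∈ R → A = !![A 0 0, A 0 1; -A 0 1, A 0 0] := fun A hA => by
    obtain ⟨e1, e2⟩ := entries_of_comm ((hR A).1 hA)
    ext i j
    fin_cases i <;> fin_cases j <;> simp [e1, e2]
  have hmemR : ∀ a b : ZMod q, !![a, b; -b, a] ∈ R := fun a b => (hR _).2 (by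
    ext i j
    fin_cases i <;> fin_cases j <;> simp [J, Matrix.mul_apply, Fin.sum_univ_two])
  letI : CommRing ↥R := { (inferInstance : Ring ↥R) with
    mul_comm := fun A B => Subtype.ext (by
      show (A : M2) * (B : M2) = (B : M2) * (A : M2)
      rw [hform _ A.2, hform _ B.2]
      ext i j
      fin_cases i <;> fin_cases j <;> simp [Matrix.mul_apply, Fin.sum_univ_two] <;> ring) }
  have hdet : ∀ A : ↥R, (A : M2).det = 0 → A = 0 := fun A h => by
    rw [hform _ A.2, Matrix.det_fin_two] at h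
    simp at h
    refine Subtype.ext ?_
    by_cases h0 : (A : M2) 0 0 = 0 ∧ (A : M2) 0 1 = 0
    · rw [hform _ A.2, h0.1, h0.2]
      ext i j
      fin_cases i <;> fin_cases j <;> simp
    · rw [not_and_or] at h0
      exact absurd h (sum_sq_ne_zero h4 h0)
  haveI : NoZeroDivisors ↥R := ⟨fun {A B} h => by
    have h1 : (A : M2).det * (B : M2).det = 0 := by
      rw [← Matrix.det_mul, ← Subring.coe_mul, h]; simp
    exact (mul_eq_zero.1 h1).imp (hdet A) (hdet B)⟩
  haveI : Nontrivial ↥R := ⟨⟨0, 1, fun h => zero_ne_one (congrArg (fun A : ↥R => (A : M2)) h)⟩⟩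
  haveI : IsDomain ↥R := NoZeroDivisors.to_isDomain _
  let C : Subgroup GL2 :=
    { carrier := {g | (g : M2) ∈ R}
      one_mem' := R.one_mem
      mul_mem' := fun ha hb => R.mul_mem ha hb
      inv_mem' := fun {g} hg => (hR _).2 (by
        have h1 := (hR _).1 hg
        calc ((g⁻¹ : GL2) : M2) * J = ((g⁻¹ : GL2) : M2) * (J * (g : M2)) * ((g⁻¹ : GL2) : M2) := by
              rw [mul_assoc, mul_assoc, Units.mul_inv, mul_one]
          _ = ((g⁻¹ : GL2) : M2) * ((g : M2) * J) * ((g⁻¹ : GL2) : M2) := by rw [h1]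
          _ = J * ((g⁻¹ : GL2) : M2) := by rw [← mul_assoc ((g⁻¹ : GL2) : M2), Units.inv_mul, one_mul]) }
  let f : ↥C →* ↥R := { toFun := fun g => (⟨((g : GL2) : M2), g.2⟩ : ↥R), map_one' := rfl, map_mul' := fun _ _ => rfl }
  haveI : IsCyclic ↥C := isCyclic_of_subgroup_isDomain f fun g g' h =>
    Subtype.ext (Units.ext (congrArg (fun A : ↥R => (A : M2)) h))
  let eC : {ab : ZMod q × ZMod q // ab ≠ 0} ≃ ↥C :=
    { toFun := fun ab => ⟨Matrix.GeneralLinearGroup.mkOfDetNeZero !![ab.1.1, ab.1.2; -ab.1.2, ab.1.1] (by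
          have h := sum_sq_ne_zero h4 (a := ab.1.1) (b := ab.1.2) (by
            by_contra hc
            push Not at hc
            exact ab.2 (Prod.ext hc.1 hc.2))
          rw [Matrix.det_fin_two]; simpa using h), hmemR _ _⟩
      invFun := fun g => ⟨(((g : GL2) : M2) 0 0, ((g : GL2) : M2) 0 1), fun h => by
        simp only [Prod.ext_iff, Prod.fst_zero, Prod.snd_zero] at h
        have h1 := hform _ g.2
        rw [h.1, h.2] at h1
        have h2 : IsUnit (((g : GL2) : M2).det) := (g : GL2).isUnit.map Matrix.detMonoidHom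
        rw [h1, Matrix.det_fin_two] at h2
        simp at h2⟩
      left_inv := fun ab => Subtype.ext (Prod.ext rfl rfl)
      right_inv := fun g => Subtype.ext (Units.ext (hform _ g.2).symm) }
  have hcardC : Nat.card ↥C = q ^ 2 - 1 := by
    rw [← Nat.card_congr eC, Nat.card_eq_fintype_card, Fintype.card_subtype_compl, Fintype.card_subtype_eq,
      Fintype.card_prod, ZMod.card, pow_two]
  obtain ⟨g0, hg0⟩ := IsCyclic.exists_generator (α := ↥C)
  have hg0o : orderOf g0 = 2 ^ (v + 1) * m := by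
    rw [orderOf_eq_card_of_forall_mem_zpowers hg0, hcardC, hm2]
  let X : GL2 := ((g0 ^ m : ↥C) : GL2)
  have hXo : orderOf X = 2 ^ (v + 1) := by
    rw [Subgroup.orderOf_coe, orderOf_pow' _ hm.pos.ne', hg0o, Nat.gcd_eq_right (dvd_mul_left _ _),
      Nat.mul_div_cancel _ hm.pos]
  have hXR : (X : M2) ∈ R := (g0 ^ m : ↥C).2
  let Y : GL2 := Matrix.GeneralLinearGroup.mkOfDetNeZero !![1, 0; 0, -1] (by simp [Matrix.det_fin_two])
  have h2 : (2 : ZMod q) ≠ 0 := CfsgLib.Fus.PSL2Two.two_ne_zero' (by rw [ZMod.card]; omega)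
  have hYv : (Y : M2) = !![1, 0; 0, -1] := rfl
  have hYo : orderOf Y = 2 := by
    refine orderOf_eq_prime (Units.ext ?_) fun h => h2 ?_
    · show (Y : M2) ^ 2 = 1
      rw [pow_two]
      ext i j
      rw [hYv]
      fin_cases i <;> fin_cases j <;> simp [Matrix.mul_apply, Fin.sum_univ_two]
    · have := congrArg (fun u : GL2 => (u : M2) 1 1) h
      simp [hYv] at this
      linear_combination -this
  -- the Frobenius relation
  have hXq : Y * X * Y⁻¹ = X ^ q := by
    refine mul_inv_eq_iff_eq_mul.2 (Units.ext ?_)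
    rw [Units.val_mul, Units.val_mul, Units.val_pow_eq_pow_val]
    show !![1, 0; 0, -1] * (X : M2) = (X : M2) ^ q * !![1, 0; 0, -1]
    set a := (X : M2) 0 0
    set b := (X : M2) 0 1
    have hX : (X : M2) = algebraMap (ZMod q) M2 a + algebraMap (ZMod q) M2 (-b) * J := by
      conv_lhs => rw [hform _ hXR]
      ext i j
      fin_cases i <;> fin_cases j <;> simp [J, a, b, Matrix.mul_apply, Fin.sum_univ_two, Matrix.algebraMap_matrix_apply]
    have hJ2 : J * J = -1 := by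
      ext i j
      fin_cases i <;> fin_cases j <;> simp [J, Matrix.mul_apply, Fin.sum_univ_two]
    have hJq : J ^ q = -J := by
      obtain ⟨s, hs⟩ : ∃ s, q = 2 * s + 1 := ⟨q / 2, by omega⟩
      rw [show J ^ q = J ^ (2 * s + 1) from congrArg (J ^ ·) hs, pow_succ, pow_mul, pow_two, hJ2, (show Odd s from Nat.odd_iff.2 (by omega)).neg_one_pow, neg_one_mul]
    have hXq' : (X : M2) ^ q = algebraMap (ZMod q) M2 a + algebraMap (ZMod q) M2 (-b) * -J := by
      rw [hX, add_pow_char_of_commute, (Algebra.commutes (-b) J |> fun h => (h : Commute _ J)).mul_pow, ← map_pow,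
        ← map_pow, ZMod.pow_card, ZMod.pow_card, hJq]
      exact Algebra.commute_algebraMap_left a _
    rw [hXq', hX]
    ext i j
    fin_cases i <;> fin_cases j <;> simp [J, Matrix.mul_apply, Fin.sum_univ_two, Matrix.algebraMap_matrix_apply]
  have hrel : Y * X * Y⁻¹ = X ^ (2 ^ v - 1) := by
    rw [hXq, pow_eq_pow_iff_modEq, hXo, hqe]
    exact (Nat.modEq_zero_iff_dvd.2 (Dvd.intro t rfl)).add_right _ |>.trans (by rw [zero_add])
  let P0 : Subgroup GL2 := Subgroup.zpowers X ⊔ Subgroup.zpowers Y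
  have hXP : X ∈ P0 := le_sup_left (b := Subgroup.zpowers Y) (Subgroup.mem_zpowers X)
  have hYP : Y ∈ P0 := le_sup_right (a := Subgroup.zpowers X) (Subgroup.mem_zpowers Y)
  have hYn : Y ∈ Subgroup.normalizer (Subgroup.zpowers X : Set GL2) := by
    have hsub : ∀ x ∈ Subgroup.zpowers X, Y * x * Y⁻¹ ∈ Subgroup.zpowers X := fun x hx => by
      obtain ⟨i, rfl⟩ := Subgroup.mem_zpowers_iff.1 hx
      rw [← conj_zpow, hrel]
      exact Subgroup.zpow_mem _ (Subgroup.pow_mem _ (Subgroup.mem_zpowers X) _) i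
    have hYi : Y⁻¹ = Y := inv_eq_of_mul_eq_one_right (by
      rw [← pow_two]; exact orderOf_dvd_iff_pow_eq_one.1 hYo.dvd)
    refine Subgroup.mem_normalizer_iff.2 fun x => ⟨hsub x, fun hx => ?_⟩
    have := hsub _ hx
    rw [hYi] at this
    rwa [show Y * (Y * x * Y) * Y = (Y * Y) * x * (Y * Y) by simp only [mul_assoc],
      show Y * Y = 1 by conv_lhs => arg 2; rw [← hYi]
                        exact mul_inv_cancel Y, one_mul, mul_one] at this
  have hYX : Y ∉ Subgroup.zpowers X := fun h => by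
    have h1 : (Y : M2) ∈ R := by
      obtain ⟨i, hi⟩ := Subgroup.mem_zpowers_iff.1 h
      have : Y ∈ C := hi ▸ Subgroup.zpow_mem C hXR i
      exact this
    have h2' := (entries_of_comm ((hR _).1 h1)).1
    rw [hYv] at h2'
    simp at h2'
    exact h2 (by linear_combination -h2')
  have hcard : Nat.card ↥P0 = 2 ^ (v + 2) := by
    have hle : Nat.card ↥P0 ≤ 2 * 2 ^ (v + 1) := by
      have hsurj : Function.Surjective (fun z : ↥(Subgroup.zpowers X) × ↥(Subgroup.zpowers Y) =>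
          (⟨(z.1 : GL2) * z.2, mul_mem (le_sup_left (b := Subgroup.zpowers Y) z.1.2)
            (le_sup_right (a := Subgroup.zpowers X) z.2.2)⟩ : ↥P0)) := by
        rintro ⟨z, hz⟩
        rw [← SetLike.mem_coe, Subgroup.coe_mul_of_right_le_normalizer_left _ _ (Subgroup.zpowers_le.2 hYn)] at hz
        obtain ⟨a, ha, b, hb, rfl⟩ := hz
        exact ⟨(⟨a, ha⟩, ⟨b, hb⟩), rfl⟩
      have := Nat.card_le_card_of_surjective _ hsurj
      rw [Nat.card_prod, Nat.card_zpowers, Nat.card_zpowers, hXo, hYo] at this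
      omega
    have hd := Subgroup.card_dvd_of_le (show Subgroup.zpowers X ≤ P0 from le_sup_left)
    rw [Nat.card_zpowers, hXo] at hd
    obtain ⟨c, hc⟩ := hd
    have hlt : 2 ^ (v + 1) < Nat.card ↥P0 := by
      rw [← hXo, ← Nat.card_zpowers]
      refine lt_of_le_of_ne (Subgroup.card_le_of_le le_sup_left) fun he => hYX ?_
      rw [Subgroup.eq_of_le_of_card_ge (show Subgroup.zpowers X ≤ P0 from le_sup_left) he.ge]
      exact hYP
    rw [hc] at hle hlt ⊢
    have hpos := Nat.two_pow_pos (v + 1)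
    have hc2 : c = 2 := le_antisymm
      (Nat.le_of_mul_le_mul_left (by rwa [mul_comm 2] at hle) hpos)
      (Nat.lt_of_mul_lt_mul_left (a := 2 ^ (v + 1)) (by rwa [mul_one]))
    rw [hc2, ← pow_succ]
  have hcG : Nat.card GL2 = 2 ^ (v + 2) * (m * (m' * q)) := by
    rw [CfsgLib.Lie.Orders.card_GL_fin (ZMod.card q) 2, Fin.prod_univ_two]
    simp only [Fin.val_zero, Fin.val_one, pow_zero, pow_one]
    rw [show q ^ 2 - q = q * (q - 1) by rw [pow_two, Nat.mul_sub, mul_one], hm2, hm1]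
    ring
  have hodd : Odd (m * (m' * q)) := hm.mul (hm'.mul (Nat.odd_iff.2 (by omega)))
  let P : Sylow 2 GL2 := (IsPGroup.of_card hcard).toSylow (fun hd => by
    have h := P0.card_mul_index
    rw [hcard, hcG] at h
    rw [Nat.eq_of_mul_eq_mul_left (Nat.two_pow_pos _) h] at hd
    exact Nat.not_even_iff_odd.2 hodd (even_iff_two_dvd.2 hd))
  refine ⟨P, hcard, v + 1, by omega, hcard, ⟨X, hXP⟩, ⟨Y, hYP⟩, ?_, ?_, Subtype.ext ?_⟩
  · exact (Subgroup.orderOf_coe (⟨X, hXP⟩ : ↥P0)).symm.trans hXo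
  · exact (Subgroup.orderOf_coe (⟨Y, hYP⟩ : ↥P0)).symm.trans hYo
  · show Y * X * Y⁻¹ = _
    rw [hrel, Nat.add_sub_cancel]
    rfl

end CfsgLib.Fus.SS

namespace CfsgLib.Inv.QDData

variable {S S' : Type*} [Group S] [Group S'] {d : ℕ}

/-- Two semidihedral groups of the same order are isomorphic. -/
theorem nonempty_mulEquiv [Finite S] [Finite S'] (D : QDData S d) (D' : QDData S' d) : Nonempty (S ≃* S') := by
  classical
  let T : Subgroup (S × S') :=
    { carrier := {z | ∃ i : ℤ, z = (D.x ^ i, D'.x ^ i) ∨ z = (D.x ^ i * D.y, D'.x ^ i * D'.y)}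
      one_mem' := ⟨0, Or.inl (by simp [Prod.one_eq_mk])⟩
      mul_mem' := by
        rintro _ _ ⟨i, rfl | rfl⟩ ⟨j, rfl | rfl⟩
        · exact ⟨i + j, Or.inl (by simp [zpow_add])⟩
        · exact ⟨i + j, Or.inr (by simp [zpow_add, mul_assoc])⟩
        · exact ⟨i + D.k * j, Or.inr (Prod.ext (D.out_mul_pow i j) (D'.out_mul_pow i j))⟩
        · exact ⟨i + D.k * j, Or.inl (Prod.ext (D.out_mul_out i j) (D'.out_mul_out i j))⟩
      inv_mem' := by
        rintro _ ⟨i, rfl | rfl⟩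
        · exact ⟨-i, Or.inl (by simp [zpow_neg])⟩
        · exact ⟨-(D.k * i), Or.inr (Prod.ext (D.inv_out i) (D'.inv_out i))⟩ }
  let f : ↥T →* S := (MonoidHom.fst S S').comp T.subtype
  let g : ↥T →* S' := (MonoidHom.snd S S').comp T.subtype
  have hf : Function.Bijective f := by
    refine ⟨(injective_iff_map_eq_one f).2 ?_, fun s => ?_⟩
    · rintro ⟨z, i, rfl | rfl⟩ h
      · have : D'.x ^ i = 1 := D'.zpow_x_eq_one.2 (D.zpow_x_eq_one.1 h)
        exact Subtype.ext (Prod.ext h this)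
      · exact absurd ((show D.x ^ i * D.y = 1 from h) ▸ one_mem _) (D.out_not_mem i)
    · rcases D.cases s with ⟨i, rfl⟩ | ⟨i, rfl⟩
      · exact ⟨⟨_, i, Or.inl rfl⟩, rfl⟩
      · exact ⟨⟨_, i, Or.inr rfl⟩, rfl⟩
  have hg : Function.Bijective g := by
    refine ⟨(injective_iff_map_eq_one g).2 ?_, fun s => ?_⟩
    · rintro ⟨z, i, rfl | rfl⟩ h
      · have : D.x ^ i = 1 := D.zpow_x_eq_one.2 (D'.zpow_x_eq_one.1 h)
        exact Subtype.ext (Prod.ext this h)
      · exact absurd ((show D'.x ^ i * D'.y = 1 from h) ▸ one_mem _) (D'.out_not_mem i)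
    · rcases D'.cases s with ⟨i, rfl⟩ | ⟨i, rfl⟩
      · exact ⟨⟨_, i, Or.inl rfl⟩, rfl⟩
      · exact ⟨⟨_, i, Or.inr rfl⟩, rfl⟩
  exact ⟨(MulEquiv.ofBijective f hf).symm.trans (MulEquiv.ofBijective g hg)⟩

end CfsgLib.Inv.QDData

namespace CfsgLib.Fus.SS

universe u

variable {Ω : Type u} [Group Ω] {S : Subgroup Ω}

theorem semidihedral [Finite S] (h : Cfsg.IsQuasiDihedral ↥S) :
    ∃ F : FusionSystem S, F.IsSaturated 2 ∧ ¬ Up F ⊥ := by
  classical
  haveI : Fact (Nat.Prime 2) := ⟨Nat.prime_two⟩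
  obtain ⟨d, ⟨D⟩⟩ := CfsgLib.Inv.QDData.of_qd h
  obtain ⟨q, hq, t, ht⟩ := exists_prime_val (d + 2) (by omega)
  haveI : Fact q.Prime := ⟨hq⟩
  obtain ⟨h4, -⟩ := val_split (by omega) ht
  obtain ⟨P, hP, hPq⟩ := exists_qd_sylow (q := q) (by omega) ht
  obtain ⟨d', ⟨D'⟩⟩ := CfsgLib.Inv.QDData.of_qd hPq
  obtain rfl : d = d' := by
    have := D'.card_eq.symm.trans hP
    have := Nat.pow_right_injective le_rfl this
    omega
  obtain ⟨E⟩ := D.nonempty_mulEquiv D'
  let ι : ↥S →* GL (Fin 2) (ZMod q) := (P : Subgroup (GL (Fin 2) (ZMod q))).subtype.comp E.toMonoidHom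
  have hι : Function.Injective ι :=
    (P : Subgroup (GL (Fin 2) (ZMod q))).subtype_injective.comp E.injective
  have hsq : ∀ a : ↥S, orderOf a = 4 → ((ι a : GL (Fin 2) (ZMod q)) : Matrix (Fin 2) (Fin 2) (ZMod q)) *
      ((ι a : GL (Fin 2) (ZMod q)) : Matrix (Fin 2) (Fin 2) (ZMod q)) = -1 := fun a ha =>
    sq_of_order_four h4 (by rw [orderOf_injective ι hι, ha])
  let Z : Subgroup ↥S := (Subgroup.center _).comap ι
  have hZ : Z ≤ Subgroup.center ↥S := fun z hz => Subgroup.mem_center_iff.2 fun g => hι (by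
    rw [map_mul, map_mul]; exact Subgroup.mem_center_iff.1 (Subgroup.mem_comap.1 hz) _)
  have hzZ : D.z ∈ Z := by
    rw [Subgroup.mem_comap, ← D.w_sq, map_mul, Subgroup.mem_center_iff]
    intro g
    refine Units.ext ?_
    simp only [Units.val_mul, hsq _ D.w_order, mul_neg_one, neg_one_mul]
  have hxy : orderOf (D.x * D.y) = 4 := by simpa using D.out_order_odd odd_one
  refine realizes P E Z hZ {a | orderOf a = 4} (fun a ha b hb => gl_conj h4 (hsq a ha) (hsq b hb))
    (fun T hTn hT => ?_) ⟨D.w, D.w_order, D.x * D.y, hxy, fun h => ?_⟩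
  · obtain ⟨g, hgT, hgZ⟩ := SetLike.not_le_iff_exists.1 hT
    suffices h : ∃ e ∈ T, e ^ 2 ≠ 1 by
      obtain ⟨e, he, he2⟩ := h
      obtain ⟨y, hy, hy4⟩ := exists_order_four D.isPGroup he he2
      exact ⟨y, hy4, hy⟩
    by_cases h2 : g ^ 2 = 1
    swap
    · exact ⟨g, hgT, h2⟩
    have hg2 : orderOf g = 2 := orderOf_eq_prime h2 fun h1 => hgZ (h1 ▸ Z.one_mem)
    rcases D.cases_order hg2 with h1 | ⟨i, hi, h1⟩
    · exact absurd (h1 ▸ hzZ) hgZ
    · subst h1
      refine ⟨_, T.mul_mem hgT (hTn.conj_mem _ hgT (D.x ^ (1 : ℤ))), fun h3 => ?_⟩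
      rw [← mul_assoc (D.x ^ (1 : ℤ)), ← zpow_add, mul_assoc (D.x ^ (1 + i)), ← zpow_neg, D.y_mul_zpow,
        ← mul_assoc (D.x ^ (1 + i)), ← zpow_add, D.out_mul_out, ← zpow_natCast, ← zpow_mul, D.zpow_x_eq_one] at h3
      obtain ⟨c, hc⟩ := h3
      obtain ⟨r, rfl⟩ := hi
      simp only [CfsgLib.Inv.QDData.k] at hc
      push_cast at hc
      rw [show (2 : ℤ) ^ (d + 3) = 8 * 2 ^ d by ring, show (2 : ℤ) ^ (d + 2) = 4 * 2 ^ d by ring] at hc
      generalize (2 : ℤ) ^ d = W at hc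
      ring_nf at hc
      omega
  · simp only [CfsgLib.Inv.QDData.w] at h
    rw [← mul_assoc, ← zpow_add_one] at h
    rw [show D.x * D.y * D.x ^ ((2 : ℤ) ^ (d + 1)) = D.x ^ (1 + D.k * (2 : ℤ) ^ (d + 1)) * D.y by
      rw [← D.out_mul_pow, zpow_one]] at h
    have h1 := mul_right_cancel h
    rw [D.zpow_x_eq] at h1
    obtain ⟨c, hc⟩ := h1
    simp only [CfsgLib.Inv.QDData.k] at hc
    rw [show (2 : ℤ) ^ (d + 3) = 2 ^ (d + 1) * 4 by ring, show (2 : ℤ) ^ (d + 2) = 2 ^ (d + 1) * 2 by ring] at hc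
    have hW : (2 : ℤ) ^ (d + 1) ≠ 0 := pow_ne_zero _ two_ne_zero
    have h5 : (2 : ℤ) - 2 ^ (d + 1) * 2 = 4 * c := mul_left_cancel₀ hW (by linear_combination hc)
    rw [pow_succ] at h5
    omega

end CfsgLib.Fus.SS

namespace CfsgLib.Fus.SS

/-- The dihedral group of order four is a Klein four group. -/
def dihedralTwoEquiv : DihedralGroup 2 ≃* Multiplicative (ZMod (2 ^ 1)) × Multiplicative (ZMod (2 ^ 1)) where
  toFun g := match g with
    | .r i => (Multiplicative.ofAdd i, Multiplicative.ofAdd 0)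
    | .sr i => (Multiplicative.ofAdd i, Multiplicative.ofAdd 1)
  invFun z := if z.2.toAdd = 0 then .r z.1.toAdd else .sr z.1.toAdd
  left_inv := by decide
  right_inv := by decide
  map_mul' := by decide

end CfsgLib.Fus.SS
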