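import Cfsg.Agent.Inv.Component
import Mathlib.GroupTheory.Nilpotent
import Cfsg.Prelude.Def_ClassificationK

/-!
2-groups of symplectic type and exponent 4, and a four-group in the centralizer of an involution.
-/

set_option autoImplicit false
set_option linter.style.haveILetI false

open scoped commutatorElement

namespace CfsgLib.Fus.SymplecticFour

universe u

theorem invol_unique {T : Type*} [Group T] [Finite T] {D : Subgroup T} [IsCyclic D] {x y : T} (hx : x ∈ D)
    (hy : y ∈ D) (hx1 : orderOf x = 2) (hy1 : orderOf y = 2) : x = y := by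
  classical
  haveI := Fintype.ofFinite ↥D
  have hx' : orderOf (⟨x, hx⟩ : D) = 2 := by rw [Subgroup.orderOf_mk, hx1]
  have hy' : orderOf (⟨y, hy⟩ : D) = 2 := by rw [Subgroup.orderOf_mk, hy1]
  obtain ⟨w, hw⟩ := Finset.card_eq_one.1 ((IsCyclic.card_orderOf_eq_totient (α := ↥D) (hx' ▸ orderOf_dvd_card)).trans (by decide : Nat.totient 2 = 1))
  have h1 : (⟨x, hx⟩ : D) = w := Finset.mem_singleton.1 (hw ▸ Finset.mem_filter.2 ⟨Finset.mem_univ _, hx'⟩)
  have h2 : (⟨y, hy⟩ : D) = w := Finset.mem_singleton.1 (hw ▸ Finset.mem_filter.2 ⟨Finset.mem_univ _, hy'⟩)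
  exact congrArg Subtype.val (h1.trans h2.symm)

/-- The hypotheses on a finite group. -/
structure Hyp (T : Type*) [Group T] (z : T) : Prop where
  cyc : ∀ A : Subgroup T, A.Characteristic → IsMulCommutative A → IsCyclic A
  four : ∀ x : T, x ^ 4 = 1
  central : z ∈ Subgroup.center T
  two : orderOf z = 2

theorem Hyp.unique {T : Type*} [Group T] [Finite T] {z : T} (h : Hyp T z) {x : T} (hx : x ∈ Subgroup.center T)
    (hx2 : x ^ 2 = 1) : x = 1 ∨ x = z := by
  by_cases h1 : x = 1
  · exact Or.inl h1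
  · haveI := h.cyc (Subgroup.center T) inferInstance inferInstance
    exact Or.inr (invol_unique hx h.central (orderOf_eq_prime hx2 h1) h.two)

theorem Hyp.sq {T : Type*} [Group T] {z : T} (h : Hyp T z) : z * z = 1 := by
  rw [← pow_two, ← h.two, pow_orderOf_eq_one]

theorem Hyp.ne_one {T : Type*} [Group T] {z : T} (h : Hyp T z) : z ≠ 1 := fun e => by
  have := h.two; rw [e, orderOf_one] at this; omega

theorem Hyp.mem {T : Type*} [Group T] {z : T} (h : Hyp T z) {x : T} :
    x ∈ Subgroup.zpowers z ↔ x = 1 ∨ x = z := by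
  constructor
  · rintro ⟨k, rfl⟩
    show z ^ k = 1 ∨ z ^ k = z
    rw [← Int.ediv_mul_add_emod k 2, zpow_add, mul_comm, zpow_mul, zpow_ofNat, ← h.two, pow_orderOf_eq_one, one_zpow, one_mul]
    rcases Int.emod_two_eq_zero_or_one k with e | e <;> simp [e, h.two]
  · rintro (rfl | rfl)
    · exact one_mem _
    · exact Subgroup.mem_zpowers _

theorem Hyp.central_case {T : Type*} [Group T] [Finite T] {z : T} (h : Hyp T z)
    (hc : ∀ x y : T, ⁅x, y⁆ ∈ Subgroup.center T) :
    (∀ x y : T, ⁅x, y⁆ = 1 ∨ ⁅x, y⁆ = z) ∧ ∀ x : T, x ^ 2 = 1 ∨ x ^ 2 = z := by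
  have hcc : ∀ x y t : T, ⁅x, y⁆ * t = t * ⁅x, y⁆ := fun x y t => (Subgroup.mem_center_iff.1 (hc x y) t).symm
  have hyx : ∀ x y : T, y * x = ⁅y, x⁆ * x * y := fun x y => by rw [commutatorElement_def]; group
  have hsq : ∀ x y : T, (x * y) ^ 2 = x ^ 2 * y ^ 2 * ⁅y, x⁆ := fun x y => by
    calc (x * y) ^ 2 = x * (y * x) * y := by rw [pow_two]; group
      _ = x * ⁅y, x⁆ * x * y * y := by rw [hyx x y]; group
      _ = ⁅y, x⁆ * (x ^ 2 * y ^ 2) := by rw [← hcc, pow_two, pow_two]; group
      _ = _ := hcc _ _ _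
  have hpow : ∀ x y : T, ⁅x ^ 2, y⁆ = ⁅x, y⁆ ^ 2 := fun x y => by
    calc ⁅x ^ 2, y⁆ = x * ⁅x, y⁆ * (y * x⁻¹ * y⁻¹) := by rw [commutatorElement_def, commutatorElement_def, pow_two]; group
      _ = ⁅x, y⁆ * (x * (y * x⁻¹ * y⁻¹)) := by rw [← hcc]; group
      _ = ⁅x, y⁆ ^ 2 := by rw [pow_two, commutatorElement_def]; group
  have hc2 : ∀ x y : T, ⁅x, y⁆ ^ 2 = 1 := by
    intro x y
    have h1 : ⁅x ^ 2, y ^ 2⁆ = 1 := by
      rw [hpow, ← commutatorElement_inv, inv_pow, hpow, ← pow_mul, h.four, inv_one]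
    have h2 : (y ^ 2 * x ^ 2) ^ 2 = 1 := by
      rw [hsq, ← pow_mul, ← pow_mul, h.four, h.four, one_mul, one_mul, h1]
    have h3 : ((y * x) ^ 2) ^ 2 = 1 := by rw [← pow_mul]; exact h.four _
    rw [hsq, (show Commute (y ^ 2 * x ^ 2) ⁅x, y⁆ from (hcc x y _).symm).mul_pow, h2, one_mul] at h3
    exact h3
  refine ⟨fun x y => h.unique (hc x y) (hc2 x y), fun x => h.unique ?_ (by rw [← pow_mul]; exact h.four x)⟩
  refine Subgroup.mem_center_iff.2 fun y => ?_
  have := hpow x y
  rw [hc2, commutatorElement_eq_one_iff_mul_comm] at this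
  exact this.symm

/-- A symplectic type `2`-group of exponent `4` has squares and commutators in the subgroup of order `2`. -/
theorem main : ∀ (n : ℕ) {T : Type u} [Group T] [Finite T] {z : T}, Nat.card T ≤ n → IsPGroup 2 T → Hyp T z →
    (∀ x y : T, ⁅x, y⁆ = 1 ∨ ⁅x, y⁆ = z) ∧ ∀ x : T, x ^ 2 = 1 ∨ x ^ 2 = z := by
  intro n
  induction n with
  | zero => intro T _ _ z hn _ _; exact absurd hn (Nat.not_le.2 Nat.card_pos)
  | succ n ih =>
    intro T _ _ z hn hT h
    by_cases hcl : commutator T ≤ Subgroup.center T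
    · exact h.central_case fun x y => hcl (Subgroup.commutator_mem_commutator (Subgroup.mem_top x) (Subgroup.mem_top y))
    exfalso
    haveI := hT.isNilpotent
    classical
    obtain ⟨m, hm⟩ := Subgroup.nilpotent_iff_lowerCentralSeries.1 (inferInstance : Group.IsNilpotent T)
    have hex : ∃ k, (⊤ : Subgroup T).lowerCentralSeries k ≤ Subgroup.center T := ⟨m, hm.le.trans bot_le⟩
    obtain ⟨k, hk⟩ : ∃ k, Nat.find hex = k + 2 := by
      refine ⟨Nat.find hex - 2, ?_⟩
      rcases Nat.lt_or_ge (Nat.find hex) 2 with hlt | hge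
      · have hs := Nat.find_spec hex
        refine absurd ?_ hcl
        rw [show commutator T = (⊤ : Subgroup T).lowerCentralSeries 1 from Subgroup.top_lowerCentralSeries_one.symm]
        exact (Subgroup.lowerCentralSeries_antitone _ (by omega)).trans hs
      · omega
    have hnot : ¬ (⊤ : Subgroup T).lowerCentralSeries (k + 1) ≤ Subgroup.center T := Nat.find_min hex (by omega)
    have hnext : (⊤ : Subgroup T).lowerCentralSeries (k + 2) ≤ Subgroup.center T := hk ▸ Nat.find_spec hex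
    obtain ⟨a, ha, haZ⟩ := SetLike.not_le_iff_exists.1 hnot
    set D : Subgroup T := commutator T ⊓ Subgroup.upperCentralSeries T 2 with hD
    have hDc : D.Characteristic := inferInstance
    have hD2 : ∀ w ∈ D, ∀ y : T, ⁅w, y⁆ ∈ Subgroup.center T := fun w hw y => by
      rw [← Subgroup.upperCentralSeries_one]
      exact (Subgroup.mem_upperCentralSeries_succ_iff).1 hw.2 y
    have hDa : IsMulCommutative D := by
      have key : ∀ w ∈ D, commutator T ≤ Subgroup.centralizer ({w} : Set T) := fun w hw => by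
        refine Subgroup.commutator_le.2 fun x _ y _ => Subgroup.mem_centralizer_singleton_iff.2 ?_
        have hx : w * x * w⁻¹ = ⁅w, x⁆ * x := by rw [commutatorElement_def]; group
        have hy : w * y * w⁻¹ = ⁅w, y⁆ * y := by rw [commutatorElement_def]; group
        have hcx := Subgroup.mem_center_iff.1 (hD2 w hw x)
        have hcy := Subgroup.mem_center_iff.1 (hD2 w hw y)
        have : w * ⁅x, y⁆ * w⁻¹ = ⁅x, y⁆ := by
          calc w * ⁅x, y⁆ * w⁻¹ = ⁅w * x * w⁻¹, w * y * w⁻¹⁆ := by simp only [commutatorElement_def]; group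
            _ = ⁅⁅w, x⁆ * x, ⁅w, y⁆ * y⁆ := by rw [hx, hy]
            _ = ⁅x, y⁆ := by
              generalize ⁅w, x⁆ = c at hcx
              generalize ⁅w, y⁆ = d at hcy
              simp only [commutatorElement_def, mul_inv_rev]
              calc c * x * (d * y) * (x⁻¹ * c⁻¹) * (y⁻¹ * d⁻¹) = c * ((x * d) * y * x⁻¹) * c⁻¹ * (y⁻¹ * d⁻¹) := by group
                _ = ((x * d) * y * x⁻¹) * (y⁻¹ * d⁻¹) := by rw [← hcx, mul_inv_cancel_right]
                _ = d * (x * y * x⁻¹ * y⁻¹) * d⁻¹ := by rw [hcy x]; group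
                _ = _ := by rw [← hcy, mul_inv_cancel_right]
        exact mul_inv_eq_iff_eq_mul.1 this |>.symm
      exact ⟨⟨fun u v => Subtype.ext (Subgroup.mem_centralizer_singleton_iff.1 (key v v.2 u.2.1))⟩⟩
    haveI hDcyc : IsCyclic D := h.cyc D hDc hDa
    have haD : a ∈ D := by
      refine Subgroup.mem_inf.2 ⟨?_, ?_⟩
      · rw [show commutator T = (⊤ : Subgroup T).lowerCentralSeries 1 from Subgroup.top_lowerCentralSeries_one.symm]
        exact Subgroup.lowerCentralSeries_antitone _ (by omega) ha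
      · refine Subgroup.mem_upperCentralSeries_succ_iff.2 fun y => ?_
        rw [Subgroup.upperCentralSeries_one]
        exact hnext (Subgroup.commutator_mem_commutator ha (Subgroup.mem_top y))
    have hzD : z ∈ D := by
      obtain ⟨y, hy⟩ : ∃ y : T, ⁅a, y⁆ ≠ 1 := by
        by_contra hall
        push Not at hall
        exact haZ (Subgroup.mem_center_iff.2 fun y => (commutatorElement_eq_one_iff_mul_comm.1 (hall y)).symm)
      have hwc := hD2 a haD y
      have hwD : ⁅a, y⁆ ∈ D := by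
        rw [commutatorElement_def, show a * y * a⁻¹ * y⁻¹ = a * (y * a⁻¹ * y⁻¹) by group]
        haveI : D.Normal := Subgroup.normal_of_characteristic D
        exact mul_mem haD ((inferInstance : D.Normal).conj_mem _ (inv_mem haD) y)
      by_cases hw2 : ⁅a, y⁆ ^ 2 = 1
      · exact ((h.unique hwc hw2).resolve_left hy) ▸ hwD
      · exact ((h.unique (pow_mem hwc 2) (by rw [← pow_mul]; exact h.four _)).resolve_left hw2) ▸ pow_mem hwD 2
    have ha1 : a ≠ 1 := fun e => haZ (e ▸ one_mem _)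
    have ha2 : a ^ 2 ≠ 1 := fun e => haZ (invol_unique haD hzD (orderOf_eq_prime e ha1) h.two ▸ h.central)
    have haz : a ^ 2 = z := invol_unique (pow_mem haD 2) hzD
      (orderOf_eq_prime (by rw [← pow_mul]; exact h.four a) ha2) h.two
    have hgen : ∀ d ∈ D, d = 1 ∨ d = z ∨ d = a ∨ d = a⁻¹ := by
      obtain ⟨⟨g, hg⟩, hgg⟩ := IsCyclic.exists_generator (α := D)
      have hpw : ∀ d ∈ D, ∃ i : ℤ, g ^ i = d := fun d hd => by
        obtain ⟨i, hi⟩ := Subgroup.mem_zpowers_iff.1 (hgg ⟨d, hd⟩)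
        exact ⟨i, congrArg Subtype.val hi⟩
      have hmod : ∀ i : ℤ, g ^ i = 1 ∨ g ^ i = g ∨ g ^ i = g ^ 2 ∨ g ^ i = g⁻¹ := fun i => by
        have h4 : g ^ (4 : ℤ) = 1 := by rw [zpow_ofNat]; exact h.four g
        rw [← Int.ediv_mul_add_emod i 4, zpow_add, mul_comm (i / 4), zpow_mul, h4, one_zpow, one_mul]
        have h0 := Int.emod_nonneg i (show (4 : ℤ) ≠ 0 by norm_num)
        have h1 := Int.emod_lt_of_pos i (show (0 : ℤ) < 4 by norm_num)
        interval_cases i % 4
        · simp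
        · simp
        · right; right; left; rw [zpow_ofNat]
        · right; right; right
          rw [zpow_ofNat, eq_inv_iff_mul_eq_one, ← pow_succ]; exact h.four g
      have hga : a = g ∨ a = g⁻¹ := by
        obtain ⟨i, hi⟩ := hpw a haD
        rcases hmod i with e | e | e | e <;> rw [hi] at e
        · exact absurd e ha1
        · exact Or.inl e
        · exact absurd (by rw [e, ← pow_mul]; exact h.four g) ha2
        · exact Or.inr e
      intro d hd
      obtain ⟨i, rfl⟩ := hpw d hd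
      rcases hga with rfl | e
      · rcases hmod i with e | e | e | e <;> simp [e, haz]
      · have eg : g = a⁻¹ := by rw [e, inv_inv]
        rcases hmod i with e' | e' | e' | e'
        · exact Or.inl e'
        · right; right; right; rw [e', eg]
        · right; left; rw [e', eg, inv_pow, haz, inv_eq_of_mul_eq_one_right h.sq]
        · right; right; left; rw [e', eg, inv_inv]
    set C : Subgroup T := Subgroup.centralizer ({a} : Set T) with hC
    have hmC : ∀ {x : T}, x ∈ C ↔ x * a = a * x := Subgroup.mem_centralizer_singleton_iff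
    have hinv : ∀ x : T, x ∉ C → x * a * x⁻¹ = a⁻¹ := fun x hx => by
      haveI : D.Normal := Subgroup.normal_of_characteristic D
      rcases hgen _ ((inferInstance : D.Normal).conj_mem a haD x) with e | e | e | e
      · exact absurd (conj_eq_one_iff.1 e) ha1
      · exact absurd (by rw [← conj_eq_one_iff (a := x), ← conj_pow, e, pow_two, h.sq]) ha2
      · exact absurd (hmC.2 (mul_inv_eq_iff_eq_mul.1 e)) hx
      · exact e
    have hCc : C.Characteristic := Subgroup.characteristic_iff_map_le.2 fun φ => by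
      rintro _ ⟨x, hx, rfl⟩
      refine hmC.2 ?_
      have hφD : φ.symm a ∈ D := (Subgroup.characteristic_iff_map_le.1 hDc φ.symm) ⟨a, haD, rfl⟩
      have hxd : x * φ.symm a = φ.symm a * x := by
        have hxa : Commute x a := hmC.1 hx
        rcases hgen _ hφD with e | e | e | e <;> rw [e]
        exacts [by simp, (Subgroup.mem_center_iff.1 h.central x), hxa, hxa.inv_right]
      simpa using congrArg φ hxd
    have hlt : Nat.card C ≤ n := by
      have hne : C ≠ ⊤ := fun e => haZ (Subgroup.mem_center_iff.2 fun y => hmC.1 (e ▸ Subgroup.mem_top y))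
      rcases lt_or_eq_of_le (C.card_le_card_group) with h' | h'
      · omega
      · exact absurd (Subgroup.eq_top_of_card_eq C h') hne
    have hzC : z ∈ C := hmC.2 (Subgroup.mem_center_iff.1 h.central a).symm
    have hCH : Hyp C ⟨z, hzC⟩ := by
      refine ⟨fun A hA hAa => ?_, fun x => Subtype.ext (h.four x), Subgroup.mem_center_iff.2 fun x =>
        Subtype.ext (Subgroup.mem_center_iff.1 h.central x), by rw [Subgroup.orderOf_mk]; exact h.two⟩
      haveI := hA
      haveI := hCc
      have hmc : IsMulCommutative (A.map C.subtype) := ⟨⟨fun u v => by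
        obtain ⟨u', hu, hu'⟩ := u.2
        obtain ⟨v', hv, hv'⟩ := v.2
        exact Subtype.ext (by
          show (u : T) * v = v * u
          rw [← hu', ← hv']
          exact congrArg (fun w : A => ((w : C) : T)) (hAa.is_comm.comm ⟨u', hu⟩ ⟨v', hv⟩))⟩⟩
      haveI := h.cyc (A.map C.subtype) inferInstance hmc
      exact isCyclic_of_surjective (A.equivMapOfInjective C.subtype C.subtype_injective).symm.toMonoidHom
        (A.equivMapOfInjective C.subtype C.subtype_injective).symm.surjective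
    obtain ⟨hCcomm, hCsq⟩ := ih hlt (hT.to_subgroup C) hCH
    obtain ⟨q, hq⟩ : ∃ q, q ∉ C := by
      by_contra hall
      push Not at hall
      exact haZ (Subgroup.mem_center_iff.2 fun y => hmC.1 (hall y))
    have hidx : ∀ x, x ∉ C → q⁻¹ * x ∈ C := fun x hx => hmC.2 (by
      calc q⁻¹ * x * a = q⁻¹ * (x * a * x⁻¹) * x := by group
        _ = q⁻¹ * a⁻¹ * x := by rw [hinv x hx]
        _ = q⁻¹ * (q * a * q⁻¹) * x := by rw [hinv q hq]
        _ = a * (q⁻¹ * x) := by group)
    have hq2 : q * q ∈ C := hmC.2 (by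
      calc q * q * a = q * (q * a * q⁻¹) * q := by group
        _ = (q * a⁻¹ * q⁻¹) * (q * q) := by rw [hinv q hq]; group
        _ = a * (q * q) := by rw [show q * a⁻¹ * q⁻¹ = (q * a * q⁻¹)⁻¹ by group, hinv q hq, inv_inv])
    set Z := Subgroup.zpowers z with hZ
    haveI hZn : Z.Normal := ⟨fun x hx g => by
      obtain ⟨i, rfl⟩ := hx
      rw [(Subgroup.mem_center_iff.1 (zpow_mem h.central i) g), mul_inv_cancel_right]
      exact zpow_mem (Subgroup.mem_zpowers z) i⟩
    let π := QuotientGroup.mk' Z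
    have hπc : ∀ u ∈ C, ∀ v ∈ C, Commute (π u) (π v) := fun u hu v hv => by
      rw [← commutatorElement_eq_one_iff_commute, ← map_commutatorElement]
      refine (QuotientGroup.eq_one_iff _).2 (h.mem.2 ?_)
      rcases hCcomm ⟨u, hu⟩ ⟨v, hv⟩ with e | e
      · exact Or.inl (congrArg Subtype.val e)
      · exact Or.inr (congrArg Subtype.val e)
    have hCn : C.Normal := Subgroup.normal_of_characteristic C
    let N : Subgroup (T ⧸ Z) :=
      { carrier := {w | ∃ c ∈ C, π ⁅q, c⁆ = w}
        one_mem' := ⟨1, one_mem _, by simp⟩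
        mul_mem' := by
          rintro _ _ ⟨c, hc, rfl⟩ ⟨d, hd, rfl⟩
          refine ⟨c * d, mul_mem hc hd, ?_⟩
          have hqd : ⁅q, d⁆ ∈ C := mul_mem (hCn.conj_mem d hd q) (inv_mem hd)
          rw [show ⁅q, c * d⁆ = ⁅q, c⁆ * (c * ⁅q, d⁆ * c⁻¹) by simp only [commutatorElement_def]; group, map_mul,
            map_mul, map_mul, map_inv, (hπc c hc _ hqd).eq, mul_inv_cancel_right]
        inv_mem' := by
          rintro _ ⟨c, hc, rfl⟩
          refine ⟨c⁻¹, inv_mem hc, ?_⟩
          have hqc : ⁅q, c⁆⁻¹ ∈ C := inv_mem (mul_mem (hCn.conj_mem c hc q) (inv_mem hc))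
          rw [show ⁅q, c⁻¹⁆ = c⁻¹ * ⁅q, c⁆⁻¹ * c by simp only [commutatorElement_def]; group, map_mul, map_mul,
            (hπc c⁻¹ (inv_mem hc) _ hqc).eq, map_inv, map_inv, inv_mul_cancel_right] }
    have hqq : ∀ u ∈ C, π q * (π q * π u * (π q)⁻¹) * (π q)⁻¹ = π u := fun u hu => by
      calc _ = π (q * q) * π u * (π (q * q))⁻¹ := by rw [map_mul]; group
        _ = π u := by rw [(hπc _ hq2 u hu).eq, mul_inv_cancel_right]
    have hN : commutator T ≤ N.comap π := by
      refine Subgroup.commutator_le.2 fun x _ y _ => ?_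
      show π ⁅x, y⁆ ∈ N
      have hCC : ∀ u ∈ C, ∀ v ∈ C, π ⁅u, v⁆ ∈ N := fun u hu v hv => by
        rw [map_commutatorElement, (commutatorElement_eq_one_iff_commute).2 (hπc u hu v hv)]; exact one_mem _
      have hqC : ∀ u ∈ C, ∀ v ∈ C, π ⁅q * u, v⁆ ∈ N := fun u hu v hv => ⟨v, hv, by
        rw [show ⁅q * u, v⁆ = q * ⁅u, v⁆ * q⁻¹ * ⁅q, v⁆ by simp only [commutatorElement_def]; group, map_mul,
          map_mul, map_mul, map_commutatorElement π u v, (commutatorElement_eq_one_iff_commute).2 (hπc u hu v hv)]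
        simp⟩
      by_cases hx : x ∈ C <;> by_cases hy : y ∈ C
      · exact hCC x hx y hy
      · rw [← commutatorElement_inv, map_inv, show y = q * (q⁻¹ * y) by group]
        exact inv_mem (hqC _ (hidx y hy) x hx)
      · rw [show x = q * (q⁻¹ * x) by group]; exact hqC _ (hidx x hx) y hy
      · have hu := hidx x hx
        have hv := hidx y hy
        rw [show x = q * (q⁻¹ * x) by group, show y = q * (q⁻¹ * y) by group]
        set u := q⁻¹ * x
        set v := q⁻¹ * y
        have e : π ⁅q * u, q * v⁆ = π ⁅q, u⁆ * (π ⁅q, v⁆)⁻¹ := by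
          have h1 : π ⁅q * u, q * v⁆ = (π q * π u * (π q)⁻¹) * (π q * (π q * (π v * (π u)⁻¹) * (π q)⁻¹) * (π q)⁻¹) *
              (π q * (π v)⁻¹ * (π q)⁻¹) := by
            simp only [commutatorElement_def, map_mul, map_inv]; group
          have h2 := hqq (v * u⁻¹) (mul_mem hv (inv_mem hu))
          rw [map_mul, map_inv] at h2
          rw [h1, h2]
          have c1 : Commute (π v * (π u)⁻¹) (π q * (π v)⁻¹ * (π q)⁻¹) := by
            have := hπc _ (mul_mem hv (inv_mem hu)) _ (hCn.conj_mem _ (inv_mem hv) q)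
            simpa [map_mul, map_inv] using this
          have c2 : Commute ((π u)⁻¹) (π v) := by simpa using hπc _ (inv_mem hu) _ hv
          have c3 : Commute (π q * (π v)⁻¹ * (π q)⁻¹) (π v * (π u)⁻¹) := c1.symm
          rw [mul_assoc, c1.eq, map_commutatorElement, map_commutatorElement, ← c2.eq]
          simp only [commutatorElement_def]
          have c4 : Commute (π q * (π v)⁻¹ * (π q)⁻¹) ((π u)⁻¹) := by
            have := hπc _ (hCn.conj_mem _ (inv_mem hv) q) _ (inv_mem hu)
            simpa [map_mul, map_inv] using this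
          rw [← mul_assoc (π q * (π v)⁻¹ * (π q)⁻¹), c4.eq]
          have c5 : Commute (π q * (π v)⁻¹ * (π q)⁻¹) (π v) := by
            have := hπc _ (hCn.conj_mem _ (inv_mem hv) q) _ hv
            simpa [map_mul, map_inv] using this
          rw [mul_assoc (π u)⁻¹, c5.eq]; group
        exact ⟨u * v⁻¹, mul_mem hu (inv_mem hv), by
          rw [e]
          have hw := N.mul_mem (show π ⁅q, u⁆ ∈ N from ⟨u, hu, rfl⟩) (N.inv_mem (show π ⁅q, v⁆ ∈ N from ⟨v, hv, rfl⟩))
          rw [show ⁅q, u * v⁻¹⁆ = ⁅q, u⁆ * (u * ⁅q, v⁻¹⁆ * u⁻¹) by simp only [commutatorElement_def]; group,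
            show ⁅q, v⁻¹⁆ = v⁻¹ * ⁅q, v⁆⁻¹ * v by simp only [commutatorElement_def]; group]
          simp only [map_mul, map_inv]
          have hqv : ⁅q, v⁆⁻¹ ∈ C := inv_mem (mul_mem (hCn.conj_mem v hv q) (inv_mem hv))
          have d1 : Commute (π u * (π v)⁻¹) ((π ⁅q, v⁆)⁻¹) := by
            simpa [map_mul, map_inv] using hπc _ (mul_mem hu (inv_mem hv)) _ hqv
          calc _ = π ⁅q, u⁆ * ((π u * (π v)⁻¹) * (π ⁅q, v⁆)⁻¹ * (π u * (π v)⁻¹)⁻¹) := by group
            _ = _ := by rw [d1.eq, mul_inv_cancel_right]⟩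
    obtain ⟨c, hc, hcq⟩ := hN (Subgroup.mem_inf.1 haD).1
    set b := ⁅q, c⁆ with hb
    have hbz : b⁻¹ * a ∈ Z := QuotientGroup.eq.1 hcq
    have hbs : b = a ∨ b = a * z := by
      rcases h.mem.1 hbz with e | e
      · exact Or.inl (inv_mul_eq_one.1 e)
      · refine Or.inr ?_
        have : a = b * z := inv_mul_eq_iff_eq_mul.1 e
        rw [this, mul_assoc, h.sq, mul_one]
    have hb2 : b ^ 2 = z := by
      rcases hbs with e | e
      · rw [e, haz]
      · rw [e, (show Commute a z from Subgroup.mem_center_iff.1 h.central a).mul_pow, haz, pow_two z, h.sq, mul_one]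
    have hbC : ∀ u ∈ C, Commute b u := fun u hu => by
      have hua : Commute u a := hmC.1 hu
      rcases hbs with e | e
      · rw [e]; exact hua.symm
      · rw [e]; exact hua.symm.mul_left ((Subgroup.mem_center_iff.1 h.central u).symm)
    have h4 : (q * c) ^ 2 = b * (c * (q * q) * c) := by
      rw [hb, commutatorElement_def, pow_two]; group
    have hm : c * (q * q) * c ∈ C := mul_mem (mul_mem hc hq2) hc
    have hsq1 : (c * (q * q) * c) ^ 2 = 1 := by
      set r := q * q
      have hr : r * r = 1 := by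
        calc r * r = q ^ 4 := by simp only [r, pow_succ, pow_zero, one_mul, mul_assoc]
          _ = 1 := h.four q
      have hzc := fun t : T => Subgroup.mem_center_iff.1 h.central t
      have hcc : c * c * r = r * (c * c) := by
        rcases hCsq ⟨c, hc⟩ with e | e
        · have e' : c ^ 2 = 1 := congrArg Subtype.val e
          rw [← pow_two, e']; group
        · have e' : c ^ 2 = z := congrArg Subtype.val e
          rw [← pow_two, e', hzc]
      have hc4 : c * c * (c * c) = 1 := by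
        calc c * c * (c * c) = c ^ 4 := by simp only [pow_succ, pow_zero, one_mul, mul_assoc]
          _ = 1 := h.four c
      calc (c * r * c) ^ 2 = c * (r * (c * c)) * r * c := by rw [pow_two]; group
        _ = c * (c * c * r) * r * c := by rw [hcc]
        _ = c * (c * c) * (r * r) * c := by group
        _ = c * c * (c * c) := by rw [hr]; group
        _ = 1 := hc4
    have h5 := h.four (q * c)
    rw [show 4 = 2 * 2 from rfl, pow_mul, h4, (hbC _ hm).mul_pow, hb2, hsq1, mul_one] at h5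
    exact h.ne_one h5

universe v

variable {G : Type v} [Group G] [Finite G]

/-- The setting: `C` is the centralizer of the involution `z`, with a self-centralizing normal symplectic `Q`. -/
structure Setup (z : G) (C Q : Subgroup G) : Prop where
  cen : ∀ x, x ∈ C ↔ x * z = z * x
  le : Q ≤ C
  norm : ∀ c ∈ C, ∀ q ∈ Q, c * q * c⁻¹ ∈ Q
  self : ∀ c ∈ C, (∀ q ∈ Q, c * q = q * c) → c ∈ Q
  grp : IsPGroup 2 Q
  cyc : ∀ A : Subgroup Q, A.Characteristic → IsMulCommutative A → IsCyclic A
  four : ∀ q ∈ Q, q ^ 4 = 1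
  two : orderOf z = 2

theorem Setup.mem {z : G} {C Q : Subgroup G} (h : Setup z C Q) : z ∈ Q :=
  h.self z ((h.cen z).2 rfl) fun q hq => ((h.cen q).1 (h.le hq)).symm

theorem Setup.facts {z : G} {C Q : Subgroup G} (h : Setup z C Q) :
    (∀ x ∈ Q, ∀ y ∈ Q, ⁅x, y⁆ = 1 ∨ ⁅x, y⁆ = z) ∧ (∀ x ∈ Q, x ^ 2 = 1 ∨ x ^ 2 = z) ∧
      ∀ x ∈ Q, x ^ 2 = 1 → (∀ q ∈ Q, x * q = q * x) → x = 1 ∨ x = z := by
  have hH : Hyp Q ⟨z, h.mem⟩ := ⟨h.cyc, fun x => Subtype.ext (h.four x x.2),
    Subgroup.mem_center_iff.2 fun x => Subtype.ext ((h.cen x).1 (h.le x.2)), by rw [Subgroup.orderOf_mk]; exact h.two⟩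
  obtain ⟨h1, h2⟩ := main _ le_rfl h.grp hH
  refine ⟨fun x hx y hy => ?_, fun x hx => ?_, fun x hx hx2 hxc => ?_⟩
  · exact (h1 ⟨x, hx⟩ ⟨y, hy⟩).imp (congrArg Subtype.val) (congrArg Subtype.val)
  · exact (h2 ⟨x, hx⟩).imp (congrArg Subtype.val) (congrArg Subtype.val)
  · exact (hH.unique (Subgroup.mem_center_iff.2 fun q => Subtype.ext (hxc q q.2).symm)
      (Subtype.ext hx2 : (⟨x, hx⟩ : Q) ^ 2 = 1)).imp (congrArg Subtype.val) (congrArg Subtype.val)

theorem Setup.exists_move {z : G} {C Q : Subgroup G} (h : Setup z C Q) {v : G} (hv : v ∈ Q) (hv2 : v * v = 1)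
    (hv1 : v ≠ 1) (hvz : v ≠ z) : ∃ q ∈ Q, q * v * q⁻¹ = z * v := by
  by_contra hno
  push Not at hno
  obtain ⟨hcomm, -, huniq⟩ := h.facts
  rcases huniq v hv (by rw [pow_two]; exact hv2) (fun q hq => by
    rcases hcomm q hq v hv with e | e
    · exact (commutatorElement_eq_one_iff_mul_comm.1 e).symm
    · exact absurd (by rw [← e, commutatorElement_def]; group) (hno q hq)) with e | e
  exacts [hv1 e, hvz e]

theorem Setup.invol_centralizing {z : G} {C Q : Subgroup G} (h : Setup z C Q) {v u : G} (hv : v ∈ Q) (hv2 : v * v = 1)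
    (hv1 : v ≠ 1) (hvz : v ≠ z) (hu : u ∈ C) (hu2 : u * u = 1) (huv : u * v = v * u)
    (hW : ∀ w ∈ Q, w * v = v * w → u * w = w * u) : u = 1 ∨ u = z ∨ u = v ∨ u = z * v := by
  obtain ⟨hcomm, hsq, huniq⟩ := h.facts
  obtain ⟨q, hq, hqv⟩ := h.exists_move hv hv2 hv1 hvz
  have hzz : z * z = 1 := by rw [← pow_two, ← h.two, pow_orderOf_eq_one]
  have hzc : ∀ x ∈ C, x * z = z * x := fun x hx => (h.cen x).1 hx
  have hz1 : z ≠ 1 := fun e => by have := h.two; rw [e, orderOf_one] at this; omega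
  have hqv' : q * v = z * v * q := mul_inv_eq_iff_eq_mul.1 hqv
  have hdich : ∀ x ∈ Q, x * v = v * x ∨ x * v = z * v * x := fun x hx => by
    rcases hcomm x hx v hv with e | e
    · exact Or.inl (commutatorElement_eq_one_iff_mul_comm.1 e)
    · exact Or.inr (by rw [← e, commutatorElement_def]; group)
  have hzcomm : ∀ x ∈ Q, Commute z x := fun x hx => ((hzc x (h.le hx))).symm
  have hqmul : ∀ x ∈ Q, x * v = z * v * x → (q⁻¹ * x) * v = v * (q⁻¹ * x) := fun x hx hxv => by
    calc q⁻¹ * x * v = q⁻¹ * (z * v * q) * (q⁻¹ * x) := by rw [mul_assoc q⁻¹ x v, hxv]; group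
      _ = v * (q⁻¹ * x) := by rw [← hqv']; group
  -- elements of `Q` commuting with all of `W`
  have hCW : ∀ x ∈ Q, x * x = 1 → (∀ w ∈ Q, w * v = v * w → x * w = w * x) →
      x = 1 ∨ x = z ∨ x = v ∨ x = z * v := by
    intro x hx hx2 hxW
    have hxv : Commute x v := hxW v hv rfl
    have hall : ∀ y ∈ Q, y * v = v * y → Commute x y := hxW
    have key : ∀ y ∈ Q, Commute y q → (∀ w ∈ Q, w * v = v * w → Commute y w) → y * y = 1 → y = 1 ∨ y = z := by
      intro y hy hyq hyW hy2
      refine huniq y hy (by rw [pow_two]; exact hy2) fun t ht => ?_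
      rcases hdich t ht with e | e
      · exact hyW t ht e
      · have := hyq.mul_right (hyW _ (mul_mem (inv_mem hq) ht) (hqmul t ht e))
        rwa [mul_inv_cancel_left] at this
    rcases hcomm x hx q hq with e | e
    · rcases key x hx (commutatorElement_eq_one_iff_commute.1 e) hall hx2 with rfl | rfl
      · exact Or.inl rfl
      · exact Or.inr (Or.inl rfl)
    · have hxq : x * q = z * q * x := by rw [← e, commutatorElement_def]; group
      have hc : Commute (x * v) q := by
        show x * v * q = q * (x * v)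
        have hvq : v * q = z * (q * v) := by rw [hqv', ← mul_assoc, ← mul_assoc, hzz, one_mul]
        calc x * v * q = x * (z * (q * v)) := by rw [mul_assoc, hvq]
          _ = z * (x * q) * v := by rw [← mul_assoc, ← (hzcomm x hx).eq]; group
          _ = z * (z * q * x) * v := by rw [hxq]
          _ = (z * z) * (q * (x * v)) := by group
          _ = q * (x * v) := by rw [hzz, one_mul]
      rcases key (x * v) (mul_mem hx hv) hc (fun w hw hwv => (hall w hw hwv).mul_left hwv.symm)
        (by calc x * v * (x * v) = x * (v * x) * v := by group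
              _ = (x * x) * (v * v) := by rw [← hxv.eq]; group
              _ = 1 := by rw [hx2, hv2, one_mul]) with e' | e'
      · have hxe : x = v := by rw [← mul_one x, ← hv2, ← mul_assoc, e', one_mul]
        exact Or.inr (Or.inr (Or.inl hxe))
      · have hxe : x = z * v := by rw [← mul_one x, ← hv2, ← mul_assoc, e']
        exact Or.inr (Or.inr (Or.inr hxe))
  set e := q⁻¹ * (u * q * u⁻¹) with he
  have heQ : e ∈ Q := mul_mem (inv_mem hq) (h.norm u hu q hq)
  have huinv : u⁻¹ = u := inv_eq_of_mul_eq_one_right hu2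
  have heW : ∀ w ∈ Q, w * v = v * w → e * w = w * e := by
    intro w hw hwv
    have hwq : (q * w * q⁻¹) * v = v * (q * w * q⁻¹) := by
      have hvq : q⁻¹ * v * q = z * v := by
        have h1 : q * (z * v) * q⁻¹ = v := by
          rw [show q * (z * v) * q⁻¹ = (q * z) * v * q⁻¹ by group, ← (hzcomm q hq).eq, mul_assoc z q v, mul_assoc z, hqv,
            ← mul_assoc, hzz, one_mul]
        calc q⁻¹ * v * q = q⁻¹ * (q * (z * v) * q⁻¹) * q := by rw [h1]
          _ = z * v := by group
      calc q * w * q⁻¹ * v = q * (w * (q⁻¹ * v * q)) * q⁻¹ := by group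
        _ = q * (w * z * v) * q⁻¹ := by rw [hvq, mul_assoc w]
        _ = q * (z * (w * v)) * q⁻¹ := by rw [← (hzcomm w hw).eq, mul_assoc z w v]
        _ = q * (z * v * w) * q⁻¹ := by rw [hwv, ← mul_assoc z]
        _ = q * (q⁻¹ * v * q * w) * q⁻¹ := by rw [hvq]
        _ = v * (q * w * q⁻¹) := by group
    have hw' : Commute u w := hW w hw hwv
    have hqw : Commute u (q * w * q⁻¹) := hW _ (mul_mem (mul_mem hq hw) (inv_mem hq)) hwq
    have h3 : (u * q * u⁻¹) * w * (u * q * u⁻¹)⁻¹ = q * w * q⁻¹ := by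
      calc _ = u * q * (u⁻¹ * w * u) * q⁻¹ * u⁻¹ := by group
        _ = u * (q * w * q⁻¹) * u⁻¹ := by rw [mul_assoc u⁻¹ w, ← hw'.eq, inv_mul_cancel_left]; group
        _ = _ := by rw [hqw.eq, mul_inv_cancel_right]
    calc e * w = q⁻¹ * ((u * q * u⁻¹) * w * (u * q * u⁻¹)⁻¹) * (u * q * u⁻¹) := by rw [he]; group
      _ = w * e := by rw [h3, he]; group
  have hev : Commute e v := heW v hv rfl
  have hue : Commute u e := hW e heQ hev
  have hconj : u * q * u⁻¹ = q * e := by rw [he, mul_inv_cancel_left]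
  have he2 : e * e = 1 := by
    have h1 : u * (q * e) * u⁻¹ = q := by
      rw [← hconj, show u * (u * q * u⁻¹) * u⁻¹ = (u * u) * q * (u * u)⁻¹ by group, hu2]; simp
    rw [show u * (q * e) * u⁻¹ = (u * q * u⁻¹) * (u * e * u⁻¹) by group, hconj, hue.eq, mul_inv_cancel_right,
      mul_assoc, mul_eq_left] at h1
    exact h1
  -- finish according to the four values of `e`
  have fin : ∀ u' ∈ C, u' * u' = 1 → Commute u' q → (∀ w ∈ Q, w * v = v * w → Commute u' w) →
      u' = 1 ∨ u' = z ∨ u' = v ∨ u' = z * v := by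
    intro u' hu' hu'2 hu'q hu'W
    refine hCW u' (h.self u' hu' fun t ht => ?_) hu'2 hu'W
    rcases hdich t ht with e' | e'
    · exact hu'W t ht e'
    · have := hu'q.mul_right (hu'W _ (mul_mem (inv_mem hq) ht) (hqmul t ht e'))
      rwa [mul_inv_cancel_left] at this
  have hsqq : ∀ e', e' = v ∨ e' = z * v → u * q * u⁻¹ = q * e' → False := by
    intro e' he' hcj
    have hq2 : u * (q * q) * u⁻¹ = q * q := by
      have hc : Commute u (q * q) := by
        rcases hsq q hq with e2 | e2 <;> rw [pow_two] at e2 <;> rw [e2]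
        · exact Commute.one_right u
        · exact hzc u hu
      rw [hc.eq, mul_inv_cancel_right]
    rw [show u * (q * q) * u⁻¹ = (u * q * u⁻¹) * (u * q * u⁻¹) by group, hcj, mul_assoc, mul_right_inj] at hq2
    have he'q : q * e' = z * (e' * q) := by
      rcases he' with rfl | rfl
      · rw [hqv', mul_assoc]
      · rw [← mul_assoc q, ← (hzcomm q hq).eq, mul_assoc z q, hqv']
    have he'2 : e' * e' = 1 := by
      rcases he' with rfl | rfl
      · exact hv2
      · rw [mul_assoc, ← mul_assoc v, ← (hzcomm v hv).eq, mul_assoc z, hv2, mul_one, hzz]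
    have : q * z = q := by
      calc q * z = z * q := (hzcomm q hq).eq.symm
        _ = z * ((e' * e') * q) := by rw [he'2, one_mul]
        _ = e' * (q * e') := by
          rw [he'q, ← mul_assoc e' z, show e' * z = z * e' from hzc e' (h.le (by
            rcases he' with rfl | rfl; exacts [hv, mul_mem h.mem hv]))]
          group
        _ = q := hq2
    exact hz1 (mul_eq_left.1 this)
  rcases hCW e heQ he2 heW with e0 | e0 | e0 | e0
  · exact fin u hu hu2 (show u * q = q * u by
      rw [e0, mul_one] at hconj; exact mul_inv_eq_iff_eq_mul.1 hconj) hW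
  · have hcu : Commute (u * v) q := by
      show u * v * q = q * (u * v)
      rw [e0] at hconj
      have hvq : v * q = z * (q * v) := by rw [hqv', ← mul_assoc, ← mul_assoc, hzz, one_mul]
      calc u * v * q = u * (z * (q * v)) := by rw [mul_assoc, hvq]
        _ = z * ((u * q * u⁻¹) * u) * v := by rw [← mul_assoc, hzc u hu]; group
        _ = z * (q * z) * u * v := by rw [hconj]; group
        _ = z * z * (q * (u * v)) := by rw [← (hzcomm q hq).eq]; group
        _ = q * (u * v) := by rw [hzz, one_mul]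
    have hzv2 : z * v * (z * v) = 1 := by rw [mul_assoc, ← mul_assoc v, ← (hzcomm v hv).eq, mul_assoc z, hv2, mul_one, hzz]
    rcases fin (u * v) (mul_mem hu (h.le hv)) (by
      rw [mul_assoc, ← mul_assoc v, ← huv, mul_assoc u v, hv2, mul_one, hu2]) hcu
      (fun w hw hwv => (show Commute u w from hW w hw hwv).mul_left hwv.symm) with e1 | e1 | e1 | e1
    · right; right; left; rw [← mul_one u, ← hv2, ← mul_assoc, e1, one_mul]
    · right; right; right; rw [← mul_one u, ← hv2, ← mul_assoc, e1]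
    · left; exact mul_eq_right.1 e1
    · right; left; exact mul_right_cancel e1
  · exact (hsqq v (Or.inl rfl) (e0 ▸ hconj)).elim
  · exact (hsqq (z * v) (Or.inr rfl) (e0 ▸ hconj)).elim

/-- The main statement. -/
theorem symmetric {z g : G} {C Q : Subgroup G} (h : Setup z C Q) (hne : g * z * g⁻¹ ≠ z) (hin : g * z * g⁻¹ ∈ Q) :
    z ∈ Q.map (MulAut.conj g).toMonoidHom ∧
      ∀ u ∈ Subgroup.closure ({z, g * z * g⁻¹} : Set G), ∀ v ∈ Subgroup.closure ({z, g * z * g⁻¹} : Set G),
        u ≠ 1 → v ≠ 1 → u ≠ v →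
          ∃ x ∈ Q ⊔ Q.map (MulAut.conj g).toMonoidHom, x * z * x⁻¹ = u ∧ x * (g * z * g⁻¹) * x⁻¹ = v := by
  set z' := g * z * g⁻¹ with hz'
  have hzz : z * z = 1 := by rw [← pow_two, ← h.two, pow_orderOf_eq_one]
  have hz'2 : z' * z' = 1 := by
    calc z' * z' = g * (z * z) * g⁻¹ := by rw [hz']; group
      _ = 1 := by rw [hzz]; group
  have hz'1 : z' ≠ 1 := fun e => by
    have := h.two
    rw [conj_eq_one_iff.1 e, orderOf_one] at this; omega
  have hzz' : Commute z z' := ((h.cen z').1 (h.le hin)).symm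
  obtain ⟨q, hq, hqv⟩ := h.exists_move hin hz'2 hz'1 hne
  set D := C ⊓ Subgroup.centralizer ({z'} : Set G) with hD
  set W := Q ⊓ Subgroup.centralizer ({z'} : Set G) with hW
  haveI : Fact (Nat.Prime 2) := ⟨Nat.prime_two⟩
  obtain ⟨T, hWT⟩ := (((h.grp.to_le inf_le_left : IsPGroup 2 W)).comap_of_injective D.subtype D.subtype_injective).exists_le_sylow
  set T₁ := (T : Subgroup D).map D.subtype with hT₁
  have hT₁p : IsPGroup 2 T₁ := T.2.map _
  have hWT₁ : W ≤ T₁ := fun w hw => ⟨⟨w, Subgroup.mem_inf.2 ⟨h.le hw.1, hw.2⟩⟩, hWT hw, rfl⟩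
  have hzT₁ : z ∈ T₁ := hWT₁ (Subgroup.mem_inf.2 ⟨h.mem, Subgroup.mem_centralizer_singleton_iff.2 hzz'.eq⟩)
  have hmax : ∀ K : Subgroup G, IsPGroup 2 K → T₁ ≤ K → K ≤ D → K ≤ T₁ := fun K hK hle hKD => by
    have := T.3 (hK.comap_of_injective D.subtype D.subtype_injective) fun t ht => hle ⟨t, ht, rfl⟩
    intro k hk
    exact ⟨⟨k, hKD hk⟩, this.le hk, rfl⟩
  obtain ⟨P, hP⟩ := (hT₁p.comap_of_injective (Subgroup.centralizer ({z'} : Set G)).subtype
    (Subgroup.subtype_injective _)).exists_le_sylow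
  set T' := (P : Subgroup _).map (Subgroup.centralizer ({z'} : Set G)).subtype with hT'
  have hT'p : IsPGroup 2 T' := P.2.map _
  have hT₁D : T₁ ≤ D := Subgroup.map_subtype_le _
  have hle : T₁ ≤ T' := fun t ht => ⟨⟨t, (Subgroup.mem_inf.1 (hT₁D ht)).2⟩, hP ht, rfl⟩
  have hlt : T₁ ≠ T' := by
    intro heq
    -- the two centralizers are conjugate, so `T₁` would contain `Q`
    have hcardeq : Nat.card (Subgroup.centralizer ({z'} : Set G)) = Nat.card C := by
      refine (Nat.card_congr ((MulAut.conj g).toEquiv.subtypeEquiv fun x => ?_)).symm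
      rw [h.cen, Subgroup.mem_centralizer_singleton_iff]
      show _ ↔ g * x * g⁻¹ * (g * z * g⁻¹) = g * z * g⁻¹ * (g * x * g⁻¹)
      rw [show g * x * g⁻¹ * (g * z * g⁻¹) = g * (x * z) * g⁻¹ by group,
        show g * z * g⁻¹ * (g * x * g⁻¹) = g * (z * x) * g⁻¹ by group, mul_left_inj, mul_right_inj]
    have hT₁C : T₁ ≤ C := hT₁D.trans inf_le_left
    have hQT : IsPGroup 2 (T₁ ⊔ Q : Subgroup G) :=
      hT₁p.to_sup_of_normal_right' h.grp (hT₁C.trans fun c hc => Subgroup.mem_normalizer_iff.2 fun x =>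
        ⟨h.norm c hc x, fun hx => by simpa [mul_assoc] using h.norm c⁻¹ (inv_mem hc) _ hx⟩)
    obtain ⟨k, hk⟩ := IsPGroup.iff_card.1 hQT
    have h1 : 2 ^ k ∣ Nat.card (Subgroup.centralizer ({z'} : Set G)) := by
      rw [hcardeq, ← hk]; exact Subgroup.card_dvd_of_le (sup_le hT₁C h.le)
    have h2 : Nat.card T₁ = 2 ^ (Nat.card (Subgroup.centralizer ({z'} : Set G))).factorization 2 := by
      rw [heq, hT', Subgroup.card_map_of_injective (Subgroup.subtype_injective _)]
      exact P.card_eq_multiplicity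
    have h3 : Nat.card (T₁ ⊔ Q : Subgroup G) ≤ Nat.card T₁ := by
      rw [h2, hk]
      exact Nat.pow_le_pow_right (by norm_num) ((Nat.Prime.pow_dvd_iff_le_factorization Nat.prime_two Nat.card_pos.ne').1 h1)
    have h4 : q ∈ T₁ := (Subgroup.eq_of_le_of_card_ge le_sup_left h3).ge (Subgroup.mem_sup_right hq)
    have h5 := Subgroup.mem_centralizer_singleton_iff.1 (Subgroup.mem_inf.1 (hT₁D h4)).2
    rw [h5, mul_inv_cancel_right] at hqv
    have hz1 : z = 1 := right_eq_mul.1 hqv
    have := h.two; rw [hz1, orderOf_one] at this; omega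
  haveI := hT'p.isNilpotent
  have hlt' : T₁.subgroupOf T' < ⊤ := by
    rw [lt_top_iff_ne_top, Ne, Subgroup.subgroupOf_eq_top]
    exact fun e => hlt (le_antisymm hle e)
  obtain ⟨⟨y, hyT'⟩, hyN, hyT₁⟩ := SetLike.exists_of_lt (normalizerCondition_of_isNilpotent (G := T') _ hlt')
  have hyz' : Commute y z' := Subgroup.mem_centralizer_singleton_iff.1 (Subgroup.map_subtype_le _ hyT')
  have hyconj : ∀ t ∈ T₁, y * t * y⁻¹ ∈ T₁ := fun t ht => (Subgroup.mem_normalizer_iff.1 hyN ⟨t, hle ht⟩).1 ht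
  have hyconj' : ∀ t ∈ T₁, y⁻¹ * t * y ∈ T₁ := fun t ht => by
    have := (Subgroup.mem_normalizer_iff.1 (inv_mem hyN) ⟨t, hle ht⟩).1 ht
    simpa [Subgroup.mem_subgroupOf] using this
  have hyzne : ¬ Commute y z := fun hc => hyT₁ (by
    have hsub : IsPGroup 2 (T₁ ⊔ Subgroup.zpowers y : Subgroup G) := hT'p.to_le (sup_le hle (Subgroup.zpowers_le.2 hyT'))
    have := hmax _ hsub le_sup_left (sup_le hT₁D (Subgroup.zpowers_le.2 (Subgroup.mem_inf.2
      ⟨(h.cen y).2 hc, Subgroup.mem_centralizer_singleton_iff.2 hyz'⟩)))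
    exact this (Subgroup.mem_sup_right (Subgroup.mem_zpowers y)))
  have hyz : y * z * y⁻¹ = z * z' := by
    have hyT := hyconj z hzT₁
    rcases h.invol_centralizing hin hz'2 hz'1 hne (u := y * z * y⁻¹) ((hT₁D hyT).1)
      (by calc y * z * y⁻¹ * (y * z * y⁻¹) = y * (z * z) * y⁻¹ := by group
            _ = 1 := by rw [hzz]; group)
      (Subgroup.mem_centralizer_singleton_iff.1 (hT₁D hyT).2) (fun w hw hwz => by
        have hwT := hyconj' w (hWT₁ (Subgroup.mem_inf.2 ⟨hw, Subgroup.mem_centralizer_singleton_iff.2 hwz⟩))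
        have hc := (h.cen _).1 (hT₁D hwT).1
        calc y * z * y⁻¹ * w = y * (z * (y⁻¹ * w * y)) * y⁻¹ := by group
          _ = y * ((y⁻¹ * w * y) * z) * y⁻¹ := by rw [hc]
          _ = w * (y * z * y⁻¹) := by group) with e | e | e | e
    · exact absurd (conj_eq_one_iff.1 e) (fun e' => by have := h.two; rw [e', orderOf_one] at this; omega)
    · exact absurd (mul_inv_eq_iff_eq_mul.1 e) hyzne
    · exfalso
      refine hne ?_
      calc z' = y⁻¹ * (z' * y) := by rw [← hyz'.eq, inv_mul_cancel_left]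
        _ = z := by rw [← e]; group
    · exact e
  have hz'z : q * z * q⁻¹ = z := by rw [(h.cen q).1 (h.le hq), mul_inv_cancel_right]
  have hy' : y * z' * y⁻¹ = z' := by rw [hyz'.eq, mul_inv_cancel_right]
  have hmulconj : ∀ x a b : G, x * (a * b) * x⁻¹ = (x * a * x⁻¹) * (x * b * x⁻¹) := fun x a b => by group
  -- an element exchanging `z` and `z'`
  set x := y * q * y with hx
  have hxz : x * z * x⁻¹ = z' := by
    calc x * z * x⁻¹ = y * (q * (y * z * y⁻¹) * q⁻¹) * y⁻¹ := by rw [hx]; group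
      _ = y * (z * (z * z')) * y⁻¹ := by rw [hyz, hmulconj q z z', hz'z, hqv]
      _ = z' := by rw [← mul_assoc z z, hzz, one_mul, hy']
  have hxz' : x * z' * x⁻¹ = z := by
    calc x * z' * x⁻¹ = y * (q * (y * z' * y⁻¹) * q⁻¹) * y⁻¹ := by rw [hx]; group
      _ = y * (z * z') * y⁻¹ := by rw [hy', hqv]
      _ = z * z' * z' := by rw [hmulconj y z z', hyz, hy']
      _ = z := by rw [mul_assoc, hz'2, mul_one]
  have hgx : g⁻¹ * x ∈ C := (h.cen _).2 (by
    calc g⁻¹ * x * z = g⁻¹ * (x * z * x⁻¹) * x := by group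
      _ = z * (g⁻¹ * x) := by rw [hxz, hz']; group)
  have hzR : z ∈ Q.map (MulAut.conj g).toMonoidHom := by
    refine ⟨(g⁻¹ * x) * z' * (g⁻¹ * x)⁻¹, h.norm _ hgx _ hin, ?_⟩
    show g * ((g⁻¹ * x) * z' * (g⁻¹ * x)⁻¹) * g⁻¹ = z
    calc _ = x * z' * x⁻¹ := by group
      _ = z := hxz'
  refine ⟨hzR, ?_⟩
  obtain ⟨w, hwQ, hw⟩ := hzR
  have hw' : g * w * g⁻¹ = z := hw
  have hw2 : w * w = 1 := by
    calc w * w = g⁻¹ * ((g * w * g⁻¹) * (g * w * g⁻¹)) * g := by group
      _ = 1 := by rw [hw', hzz]; group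
  obtain ⟨q1, hq1, hq1w⟩ := h.exists_move hwQ hw2
    (fun e => by have := h.two; rw [← hw', e, mul_one, mul_inv_cancel, orderOf_one] at this; omega)
    (fun e => hne (by show g * z * g⁻¹ = z; rw [← e, hw']; exact e.symm))
  set r := g * q1 * g⁻¹ with hr
  have hrz : r * z * r⁻¹ = z * z' := by
    calc r * z * r⁻¹ = g * (q1 * w * q1⁻¹) * g⁻¹ := by rw [hr, ← hw']; group
      _ = z' * z := by rw [hq1w, hmulconj, hw']
      _ = z * z' := hzz'.eq.symm
  have hrz' : r * z' * r⁻¹ = z' := by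
    calc r * z' * r⁻¹ = g * (q1 * z * q1⁻¹) * g⁻¹ := by rw [hr, hz']; group
      _ = z' := by rw [(h.cen q1).1 (h.le hq1), mul_inv_cancel_right]
  set X := Q ⊔ Q.map (MulAut.conj g).toMonoidHom
  have hqX : q ∈ X := Subgroup.mem_sup_left hq
  have hrX : r ∈ X := Subgroup.mem_sup_right ⟨q1, hq1, rfl⟩
  have hV : ∀ u ∈ Subgroup.closure ({z, z'} : Set G), u = 1 ∨ u = z ∨ u = z' ∨ u = z * z' := by
    intro u hu
    have hc : z' * z = z * z' := hzz'.eq.symm
    have hc2 : z * (z * z') = z' := by rw [← mul_assoc, hzz, one_mul]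
    have hc3 : z' * (z * z') = z := by rw [← mul_assoc, hc, mul_assoc, hz'2, mul_one]
    induction hu using Subgroup.closure_induction with
    | mem s hs => rcases hs with hs | hs <;> simp_all
    | one => simp
    | mul a b _ _ ha hb =>
      rcases ha with ea | ea | ea | ea <;> rcases hb with eb | eb | eb | eb <;>
        simp [ea, eb, mul_assoc, hzz, hz'2, hc, hc2, hc3]
    | inv a _ ha =>
      rcases ha with ea | ea | ea | ea <;>
        simp [ea, inv_eq_of_mul_eq_one_right hzz, inv_eq_of_mul_eq_one_right hz'2, hc]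
  have hbig : ∀ s t : G, (s * t) * z * (s * t)⁻¹ = s * (t * z * t⁻¹) * s⁻¹ ∧
      (s * t) * z' * (s * t)⁻¹ = s * (t * z' * t⁻¹) * s⁻¹ := fun s t => ⟨by group, by group⟩
  have hqzz : q * (z * z') * q⁻¹ = z' := by rw [hmulconj, hz'z, hqv, ← mul_assoc, hzz, one_mul]
  have hrzz : r * (z * z') * r⁻¹ = z := by rw [hmulconj, hrz, hrz', mul_assoc, hz'2, mul_one]
  intro u hu v hv hu1 hv1 huv
  rcases (hV u hu).resolve_left hu1 with eu | eu | eu <;>
    rcases (hV v hv).resolve_left hv1 with ev | ev | ev <;> rw [eu, ev] at huv ⊢ <;> try exact absurd rfl huv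
  · exact ⟨1, one_mem _, by simp, by simp⟩
  · exact ⟨q, hqX, hz'z, hqv⟩
  · refine ⟨r * q * r, mul_mem (mul_mem hrX hqX) hrX, ?_, ?_⟩
    · rw [(hbig _ _).1, hrz, show r * q * (z * z') * (r * q)⁻¹ = r * (q * (z * z') * q⁻¹) * r⁻¹ by group, hqzz, hrz']
    · rw [(hbig _ _).2, hrz', (hbig _ _).2, hqv, hrzz]
  · refine ⟨q * r, mul_mem hqX hrX, ?_, ?_⟩
    · rw [(hbig _ _).1, hrz, hqzz]
    · rw [(hbig _ _).2, hrz', hqv]
  · refine ⟨r * q, mul_mem hrX hqX, ?_, ?_⟩
    · rw [(hbig _ _).1, hz'z, hrz]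
    · rw [(hbig _ _).2, hqv, hrzz]
  · exact ⟨r, hrX, hrz, hrz'⟩

end CfsgLib.Fus.SymplecticFour
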