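import Cfsg.Agent.Fus.CyclicSelfCentralizing
import Cfsg.Agent.Solv.PGroups
import Cfsg.Agent.Solv.ClassTwo
import Cfsg.Agent.Solv.FittingBasic
import Cfsg.Agent.OddLocal.GoodSub

/-!
p-groups of symplectic type: central product of an extraspecial group and a group of cyclic or dihedral kind.
-/

set_option autoImplicit false
set_option linter.style.haveILetI false

namespace CfsgLib.Fus.SymplecticType

open scoped commutatorElement
open CfsgLib.Solv

variable {G : Type*} [Group G] [Finite G] {p : ℕ} [hp : Fact p.Prime]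

theorem mem_of_cyclic {A : Subgroup G} (hA : IsCyclic A) {u z : G} (hu : u ∈ A) (hz : z ∈ A) (hup : u ^ p = 1)
    (hzp : z ^ p = 1) (hz1 : z ≠ 1) : u ∈ Subgroup.zpowers z := by
  haveI := hA
  have hab : ∀ a ∈ A, ∀ b ∈ A, a * b = b * a := fun a ha b hb =>
    congrArg Subtype.val ((IsCyclic.isMulCommutative (α := A)).is_comm.comm ⟨a, ha⟩ ⟨b, hb⟩)
  let F : Subgroup G :=
    { carrier := {x | x ∈ A ∧ x ^ p = 1}
      one_mem' := ⟨one_mem _, one_pow _⟩
      mul_mem' := fun {x y} hx hy => ⟨mul_mem hx.1 hy.1, by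
        rw [Commute.mul_pow (hab x hx.1 y hy.1), hx.2, hy.2, one_mul]⟩
      inv_mem' := fun {x} hx => ⟨inv_mem hx.1, by rw [inv_pow, hx.2, inv_one]⟩ }
  have h1 := CfsgLib.OddLocal.GoodSub.card_le_of_isCyclic (E := F) (fun e he => he.2)
    (Subgroup.isCyclic_of_le (show F ≤ A from fun x hx => hx.1))
  have h2 : Nat.card (Subgroup.zpowers z) = p := by rw [Nat.card_zpowers]; exact orderOf_eq_prime hzp hz1
  have h3 : Subgroup.zpowers z = F := Subgroup.eq_of_le_of_card_ge (Subgroup.zpowers_le.2 ⟨hz, hzp⟩) (h2 ▸ h1)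
  rw [h3]; exact ⟨hu, hup⟩

/-- Pairing bound. -/
theorem card_bound (hG : IsPGroup p G) {z₁ : G} (hz₁c : z₁ ∈ Subgroup.center G) (hz₁ : z₁ ^ p = 1) (hz₁1 : z₁ ≠ 1)
    (B X T : Subgroup G) (hBX : ∀ b ∈ B, ∀ x ∈ X, Commute b x)
    (hT : ∀ k ∈ T, ∀ x ∈ X, ⁅k, x⁆ ∈ Subgroup.zpowers z₁) :
    ∀ (m : ℕ) (K : Subgroup G), Nat.card K ≤ m → B ≤ K → K ≤ T →
      Nat.card X * Nat.card B ≤ Nat.card ↥(X ⊓ Subgroup.centralizer (K : Set G)) * Nat.card K := by
  classical
  intro m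
  induction m with
  | zero => intro K hK; have := Nat.card_pos (α := K); omega
  | succ m ih =>
    intro K hK hBK hKT
    by_cases hKB : K = B
    · subst hKB
      rw [inf_eq_left.2 fun x hx => Subgroup.mem_centralizer_iff.2 fun b hb => (hBX b hb x hx).eq]
    obtain ⟨M, hBM, hM⟩ := Finite.exists_le_maximal (p := fun M : Subgroup G => B ≤ M ∧ M < K) (a := B)
      ⟨le_rfl, lt_of_le_of_ne hBK (Ne.symm hKB)⟩
    obtain ⟨k, hkK, hkM⟩ := SetLike.exists_of_lt hM.1.2
    have hgen : M ⊔ Subgroup.zpowers k = K := by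
      by_contra hne
      have h := hM.2 (y := M ⊔ Subgroup.zpowers k) ⟨hM.1.1.trans le_sup_left,
        lt_of_le_of_ne (sup_le hM.1.2.le (Subgroup.zpowers_le.2 hkK)) hne⟩ le_sup_left
      exact hkM (h (Subgroup.mem_sup_right (Subgroup.mem_zpowers k)))
    obtain ⟨a, ha⟩ := (hG.to_subgroup M).exists_card_eq
    obtain ⟨b, hb⟩ := (hG.to_subgroup K).exists_card_eq
    have hab : a < b := by
      by_contra hab
      exact hM.1.2.ne (Subgroup.eq_of_le_of_card_ge hM.1.2.le (by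
        rw [ha, hb]; exact Nat.pow_le_pow_right hp.out.pos (by omega)))
    have hMp : Nat.card M * p ≤ Nat.card K := by
      rw [ha, hb, ← pow_succ]; exact Nat.pow_le_pow_right hp.out.pos hab
    have hMK : Nat.card M < Nat.card K := by
      have h1 : 0 < Nat.card M := Nat.card_pos
      nlinarith [hp.out.two_le]
    have h1 := ih M (by omega) hM.1.1 (hM.1.2.le.trans hKT)
    set Y := X ⊓ Subgroup.centralizer (M : Set G)
    let f : ↥Y →* G :=
      { toFun := fun x => ⁅k, (x : G)⁆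
        map_one' := by simp
        map_mul' := fun x y => by
          have hy : ∀ g : G, g * ⁅k, (y : G)⁆ = ⁅k, (y : G)⁆ * g := fun g =>
            Subgroup.mem_center_iff.1 (Subgroup.zpowers_le.2 hz₁c (hT k (hKT hkK) _ y.2.1)) g
          calc ⁅k, ((x * y : ↥Y) : G)⁆ = ⁅k, (x : G)⁆ * ((x : G) * ⁅k, (y : G)⁆ * (x : G)⁻¹) := by
                rw [Subgroup.coe_mul]; simp [commutatorElement_def, mul_assoc]
            _ = _ := by rw [hy, mul_inv_cancel_right] }
    have hrange : Nat.card f.range ≤ p := by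
      refine (Subgroup.card_le_of_le (show f.range ≤ Subgroup.zpowers z₁ from ?_)).trans ?_
      · rintro _ ⟨x, rfl⟩; exact hT k (hKT hkK) _ x.2.1
      · rw [Nat.card_zpowers, orderOf_eq_prime hz₁ hz₁1]
    have hker : Nat.card f.ker ≤ Nat.card ↥(X ⊓ Subgroup.centralizer (K : Set G)) := by
      rw [← Subgroup.card_map_of_injective (K := f.ker) Y.subtype_injective]
      refine Subgroup.card_le_of_le ?_
      rintro _ ⟨x, hx, rfl⟩
      refine ⟨x.2.1, ?_⟩
      rw [← hgen, Subgroup.zpowers_eq_closure, ← Subgroup.closure_eq M, ← Subgroup.closure_union,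
        Subgroup.centralizer_closure]
      refine Subgroup.mem_centralizer_iff.2 ?_
      rintro y (hy | rfl)
      · exact Subgroup.mem_centralizer_iff.1 x.2.2 y hy
      · exact commutatorElement_eq_one_iff_mul_comm.1 hx
    have hY : Nat.card Y = Nat.card f.ker * Nat.card f.range := by
      rw [← Subgroup.card_mul_index f.ker, Subgroup.index_ker]
    calc Nat.card X * Nat.card B ≤ Nat.card Y * Nat.card M := h1
      _ = Nat.card f.ker * (Nat.card f.range * Nat.card M) := by rw [hY]; ring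
      _ ≤ Nat.card ↥(X ⊓ Subgroup.centralizer (K : Set G)) * Nat.card K :=
        Nat.mul_le_mul hker (by nlinarith)

theorem comm_eq_sq (a b : G) : ⁅a, b⁆ = a ^ 2 * (a⁻¹ * b) ^ 2 * (b⁻¹) ^ 2 := by
  simp [commutatorElement_def, pow_two, mul_assoc]

theorem isExtraspecial_of (hG : IsPGroup p G) {z₁ : G} (hz₁c : z₁ ∈ Subgroup.center G) (hz₁ : z₁ ^ p = 1)
    (hz₁1 : z₁ ≠ 1) (H : Subgroup G) (hzH : z₁ ∈ H)
    (hcen : ∀ x ∈ H, (∀ y ∈ H, x * y = y * x) → x ∈ Subgroup.zpowers z₁)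
    (hcomm : ∀ x ∈ H, ∀ y ∈ H, ⁅x, y⁆ ∈ Subgroup.zpowers z₁) (hpow : ∀ x ∈ H, x ^ p ∈ Subgroup.zpowers z₁)
    (hne : ∃ x ∈ H, ∃ y ∈ H, ⁅x, y⁆ ≠ 1) : Cfsg.IsExtraspecial p ↥H := by
  have hmap : (Subgroup.center ↥H).map H.subtype = Subgroup.zpowers z₁ := by
    refine le_antisymm ?_ (Subgroup.zpowers_le.2 ⟨⟨z₁, hzH⟩, Subgroup.mem_center_iff.2 fun y => Subtype.ext
      (Subgroup.mem_center_iff.1 hz₁c y), rfl⟩)
    rintro _ ⟨x, hx, rfl⟩
    exact hcen x x.2 fun y hy => (congrArg Subtype.val (Subgroup.mem_center_iff.1 hx ⟨y, hy⟩)).symm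
  have hcard : Nat.card (Subgroup.center ↥H) = p := by
    rw [← Subgroup.card_map_of_injective (K := Subgroup.center ↥H) H.subtype_injective, hmap, Nat.card_zpowers,
      orderOf_eq_prime hz₁ hz₁1]
  have hmem : ∀ x : ↥H, (x : G) ∈ Subgroup.zpowers z₁ → x ∈ Subgroup.center ↥H := fun x hx => by
    rw [← hmap] at hx
    obtain ⟨c, hc, he⟩ := hx
    rwa [← Subtype.ext he]
  have hle : commutator ↥H ≤ Subgroup.center ↥H := by
    rw [commutator_def, Subgroup.commutator_le]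
    exact fun x _ y _ => hmem _ (hcomm x x.2 y y.2)
  have hce : commutator ↥H = Subgroup.center ↥H := by
    refine Subgroup.eq_of_le_of_card_ge hle ?_
    obtain ⟨k, hk⟩ := ((hG.to_subgroup H).to_subgroup (commutator ↥H)).exists_card_eq
    rw [hcard, hk]
    refine Nat.le_self_pow (fun e => ?_) p
    rw [e, pow_zero] at hk
    obtain ⟨x, hx, y, hy, hxy⟩ := hne
    have h := Subgroup.commutator_mem_commutator (Subgroup.mem_top (⟨x, hx⟩ : ↥H)) (Subgroup.mem_top ⟨y, hy⟩)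
    rw [← commutator_def, Subgroup.eq_bot_of_card_eq _ hk, Subgroup.mem_bot] at h
    exact hxy (congrArg Subtype.val h)
  refine ⟨⟨hG.to_subgroup H, le_antisymm ?_ ?_, hce⟩, hcard⟩
  · exact frattini_le_of_elementary (p := p) _ hle fun x => hmem _ (hpow x x.2)
  · rw [← hce]; exact commutator_le_frattini (hG.to_subgroup H)

/-- The small case: a dihedral or quaternion factor of order `8`. -/
theorem small_extraspecial (hG : IsPGroup 2 G) (E R Z : Subgroup G) {z₁ : G} (hz₁c : z₁ ∈ Subgroup.center G)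
    (hz₁ : z₁ ^ 2 = 1) (hz₁1 : z₁ ≠ 1) (hz₁Z : z₁ ∈ Z) (hZR : Z ≤ R) (hZ : IsCyclic Z) (hZc : Nat.card Z = 4)
    (hRc : Nat.card R = 8) (hRZ : ∀ r ∈ R, (∀ z ∈ Z, z * r = r * z) → r ∈ Z)
    (hRn : ∀ r ∈ R, ∀ z ∈ Z, r * z * r⁻¹ ∈ Z) (hcomm : ∀ e ∈ E, ∀ r ∈ R, e * r = r * e)
    (hEs : ∀ e ∈ E, e ^ 2 ∈ Subgroup.zpowers z₁)
    (hEc : ∀ e ∈ E, (∀ y ∈ E, e * y = y * e) → e ∈ Subgroup.zpowers z₁) (hsup : E ⊔ R = ⊤) :
    Cfsg.IsExtraspecial 2 ↥(⊤ : Subgroup G) := by
  haveI := hZ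
  have hZab : ∀ a ∈ Z, ∀ b ∈ Z, a * b = b * a := fun a ha b hb =>
    congrArg Subtype.val ((IsCyclic.isMulCommutative (α := Z)).is_comm.comm ⟨a, ha⟩ ⟨b, hb⟩)
  have hgen : ∀ u ∈ Z, u ^ 2 ≠ 1 → Subgroup.zpowers u = Z := by
    intro u hu hu2
    refine Subgroup.eq_of_le_of_card_ge (Subgroup.zpowers_le.2 hu) ?_
    have h4 : u ^ (2 ^ (1 + 1)) = 1 := by
      have := pow_card_eq_one' (x := (⟨u, hu⟩ : Z))
      rw [hZc] at this
      exact congrArg Subtype.val this
    rw [hZc, Nat.card_zpowers, orderOf_eq_prime_pow (p := 2) (n := 1) (by rwa [pow_one]) h4]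
    norm_num
  have hZsq : ∀ u ∈ Z, u ^ 2 ∈ Subgroup.zpowers z₁ := fun u hu =>
    mem_of_cyclic (p := 2) hZ (pow_mem hu 2) hz₁Z (by
      have := pow_card_eq_one' (x := (⟨u, hu⟩ : Z))
      rw [hZc] at this
      rw [← pow_mul]; exact congrArg Subtype.val this) hz₁ hz₁1
  have hz₁R : Subgroup.zpowers z₁ ≤ R := Subgroup.zpowers_le.2 (hZR hz₁Z)
  haveI : (Z.subgroupOf R).Normal := ⟨fun z hz r => by
    rw [Subgroup.mem_subgroupOf] at hz ⊢
    exact hRn r r.2 z hz⟩
  have hRsq : ∀ r ∈ R, r ^ 2 ∈ Subgroup.zpowers z₁ := by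
    intro r hr
    by_cases hrZ : r ∈ Z
    · exact hZsq r hrZ
    have hidx : (Z.subgroupOf R).index = 2 := by
      have h := (Z.subgroupOf R).card_mul_index
      rw [Nat.card_congr (Subgroup.subgroupOfEquivOfLe hZR).toEquiv, hZc, hRc] at h
      omega
    have h2 : r ^ 2 ∈ Z := by
      have := Subgroup.pow_index_mem (Z.subgroupOf R) (⟨r, hr⟩ : R)
      rw [hidx, Subgroup.mem_subgroupOf] at this
      exact this
    by_cases h4 : (r ^ 2) ^ 2 = 1
    · exact mem_of_cyclic (p := 2) hZ h2 hz₁Z h4 hz₁ hz₁1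
    refine absurd (hRZ r hr fun z hz => ?_) hrZ
    rw [← hgen _ h2 h4] at hz
    obtain ⟨i, rfl⟩ := Subgroup.mem_zpowers_iff.1 hz
    exact (((Commute.refl r).pow_left 2).zpow_left i).eq
  have hdec : ∀ g : G, ∃ e ∈ E, ∃ r ∈ R, g = e * r := by
    intro g
    have hle : R ≤ Subgroup.normalizer (E : Set G) := fun r hr =>
      Subgroup.mem_normalizer_iff.2 fun e => by
        constructor <;> intro he
        · rwa [← hcomm e he r hr, mul_inv_cancel_right]
        · have h := hcomm _ he r hr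
          rw [inv_mul_cancel_right] at h
          rwa [← (mul_left_cancel h : e = r * e * r⁻¹)] at he
    have hg : g ∈ ((E ⊔ R : Subgroup G) : Set G) := by rw [hsup]; trivial
    rw [Subgroup.coe_mul_of_right_le_normalizer_left E R hle] at hg
    obtain ⟨e, he, r, hr, rfl⟩ := hg
    exact ⟨e, he, r, hr, rfl⟩
  have hsq : ∀ g : G, g ^ 2 ∈ Subgroup.zpowers z₁ := by
    intro g
    obtain ⟨e, he, r, hr, rfl⟩ := hdec g
    rw [Commute.mul_pow (hcomm e he r hr)]
    exact mul_mem (hEs e he) (hRsq r hr)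
  refine isExtraspecial_of (p := 2) hG hz₁c hz₁ hz₁1 ⊤ (Subgroup.mem_top _) ?_
    (fun x _ y _ => by rw [comm_eq_sq]; exact mul_mem (mul_mem (hsq _) (hsq _)) (hsq _)) (fun x _ => hsq x) ?_
  · intro x _ hx
    obtain ⟨e, he, r, hr, rfl⟩ := hdec x
    have heE : e ∈ Subgroup.zpowers z₁ := hEc e he fun y hy => by
      have h := hx y trivial
      rw [mul_assoc, ← hcomm y hy r hr, ← mul_assoc, ← mul_assoc] at h
      exact mul_right_cancel h
    set x := e * r
    have hxR : x ∈ R := mul_mem (hz₁R heE) hr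
    have hxZ : x ∈ Z := hRZ x hxR fun z hz => (hx z trivial).symm
    by_contra hxz
    have hx2 : x ^ 2 ≠ 1 := fun h => hxz (mem_of_cyclic (p := 2) hZ hxZ hz₁Z h hz₁ hz₁1)
    have hle : R ≤ Z := fun s hs => hRZ s hs fun z hz => by
      rw [← hgen x hxZ hx2] at hz
      obtain ⟨i, rfl⟩ := Subgroup.mem_zpowers_iff.1 hz
      exact ((show Commute x s from hx s trivial).zpow_left i).eq
    have := Subgroup.card_le_of_le hle
    omega
  · by_contra h
    push Not at h
    have hle : R ≤ Z := fun s hs => hRZ s hs fun z _ => commutatorElement_eq_one_iff_mul_comm.1 (h z trivial s trivial)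
    have := Subgroup.card_le_of_le hle
    omega

def Good (p : ℕ) (G : Type*) [Group G] : Prop :=
  ∃ E R : Subgroup G, (∀ e ∈ E, ∀ r ∈ R, e * r = r * e) ∧ E ⊔ R = ⊤ ∧ (E = ⊥ ∨ Cfsg.IsExtraspecial p ↥E) ∧
    (IsCyclic R ∨ (p = 2 ∧ 16 ≤ Nat.card R ∧ ((∃ m : ℕ, Nonempty (↥R ≃* DihedralGroup m)) ∨
      (∃ m : ℕ, Nonempty (↥R ≃* QuaternionGroup m)) ∨ Cfsg.IsQuasiDihedral ↥R)))

theorem finish (hG : IsPGroup p G) (hsymp : ∀ A : Subgroup G, A.Characteristic → IsMulCommutative A → IsCyclic A)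
    (E R Z : Subgroup G) [Z.Characteristic] {z₁ : G} (hz₁c : z₁ ∈ Subgroup.center G) (hz₁ : z₁ ^ p = 1)
    (hz₁1 : z₁ ≠ 1) (hz₁Z : z₁ ∈ Z) (hcomm : ∀ e ∈ E, ∀ r ∈ R, e * r = r * e)
    (hdec : ∀ g : G, ∃ e ∈ E, ∃ r ∈ R, g = e * r) (hE : E = ⊥ ∨ Cfsg.IsExtraspecial p ↥E)
    (hEs : ∀ e ∈ E, e ^ p ∈ Subgroup.zpowers z₁)
    (hEc : ∀ e ∈ E, (∀ y ∈ E, e * y = y * e) → e ∈ Subgroup.zpowers z₁)
    (hEq : (∃ t ∈ Z, t ^ p ≠ 1) → ∀ e ∈ E, e ^ (if p = 2 then 4 else p) = 1)
    (hEZ : ∀ e ∈ E, ∀ z ∈ Z, e * z = z * e)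
    (hZ : IsCyclic Z) (hZR : Z ≤ R) (hRZ : ∀ r ∈ R, (∀ z ∈ Z, z * r = r * z) → r ∈ Z) : Good p G := by
  classical
  have hsup : E ⊔ R = ⊤ := (Subgroup.eq_top_iff' _).2 fun g => by
    obtain ⟨e, he, r, hr, rfl⟩ := hdec g
    exact Subgroup.mul_mem_sup he hr
  have hcyc : IsMulCommutative R → IsCyclic R := fun h => by
    have e : R = Z := le_antisymm (fun r hr => hRZ r hr fun z hz =>
      congrArg Subtype.val (h.is_comm.comm ⟨z, hZR hz⟩ ⟨r, hr⟩)) hZR
    rwa [e]
  by_cases hRab : IsMulCommutative R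
  · exact ⟨E, R, hcomm, hsup, hE, Or.inl (hcyc hRab)⟩
  set U := Z.subgroupOf R with hUdef
  haveI hUn : U.Normal := inferInstance
  have hUmem : ∀ r : ↥R, r ∈ U ↔ (r : G) ∈ Z := fun r => Subgroup.mem_subgroupOf
  have hUc : IsCyclic U := (Subgroup.subgroupOfEquivOfLe hZR).isCyclic.2 hZ
  obtain ⟨n, hn⟩ := (hG.to_subgroup Z).exists_card_eq
  have hUcard : Nat.card U = p ^ n := (Nat.card_congr (Subgroup.subgroupOfEquivOfLe hZR).toEquiv).trans hn
  have hC : Subgroup.centralizer (U : Set ↥R) = U := by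
    refine le_antisymm (fun r hr => (hUmem r).2 (hRZ r r.2 fun z hz => ?_)) fun r hr => ?_
    · exact congrArg Subtype.val (Subgroup.mem_centralizer_iff.1 hr ⟨z, hZR hz⟩ ((hUmem _).2 hz))
    · refine Subgroup.mem_centralizer_iff.2 fun u hu => Subtype.ext ?_
      show (u : G) * r = r * u
      haveI := hZ
      exact congrArg Subtype.val ((IsCyclic.isMulCommutative (α := Z)).is_comm.comm ⟨u, (hUmem u).1 hu⟩ ⟨r, (hUmem r).1 hr⟩)
  rcases CfsgLib.Fus.CyclicSelfCentralizing.main (hG.to_subgroup R) hRab U hUc n hUcard hC with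
    ⟨rfl, hcard, htype⟩ | ⟨hrel, hel, hOc, -⟩
  · rcases Nat.lt_or_ge (Nat.card R) 16 with h16 | h16
    · have hn2 : n = 2 := by
        rw [hcard] at h16
        have h1 : n + 1 < 4 := (Nat.pow_lt_pow_iff_right (by norm_num : 1 < 2)).1 (by linarith)
        by_contra h2
        refine hRab ⟨⟨fun a b => ?_⟩⟩
        exact IsPGroup.commutative_of_card_eq_prime_sq (p := 2) (by
          have hdiv : 2 ^ n ≥ 2 := by
            rw [← hn]
            exact Finite.one_lt_card_iff_nontrivial.2 ⟨⟨⟨z₁, hz₁Z⟩, 1, fun e => hz₁1 (congrArg Subtype.val e)⟩⟩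
          rw [hcard]
          rcases Nat.eq_zero_or_pos n with rfl | hn0
          · norm_num at hdiv
          · rw [show n + 1 = 2 by omega]) a b
      subst hn2
      refine ⟨⊤, ⊥, fun e _ r hr => by rw [Subgroup.mem_bot.1 hr, mul_one, one_mul], sup_bot_eq _, Or.inr ?_,
        Or.inl inferInstance⟩
      exact small_extraspecial hG E R Z hz₁c hz₁ hz₁1 hz₁Z hZR hZ (by rw [hn]; rfl) (by rw [hcard]; rfl) hRZ
        (fun r _ z hz => (inferInstance : Z.Normal).conj_mem z hz r) hcomm hEs hEc hsup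
    · exact ⟨E, R, hcomm, hsup, hE, Or.inr ⟨rfl, h16, htype⟩⟩
  exfalso
  set q := if p = 2 then 4 else p with hq
  have hpq : p ∣ q := by
    rw [hq]; split_ifs with h2
    · subst h2; norm_num
    · exact dvd_rfl
  set M := Subgroup.centralizer (Cfsg.powerClosure p 1 U : Set ↥R) with hMdef
  set O := Cfsg.omegaOne p M with hOdef
  obtain ⟨t, ht⟩ := (Subgroup.isCyclic_iff_exists_zpowers_eq_top Z).1 hZ
  have htZ : t ∈ Z := ht ▸ Subgroup.mem_zpowers t
  have hMc : ∀ r : ↥R, r ∈ M ↔ ∀ z ∈ Z, Commute (r : G) (z ^ p) := by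
    intro r
    rw [hMdef, Cfsg.powerClosure, Subgroup.centralizer_closure, Subgroup.mem_centralizer_iff]
    constructor
    · intro h z hz
      have h1 := h _ ⟨⟨z, hZR hz⟩, (hUmem _).2 hz, by rw [pow_one]⟩
      exact (congrArg Subtype.val h1).symm
    · rintro h _ ⟨u, hu, rfl⟩
      refine Subtype.ext ?_
      rw [pow_one]
      exact (h u ((hUmem u).1 hu)).symm
  obtain ⟨w, hwO, hwU⟩ : ∃ w ∈ O, w ∉ U := by
    by_contra h
    push Not at h
    have hcy : IsCyclic O := by haveI := hUc; exact Subgroup.isCyclic_of_le h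
    have h1 := CfsgLib.OddLocal.GoodSub.card_le_of_isCyclic (fun e he => hel.2 e he) hcy
    rw [hOc] at h1
    nlinarith [hp.out.two_le]
  have hOM : O ≤ M := (Subgroup.closure_le _).2 fun x hx => hx.1
  have hUM : U ≤ M := fun u hu => (hMc u).2 fun z hz => by
    haveI := hZ
    exact congrArg Subtype.val ((IsCyclic.isMulCommutative (α := Z)).is_comm.comm ⟨u, (hUmem u).1 hu⟩ ⟨z ^ p, pow_mem hz p⟩)
  have hwp : w ^ p = 1 := hel.2 w hwO
  have hwp' : (w : G) ^ p = 1 := by rw [← Subgroup.coe_pow, hwp, OneMemClass.coe_one]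
  have hwM := hOM hwO
  have hwz : (w : G) ∉ Z := fun h => hwU ((hUmem w).2 h)
  have hOmem : ∀ r ∈ M, r ^ p = 1 → Commute (r : G) w := fun r hr hrp =>
    congrArg Subtype.val (congrArg Subtype.val (hel.1.is_comm.comm
      (⟨r, Subgroup.subset_closure ⟨hr, hrp⟩⟩ : ↥O) ⟨w, hwO⟩))
  -- every element of exponent dividing `q` in `M` commutes with `w`
  have hkey : ∀ r ∈ M, r ^ q = 1 → Commute (r : G) w := by
    by_cases h2 : p = 2
    swap
    · intro r hr hrq; exact hOmem r hr (by rw [← hrq, hq, if_neg h2])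
    subst h2
    rw [show q = 4 from if_pos rfl]
    have hidx : ∀ r ∈ M, r ∈ U ∨ r * w ∈ U := by
      intro r hr
      rw [or_iff_not_imp_left]
      intro hrU
      have h := (Subgroup.mul_mem_iff_of_index_two (H := U.subgroupOf M) hrel (a := ⟨r, hr⟩) (b := ⟨w, hwM⟩)).2
        (iff_of_false (fun h => hrU (Subgroup.mem_subgroupOf.1 h)) fun h => hwU (Subgroup.mem_subgroupOf.1 h))
      exact Subgroup.mem_subgroupOf.1 h
    haveI := hZ
    have hZab : ∀ a ∈ Z, ∀ b ∈ Z, a * b = b * a := fun a ha b hb =>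
      congrArg Subtype.val ((IsCyclic.isMulCommutative (α := Z)).is_comm.comm ⟨a, ha⟩ ⟨b, hb⟩)
    have hw2 : (w : G) * w = 1 := by rw [← pow_two]; exact hwp'
    -- conjugation by `w` on `Z`
    have hc : ∀ u ∈ Z, ∃ c ∈ Z, c * c = 1 ∧ (w : G) * u * w = u * c := by
      intro u hu
      refine ⟨u⁻¹ * ((w : G) * u * (w : G)⁻¹), mul_mem (inv_mem hu) ((inferInstance : Z.Normal).conj_mem u hu w), ?_, ?_⟩
      · have h1 : Commute (w : G) (u ^ 2) := (hMc w).1 hwM u hu
        have hm : (w : G) * u * (w : G)⁻¹ ∈ Z := (inferInstance : Z.Normal).conj_mem u hu w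
        rw [← pow_two, Commute.mul_pow (hZab _ (inv_mem hu) _ hm), conj_pow, h1.eq, mul_inv_cancel_right, inv_pow,
          inv_mul_cancel]
      · rw [mul_inv_cancel_left, inv_eq_of_mul_eq_one_left hw2]
    by_cases hbig : ∀ z ∈ Z, z ^ 4 = 1
    · exfalso
      obtain ⟨c, hcZ, hc2, hcw⟩ := hc t htZ
      have htw : ¬ Commute t (w : G) := by
        intro h
        refine hwz (hRZ w w.2 fun z hz => ?_)
        rw [← ht] at hz
        obtain ⟨i, rfl⟩ := Subgroup.mem_zpowers_iff.1 hz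
        exact (h.zpow_left i).eq
      have hc1 : c ≠ 1 := by
        rintro rfl
        refine htw ?_
        rw [mul_one] at hcw
        show t * w = w * t
        calc t * (w : G) = (w : G) * t * w * w := by rw [hcw]
          _ = _ := by rw [mul_assoc, hw2, mul_one]
      have ht2 : t ^ 2 ≠ 1 := fun h => htw (hOmem ⟨t, hZR htZ⟩ (hUM ((hUmem _).2 htZ)) (Subtype.ext h))
      have hcs : c ∈ Subgroup.zpowers (t ^ 2) := mem_of_cyclic (p := 2) hZ hcZ (pow_mem htZ 2)
        (by rw [pow_two]; exact hc2) (by rw [← pow_mul]; exact hbig t htZ) ht2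
      have hct : c = t ^ 2 := by
        obtain ⟨i, hi⟩ := Subgroup.mem_zpowers_iff.1 hcs
        have ho : orderOf (t ^ 2) = 2 := orderOf_eq_prime (by rw [← pow_mul]; exact hbig t htZ) ht2
        rw [← hi, ← zpow_mod_orderOf, ho]
        rcases Int.emod_two_eq_zero_or_one i with h0 | h1
        · refine absurd ?_ hc1
          rw [← hi, ← zpow_mod_orderOf, ho]; simp [h0]
        · simp [h1]
      have htwO : (⟨t, hZR htZ⟩ * w : ↥R) ^ 2 = 1 := Subtype.ext (by
        show (t * (w : G)) ^ 2 = 1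
        rw [pow_two, show t * (w : G) * (t * w) = t * ((w : G) * t * w) by group, hcw, hct, ← mul_assoc,
          ← pow_two, ← pow_add]
        exact hbig t htZ)
      have h := hOmem _ (mul_mem (hUM ((hUmem _).2 htZ)) hwM) htwO
      exact htw (mul_right_cancel (show t * (w : G) * w = (w : G) * t * w by
        rw [show (w : G) * t * w = w * (t * w) by group]; exact h.eq))
    push Not at hbig
    obtain ⟨z0, hz0, hz04⟩ := hbig
    have hU4 : ∀ u ∈ Z, u ^ 4 = 1 → Commute u (w : G) := by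
      intro u hu hu4
      rw [← ht] at hu
      obtain ⟨i, rfl⟩ := Subgroup.mem_zpowers_iff.1 hu
      rcases Int.even_or_odd i with ⟨j, rfl⟩ | ⟨j, rfl⟩
      · have h := (hMc w).1 hwM (t ^ j) (zpow_mem htZ j)
        rw [← two_mul, mul_comm, zpow_mul]
        exact (show Commute ((t ^ j) ^ ((2 : ℕ) : ℤ)) (w : G) from by rw [zpow_natCast]; exact h.symm)
      · exfalso
        refine hz04 ?_
        have hd : (orderOf t : ℤ) ∣ (2 * j + 1) * 4 := orderOf_dvd_iff_zpow_eq_one.2 (by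
          rw [zpow_mul]; exact_mod_cast hu4)
        obtain ⟨a, ha⟩ : ∃ a, orderOf t = 2 ^ a := by
          obtain ⟨a, ha⟩ := (hG.to_subgroup (Subgroup.zpowers t)).exists_card_eq
          exact ⟨a, by rw [← Nat.card_zpowers]; exact ha⟩
        have hd4 : orderOf t ∣ 4 := by
          refine Nat.Coprime.dvd_of_dvd_mul_left (m := (2 * j + 1).natAbs) ?_ ?_
          · rw [ha]; refine Nat.Coprime.pow_left _ ((Nat.prime_two.coprime_iff_not_dvd).2 ?_)
            rw [← Int.ofNat_dvd_left]; omega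
          · have := Int.natAbs_dvd_natAbs.2 hd
            rwa [Int.natAbs_mul, Int.natAbs_natCast] at this
        rw [← ht] at hz0
        obtain ⟨k, rfl⟩ := Subgroup.mem_zpowers_iff.1 hz0
        rw [← zpow_natCast, ← zpow_mul, mul_comm, zpow_mul, zpow_natCast, orderOf_dvd_iff_pow_eq_one.1 hd4, one_zpow]
    intro r hr hr4
    rcases hidx r hr with h | h
    · exact hU4 _ ((hUmem r).1 h) (by rw [← Subgroup.coe_pow, hr4, OneMemClass.coe_one])
    set u : G := (r : G) * w with hu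
    have huZ : u ∈ Z := (hUmem (r * w)).1 h
    obtain ⟨c, hcZ, hc2, hcw⟩ := hc u huZ
    have hru : (r : G) = u * w := by rw [hu, mul_assoc, hw2, mul_one]
    have hu4 : u ^ 4 = 1 := by
      have h1 : (r : G) ^ 4 = 1 := by rw [← Subgroup.coe_pow, hr4, OneMemClass.coe_one]
      have h2 : (r : G) ^ 2 = u ^ 2 * c := by
        rw [hru, pow_two, show u * (w : G) * (u * w) = u * ((w : G) * u * w) by group, hcw, ← mul_assoc, ← pow_two]
      rw [show (4 : ℕ) = 2 * 2 from rfl, pow_mul, h2, Commute.mul_pow (hZab _ (pow_mem huZ 2) _ hcZ), pow_two c, hc2,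
        mul_one, ← pow_mul] at h1
      exact h1
    rw [hru]
    exact (hU4 u huZ hu4).mul_left (Commute.refl _)
  -- a noncyclic characteristic abelian subgroup
  have hbig : ∃ z ∈ Z, z ^ p ≠ 1 := by
    by_contra hsm
    push Not at hsm
    exact hwz (hRZ w w.2 fun z hz => by
      obtain ⟨i, rfl⟩ := Subgroup.mem_zpowers_iff.1 (mem_of_cyclic hZ hz hz₁Z (hsm z hz) hz₁ hz₁1)
      exact ((show Commute z₁ (w : G) from (Subgroup.mem_center_iff.1 hz₁c w).symm).zpow_left i).eq)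
  let S : Set G := {x | (∀ z ∈ Z, Commute x (z ^ p)) ∧ x ^ q = 1}
  set D := Subgroup.closure S with hD
  have hD' : D.Characteristic := by
    refine Subgroup.characteristic_iff_map_le.2 fun φ => ?_
    rw [hD, MonoidHom.map_closure, Subgroup.closure_le]
    rintro _ ⟨x, ⟨hx1, hx2⟩, rfl⟩
    refine Subgroup.subset_closure ⟨fun z hz => ?_, ?_⟩
    · have h := (hx1 (φ.symm z) (map_mem_of_characteristic φ.symm hz)).map φ.toMonoidHom
      simpa using h
    · show φ x ^ q = 1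
      rw [← map_pow, hx2, map_one]
  haveI := hD'
  haveI : (D ⊓ Subgroup.centralizer (D : Set G)).Characteristic := by
    refine Subgroup.characteristic_iff_map_le.2 fun φ => ?_
    rintro _ ⟨x, ⟨hx1, hx2⟩, rfl⟩
    exact ⟨map_mem_of_characteristic φ hx1, map_mem_of_characteristic φ hx2⟩
  have hA := hsymp (D ⊓ Subgroup.centralizer (D : Set G)) inferInstance ⟨⟨fun a b => Subtype.ext
    (Subgroup.mem_centralizer_iff.1 b.2.2 a a.2.1)⟩⟩
  obtain ⟨qq, hqq⟩ := hpq
  have hqone : ∀ x : G, x ^ p = 1 → x ^ q = 1 := fun x hx => by rw [hqq, pow_mul, hx, one_pow]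
  have hwD : (w : G) ∈ D ⊓ Subgroup.centralizer (D : Set G) := by
    refine ⟨Subgroup.subset_closure ⟨(hMc w).1 hwM, hqone _ hwp'⟩, ?_⟩
    rw [hD, Subgroup.centralizer_closure]
    refine Subgroup.mem_centralizer_iff.2 fun x hx => ?_
    obtain ⟨hx1, hx2⟩ := hx
    obtain ⟨e, he, r, hr, rfl⟩ := hdec x
    have hr1 : ∀ z ∈ Z, Commute r (z ^ p) := fun z hz => by
      have h := Commute.mul_left ((show Commute e (z ^ p) from hEZ e he _ (pow_mem hz p)).inv_left) (hx1 z hz)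
      rwa [inv_mul_cancel_left] at h
    rw [Commute.mul_pow (hcomm e he r hr), hEq hbig e he, one_mul] at hx2
    exact (Commute.mul_left (show Commute e (w : G) from hcomm e he w w.2)
      (hkey ⟨r, hr⟩ ((hMc _).2 hr1) (Subtype.ext hx2))).eq
  have hzD : z₁ ∈ D ⊓ Subgroup.centralizer (D : Set G) :=
    ⟨Subgroup.subset_closure ⟨fun z _ => (Subgroup.mem_center_iff.1 hz₁c _).symm, hqone _ hz₁⟩,
      Subgroup.mem_centralizer_iff.2 fun x _ => Subgroup.mem_center_iff.1 hz₁c x⟩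
  exact hwz (Subgroup.zpowers_le.2 hz₁Z (mem_of_cyclic hA hwD hzD hwp' hz₁ hz₁1))

theorem main (hG : IsPGroup p G) (hsymp : ∀ A : Subgroup G, A.Characteristic → IsMulCommutative A → IsCyclic A) :
    Good p G := by
  classical
  rcases subsingleton_or_nontrivial G with hs | hnt
  · exact ⟨⊥, ⊥, fun e _ r _ => Subsingleton.elim _ _, Subsingleton.elim _ _, Or.inl rfl, Or.inl inferInstance⟩
  obtain ⟨C, hCc, hΦ, hCG, hCC⟩ := CfsgLib.Solv.exists_critical (p := p) hG
  haveI := hCc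
  set Z := Subgroup.centralizer (C : Set G) with hZdef
  haveI hZchar : Z.Characteristic := inferInstance
  have hZC : ∀ x ∈ C, ∀ z ∈ Z, x * z = z * x := fun x hx z hz => Subgroup.mem_centralizer_iff.1 hz x hx
  have hZab : IsMulCommutative Z := ⟨⟨fun a b => Subtype.ext (hZC a (hCC a.2) b b.2)⟩⟩
  have hZ := hsymp Z inferInstance hZab
  have hcomm : ∀ x ∈ C, ∀ g : G, ⁅x, g⁆ ∈ Z := fun x hx g =>
    (hCG (Subgroup.commutator_mem_commutator hx (Subgroup.mem_top g))).2
  have hpow : ∀ x ∈ C, x ^ p ∈ Z := fun x hx =>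
    hΦ ⟨⟨x, hx⟩ ^ p, pow_mem_frattini (hG.to_subgroup C) _, rfl⟩
  have hZne : Z ≠ ⊥ := by
    intro h
    haveI := hG.center_nontrivial
    obtain ⟨⟨z, hz⟩, hz1⟩ := exists_ne (1 : Subgroup.center G)
    have : z ∈ Z := Subgroup.mem_centralizer_iff.2 fun x _ => Subgroup.mem_center_iff.1 hz x
    rw [h, Subgroup.mem_bot] at this
    exact hz1 (Subtype.ext this)
  obtain ⟨z₁, hz₁Z, hz₁o⟩ : ∃ z ∈ Z, orderOf z = p := by
    haveI : Nontrivial Z := (Subgroup.nontrivial_iff_ne_bot Z).2 hZne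
    obtain ⟨k, hk⟩ := (hG.to_subgroup Z).exists_card_eq
    have hk0 : k ≠ 0 := fun e => by
      have := Finite.one_lt_card (α := Z)
      rw [hk, e, pow_zero] at this; omega
    obtain ⟨z, hz⟩ := exists_prime_orderOf_dvd_card' (G := Z) p (hk ▸ dvd_pow_self p hk0)
    exact ⟨z, z.2, (Subgroup.orderOf_coe z).trans hz⟩
  have hz₁ : z₁ ^ p = 1 := hz₁o ▸ pow_orderOf_eq_one z₁
  have hz₁1 : z₁ ≠ 1 := fun e => by rw [e, orderOf_one] at hz₁o; exact hp.out.one_lt.ne hz₁o
  have hz₁c : z₁ ∈ Subgroup.center G := by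
    haveI : (Subgroup.zpowers z₁).Normal := ⟨fun x hx g => by
      refine mem_of_cyclic hZ ((inferInstance : Z.Normal).conj_mem x (Subgroup.zpowers_le.2 hz₁Z hx) g) hz₁Z ?_ hz₁ hz₁1
      obtain ⟨i, rfl⟩ := Subgroup.mem_zpowers_iff.1 hx
      rw [conj_pow, ← zpow_natCast (z₁ ^ i), ← zpow_mul, mul_comm i, zpow_mul, zpow_natCast, hz₁, one_zpow, mul_one,
        mul_inv_cancel]⟩
    exact CfsgLib.OddLocal.GoodSub.le_center_of_cyclic hG (F := Subgroup.zpowers z₁) (fun x hx => by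
      obtain ⟨i, rfl⟩ := Subgroup.mem_zpowers_iff.1 hx
      rw [← zpow_natCast (z₁ ^ i), ← zpow_mul, mul_comm i, zpow_mul, zpow_natCast, hz₁, one_zpow]) inferInstance
      (Subgroup.mem_zpowers z₁)
  have hCcomm : ∀ x ∈ C, ∀ g : G, (∀ c ∈ C, c * g = g * c) → Commute x g := fun x hx g h => h x hx
  have hcC : ∀ x ∈ C, ∀ y ∈ C, ⁅x, y⁆ ∈ Subgroup.zpowers z₁ := by
    intro x hx y hy
    refine mem_of_cyclic hZ (hcomm x hx y) hz₁Z ?_ hz₁ hz₁1
    rw [← pow_commutator_left (show Commute ⁅x, y⁆ x from (hZC x hx _ (hcomm x hx y)).symm),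
      commutatorElement_eq_one_iff_mul_comm]
    exact (hZC y hy _ (hpow x hx)).symm
  have hcpow : ∀ x ∈ C, ∀ y ∈ C, ⁅y, x⁆ ^ p = 1 := fun x hx y hy => by
    obtain ⟨i, hi⟩ := Subgroup.mem_zpowers_iff.1 (hcC y hy x hx)
    rw [← hi, ← zpow_natCast (z₁ ^ i), ← zpow_mul, mul_comm i, zpow_mul, zpow_natCast, hz₁, one_zpow]
  by_cases hCab : C ≤ Z
  · -- the critical subgroup is cyclic and self-centralising
    refine finish hG hsymp ⊥ ⊤ Z hz₁c hz₁ hz₁1 hz₁Z (fun e he r _ => by rw [Subgroup.mem_bot.1 he, mul_one, one_mul])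
      (fun g => ⟨1, one_mem _, g, Subgroup.mem_top g, (one_mul g).symm⟩) (Or.inl rfl)
      (fun e he => by rw [Subgroup.mem_bot.1 he, one_pow]; exact one_mem _)
      (fun e he _ => by rw [Subgroup.mem_bot.1 he]; exact one_mem _)
      (fun _ e he => by rw [Subgroup.mem_bot.1 he, one_pow])
      (fun e he z _ => by rw [Subgroup.mem_bot.1 he, mul_one, one_mul]) hZ le_top ?_
    intro r _ hr
    exact Subgroup.mem_centralizer_iff.2 fun x hx => hr x (hCab hx)
  -- subgroup of elements used for the extraspecial factor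
  obtain ⟨Q, hQC, hzQ, hQp, hQq, hCQ⟩ : ∃ Q : Subgroup G, Q ≤ C ∧ z₁ ∈ Q ∧ (∀ x ∈ Q, x ^ p ∈ Subgroup.zpowers z₁) ∧
      ((∃ t ∈ Z, t ^ p ≠ 1) → ∀ x ∈ Q, x ^ (if p = 2 then 4 else p) = 1) ∧ ∀ x ∈ C, ∃ z ∈ Z, x * z ∈ Q := by
    by_cases hbig : ∃ t ∈ Z, t ^ p ≠ 1
    swap
    · refine ⟨C, le_rfl, hCC hz₁Z, fun x hx => mem_of_cyclic hZ (hpow x hx) hz₁Z ?_ hz₁ hz₁1, fun h => absurd h hbig,
        fun x hx => ⟨1, one_mem _, by rwa [mul_one]⟩⟩
      by_contra h
      exact hbig ⟨x ^ p, hpow x hx, h⟩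
    obtain ⟨t, ht⟩ := (Subgroup.isCyclic_iff_exists_zpowers_eq_top Z).1 hZ
    have htZ : t ∈ Z := ht ▸ Subgroup.mem_zpowers t
    let P : Subgroup G := (Subgroup.zpowers (t ^ p))
    have hPmem : ∀ y, y ∈ P ↔ ∃ z ∈ Z, z ^ p = y := fun y => by
      constructor
      · intro hy
        obtain ⟨i, rfl⟩ := Subgroup.mem_zpowers_iff.1 hy
        exact ⟨t ^ i, zpow_mem htZ i, by rw [← zpow_natCast (t ^ i), ← zpow_mul, mul_comm i, zpow_mul, zpow_natCast]⟩
      · rintro ⟨z, hz, rfl⟩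
        rw [← ht] at hz
        obtain ⟨i, rfl⟩ := Subgroup.mem_zpowers_iff.1 hz
        exact ⟨i, by show (t ^ p) ^ i = (t ^ i) ^ p; rw [← zpow_natCast (t ^ i), ← zpow_mul, mul_comm i, zpow_mul, zpow_natCast]⟩
    have hz₁P : z₁ ∈ P := by
      obtain ⟨s, hs, hs1⟩ := hbig
      have hsp : s ^ p ∈ P := (hPmem _).2 ⟨s, hs, rfl⟩
      obtain ⟨k, hk⟩ := (hG.to_subgroup P).exists_card_eq
      haveI : Nontrivial P := ⟨⟨⟨s ^ p, hsp⟩, 1, fun e => hs1 (congrArg Subtype.val e)⟩⟩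
      have hk0 : k ≠ 0 := fun e => by
        have := Finite.one_lt_card (α := P)
        rw [hk, e, pow_zero] at this; omega
      obtain ⟨u, hu⟩ := exists_prime_orderOf_dvd_card' (G := P) p (hk ▸ dvd_pow_self p hk0)
      have huo : orderOf (u : G) = p := (Subgroup.orderOf_coe u).trans hu
      have hu1 : (u : G) ^ p = 1 := huo ▸ pow_orderOf_eq_one _
      have hu2 : (u : G) ≠ 1 := fun e => by rw [e, orderOf_one] at huo; exact hp.out.one_lt.ne huo
      exact Subgroup.zpowers_le.2 u.2 (mem_of_cyclic hZ hz₁Z (Subgroup.zpowers_le.2 (pow_mem htZ p) u.2) hz₁ hu1 hu2)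
    have hz₁P' : Subgroup.zpowers z₁ ≤ P := Subgroup.zpowers_le.2 hz₁P
    have hmulp : ∀ x ∈ C, ∀ y ∈ C, (x * y) ^ p = ⁅y, x⁆ ^ p.choose 2 * (x ^ p * y ^ p) := fun x hx y hy =>
      pow_mul_of_commutator (hZC x hx _ (hcomm y hy x)).symm (hZC y hy _ (hcomm y hy x)).symm p
    let K : Subgroup G :=
      { carrier := {x | x ∈ C ∧ x ^ p ∈ P}
        one_mem' := ⟨one_mem _, by rw [one_pow]; exact one_mem _⟩
        mul_mem' := fun {x y} hx hy => ⟨mul_mem hx.1 hy.1, by
          rw [hmulp x hx.1 y hy.1]; exact mul_mem (pow_mem (hz₁P' (hcC y hy.1 x hx.1)) _) (mul_mem hx.2 hy.2)⟩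
        inv_mem' := fun {x} hx => ⟨inv_mem hx.1, by rw [inv_pow]; exact inv_mem hx.2⟩ }
    have hKC : K ≤ C := fun x hx => hx.1
    have hZK : Z ≤ K := fun z hz => ⟨hCC hz, (hPmem _).2 ⟨z, hz, rfl⟩⟩
    have hK : K = C := by
      by_contra hne
      have hlt : Nat.card K < Nat.card C :=
        lt_of_not_ge fun h => hne (Subgroup.eq_of_le_of_card_ge hKC h)
      have hb := card_bound hG hz₁c hz₁ hz₁1 Z C C (fun b hb x hx => (hZC x hx b hb).symm)
        (fun k hk x hx => hcC k hk x hx) _ K le_rfl hZK hKC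
      set W := C ⊓ Subgroup.centralizer (K : Set G) with hW
      obtain ⟨w, hwW, hwZ⟩ : ∃ w ∈ W, w ∉ Z := by
        by_contra h
        push Not at h
        have h1 := Subgroup.card_le_of_le h
        have h2 : 0 < Nat.card Z := Nat.card_pos
        nlinarith
      have hwC : w ∈ C := (Subgroup.mem_inf.1 hwW).1
      have hwK : w ∈ K := by
        by_contra hwK
        refine hwZ (Subgroup.mem_centralizer_iff.2 fun x (hx : x ∈ C) => ?_)
        have hwp := hpow w hwC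
        have hxp := hpow x hx
        rw [← ht] at hwp hxp
        obtain ⟨i, hi⟩ := Subgroup.mem_zpowers_iff.1 hwp
        obtain ⟨j, hj⟩ := Subgroup.mem_zpowers_iff.1 hxp
        have hpi : ¬ (p : ℤ) ∣ i := fun ⟨k, hk⟩ => hwK ⟨hwC, (hPmem _).2 ⟨t ^ k, zpow_mem htZ k, by
          rw [← hi, hk, ← zpow_natCast (t ^ k), ← zpow_mul, mul_comm k]⟩⟩
        obtain ⟨a, b, hab⟩ := ((Nat.prime_iff_prime_int.1 hp.out).coprime_iff_not_dvd).2 hpi
        have hxK : x * (w ^ (j * b))⁻¹ ∈ K := ⟨mul_mem hx (inv_mem (zpow_mem hwC _)), by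
          rw [hmulp x hx _ (inv_mem (zpow_mem hwC _))]
          refine mul_mem (pow_mem (hz₁P' (hcC _ (inv_mem (zpow_mem hwC _)) x hx)) _) ((hPmem _).2 ⟨t ^ (j * a), zpow_mem htZ _, ?_⟩)
          have e1 : (w ^ (j * b)) ^ p = t ^ (i * (j * b)) := by
            rw [zpow_mul t, hi, ← zpow_natCast w, ← zpow_mul, ← zpow_natCast (w ^ (j * b)), ← zpow_mul,
              mul_comm (j * b)]
          have e2 : (t ^ (j * a)) ^ p = t ^ ((p : ℤ) * (j * a)) := by
            rw [← zpow_natCast (t ^ (j * a)), ← zpow_mul, mul_comm (j * a)]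
          rw [inv_pow, e1, e2, ← hj, ← zpow_neg, ← zpow_add]
          congr 1
          linear_combination j * hab⟩
        have h1 := Subgroup.mem_centralizer_iff.1 hwW.2 _ hxK
        have h2 : Commute (x * (w ^ (j * b))⁻¹ * w ^ (j * b)) w :=
          (show Commute (x * (w ^ (j * b))⁻¹) w from h1).mul_left ((Commute.refl w).zpow_left _)
        rw [inv_mul_cancel_right] at h2
        exact h2.eq
      haveI : K.Characteristic := by
        refine Subgroup.characteristic_iff_map_le.2 fun φ => ?_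
        rintro _ ⟨x, ⟨hx1, hx2⟩, rfl⟩
        refine ⟨map_mem_of_characteristic φ hx1, ?_⟩
        obtain ⟨z, hz, he⟩ := (hPmem _).1 hx2
        exact (hPmem _).2 ⟨φ z, map_mem_of_characteristic φ hz, by
          show φ z ^ p = φ x ^ p
          rw [← map_pow, ← map_pow, he]⟩
      haveI : (K ⊓ Subgroup.centralizer (K : Set G)).Characteristic := by
        refine Subgroup.characteristic_iff_map_le.2 fun φ => ?_
        rintro _ ⟨x, ⟨hx1, hx2⟩, rfl⟩
        exact ⟨map_mem_of_characteristic φ hx1, map_mem_of_characteristic φ hx2⟩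
      have hA := hsymp (K ⊓ Subgroup.centralizer (K : Set G)) inferInstance ⟨⟨fun a b => Subtype.ext
        (Subgroup.mem_centralizer_iff.1 b.2.2 a a.2.1)⟩⟩
      obtain ⟨v, hv⟩ := (Subgroup.isCyclic_iff_exists_zpowers_eq_top _).1 hA
      have hvA : v ∈ K ⊓ Subgroup.centralizer (K : Set G) := hv ▸ Subgroup.mem_zpowers v
      obtain ⟨s, hs⟩ : ∃ s : G, s ∈ Z ∧ s ^ p = v ^ p := (hPmem _).1 hvA.1.2
      have hvZ : v ∉ Z := fun hvZ => by
        have hw2 : w ∈ Subgroup.zpowers v := hv.ge ⟨hwK, hwW.2⟩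
        exact hwZ (Subgroup.zpowers_le.2 hvZ hw2)
      have htv : t ∈ Subgroup.zpowers v := hv.ge ⟨hZK htZ, Subgroup.mem_centralizer_iff.2 fun x hx => hZC x (hKC hx) t htZ⟩
      obtain ⟨i, hi⟩ := Subgroup.mem_zpowers_iff.1 htv
      have hpi : (p : ℤ) ∣ i := by
        by_contra hpi
        obtain ⟨a, b, hab⟩ := ((Nat.prime_iff_prime_int.1 hp.out).coprime_iff_not_dvd).2 hpi
        refine hvZ ?_
        rw [show v = (v ^ (p : ℤ)) ^ a * (v ^ i) ^ b by
          rw [← zpow_mul, ← zpow_mul, ← zpow_add, show (p : ℤ) * a + i * b = 1 by linear_combination hab, zpow_one]]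
        refine mul_mem (zpow_mem ?_ _) (zpow_mem (hi ▸ htZ) _)
        rw [zpow_natCast]; exact hpow v (hKC hvA.1)
      obtain ⟨k, rfl⟩ := hpi
      have htP : t ∈ P := by
        rw [← hi, zpow_mul, zpow_natCast]
        exact zpow_mem ((hPmem _).2 ⟨s, hs.1, hs.2⟩) k
      obtain ⟨l, hl⟩ := Subgroup.mem_zpowers_iff.1 htP
      have ht1 : (orderOf t : ℤ) ∣ (p : ℤ) * l - 1 := orderOf_dvd_iff_zpow_eq_one.2 (by
        rw [zpow_sub, zpow_one, zpow_mul, zpow_natCast, hl, mul_inv_cancel])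
      obtain ⟨a, ha⟩ := (hG.to_subgroup (Subgroup.zpowers t)).exists_card_eq
      have hZcard : Nat.card (Subgroup.zpowers t) ≠ 1 := fun h => hZne (Subgroup.eq_bot_of_card_eq _ (ht ▸ h))
      rw [Nat.card_zpowers] at ha hZcard
      have hpo : (p : ℤ) ∣ (orderOf t : ℤ) := by
        rw [ha]; push_cast
        exact dvd_pow_self _ fun e => hZcard (by rw [ha, e, pow_zero])
      have := dvd_sub (dvd_mul_right (p : ℤ) l) (hpo.trans ht1)
      rw [sub_sub_cancel] at this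
      exact (Nat.prime_iff_prime_int.1 hp.out).not_dvd_one this
    have hroot : ∀ x ∈ C, ∃ z ∈ Z, x ^ p = z ^ p := fun x hx => by
      obtain ⟨z, hz, he⟩ := (hPmem _).1 (hK.ge hx).2
      exact ⟨z, hz, he.symm⟩
    let Q : Subgroup G :=
      { carrier := {x | x ∈ C ∧ x ^ p ∈ Subgroup.zpowers z₁ ∧ x ^ (if p = 2 then 4 else p) = 1}
        one_mem' := ⟨one_mem _, by rw [one_pow]; exact one_mem _, one_pow _⟩
        mul_mem' := fun {x y} hx hy => by
          refine ⟨mul_mem hx.1 hy.1, ?_, ?_⟩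
          · rw [hmulp x hx.1 y hy.1]; exact mul_mem (pow_mem (hcC y hy.1 x hx.1) _) (mul_mem hx.2.1 hy.2.1)
          · split_ifs with h2
            · subst h2
              have h := mul_mem (pow_mem (hcC y hy.1 x hx.1) ((2 : ℕ).choose 2)) (mul_mem hx.2.1 hy.2.1)
              rw [← hmulp x hx.1 y hy.1] at h
              obtain ⟨i, hi⟩ := Subgroup.mem_zpowers_iff.1 h
              rw [show (4 : ℕ) = 2 * 2 from rfl, pow_mul, ← hi, ← zpow_natCast (z₁ ^ i), ← zpow_mul, mul_comm i,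
                zpow_mul, zpow_natCast, hz₁, one_zpow]
            · have hx' := hx.2.2
              have hy' := hy.2.2
              rw [if_neg h2] at hx' hy'
              rw [mul_pow_prime h2 (hZC x hx.1 _ (hcomm y hy.1 x)).symm (hZC y hy.1 _ (hcomm y hy.1 x)).symm
                (hcpow x hx.1 y hy.1), hx', hy', one_mul]
        inv_mem' := fun {x} hx => ⟨inv_mem hx.1, by rw [inv_pow]; exact inv_mem hx.2.1, by rw [inv_pow, hx.2.2, inv_one]⟩ }
    have hqone : ∀ y : G, y ^ p = 1 → y ^ (if p = 2 then 4 else p) = 1 := fun y hy => by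
      split_ifs with h2
      · subst h2; rw [show (4 : ℕ) = 2 * 2 from rfl, pow_mul, hy, one_pow]
      · exact hy
    refine ⟨Q, fun x hx => hx.1, ⟨hCC hz₁Z, by rw [hz₁]; exact one_mem _, hqone _ hz₁⟩, fun x hx => hx.2.1,
      fun _ x hx => hx.2.2, fun x hx => ?_⟩
    obtain ⟨z, hz, he⟩ := hroot x hx
    refine ⟨z⁻¹, inv_mem hz, ?_⟩
    have hy : (x * z⁻¹) ^ p = 1 := by
      rw [Commute.mul_pow ((show Commute x z from hZC x hx z hz).inv_right), inv_pow, he, mul_inv_cancel]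
    exact ⟨mul_mem hx (inv_mem (hCC hz)), by rw [hy]; exact one_mem _, hqone _ hy⟩
  -- the extraspecial factor
  obtain ⟨E, hE1, hE⟩ := Finite.exists_le_maximal
    (p := fun E : Subgroup G => Subgroup.zpowers z₁ ≤ E ∧ E ≤ Q ∧ E ⊓ Z ≤ Subgroup.zpowers z₁)
    (a := Subgroup.zpowers z₁) ⟨le_rfl, Subgroup.zpowers_le.2 hzQ, inf_le_left⟩
  obtain ⟨-, hEQ, hEZ⟩ := hE.1
  have hEC : E ≤ C := hEQ.trans hQC
  have hEconj : ∀ y : G, (∀ e ∈ E, ⁅y, e⁆ ∈ Subgroup.zpowers z₁) → y ∈ Subgroup.normalizer (E : Set G) := by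
    intro y hy
    have h1 : ∀ e ∈ E, y * e * y⁻¹ ∈ E := fun e he => by
      rw [show y * e * y⁻¹ = ⁅y, e⁆ * e by rw [commutatorElement_def, inv_mul_cancel_right]]
      exact mul_mem (hE1 (hy e he)) he
    refine Subgroup.mem_normalizer_iff.2 fun e => ⟨h1 e, fun he => ?_⟩
    set e' := y * e * y⁻¹ with he'
    have hz := hy e' he
    have hzc := Subgroup.mem_center_iff.1 (Subgroup.zpowers_le.2 hz₁c hz)
    have he2 : e = (⁅y, e'⁆)⁻¹ * e' := by
      have h2 : y * e' * y⁻¹ = ⁅y, e'⁆ * e' := by rw [commutatorElement_def, inv_mul_cancel_right]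
      calc e = y⁻¹ * e' * y := by rw [he']; group
        _ = y⁻¹ * ((⁅y, e'⁆)⁻¹ * (y * e' * y⁻¹)) * y := by rw [h2, inv_mul_cancel_left]
        _ = (⁅y, e'⁆)⁻¹ * (y⁻¹ * (y * e' * y⁻¹) * y) := by
            rw [← mul_assoc y⁻¹, ((show Commute y ⁅y, e'⁆ from hzc y).inv_left.inv_right).eq, mul_assoc, mul_assoc]; group
        _ = (⁅y, e'⁆)⁻¹ * e' := by group
    rw [he2]
    exact mul_mem (inv_mem (hE1 hz)) he
  have hCE : ∀ x ∈ C, ∃ e ∈ E, ∃ z ∈ Z, x = e * z := by
    have hQE : ∀ y ∈ Q, y ∈ E ⊔ Z := by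
      intro y hy
      by_contra hyn
      have hnorm : Subgroup.zpowers y ≤ Subgroup.normalizer (E : Set G) :=
        Subgroup.zpowers_le.2 (hEconj y fun e he => hcC y (hQC hy) e (hEC he))
      obtain ⟨z0, hz0, hz0n⟩ : ∃ z0 ∈ (E ⊔ Subgroup.zpowers y) ⊓ Z, z0 ∉ Subgroup.zpowers z₁ := by
        by_contra h
        push Not at h
        have h' := hE.2 (y := E ⊔ Subgroup.zpowers y) ⟨hE.1.1.trans le_sup_left, sup_le hEQ (Subgroup.zpowers_le.2 hy), h⟩ le_sup_left
        exact hyn (Subgroup.mem_sup_left (h' (Subgroup.mem_sup_right (Subgroup.mem_zpowers y))))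
      have h0 : z0 ∈ ((E ⊔ Subgroup.zpowers y : Subgroup G) : Set G) := hz0.1
      rw [Subgroup.coe_mul_of_right_le_normalizer_left E _ hnorm] at h0
      obtain ⟨e, he, _, ⟨m, rfl⟩, rfl⟩ := h0
      by_cases hpm : (p : ℤ) ∣ m
      · obtain ⟨k, rfl⟩ := hpm
        refine hz0n (hEZ ⟨mul_mem he ?_, hz0.2⟩)
        show y ^ ((p : ℤ) * k) ∈ E
        rw [zpow_mul, zpow_natCast]
        exact zpow_mem (hE1 (hQp y hy)) k
      · obtain ⟨a, b, hab⟩ := ((Nat.prime_iff_prime_int.1 hp.out).coprime_iff_not_dvd).2 hpm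
        refine hyn ?_
        rw [show y = (y ^ (p : ℤ)) ^ a * (y ^ m) ^ b by
          rw [← zpow_mul, ← zpow_mul, ← zpow_add, show (p : ℤ) * a + m * b = 1 by linear_combination hab, zpow_one]]
        refine mul_mem (zpow_mem (Subgroup.mem_sup_left ?_) _) (zpow_mem ?_ _)
        · rw [zpow_natCast]; exact hE1 (hQp y hy)
        · have h2 : e⁻¹ * (e * y ^ m) ∈ E ⊔ Z := mul_mem (Subgroup.mem_sup_left (inv_mem he)) (Subgroup.mem_sup_right hz0.2)
          rwa [inv_mul_cancel_left] at h2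
    intro x hx
    obtain ⟨z, hz, hxz⟩ := hCQ x hx
    have hm : x ∈ ((E ⊔ Z : Subgroup G) : Set G) := by
      have h := mul_mem (hQE _ hxz) (Subgroup.mem_sup_right (inv_mem hz))
      rwa [mul_inv_cancel_right] at h
    haveI : Z.Normal := inferInstance
    rw [Subgroup.mul_normal] at hm
    obtain ⟨e, he, z', hz', rfl⟩ := hm
    exact ⟨e, he, z', hz', rfl⟩
  have hEcen : ∀ e ∈ E, (∀ y ∈ E, e * y = y * e) → e ∈ Subgroup.zpowers z₁ := by
    intro e he h
    refine hEZ ⟨he, Subgroup.mem_centralizer_iff.2 fun x hx => ?_⟩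
    obtain ⟨e', he', z, hz, rfl⟩ := hCE x hx
    exact ((show Commute e' e from (h e' he').symm).mul_left (show Commute z e from (hZC e (hEC he) z hz).symm)).eq
  have hEex : Cfsg.IsExtraspecial p ↥E := by
    refine isExtraspecial_of hG hz₁c hz₁ hz₁1 E (hE1 (Subgroup.mem_zpowers z₁)) hEcen
      (fun x hx y hy => hcC x (hEC hx) y (hEC hy)) (fun x hx => hQp x (hEQ hx)) ?_
    by_contra h
    push Not at h
    refine hCab fun x hx => ?_
    obtain ⟨e, he, z, hz, rfl⟩ := hCE x hx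
    refine mul_mem ?_ hz
    exact Subgroup.zpowers_le.2 hz₁Z (hEcen e he fun y hy => commutatorElement_eq_one_iff_mul_comm.1 (h e he y hy))
  set R := Subgroup.centralizer (E : Set G)
  have hcg : ∀ e ∈ E, ∀ g : G, ⁅e, g⁆ ∈ Subgroup.zpowers z₁ := by
    intro e he g
    refine mem_of_cyclic hZ (hcomm e (hEC he) g) hz₁Z ?_ hz₁ hz₁1
    rw [← pow_commutator_left (show Commute ⁅e, g⁆ e from (hZC e (hEC he) _ (hcomm e (hEC he) g)).symm),
      commutatorElement_eq_one_iff_mul_comm]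
    exact (Subgroup.mem_center_iff.1 (Subgroup.zpowers_le.2 hz₁c (hQp e (hEQ he))) g).symm
  haveI hEn : E.Normal := ⟨fun e he g => by
    have hm : g ∈ Subgroup.normalizer (E : Set G) := hEconj g fun e' he' => by
      rw [← commutatorElement_inv]; exact inv_mem (hcg e' he' g)
    exact (Subgroup.mem_normalizer_iff.1 hm e).1 he⟩
  have hER : E ⊔ R = ⊤ := by
    refine Subgroup.eq_top_of_le_card _ ?_
    have hb := card_bound hG hz₁c hz₁ hz₁1 (Subgroup.zpowers z₁) ⊤ E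
      (fun b hb x _ => (Subgroup.mem_center_iff.1 (Subgroup.zpowers_le.2 hz₁c hb) x).symm)
      (fun k hk x _ => hcg k hk x) _ E le_rfl hE1 le_rfl
    rw [top_inf_eq, Subgroup.card_top] at hb
    have hrel : E.relIndex (R ⊔ E) = E.relIndex R := Subgroup.relIndex_sup_right R E
    have hinf : Nat.card ↥(E ⊓ R) ≤ Nat.card (Subgroup.zpowers z₁) :=
      Subgroup.card_le_of_le fun e he => hEcen e he.1 fun y hy => (Subgroup.mem_centralizer_iff.1 he.2 y hy).symm
    have h1 := Subgroup.relIndex_mul_relIndex ⊥ E (R ⊔ E) bot_le le_sup_right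
    have h2 := Subgroup.relIndex_mul_relIndex ⊥ (E ⊓ R) R bot_le inf_le_right
    rw [Subgroup.relIndex_bot_left, Subgroup.relIndex_bot_left, hrel] at h1
    rw [Subgroup.relIndex_bot_left, Subgroup.relIndex_bot_left, Subgroup.inf_relIndex_right] at h2
    rw [sup_comm, ← h1]
    have h3 : 0 < Nat.card (Subgroup.zpowers z₁) := Nat.card_pos
    refine Nat.le_of_mul_le_mul_right ?_ h3
    calc Nat.card G * Nat.card (Subgroup.zpowers z₁) ≤ Nat.card R * Nat.card E := hb
      _ = Nat.card ↥(E ⊓ R) * E.relIndex R * Nat.card E := by rw [h2]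
      _ ≤ Nat.card (Subgroup.zpowers z₁) * E.relIndex R * Nat.card E :=
        Nat.mul_le_mul_right _ (Nat.mul_le_mul_right _ hinf)
      _ = _ := by ring
  refine finish hG hsymp E R Z hz₁c hz₁ hz₁1 hz₁Z (fun e he r hr => Subgroup.mem_centralizer_iff.1 hr e he) ?_
    (Or.inr hEex) (fun e he => hQp e (hEQ he)) hEcen (fun h e he => hQq h e (hEQ he))
    (fun e he z hz => hZC e (hEC he) z hz) hZ ?_ ?_
  · intro g
    have hg : g ∈ ((E ⊔ R : Subgroup G) : Set G) := by rw [hER]; trivial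
    rw [Subgroup.normal_mul] at hg
    obtain ⟨e, he, r, hr, rfl⟩ := hg
    exact ⟨e, he, r, hr, rfl⟩
  · exact fun z hz => Subgroup.mem_centralizer_iff.2 fun e he => hZC e (hEC he) z hz
  · intro r hr h
    refine Subgroup.mem_centralizer_iff.2 fun x hx => ?_
    obtain ⟨e, he, z, hz, rfl⟩ := hCE x hx
    exact ((show Commute e r from Subgroup.mem_centralizer_iff.1 hr e he).mul_left (show Commute z r from h z hz)).eq

end CfsgLib.Fus.SymplecticType
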