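import Cfsg.Agent.Fus.Yoshida

/-!
Thompson transfer for saturated fusion systems.
-/

set_option autoImplicit false
set_option linter.style.haveILetI false

open Cfsg Cfsg.FusionSystem

namespace CfsgLib.Fus.ThompsonTransfer

variable {Ω : Type*} [Group Ω] {S : Subgroup Ω} {F : FusionSystem S}

theorem img_zpowers {M : Subgroup Ω} {f : Ω → Ω} (hf : IsMap F M f) {x : Ω} (hx : x ∈ M) :
    img f (Subgroup.zpowers x) = Subgroup.zpowers (f x) := by
  obtain ⟨φ, hφ, hφf⟩ := hf.mono (Subgroup.zpowers_le.2 hx)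
  rw [img_congr (f := f) (g := ev φ) fun y hy => by rw [ev_of_mem φ hy, hφf], img_ev, MonoidHom.range_eq_map,
    show (⊤ : Subgroup (Subgroup.zpowers x)) = Subgroup.zpowers ⟨x, Subgroup.mem_zpowers x⟩ from
      (eq_top_iff.2 fun ⟨y, hy⟩ _ => by
        obtain ⟨k, rfl⟩ := hy
        exact ⟨k, Subtype.ext (by simp)⟩).symm, MonoidHom.map_zpowers, hφf]

theorem eq_of_ne_one_two : ∀ a b : Multiplicative (ZMod 2), a ≠ 1 → b ≠ 1 → a = b := by decide

theorem ne_one_two : Multiplicative.ofAdd (1 : ZMod 2) ≠ 1 := by decide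

theorem sq_two : ∀ a : Multiplicative (ZMod 2), a ^ 2 = 1 := by decide

theorem mem_center_of_normalizer {i g : Ω} (hi : orderOf i = 2)
    (hg : g ∈ Subgroup.normalizer (Subgroup.zpowers i : Set Ω)) : g * i = i * g := by
  have h1 := (Subgroup.mem_normalizer_iff.1 hg i).1 (Subgroup.mem_zpowers i)
  obtain ⟨k, hk⟩ := h1
  change i ^ k = g * i * g⁻¹ at hk
  rw [← mul_inv_eq_iff_eq_mul, ← hk]
  rcases Int.even_or_odd k with ⟨m, rfl⟩ | ⟨m, rfl⟩
  · exfalso
    have h2 : i ^ (m + m) = 1 := by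
      rw [← two_mul, zpow_mul, zpow_two, ← pow_two, ← hi, pow_orderOf_eq_one, one_zpow]
    rw [h2] at hk
    have h3 : i = 1 := by
      have := congrArg (fun y => g⁻¹ * y * g) hk
      simpa [mul_assoc] using this.symm
    rw [h3, orderOf_one] at hi
    exact absurd hi (by norm_num)
  · rw [zpow_add, zpow_mul, zpow_two, ← pow_two, ← hi, pow_orderOf_eq_one, one_zpow, one_mul, zpow_one]

variable [Finite S]

theorem not_mem_hyperfocal (hS : IsPGroup 2 S) (hF : F.IsSaturated 2) {T : Subgroup Ω}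
    (hT : T.relIndex S = 2) {i : Ω} (hi : i ∈ S) (hi2 : orderOf i = 2)
    (h : ∀ j : Ω, F.IsConjElt i j → F.IsFullyNormalized (Subgroup.zpowers j) → j ∉ T) :
    i ∉ F.hyperfocalSubgroup 2 := by
  classical
  haveI : Fact (Nat.Prime 2) := ⟨Nat.prime_two⟩
  set T' := T.subgroupOf S with hT'
  have hidx : T'.index = 2 := hT
  haveI : T'.Normal := Subgroup.normal_of_index_eq_two hidx
  haveI : IsCyclic (↥S ⧸ T') := isCyclic_of_prime_card (p := 2) (by rw [← Subgroup.index_eq_card]; exact hidx)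
  let e : ↥S ⧸ T' ≃* Multiplicative (ZMod 2) := mulEquivOfCyclicCardEq (by
    rw [← Subgroup.index_eq_card, hidx, Nat.card_congr Multiplicative.toAdd, Nat.card_zmod])
  let θ : ↥S →* Multiplicative (ZMod 2) := e.toMonoidHom.comp (QuotientGroup.mk' T')
  have hθ : ∀ g : ↥S, θ g = 1 ↔ (g : Ω) ∈ T := fun g => by
    show e (QuotientGroup.mk g) = 1 ↔ _
    rw [e.map_eq_one_iff, QuotientGroup.eq_one_iff]
    exact Subgroup.mem_subgroupOf
  have hA : ∀ a b : Multiplicative (ZMod 2), a ≠ 1 → b ≠ 1 → a = b := eq_of_ne_one_two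
  obtain ⟨n, P, ψ, N, hN, hψ, hcalc, tr, htr, hstab⟩ := exists_stable_tfac hS hF θ
  haveI : ∀ k, Fintype (↥S ⧸ P k) := fun k => Fintype.ofFinite _
  obtain ⟨Q0, hQ0, hQ0n⟩ := exists_fullyNormalized (F := F) (Subgroup.zpowers_le.2 hi)
  obtain ⟨u, hu, hui⟩ := isConj_iff.1 hQ0
  set i0 := u i with hi0def
  rw [img_zpowers hu (Subgroup.mem_zpowers i)] at hui
  subst hui
  have hi0 : i0 ∈ S := hu.mem (Subgroup.mem_zpowers i)
  have hi02 : orderOf i0 = 2 := by
    rw [← Nat.card_zpowers, card_eq_of_isConj hQ0, Nat.card_zpowers, hi2]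
  set s0 : ↥S := ⟨i0, hi0⟩
  have hs0 : s0 * s0 = 1 := Subtype.ext (by
    show i0 * i0 = 1
    rw [← pow_two, ← hi02, pow_orderOf_eq_one])
  have htr0 : tr s0 ≠ 1 := by
    let X := Σ k : Fin n, ↥S ⧸ P k
    let v : X → Multiplicative (ZMod 2) := fun x => tfac (ψ x.1) s0 x.2
    have hprod : tr s0 = ∏ x : X, v x := (htr s0).trans (Fintype.prod_sigma v).symm
    obtain ⟨a, ha⟩ : ∃ a : Multiplicative (ZMod 2), a ≠ 1 := ⟨Multiplicative.ofAdd 1, ne_one_two⟩
    have hfix : ∏ x : X, v x = ∏ x ∈ Finset.univ.filter (fun x : X => s0 • x.2 = x.2), v x := by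
      rw [← Finset.prod_filter_mul_prod_filter_not Finset.univ (fun x : X => s0 • x.2 = x.2) v]
      refine mul_eq_left.2 (Finset.prod_involution (fun x _ => (⟨x.1, s0 • x.2⟩ : X)) ?_ ?_ ?_ ?_)
      · intro x _
        have h1 := (tfac_mul (ψ x.1) s0 s0 x.2).symm
        rw [hs0, mul_comm] at h1
        refine h1.trans ((congrArg (ψ x.1) (Subtype.ext ?_)).trans (map_one _))
        simp
      · intro x hx _ he
        exact (Finset.mem_filter.1 hx).2 (eq_of_heq (Sigma.ext_iff.1 he).2)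
      · intro x hx
        refine Finset.mem_filter.2 ⟨Finset.mem_univ _, fun he => (Finset.mem_filter.1 hx).2 ?_⟩
        simp only at he
        rw [← mul_smul, hs0, one_smul] at he
        exact he.symm
      · intro x hx
        refine Sigma.ext rfl (heq_of_eq ?_)
        show s0 • s0 • x.2 = x.2
        rw [← mul_smul, hs0, one_smul]
    let C : Subgroup ↥S := Subgroup.centralizer {s0}
    let Y := {x : X // s0 • x.2 = x.2 ∧ v x ≠ 1}
    have hcomm : ∀ g : C, (g : ↥S) * s0 = s0 * g := fun g =>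
      (Subgroup.mem_centralizer_singleton_iff.1 g.2).symm |> fun h => by
        first
        | exact h
        | exact h.symm
    have hinv : ∀ (g : C) (x : X), s0 • x.2 = x.2 →
        s0 • ((g : ↥S) • x.2) = (g : ↥S) • x.2 ∧ v ⟨x.1, (g : ↥S) • x.2⟩ = v x := fun g x hx => by
      refine ⟨by rw [← mul_smul, ← hcomm g, mul_smul, hx], ?_⟩
      have h1 := tfac_mul (ψ x.1) s0 (g : ↥S) x.2
      have h2 := tfac_mul (ψ x.1) (g : ↥S) s0 x.2
      rw [hcomm g, h1, hx, mul_comm] at h2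
      exact mul_left_cancel h2
    letI : MulAction C Y :=
      { smul := fun g x => ⟨⟨x.1.1, (g : ↥S) • x.1.2⟩, (hinv g x.1 x.2.1).1,
          fun he => x.2.2 (((hinv g x.1 x.2.1).2).symm.trans he)⟩
        one_smul := fun x => Subtype.ext (Sigma.ext rfl (heq_of_eq (one_smul ↥S x.1.2)))
        mul_smul := fun g g' x => Subtype.ext (Sigma.ext rfl (heq_of_eq (mul_smul (g : ↥S) g' x.1.2))) }
    letI : MulAction C X :=
      { smul := fun g x => ⟨x.1, (g : ↥S) • x.2⟩
        one_smul := fun x => Sigma.ext rfl (heq_of_eq (one_smul ↥S x.2))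
        mul_smul := fun g g' x => Sigma.ext rfl (heq_of_eq (mul_smul (g : ↥S) g' x.2)) }
    have hCp : IsPGroup 2 C := hS.to_subgroup C
    have hgood : ∀ x : X, (∀ g : C, (g : ↥S) • x.2 = x.2) → s0 • x.2 = x.2 ∧ v x ≠ 1 := by
      intro x hx
      have hs := hx ⟨s0, Subgroup.mem_centralizer_singleton_iff.2 rfl⟩
      refine ⟨hs, fun hv => ?_⟩
      obtain ⟨k, c⟩ := x
      obtain ⟨f, hf, hfe⟩ := hψ k
      set o := c.out
      have hmem : ∀ g : C, o⁻¹ * (g : ↥S) * o ∈ P k := fun g => pow_smul_eq_self_iff.1 (hx g)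
      set w : P k := ⟨o⁻¹ * s0 * o, pow_smul_eq_self_iff.1 hs⟩
      obtain ⟨s, hfs, hψs⟩ := hfe w
      have hvw : v ⟨k, c⟩ = ψ k w := congrArg (ψ k) (Subtype.ext (by
        show (s0 • c).out⁻¹ * (s0 * o) = o⁻¹ * s0 * o
        rw [hs, mul_assoc]))
      have hsT : (s : Ω) ∈ T := (hθ s).1 (by rw [← hψs, ← hvw]; exact hv)
      set g₀ : Ω → Ω := f ∘ conjF (o : Ω)⁻¹
      have hC : ∀ z ∈ centralizerIn S (Subgroup.zpowers i0), conjF (o : Ω)⁻¹ z ∈ (P k).map S.subtype := by
        intro z hz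
        refine ⟨_, hmem ⟨⟨z, hz.1⟩, Subgroup.mem_centralizer_singleton_iff.2 ?_⟩, by simp [mul_assoc]⟩
        first
        | exact Subtype.ext (hz.2 i0 (Subgroup.mem_zpowers i0)).symm
        | exact Subtype.ext (hz.2 i0 (Subgroup.mem_zpowers i0))
      have hg₀ : IsMap F (centralizerIn S (Subgroup.zpowers i0)) g₀ :=
        (IsMap.conj F inf_le_left (S.inv_mem o.2)).comp hf hC
      have hi0C : Subgroup.zpowers i0 ≤ centralizerIn S (Subgroup.zpowers i0) := Subgroup.zpowers_le.2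
        ⟨hi0, fun y ⟨m, hm⟩ => by subst hm; exact (Commute.self_zpow i0 m).symm⟩
      have hval : g₀ i0 = (s : Ω) := by
        show f ((o : Ω)⁻¹ * i0 * (o : Ω)⁻¹⁻¹) = _
        rw [inv_inv]
        exact hfs
      have hzi : img g₀ (Subgroup.zpowers i0) = Subgroup.zpowers (s : Ω) := by
        rw [img_zpowers hg₀ (hi0C (Subgroup.mem_zpowers i0)), hval]
      have hconj : F.IsConj (Subgroup.zpowers i) (Subgroup.zpowers (s : Ω)) :=
        isConj_trans hQ0 (isConj_iff.2 ⟨g₀, hg₀.mono hi0C, hzi⟩)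
      have hci : F.IsConjElt i (s : Ω) := by
        have h1 : IsMap F (Subgroup.zpowers i) (g₀ ∘ u) := hu.comp (hg₀.mono hi0C) fun x hx => by
          rw [← img_zpowers hu (Subgroup.mem_zpowers i)]; exact mem_img_of_mem hx
        have h2 := isConjElt_of_map h1 (Subgroup.mem_zpowers i)
        rwa [Function.comp_apply, ← hi0def, hval] at h2
      refine h (s : Ω) hci ⟨Subgroup.zpowers_le.2 s.2, fun R hR => ?_⟩ hsT
      refine (hQ0n.2 R (isConj_trans (isConj_iff.2 ⟨g₀, hg₀.mono hi0C, hzi⟩) hR)).trans ?_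
      have hNC : normalizerIn S (Subgroup.zpowers i0) ≤ centralizerIn S (Subgroup.zpowers i0) := fun z hz =>
        ⟨hz.1, fun y ⟨m, hm⟩ => by subst hm; exact (Commute.zpow_left (mem_center_of_normalizer hi02 hz.2).symm m)⟩
      haveI := finite_of_le (normalizerIn_le (S := S) (img g₀ (Subgroup.zpowers i0)))
      rw [← (hg₀.mono hNC).card_img, ← hzi]
      exact Subgroup.card_le_of_le (hg₀.img_normalizerIn_le hi0C hNC)
    have hfp : Nat.card ↥(MulAction.fixedPoints C Y) = Nat.card ↥(MulAction.fixedPoints C X) := by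
      refine Nat.card_congr
        { toFun := fun y => ⟨y.1.1, fun g => congrArg Subtype.val (y.2 g)⟩
          invFun := fun x => ⟨⟨x.1, hgood x.1 fun g => eq_of_heq (Sigma.ext_iff.1 (x.2 g)).2⟩,
            fun g => Subtype.ext (x.2 g)⟩
          left_inv := fun y => rfl
          right_inv := fun x => rfl }
    haveI : Fintype X := inferInstance
    have hX : Nat.card X ≡ N [MOD 2] := by
      rw [Nat.card_sigma]
      have h1 := hcalc (fun k => Multiplicative.ofAdd ((Nat.card (↥S ⧸ P k) : ℕ) : ZMod 2)) (Multiplicative.ofAdd 1)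
        (fun k hk => by
          rw [← Subgroup.index_eq_card, hk, Subgroup.index_top, Nat.cast_one])
        (fun k hk => by
          obtain ⟨m, hm⟩ := hS.index (P k)
          have hm0 : m ≠ 0 := fun h0 => hk (Subgroup.index_eq_one.1 (by rw [hm, h0, pow_zero]))
          rw [← Subgroup.index_eq_card, hm, Nat.cast_pow, ZMod.natCast_self, zero_pow hm0]
          rfl)
      rw [← ZMod.natCast_eq_natCast_iff]
      have h2 := congrArg Multiplicative.toAdd h1
      simpa using h2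
    have hodd : Odd (Nat.card Y) := by
      have h1 := hCp.card_modEq_card_fixedPoints Y
      rw [hfp] at h1
      have h2 := (h1.trans (hCp.card_modEq_card_fixedPoints X).symm).trans hX
      rw [Nat.odd_iff, h2, ← Nat.odd_iff, ← Nat.not_even_iff_odd, even_iff_two_dvd]
      exact hN
    rw [hprod, hfix, ← Finset.prod_filter_ne_one, Finset.filter_filter,
      Finset.prod_eq_pow_card (b := a) fun x hx => hA _ _ (Finset.mem_filter.1 hx).2.2 ha]
    obtain ⟨m, hm⟩ := hodd
    have hgoal : a ^ Nat.card Y ≠ 1 := by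
      rw [hm, pow_succ, pow_mul, sq_two a, one_pow, one_mul]
      exact ha
    rw [Nat.card_eq_fintype_card, Fintype.card_subtype] at hgoal
    convert hgoal
  intro hmem
  refine htr0 ?_
  have hfocS : F.focalSubgroup ≤ tr.ker.map S.subtype := by
    rw [focal_eq hS hF]
    refine sup_le (hyperfocal_le_iff.2 fun Q hQ α hα _ x hx => ?_) ?_
    · refine ⟨(⟨x, hQ hx⟩ : ↥S)⁻¹ * ⟨_, hQ (autFun_mem α hx)⟩, ?_, rfl⟩
      rw [SetLike.mem_coe, MonoidHom.mem_ker, map_mul, map_inv,
        hstab Q α ((mem_autGroup hQ).1 hα) ⟨x, hQ hx⟩ ⟨_, hQ (autFun_mem α hx)⟩ hx rfl, inv_mul_cancel]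
    · rw [← map_commutator_subtype S]
      refine Subgroup.map_mono ((commutator_def ↥S).le.trans (Subgroup.commutator_le.2 fun a _ b _ => ?_))
      rw [MonoidHom.mem_ker, map_commutatorElement, commutatorElement_eq_one_iff_mul_comm]
      exact mul_comm _ _
  have h1 : i ∈ F.focalSubgroup := by
    rw [focal_eq hS hF]; exact Subgroup.mem_sup_left hmem
  have h2 : i⁻¹ * i0 ∈ F.focalSubgroup := by
    obtain ⟨φ, hφ, hφu⟩ := hu
    exact Subgroup.subset_closure ⟨_, φ, ⟨i, Subgroup.mem_zpowers i⟩, hφ, by rw [hφu]⟩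
  obtain ⟨z, hz, hze⟩ := hfocS (F.focalSubgroup.mul_mem h1 h2)
  rw [mul_inv_cancel_left] at hze
  rw [show s0 = z from (Subtype.ext hze).symm]
  exact hz

end CfsgLib.Fus.ThompsonTransfer
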