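import Cfsg.Prelude.Def_Local
import Mathlib.GroupTheory.Sylow
import Mathlib.GroupTheory.Nilpotent

/-!
A pair of distinct conjugates of a tightly embedded subgroup: 2-subgroups of one normalizing the other.
-/

set_option autoImplicit false
set_option linter.style.haveILetI false

namespace CfsgLib.Fus.Tight

variable {G : Type*} [Group G]

theorem eq_one_of_odd [Finite G] {P D : Subgroup G} (hP : IsPGroup 2 ↥P) (hD : Odd (Nat.card ↥D)) {a : G}
    (haP : a ∈ P) (haD : a ∈ D) : a = 1 := by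
  obtain ⟨k, hk⟩ := IsPGroup.iff_orderOf.1 hP ⟨a, haP⟩
  rw [Subgroup.orderOf_mk] at hk
  refine orderOf_eq_one_iff.1 (Nat.eq_one_of_dvd_coprimes (a := 2 ^ k) (b := Nat.card ↥D) ?_ (hk ▸ dvd_rfl)
    (Subgroup.orderOf_dvd_natCard D haD))
  exact Nat.Coprime.pow_left k (Nat.coprime_two_left.2 hD)

/-- An element mapping a nontrivial 2-element of `K` into `K` normalizes `K`. -/
theorem mem_normalizer_of_conj_mem [Finite G] {K : Subgroup G} (hK : Cfsg.IsTightlyEmbedded K) {T : Subgroup G}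
    (hT : IsPGroup 2 ↥T) {t x : G} (htT : t ∈ T) (ht : t ≠ 1) (htK : t ∈ K) (hxt : x⁻¹ * t * x ∈ K) :
    x ∈ Subgroup.normalizer (K : Set G) := by
  by_contra hx
  refine ht (eq_one_of_odd hT (hK.2 x hx) htT ⟨htK, x⁻¹ * t * x, hxt, ?_⟩)
  show x * (x⁻¹ * t * x) * x⁻¹ = t
  group

theorem tight_conj {K : Subgroup G} (hK : Cfsg.IsTightlyEmbedded K) (g : G) :
    Cfsg.IsTightlyEmbedded (K.map (MulAut.conj g).toMonoidHom) := by
  have hinj : ∀ y : G, Function.Injective (MulAut.conj y).toMonoidHom := fun y => (MulAut.conj y).injective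
  refine ⟨by rw [Subgroup.card_map_of_injective (hinj g)]; exact hK.1, fun x hx => ?_⟩
  have hnot : g⁻¹ * x * g ∉ Subgroup.normalizer (K : Set G) := fun h => hx (by
    have h' := Subgroup.mem_map_of_mem (MulAut.conj g).toMonoidHom h
    rw [Subgroup.map_equiv_normalizer_eq] at h'
    simpa [mul_assoc] using h')
  have he : (K.map (MulAut.conj g).toMonoidHom).map (MulAut.conj x).toMonoidHom =
      (K.map (MulAut.conj (g⁻¹ * x * g)).toMonoidHom).map (MulAut.conj g).toMonoidHom := by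
    rw [Subgroup.map_map, Subgroup.map_map]
    congr 1
    ext y
    simp [mul_assoc]
  rw [he, ← Subgroup.map_inf _ _ _ (hinj g), Subgroup.card_map_of_injective (hinj g)]
  exact hK.2 _ hnot

/-- The main step: the centralizer of `T` in a `T`-invariant 2-subgroup `U` of `K` is large. -/
theorem pair [Finite G] {K K' : Subgroup G} (hK' : Cfsg.IsTightlyEmbedded K') (hodd : Odd (Nat.card ↥(K ⊓ K')))
    {T U : Subgroup G} (hT : IsPGroup 2 ↥T) (hTK : T ≤ K') (hTn : T ≤ Subgroup.normalizer (K : Set G))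
    (hT1 : T ≠ ⊥) (hU : IsPGroup 2 ↥U) (hUK : U ≤ K) (hTU : T ≤ Subgroup.normalizer (U : Set G)) :
    U ⊓ Subgroup.centralizer (T : Set G) ≤ Subgroup.normalizer (K' : Set G) ∧
      (U ⊓ Subgroup.centralizer (T : Set G) = U ∨
        ∃ f : ↥T →* ↥(U ⊓ Subgroup.centralizer (T : Set G)), Function.Injective f) := by
  classical
  set R := U ⊓ Subgroup.centralizer (T : Set G) with hR
  obtain ⟨⟨t₀, ht₀⟩, ht₀1⟩ := Subgroup.ne_bot_iff_exists_ne_one.1 hT1
  have hcomm : ∀ r ∈ R, ∀ t ∈ T, t * r = r * t := fun r hr t ht => Subgroup.mem_centralizer_iff.1 hr.2 t ht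
  have hRN : R ≤ Subgroup.normalizer (K' : Set G) := fun r hr =>
    mem_normalizer_of_conj_mem hK' hT ht₀ (fun h => ht₀1 (Subtype.ext h)) (hTK ht₀) (by
      rw [mul_assoc, hcomm r hr t₀ ht₀, inv_mul_cancel_left]; exact hTK ht₀)
  refine ⟨hRN, ?_⟩
  have hdisj : ∀ a ∈ T, a ∈ U → a = 1 := fun a ha hau => eq_one_of_odd hT hodd ha ⟨hUK hau, hTK ha⟩
  have hkey : ∀ x ∈ U, x ∈ Subgroup.normalizer (K' : Set G) → x ∈ R := fun x hx hxN => by
    refine ⟨hx, Subgroup.mem_centralizer_iff.2 fun t ht => ?_⟩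
    have h1 : x * t * x⁻¹ * t⁻¹ ∈ U := by
      rw [mul_assoc x t, mul_assoc x (t * x⁻¹)]
      exact U.mul_mem hx ((Subgroup.mem_normalizer_iff.1 (hTU ht) x⁻¹).1 (U.inv_mem hx))
    have h2 : x * t * x⁻¹ * t⁻¹ ∈ K' :=
      K'.mul_mem ((Subgroup.mem_normalizer_iff.1 hxN t).1 (hTK ht)) (K'.inv_mem (hTK ht))
    have h3 := eq_one_of_odd hU hodd h1 ⟨hUK h1, h2⟩
    rw [mul_inv_eq_one, mul_inv_eq_iff_eq_mul] at h3
    exact h3.symm
  by_cases hall : R = U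
  · exact Or.inl hall
  right
  have hVT : T ≤ Subgroup.normalizer (U : Set G) := hTU
  let V := U ⊔ T
  let W := R ⊔ T
  have hVdec : ∀ v ∈ V, ∃ u ∈ U, ∃ t ∈ T, u * t = v := fun v hv => by
    rw [← SetLike.mem_coe, Subgroup.coe_mul_of_right_le_normalizer_left U T hVT] at hv
    obtain ⟨u, hu, t, ht, rfl⟩ := hv
    exact ⟨u, hu, t, ht, rfl⟩
  have hTR : T ≤ Subgroup.normalizer (R : Set G) := fun t ht => Subgroup.mem_normalizer_iff.2 fun r => by
    refine ⟨fun hr => by rw [hcomm r hr t ht, mul_inv_cancel_right]; exact hr, fun hr => ?_⟩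
    have h := hcomm _ hr t ht
    have e : t * r * t⁻¹ = r := by
      have h' : t * (t * r * t⁻¹) = t * r := by rw [h, inv_mul_cancel_right]
      exact mul_left_cancel h'
    rwa [e] at hr
  have hWdec : ∀ v ∈ W, ∃ u ∈ R, ∃ t ∈ T, u * t = v := fun v hv => by
    rw [← SetLike.mem_coe, Subgroup.coe_mul_of_right_le_normalizer_left R T hTR] at hv
    obtain ⟨u, hu, t, ht, rfl⟩ := hv
    exact ⟨u, hu, t, ht, rfl⟩
  have hWU : ∀ v ∈ W, v ∈ U → v ∈ R := fun v hv hvU => by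
    obtain ⟨r, hr, t, ht, rfl⟩ := hWdec v hv
    have : t = 1 := hdisj t ht (by simpa using U.mul_mem (U.inv_mem hr.1) hvU)
    rw [this, mul_one]; exact hr
  have hVp : IsPGroup 2 ↥V := hU.to_sup_of_normal_left' hT hVT
  haveI := hVp.isNilpotent
  have hlt : W.subgroupOf V < ⊤ := lt_top_iff_ne_top.2 fun h => hall (le_antisymm inf_le_left fun u hu =>
    hWU u (Subgroup.subgroupOf_eq_top.1 h (le_sup_left (b := T) hu)) hu)
  obtain ⟨⟨v, hv⟩, hvn, hvW⟩ := SetLike.exists_of_lt (Group.normalizerCondition_of_isNilpotent _ hlt)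
  obtain ⟨x, hx, s, hs, rfl⟩ := hVdec v hv
  have hxR : x ∉ R := fun h => hvW (show x * s ∈ W from
    W.mul_mem (le_sup_left (b := T) h) (le_sup_right (a := R) hs))
  have hconj : ∀ t ∈ T, x * t * x⁻¹ ∈ W := fun t ht => by
    have hts : s⁻¹ * t * s ∈ T := T.mul_mem (T.mul_mem (T.inv_mem hs) ht) hs
    have h := (Subgroup.mem_normalizer_iff.1 hvn ⟨s⁻¹ * t * s, le_sup_right (a := U) hts⟩).1
      (le_sup_right (a := R) hts)
    have h' : x * s * (s⁻¹ * t * s) * (x * s)⁻¹ ∈ W := h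
    rwa [show x * s * (s⁻¹ * t * s) * (x * s)⁻¹ = x * t * x⁻¹ by group] at h'
  have hval : ∀ t ∈ T, x * t * x⁻¹ * t⁻¹ ∈ R := fun t ht => by
    refine hWU _ (W.mul_mem (hconj t ht) (W.inv_mem (le_sup_right (a := R) ht))) ?_
    rw [mul_assoc x t, mul_assoc x (t * x⁻¹)]
    exact U.mul_mem hx ((Subgroup.mem_normalizer_iff.1 (hTU ht) x⁻¹).1 (U.inv_mem hx))
  let f : ↥T →* ↥R := MonoidHom.mk' (fun t => ⟨x * t * x⁻¹ * (t : G)⁻¹, hval t t.2⟩) fun a b => Subtype.ext (by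
    have h := hcomm _ (hval b b.2) a a.2
    show x * ((a : G) * b) * x⁻¹ * ((a : G) * b)⁻¹ = x * a * x⁻¹ * (a : G)⁻¹ * (x * b * x⁻¹ * (b : G)⁻¹)
    calc x * ((a : G) * b) * x⁻¹ * ((a : G) * b)⁻¹
        = x * a * x⁻¹ * (a : G)⁻¹ * ((a : G) * (x * b * x⁻¹ * (b : G)⁻¹)) * (a : G)⁻¹ := by group
      _ = _ := by rw [h]; group)
  refine ⟨f, (injective_iff_map_eq_one f).2 fun t ht => ?_⟩
  by_contra hne
  refine hxR (hkey x hx (mem_normalizer_of_conj_mem hK' hT t.2 (fun h => hne (Subtype.ext h)) (hTK t.2) ?_))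
  have h1 : x * (t : G) * x⁻¹ * (t : G)⁻¹ = 1 := congrArg (fun r : ↥R => (r : G)) ht
  rw [mul_inv_eq_one, mul_inv_eq_iff_eq_mul] at h1
  rw [mul_assoc, ← h1, inv_mul_cancel_left]
  exact hTK t.2

/-- The order of a sum of a subgroup and a disjoint subgroup normalizing it. -/
theorem card_sup_disjoint {A B : Subgroup G} (hBA : B ≤ Subgroup.normalizer (A : Set G)) (hd : A ⊓ B = ⊥) :
    Nat.card ↥(A ⊔ B) = Nat.card ↥A * Nat.card ↥B := by
  rw [← Nat.card_prod]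
  refine (Nat.card_congr (Equiv.ofBijective
    (fun z : ↥A × ↥B => (⟨(z.1 : G) * z.2, Subgroup.mul_mem_sup z.1.2 z.2.2⟩ : ↥(A ⊔ B))) ⟨?_, ?_⟩)).symm
  · rintro ⟨a, b⟩ ⟨a', b'⟩ h
    have h' : (a : G) * b = a' * b' := congrArg Subtype.val h
    have e : (a' : G)⁻¹ * a = b' * (b : G)⁻¹ := by
      rw [eq_mul_inv_iff_mul_eq, mul_assoc, h', inv_mul_cancel_left]
    have h1 : (a' : G)⁻¹ * a ∈ A ⊓ B :=
      ⟨A.mul_mem (A.inv_mem a'.2) a.2, e ▸ B.mul_mem b'.2 (B.inv_mem b.2)⟩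
    rw [hd, Subgroup.mem_bot, inv_mul_eq_one] at h1
    exact Prod.ext (Subtype.ext h1.symm) (Subtype.ext (by rw [h1] at h'; exact mul_left_cancel h'))
  · rintro ⟨z, hz⟩
    rw [← SetLike.mem_coe, Subgroup.coe_mul_of_right_le_normalizer_left A B hBA] at hz
    obtain ⟨a, ha, b, hb, rfl⟩ := hz
    exact ⟨(⟨a, ha⟩, ⟨b, hb⟩), rfl⟩

/-- A Sylow 2-subgroup of `K ⊔ T` meets `K` in a Sylow 2-subgroup of `K`. -/
theorem sylow_inf [Finite G] {K T S : Subgroup G} (hTn : T ≤ Subgroup.normalizer (K : Set G)) (hd : K ⊓ T = ⊥)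
    (hTS : T ≤ S) (hS : S ≤ K ⊔ T) (hSsyl : ¬ 2 ∣ S.relIndex (K ⊔ T)) :
    T ≤ Subgroup.normalizer ((S ⊓ K : Subgroup G) : Set G) ∧ S = (S ⊓ K) ⊔ T ∧
      ¬ 2 ∣ (S ⊓ K).relIndex K := by
  have hn : T ≤ Subgroup.normalizer ((S ⊓ K : Subgroup G) : Set G) := fun t ht =>
    Subgroup.mem_normalizer_iff.2 fun y => by
      show (y ∈ S ∧ y ∈ K) ↔ (t * y * t⁻¹ ∈ S ∧ t * y * t⁻¹ ∈ K)
      exact and_congr (Subgroup.mem_normalizer_iff.1 (Subgroup.le_normalizer (hTS ht)) y)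
        (Subgroup.mem_normalizer_iff.1 (hTn ht) y)
  have heq : S = (S ⊓ K) ⊔ T := le_antisymm (fun s hs => by
    have h := hS hs
    rw [← SetLike.mem_coe, Subgroup.coe_mul_of_right_le_normalizer_left K T hTn] at h
    obtain ⟨a, ha, b, hb, rfl⟩ := h
    refine Subgroup.mul_mem_sup ⟨?_, ha⟩ hb
    simpa using S.mul_mem hs (S.inv_mem (hTS hb))) (sup_le inf_le_left hTS)
  refine ⟨hn, heq, fun h => hSsyl ?_⟩
  have h1 := Subgroup.card_mul_index (S.subgroupOf (K ⊔ T))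
  rw [Nat.card_congr (Subgroup.subgroupOfEquivOfLe hS).toEquiv, card_sup_disjoint hTn hd] at h1
  have h2 := Subgroup.card_mul_index ((S ⊓ K).subgroupOf K)
  rw [Nat.card_congr (Subgroup.subgroupOfEquivOfLe (inf_le_right : S ⊓ K ≤ K)).toEquiv] at h2
  have h3 : Nat.card ↥S = Nat.card ↥(S ⊓ K) * Nat.card ↥T := by
    conv_lhs => rw [heq]
    exact card_sup_disjoint hn (le_bot_iff.1 (le_trans (inf_le_inf_right T inf_le_right) hd.le))
  rw [h3] at h1
  have h4 : Nat.card ↥(S ⊓ K) * Nat.card ↥T * (S.subgroupOf (K ⊔ T)).index =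
      Nat.card ↥(S ⊓ K) * Nat.card ↥T * ((S ⊓ K).subgroupOf K).index := by
    rw [h1, ← h2]; ring
  have h5 := Nat.eq_of_mul_eq_mul_left (Nat.mul_pos Nat.card_pos Nat.card_pos) h4
  show 2 ∣ (S.subgroupOf (K ⊔ T)).index
  rw [h5]
  exact h

theorem exists_sylow_over [Finite G] {M T : Subgroup G} (hT : IsPGroup 2 ↥T) (hTM : T ≤ M) :
    ∃ S : Subgroup G, T ≤ S ∧ S ≤ M ∧ IsPGroup 2 ↥S ∧ ¬ 2 ∣ S.relIndex M := by
  haveI : Fact (Nat.Prime 2) := ⟨Nat.prime_two⟩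
  obtain ⟨P, hP⟩ := (hT.of_equiv (Subgroup.subgroupOfEquivOfLe hTM).symm).exists_le_sylow
  refine ⟨(P : Subgroup ↥M).map M.subtype, fun t ht => ⟨⟨t, hTM ht⟩, hP ht, rfl⟩, Subgroup.map_subtype_le _,
    P.isPGroup'.map _, ?_⟩
  rw [Subgroup.relIndex, Subgroup.subgroupOf, Subgroup.comap_map_eq_self_of_injective M.subtype_injective]
  exact P.not_dvd_index

theorem main [Finite G] (Q : Subgroup G) (hQ : Cfsg.IsTightlyEmbedded Q) (g : G)
    (hg : g ∉ Subgroup.normalizer (Q : Set G)) (T : Subgroup G) (hT1 : T ≠ ⊥)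
    (hT : T ≤ Q.map (MulAut.conj g).toMonoidHom ⊓ Subgroup.normalizer (Q : Set G))
    (hTsyl : IsPGroup 2 ↥T ∧ ¬ 2 ∣ T.relIndex (Q.map (MulAut.conj g).toMonoidHom ⊓ Subgroup.normalizer (Q : Set G)))
    (S : Subgroup G) (hTS : T ≤ S) (hS : S ≤ Q ⊔ T) (hSsyl : IsPGroup 2 ↥S ∧ ¬ 2 ∣ S.relIndex (Q ⊔ T)) :
    T ⊓ Q = ⊥ ∧ S ⊓ Subgroup.normalizer (T : Set G) ⊓ Q = (S ⊓ Q) ⊓ Subgroup.centralizer (T : Set G) ∧
      T ⊔ (S ⊓ Subgroup.normalizer (T : Set G) ⊓ Q) = S ⊓ Subgroup.normalizer (T : Set G) ∧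
      Nonempty (↥((S ⊓ Q) ⊓ Subgroup.centralizer (T : Set G)) ≃* ↥T) := by
  classical
  haveI : Fact (Nat.Prime 2) := ⟨Nat.prime_two⟩
  obtain ⟨hT2, hTmax⟩ := hTsyl
  set Q' := Q.map (MulAut.conj g).toMonoidHom with hQ'
  have hQ't : Cfsg.IsTightlyEmbedded Q' := tight_conj hQ g
  have hodd : Odd (Nat.card ↥(Q ⊓ Q')) := hQ.2 g hg
  have hTn : T ≤ Subgroup.normalizer (Q : Set G) := hT.trans inf_le_right
  have hTQ' : T ≤ Q' := hT.trans inf_le_left
  have hdisj : Q ⊓ T = ⊥ := eq_bot_iff.2 fun a ha => Subgroup.mem_bot.2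
    (eq_one_of_odd hT2 hodd ha.2 ⟨ha.1, hTQ' ha.2⟩)
  obtain ⟨hTU, hSeq, hUsyl⟩ := sylow_inf hTn hdisj hTS hS hSsyl.2
  have hU2 : IsPGroup 2 ↥(S ⊓ Q) := hSsyl.1.to_le inf_le_left
  have hnc : S ⊓ Subgroup.normalizer (T : Set G) ⊓ Q = (S ⊓ Q) ⊓ Subgroup.centralizer (T : Set G) := by
    refine le_antisymm (fun y hy => ⟨⟨hy.1.1, hy.2⟩, Subgroup.mem_centralizer_iff.2 fun t ht => ?_⟩)
      (fun y hy => ⟨⟨hy.1.1, Subgroup.centralizer_le_normalizer _ hy.2⟩, hy.1.2⟩)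
    have h1 : y * t * y⁻¹ * t⁻¹ ∈ T := T.mul_mem ((Subgroup.mem_normalizer_iff.1 hy.1.2 t).1 ht) (T.inv_mem ht)
    have h2 : y * t * y⁻¹ * t⁻¹ ∈ Q := by
      rw [mul_assoc y t, mul_assoc y (t * y⁻¹)]
      exact Q.mul_mem hy.2 ((Subgroup.mem_normalizer_iff.1 (hTn ht) y⁻¹).1 (Q.inv_mem hy.2))
    have h3 : y * t * y⁻¹ * t⁻¹ ∈ Q ⊓ T := ⟨h2, h1⟩
    rw [hdisj, Subgroup.mem_bot, mul_inv_eq_one, mul_inv_eq_iff_eq_mul] at h3
    exact h3.symm
  refine ⟨by rw [inf_comm]; exact hdisj, hnc, ?_, ?_⟩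
  · refine le_antisymm (sup_le (le_inf hTS Subgroup.le_normalizer) inf_le_left) fun y hy => ?_
    have h := hy.1
    rw [hSeq] at h
    replace h : y ∈ ((((S ⊓ Q) ⊔ T : Subgroup G)) : Set G) := h
    rw [Subgroup.coe_mul_of_right_le_normalizer_left _ _ hTU] at h
    obtain ⟨u, hu, t, ht, rfl⟩ := h
    have hun : u ∈ Subgroup.normalizer (T : Set G) := by
      simpa using mul_mem hy.2 (Subgroup.le_normalizer (T.inv_mem ht))
    rw [sup_comm]
    exact Subgroup.mul_mem_sup ⟨⟨hu.1, hun⟩, hu.2⟩ ht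
  set U := S ⊓ Q with hU
  set R := U ⊓ Subgroup.centralizer (T : Set G) with hR
  obtain ⟨hRN, hcases⟩ := pair hQ't hodd hT2 hTQ' hTn hT1 hU2 inf_le_right hTU
  -- the Sylow orders
  have hmax : ∀ {H P : Subgroup G}, IsPGroup 2 ↥P → P ≤ H → ∀ {P₀ : Subgroup G}, IsPGroup 2 ↥P₀ → P₀ ≤ H →
      ¬ 2 ∣ P₀.relIndex H → Nat.card ↥P ≤ Nat.card ↥P₀ := by
    intro H P hP hPH P₀ hP₀ hP₀H hmx
    let PS : Sylow 2 ↥H := (hP₀.of_equiv (Subgroup.subgroupOfEquivOfLe hP₀H).symm).toSylow hmx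
    obtain ⟨P1, hP1⟩ := (hP.of_equiv (Subgroup.subgroupOfEquivOfLe hPH).symm).exists_le_sylow
    rw [← Nat.card_congr (Subgroup.subgroupOfEquivOfLe hPH).toEquiv,
      ← Nat.card_congr (Subgroup.subgroupOfEquivOfLe hP₀H).toEquiv]
    exact (Subgroup.card_le_of_le hP1).trans (Nat.card_congr (P1.equiv PS).toEquiv).le
  have hconj : IsPGroup 2 ↥(U.map (MulAut.conj g).toMonoidHom) := hU2.map _
  have hcardU : Nat.card ↥T ≤ Nat.card ↥U := by
    rw [← Subgroup.card_map_of_injective (f := (MulAut.conj g).toMonoidHom) (MulAut.conj g).injective (K := U)]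
    refine hmax hT2 hTQ' hconj (Subgroup.map_mono inf_le_right) ?_
    rw [hQ', Subgroup.relIndex_map_map_of_injective _ _ (f := (MulAut.conj g).toMonoidHom) (MulAut.conj g).injective]
    exact hUsyl
  have hTR : Nat.card ↥T ≤ Nat.card ↥R := by
    rcases hcases with h | ⟨f, hf⟩
    · rw [← hR] at h; rwa [h]
    · exact Nat.card_le_card_of_injective f hf
  have hR2 : IsPGroup 2 ↥R := hU2.to_le inf_le_left
  have hRQ : R ≤ Q := inf_le_left.trans inf_le_right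
  have hR1 : R ≠ ⊥ := fun h => by
    rw [h, Subgroup.card_bot] at hTR
    exact hT1 (Subgroup.card_eq_one.1 (le_antisymm hTR Nat.card_pos))
  have hRT : Nat.card ↥R ≤ Nat.card ↥T := by
    obtain ⟨S', hRS', hS', hS'2, hS'syl⟩ := exists_sylow_over hR2 (le_sup_right : R ≤ Q' ⊔ R)
    have hdisj' : Q' ⊓ R = ⊥ := eq_bot_iff.2 fun a ha => Subgroup.mem_bot.2
      (eq_one_of_odd hR2 hodd ha.2 ⟨hRQ ha.2, ha.1⟩)
    obtain ⟨hRU', -, hU'syl⟩ := sylow_inf hRN hdisj' hRS' hS' hS'syl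
    have hodd' : Odd (Nat.card ↥(Q' ⊓ Q)) := by rwa [inf_comm]
    obtain ⟨hBN, hcases'⟩ := pair hQ hodd' hR2 hRQ hRN hR1 (hS'2.to_le inf_le_left) inf_le_right hRU'
    have hle : Nat.card ↥((S' ⊓ Q') ⊓ Subgroup.centralizer (R : Set G)) ≤ Nat.card ↥T :=
      hmax (hS'2.to_le (inf_le_left.trans inf_le_left)) (le_inf (inf_le_left.trans inf_le_right) hBN) hT2 hT hTmax
    refine le_trans ?_ hle
    rcases hcases' with h | ⟨f, hf⟩
    · rw [h]
      refine le_trans ?_ (hmax hconj (Subgroup.map_mono inf_le_right) (hS'2.to_le inf_le_left) inf_le_right hU'syl)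
      rw [Subgroup.card_map_of_injective (f := (MulAut.conj g).toMonoidHom) (MulAut.conj g).injective]
      exact Subgroup.card_le_of_le inf_le_left
    · exact Nat.card_le_card_of_injective f hf
  rcases hcases with h | ⟨f, hf⟩
  · rw [← hR] at h
    rw [h] at hRT hTR ⊢
    have hTs : ¬ 2 ∣ T.relIndex Q' := by
      have h1 := Subgroup.card_mul_index (T.subgroupOf Q')
      have h2 := Subgroup.card_mul_index ((U.map (MulAut.conj g).toMonoidHom).subgroupOf Q')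
      rw [Nat.card_congr (Subgroup.subgroupOfEquivOfLe hTQ').toEquiv] at h1
      rw [Nat.card_congr (Subgroup.subgroupOfEquivOfLe (Subgroup.map_mono inf_le_right)).toEquiv,
        Subgroup.card_map_of_injective (f := (MulAut.conj g).toMonoidHom) (MulAut.conj g).injective,
        le_antisymm hRT hcardU] at h2
      have h3 := Nat.eq_of_mul_eq_mul_left Nat.card_pos (h1.trans h2.symm)
      show ¬ 2 ∣ (T.subgroupOf Q').index
      rw [h3, ← Subgroup.relIndex, hQ',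
        Subgroup.relIndex_map_map_of_injective _ _ (f := (MulAut.conj g).toMonoidHom) (MulAut.conj g).injective]
      exact hUsyl
    let P1 : Sylow 2 ↥Q' := (hT2.of_equiv (Subgroup.subgroupOfEquivOfLe hTQ').symm).toSylow hTs
    let P2 : Sylow 2 ↥Q' :=
      (hconj.of_equiv (Subgroup.subgroupOfEquivOfLe (Subgroup.map_mono inf_le_right)).symm).toSylow (by
        rw [← Subgroup.relIndex,
          Subgroup.relIndex_map_map_of_injective _ _ (f := (MulAut.conj g).toMonoidHom) (MulAut.conj g).injective]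
        exact hUsyl)
    exact ⟨(U.equivMapOfInjective _ (MulAut.conj g).injective).trans
      ((Subgroup.subgroupOfEquivOfLe (Subgroup.map_mono inf_le_right)).symm.trans
        ((P2.equiv P1).trans (Subgroup.subgroupOfEquivOfLe hTQ')))⟩
  · exact ⟨(MulEquiv.ofBijective f ((Nat.bijective_iff_injective_and_card f).2 ⟨hf, le_antisymm hTR hRT⟩)).symm⟩

end CfsgLib.Fus.Tight
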