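import Cfsg.Agent.Fus.FunctorSection
import Mathlib.GroupTheory.Transfer
import Mathlib.GroupTheory.Abelianization.Defs

/-!
Control of transfer in all sections of a group from its constrained sections.
-/

set_option autoImplicit false
set_option linter.style.haveILetI false

open Cfsg
open scoped commutatorElement

namespace CfsgLib.Glau

universe u

section

variable {A : Type u} [Group A] [Finite A] {p : ℕ} [hp : Fact p.Prime]

theorem pow_eq_one_of_mem {S : Subgroup A} (hS : IsPGroup p S) {z : A} (hz : z ∈ S) : ∃ k, z ^ p ^ k = 1 := by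
  obtain ⟨k, hk⟩ := hS ⟨z, hz⟩
  exact ⟨k, congrArg Subtype.val hk⟩

/-- A central element of `A'` in a Sylow subgroup lies in the derived group of that Sylow subgroup. -/
theorem central_commutator {S : Subgroup A} (hS : Syl p S ⊤) {z : A} (hz : z ∈ S) (hc : z ∈ Subgroup.center A)
    (hd : z ∈ commutator A) : z ∈ ⁅S, S⁆ := by
  have h1 : MonoidHom.transfer (Abelianization.of : ↥S →* Abelianization ↥S) z = 1 :=
    Abelianization.commutator_subset_ker _ hd
  rw [MonoidHom.transfer_eq_pow _ z (fun k g₀ _ => by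
    rw [mul_assoc, ← Subgroup.mem_center_iff.1 (Subgroup.pow_mem _ hc k) g₀, inv_mul_cancel_left])] at h1
  have h2 : z ^ S.index ∈ ⁅S, S⁆ := by
    rw [← Subgroup.map_subtype_commutator]
    exact ⟨⟨z ^ S.index, S.pow_mem hz _⟩, (QuotientGroup.eq_one_iff _).1 h1, rfl⟩
  obtain ⟨k, hk⟩ := pow_eq_one_of_mem hS.pg hz
  exact mem_of_pow_coprime (Subgroup.relIndex_top_right S ▸ hS.idx) hk h2

/-- With `C` normal and `R = S ∩ C`, the group `S ∩ A'` lies in `N(R)' (R ∩ C')`. -/
theorem frattini_split {S C : Subgroup A} [C.Normal] (hS : Syl p S ⊤) {z : A} (hz : z ∈ S)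
    (hzA : z ∈ commutator A) :
    ∃ m ∈ ⁅Subgroup.normalizer ((S ⊓ C : Subgroup A) : Set A), Subgroup.normalizer ((S ⊓ C : Subgroup A) : Set A)⁆,
      ∃ r ∈ (S ⊓ C) ⊓ ⁅C, C⁆, z = m * r := by
  set R := S ⊓ C with hR
  set M := Subgroup.normalizer (R : Set A) with hM
  set e := (Nat.card A).factorization p
  set a := Nat.card A / p ^ e
  have hmul : p ^ e * a = Nat.card A := Nat.ordProj_mul_ordCompl_eq_self _ p
  have ha : ¬ p ∣ a := Nat.not_dvd_ordCompl hp.out Nat.card_pos.ne'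
  let N0' : Subgroup ↥C := ((powMonoidHom a).comp (Abelianization.of : ↥C →* Abelianization ↥C)).ker
  set N0 := N0'.map C.subtype with hN0def
  have hN0 : ∀ {c : A}, c ∈ N0 ↔ c ∈ C ∧ c ^ a ∈ ⁅C, C⁆ := by
    intro c
    constructor
    · rintro ⟨c, hc, rfl⟩
      refine ⟨c.2, ?_⟩
      rw [← Subgroup.map_subtype_commutator]
      refine ⟨c ^ a, (QuotientGroup.eq_one_iff _).1 ?_, rfl⟩
      exact (map_pow (Abelianization.of : ↥C →* Abelianization ↥C) c a).trans hc
    · rintro ⟨hc, h⟩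
      rw [← Subgroup.map_subtype_commutator] at h
      obtain ⟨w, hw, e⟩ := h
      refine ⟨⟨c, hc⟩, ?_, rfl⟩
      show (Abelianization.of : ↥C →* Abelianization ↥C) ⟨c, hc⟩ ^ a = 1
      rw [← map_pow, show (⟨c, hc⟩ : ↥C) ^ a = w from Subtype.ext e.symm]
      exact (QuotientGroup.eq_one_iff w).2 hw
  haveI : N0.Normal := ⟨fun c hc g => hN0.2 ⟨‹C.Normal›.conj_mem c (hN0.1 hc).1 g, by
    rw [conj_pow]; exact (Subgroup.commutator_normal C C).conj_mem _ (hN0.1 hc).2 g⟩⟩
  have hRsyl : Syl p R C := by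
    have := hS.inf_normal (N := C) (le_of_le_of_eq le_top (Subgroup.normalizer_eq_top_iff.2 ‹C.Normal›).symm)
    rwa [top_inf_eq] at this
  have hCR : C ≤ N0 ⊔ R := by
    intro c hc
    have hca : c ^ a ∈ N0 ⊔ R := by
      have hp1 : IsPGroup p ↥(Subgroup.zpowers (c ^ a)) := fun x => ⟨e, by
        obtain ⟨_, i, rfl⟩ := x
        refine Subtype.ext ?_
        show ((c ^ a) ^ i) ^ p ^ e = 1
        rw [← zpow_natCast, ← zpow_mul, mul_comm, zpow_mul, zpow_natCast, ← pow_mul, mul_comm a, hmul,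
          pow_card_eq_one', one_zpow]⟩
      obtain ⟨x, hx, hxle⟩ := hRsyl.exists_conj_le (Subgroup.zpowers_le.2 (C.pow_mem hc a)) hp1
      have hr : x * c ^ a * x⁻¹ ∈ R := hxle (conj_mem_cj (Subgroup.mem_zpowers _))
      have h1 : ⁅x⁻¹, x * c ^ a * x⁻¹⁆ ∈ N0 := hN0.2
        ⟨C.mul_mem (C.mul_mem (C.mul_mem (C.inv_mem hx) hr.2) (by simpa using hx)) (C.inv_mem hr.2),
          Subgroup.pow_mem _ (Subgroup.commutator_mem_commutator (C.inv_mem hx) hr.2) _⟩
      have h2 := Subgroup.mul_mem_sup h1 hr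
      rwa [show ⁅x⁻¹, x * c ^ a * x⁻¹⁆ * (x * c ^ a * x⁻¹) = c ^ a by rw [commutatorElement_def]; group] at h2
    have hcp : c ^ p ^ e ∈ N0 ⊔ R := Subgroup.mem_sup_left (hN0.2 ⟨C.pow_mem hc _, by
      rw [← pow_mul, hmul, pow_card_eq_one']; exact one_mem _⟩)
    have hbez := Nat.gcd_eq_gcd_ab a (p ^ e)
    rw [(Nat.Coprime.pow_right e (hp.out.coprime_iff_not_dvd.2 ha).symm).gcd_eq_one] at hbez
    have : c = (c ^ a) ^ Nat.gcdA a (p ^ e) * (c ^ p ^ e) ^ Nat.gcdB a (p ^ e) := by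
      rw [← zpow_natCast c a, ← zpow_natCast c (p ^ e), ← zpow_mul, ← zpow_mul, ← zpow_add, ← hbez, Nat.cast_one,
        zpow_one]
    rw [this]
    exact mul_mem (Subgroup.zpow_mem _ hca _) (Subgroup.zpow_mem _ hcp _)
  have htop : (⊤ : Subgroup A) ≤ N0 ⊔ M := by
    intro g hg
    obtain ⟨n, hn, k, hk, rfl⟩ := frattini hS
      (le_of_le_of_eq le_top (Subgroup.normalizer_eq_top_iff.2 ‹C.Normal›).symm) hg
    exact mul_mem ((hCR.trans (sup_le_sup_left Subgroup.le_normalizer _)) hn.2) (Subgroup.mem_sup_right hk.2)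
  have hder : commutator A ≤ N0 ⊔ ⁅M, M⁆ := by
    let π := QuotientGroup.mk' N0
    have h1 : M.map π = ⊤ := by
      rw [eq_top_iff, ← Subgroup.map_top_of_surjective π (QuotientGroup.mk'_surjective N0)]
      refine (Subgroup.map_mono htop).trans ?_
      rw [Subgroup.map_sup, QuotientGroup.map_mk'_self, bot_sup_eq]
    have h2 : (commutator A).map π ≤ (⁅M, M⁆).map π := by
      rw [commutator_def, Subgroup.map_commutator ⊤ ⊤ π, Subgroup.map_commutator M M π, h1]
      exact Subgroup.commutator_mono le_top le_top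
    refine (Subgroup.map_le_iff_le_comap.1 h2).trans ?_
    rw [Subgroup.comap_map_eq, QuotientGroup.ker_mk', sup_comm]
  obtain ⟨n, hn, m, hm, rfl⟩ := Subgroup.mem_sup_of_normal_left.1 (hder hzA)
  have hMC : ⁅M, M⁆ ≤ M := Subgroup.commutator_le.2 fun x hx y hy => by
    rw [commutatorElement_def]; exact mul_mem (mul_mem (mul_mem hx hy) (inv_mem hx)) (inv_mem hy)
  have hSM : S ≤ M := (le_inf Subgroup.le_normalizer
    (le_of_le_of_eq le_top (Subgroup.normalizer_eq_top_iff.2 ‹C.Normal›).symm)).trans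
      Subgroup.inf_normalizer_le_normalizer_inf
  have hnM : n ∈ M := by
    have := M.mul_mem (hSM hz) (M.inv_mem (hMC hm))
    rwa [mul_inv_cancel_right] at this
  set y := n ^ (a * a)
  have hyC : y ∈ ⁅C, C⁆ := by
    show n ^ (a * a) ∈ _
    rw [pow_mul]; exact Subgroup.pow_mem _ (hN0.1 hn).2 _
  have hyp : IsPGroup p ↥(Subgroup.zpowers y) := fun x => ⟨e, by
    obtain ⟨_, i, rfl⟩ := x
    refine Subtype.ext ?_
    show ((n ^ (a * a)) ^ i) ^ p ^ e = 1
    have h1 : (n ^ (a * a)) ^ p ^ e = 1 := by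
      rw [← pow_mul, show a * a * p ^ e = Nat.card A * a by rw [← hmul]; ring, pow_mul, pow_card_eq_one', one_pow]
    rw [← zpow_natCast ((n ^ (a * a)) ^ i) (p ^ e), ← zpow_mul, mul_comm i, zpow_mul, zpow_natCast, h1, one_zpow]⟩
  have hyM : y ∈ M := M.pow_mem hnM _
  have hyCmem : y ∈ C := C.pow_mem (hN0.1 hn).1 _
  have hyR : y ∈ R := by
    have hle : Subgroup.zpowers y ⊔ R ≤ C := sup_le (Subgroup.zpowers_le.2 hyCmem) inf_le_right
    have hpg : IsPGroup p ↥(Subgroup.zpowers y ⊔ R : Subgroup A) :=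
      hyp.to_sup_of_normal_right' hRsyl.pg (Subgroup.zpowers_le.2 hyM)
    rw [← hRsyl.eq_of_le le_sup_right hle hpg]
    exact Subgroup.mem_sup_left (Subgroup.mem_zpowers y)
  have hRN : R ⊓ ⁅C, C⁆ ≤ Subgroup.normalizer ((⁅M, M⁆ : Subgroup A) : Set A) :=
    (inf_le_left.trans Subgroup.le_normalizer).trans (fun x hx => mem_normalizer_iff_cj.2 (by
      rw [cj_commutator, cj_eq_of_mem hx]))
  have hnN : n ∈ Subgroup.normalizer ((⁅M, M⁆ : Subgroup A) : Set A) := mem_normalizer_iff_cj.2 (by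
    rw [cj_commutator, cj_eq_of_mem hnM])
  have hzX : n * m ∈ ⁅M, M⁆ ⊔ (R ⊓ ⁅C, C⁆) := by
    obtain ⟨k, hk⟩ := pow_eq_one_of_mem hS.pg hz
    refine mem_of_pow_coprime (a := a * a) (fun h => (hp.out.dvd_mul.1 h).elim ha ha) hk ?_
    have h1 := pow_mul_mem ((Subgroup.mem_normalizer_iff.1 hnN m).1 hm) hnN (a * a)
    rw [inv_mul_cancel_right] at h1
    have h2 := Subgroup.mul_mem_sup h1 (show y ∈ R ⊓ ⁅C, C⁆ from ⟨hyR, hyC⟩)
    rwa [inv_mul_cancel_right] at h2
  rw [← SetLike.mem_coe, Subgroup.coe_mul_of_right_le_normalizer_left _ _ hRN, Set.mem_mul] at hzX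
  obtain ⟨m', hm', r, hr, he⟩ := hzX
  exact ⟨m', hm', r, hr, he.symm⟩

end

/-- Control of transfer in every section follows from control of `O_p ∩ G'` in constrained sections. -/
theorem transfer_of_core {G : Type u} [Group G] [Finite G] {p : ℕ} [hp : Fact p.Prime]
    (W : ∀ (Q : Type u) [Group Q], Subgroup Q) (hW : IsCharPFunctor.{u} p W)
    (hcore : ∀ (Γ : Type u) [Group Γ] [Finite Γ], IsSec G Γ →
      Subgroup.centralizer (pCore p Γ : Set Γ) ≤ pCore p Γ → ∀ S : Sylow p Γ,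
      ¬ (inducedFunctor W (S : Subgroup Γ)).Normal →
      (∀ K : Subgroup Γ, (S : Subgroup Γ) ≤ K → K ≠ ⊤ → Tra (inducedFunctor W) (S : Subgroup Γ) K) →
      pCore p Γ ⊓ commutator Γ ≤ ⁅⊤ ⊓ Subgroup.normalizer (inducedFunctor W (S : Subgroup Γ) : Set Γ),
        ⊤ ⊓ Subgroup.normalizer (inducedFunctor W (S : Subgroup Γ) : Set Γ)⁆) :
    ∀ (Γ : Type u) [Group Γ] [Finite Γ], IsSec G Γ → ∀ (H S : Subgroup Γ), Syl p S H →
      Tra (inducedFunctor W) S H := by
  suffices key : ∀ (n : ℕ) (Γ : Type u) [Group Γ] [Finite Γ], IsSec G Γ → Nat.card Γ = n →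
      ∀ S : Subgroup Γ, Syl p S ⊤ → Tra (inducedFunctor W) S ⊤ by
    intro Γ _ _ hsec H S hS
    have h := Tra.of_hom (S := S.subgroupOf H) hW H.subtype_injective hS.pg.comap_subtype
      (key _ ↥H (hsec.subgroup H) rfl _ hS.subgroupOf)
    rwa [← MonoidHom.range_eq_map, H.range_subtype, Subgroup.map_subgroupOf_eq_of_le hS.le] at h
  intro n
  induction n using Nat.strong_induction_on with
  | _ n ih =>
  intro Γ _ _ hsec hn S hS
  subst hn
  have hsub : ∀ (Δ : Type u) [Group Δ] [Finite Δ], IsSec G Δ → ∀ (H T : Subgroup Δ),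
      Nat.card H < Nat.card Γ → Syl p T H → Tra (inducedFunctor W) T H := by
    intro Δ _ _ hD H T hlt hT
    have h := Tra.of_hom (S := T.subgroupOf H) hW H.subtype_injective hT.pg.comap_subtype
      (ih _ hlt ↥H (hD.subgroup H) rfl _ hT.subgroupOf)
    rwa [← MonoidHom.range_eq_map, H.range_subtype, Subgroup.map_subgroupOf_eq_of_le hT.le] at h
  have hWc := KInf.inducedFunctor_conjugacy (G := Γ) hW
  set WS := inducedFunctor W S with hWS
  set N := (⊤ : Subgroup Γ) ⊓ Subgroup.normalizer (WS : Set Γ) with hN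
  have hSN : S ≤ N := le_inf le_top (Subgroup.le_normalizer.trans (functor_normalizer hWc hS.pg))
  have hSS : ⁅S, S⁆ ≤ ⁅N, N⁆ := Subgroup.commutator_mono hSN hSN
  have hprop : ∀ K : Subgroup Γ, S ≤ K → K ≠ ⊤ → S ⊓ ⁅K, K⁆ ≤ ⁅N, N⁆ := by
    intro K hSK hK
    refine (hsub Γ hsec K S ?_ (hS.mono hSK le_top)).trans
      (Subgroup.commutator_mono (inf_le_inf_right _ le_top) (inf_le_inf_right _ le_top))
    exact lt_of_le_of_ne (Nat.card_le_card_of_injective _ K.subtype_injective) fun he =>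
      hK (Subgroup.eq_top_of_card_eq _ he)
  show S ⊓ ⁅(⊤ : Subgroup Γ), ⊤⁆ ≤ ⁅N, N⁆
  -- `O_{p'}`
  by_cases hK : pPrimeCore p Γ ≠ ⊥
  · haveI := CfsgLib.Solv.pPrimeCore_normal Γ p
    set K := pPrimeCore p Γ with hKdef
    have hKc : ¬ p ∣ Nat.card K := CfsgLib.Solv.not_dvd_card_pPrimeCore
    let π := QuotientGroup.mk' K
    have hπ : Function.Surjective π := QuotientGroup.mk'_surjective K
    have hlt : Nat.card (Γ ⧸ K) < Nat.card Γ := by
      rw [← K.index_eq_card, ← K.card_mul_index]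
      have h1 : 1 < Nat.card K := (Subgroup.one_lt_card_iff_ne_bot K).2 hK
      exact lt_mul_left K.index_ne_zero_of_finite.bot_lt h1
    have hSK : S ⊓ K = ⊥ := eq_bot_iff.2 fun x hx => by
      obtain ⟨k, hk⟩ := pow_eq_one_of_mem hS.pg hx.1
      exact mem_of_pow_coprime hKc hk (by
        rw [show x ^ Nat.card K = 1 from congrArg Subtype.val (pow_card_eq_one' (x := (⟨x, hx.2⟩ : ↥K)))]
        exact one_mem _)
    have hinj : Set.InjOn π (S : Set Γ) := fun x hx y hy he => by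
      have : x⁻¹ * y ∈ S ⊓ K := ⟨S.mul_mem (S.inv_mem hx) hy, QuotientGroup.eq.1 he⟩
      rw [hSK, Subgroup.mem_bot, inv_mul_eq_one] at this
      exact this
    have hSb := hS.map π
    rw [Subgroup.map_top_of_surjective π hπ] at hSb
    have hb := ih _ hlt (Γ ⧸ K) (hsec.of_surjective hπ) rfl _ hSb
    rw [Tra, ind_map hW π hS.pg hinj, ← hWS] at hb
    set X := (WS.map π).comap π
    have hX : X = WS ⊔ K := by rw [show X = (WS.map π).comap π from rfl, Subgroup.comap_map_eq, QuotientGroup.ker_mk']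
    have hN1 : Subgroup.normalizer (WS.map π : Set (Γ ⧸ K)) = N.map π := by
      refine le_antisymm ?_ ?_
      · rw [← map_top_normalizer hπ, Subgroup.map_le_iff_le_comap, Subgroup.comap_map_eq, QuotientGroup.ker_mk']
        intro m hm
        have hWX : Syl p WS X := by
          refine ⟨hX ▸ le_sup_left, hS.pg.to_le (hWc S hS.pg).1, ?_⟩
          rw [hX]
          intro hd
          refine hKc (hd.trans (Nat.dvd_of_mul_dvd_mul_left (Nat.card_pos (α := ↥WS)) ?_))
          have h2 := Subgroup.relIndex_mul_relIndex ⊥ WS (WS ⊔ K) bot_le le_sup_left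
          have h3 := Subgroup.relIndex_mul_relIndex ⊥ K (WS ⊔ K) bot_le le_sup_right
          rw [Subgroup.relIndex_bot_left, Subgroup.relIndex_bot_left] at h2 h3
          rw [h2, ← h3, Subgroup.relIndex_sup_right, mul_comm (Nat.card ↥WS)]
          exact Nat.mul_dvd_mul_left _ (Subgroup.relIndex_dvd_card K WS)
        have hWn : cj m WS ≤ X := (cj_mono m hWX.le).trans (hX.symm ▸ (mem_normalizer_iff_cj.1 hm) : cj m X = X).le
        obtain ⟨x, hx, hxle⟩ := hWX.exists_conj_le hWn (isPGroup_cj m hWX.pg)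
        rw [← cj_mul] at hxle
        have h1 : x * m ∈ N := ⟨trivial, mem_normalizer_iff_cj.2
          (Subgroup.eq_of_le_of_card_ge hxle (card_cj (x * m) WS).ge)⟩
        have h2 : x ∈ N ⊔ K := by
          rw [hX] at hx
          refine (sup_le_sup_right ?_ K) hx
          exact ((hWc S hS.pg).1).trans hSN
        have := mul_mem (inv_mem h2) (Subgroup.mem_sup_left h1 (T := K))
        rw [inv_mul_cancel_left] at this
        rwa [Subgroup.comap_map_eq, QuotientGroup.ker_mk']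
      · rintro _ ⟨g, hg, rfl⟩
        rw [mem_normalizer_iff_cj, ← map_cj, mem_normalizer_iff_cj.1 hg.2]
    intro z hz
    have hzb := hb ⟨⟨z, hz.1, rfl⟩, by
      rw [← Subgroup.map_top_of_surjective π hπ, ← Subgroup.map_commutator]; exact ⟨z, hz.2, rfl⟩⟩
    rw [top_inf_eq, hN1, ← Subgroup.map_commutator] at hzb
    obtain ⟨d, hd, hdz⟩ := hzb
    have hk : d⁻¹ * z ∈ K := QuotientGroup.eq.1 hdz
    have hNN : ⁅N, N⁆ ≤ N := Subgroup.commutator_le.2 fun x hx y hy => by
      rw [commutatorElement_def]; exact mul_mem (mul_mem (mul_mem hx hy) (inv_mem hx)) (inv_mem hy)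
    have hkN : d⁻¹ * z ∈ N := mul_mem (inv_mem (hNN hd)) (hSN hz.1)
    obtain ⟨k, hk'⟩ := pow_eq_one_of_mem hS.pg hz.1
    refine mem_of_pow_coprime hKc hk' ?_
    have h1 := pow_mul_mem (Y := ⁅N, N⁆) hd (mem_normalizer_iff_cj.2 (by rw [cj_commutator, cj_eq_of_mem hkN]))
      (Nat.card K)
    rwa [mul_inv_cancel_left, show (d⁻¹ * z) ^ Nat.card K = 1 from
      congrArg Subtype.val (pow_card_eq_one' (x := (⟨_, hk⟩ : ↥K))), inv_one, mul_one] at h1
  rw [not_not] at hK
  haveI := CfsgLib.Solv.pCore_normal Γ p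
  set P := pCore p Γ with hPdef
  have hPp : IsPGroup p ↥P := CfsgLib.Solv.pCore_isPGroup Γ p
  -- all local subgroups proper
  by_cases hP : P = ⊥
  · refine tra_global hWc hS fun T hT0 hT => hsub Γ hsec _ _ ?_ ((hT.2 0).syl hS)
    refine lt_of_le_of_ne (Nat.card_le_card_of_injective _ (Subgroup.subtype_injective _)) fun he => hT0 ?_
    have htop := Subgroup.eq_top_of_card_eq _ he
    rw [top_inf_eq, Subgroup.normalizer_eq_top_iff] at htop
    exact eq_bot_iff.2 (hP ▸ CfsgLib.Solv.le_pCore (hN := htop) (hS.pg.to_le hT.1))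
  have hPS : P ≤ S := hS.normal_le le_top hPp
    (le_of_le_of_eq le_top (Subgroup.normalizer_eq_top_iff.2 inferInstance).symm)
  set C := Subgroup.centralizer (P : Set Γ) with hCdef
  haveI : C.Normal := Subgroup.normalizer_eq_top_iff.1 (eq_top_iff.2
    ((Subgroup.normalizer_eq_top_iff.2 (inferInstance : P.Normal)).ge.trans (normalizer_le_centralizer_normalizer P)))
  by_cases hR : S ⊓ C ≤ P
  · -- constrained
    have hCP : C ≤ P := by
      have hRc : ∀ r ∈ S ⊓ C, ∀ c ∈ C, r * c = c * r := fun r hr c hc => hc r (hR hr)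
      have hRs : Syl p (S ⊓ C) C := by
        have := hS.inf_normal (N := C) (le_of_le_of_eq le_top (Subgroup.normalizer_eq_top_iff.2 inferInstance).symm)
        rwa [top_inf_eq] at this
      let Q := hRs.toSylow
      have hQ : Subgroup.normalizer ((Q : Subgroup ↥C) : Set ↥C) ≤ Subgroup.centralizer ((Q : Subgroup ↥C) : Set ↥C) := by
        intro c _ r hr
        have hr' : (r : Γ) ∈ S ⊓ C := by
          have : r ∈ (hRs.toSylow : Subgroup ↥C) := hr
          rwa [hRs.coe_toSylow] at this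
        exact Subtype.ext (hRc r hr' c c.2)
      have hcomp := MonoidHom.ker_transferSylow_isComplement' Q hQ
      set K := (MonoidHom.transferSylow Q hQ).ker
      have hKc : (Nat.card K).Coprime p := by
        have h1 := hcomp.index_eq_card
        have h2 := hcomp.card_mul
        rw [Nat.coprime_comm, hp.out.coprime_iff_not_dvd]
        intro hd
        refine hRs.idx ?_
        have h3 : (Q : Subgroup ↥C).index = Nat.card K := hcomp.index_eq_card
        rw [hRs.coe_toSylow] at h3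
        exact (hd.trans h3.symm.dvd)
      have hK0 : K = ⊥ := by
        have hle : K.map C.subtype ≤ pPrimeCore p Γ ⊓ C := by
          rw [← CfsgLib.Solv.map_pPrimeCore_subtype_eq_inf]
          exact Subgroup.map_mono (CfsgLib.Solv.le_pPrimeCore hKc)
        rw [hK, bot_inf_eq, le_bot_iff, Subgroup.map_eq_bot_iff_of_injective _ C.subtype_injective] at hle
        exact hle
      have hQtop : (Q : Subgroup ↥C) = ⊤ := by
        have := hcomp.sup_eq_top
        rwa [hK0, bot_sup_eq] at this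
      rw [hRs.coe_toSylow, Subgroup.subgroupOf_eq_top] at hQtop
      exact hQtop.trans hR
    by_cases hWn : WS.Normal
    · rw [show N = ⊤ by rw [hN, Subgroup.normalizer_eq_top_iff.2 hWn, inf_top_eq]]
      exact inf_le_right
    obtain ⟨T, hT⟩ : ∃ T : Sylow p Γ, (T : Subgroup Γ) = S :=
      ⟨hS.pg.toSylow (Subgroup.relIndex_top_right S ▸ hS.idx), IsPGroup.toSylow_coe _ _⟩
    subst hT
    have hPd : P ⊓ commutator Γ ≤ ⁅N, N⁆ := hcore Γ hsec hCP T hWn fun K hK hK' =>
      hsub Γ hsec K _ (lt_of_le_of_ne (Nat.card_le_card_of_injective _ K.subtype_injective)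
        fun he => hK' (Subgroup.eq_top_of_card_eq _ he)) (hS.mono hK le_top)
    set π := QuotientGroup.mk' P with hπdef
    have hπ : Function.Surjective π := QuotientGroup.mk'_surjective P
    have hlt : Nat.card (Γ ⧸ P) < Nat.card Γ := by
      rw [← P.index_eq_card, ← P.card_mul_index]
      exact lt_mul_left P.index_ne_zero_of_finite.bot_lt ((Subgroup.one_lt_card_iff_ne_bot P).2 hP)
    have hSb := hS.map π
    rw [Subgroup.map_top_of_surjective π hπ] at hSb
    have hb := ih _ hlt (Γ ⧸ P) (hsec.of_surjective hπ) rfl _ hSb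
    have hWb := KInf.inducedFunctor_conjugacy (G := Γ ⧸ P) hW
    set X := inducedFunctor W ((T : Subgroup Γ).map π) with hX
    rw [Tra, top_inf_eq, ← hX, ← map_top_normalizer hπ X, ← Subgroup.map_commutator] at hb
    have hSM : (T : Subgroup Γ) ≤ Subgroup.normalizer (X.comap π : Set Γ) := by
      intro s hs
      refine Subgroup.le_normalizer_comap π ?_
      exact functor_normalizer hWb hSb.pg (Subgroup.le_normalizer ⟨s, hs, rfl⟩)
    have hM : Subgroup.normalizer (X.comap π : Set Γ) ≠ ⊤ := by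
      intro htop
      refine hWn ?_
      have hXn : (X.comap π).Normal := Subgroup.normalizer_eq_top_iff.1 htop
      have hXp : IsPGroup p ↥(X.comap π) :=
        (hSb.pg.to_le (hWb _ hSb.pg).1).comap_of_ker_isPGroup π (by rw [QuotientGroup.ker_mk']; exact hPp)
      have hXP := CfsgLib.Solv.le_pCore (hN := hXn) hXp
      by_cases hSP : (T : Subgroup Γ) ≤ P
      · refine Subgroup.normalizer_eq_top_iff.1 (top_le_iff.1 (le_trans ?_ (functor_normalizer hWc hS.pg)))
        rw [le_antisymm hSP hPS, Subgroup.normalizer_eq_top_iff.2 inferInstance]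
      · exfalso
        refine (hWb _ hSb.pg).2.1 (fun h0 => hSP ?_) ?_
        · rwa [Subgroup.map_eq_bot_iff, QuotientGroup.ker_mk'] at h0
        · rw [← hX, ← Subgroup.map_comap_eq_self_of_surjective hπ X, Subgroup.map_eq_bot_iff, QuotientGroup.ker_mk']
          exact hXP
    intro z hz
    obtain ⟨d, hd, hdz⟩ := hb ⟨⟨z, hz.1, rfl⟩, by
      rw [← Subgroup.map_top_of_surjective π hπ, ← Subgroup.map_commutator]; exact ⟨z, hz.2, rfl⟩⟩
    have hu : d⁻¹ * z ∈ P := QuotientGroup.eq.1 hdz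
    have hdT : d ∈ (T : Subgroup Γ) := by
      have := (T : Subgroup Γ).mul_mem hz.1 ((T : Subgroup Γ).inv_mem (hPS hu))
      simpa using this
    have hdD : d ∈ ⁅N, N⁆ := hprop _ hSM hM ⟨hdT, hd⟩
    have huD : d⁻¹ * z ∈ ⁅N, N⁆ := hPd ⟨hu,
      Subgroup.mul_mem _ (Subgroup.inv_mem _ (Subgroup.commutator_mono le_top le_top hd)) hz.2⟩
    have := mul_mem hdD huD
    rwa [mul_inv_cancel_left] at this
  -- `S ∩ C(P)` outside `P`
  set R := S ⊓ C with hRdef
  set Z := P ⊓ C with hZdef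
  haveI hZn : Z.Normal := Subgroup.normal_inf_normal P C
  have hCN : (⊤ : Subgroup Γ) ≤ Subgroup.normalizer (C : Set Γ) :=
    (Subgroup.normalizer_eq_top_iff.2 inferInstance).ge
  have hSR : S ≤ Subgroup.normalizer (R : Set Γ) :=
    (le_inf Subgroup.le_normalizer (le_top.trans hCN)).trans Subgroup.inf_normalizer_le_normalizer_inf
  have hRp : IsPGroup p ↥R := hS.pg.to_le inf_le_left
  have hMtop : Subgroup.normalizer (R : Set Γ) ≠ ⊤ := fun he =>
    hR (CfsgLib.Solv.le_pCore (hN := Subgroup.normalizer_eq_top_iff.1 he) hRp)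
  intro z hz
  obtain ⟨m, hm, r, hr, rfl⟩ := frattini_split (C := C) hS hz.1 hz.2
  have hmS : m ∈ S := by
    have := S.mul_mem hz.1 (S.inv_mem hr.1.1)
    rwa [mul_inv_cancel_right] at this
  refine mul_mem (hprop _ hSR hMtop ⟨hmS, hm⟩) ?_
  -- the part in `C'`
  obtain ⟨x0, hx0, hx0ne⟩ : ∃ x ∈ Z, x ≠ (1 : Γ) := by
    haveI : Nontrivial ↥P := (Subgroup.nontrivial_iff_ne_bot P).2 hP
    haveI := hPp.center_nontrivial
    obtain ⟨x, hx⟩ := exists_ne (1 : ↥(Subgroup.center ↥P))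
    exact ⟨(x : ↥P), ⟨(x : ↥P).2, fun y hy => congrArg Subtype.val (Subgroup.mem_center_iff.1 x.2 ⟨y, hy⟩)⟩,
      fun h => hx (Subtype.ext (Subtype.ext h))⟩
  let π := QuotientGroup.mk' Z
  have hπ : Function.Surjective π := QuotientGroup.mk'_surjective Z
  have hlt : Nat.card ↥(C.map π) < Nat.card Γ := by
    refine lt_of_le_of_lt (Nat.card_le_card_of_injective _ (C.map π).subtype_injective) ?_
    rw [← Z.index_eq_card, ← Z.card_mul_index]
    exact lt_mul_left Z.index_ne_zero_of_finite.bot_lt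
      ((Subgroup.one_lt_card_iff_ne_bot Z).2 fun h => hx0ne (Subgroup.mem_bot.1 (h ▸ hx0)))
  have hRs : Syl p R C := by
    have := hS.inf_normal (N := C) (le_top.trans hCN)
    rwa [top_inf_eq] at this
  have hRb := hRs.map π
  have hWb := KInf.inducedFunctor_conjugacy (G := Γ ⧸ Z) hW
  have hb := hsub (Γ ⧸ Z) (hsec.of_surjective hπ) _ _ hlt hRb
  set X := inducedFunctor W (R.map π) with hX
  set M2 := Subgroup.normalizer (X.comap π : Set Γ) with hM2
  have hCM : C.map π ⊓ Subgroup.normalizer (X : Set (Γ ⧸ Z)) = (C ⊓ M2).map π := by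
    rw [← map_top_normalizer hπ X]
    refine le_antisymm ?_ (Subgroup.map_inf_le _ _ _)
    rintro _ ⟨⟨c, hc, rfl⟩, m, hm, he⟩
    have h1 : m⁻¹ * c ∈ Z := QuotientGroup.eq.1 he
    refine ⟨c, ⟨hc, ?_⟩, rfl⟩
    rw [show c = m * (m⁻¹ * c) by group]
    refine mul_mem hm (Subgroup.le_normalizer ?_)
    show π _ ∈ X
    rw [show π (m⁻¹ * c) = 1 from (QuotientGroup.eq_one_iff _).2 h1]
    exact one_mem _
  rw [Tra, ← hX, hCM, ← Subgroup.map_commutator, ← Subgroup.map_commutator] at hb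
  obtain ⟨d, hd, hdr⟩ := hb ⟨⟨r, hr.1, rfl⟩, r, hr.2, rfl⟩
  have hu : d⁻¹ * r ∈ Z := QuotientGroup.eq.1 hdr
  have hdS : d ∈ S := by
    have := S.mul_mem hr.1.1 (S.inv_mem (hPS hu.1))
    simpa using this
  have hSM2 : S ≤ M2 := by
    intro s hs
    refine Subgroup.le_normalizer_comap π (functor_normalizer hWb hRb.pg (Subgroup.le_normalizer_map π ?_))
    exact ⟨s, hSR hs, rfl⟩
  have hM2top : M2 ≠ ⊤ := by
    intro htop
    have hXn : (X.comap π).Normal := Subgroup.normalizer_eq_top_iff.1 htop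
    have hXp : IsPGroup p ↥(X.comap π) :=
      (hRb.pg.to_le (hWb _ hRb.pg).1).comap_of_ker_isPGroup π
        (by rw [QuotientGroup.ker_mk']; exact hPp.to_le inf_le_left)
    refine (hWb _ hRb.pg).2.1 (fun h0 => hR ?_) ?_
    · rw [Subgroup.map_eq_bot_iff, QuotientGroup.ker_mk'] at h0
      exact h0.trans inf_le_left
    · rw [← hX, ← Subgroup.map_comap_eq_self_of_surjective hπ X, Subgroup.map_eq_bot_iff, QuotientGroup.ker_mk']
      refine le_inf (CfsgLib.Solv.le_pCore (hN := hXn) hXp) ?_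
      refine (Subgroup.comap_mono (hWb _ hRb.pg).1).trans ?_
      rw [Subgroup.comap_map_eq, QuotientGroup.ker_mk']
      exact sup_le inf_le_right inf_le_right
  have hdN : d ∈ ⁅N, N⁆ := hprop M2 hSM2 hM2top ⟨hdS, Subgroup.commutator_mono inf_le_right inf_le_right hd⟩
  have hdC : d ∈ ⁅C, C⁆ := Subgroup.commutator_mono inf_le_left inf_le_left hd
  have huC : d⁻¹ * r ∈ ⁅C, C⁆ := mul_mem (inv_mem hdC) hr.2
  have huN : d⁻¹ * r ∈ ⁅N, N⁆ := by
    refine (Subgroup.commutator_mono (inf_le_left.trans hSN) (inf_le_left.trans hSN) :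
      ⁅R, R⁆ ≤ ⁅N, N⁆) ?_
    have h1 : (⟨d⁻¹ * r, hu.2⟩ : ↥C) ∈ commutator ↥C := by
      have : d⁻¹ * r ∈ (commutator ↥C).map C.subtype := by rwa [Subgroup.map_subtype_commutator]
      obtain ⟨w, hw, e⟩ := this
      rwa [show (⟨d⁻¹ * r, hu.2⟩ : ↥C) = w from Subtype.ext e.symm]
    have h2 := central_commutator hRs.subgroupOf (z := (⟨d⁻¹ * r, hu.2⟩ : ↥C))
      ⟨hPS hu.1, hu.2⟩ (Subgroup.mem_center_iff.2 fun y => Subtype.ext (y.2 _ hu.1).symm) h1
    have h3 : ((⟨d⁻¹ * r, hu.2⟩ : ↥C) : Γ) ∈ (⁅R.subgroupOf C, R.subgroupOf C⁆).map C.subtype := ⟨_, h2, rfl⟩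
    rwa [Subgroup.map_commutator, Subgroup.map_subgroupOf_eq_of_le hRs.le] at h3
  have := mul_mem hdN huN
  rwa [mul_inv_cancel_left] at this

end CfsgLib.Glau
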