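import Cfsg.Agent.Fus.FusionCore
import Cfsg.Agent.Fus.FunctorFamily
import Cfsg.Agent.Fus.HitTransfer

/-!
Control of transfer by a family of functors: the shape of a minimal counterexample, and reduction to constrained sections.
-/

set_option autoImplicit false
set_option linter.style.haveILetI false

open Cfsg
open scoped commutatorElement

namespace CfsgLib.Glau

universe u

variable {p : ℕ} [hp : Fact p.Prime]

/-- Transfer in `H` is controlled by the family, for the Sylow subgroup `S`. -/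
def TraF (𝓦 : Set (∀ (Q : Type u) [Group Q], Subgroup Q)) {Γ : Type u} [Group Γ] (S H : Subgroup Γ) : Prop :=
  S ⊓ ⁅H, H⁆ ≤ ⨆ W ∈ 𝓦,
    S ⊓ ⁅H ⊓ Subgroup.normalizer (inducedFunctor (G := Γ) W S : Set Γ),
      H ⊓ Subgroup.normalizer (inducedFunctor (G := Γ) W S : Set Γ)⁆

theorem TraF.of_hom {A B : Type u} [Group A] [Group B] [Finite A] [Finite B]
    {𝓦 : Set (∀ (Q : Type u) [Group Q], Subgroup Q)} (h𝓦 : ∀ W ∈ 𝓦, IsCharPFunctor.{u} p W) {f : A →* B}
    (hf : Function.Injective f) {S H : Subgroup A} (hS : IsPGroup p ↥S) (h : TraF 𝓦 S H) :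
    TraF 𝓦 (S.map f) (H.map f) := by
  rw [TraF, ← Subgroup.map_commutator, ← Subgroup.map_inf _ _ f hf]
  refine (Subgroup.map_mono h).trans ?_
  rw [Subgroup.map_iSup]
  refine iSup_mono fun W => ?_
  rw [Subgroup.map_iSup]
  refine iSup_mono fun hW => ?_
  rw [ind_map (h𝓦 W hW) f hS hf.injOn, ← map_inf_normalizer hf, ← Subgroup.map_commutator,
    ← Subgroup.map_inf _ _ f hf]

theorem TraF.of_subtype {Γ : Type u} [Group Γ] [Finite Γ] {𝓦 : Set (∀ (Q : Type u) [Group Q], Subgroup Q)}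
    (h𝓦 : ∀ W ∈ 𝓦, IsCharPFunctor.{u} p W) {H T : Subgroup Γ} (hT : Syl p T H)
    (h : TraF 𝓦 (T.subgroupOf H) (⊤ : Subgroup ↥H)) : TraF 𝓦 T H := by
  have h' := TraF.of_hom h𝓦 H.subtype_injective hT.pg.comap_subtype h
  rwa [← MonoidHom.range_eq_map, H.range_subtype,
    show (T.comap H.subtype).map H.subtype = T from Subgroup.map_subgroupOf_eq_of_le hT.le] at h'

/-- The shape of a counterexample whose proper sections are controlled. -/
theorem family_structure {Γ : Type u} [Group Γ] [Finite Γ] {𝓦 : Set (∀ (Q : Type u) [Group Q], Subgroup Q)}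
    (h𝓦 : ∀ W ∈ 𝓦, IsCharPFunctor.{u} p W) (hne : 𝓦.Nonempty)
    (hsub : ∀ K : Subgroup Γ, K ≠ ⊤ → ∀ T : Subgroup Γ, Syl p T K → TraF 𝓦 T K)
    (hquot : ∀ (N : Subgroup Γ) [N.Normal], N ≠ ⊥ → ∀ H T : Subgroup (Γ ⧸ N), Syl p T H → TraF 𝓦 T H)
    {S : Subgroup Γ} (hS : Syl p S ⊤) (hfail : ¬ TraF 𝓦 S ⊤) :
    pPrimeCore p Γ = ⊥ ∧ pCore p Γ ≠ ⊥ ∧ Subgroup.centralizer (pCore p Γ : Set Γ) ≤ pCore p Γ := by
  classical
  have hWc := fun (W) (hW : W ∈ 𝓦) => KInf.inducedFunctor_conjugacy (G := Γ) (h𝓦 W hW)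
  set T := ⨆ W ∈ 𝓦, S ⊓ ⁅(⊤ : Subgroup Γ) ⊓ Subgroup.normalizer (inducedFunctor (G := Γ) W S : Set Γ),
      ⊤ ⊓ Subgroup.normalizer (inducedFunctor (G := Γ) W S : Set Γ)⁆ with hT
  have hTS : T ≤ S := iSup₂_le fun W _ => inf_le_left
  have hSN : ∀ W ∈ 𝓦, S ≤ ⊤ ⊓ Subgroup.normalizer (inducedFunctor (G := Γ) W S : Set Γ) := fun W hW =>
    le_inf le_top (Subgroup.le_normalizer.trans (functor_normalizer (hWc W hW) hS.pg))
  have hSS : ⁅S, S⁆ ≤ T := by
    obtain ⟨W, hW⟩ := hne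
    refine le_trans ?_ (le_iSup₂_of_le W hW le_rfl)
    exact le_inf (Subgroup.commutator_le.2 fun x hx y hy => by
      rw [commutatorElement_def]; exact mul_mem (mul_mem (mul_mem hx hy) (inv_mem hx)) (inv_mem hy))
      (Subgroup.commutator_mono (hSN W hW) (hSN W hW))
  have hprop : ∀ K : Subgroup Γ, S ≤ K → K ≠ ⊤ → S ⊓ ⁅K, K⁆ ≤ T := fun K hSK hK =>
    (hsub K hK S (hS.mono hSK le_top)).trans (iSup₂_mono fun W _ =>
      inf_le_inf_left _ (Subgroup.commutator_mono (inf_le_inf_right _ le_top) (inf_le_inf_right _ le_top)))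
  have hK : pPrimeCore p Γ = ⊥ := by
    by_contra hK
    apply hfail
    haveI := CfsgLib.Solv.pPrimeCore_normal Γ p
    set K := pPrimeCore p Γ with hKdef
    have hKc : ¬ p ∣ Nat.card K := CfsgLib.Solv.not_dvd_card_pPrimeCore
    let π := QuotientGroup.mk' K
    have hπ : Function.Surjective π := QuotientGroup.mk'_surjective K
    have hinj : Set.InjOn π (S : Set Γ) := fun x hx y hy he => by
      have : x⁻¹ * y ∈ S ⊓ K := ⟨S.mul_mem (S.inv_mem hx) hy, QuotientGroup.eq.1 he⟩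
      rw [inf_eq_bot_of_card hS.pg hKc, Subgroup.mem_bot, inv_mul_eq_one] at this
      exact this
    have hSb := hS.map π
    rw [Subgroup.map_top_of_surjective π hπ] at hSb
    have hb := hquot K hK ⊤ _ hSb
    have hle : (⨆ W ∈ 𝓦, S.map π ⊓ ⁅(⊤ : Subgroup (Γ ⧸ K)) ⊓ Subgroup.normalizer
        (inducedFunctor (G := Γ ⧸ K) W (S.map π) : Set (Γ ⧸ K)), ⊤ ⊓ Subgroup.normalizer
        (inducedFunctor (G := Γ ⧸ K) W (S.map π) : Set (Γ ⧸ K))⁆) ≤ T.map π := by
      refine iSup₂_le fun W hW => ?_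
      rw [ind_map (h𝓦 W hW) π hS.pg hinj]
      set WS := inducedFunctor (G := Γ) W S with hWS
      set N := (⊤ : Subgroup Γ) ⊓ Subgroup.normalizer (WS : Set Γ) with hN
      set X := WS ⊔ K with hX
      have hX' : (WS.map π).comap π = X := by rw [Subgroup.comap_map_eq, QuotientGroup.ker_mk']
      have hWS' : WS ≤ S := (hWc W hW S hS.pg).1
      have hN1 : Subgroup.normalizer (WS.map π : Set (Γ ⧸ K)) ≤ N.map π := by
        rw [← map_top_normalizer hπ, Subgroup.map_le_iff_le_comap, Subgroup.comap_map_eq, QuotientGroup.ker_mk']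
        intro m hm
        have hm' : cj m X = X := mem_normalizer_iff_cj.1 hm
        obtain ⟨x, hx, hxle⟩ := (syl_sup (hS.pg.to_le hWS') hKc).exists_conj_le
          ((cj_mono m le_sup_left).trans hm'.le) (isPGroup_cj m (hS.pg.to_le hWS'))
        rw [← cj_mul] at hxle
        have h1 : x * m ∈ N := ⟨trivial, mem_normalizer_iff_cj.2
          (Subgroup.eq_of_le_of_card_ge hxle (card_cj (x * m) WS).ge)⟩
        have h2 : x ∈ N ⊔ K := sup_le_sup_right (hWS'.trans (hSN W hW)) K hx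
        have := mul_mem (inv_mem h2) (Subgroup.mem_sup_left h1 (T := K))
        rw [inv_mul_cancel_left] at this
        rwa [Subgroup.comap_map_eq, QuotientGroup.ker_mk']
      rintro w ⟨⟨y, hy, rfl⟩, hyN⟩
      have hyN' : π y ∈ (⁅N, N⁆).map π := by
        rw [Subgroup.map_commutator]
        exact Subgroup.commutator_mono (inf_le_right.trans hN1) (inf_le_right.trans hN1) hyN
      obtain ⟨d, hd, hdy⟩ := hyN'
      have hk : d⁻¹ * y ∈ K := QuotientGroup.eq.1 hdy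
      have hNN : ⁅N, N⁆ ≤ N := Subgroup.commutator_le.2 fun x hx y hy => by
        rw [commutatorElement_def]; exact mul_mem (mul_mem (mul_mem hx hy) (inv_mem hx)) (inv_mem hy)
      have hkN : d⁻¹ * y ∈ N := mul_mem (inv_mem (hNN hd)) (hSN W hW hy)
      obtain ⟨k, hk'⟩ := pow_eq_one_of_mem hS.pg hy
      refine ⟨y, Subgroup.mem_iSup_of_mem W (Subgroup.mem_iSup_of_mem hW ⟨hy, ?_⟩), rfl⟩
      refine mem_of_pow_coprime hKc hk' ?_
      have h1 := pow_mul_mem (Y := ⁅N, N⁆) hd (mem_normalizer_iff_cj.2 (by rw [cj_commutator, cj_eq_of_mem hkN]))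
        (Nat.card K)
      rwa [mul_inv_cancel_left, show (d⁻¹ * y) ^ Nat.card K = 1 from
        congrArg Subtype.val (pow_card_eq_one' (x := (⟨_, hk⟩ : ↥K))), inv_one, mul_one] at h1
    intro z hz
    obtain ⟨y, hy, hye⟩ := hle (hb ⟨⟨z, hz.1, rfl⟩, by
      rw [← Subgroup.map_top_of_surjective π hπ, ← Subgroup.map_commutator]; exact ⟨z, hz.2, rfl⟩⟩)
    exact (hinj (hTS hy) hz.1 hye) ▸ hy
  haveI := CfsgLib.Solv.pCore_normal Γ p
  set P := pCore p Γ with hPdef
  have hPp : IsPGroup p ↥P := CfsgLib.Solv.pCore_isPGroup Γ p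
  have hP : P ≠ ⊥ := by
    intro hP
    apply hfail
    refine family_global hS ((fun W => inducedFunctor (G := Γ) W) '' 𝓦) ?_ ?_ ?_
    · rintro _ ⟨W, hW, rfl⟩; exact hWc W hW
    · rintro _ ⟨W, hW, rfl⟩; exact le_iSup₂_of_le W hW le_rfl
    · intro V hVS hV0 hVe Q hQ
      have hne' : ⊤ ⊓ Subgroup.normalizer (V : Set Γ) ≠ ⊤ := fun he => hV0 (by
        rw [top_inf_eq, Subgroup.normalizer_eq_top_iff] at he
        exact eq_bot_iff.2 (hP ▸ CfsgLib.Solv.le_pCore (hN := he) (hS.pg.to_le hVS)))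
      rw [iSup_image]
      subst hQ
      exact hsub _ hne' _ (hVe.syl hS)
  refine ⟨hK, hP, ?_⟩
  have hPS : P ≤ S := hS.normal_le le_top hPp
    (le_of_le_of_eq le_top (Subgroup.normalizer_eq_top_iff.2 inferInstance).symm)
  set C := Subgroup.centralizer (P : Set Γ) with hCdef
  haveI : C.Normal := Subgroup.normalizer_eq_top_iff.1 (eq_top_iff.2
    ((Subgroup.normalizer_eq_top_iff.2 (inferInstance : P.Normal)).ge.trans (normalizer_le_centralizer_normalizer P)))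
  by_cases hR : S ⊓ C ≤ P
  · exact le_of_central_sylow hK hS (fun r hr c hc => hc r (hR hr)) hR
  exfalso
  apply hfail
  set R := S ⊓ C with hRdef
  set Z := P ⊓ C with hZdef
  haveI hZn : Z.Normal := Subgroup.normal_inf_normal P C
  have hCN : (⊤ : Subgroup Γ) ≤ Subgroup.normalizer (C : Set Γ) :=
    (Subgroup.normalizer_eq_top_iff.2 inferInstance).ge
  have hSR : S ≤ Subgroup.normalizer (R : Set Γ) :=
    (le_inf Subgroup.le_normalizer (le_top.trans hCN)).trans Subgroup.inf_normalizer_le_normalizer_inf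
  have hRp : IsPGroup p ↥R := hS.pg.to_le inf_le_left
  have hMtop : Subgroup.normalizer (R : Set Γ) ≠ ⊤ := fun he =>
    hR (CfsgLib.Solv.le_pCore (hN := Subgroup.normalizer_eq_top_iff.1 he) hRp)
  intro z hz
  show z ∈ T
  obtain ⟨m, hm, r, hr, rfl⟩ := frattini_split (C := C) hS hz.1 hz.2
  have hmS : m ∈ S := by
    have := S.mul_mem hz.1 (S.inv_mem hr.1.1)
    rwa [mul_inv_cancel_right] at this
  refine mul_mem (hprop _ hSR hMtop ⟨hmS, hm⟩) ?_
  have hZne : Z ≠ ⊥ := by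
    haveI : Nontrivial ↥P := (Subgroup.nontrivial_iff_ne_bot P).2 hP
    haveI := hPp.center_nontrivial
    obtain ⟨x, hx⟩ := exists_ne (1 : ↥(Subgroup.center ↥P))
    intro h
    have hmem : ((x : ↥P) : Γ) ∈ Z :=
      ⟨(x : ↥P).2, fun y hy => congrArg Subtype.val (Subgroup.mem_center_iff.1 x.2 ⟨y, hy⟩)⟩
    rw [h, Subgroup.mem_bot] at hmem
    exact hx (Subtype.ext (Subtype.ext hmem))
  let π := QuotientGroup.mk' Z
  have hπ : Function.Surjective π := QuotientGroup.mk'_surjective Z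
  have hRs : Syl p R C := by
    have := hS.inf_normal (N := C) (le_top.trans hCN)
    rwa [top_inf_eq] at this
  have hRb := hRs.map π
  have hb := hquot Z hZne _ _ hRb
  have hle : (⨆ W ∈ 𝓦, R.map π ⊓ ⁅C.map π ⊓ Subgroup.normalizer
      (inducedFunctor (G := Γ ⧸ Z) W (R.map π) : Set (Γ ⧸ Z)), C.map π ⊓ Subgroup.normalizer
      (inducedFunctor (G := Γ ⧸ Z) W (R.map π) : Set (Γ ⧸ Z))⁆) ≤ (T ⊓ ⁅C, C⁆).map π := by
    refine iSup₂_le fun W hW => ?_
    have hWb := KInf.inducedFunctor_conjugacy (G := Γ ⧸ Z) (h𝓦 W hW)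
    set X := inducedFunctor (G := Γ ⧸ Z) W (R.map π) with hX
    set M2 := Subgroup.normalizer (X.comap π : Set Γ) with hM2
    have hCM : C.map π ⊓ Subgroup.normalizer (X : Set (Γ ⧸ Z)) ≤ (C ⊓ M2).map π := by
      rw [← map_top_normalizer hπ X]
      rintro _ ⟨⟨c, hc, rfl⟩, m, hm, he⟩
      have h1 : m⁻¹ * c ∈ Z := QuotientGroup.eq.1 he
      refine ⟨c, ⟨hc, ?_⟩, rfl⟩
      rw [show c = m * (m⁻¹ * c) by group]
      refine mul_mem hm (Subgroup.le_normalizer ?_)
      show π _ ∈ X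
      rw [show π (m⁻¹ * c) = 1 from (QuotientGroup.eq_one_iff _).2 h1]
      exact one_mem _
    rintro w ⟨⟨y, hy, rfl⟩, hyN⟩
    have hyN' : π y ∈ (⁅C ⊓ M2, C ⊓ M2⁆).map π := by
      rw [Subgroup.map_commutator]; exact Subgroup.commutator_mono hCM hCM hyN
    obtain ⟨d, hd, hdy⟩ := hyN'
    have hu : d⁻¹ * y ∈ Z := QuotientGroup.eq.1 hdy
    have hdS : d ∈ S := by
      have := S.mul_mem hy.1 (S.inv_mem (hPS hu.1))
      simpa using this
    have hSM2 : S ≤ M2 := fun s hs =>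
      Subgroup.le_normalizer_comap π (functor_normalizer hWb hRb.pg (Subgroup.le_normalizer_map π ⟨s, hSR hs, rfl⟩))
    have hM2top : M2 ≠ ⊤ := by
      intro htop
      have hXn : (X.comap π).Normal := Subgroup.normalizer_eq_top_iff.1 htop
      have hXp : IsPGroup p ↥(X.comap π) :=
        (hRb.pg.to_le (hWb _ hRb.pg).1).comap_of_ker_isPGroup π
          (by rw [QuotientGroup.ker_mk']; exact hPp.to_le inf_le_left)
      refine (hWb _ hRb.pg).2.1 (fun h0 => hR ?_) ?_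
      · rw [Subgroup.map_eq_bot_iff, QuotientGroup.ker_mk'] at h0
        exact h0.trans inf_le_left
      · rw [← hX, ← Subgroup.map_comap_eq_self_of_surjective hπ X, Subgroup.map_eq_bot_iff, QuotientGroup.ker_mk']
        refine le_inf (CfsgLib.Solv.le_pCore (hN := hXn) hXp) ?_
        refine (Subgroup.comap_mono (hWb _ hRb.pg).1).trans ?_
        rw [Subgroup.comap_map_eq, QuotientGroup.ker_mk']
        exact sup_le inf_le_right inf_le_right
    exact ⟨d, ⟨hprop M2 hSM2 hM2top ⟨hdS, Subgroup.commutator_mono inf_le_right inf_le_right hd⟩,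
      Subgroup.commutator_mono inf_le_left inf_le_left hd⟩, hdy⟩
  obtain ⟨d, ⟨hdT, hdC⟩, hdr⟩ := hle (hb ⟨⟨r, hr.1, rfl⟩, by
    rw [← Subgroup.map_commutator]; exact ⟨r, hr.2, rfl⟩⟩)
  have hu : d⁻¹ * r ∈ Z := QuotientGroup.eq.1 hdr
  have huC : d⁻¹ * r ∈ ⁅C, C⁆ := mul_mem (inv_mem hdC) hr.2
  have huN : d⁻¹ * r ∈ T := by
    refine (le_trans (Subgroup.commutator_mono inf_le_left inf_le_left) hSS : ⁅R, R⁆ ≤ T) ?_
    have h1 : (⟨d⁻¹ * r, hu.2⟩ : ↥C) ∈ commutator ↥C := by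
      have : d⁻¹ * r ∈ (commutator ↥C).map C.subtype := by rwa [Subgroup.map_subtype_commutator]
      obtain ⟨w, hw, e⟩ := this
      rwa [show (⟨d⁻¹ * r, hu.2⟩ : ↥C) = w from Subtype.ext e.symm]
    have h2 := central_commutator hRs.subgroupOf (z := (⟨d⁻¹ * r, hu.2⟩ : ↥C))
      ⟨hPS hu.1, hu.2⟩ (Subgroup.mem_center_iff.2 fun y => Subtype.ext (y.2 _ hu.1).symm) h1
    have h3 : ((⟨d⁻¹ * r, hu.2⟩ : ↥C) : Γ) ∈ (⁅R.subgroupOf C, R.subgroupOf C⁆).map C.subtype := ⟨_, h2, rfl⟩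
    rwa [Subgroup.map_commutator, Subgroup.map_subgroupOf_eq_of_le hRs.le] at h3
  have := mul_mem hdT huN
  rwa [mul_inv_cancel_left] at this

/-- Family control of transfer in every section follows from control in the constrained ones. -/
theorem family_transfer_of_core {G : Type u} [Group G] [Finite G]
    {𝓦 : Set (∀ (Q : Type u) [Group Q], Subgroup Q)} (h𝓦 : ∀ W ∈ 𝓦, IsCharPFunctor.{u} p W) (hne : 𝓦.Nonempty)
    (hcore : ∀ (Γ : Type u) [Group Γ] [Finite Γ], IsSec G Γ →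
      Subgroup.centralizer (pCore p Γ : Set Γ) ≤ pCore p Γ → ∀ S : Subgroup Γ, Syl p S ⊤ → TraF 𝓦 S ⊤) :
    ∀ (Γ : Type u) [Group Γ] [Finite Γ], IsSec G Γ → ∀ (H S : Subgroup Γ), Syl p S H → TraF 𝓦 S H := by
  suffices key : ∀ (n : ℕ) (Γ : Type u) [Group Γ] [Finite Γ], IsSec G Γ → Nat.card Γ = n →
      ∀ S : Subgroup Γ, Syl p S ⊤ → TraF 𝓦 S ⊤ by
    intro Γ _ _ hsec H S hS
    exact TraF.of_subtype h𝓦 hS (key _ ↥H (hsec.subgroup H) rfl _ hS.subgroupOf)
  intro n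
  induction n using Nat.strong_induction_on with
  | _ n ih =>
  intro Γ _ _ hsec hn S hS
  subst hn
  by_contra hfail
  refine hfail (hcore Γ hsec (family_structure h𝓦 hne ?_ ?_ hS hfail).2.2 S hS)
  · intro K hK T hT
    exact TraF.of_subtype h𝓦 hT (ih _ (CfsgLib.Solv.card_lt_of_ne_top hK) ↥K (hsec.subgroup K) rfl _ hT.subgroupOf)
  · intro N _ hN H T hT
    exact TraF.of_subtype h𝓦 hT (ih _ (lt_of_le_of_lt (Nat.card_le_card_of_injective _ H.subtype_injective)
      (CfsgLib.Solv.card_quotient_lt hN)) ↥H ((hsec.of_surjective (QuotientGroup.mk'_surjective N)).subgroup H) rfl _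
      hT.subgroupOf)

/-- Control in a standard section transfers to an isomorphic one. -/
theorem traF_of_equiv {Q Γ : Type u} [Group Q] [Group Γ] [Finite Q] [Finite Γ]
    {𝓦 : Set (∀ (R : Type u) [Group R], Subgroup R)} (h𝓦 : ∀ W ∈ 𝓦, IsCharPFunctor.{u} p W) (e : Q ≃* Γ)
    (h : FamilyControlsTransferIn p ((fun W => inducedFunctor (G := Q) W) '' 𝓦) ⊤) {S : Subgroup Γ}
    (hS : Syl p S ⊤) : TraF 𝓦 S ⊤ := by
  have hSq := hS.map e.symm.toMonoidHom
  rw [Subgroup.map_top_of_surjective e.symm.toMonoidHom e.symm.surjective] at hSq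
  have h1 := fam_of_def hSq _ (by rintro _ ⟨W, hW, rfl⟩; exact KInf.inducedFunctor_conjugacy (h𝓦 W hW)) h
  rw [iSup_image] at h1
  have h2 := TraF.of_hom h𝓦 (f := e.toMonoidHom) e.injective hSq.pg h1
  rwa [Subgroup.map_top_of_surjective e.toMonoidHom e.surjective, Subgroup.map_map,
    show e.toMonoidHom.comp e.symm.toMonoidHom = MonoidHom.id Γ from MonoidHom.ext e.apply_symm_apply,
    Subgroup.map_id] at h2

/-- The definition from the inclusion. -/
theorem def_of_traF {Γ : Type u} [Group Γ] [Finite Γ] {𝓦 : Set (∀ (R : Type u) [Group R], Subgroup R)}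
    {S : Subgroup Γ} (hS : Syl p S ⊤) (h : TraF 𝓦 S ⊤) :
    FamilyControlsTransferIn p ((fun W => inducedFunctor (G := Γ) W) '' 𝓦) ⊤ := by
  refine ⟨S, hS.le, hS.pg, hS.idx, ?_⟩
  rw [iSup_image]
  exact le_antisymm h (iSup₂_le fun W _ => inf_le_inf_left _ (Subgroup.commutator_mono le_top le_top))

end CfsgLib.Glau
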