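import Cfsg.Agent.Fus.TransferFusionCentralizer
import Cfsg.Agent.Solv.PComplement
import Cfsg.Agent.Inv.Transfer

/-!
A characteristic functor controlling transfer in finite groups controls the focal subgroup of every saturated
fusion system.
-/

set_option autoImplicit false
set_option linter.style.haveILetI false

open Cfsg Cfsg.FusionSystem
open scoped commutatorElement

namespace CfsgLib.Fus

universe u

variable {Ω : Type u} [Group Ω] {S : Subgroup Ω} {F : FusionSystem S} {p : ℕ}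
  {W : ∀ (Q : Type u) [Group Q], Subgroup Q}

/-- The case of a core that is not centric. -/
theorem tgood_noncentric [Finite S] [Fact p.Prime] (hS : IsPGroup p S) (hF : F.IsSaturated p)
    (hW : IsCharPFunctor.{u} p W) (hIH : FocalIH p W F) {Q : Subgroup Ω} (hQ : Q = F.core) (hQ0 : Q ≠ ⊥)
    (hCQ : ¬ centralizerIn S Q ≤ Q)
    {X : Subgroup Ω} (hXS : X ≤ S) (hX : ⁅S, S⁆ ≤ X)
    (hgen : ∀ P f, IsMap F P f → inducedFunctor W S ≤ P → img f (inducedFunctor W S) = inducedFunctor W S →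
      TGood X P f)
    {P : Subgroup Ω} {f : Ω → Ω} (hf : IsMap F P f) : TGood X P f := by
  have hQN : F.IsNormal Q := hQ ▸ isNormal_core
  have hQSC := isNormal_stronglyClosed hQN
  have hQn : S ≤ Subgroup.normalizer (Q : Set Ω) := stronglyClosed_normal hQSC
  obtain ⟨D, hD⟩ := exists_centralizerSystem F hQN.1
  let C := centralizerIn S Q
  have hCS : C ≤ S := centralizerIn_le Q
  have hCn : ∀ s ∈ S, ∀ c ∈ C, s * c * s⁻¹ ∈ C := fun t ht c hc =>
    ⟨S.mul_mem (S.mul_mem ht hc.1) (S.inv_mem ht), fun q hq => by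
      have h1 := hc.2 _ (conj_mem_of_normalizer' (hQn ht) hq)
      calc q * (t * c * t⁻¹) = t * ((t⁻¹ * q * t) * c) * t⁻¹ := by group
        _ = t * (c * (t⁻¹ * q * t)) * t⁻¹ := by rw [h1]
        _ = t * c * t⁻¹ * q := by group⟩
  have hXn : S ≤ Subgroup.normalizer (X : Set Ω) := normalizes_of_commutator_le hXS hX
  -- maps stabilizing `Q ⊔ C`
  let K : Subgroup Ω := Q ⊔ C
  have hKS : K ≤ S := sup_le hQN.1 hCS
  have hKn : S ≤ Subgroup.normalizer (K : Set Ω) := le_normalizer_of_forall fun s hs k hk => by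
    have hle : K.map (MulAut.conj s).toMonoidHom ≤ K := by
      rw [Subgroup.map_sup]
      refine sup_le ?_ ?_
      · rintro _ ⟨q, hq, rfl⟩; exact le_sup_left (b := C) (conj_mem_of_normalizer (hQn hs) hq)
      · rintro _ ⟨c, hc, rfl⟩; exact le_sup_right (a := Q) (hCn s hs c hc)
    exact hle ⟨k, hk, rfl⟩
  have hKnn : ¬ F.IsNormal K := fun h => hCQ ((le_sup_right (a := Q)).trans (le_of_le_of_eq (le_core h) hQ.symm))
  refine tgood_induction hS hF hX (fun R hR hbig α hα => ?_) hf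
  have hαm := (mem_autGroup hR.1).1 hα
  haveI := finite_of_le hR.1
  by_cases hQR : Q ≤ R
  swap
  · obtain ⟨g, hg, hge, -⟩ := (isNormal_iff.1 hQN).2 R _ hαm
    have hlt : Nat.card ↥R < Nat.card ↥(R ⊔ Q : Subgroup Ω) :=
      card_lt_of_lt hg.le (lt_of_le_of_ne le_sup_left fun he => hQR (he ▸ le_sup_right))
    exact ((hbig _ g hg hlt).mono le_sup_left).congr hge
  have hQα : ∀ β ∈ F.autGroup R, ∀ q ∈ Q, autFun β q ∈ Q := fun β hβ q hq =>
    autFun_mem_of_stronglyClosed hQSC hR.1 hβ (hQR hq) hq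
  by_cases hCR : C ≤ R
  · have hKR : K ≤ R := sup_le hQR hCR
    refine tgood_stab hS hF hIH hXS hX hgen hKS hKn hKnn hαm hKR ?_
    haveI := finite_of_le hKS
    refine Subgroup.eq_of_le_of_card_ge ?_ (hαm.mono hKR).card_img.ge
    rw [hαm.img_sup hQR hCR]
    refine sup_le_sup (img_le_iff.2 fun q hq => hQα α hα q hq) (img_le_iff.2 fun c hc => ⟨hαm.mem (hCR hc),
      fun q hq => ?_⟩)
    have hq' : autFun α⁻¹ q ∈ Q := hQα _ (Subgroup.inv_mem _ hα) q hq
    calc q * autFun α c = autFun α (autFun α⁻¹ q) * autFun α c := by rw [autFun_inv_apply α (hQR hq)]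
      _ = autFun α (autFun α⁻¹ q * c) := (hαm.map_mul (hQR hq') (hCR hc)).symm
      _ = autFun α (c * autFun α⁻¹ q) := by rw [hc.2 _ hq']
      _ = autFun α c * q := by rw [hαm.map_mul (hCR hc) (hQR hq'), autFun_inv_apply α (hQR hq)]
  -- the automorphisms fixing the core
  obtain ⟨hfa, hrec⟩ := fullyNormalized_spec hS hF hR
  let K0 : Subgroup (MulAut R) :=
    { carrier := {κ | ∀ q ∈ Q, autFun κ q = q}
      one_mem' := fun q hq => autFun_one (hQR hq)
      mul_mem' := fun {a b} ha hb q hq => by rw [autFun_mul _ _ (hQR hq), hb q hq, ha q hq]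
      inv_mem' := fun {a} ha q hq => by
        conv_lhs => rw [← ha q hq]
        rw [← autFun_mul _ _ (hQR hq), inv_mul_cancel, autFun_one (hQR hq)] }
  have hK0n : ∀ β ∈ F.autGroup R, ∀ κ ∈ K0, β * κ * β⁻¹ ∈ K0 := fun β hβ κ hκ q hq => by
    rw [autFun_conj β κ (hQR hq), hκ _ (hQα _ (Subgroup.inv_mem _ hβ) q hq), autFun_inv_apply β (hQR hq)]
  obtain ⟨β, hβ, κ, hκ, rfl, hβn⟩ := frattini_aut hfa K0 hK0n hα
  have hκA : κ ∈ F.autGroup R := by
    have := Subgroup.mul_mem _ (Subgroup.inv_mem _ hβ) hα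
    rwa [inv_mul_cancel_left] at this
  -- the part normalizing the induced automorphisms extends
  let M : Subgroup Ω := C ⊓ Subgroup.normalizer (R : Set Ω)
  have hMR : ¬ M ≤ R := fun h => hCR (le_of_normalizer_le hS hR.1 hCS
    (le_normalizer_of_forall hCn) fun c hc hcn => h ⟨hc, hcn⟩)
  obtain ⟨g, hg, hge⟩ := extend_aut hrec hβ (N := M) (fun x hx => ⟨hCS hx.1, hx.2⟩) fun x hx γ hγ =>
    hβn γ (mem_autInducedBy.2 ⟨x, hCS hx.1, hγ⟩) fun q hq => by
      rw [hγ q (hQR hq), ← hx.1.2 q hq, mul_inv_cancel_right]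
  have hlt : Nat.card ↥R < Nat.card ↥(R ⊔ M : Subgroup Ω) :=
    card_lt_of_lt hg.le (lt_of_le_of_ne le_sup_left fun he => hMR (he ▸ le_sup_right))
  have hβg : TGood X R (autFun β) := ((hbig _ g hg hlt).mono le_sup_left).congr hge
  suffices hκg : TGood X R (autFun κ) by
    intro x hx
    have h := X.mul_mem (hκg x hx) (hβg _ (autFun_mem κ hx))
    rw [autFun_mul β κ hx]
    simpa [mul_assoc] using h
  -- displacements centralize the core
  have hdisp : ∀ γ ∈ F.autGroup R, γ ∈ K0 → ∀ x ∈ R, x⁻¹ * autFun γ x ∈ R ⊓ C := by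
    intro γ hγA hγ x hx
    have hγm := (mem_autGroup hR.1).1 hγA
    have hy : x⁻¹ * autFun γ x ∈ R := R.mul_mem (R.inv_mem hx) (autFun_mem γ hx)
    refine ⟨hy, hR.1 hy, fun q hq => ?_⟩
    have hq' : x * q * x⁻¹ ∈ Q := conj_mem_of_normalizer (hQn (hR.1 hx)) hq
    have h1 := hγ _ hq'
    rw [hγm.map_mul (R.mul_mem hx (hQR hq)) (R.inv_mem hx), hγm.map_mul hx (hQR hq), hγm.map_inv hx, hγ q hq]
      at h1
    calc q * (x⁻¹ * autFun γ x) = x⁻¹ * (x * q * x⁻¹) * autFun γ x := by group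
      _ = x⁻¹ * (autFun γ x * q * (autFun γ x)⁻¹) * autFun γ x := by rw [h1]
      _ = x⁻¹ * autFun γ x * q := by group
  haveI := finite_mulAut hR.1
  let KA : Subgroup ↥(F.autGroup R) := K0.subgroupOf (F.autGroup R)
  haveI hKAn : KA.Normal := ⟨fun a ha b => hK0n b b.2 a ha⟩
  let H : Subgroup ↥(F.autGroup R) :=
    { carrier := {γ | TGood X R (autFun (γ : MulAut R))}
      one_mem' := fun x hx => by
        show x⁻¹ * autFun ((1 : ↥(F.autGroup R)) : MulAut R) x ∈ X
        rw [OneMemClass.coe_one, autFun_one hx, inv_mul_cancel]; exact X.one_mem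
      mul_mem' := fun {a b} ha hb x hx => by
        have h := X.mul_mem (hb x hx) (ha _ (autFun_mem (b : MulAut R) hx))
        rw [Subgroup.coe_mul, autFun_mul _ _ hx]
        simpa [mul_assoc] using h
      inv_mem' := fun {a} ha x hx => by
        have h := X.inv_mem (ha _ (autFun_mem ((a : MulAut R))⁻¹ hx))
        rw [autFun_inv_apply _ hx] at h
        rw [Subgroup.coe_inv]
        simpa using h }
  suffices hle : (⊤ : Subgroup ↥(F.autGroup R)) ⊓ KA ≤ H from
    (hle ⟨trivial, (hκ : (⟨κ, hκA⟩ : ↥(F.autGroup R)) ∈ KA)⟩ : (⟨κ, hκA⟩ : ↥(F.autGroup R)) ∈ H)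
  obtain ⟨Rs, hRs⟩ := hfa.2
  have hsyl := (Glau.syl_top Rs).inf_normal (N := KA) (Subgroup.normalizer_eq_top_iff.2 hKAn).ge
  intro γ hγ
  suffices hle2 : (⊤ : Subgroup ↥((⊤ : Subgroup ↥(F.autGroup R)) ⊓ KA)) ≤ H.subgroupOf _ from
    hle2 (Subgroup.mem_top ⟨γ, hγ⟩)
  rw [← CfsgLib.Solv.sylow_sup_pResidual hsyl.toSylow, Glau.Syl.coe_toSylow hsyl]
  refine sup_le ?_ ((Subgroup.closure_le _).2 ?_)
  · rintro ⟨δ, hδK⟩ ⟨hδR, -⟩
    rw [hRs] at hδR
    obtain ⟨s, hs, hse⟩ := mem_autInducedBy.1 (Subgroup.mem_subgroupOf.1 hδR)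
    exact (tgood_conjF hX hR.1 hs).congr fun x hx => (hse x hx).symm
  · rintro ⟨δ, hδK⟩ hco
    -- an automorphism of order prime to `p`
    have hco' : (orderOf (δ : MulAut R)).Coprime p := by
      have h := (Subgroup.orderOf_coe (⟨δ, hδK⟩ : ↥((⊤ : Subgroup ↥(F.autGroup R)) ⊓ KA))).symm
      rw [Subgroup.orderOf_coe]
      exact h ▸ hco
    have hδ0 : (δ : MulAut R) ∈ K0 := hδK.2
    have hδm := (mem_autGroup hR.1).1 δ.2
    have hδD : IsMap D (R ⊓ C) (autFun (δ : MulAut R)) :=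
      isMap_centralizer_of_fix hD hδm inf_le_left hQR hδ0 inf_le_right
    have hδC := tgood_centralizer hS hF hW hIH hQ hQ0 hCQ hXS hX hgen hD hδD
    intro x hx
    set y := x⁻¹ * autFun (δ : MulAut R) x with hy
    have hind : ∀ i : ℕ, (y ^ i)⁻¹ * (x⁻¹ * autFun ((δ : MulAut R) ^ i) x) ∈ X := by
      intro i
      induction i with
      | zero => simp [autFun_one hx]
      | succ i ih =>
        have hpow : (δ : MulAut R) ^ i ∈ F.autGroup R := Subgroup.pow_mem _ δ.2 i
        have hai := hdisp _ hpow (Subgroup.pow_mem _ hδ0 i) x hx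
        set a := x⁻¹ * autFun ((δ : MulAut R) ^ i) x with ha
        have hstep : x⁻¹ * autFun ((δ : MulAut R) ^ (i + 1)) x = y * autFun (δ : MulAut R) a := by
          rw [pow_succ', autFun_mul _ _ hx,
            show autFun ((δ : MulAut R) ^ i) x = x * a by rw [ha, mul_inv_cancel_left],
            hδm.map_mul hx hai.1, ← mul_assoc]
        rw [hstep, pow_succ', mul_inv_rev]
        have h := X.mul_mem ih (hδC a hai)
        simpa [mul_assoc] using h
    have hn := hind (orderOf (δ : MulAut R))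
    rw [pow_orderOf_eq_one, autFun_one hx, inv_mul_cancel, mul_one] at hn
    have hyS : y ∈ S := S.mul_mem (S.inv_mem (hR.1 hx)) (hR.1 (autFun_mem _ hx))
    obtain ⟨k, hk⟩ := hS ⟨y, hyS⟩
    refine Glau.mem_of_pow_coprime (fun hdvd => ?_) (congrArg Subtype.val hk) (inv_mem_iff.1 hn)
    exact (Fact.out : p.Prime).one_lt.ne' (Nat.eq_one_of_dvd_coprimes hco' hdvd dvd_rfl)

/-- A characteristic functor controlling transfer in all finite groups controls the focal subgroup of every saturated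
fusion system. -/
theorem controlsFocal [Fact p.Prime] (hW : IsCharPFunctor.{u} p W)
    (hgrp : ∀ (L : Type u) [Group L] [Finite L] (T : Subgroup L), Glau.Syl p T ⊤ →
      Glau.Tra (inducedFunctor W) T ⊤) :
    ∀ (Ω : Type u) [Group Ω] (S : Subgroup Ω) [Finite S] (F : FusionSystem S), IsPGroup p S →
      F.IsSaturated p → ControlsFocal W F := by
  suffices key : ∀ (n m : ℕ) (Ω : Type u) [Group Ω] (S : Subgroup Ω) [Finite S] (F : FusionSystem S),
      IsPGroup p S → F.IsSaturated p → Nat.card ↥S = n → (mapSet F).ncard = m → ControlsFocal W F from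
    fun Ω _ S _ F hS hF => key _ _ Ω S F hS hF rfl rfl
  intro n
  induction n using Nat.strong_induction_on with
  | _ n ihn =>
  intro m
  induction m using Nat.strong_induction_on with
  | _ m ihm =>
  intro Ω _ S _ F hS hF hn hm
  have hIH : FocalIH p W F := fun Ω' _ S' _ F' hS' hF' hsm => by
    rcases hsm with h | ⟨h1, h2⟩
    · exact ihn _ (hn ▸ h) _ Ω' S' F' hS' hF' rfl rfl
    · exact ihm _ (hm ▸ h2) Ω' S' F' hS' hF' (h1.trans hn) rfl
  intro X hXS hX hgen P f hf
  by_cases h0 : F.core = ⊥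
  · exact tgood_core_bot hS hF hW hIH h0 hXS hX hgen hf
  by_cases hC : centralizerIn S F.core ≤ F.core
  · refine tgood_centric hS hF hW hgrp isNormal_core ⟨isNormal_core.1, fun R hR => ?_⟩ hXS hgen hf
    obtain ⟨g, hg, rfl⟩ := isConj_iff.1 hR
    rwa [(weaklyClosed_iff.1 (stronglyClosed_weaklyClosed (isNormal_stronglyClosed isNormal_core))).2 g hg]
  · exact tgood_noncentric hS hF hW hIH rfl h0 hC hXS hX hgen hf

end CfsgLib.Fus
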