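import Cfsg.Agent.Fus.TransferK
import Cfsg.Agent.Fus.TransferControl
import Cfsg.Agent.Fus.Tate
import Cfsg.Agent.Fus.FactorSaturated
import Cfsg.Agent.Fus.ThompsonCentre
import Cfsg.Agent.Fus.JInduction
import Cfsg.Agent.Fus.SystemSaturation
import Cfsg.Agent.Fus.Constructions

/-!
Control of the focal subgroup of a saturated fusion system by a characteristic functor: vocabulary and the
reduction to smaller systems.
-/

set_option autoImplicit false
set_option linter.style.haveILetI false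

open Cfsg Cfsg.FusionSystem
open scoped commutatorElement

namespace CfsgLib.Fus

universe u

variable {Ω : Type u} [Group Ω] {S : Subgroup Ω} {F : FusionSystem S} {p : ℕ}
  {W : ∀ (Q : Type u) [Group Q], Subgroup Q}

/-! ### Maps trivial modulo a subgroup -/

/-- The map moves every element of its source inside its coset of `X`. -/
def TGood (X P : Subgroup Ω) (f : Ω → Ω) : Prop := ∀ x ∈ P, x⁻¹ * f x ∈ X

theorem TGood.mono {X P R : Subgroup Ω} {f : Ω → Ω} (h : TGood X P f) (hR : R ≤ P) : TGood X R f :=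
  fun x hx => h x (hR hx)

theorem TGood.congr {X P : Subgroup Ω} {f g : Ω → Ω} (h : TGood X P f) (hfg : ∀ x ∈ P, f x = g x) :
    TGood X P g := fun x hx => hfg x hx ▸ h x hx

theorem tgood_conjF {X P : Subgroup Ω} (hX : ⁅S, S⁆ ≤ X) (hP : P ≤ S) {a : Ω} (ha : a ∈ S) :
    TGood X P (conjF a) := fun x hx => by
  have h := hX (Subgroup.commutator_mem_commutator (S.inv_mem (hP hx)) ha)
  simpa [commutatorElement_def, conjF, mul_assoc] using h

theorem normalizes_of_commutator_le {X : Subgroup Ω} (hXS : X ≤ S) (hX : ⁅S, S⁆ ≤ X) :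
    S ≤ Subgroup.normalizer (X : Set Ω) := le_normalizer_of_forall fun a ha k hk => by
  have h := X.mul_mem (hX (Subgroup.commutator_mem_commutator ha (hXS hk))) hk
  simpa [commutatorElement_def, mul_assoc] using h

/-- The subsystem of the maps trivial modulo `X`. -/
def tgoodSys (F : FusionSystem S) {X : Subgroup Ω} (hX : ⁅S, S⁆ ≤ X) : FusionSystem S :=
  subSystem F (fun P f => TGood X P f) (fun _ _ _ hfg h => h.congr hfg)
    (fun _ _ hP ha => tgood_conjF hX hP ha)
    (fun P R f g hf hg h1 h2 hPR x hx => by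
      have h := X.mul_mem (h1 x hx) (h2 _ (hPR x hx))
      simpa [mul_assoc] using h)
    (fun P f g hf h1 hg hgf y hy => by
      obtain ⟨x, hx, rfl⟩ := hf.mem_img.1 hy
      rw [hgf x hx]
      simpa using X.inv_mem (h1 x hx))

theorem isMap_tgoodSys {X : Subgroup Ω} {hX : ⁅S, S⁆ ≤ X} {P : Subgroup Ω} {f : Ω → Ω} :
    IsMap (tgoodSys F hX) P f ↔ IsMap F P f ∧ TGood X P f := isMap_subSystem

/-- Induction over the fully normalized subgroups for triviality modulo `X`. -/
theorem tgood_induction [Finite S] [Fact p.Prime] (hS : IsPGroup p S) (hF : F.IsSaturated p) {X : Subgroup Ω}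
    (hX : ⁅S, S⁆ ≤ X)
    (hstep : ∀ R : Subgroup Ω, F.IsFullyNormalized R →
      (∀ Q f, IsMap F Q f → Nat.card ↥R < Nat.card ↥Q → TGood X Q f) →
      ∀ α ∈ F.autGroup R, TGood X R (autFun α)) {P : Subgroup Ω} {f : Ω → Ω} (hf : IsMap F P f) :
    TGood X P f := by
  suffices hle : F ≤ tgoodSys F hX from (isMap_tgoodSys.1 (le_iff.1 hle P f hf)).2
  refine fusion_induction hS hF _ fun R hR hbig α hα => (mem_autGroup hR.1).2 (isMap_tgoodSys.2
    ⟨(mem_autGroup hR.1).1 hα, hstep R hR (fun Q g hg hlt => ?_) α hα⟩)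
  exact (isMap_tgoodSys.1 (hbig Q hg.le hlt g hg)).2

/-- Triviality modulo `X` on large subgroups from the automorphisms of large centric ones. -/
theorem tgood_large [Finite S] [Fact p.Prime] (hS : IsPGroup p S) (hF : F.IsSaturated p) {X : Subgroup Ω}
    (hX : ⁅S, S⁆ ≤ X) (m : ℕ)
    (h : ∀ Q : Subgroup Ω, F.IsFullyNormalized Q → F.IsCentric Q → m ≤ Nat.card ↥Q →
      ∀ α ∈ F.autGroup Q, TGood X Q (autFun α)) {P : Subgroup Ω} {f : Ω → Ω} (hf : IsMap F P f)
    (hP : m ≤ Nat.card ↥P) : TGood X P f :=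
  (isMap_tgoodSys.1 (maps_ge hS hF (tgoodSys F hX) m (fun Q hQn hQc hQm α hα => (mem_autGroup hQn.1).2
    (isMap_tgoodSys.2 ⟨(mem_autGroup hQn.1).1 hα, h Q hQn hQc hQm α hα⟩)) hf hP)).2

/-! ### The functor on subgroups -/

theorem ind_le (W : ∀ (Q : Type u) [Group Q], Subgroup Q) (R : Subgroup Ω) : inducedFunctor W R ≤ R :=
  Subgroup.map_subtype_le _

theorem ind_ne_bot (hW : IsCharPFunctor.{u} p W) {R : Subgroup Ω} [Finite R] (hR : IsPGroup p R) (h : R ≠ ⊥) :
    inducedFunctor W R ≠ ⊥ := fun h0 =>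
  hW.1 ↥R hR ((Subgroup.nontrivial_iff_ne_bot R).2 h)
    ((Subgroup.map_eq_bot_iff_of_injective _ R.subtype_injective).1 h0)

/-- Maps carrying `R` to `R'` carry the value at `R` to the value at `R'`. -/
theorem img_functor (hW : IsCharPFunctor.{u} p W) [Finite S] (hS : IsPGroup p S) {f : Ω → Ω}
    {M R R' : Subgroup Ω} (hf : IsMap F M f) (hRM : R ≤ M) (hR : img f R = R') :
    img f (inducedFunctor W R) = inducedFunctor W R' := by
  haveI := finite_of_le (hRM.trans hf.le)
  obtain ⟨e, he⟩ := (hf.mono hRM).equiv hR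
  have h1 := hW.2 ↥R ↥R' (isPGroup_of_le hS (hRM.trans hf.le)) e
  ext y
  rw [(hf.mono ((ind_le W R).trans hRM)).mem_img]
  constructor
  · rintro ⟨_, ⟨w, hw, rfl⟩, rfl⟩
    exact ⟨e w, h1 ▸ ⟨w, hw, rfl⟩, he w⟩
  · rintro ⟨w, hw, rfl⟩
    rw [← h1] at hw
    obtain ⟨v, hv, rfl⟩ := hw
    exact ⟨v, ⟨v, hv, rfl⟩, (he v).symm⟩

theorem normalizerIn_le_functor (F : FusionSystem S) (hW : IsCharPFunctor.{u} p W) [Finite S] (hS : IsPGroup p S) {R : Subgroup Ω}
    (hR : R ≤ S) : normalizerIn S R ≤ normalizerIn S (inducedFunctor W R) := by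
  have key : ∀ s ∈ normalizerIn S R, ∀ w ∈ inducedFunctor W R, s * w * s⁻¹ ∈ inducedFunctor W R := by
    intro s hs w hw
    have hi : img (conjF s) R = R := le_antisymm (img_le_iff.2 fun x hx => conj_mem_of_normalizer hs.2 hx)
      fun x hx => by
        have : conjF s (s⁻¹ * x * s) = x := by simp [mul_assoc]
        rw [← this]
        exact mem_img_of_mem (conj_mem_of_normalizer' hs.2 hx)
    have := img_functor hW hS (IsMap.conj F hR hs.1) le_rfl hi
    exact this.le (mem_img_of_mem (f := conjF s) hw)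
  refine fun s hs => ⟨hs.1, mem_normalizer_of_conj (key s hs) fun x hx => ?_⟩
  simpa using key s⁻¹ (Subgroup.inv_mem _ hs) x hx

/-! ### Smaller systems -/

/-- The maps of the system as functions on `S`. -/
def mapSet (F : FusionSystem S) : Set (Subgroup ↥S × (↥S → ↥S)) :=
  {q | ∃ f, IsMap F (q.1.map S.subtype) f ∧
    ∀ x : ↥S, (x ∈ q.1 → (q.2 x : Ω) = f x) ∧ (x ∉ q.1 → q.2 x = 1)}

/-- A measure of size: the order of the group, then the number of maps. -/
def SmallerSys (F : FusionSystem S) {Ω' : Type u} [Group Ω'] {S' : Subgroup Ω'} (N : FusionSystem S') : Prop :=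
  Nat.card ↥S' < Nat.card ↥S ∨ Nat.card ↥S' = Nat.card ↥S ∧ (mapSet N).ncard < (mapSet F).ncard

theorem smallerSys_of_proper [Finite S] {R : Subgroup Ω} {N : FusionSystem R} (hR : R ≤ S)
    (hle : ∀ P f, IsMap N P f → IsMap F P f)
    (hne : R = S → ∃ P f, IsMap F P f ∧ ¬ IsMap N P f) : SmallerSys F N := by
  rcases hR.eq_or_lt with rfl | hlt
  swap
  · exact Or.inl (card_lt_of_lt le_rfl hlt)
  refine Or.inr ⟨rfl, Set.ncard_lt_ncard (Set.ssubset_iff_exists.2 ⟨?_, ?_⟩) (Set.toFinite _)⟩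
  · rintro q ⟨f, hf, hq⟩
    exact ⟨f, hle _ f hf, hq⟩
  · obtain ⟨P, f, hf, hfN⟩ := hne rfl
    classical
    have hP : (P.subgroupOf R).map R.subtype = P := Subgroup.map_subgroupOf_eq_of_le hf.le
    refine ⟨(P.subgroupOf R, fun x => if h : (x : Ω) ∈ P then ⟨f x, hf.mem h⟩ else 1),
      ⟨f, by rw [hP]; exact hf, fun x => ⟨fun hx => ?_, fun hx => ?_⟩⟩, ?_⟩
    · show ((if h : (x : Ω) ∈ P then (⟨f x, hf.mem h⟩ : ↥R) else 1 : ↥R) : Ω) = f x
      rw [dif_pos (Subgroup.mem_subgroupOf.1 hx)]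
    · exact dif_neg fun h => hx (Subgroup.mem_subgroupOf.2 h)
    · rintro ⟨g, hg, hgq⟩
      rw [hP] at hg
      refine hfN (hg.congr fun x hx => ?_)
      have h1 := (hgq ⟨x, hf.le hx⟩).1 (Subgroup.mem_subgroupOf.2 hx)
      rw [← h1]
      show ((if h : x ∈ P then (⟨f x, hf.mem h⟩ : ↥R) else 1 : ↥R) : Ω) = f x
      rw [dif_pos hx]

/-- The functor controls the focal subgroup of the system. -/
def ControlsFocal (W : ∀ (Q : Type u) [Group Q], Subgroup Q) (F : FusionSystem S) : Prop :=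
  ∀ X : Subgroup Ω, X ≤ S → ⁅S, S⁆ ≤ X →
    (∀ P f, IsMap F P f → inducedFunctor W S ≤ P → img f (inducedFunctor W S) = inducedFunctor W S →
      TGood X P f) → ∀ P f, IsMap F P f → TGood X P f

/-- Control for all smaller systems. -/
def FocalIH (p : ℕ) (W : ∀ (Q : Type u) [Group Q], Subgroup Q) (F : FusionSystem S) : Prop :=
  ∀ (Ω' : Type u) [Group Ω'] (S' : Subgroup Ω') [Finite S'] (F' : FusionSystem S'), IsPGroup p S' →
    F'.IsSaturated p → SmallerSys F F' → ControlsFocal W F'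

/-- The maps stabilizing a fully normalized non-normal subgroup are trivial modulo `X` as soon as those of them
stabilizing the functor value of its normalizer are. -/
theorem normalizer_tgood [Finite S] [Fact p.Prime] (hS : IsPGroup p S) (hF : F.IsSaturated p)
    (hIH : FocalIH p W F) {X U : Subgroup Ω} (hXS : X ≤ S) (hX : ⁅S, S⁆ ≤ X) (hU : F.IsFullyNormalized U)
    (hnn : ¬ F.IsNormal U)
    (hgen : ∀ P f, IsMap F P f → P ≤ normalizerIn S U → (∀ x ∈ P, f x ∈ normalizerIn S U) →
      inducedFunctor W (normalizerIn S U) ≤ P →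
      img f (inducedFunctor W (normalizerIn S U)) = inducedFunctor W (normalizerIn S U) → TGood X P f)
    {P : Subgroup Ω} {f : Ω → Ω} (hf : IsMap F P f) (hUP : U ≤ P) (hPN : P ≤ normalizerIn S U)
    (hfU : img f U = U) : TGood X P f := by
  obtain ⟨N, hN⟩ := exists_normalizerSystem F hU.1
  haveI := finite_of_le (normalizerIn_le (S := S) U)
  have hle : ∀ P f, IsMap N P f → IsMap F P f := fun P f h => (isMap_of_normalizerSystem hN h).1
  have hsm : SmallerSys F N := smallerSys_of_proper (normalizerIn_le U) hle fun heq => by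
    by_contra hall
    push_neg at hall
    refine hnn (isNormal_iff.2 ⟨hU.1, fun P f h => ?_⟩)
    exact (isMap_of_normalizerSystem hN (hall P f h)).2.2
  have hgood := hIH Ω _ N (isPGroup_of_le hS (normalizerIn_le U)) (normalizerSystem_saturated hS hF hU hN) hsm
    (X ⊓ normalizerIn S U) inf_le_right
    (le_inf ((Subgroup.commutator_mono (normalizerIn_le U) (normalizerIn_le U)).trans hX)
      (Subgroup.commutator_le.2 fun a ha b hb => by
        rw [commutatorElement_def]
        exact Subgroup.mul_mem _ (Subgroup.mul_mem _ (Subgroup.mul_mem _ ha hb) (Subgroup.inv_mem _ ha))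
          (Subgroup.inv_mem _ hb)))
    fun P g hg hWP hgW x hx =>
      ⟨hgen P g (hle P g hg) hg.le (fun y hy => hg.mem hy) hWP hgW x hx,
        Subgroup.mul_mem _ (Subgroup.inv_mem _ (hg.le hx)) (hg.mem hx)⟩
  exact fun x hx => (hgood P f (isMap_normalizerSystem hN hf hUP hfU hPN) x hx).1

end CfsgLib.Fus
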