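import Cfsg.Agent.Fus.TransferFusionBasic

/-!
Control of the focal subgroup when the system has trivial core, or a centric core.
-/

set_option autoImplicit false
set_option linter.style.haveILetI false

open Cfsg Cfsg.FusionSystem
open scoped commutatorElement

namespace CfsgLib.Fus

universe u

variable {Ω : Type u} [Group Ω] {S : Subgroup Ω} {F : FusionSystem S} {p : ℕ}
  {W : ∀ (Q : Type u) [Group Q], Subgroup Q}

/-- The case of a trivial core. -/
theorem tgood_core_bot [Finite S] [Fact p.Prime] (hS : IsPGroup p S) (hF : F.IsSaturated p)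
    (hW : IsCharPFunctor.{u} p W) (hIH : FocalIH p W F) (hcore : F.core = ⊥)
    {X : Subgroup Ω} (hXS : X ≤ S) (hX : ⁅S, S⁆ ≤ X)
    (hgen : ∀ P f, IsMap F P f → inducedFunctor W S ≤ P → img f (inducedFunctor W S) = inducedFunctor W S →
      TGood X P f)
    {P : Subgroup Ω} {f : Ω → Ω} (hf : IsMap F P f) : TGood X P f := by
  suffices key : ∀ (n : ℕ) (U : Subgroup Ω), Nat.card ↥S - Nat.card ↥(normalizerIn S U) = n →
      U ≠ ⊥ → F.IsFullyNormalized U → ∀ P f, IsMap F P f → U ≤ P → P ≤ normalizerIn S U → img f U = U →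
        TGood X P f by
    refine tgood_induction hS hF hX (fun R hR _ α hα => ?_) hf
    by_cases hR0 : R = ⊥
    · intro x hx
      have hx1 : x = 1 := Subgroup.mem_bot.1 (hR0 ▸ hx)
      rw [hx1, ((mem_autGroup hR.1).1 hα).map_one]
      simp
    exact key _ R rfl hR0 hR R _ ((mem_autGroup hR.1).1 hα) le_rfl (le_normalizerIn hR.1) (img_autFun α)
  intro n
  induction n using Nat.strong_induction_on with
  | _ n ih =>
  intro U hn hU0 hU P f hf hUP hPN hfU
  set R := normalizerIn S U with hR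
  have hRS : R ≤ S := normalizerIn_le U
  haveI := finite_of_le hRS
  have rec' : ∀ V : Subgroup Ω, V ≠ ⊥ → F.IsFullyNormalized V → Nat.card ↥R < Nat.card ↥(normalizerIn S V) →
      ∀ P f, IsMap F P f → V ≤ P → P ≤ normalizerIn S V → img f V = V → TGood X P f :=
    fun V hV0 hV hlt => ih _ (by
      have := Subgroup.card_le_of_le (normalizerIn_le (S := S) V); omega) V rfl hV0 hV
  have big : ∀ P f, IsMap F P f → Nat.card ↥R < Nat.card ↥P → TGood X P f := fun P f h hlt =>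
    tgood_large hS hF hX (Nat.card ↥R + 1) (fun Q hQn _ hQm α hα => by
      have hQR : Q ≤ normalizerIn S Q := le_normalizerIn hQn.1
      haveI := finite_of_le (normalizerIn_le (S := S) Q)
      refine rec' Q (fun h0 => ?_) hQn (lt_of_lt_of_le (Nat.lt_of_succ_le hQm) (Subgroup.card_le_of_le hQR))
        Q _ ((mem_autGroup hQn.1).1 hα) le_rfl hQR (img_autFun α)
      have : 0 < Nat.card ↥R := Nat.card_pos
      rw [h0, Subgroup.card_bot] at hQm
      omega) h hlt
  refine normalizer_tgood hS hF hIH hXS hX hU (fun hn => hU0 (eq_bot_iff.2 (hcore ▸ le_core hn))) ?_ hf hUP hPN hfU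
  intro P g hg hPR hgR hWP hgW
  rcases hRS.eq_or_lt with heq | hlt
  · exact hgen P g hg (by rw [← heq]; exact hWP) (by rw [← heq]; exact hgW)
  set W0 := inducedFunctor W R with hW0
  have hR0 : R ≠ ⊥ := fun h => hU0 (eq_bot_iff.2 (h ▸ le_normalizerIn hU.1))
  have hW00 : W0 ≠ ⊥ := ind_ne_bot hW (isPGroup_of_le hS hRS) hR0
  have hW0S : W0 ≤ S := (ind_le W R).trans hRS
  have hN1 : R ≤ normalizerIn S W0 := (le_normalizerIn hRS).trans (normalizerIn_le_functor F hW hS hRS)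
  obtain ⟨Y, hWY, hY⟩ := exists_fullyNormalized (F := F) hW0S
  obtain ⟨h, hh, hhi, hhN⟩ := exists_normalizer_map_fn hS hF hY hWY
  haveI := finite_of_le (normalizerIn_le (S := S) W0)
  haveI := finite_of_le (normalizerIn_le (S := S) Y)
  have hcard : Nat.card ↥R < Nat.card ↥(normalizerIn S W0) :=
    lt_of_lt_of_le (card_lt_of_lt (normalizerIn_le R) (lt_normalizerIn hS hlt))
      (Subgroup.card_le_of_le (normalizerIn_le_functor F hW hS hRS))
  have hhg : TGood X (normalizerIn S W0) h := big _ h hh hcard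
  have hcardY : Nat.card ↥R < Nat.card ↥(normalizerIn S Y) := by
    refine hcard.trans_le ?_
    rw [← hh.card_img]
    exact Subgroup.card_le_of_le hhN
  have hY0 : Y ≠ ⊥ := fun h0 => hW00 (Subgroup.eq_bot_of_card_eq _ (by
    rw [← card_eq_of_isConj hWY, h0, Subgroup.card_bot]))
  have hPN1 : P ≤ normalizerIn S W0 := hPR.trans hN1
  have hhP := hh.mono hPN1
  obtain ⟨l, hl, hlr, -, -⟩ := hhP.inv
  have hgP : ∀ x ∈ P, g x ∈ normalizerIn S W0 := fun x hx => hN1 (hgR x hx)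
  have hmap : IsMap F (img h P) (h ∘ (g ∘ l)) := by
    refine (hl.comp hg fun y hy => ?_).comp hh fun y hy => ?_
    · obtain ⟨x, hx, rfl⟩ := hhP.mem_img.1 hy
      rw [hlr x hx]; exact hx
    · obtain ⟨x, hx, rfl⟩ := hhP.mem_img.1 hy
      show g (l (h x)) ∈ _
      rw [hlr x hx]; exact hgP x hx
  have hYP : Y ≤ img h P := hhi ▸ img_mono hWP
  have himgY : img (h ∘ (g ∘ l)) Y = Y := by
    haveI := finite_of_le hY.1
    refine Subgroup.eq_of_le_of_card_ge (img_le_iff.2 fun y hy => ?_) (hmap.mono hYP).card_img.ge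
    rw [← hhi] at hy ⊢
    obtain ⟨x, hx, rfl⟩ := (hh.mono (hWP.trans hPN1)).mem_img.1 hy
    show h (g (l (h x))) ∈ _
    rw [hlr x (hWP hx)]
    exact mem_img_of_mem (hgW.le (mem_img_of_mem hx))
  have hgood := rec' Y hY0 hY hcardY (img h P) _ hmap hYP (le_trans (img_mono hPN1) hhN) himgY
  intro x hx
  have h1 := hgood (h x) (mem_img_of_mem hx)
  simp only [Function.comp_apply, hlr x hx] at h1
  have h2 := X.mul_mem (X.mul_mem (hhg x (hPN1 hx)) h1) (X.inv_mem (hhg (g x) (hgP x hx)))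
  simpa [mul_assoc] using h2

/-- The case of a centric normal subgroup. -/
theorem tgood_centric [Finite S] [Fact p.Prime] (hS : IsPGroup p S) (hF : F.IsSaturated p)
    (hW : IsCharPFunctor.{u} p W)
    (hgrp : ∀ (L : Type u) [Group L] [Finite L] (T : Subgroup L), Glau.Syl p T ⊤ →
      Glau.Tra (inducedFunctor W) T ⊤)
    {Q : Subgroup Ω} (hQ : F.IsNormal Q) (hQc : F.IsCentric Q)
    {X : Subgroup Ω} (hXS : X ≤ S)
    (hgen : ∀ P f, IsMap F P f → inducedFunctor W S ≤ P → img f (inducedFunctor W S) = inducedFunctor W S →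
      TGood X P f)
    {P : Subgroup Ω} {f : Ω → Ω} (hf : IsMap F P f) : TGood X P f := by
  have hQn : S ≤ Subgroup.normalizer (Q : Set Ω) := stronglyClosed_normal (isNormal_stronglyClosed hQ)
  have hRS : normalizerIn S Q = S := le_antisymm inf_le_left (le_inf le_rfl hQn)
  have hQfn : F.IsFullyNormalized Q := ⟨hQ.1, fun R hR => by
    rw [hRS]; exact Subgroup.card_le_of_le (normalizerIn_le R)⟩
  let R := normalizerIn S Q
  obtain ⟨L, _, _, ι, -, hmodel, -⟩ := exists_model_aut hS hF hQfn hQc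
  obtain ⟨N, hN⟩ := exists_normalizerSystem F hQ.1
  obtain ⟨-, hreal, ⟨T', hT'⟩, -⟩ := hmodel N hN
  haveI : Finite ↥R := finite_of_le (normalizerIn_le Q)
  have hT : Glau.Syl p ι.range ⊤ := hT' ▸ Glau.syl_top T'
  set WS := inducedFunctor W S with hWS
  -- the functor at the image
  let e : ↥R ≃* ↥ι.range := MonoidHom.ofInjective hreal.1
  have hWR : inducedFunctor W R = WS := congrArg (inducedFunctor W) hRS
  have hWT : inducedFunctor W ι.range = (W ↥R).map ι := by
    show (W ↥ι.range).map _ = _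
    rw [← hW.2 ↥R _ (isPGroup_of_le hS (normalizerIn_le Q)) e, Subgroup.map_map]
    rfl
  -- the group statement
  obtain ⟨g, hg, hge, hgQ⟩ := (isNormal_iff.1 hQ).2 P f hf
  have hgN : IsMap N (P ⊔ Q) g :=
    isMap_normalizerSystem hN hg le_sup_right hgQ (by rw [hRS]; exact hg.le)
  obtain ⟨φ, hφ, hφg⟩ := hgN
  have hφR : ∀ x : ↥(P ⊔ Q : Subgroup Ω), φ x ∈ R := fun x => (N.le_of_mem hφ).2 x
  obtain ⟨l, hl⟩ := (hreal.2 _ (N.le_of_mem hφ).1 φ hφR).1 hφ
  intro x hx
  set a : ↥R := ⟨x, (N.le_of_mem hφ).1 (le_sup_left (b := Q) hx)⟩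
  set b : ↥R := ⟨φ ⟨x, le_sup_left (b := Q) hx⟩, hφR _⟩
  have hb : (b : Ω) = f x := (hφg _).trans (hge x hx)
  have hcomm : ι (a⁻¹ * b) ∈ ι.range ⊓ ⁅(⊤ : Subgroup L), ⊤⁆ := by
    refine ⟨⟨_, rfl⟩, ?_⟩
    have h1 : ι b = l * ι a * l⁻¹ := hl ⟨x, le_sup_left (b := Q) hx⟩
    rw [map_mul, map_inv, h1, show (ι a)⁻¹ * (l * ι a * l⁻¹) = ⁅(ι a)⁻¹, l⁆ by rw [commutatorElement_def]; group]
    exact Subgroup.commutator_mem_commutator trivial trivial
  set M := (⊤ : Subgroup L) ⊓ Subgroup.normalizer (inducedFunctor W ι.range : Set L) with hM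
  have hTM : ι.range ≤ M := le_inf le_top
    (Subgroup.le_normalizer.trans (Glau.functor_normalizer (KInf.inducedFunctor_conjugacy hW) hT.pg))
  have hfocal : ι.range ⊓ ⁅M, M⁆ ≤ (X.subgroupOf R).map ι := by
    refine Glau.focal_le (hT.mono hTM le_top) ?_
    rintro _ ⟨c, rfl⟩ y hy hyc
    obtain ⟨d, hd⟩ := hyc
    let Mc : Subgroup Ω := Subgroup.zpowers (c : Ω) ⊔ WS
    have hMcR : Mc ≤ R := sup_le (Subgroup.zpowers_le.2 c.2)
      ((ind_le W S).trans hRS.ge)
    have hWcase : ∀ w ∈ W ↥R, ∃ w' ∈ W ↥R, y * ι w * y⁻¹ = ι w' := fun w hw => by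
      have h1 := (Subgroup.mem_normalizer_iff.1 hy.2 (ι w)).1 (hWT ▸ ⟨w, hw, rfl⟩)
      rw [hWT] at h1
      obtain ⟨w', hw', he⟩ := h1
      exact ⟨w', hw', he.symm⟩
    have hmem : ∀ r : ↥R, (r : Ω) ∈ Mc → y * ι r * y⁻¹ ∈ ι.range := by
      let K : Subgroup ↥R := (ι.range).comap ((MulAut.conj y).toMonoidHom.comp ι)
      have hK : Mc ≤ K.map R.subtype := sup_le (Subgroup.zpowers_le.2 ⟨c, ⟨d, hd⟩, rfl⟩) (by
        rw [← hWR]
        rintro _ ⟨w, hw, rfl⟩
        obtain ⟨w', -, he⟩ := hWcase w hw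
        exact ⟨w, ⟨w', he.symm⟩, rfl⟩)
      intro r hr
      obtain ⟨k, hk, hkr⟩ := hK hr
      obtain rfl : k = r := Subtype.ext hkr
      exact hk
    obtain ⟨h, hh, hhe⟩ := exists_model_map hN hreal (l := y) hMcR hmem
    have hWM : WS ≤ Mc := le_sup_right
    have hhW : img h WS = WS := by
      haveI := finite_of_le ((ind_le W S))
      refine Subgroup.eq_of_le_of_card_ge (img_le_iff.2 ?_) (hh.mono hWM).card_img.ge
      rw [← hWR]
      rintro _ ⟨w, hw, rfl⟩
      obtain ⟨w', hw', he⟩ := hWcase w hw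
      exact ⟨w', hw', (hhe w (hWM (hWR ▸ ⟨w, hw, rfl⟩)) w' he).symm⟩
    have h1 := hgen Mc h hh hWM hhW c (Subgroup.mem_sup_left (Subgroup.mem_zpowers _))
    rw [hhe c (Subgroup.mem_sup_left (Subgroup.mem_zpowers _)) d hd.symm] at h1
    exact ⟨c⁻¹ * d, h1, by rw [map_mul, map_inv, hd]⟩
  obtain ⟨z, hz, he⟩ := hfocal ⟨hcomm.1, hgrp L _ hT hcomm⟩
  obtain rfl := hreal.1 he
  simpa [hb] using (Subgroup.mem_subgroupOf.1 hz)

end CfsgLib.Fus
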