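import Cfsg.Agent.Fus.ChainBound
import Mathlib.GroupTheory.SpecificGroups.Cyclic

/-!
Transfer control by the K-infinity subgroups for `p ≥ 5`, and the normal subgroup of index `p`.
-/

set_option autoImplicit false
set_option linter.style.haveILetI false

open Cfsg
open scoped commutatorElement

namespace CfsgLib.Glau

universe u

theorem kInf_hit {Γ : Type u} [Group Γ] [Finite Γ] {p : ℕ} [hp : Fact p.Prime] (h5 : 5 ≤ p) (S : Sylow p Γ)
    {N : Subgroup Γ} (hSN : (S : Subgroup Γ) ≤ N)
    (hprop : ∀ K : Subgroup Γ, (S : Subgroup Γ) ≤ K → K ≠ ⊤ → (S : Subgroup Γ) ⊓ ⁅K, K⁆ ≤ ⁅N, N⁆)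
    (hK : ¬ (inducedFunctor kInfLower (S : Subgroup Γ)).Normal ∨
      ¬ (inducedFunctor kInfUpper (S : Subgroup Γ)).Normal) :
    pCore p Γ ⊓ commutator Γ ≤ ⁅N, N⁆ := by
  haveI := CfsgLib.Solv.pCore_normal Γ p
  obtain ⟨g, hgS, hgP, hit⟩ := kInf_quartic S hK
  refine inf_commutator_le_of_hit (syl_top S) (CfsgLib.Solv.pCore_le_sylow S) hSN hprop hgS
    (fun Q hQ hQp hgQ => hgP (CfsgLib.Solv.le_pCore (hN := hQ) hQp hgQ)) fun U W hUW hU => ?_
  haveI := hUW.2.2.1
  have hle : ∀ n, 4 ≤ n → iterCommutator U (Subgroup.zpowers g) n ≤ W := by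
    intro n hn
    induction hn with
    | refl => exact hit U W hUW hU
    | step _ ih => exact (Subgroup.commutator_mono ih le_rfl).trans (Subgroup.commutator_le_left W _)
  exact hle (p - 1) (by omega)

theorem kInf_transfer {G : Type u} [Group G] [Finite G] {p : ℕ} [hp : Fact p.Prime] (h5 : 5 ≤ p) :
    (∀ (Γ : Type u) [Group Γ] [Finite Γ], IsSec G Γ → ∀ (H S : Subgroup Γ), Syl p S H →
      Tra (inducedFunctor kInfLower) S H) ∧
    (∀ (Γ : Type u) [Group Γ] [Finite Γ], IsSec G Γ → ∀ (H S : Subgroup Γ), Syl p S H →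
      Tra (inducedFunctor kInfUpper) S H) := by
  constructor
  · refine transfer_of_core _ (KInf.isCharPFunctor_lower p) fun Γ _ _ _ _ S hn hind => ?_
    exact kInf_hit h5 S (le_inf le_top (Subgroup.le_normalizer.trans (functor_normalizer
      (KInf.inducedFunctor_conjugacy (KInf.isCharPFunctor_lower p)) S.isPGroup')))
      (fun K hK hK' => (hind K hK hK').trans (Subgroup.commutator_mono (inf_le_inf_right _ le_top)
        (inf_le_inf_right _ le_top))) (Or.inl hn)
  · refine transfer_of_core _ (KInf.isCharPFunctor_upper p) fun Γ _ _ _ _ S hn hind => ?_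
    exact kInf_hit h5 S (le_inf le_top (Subgroup.le_normalizer.trans (functor_normalizer
      (KInf.inducedFunctor_conjugacy (KInf.isCharPFunctor_upper p)) S.isPGroup')))
      (fun K hK hK' => (hind K hK hK').trans (Subgroup.commutator_mono (inf_le_inf_right _ le_top)
        (inf_le_inf_right _ le_top))) (Or.inr hn)

/-- The derived-group form of the transfer statement. -/
theorem tra_eq {G : Type u} [Group G] [Finite G] {W : Subgroup G → Subgroup G} {S : Subgroup G}
    (h : Tra W S ⊤) :
    S ⊓ commutator G = S ⊓ ⁅Subgroup.normalizer (W S : Set G), Subgroup.normalizer (W S : Set G)⁆ := by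
  refine le_antisymm (le_inf inf_le_left ?_) (inf_le_inf_left _ (Subgroup.commutator_mono le_top le_top))
  unfold Tra at h
  rwa [top_inf_eq] at h

/-- If `p'`-elements of the normalizer of a Sylow subgroup centralize it, the Sylow subgroup is not in the derived group. -/
theorem not_le_commutator {G : Type u} [Group G] [Finite G] {p : ℕ} [hp : Fact p.Prime]
    (W : ∀ (Q : Type u) [Group Q], Subgroup Q) (hW : IsCharPFunctor.{u} p W)
    (htra : ∀ (Γ : Type u) [Group Γ] [Finite Γ], IsSec G Γ → ∀ (H S : Subgroup Γ), Syl p S H →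
      Tra (inducedFunctor W) S H) :
    ∀ (Γ : Type u) [Group Γ] [Finite Γ], IsSec G Γ → ∀ S : Subgroup Γ, Syl p S ⊤ → S ≠ ⊥ →
      (∀ g ∈ Subgroup.normalizer (S : Set Γ), (orderOf g).Coprime p → g ∈ Subgroup.centralizer (S : Set Γ)) →
      ¬ S ≤ commutator Γ := by
  suffices key : ∀ (n : ℕ) (Γ : Type u) [Group Γ] [Finite Γ], Nat.card Γ = n → IsSec G Γ → ∀ S : Subgroup Γ,
      Syl p S ⊤ → S ≠ ⊥ →
      (∀ g ∈ Subgroup.normalizer (S : Set Γ), (orderOf g).Coprime p → g ∈ Subgroup.centralizer (S : Set Γ)) →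
      ¬ S ≤ commutator Γ from fun Γ _ _ hsec => key _ Γ rfl hsec
  intro n
  induction n using Nat.strong_induction_on with
  | _ n ih =>
  intro Γ _ _ hn hsec S hS hS0 hN hle
  subst hn
  have hWc := KInf.inducedFunctor_conjugacy (G := Γ) hW
  set X := inducedFunctor W S with hX
  have hXS : X ≤ S := (hWc S hS.pg).1
  set N := Subgroup.normalizer (X : Set Γ) with hNdef
  have hSN : S ≤ N := Subgroup.le_normalizer.trans (functor_normalizer hWc hS.pg)
  have hSN' : S ≤ ⁅N, N⁆ := fun s hs => by
    have h1 := htra Γ hsec ⊤ S hS ⟨hs, hle hs⟩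
    rwa [← hX, top_inf_eq] at h1
  by_cases hNtop : N = ⊤
  swap
  · -- a proper normalizer
    refine ih _ (lt_of_le_of_ne (Nat.card_le_card_of_injective _ N.subtype_injective) fun he =>
      hNtop (Subgroup.eq_top_of_card_eq _ he)) ↥N rfl (hsec.subgroup N) (S.subgroupOf N)
      (hS.mono hSN le_top).subgroupOf (fun h0 => hS0 ?_) (fun g hg hco => ?_) fun s hs => ?_
    · rw [← Subgroup.map_subgroupOf_eq_of_le hSN, h0, Subgroup.map_bot]
    · have h1 : (g : Γ) ∈ Subgroup.normalizer (S : Set Γ) := by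
        have h2 := Subgroup.le_normalizer_map N.subtype ⟨g, hg, rfl⟩
        rwa [Subgroup.map_subgroupOf_eq_of_le hSN] at h2
      have h3 := hN _ h1 (by rwa [Subgroup.orderOf_coe])
      exact fun y hy => Subtype.ext (h3 _ hy)
    · have h1 := hSN' hs
      rw [← Subgroup.map_subtype_commutator] at h1
      obtain ⟨w, hw, e⟩ := h1
      rwa [show s = w from Subtype.ext e.symm]
  haveI hXn : X.Normal := Subgroup.normalizer_eq_top_iff.1 hNtop
  have hX0 : X ≠ ⊥ := (hWc S hS.pg).2.1 hS0
  let π := QuotientGroup.mk' X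
  have hπ : Function.Surjective π := QuotientGroup.mk'_surjective X
  by_cases hSX : S = X
  · -- `S` is normal
    haveI : S.Normal := by rw [hSX]; exact hXn
    set a := Nat.card Γ / p ^ (Nat.card Γ).factorization p
    set e := (Nat.card Γ).factorization p
    have hmul : p ^ e * a = Nat.card Γ := Nat.ordProj_mul_ordCompl_eq_self _ p
    have ha : ¬ p ∣ a := Nat.not_dvd_ordCompl hp.out Nat.card_pos.ne'
    haveI hDn : (⁅S, S⁆).Normal := Subgroup.commutator_normal S S
    let ρ := QuotientGroup.mk' ⁅S, S⁆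
    have hcen : ∀ h : Γ, ∀ s ∈ S, ρ h * ρ s = ρ s * ρ h := by
      intro h s hs
      have h1 : Commute (ρ s) (ρ (h ^ p ^ e)) := by
        refine (commutatorElement_eq_one_iff_commute.1 ?_)
        rw [← map_commutatorElement]
        have hco : (orderOf (h ^ p ^ e)).Coprime p := by
          refine Nat.Coprime.coprime_dvd_left (orderOf_dvd_of_pow_eq_one ?_)
            (hp.out.coprime_iff_not_dvd.2 ha).symm
          rw [← pow_mul, hmul, pow_card_eq_one']
        have hc := hN _ (by rw [Subgroup.normalizer_eq_top_iff.2 inferInstance]; trivial) hco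
        rw [commutatorElement_eq_one_iff_commute.2 (hc s hs), map_one]
      have h2 : Commute (ρ s) (ρ (h ^ a)) := by
        have hmem : h ^ a ∈ S := by
          obtain ⟨x, hx, hle'⟩ := hS.exists_conj_le (Q := Subgroup.zpowers (h ^ a)) le_top fun y => ⟨e, by
            obtain ⟨_, i, rfl⟩ := y
            refine Subtype.ext ?_
            show ((h ^ a) ^ i) ^ p ^ e = 1
            rw [← zpow_natCast ((h ^ a) ^ i), ← zpow_mul, mul_comm, zpow_mul, zpow_natCast, ← pow_mul, mul_comm a,
              hmul, pow_card_eq_one', one_zpow]⟩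
          have h3 := hle' (conj_mem_cj (Subgroup.mem_zpowers (h ^ a)))
          have h4 := (inferInstance : S.Normal).conj_mem _ h3 x⁻¹
          simpa [mul_assoc] using h4
        refine (commutatorElement_eq_one_iff_commute.1 ?_)
        rw [← map_commutatorElement]
        exact (QuotientGroup.eq_one_iff _).2 (Subgroup.commutator_mem_commutator hs hmem)
      have hbez := Nat.gcd_eq_gcd_ab a (p ^ e)
      rw [(Nat.Coprime.pow_right e (hp.out.coprime_iff_not_dvd.2 ha).symm).gcd_eq_one] at hbez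
      have hdec : h = (h ^ a) ^ Nat.gcdA a (p ^ e) * (h ^ p ^ e) ^ Nat.gcdB a (p ^ e) := by
        rw [← zpow_natCast h a, ← zpow_natCast h (p ^ e), ← zpow_mul, ← zpow_mul, ← zpow_add, ← hbez, Nat.cast_one,
          zpow_one]
      rw [hdec, map_mul, map_zpow, map_zpow]
      exact ((h2.zpow_right _).mul_right (h1.zpow_right _)).symm
    have hSb := hS.map ρ
    rw [Subgroup.map_top_of_surjective ρ (QuotientGroup.mk'_surjective _)] at hSb
    have hSS : S ≤ ⁅S, S⁆ := by
      intro s hs
      have h1 : ρ s ∈ ⁅S.map ρ, S.map ρ⁆ := by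
        refine central_commutator hSb ⟨s, hs, rfl⟩ (Subgroup.mem_center_iff.2 fun y => ?_) ?_
        · obtain ⟨y, rfl⟩ := QuotientGroup.mk'_surjective _ y
          exact hcen y s hs
        · exact (Subgroup.map_commutator ⊤ ⊤ ρ).trans_le (Subgroup.commutator_mono le_top le_top) ⟨s, hle hs, rfl⟩
      rw [← Subgroup.map_commutator] at h1
      obtain ⟨d, hd, hds⟩ := h1
      have h2 := mul_mem hd (QuotientGroup.eq.1 hds)
      rwa [mul_inv_cancel_left] at h2
    haveI : Group.IsNilpotent ↥S := hS.pg.isNilpotent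
    haveI : Nontrivial ↥S := (Subgroup.nontrivial_iff_ne_bot S).2 hS0
    refine (Group.IsSolvable.commutator_lt_top_of_nontrivial ↥S).ne ?_
    rw [eq_top_iff]
    intro s _
    have h1 : (s : Γ) ∈ (commutator ↥S).map S.subtype := by rw [Subgroup.map_subtype_commutator]; exact hSS s.2
    obtain ⟨w, hw, e⟩ := h1
    rwa [show s = w from Subtype.ext e.symm]
  -- pass to the quotient
  have hlt : Nat.card (Γ ⧸ X) < Nat.card Γ := by
    rw [← X.index_eq_card, ← X.card_mul_index]
    exact lt_mul_left X.index_ne_zero_of_finite.bot_lt ((Subgroup.one_lt_card_iff_ne_bot X).2 hX0)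
  have hSb := hS.map π
  rw [Subgroup.map_top_of_surjective π hπ] at hSb
  refine ih _ hlt (Γ ⧸ X) rfl (hsec.of_surjective hπ) _ hSb (fun h0 => hSX ?_) (fun g hg hco => ?_) ?_
  · rw [Subgroup.map_eq_bot_iff, QuotientGroup.ker_mk'] at h0
    exact le_antisymm h0 hXS
  · obtain ⟨x, rfl⟩ := hπ g
    have hcomap : (S.map π).comap π = S := by
      rw [Subgroup.comap_map_eq, QuotientGroup.ker_mk', sup_eq_left.2 hXS]
    set a := Nat.card Γ / p ^ (Nat.card Γ).factorization p
    set e := (Nat.card Γ).factorization p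
    have hmul : p ^ e * a = Nat.card Γ := Nat.ordProj_mul_ordCompl_eq_self _ p
    have ha : ¬ p ∣ a := Nat.not_dvd_ordCompl hp.out Nat.card_pos.ne'
    obtain ⟨b, hb⟩ := exists_pow_eq_self_of_coprime (n := p ^ e) (x := π x) (Nat.Coprime.pow_left e hco.symm)
    have hxN : (x ^ p ^ e) ^ b ∈ Subgroup.normalizer (S : Set Γ) := by
      refine Subgroup.pow_mem _ (Subgroup.pow_mem _ ?_ _) _
      rw [← hcomap]
      exact Subgroup.le_normalizer_comap π hg
    have hord : (orderOf ((x ^ p ^ e) ^ b)).Coprime p := by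
      refine Nat.Coprime.coprime_dvd_left (orderOf_dvd_of_pow_eq_one ?_) (hp.out.coprime_iff_not_dvd.2 ha).symm
      rw [← pow_mul, mul_comm b a, pow_mul, ← pow_mul x, hmul, pow_card_eq_one', one_pow]
    have h1 := hN _ hxN hord
    rintro _ ⟨s, hs, rfl⟩
    rw [← hb, ← map_pow, ← map_pow, ← map_mul, ← map_mul, h1 s hs]
  · rintro _ ⟨s, hs, rfl⟩
    exact Subgroup.map_mono (f := π) hle ⟨s, hs, rfl⟩ |> fun h =>
      (Subgroup.map_commutator ⊤ ⊤ π).trans_le (Subgroup.commutator_mono le_top le_top) h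

/-- A normal subgroup of index `p`. -/
theorem exists_normal_index {G : Type u} [Group G] [Finite G] {p : ℕ} [hp : Fact p.Prime] {S : Subgroup G}
    (hS : IsPGroup p S) (h : ¬ S ≤ commutator G) : ∃ N : Subgroup G, N.Normal ∧ N.index = p := by
  obtain ⟨s, hs, hsG⟩ := Set.not_subset.1 h
  obtain ⟨k, hk⟩ := hS ⟨s, hs⟩
  let A := Abelianization G
  have hne : (Abelianization.of s : A) ≠ 1 := fun h1 => hsG ((QuotientGroup.eq_one_iff s).1 h1)
  have hp1 : p ∣ Nat.card A := by
    have hdvd : orderOf (Abelianization.of s : A) ∣ p ^ k := orderOf_dvd_of_pow_eq_one (by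
      rw [← map_pow, show s ^ p ^ k = 1 from congrArg Subtype.val hk, map_one])
    obtain ⟨m, -, hm⟩ := (Nat.dvd_prime_pow hp.out).1 hdvd
    refine dvd_trans ?_ (orderOf_dvd_natCard (Abelianization.of s : A))
    rw [hm]
    refine dvd_pow_self p fun h0 => hne (orderOf_eq_one_iff.1 ?_)
    rw [hm, h0, pow_zero]
  -- the `p`-power map is not surjective
  let f : A →* A := powMonoidHom p
  have hf : f.range ≠ ⊤ := by
    intro htop
    have hinj := Finite.injective_iff_surjective.2 (MonoidHom.range_eq_top.1 htop)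
    obtain ⟨x, hx⟩ := exists_prime_orderOf_dvd_card' p hp1
    have h1 : f x = f 1 := by
      show x ^ p = (1 : A) ^ p
      rw [one_pow, ← hx, pow_orderOf_eq_one]
    rw [hinj h1, orderOf_one] at hx
    exact hp.out.ne_one hx.symm
  obtain ⟨M, hM, hfM⟩ := (eq_top_or_exists_le_coatom f.range).resolve_left hf
  have hexp : ∀ y : A ⧸ M, y ^ p = 1 := fun y => by
    obtain ⟨y, rfl⟩ := QuotientGroup.mk_surjective y
    rw [← QuotientGroup.mk_pow]
    exact (QuotientGroup.eq_one_iff _).2 (hfM ⟨y, rfl⟩)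
  have hMi : M.index = p := by
    have hQ : IsPGroup p (A ⧸ M) := fun y => ⟨1, by rw [pow_one]; exact hexp y⟩
    obtain ⟨y, hy⟩ := SetLike.exists_not_mem_of_ne_top M hM.1
    have htop : Subgroup.zpowers (QuotientGroup.mk' M y) = ⊤ := by
      have h1 : (Subgroup.zpowers (QuotientGroup.mk' M y)).comap (QuotientGroup.mk' M) = ⊤ := hM.2 _ (by
        refine lt_of_le_of_ne (fun m hm => ?_) fun he => hy (he ▸ Subgroup.mem_zpowers _)
        show QuotientGroup.mk' M m ∈ Subgroup.zpowers (QuotientGroup.mk' M y)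
        rw [show QuotientGroup.mk' M m = 1 from (QuotientGroup.eq_one_iff m).2 hm]
        exact one_mem _)
      rw [← Subgroup.map_comap_eq_self_of_surjective (QuotientGroup.mk'_surjective M)
        (Subgroup.zpowers (QuotientGroup.mk' M y)), h1,
        Subgroup.map_top_of_surjective _ (QuotientGroup.mk'_surjective M)]
    rw [Subgroup.index_eq_card, ← Subgroup.card_top, ← htop, Nat.card_zpowers]
    refine orderOf_eq_prime (hexp _) fun h1 => hy ((QuotientGroup.eq_one_iff y).1 h1)
  refine ⟨M.comap Abelianization.of, Subgroup.Normal.comap inferInstance _, ?_⟩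
  exact (Subgroup.index_comap_of_surjective M QuotientGroup.mk_surjective).trans hMi

end CfsgLib.Glau
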