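import Cfsg.Agent.Fus.TransferFamily
import Cfsg.Agent.Fus.FusionK
import Cfsg.Agent.Fus.CoreBasic

/-!
Family control of transfer from constrained sections, and the structure of a group in which only the whole group fails.
-/

set_option autoImplicit false
set_option linter.style.haveILetI false

open Cfsg
open scoped commutatorElement

namespace CfsgLib.Glau

universe u

variable {p : ℕ} [hp : Fact p.Prime]

theorem family_transfer_main {G : Type u} [Group G] [Finite G] (𝓦 : Set (∀ (Q : Type u) [Group Q], Subgroup Q))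
    (h𝓦 : ∀ W ∈ 𝓦, IsCharPFunctor.{u} p W)
    (hloc : ∀ (K R : Subgroup G) [(R.subgroupOf K).Normal],
      Subgroup.centralizer ((pCore p (↥K ⧸ R.subgroupOf K) : Subgroup (↥K ⧸ R.subgroupOf K)) : Set (↥K ⧸ R.subgroupOf K)) ≤
        pCore p (↥K ⧸ R.subgroupOf K) →
      FamilyControlsTransferIn p ((fun W => inducedFunctor (G := (↥K ⧸ R.subgroupOf K)) W) '' 𝓦) ⊤) :
    FamilyControlsTransferIn p ((fun W => inducedFunctor (G := G) W) '' 𝓦) ⊤ := by
  classical
  have hcore : ∀ (Γ : Type u) [Group Γ] [Finite Γ], IsSec G Γ →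
      Subgroup.centralizer (pCore p Γ : Set Γ) ≤ pCore p Γ → ∀ S : Subgroup Γ, Syl p S ⊤ → TraF 𝓦 S ⊤ := by
    intro Γ _ _ hsec hC S hS
    obtain ⟨K, R, hR, ⟨e⟩⟩ := hsec.exists_equiv
    haveI := hR
    exact traF_of_equiv h𝓦 e (hloc K R (constrained_equiv e hC)) hS
  obtain ⟨S, -, hS⟩ := exists_syl (G := G) (p := p) ⊤ bot_le IsPGroup.of_bot
  refine def_of_traF hS ?_
  by_cases hne : 𝓦.Nonempty
  · exact family_transfer_of_core h𝓦 hne hcore G (isSec_self G) ⊤ S hS
  -- the empty family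
  let W₀ : ∀ (Q : Type u) [Group Q], Subgroup Q := fun Q _ => ⊤
  have hW₀ : IsCharPFunctor.{u} p W₀ := ⟨fun Q _ _ _ hn => by
    show (⊤ : Subgroup Q) ≠ ⊥
    haveI := Subgroup.nontrivial_iff.2 hn
    exact top_ne_bot,
    fun Q R _ _ _ _ φ => Subgroup.map_top_of_surjective φ.toMonoidHom φ.surjective⟩
  have h0 : ∀ (Γ : Type u) [Group Γ] [Finite Γ] (T : Subgroup Γ),
      (⨆ W ∈ 𝓦, T ⊓ ⁅(⊤ : Subgroup Γ) ⊓ Subgroup.normalizer (inducedFunctor (G := Γ) W T : Set Γ),
        ⊤ ⊓ Subgroup.normalizer (inducedFunctor (G := Γ) W T : Set Γ)⁆) = ⊥ := fun Γ _ _ T =>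
    eq_bot_iff.2 (iSup₂_le fun W hW => absurd ⟨W, hW⟩ hne)
  have hbot : ∀ (Γ : Type u) [Group Γ] [Finite Γ], IsSec G Γ →
      Subgroup.centralizer (pCore p Γ : Set Γ) ≤ pCore p Γ → ∀ T : Subgroup Γ, Syl p T ⊤ →
        T ⊓ ⁅(⊤ : Subgroup Γ), ⊤⁆ = ⊥ := fun Γ _ _ hsec hC T hT =>
    eq_bot_iff.2 ((hcore Γ hsec hC T hT).trans (h0 Γ T).le)
  have h := family_transfer_of_core (𝓦 := {W₀}) (fun W hW => by rw [hW]; exact hW₀) ⟨W₀, rfl⟩
    (fun Γ _ _ hsec hC T hT => le_trans (hbot Γ hsec hC T hT).le bot_le) G (isSec_self G) ⊤ S hS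
  refine le_trans ?_ bot_le (α := Subgroup G)
  refine h.trans (iSup₂_le fun W hW => ?_)
  rw [hW]
  set X := inducedFunctor (G := G) W₀ S with hX
  have hXS : X = S := by
    show (⊤ : Subgroup ↥S).map S.subtype = S
    rw [← MonoidHom.range_eq_map, S.range_subtype]
  rw [hXS, top_inf_eq]
  -- `S ∩ N(S)' = 1`
  set N := Subgroup.normalizer (S : Set G) with hN
  intro z hz
  let K := pPrimeCore p ↥N
  haveI : K.Normal := CfsgLib.Solv.pPrimeCore_normal ↥N p
  have hKc : ¬ p ∣ Nat.card K := CfsgLib.Solv.not_dvd_card_pPrimeCore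
  let π := QuotientGroup.mk' K
  have hsecN : IsSec G (↥N ⧸ K) := ((isSec_self G).subgroup N).of_surjective (QuotientGroup.mk'_surjective K)
  have hSN : Syl p (S.subgroupOf N) ⊤ := (hS.mono Subgroup.le_normalizer le_top).subgroupOf
  haveI hSn : (S.subgroupOf N).Normal := Subgroup.normal_in_normalizer
  have hTb := hSN.map π
  rw [Subgroup.map_top_of_surjective π (QuotientGroup.mk'_surjective K)] at hTb
  haveI hTn : ((S.subgroupOf N).map π).Normal := hSn.map π (QuotientGroup.mk'_surjective K)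
  have hK1 : pPrimeCore p (↥N ⧸ K) = ⊥ := CfsgLib.Fus.pPrimeCore_quotient_eq_bot p
  have hC : Subgroup.centralizer (pCore p (↥N ⧸ K) : Set (↥N ⧸ K)) ≤ pCore p (↥N ⧸ K) := by
    haveI := CfsgLib.Solv.pCore_normal (↥N ⧸ K) p
    have hTP : (S.subgroupOf N).map π ≤ pCore p (↥N ⧸ K) := CfsgLib.Solv.le_pCore hTb.pg
    haveI : (Subgroup.centralizer (pCore p (↥N ⧸ K) : Set (↥N ⧸ K))).Normal := by infer_instance
    exact le_of_central_sylow hK1 hTb (fun r hr c hc => hc r (hTP hr.1)) (inf_le_left.trans hTP)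
  have hzN : z ∈ N := Subgroup.le_normalizer hz.1
  have hz1 : π ⟨z, hzN⟩ ∈ (S.subgroupOf N).map π ⊓ ⁅(⊤ : Subgroup (↥N ⧸ K)), ⊤⁆ := by
    refine ⟨⟨⟨z, hzN⟩, hz.1, rfl⟩, ?_⟩
    rw [← Subgroup.map_top_of_surjective π (QuotientGroup.mk'_surjective K), ← Subgroup.map_commutator]
    refine ⟨⟨z, hzN⟩, ?_, rfl⟩
    have h2 : z ∈ (commutator ↥N).map N.subtype := by rw [Subgroup.map_subtype_commutator]; exact hz.2
    obtain ⟨w, hw, e⟩ := h2
    rwa [show (⟨z, hzN⟩ : ↥N) = w from Subtype.ext e.symm]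
  rw [hbot _ hsecN hC _ hTb, Subgroup.mem_bot] at hz1
  have hzK : (⟨z, hzN⟩ : ↥N) ∈ (S.subgroupOf N) ⊓ K := ⟨hz.1, (QuotientGroup.eq_one_iff _).1 hz1⟩
  rw [inf_eq_bot_of_card hSN.pg hKc, Subgroup.mem_bot] at hzK
  exact Subgroup.mem_bot.2 (congrArg Subtype.val hzK)

set_option maxHeartbeats 1000000 in
/-- The group in which only the whole group fails transfer control. -/
theorem transfer_minimal {G : Type u} [Group G] [Finite G] (S : Sylow p G)
    (𝓦 : Set (∀ (Q : Type u) [Group Q], Subgroup Q)) (h𝓦 : ∀ W ∈ 𝓦, IsCharPFunctor.{u} p W) (hne : 𝓦.Nonempty)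
    (hsec : ∀ (K R : Subgroup G) [(R.subgroupOf K).Normal], (K = ⊤ → R ≠ ⊥) →
      FamilyControlsTransferIn p ((fun W => inducedFunctor (G := (↥K ⧸ R.subgroupOf K)) W) '' 𝓦) ⊤)
    (hG : ¬ FamilyControlsTransferIn p ((fun W => inducedFunctor (G := G) W) '' 𝓦) ⊤)
    (T M : Subgroup G)
    (hT : T = (⨆ W ∈ 𝓦, (S : Subgroup G) ⊓
      ⁅Subgroup.normalizer ((inducedFunctor (G := G) W (S : Subgroup G) : Subgroup G) : Set G),
        Subgroup.normalizer ((inducedFunctor (G := G) W (S : Subgroup G) : Subgroup G) : Set G)⁆))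
    (hM : M = Subgroup.normalizer ((T ⊓ pCore p G : Subgroup G) : Set G)) :
    Subgroup.centralizer ((pCore p G : Subgroup G) : Set G) ≤ pCore p G ∧
      (M ≠ ⊤ ∧ ∀ H : Subgroup G, (S : Subgroup G) ≤ H → H ≠ ⊤ → H ≤ M) ∧
      (⁅pCore p G, M⁆ ≤ pCore p G ⊓ ⁅M, M⁆ ∧ pCore p G ⊓ ⁅M, M⁆ ≤ pCore p G ⊓ T) ∧
      ∀ u : G, u ∈ (S : Subgroup G) → u ∉ pCore p G → ∃ U V : Subgroup G, IsChiefFactor U V ∧
        U ≤ pCore p G ∧ ¬ iterCommutator U (Subgroup.zpowers u) (p - 1) ≤ V := by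
  classical
  have hS := syl_top S
  have hfail : ¬ TraF 𝓦 (S : Subgroup G) ⊤ := fun h => hG (def_of_traF hS h)
  -- proper sections
  have hprop' : ∀ (Γ : Type u) [Group Γ] [Finite Γ] (K : Subgroup G) (f : ↥K →* Γ), Function.Surjective f →
      (K = ⊤ → f.ker ≠ ⊥) → ∀ T : Subgroup Γ, Syl p T ⊤ → TraF 𝓦 T ⊤ := by
    intro Γ _ _ K f hf hK T hT
    have he : (f.ker.map K.subtype).subgroupOf K = f.ker :=
      Subgroup.comap_map_eq_self_of_injective K.subtype_injective _
    haveI hn : ((f.ker.map K.subtype).subgroupOf K).Normal := he.symm ▸ f.normal_ker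
    exact traF_of_equiv h𝓦 ((QuotientGroup.quotientMulEquivOfEq he).trans
      (QuotientGroup.quotientKerEquivOfSurjective f hf))
      (hsec K (f.ker.map K.subtype) (fun h h' => hK h
        ((Subgroup.map_eq_bot_iff_of_injective _ K.subtype_injective).1 h'))) hT
  have hsub : ∀ K : Subgroup G, K ≠ ⊤ → ∀ T : Subgroup G, Syl p T K → TraF 𝓦 T K := fun K hK T hT =>
    TraF.of_subtype h𝓦 hT (hprop' ↥K K (MonoidHom.id _) Function.surjective_id (fun h => absurd h hK) _ hT.subgroupOf)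
  have hquot : ∀ (N : Subgroup G) [N.Normal], N ≠ ⊥ → ∀ H T : Subgroup (G ⧸ N), Syl p T H → TraF 𝓦 T H := by
    intro N _ hN H T hT
    refine TraF.of_subtype h𝓦 hT (hprop' ↥H (H.comap (QuotientGroup.mk' N))
      ((QuotientGroup.mk' N).subgroupComap H)
      ((QuotientGroup.mk' N).subgroupComap_surjective_of_surjective H (QuotientGroup.mk'_surjective N))
      (fun _ h => hN ?_) _ hT.subgroupOf)
    refine eq_bot_iff.2 fun n hn => ?_
    have hn1 : QuotientGroup.mk' N n = 1 := (QuotientGroup.eq_one_iff n).2 hn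
    have hmem : (⟨n, by show QuotientGroup.mk' N n ∈ H; rw [hn1]; exact H.one_mem⟩ : ↥(H.comap (QuotientGroup.mk' N))) ∈
        ((QuotientGroup.mk' N).subgroupComap H).ker := Subtype.ext hn1
    rw [h, Subgroup.mem_bot] at hmem
    exact Subgroup.mem_bot.2 (congrArg Subtype.val hmem)
  obtain ⟨-, hP0, hC⟩ := family_structure h𝓦 hne hsub hquot hS hfail
  haveI := CfsgLib.Solv.pCore_normal G p
  set P := pCore p G with hP
  have hPS : P ≤ (S : Subgroup G) := CfsgLib.Solv.pCore_le_sylow S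
  have hTS : T ≤ (S : Subgroup G) := by rw [hT]; exact iSup₂_le fun W _ => inf_le_left
  have hWc := fun (W) (hW : W ∈ 𝓦) => KInf.inducedFunctor_conjugacy (G := G) (h𝓦 W hW)
  have hSS : ⁅(S : Subgroup G), (S : Subgroup G)⁆ ≤ T := by
    obtain ⟨W, hW⟩ := hne
    rw [hT]
    refine le_trans ?_ (le_iSup₂_of_le W hW le_rfl)
    have hSN : (S : Subgroup G) ≤ Subgroup.normalizer (inducedFunctor (G := G) W (S : Subgroup G) : Set G) :=
      Subgroup.le_normalizer.trans (functor_normalizer (hWc W hW) S.isPGroup')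
    exact le_inf (Subgroup.commutator_le.2 fun x hx y hy => by
      rw [commutatorElement_def]; exact mul_mem (mul_mem (mul_mem hx hy) (inv_mem hx)) (inv_mem hy))
      (Subgroup.commutator_mono hSN hSN)
  have hTiff : ¬ (S : Subgroup G) ⊓ commutator G ≤ T := fun h => hfail (by
    rw [hT] at h
    simp only [TraF, top_inf_eq]
    exact h)
  have hTG : T ≤ commutator G := by
    rw [hT]; exact iSup₂_le fun W _ => inf_le_right.trans (Subgroup.commutator_mono le_top le_top)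
  have hpr : ∀ K : Subgroup G, (S : Subgroup G) ≤ K → K ≠ ⊤ → (S : Subgroup G) ⊓ ⁅K, K⁆ ≤ T := fun K hSK hK => by
    refine (hsub K hK _ (hS.mono hSK le_top)).trans ?_
    rw [hT]
    exact iSup₂_mono fun W _ => inf_le_inf_left _ (Subgroup.commutator_mono inf_le_right inf_le_right)
  set D := T ⊓ P with hD
  have hmove : ∀ K : Subgroup G, (S : Subgroup G) ≤ K → K ≠ ⊤ → ∀ k ∈ K, ∀ x ∈ P, ⁅k, x⁆ ∈ D := by
    intro K hSK hK k hk x hx
    have h1 : ⁅k, x⁆ ∈ P := by
      rw [commutatorElement_def]; exact P.mul_mem ((inferInstance : P.Normal).conj_mem x hx k) (P.inv_mem hx)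
    exact ⟨hpr K hSK hK ⟨hPS h1, Subgroup.commutator_mem_commutator hk (hSK (hPS hx))⟩, h1⟩
  have hHM : ∀ H : Subgroup G, (S : Subgroup G) ≤ H → H ≠ ⊤ → H ≤ M := by
    intro H hSH hH k hk
    rw [hM]
    refine Subgroup.mem_normalizer_fintype fun x hx => ?_
    have h1 := hmove H hSH hH k hk x hx.2
    rw [commutatorElement_def] at h1
    have h2 := D.mul_mem h1 hx
    simpa using h2
  -- lift of transfer from the quotient
  have hlift : ¬ P ⊓ commutator G ≤ T := by
    intro hPd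
    apply hTiff
    let π := QuotientGroup.mk' P
    have hπ : Function.Surjective π := QuotientGroup.mk'_surjective P
    have hSb := hS.map π
    rw [Subgroup.map_top_of_surjective π hπ] at hSb
    have hb := hquot P hP0 ⊤ _ hSb
    have hle : (⨆ W ∈ 𝓦, (S : Subgroup G).map π ⊓ ⁅(⊤ : Subgroup (G ⧸ P)) ⊓ Subgroup.normalizer
        (inducedFunctor (G := G ⧸ P) W ((S : Subgroup G).map π) : Set (G ⧸ P)), ⊤ ⊓ Subgroup.normalizer
        (inducedFunctor (G := G ⧸ P) W ((S : Subgroup G).map π) : Set (G ⧸ P))⁆) ≤ T.map π := by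
      refine iSup₂_le fun W hW => ?_
      have hWb := KInf.inducedFunctor_conjugacy (G := G ⧸ P) (h𝓦 W hW)
      set X := inducedFunctor (G := G ⧸ P) W ((S : Subgroup G).map π) with hX
      have hSK : (S : Subgroup G) ≤ Subgroup.normalizer (X.comap π : Set G) := fun s hs =>
        Subgroup.le_normalizer_comap π (functor_normalizer hWb hSb.pg (Subgroup.le_normalizer ⟨s, hs, rfl⟩))
      have hKtop : Subgroup.normalizer (X.comap π : Set G) ≠ ⊤ := by
        intro htop
        have hXn : (X.comap π).Normal := Subgroup.normalizer_eq_top_iff.1 htop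
        have hXp : IsPGroup p ↥(X.comap π) :=
          (hSb.pg.to_le (hWb _ hSb.pg).1).comap_of_ker_isPGroup π
            (by rw [QuotientGroup.ker_mk']; exact CfsgLib.Solv.pCore_isPGroup G p)
        have hXP := CfsgLib.Solv.le_pCore (hN := hXn) hXp
        refine (hWb _ hSb.pg).2.1 (fun h0 => ?_) ?_
        · rw [Subgroup.map_eq_bot_iff, QuotientGroup.ker_mk'] at h0
          -- the Sylow subgroup would be normal
          have hSP : (S : Subgroup G) = P := le_antisymm h0 hPS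
          obtain ⟨W', hW'⟩ := hne
          refine hTiff (le_trans ?_ (hT ▸ le_iSup₂_of_le W' hW' le_rfl))
          have hnt : Subgroup.normalizer (inducedFunctor (G := G) W' (S : Subgroup G) : Set G) = ⊤ := top_le_iff.1
            ((Subgroup.normalizer_eq_top_iff.2 (hSP ▸ inferInstance : ((S : Subgroup G)).Normal)).ge.trans
              (functor_normalizer (hWc W' hW') S.isPGroup'))
          rw [hnt]
          exact le_rfl
        · rw [← hX, ← Subgroup.map_comap_eq_self_of_surjective hπ X, Subgroup.map_eq_bot_iff, QuotientGroup.ker_mk']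
          exact hXP
      rintro w ⟨⟨y, hy, rfl⟩, hyN⟩
      rw [top_inf_eq, ← map_top_normalizer hπ X, ← Subgroup.map_commutator] at hyN
      obtain ⟨d, hd, hdy⟩ := hyN
      have hu : d⁻¹ * y ∈ P := QuotientGroup.eq.1 hdy
      have hdS : d ∈ (S : Subgroup G) := by
        have := (S : Subgroup G).mul_mem hy ((S : Subgroup G).inv_mem (hPS hu))
        simpa using this
      exact ⟨d, hpr _ hSK hKtop ⟨hdS, hd⟩, hdy⟩
    intro z hz
    obtain ⟨d, hd, hdz⟩ := hle (hb ⟨⟨z, hz.1, rfl⟩, by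
      rw [← Subgroup.map_top_of_surjective π hπ, ← Subgroup.map_commutator]; exact ⟨z, hz.2, rfl⟩⟩)
    have hu : d⁻¹ * z ∈ P := QuotientGroup.eq.1 hdz
    have := T.mul_mem hd (hPd ⟨hu, Subgroup.mul_mem _ (inv_mem (hTG hd)) hz.2⟩)
    rwa [mul_inv_cancel_left] at this
  have hMtop : M ≠ ⊤ := by
    intro htop
    rw [hM] at htop
    haveI hDn : D.Normal := Subgroup.normalizer_eq_top_iff.1 htop
    let ρ := QuotientGroup.mk' D
    let Y : Subgroup G := (Subgroup.centralizer (P.map ρ : Set (G ⧸ D))).comap ρ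
    haveI : (P.map ρ).Normal := (inferInstance : P.Normal).map ρ (QuotientGroup.mk'_surjective D)
    haveI : Y.Normal := (inferInstance : (Subgroup.centralizer (P.map ρ : Set (G ⧸ D))).Normal).comap ρ
    have hY : ∀ K : Subgroup G, (S : Subgroup G) ≤ K → K ≠ ⊤ → K ≤ Y := by
      intro K hSK hK k hk
      refine Subgroup.mem_centralizer_iff.2 ?_
      rintro _ ⟨x, hx, rfl⟩
      exact (commutatorElement_eq_one_iff_commute.1 ((map_commutatorElement ρ k x).symm.trans
        ((QuotientGroup.eq_one_iff _).2 (hmove K hSK hK k hk x hx)))).eq.symm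
    have hNS : Subgroup.normalizer ((S : Subgroup G) : Set G) ≠ ⊤ := by
      intro htop
      obtain ⟨W, hW⟩ := hne
      refine hTiff (le_trans ?_ (hT ▸ le_iSup₂_of_le W hW le_rfl))
      rw [top_le_iff.1 (htop.ge.trans (functor_normalizer (hWc W hW) S.isPGroup'))]
      exact le_rfl
    have hYtop : Y = ⊤ := by
      have hSY : (S : Subgroup G) ≤ Y :=
        Subgroup.le_normalizer.trans (hY _ Subgroup.le_normalizer hNS)
      refine top_le_iff.1 ?_
      rw [← Sylow.normalizer_sup_eq_top' S hSY]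
      exact sup_le (hY _ Subgroup.le_normalizer hNS) le_rfl
    apply hlift
    have hSb := hS.map ρ
    rw [Subgroup.map_top_of_surjective ρ (QuotientGroup.mk'_surjective D)] at hSb
    rintro z ⟨hzP, hzG⟩
    have h1 : ρ z ∈ ⁅(S : Subgroup G).map ρ, (S : Subgroup G).map ρ⁆ := by
      refine central_commutator hSb ⟨z, hPS hzP, rfl⟩ (Subgroup.mem_center_iff.2 fun y => ?_) ?_
      · obtain ⟨y, rfl⟩ := QuotientGroup.mk'_surjective D y
        exact ((hYtop.ge (Subgroup.mem_top y) : y ∈ Y) (ρ z) ⟨z, hzP, rfl⟩).symm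
      · exact (Subgroup.map_commutator ⊤ ⊤ ρ).trans_le (Subgroup.commutator_mono le_top le_top) ⟨z, hzG, rfl⟩
    rw [← Subgroup.map_commutator] at h1
    obtain ⟨d, hd, hdz⟩ := h1
    have := T.mul_mem (hSS hd) (QuotientGroup.eq.1 hdz : d⁻¹ * z ∈ D).1
    rwa [mul_inv_cancel_left] at this
  have hStop : (S : Subgroup G) ≠ ⊤ := by
    intro h
    obtain ⟨W, hW⟩ := hne
    refine hTiff (le_trans ?_ (hT ▸ le_iSup₂_of_le W hW le_rfl))
    rw [top_le_iff.1 (le_trans (by rw [h, Subgroup.normalizer_eq_top]) (functor_normalizer (hWc W hW) S.isPGroup'))]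
    exact le_rfl
  have hSM : (S : Subgroup G) ≤ M := hHM _ le_rfl hStop
  have hPM : P ≤ M := hPS.trans hSM
  have hMT : P ⊓ ⁅M, M⁆ ≤ P ⊓ T := le_inf inf_le_left ((inf_le_inf_right _ hPS).trans (hpr M hSM hMtop))
  refine ⟨hC, ⟨hMtop, hHM⟩, ⟨le_inf (Subgroup.commutator_le_left P M) (Subgroup.commutator_mono hPM le_rfl), hMT⟩,
    fun u huS huP => ?_⟩
  by_contra hcon
  push_neg at hcon
  refine hlift fun z hz => ?_
  have h := inf_commutator_le_of_hit (P := P) (N := M) hS hPS hSM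
    (fun K hSK hK => inf_le_right.trans (Subgroup.commutator_mono (hHM K hSK hK) (hHM K hSK hK))) huS
    (fun Q hQ hQp huQ => huP (CfsgLib.Solv.le_pCore (hN := hQ) hQp huQ))
    (fun U W hUW hU => hcon U W hUW hU) hz
  exact (hMT ⟨hz.1, h⟩).2

end CfsgLib.Glau
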