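import Cfsg.Agent.Fus.FusionFamilyMain

/-!
The normal closure of `Ω₁(Z(S))` under three factorisations of the constrained sections.
-/

set_option autoImplicit false
set_option linter.style.haveILetI false

open Cfsg
open scoped commutatorElement

namespace CfsgLib.Glau

universe u

variable {p : ℕ} [hp : Fact p.Prime]

/-- `Ω₁` of the centre commutes with maps injective on the subgroup. -/
theorem omega_center_map {A B : Type*} [Group A] [Group B] (f : A →* B) {S : Subgroup A}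
    (hf : Set.InjOn f (S : Set A)) :
    (omegaOne p (S ⊓ Subgroup.centralizer (S : Set A))).map f =
      omegaOne p (S.map f ⊓ Subgroup.centralizer (S.map f : Set B)) := by
  rw [omegaOne, omegaOne, MonoidHom.map_closure]
  congr 1
  ext y
  constructor
  · rintro ⟨x, ⟨⟨hx, hxc⟩, hxp⟩, rfl⟩
    refine ⟨⟨⟨x, hx, rfl⟩, ?_⟩, by rw [← map_pow, hxp, map_one]⟩
    rintro _ ⟨s, hs, rfl⟩
    rw [← map_mul, hxc s hs, map_mul]
  · rintro ⟨⟨⟨x, hx, rfl⟩, hxc⟩, hxp⟩
    refine ⟨x, ⟨⟨hx, fun s hs => hf (S.mul_mem hs hx) (S.mul_mem hx hs) ?_⟩, hf (S.pow_mem hx _) S.one_mem ?_⟩, rfl⟩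
    · rw [map_mul, map_mul]; exact hxc _ ⟨s, hs, rfl⟩
    · rw [map_pow, hxp, map_one]

theorem omega_center_le {A : Type*} [Group A] (S : Subgroup A) :
    omegaOne p (S ⊓ Subgroup.centralizer (S : Set A)) ≤ S ⊓ Subgroup.centralizer (S : Set A) :=
  (Subgroup.closure_le _).2 fun _ hx => hx.1

theorem omega_center_pow {A : Type*} [Group A] {S : Subgroup A} {z : A}
    (hz : z ∈ omegaOne p (S ⊓ Subgroup.centralizer (S : Set A))) : z ^ p = 1 := by
  induction hz using Subgroup.closure_induction with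
  | mem x hx => exact hx.2
  | one => exact one_pow _
  | mul x y hx hy hxp hyp =>
    rw [(show Commute x y from ((omega_center_le S hy).2 x (omega_center_le S hx).1)).mul_pow, hxp, hyp, one_mul]
  | inv x _ hxp => rw [inv_pow, hxp, inv_one]

/-- Elements of a normalizer move to the image of the functor. -/
theorem normalizer_ind_map {A B : Type u} [Group A] [Group B] [Finite A] [Finite B]
    {W : ∀ (Q : Type u) [Group Q], Subgroup Q} (hW : IsCharPFunctor.{u} p W) (f : A →* B) {T : Subgroup A}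
    (hT : IsPGroup p ↥T) (hf : Set.InjOn f (T : Set A)) {z : A}
    (hz : z ∈ Subgroup.normalizer (inducedFunctor W T : Set A)) :
    f z ∈ Subgroup.normalizer (inducedFunctor W (T.map f) : Set B) := by
  rw [mem_normalizer_iff_cj, ind_map hW f hT hf, ← map_cj, mem_normalizer_iff_cj.1 hz]

theorem centralizer_map {A B : Type*} [Group A] [Group B] (f : A →* B) {Z : Subgroup A} {z : A}
    (hz : z ∈ Subgroup.centralizer (Z : Set A)) : f z ∈ Subgroup.centralizer (Z.map f : Set B) := by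
  rintro _ ⟨x, hx, rfl⟩
  rw [← map_mul, ← map_mul, hz x hx]

/-- The factorisation of the constrained sections of `G` by `C(Ω₁Z)` and the normalizer of a functor value. -/
def CFac (p : ℕ) (G : Type u) [Group G] (W : ∀ (Q : Type u) [Group Q], Subgroup Q) : Prop :=
  ∀ (Γ : Type u) [Group Γ] [Finite Γ], IsSec G Γ → Subgroup.centralizer (pCore p Γ : Set Γ) ≤ pCore p Γ →
    ∀ S : Subgroup Γ, Syl p S ⊤ → ∀ x : Γ,
      ∃ c ∈ Subgroup.centralizer (omegaOne p (S ⊓ Subgroup.centralizer (S : Set Γ)) : Set Γ),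
        ∃ n ∈ Subgroup.normalizer (inducedFunctor W S : Set Γ), x = c * n

variable {G : Type u} [Group G] [Finite G] {W : ∀ (Q : Type u) [Group Q], Subgroup Q}

/-- The factorisation passes to groups with a normal `p`-subgroup containing its centralizer in a Sylow subgroup. -/
theorem cfac_of_self_centralizing (hW : IsCharPFunctor.{u} p W) (hfac : CFac p G W) {Γ : Type u} [Group Γ] [Finite Γ]
    (hsec : IsSec G Γ) {S R : Subgroup Γ} [R.Normal] (hS : Syl p S ⊤) (hRS : R ≤ S)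
    (hSR : S ⊓ Subgroup.centralizer (R : Set Γ) ≤ R) (x : Γ) :
    ∃ c ∈ Subgroup.centralizer (omegaOne p (S ⊓ Subgroup.centralizer (S : Set Γ)) : Set Γ),
      ∃ n ∈ Subgroup.normalizer (inducedFunctor W S : Set Γ), x = c * n := by
  haveI := CfsgLib.Solv.pPrimeCore_normal Γ p
  set K := pPrimeCore p Γ with hKdef
  have hKc : ¬ p ∣ Nat.card K := CfsgLib.Solv.not_dvd_card_pPrimeCore
  let π := QuotientGroup.mk' K
  have hπ : Function.Surjective π := QuotientGroup.mk'_surjective K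
  have hinj : Set.InjOn π (S : Set Γ) := fun x hx y hy he => by
    have : x⁻¹ * y ∈ S ⊓ K := ⟨S.mul_mem (S.inv_mem hx) hy, QuotientGroup.eq.1 he⟩
    rw [inf_eq_bot_of_card hS.pg hKc, Subgroup.mem_bot, inv_mul_eq_one] at this
    exact this
  have hSb := hS.map π
  rw [Subgroup.map_top_of_surjective π hπ] at hSb
  haveI hRn : (R.map π).Normal := (inferInstance : R.Normal).map π hπ
  haveI : (Subgroup.centralizer (R.map π : Set (Γ ⧸ K))).Normal := by infer_instance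
  have hK1 : pPrimeCore p (Γ ⧸ K) = ⊥ := CfsgLib.Fus.pPrimeCore_quotient_eq_bot p
  have h1 : S.map π ⊓ Subgroup.centralizer (R.map π : Set (Γ ⧸ K)) ≤ R.map π := by
    rintro _ ⟨⟨s, hs, rfl⟩, hsc⟩
    refine ⟨s, hSR ⟨hs, fun r hr => hinj (S.mul_mem (hRS hr) hs) (S.mul_mem hs (hRS hr)) ?_⟩, rfl⟩
    rw [map_mul, map_mul]; exact hsc _ ⟨r, hr, rfl⟩
  have hCR : Subgroup.centralizer (R.map π : Set (Γ ⧸ K)) ≤ R.map π :=
    le_of_central_sylow hK1 hSb (fun r hr c hc => hc r (h1 hr)) h1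
  have hRP : R.map π ≤ pCore p (Γ ⧸ K) := CfsgLib.Solv.le_pCore ((hS.pg.to_le hRS).map π)
  have hC : Subgroup.centralizer (pCore p (Γ ⧸ K) : Set (Γ ⧸ K)) ≤ pCore p (Γ ⧸ K) :=
    (Subgroup.centralizer_le hRP).trans (hCR.trans hRP)
  set Z := omegaOne p (S ⊓ Subgroup.centralizer (S : Set Γ)) with hZ
  have hZR : Z ≤ R := fun z hz => hSR ⟨(omega_center_le S hz).1, fun r hr => (omega_center_le S hz).2 r (hRS hr)⟩
  obtain ⟨c, hc, n, hn, hxcn⟩ := hfac (Γ ⧸ K) (hsec.of_surjective hπ) hC _ hSb (π x)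
  -- the normalizer of the image
  have hW' := KInf.inducedFunctor_conjugacy (G := Γ) hW
  set WS := inducedFunctor W S with hWS
  set N := Subgroup.normalizer (WS : Set Γ) with hN
  have hWS' : WS ≤ S := (hW' S hS.pg).1
  have hSN : S ≤ N := Subgroup.le_normalizer.trans (functor_normalizer hW' hS.pg)
  have hN1 : Subgroup.normalizer (WS.map π : Set (Γ ⧸ K)) ≤ N.map π := by
    rw [← map_top_normalizer hπ, Subgroup.map_le_iff_le_comap, Subgroup.comap_map_eq, QuotientGroup.ker_mk']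
    intro m hm
    set X := WS ⊔ K with hX
    have hX' : (WS.map π).comap π = X := by rw [Subgroup.comap_map_eq, QuotientGroup.ker_mk']
    have hm' : cj m X = X := mem_normalizer_iff_cj.1 (hX' ▸ hm)
    obtain ⟨z, hz, hzle⟩ := (syl_sup (hS.pg.to_le hWS') hKc).exists_conj_le
      ((cj_mono m le_sup_left).trans hm'.le) (isPGroup_cj m (hS.pg.to_le hWS'))
    rw [← cj_mul] at hzle
    have h1 : z * m ∈ N := mem_normalizer_iff_cj.2 (Subgroup.eq_of_le_of_card_ge hzle (card_cj (z * m) WS).ge)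
    have h2 : z ∈ N ⊔ K := sup_le_sup_right (hWS'.trans hSN) K hz
    have := mul_mem (inv_mem h2) (Subgroup.mem_sup_left h1 (T := K))
    rw [inv_mul_cancel_left] at this
    rwa [Subgroup.comap_map_eq, QuotientGroup.ker_mk']
  obtain ⟨n₀, hn₀, hn₀e⟩ := hN1 (by rw [ind_map hW π hS.pg hinj] at hn; exact hn)
  refine ⟨x * n₀⁻¹, fun z hz => ?_, n₀, hn₀, by group⟩
  have hce : π (x * n₀⁻¹) = c := by rw [map_mul, map_inv, hn₀e, hxcn, mul_inv_cancel_right]
  have hxz : x * n₀⁻¹ * z * (x * n₀⁻¹)⁻¹ ∈ R := (inferInstance : R.Normal).conj_mem z (hZR hz) _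
  have h2 : π (x * n₀⁻¹ * z * (x * n₀⁻¹)⁻¹) = π z := by
    rw [map_mul, map_mul, map_inv, hce, ← hc (π z) (by rw [← omega_center_map π hinj]; exact ⟨z, hz, rfl⟩),
      mul_inv_cancel_right]
  have h3 := hinj (hRS hxz) (hRS (hZR hz)) h2
  rw [mul_inv_eq_iff_eq_mul] at h3
  exact h3.symm

/-- A group whose `p`-core contains `Ω₁(Z(S))` factorises as `C(Ω₁Z(S)) N(W(S))`. -/
theorem cfac_of_le_pCore (hW : IsCharPFunctor.{u} p W) (hfac : CFac p G W) {Γ : Type u} [Group Γ] [Finite Γ]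
    (hsec : IsSec G Γ) {S P : Subgroup Γ} [P.Normal] (hP : IsPGroup p ↥P) (hS : Syl p S ⊤)
    (hZP : omegaOne p (S ⊓ Subgroup.centralizer (S : Set Γ)) ≤ P) (x : Γ) :
    ∃ c ∈ Subgroup.centralizer (omegaOne p (S ⊓ Subgroup.centralizer (S : Set Γ)) : Set Γ),
      ∃ n ∈ Subgroup.normalizer (inducedFunctor W S : Set Γ), x = c * n := by
  set Z := omegaOne p (S ⊓ Subgroup.centralizer (S : Set Γ)) with hZ
  have hPN : (⊤ : Subgroup Γ) ≤ Subgroup.normalizer (P : Set Γ) :=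
    (Subgroup.normalizer_eq_top_iff.2 inferInstance).ge
  have hPS : P ≤ S := hS.normal_le le_top hP hPN
  set C := Subgroup.centralizer (P : Set Γ) with hCdef
  haveI : C.Normal := Subgroup.normalizer_eq_top_iff.1 (eq_top_iff.2
    (hPN.trans (normalizer_le_centralizer_normalizer P)))
  have hCZ : C ≤ Subgroup.centralizer (Z : Set Γ) := Subgroup.centralizer_le hZP
  set R := S ⊓ (P ⊔ C) with hR
  set M := Subgroup.normalizer (R : Set Γ) with hM
  have hSM : S ≤ M := fun s hs => mem_normalizer_iff_cj.2 (by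
    rw [hR, cj_inf, cj_eq_of_mem hs, mem_normalizer_iff_cj.1 (by
      rw [Subgroup.normalizer_eq_top_iff.2 inferInstance]; trivial : s ∈ Subgroup.normalizer ((P ⊔ C : Subgroup Γ) : Set Γ))])
  obtain ⟨v, hv, k, hk, rfl⟩ := frattini hS (N := P ⊔ C)
    (Subgroup.normalizer_eq_top_iff.2 inferInstance).ge (Subgroup.mem_top x)
  obtain ⟨c₁, hc₁, v₁, hv₁, rfl⟩ := Subgroup.mem_sup_of_normal_left.1 (sup_comm P C ▸ hv.2)
  have hm : v₁ * k ∈ M := mul_mem (hSM (hPS hv₁)) hk.2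
  haveI : (R.subgroupOf M).Normal := Subgroup.normal_in_normalizer
  have hRS' : R.subgroupOf M ≤ S.subgroupOf M := fun y hy => hy.1
  have hSR' : S.subgroupOf M ⊓ Subgroup.centralizer (R.subgroupOf M : Set ↥M) ≤ R.subgroupOf M := by
    rintro y ⟨hy, hyc⟩
    refine ⟨hy, Subgroup.mem_sup_right fun r hr => ?_⟩
    have hrR : r ∈ R := ⟨hPS hr, Subgroup.mem_sup_left hr⟩
    exact congrArg Subtype.val (hyc ⟨r, Subgroup.le_normalizer hrR⟩ hrR)
  have hSs := (hS.mono hSM le_top).subgroupOf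
  obtain ⟨c', hc', n', hn', he⟩ := cfac_of_self_centralizing hW hfac (hsec.subgroup M) hSs hRS' hSR' ⟨_, hm⟩
  have hc2 : (c' : Γ) ∈ Subgroup.centralizer (Z : Set Γ) := by
    have h := centralizer_map M.subtype hc'
    rwa [omega_center_map M.subtype M.subtype_injective.injOn, Subgroup.map_subgroupOf_eq_of_le hSM] at h
  have hn2 : (n' : Γ) ∈ Subgroup.normalizer (inducedFunctor W S : Set Γ) := by
    have h := normalizer_ind_map hW M.subtype hSs.pg M.subtype_injective.injOn hn'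
    rwa [Subgroup.map_subgroupOf_eq_of_le hSM] at h
  refine ⟨c₁ * c', mul_mem (hCZ hc₁) hc2, n', hn2, ?_⟩
  rw [mul_assoc c₁, show v₁ * k = (c' : Γ) * (n' : Γ) from congrArg Subtype.val he, mul_assoc]

/-- The normal closure under `C(Ω₁Z)`-factorisations is normalised by both normalizers. -/
theorem cfac_subgroup (hW : IsCharPFunctor.{u} p W) (hfac : CFac p G W) {S H P : Subgroup G} (hS : Syl p S ⊤)
    (hSH : S ≤ H) (hP : IsPGroup p ↥P) (hPH : P ≤ H) (hHP : H ≤ Subgroup.normalizer (P : Set G))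
    (hZP : omegaOne p (S ⊓ Subgroup.centralizer (S : Set G)) ≤ P) {x : G} (hx : x ∈ H) :
    ∃ n ∈ H ⊓ Subgroup.normalizer (inducedFunctor W S : Set G),
      ∀ z ∈ omegaOne p (S ⊓ Subgroup.centralizer (S : Set G)), x * z * x⁻¹ = n * z * n⁻¹ := by
  haveI : (P.subgroupOf H).Normal := (Subgroup.normal_subgroupOf_iff_le_normalizer hPH).2 hHP
  have hSs := (hS.mono hSH le_top).subgroupOf
  have hZ' : (omegaOne p (S.subgroupOf H ⊓ Subgroup.centralizer (S.subgroupOf H : Set ↥H))).map H.subtype =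
      omegaOne p (S ⊓ Subgroup.centralizer (S : Set G)) := by
    rw [omega_center_map H.subtype H.subtype_injective.injOn, Subgroup.map_subgroupOf_eq_of_le hSH]
  obtain ⟨c, hc, n, hn, he⟩ := cfac_of_le_pCore (P := P.subgroupOf H) hW hfac ((isSec_self G).subgroup H)
    hP.comap_subtype hSs (by
      intro y hy
      exact hZP (hZ' ▸ ⟨y, hy, rfl⟩ : (y : G) ∈ omegaOne p (S ⊓ Subgroup.centralizer (S : Set G)))) ⟨x, hx⟩⁻¹
  have hn2 : (n : G) ∈ Subgroup.normalizer (inducedFunctor W S : Set G) := by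
    have h := normalizer_ind_map hW H.subtype hSs.pg H.subtype_injective.injOn hn
    rwa [Subgroup.map_subgroupOf_eq_of_le hSH] at h
  refine ⟨(n : G)⁻¹, ⟨H.inv_mem n.2, Subgroup.inv_mem _ hn2⟩, fun z hz => ?_⟩
  have hcz : z * (c : G) = (c : G) * z := (hZ' ▸ centralizer_map H.subtype hc) z hz
  have hxe : x = (n : G)⁻¹ * (c : G)⁻¹ := by
    have := congrArg Subtype.val he
    simp only [Subgroup.coe_inv, Subgroup.coe_mul] at this
    rw [← mul_inv_rev, ← this, inv_inv]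
  rw [hxe, show (n : G)⁻¹ * (c : G)⁻¹ * z * ((n : G)⁻¹ * (c : G)⁻¹)⁻¹ =
    (n : G)⁻¹ * ((c : G)⁻¹ * (z * (c : G))) * (n : G) by group, hcz]
  group

/-- Three factorisations make the normal closure of `Ω₁(Z(S))` strongly closed and controlling fusion. -/
theorem triple_factor (S : Sylow p G) (W₁ W₂ : ∀ (Q : Type u) [Group Q], Subgroup Q)
    (hW₁ : IsCharPFunctor.{u} p W₁) (hW₂ : IsCharPFunctor.{u} p W₂) (hf₁ : CFac p G W₁) (hf₂ : CFac p G W₂)
    (hfus : FamF ((fun W => inducedFunctor (G := G) W) '' {W₁, W₂}) (S : Subgroup G) ⊤)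
    (hZ : omegaOne p ((S : Subgroup G) ⊓ Subgroup.centralizer ((S : Subgroup G) : Set G)) ≤
      inducedFunctor (G := G) W₁ (S : Subgroup G) ⊓ inducedFunctor (G := G) W₂ (S : Subgroup G))
    (N₁ : Subgroup G) (hN₁ : N₁ = Subgroup.normalizer (inducedFunctor (G := G) W₁ (S : Subgroup G) : Set G))
    (A : Subgroup G) (hA : A = (Subgroup.normalClosure
      (((omegaOne p ((S : Subgroup G) ⊓ Subgroup.centralizer ((S : Subgroup G) : Set G))).subgroupOf N₁ :
        Subgroup ↥N₁) : Set ↥N₁)).map N₁.subtype) :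
    A ≤ (S : Subgroup G) ∧ IsElementaryAbelian p A ∧ IsStronglyClosed A (S : Subgroup G) ∧
      ControlsStrongFusion p A := by
  have hS := syl_top S
  set T : Subgroup G := (S : Subgroup G) with hT
  set Z := omegaOne p (T ⊓ Subgroup.centralizer (T : Set G)) with hZdef
  set X₁ := inducedFunctor (G := G) W₁ T with hX₁
  set X₂ := inducedFunctor (G := G) W₂ T with hX₂
  set N₂ := Subgroup.normalizer (X₂ : Set G) with hN₂
  have hX₁T : X₁ ≤ T := (KInf.inducedFunctor_conjugacy hW₁ T hS.pg).1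
  have hX₂T : X₂ ≤ T := (KInf.inducedFunctor_conjugacy hW₂ T hS.pg).1
  have hT₁ : T ≤ N₁ := hN₁ ▸ Subgroup.le_normalizer.trans
    (functor_normalizer (KInf.inducedFunctor_conjugacy hW₁) hS.pg)
  have hT₂ : T ≤ N₂ := Subgroup.le_normalizer.trans (functor_normalizer (KInf.inducedFunctor_conjugacy hW₂) hS.pg)
  -- `A` is generated by the conjugates of `Z` under `N₁ ⊓ N₂`
  set A₀ := Subgroup.closure {a : G | ∃ y ∈ N₁ ⊓ N₂, ∃ z ∈ Z, y * z * y⁻¹ = a} with hA₀
  have hstable : ∀ H : Subgroup G, N₁ ⊓ N₂ ≤ H →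
      (∀ x ∈ H, ∃ n ∈ N₁ ⊓ N₂, ∀ z ∈ Z, x * z * x⁻¹ = n * z * n⁻¹) → H ≤ Subgroup.normalizer (A₀ : Set G) := by
    intro H hH hfacH x hx
    refine mem_normalizer_iff_cj.2 (Subgroup.eq_of_le_of_card_ge ?_ (card_cj x A₀).ge)
    rw [hA₀, cj, MonoidHom.map_closure]
    refine Subgroup.closure_mono ?_
    rintro _ ⟨_, ⟨y, hy, z, hz, rfl⟩, rfl⟩
    obtain ⟨n, hn, hne⟩ := hfacH (x * y) (H.mul_mem hx (hH hy))
    refine ⟨n, hn, z, hz, ?_⟩
    show n * z * n⁻¹ = x * (y * z * y⁻¹) * x⁻¹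
    rw [← hne z hz]; group
  have hn1 : N₁ ≤ Subgroup.normalizer (A₀ : Set G) := hstable N₁ inf_le_left fun x hx =>
    cfac_subgroup hW₂ hf₂ hS hT₁ (hS.pg.to_le hX₁T) (hX₁T.trans hT₁) hN₁.le (hZ.trans inf_le_left) hx
  have hn2 : N₂ ≤ Subgroup.normalizer (A₀ : Set G) := hstable N₂ inf_le_right fun x hx => by
    obtain ⟨n, hn, hne⟩ := cfac_subgroup hW₁ hf₁ hS hT₂ (hS.pg.to_le hX₂T) (hX₂T.trans hT₂) le_rfl
      (hZ.trans inf_le_right) hx
    exact ⟨n, ⟨hN₁ ▸ hn.2, hn.1⟩, hne⟩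
  have hZA₀ : Z ≤ A₀ := fun z hz => Subgroup.subset_closure ⟨1, one_mem _, z, hz, by group⟩
  have hA₀X : A₀ ≤ X₁ ⊓ Subgroup.centralizer (X₁ : Set G) := by
    refine (Subgroup.closure_le _).2 ?_
    rintro _ ⟨y, hy, z, hz, rfl⟩
    have hy' : y ∈ Subgroup.normalizer (X₁ : Set G) := hN₁ ▸ hy.1
    refine ⟨(Subgroup.mem_normalizer_iff.1 hy' z).1 (hZ hz).1, fun w hw => ?_⟩
    have hw' : y⁻¹ * w * y ∈ X₁ := (Subgroup.mem_normalizer_iff''.1 hy' w).1 hw
    have h := (omega_center_le T hz).2 _ (hX₁T hw')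
    calc w * (y * z * y⁻¹) = y * (y⁻¹ * w * y * z) * y⁻¹ := by group
      _ = y * (z * (y⁻¹ * w * y)) * y⁻¹ := by rw [h]
      _ = y * z * y⁻¹ * w := by group
  have hZ₁ : Z ≤ N₁ := ((hZ.trans inf_le_left).trans hX₁T).trans hT₁
  have hA₀N : A₀ ≤ N₁ := ((hA₀X.trans inf_le_left).trans hX₁T).trans hT₁
  have hAe : A = A₀ := by
    haveI : (A₀.subgroupOf N₁).Normal := (Subgroup.normal_subgroupOf_iff_le_normalizer hA₀N).2 hn1
    rw [hA]
    refine le_antisymm ?_ ?_
    · rw [Subgroup.map_le_iff_le_comap]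
      exact Subgroup.normalClosure_le_normal (N := A₀.subgroupOf N₁) fun y hy => hZA₀ hy
    · refine (Subgroup.closure_le _).2 ?_
      rintro _ ⟨y, hy, z, hz, rfl⟩
      exact ⟨⟨y, hy.1⟩ * ⟨z, hZ₁ hz⟩ * ⟨y, hy.1⟩⁻¹, Subgroup.normalClosure_normal.conj_mem _
        (Subgroup.subset_normalClosure (show (⟨z, hZ₁ hz⟩ : ↥N₁) ∈ (Z.subgroupOf N₁ : Set ↥N₁) from hz)) _, rfl⟩
  subst hAe
  have hAT : A₀ ≤ T := (hA₀X.trans inf_le_left).trans hX₁T
  have hchain : ∀ (B : Subgroup G) (g : G), Reach T (famN ((fun W => inducedFunctor (G := G) W) '' {W₁, W₂}) T ⊤) B g →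
      ∃ k ∈ Subgroup.normalizer (A₀ : Set G), ∀ b ∈ B, k * b * k⁻¹ = g * b * g⁻¹ := by
    rintro B g ⟨k, hk, hke⟩
    refine ⟨k, ?_, hke⟩
    clear hke
    induction hk with
    | one _ => exact one_mem _
    | step hN hx _ _ ih =>
      refine mul_mem ih ?_
      obtain ⟨_, ⟨W, (rfl | rfl), rfl⟩, rfl⟩ := hN
      · exact hn1 (hN₁ ▸ hx.2)
      · exact hn2 hx.2
  refine ⟨hAT, ⟨?_, fun a ha => ?_⟩, ⟨hAT, fun a ha g hga => ?_⟩, S, hAT, fun B hB => ⟨hB, fun g hgB => ?_⟩⟩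
  · exact ⟨⟨fun a b => Subtype.ext ((hA₀X b.2).2 a (hA₀X a.2).1)⟩⟩
  · induction ha using Subgroup.closure_induction with
    | mem a ha =>
      obtain ⟨y, hy, z, hz, rfl⟩ := ha
      rw [conj_pow, omega_center_pow hz, mul_one, mul_inv_cancel]
    | one => exact one_pow _
    | mul a b ha hb hap hbp =>
      rw [(show Commute a b from (hA₀X hb).2 a (hA₀X ha).1).mul_pow, hap, hbp, one_mul]
    | inv a _ hap => rw [inv_pow, hap, inv_one]
  · obtain ⟨k, hk, hke⟩ := hchain _ g (hfus (Subgroup.zpowers a) (Subgroup.zpowers_le.2 (hAT ha)) g trivial (by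
      rw [cj, MonoidHom.map_zpowers]; exact Subgroup.zpowers_le.2 hga))
    rw [← hke a (Subgroup.mem_zpowers a)]
    exact (Subgroup.mem_normalizer_iff.1 hk a).1 ha
  · have h2 : cj g (Subgroup.closure B) ≤ T := by
      rw [cj, MonoidHom.map_closure, Subgroup.closure_le]; exact hgB
    obtain ⟨k, hk, hke⟩ := hchain _ g (hfus _ ((Subgroup.closure_le T).2 hB) g trivial h2)
    exact ⟨k, hk, fun b hb => (hke b (Subgroup.subset_closure hb)).symm⟩

/-- The factorisation in standard sections gives it in all sections. -/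
theorem cfac_of_standard (hW : IsCharPFunctor.{u} p W)
    (h : ∀ (K R : Subgroup G) [(R.subgroupOf K).Normal],
      Subgroup.centralizer ((pCore p (↥K ⧸ R.subgroupOf K) : Subgroup (↥K ⧸ R.subgroupOf K)) : Set (↥K ⧸ R.subgroupOf K)) ≤
        pCore p (↥K ⧸ R.subgroupOf K) → ∀ T : Sylow p (↥K ⧸ R.subgroupOf K), ∀ x : (↥K ⧸ R.subgroupOf K),
        ∃ a ∈ Subgroup.centralizer (omegaOne p ((T : Subgroup (↥K ⧸ R.subgroupOf K)) ⊓
          Subgroup.centralizer ((T : Subgroup (↥K ⧸ R.subgroupOf K)) : Set (↥K ⧸ R.subgroupOf K))) : Set (↥K ⧸ R.subgroupOf K)),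
        ∃ b ∈ Subgroup.normalizer (inducedFunctor W (T : Subgroup (↥K ⧸ R.subgroupOf K)) : Set (↥K ⧸ R.subgroupOf K)),
          x = a * b) : CFac p G W := by
  intro Γ _ _ hsec hC S hS x
  obtain ⟨K, R, hR, ⟨e⟩⟩ := hsec.exists_equiv
  haveI := hR
  set T := S.map e.symm.toMonoidHom with hT
  have hTs := hS.map e.symm.toMonoidHom
  rw [Subgroup.map_top_of_surjective e.symm.toMonoidHom e.symm.surjective, ← hT] at hTs
  obtain ⟨a, ha, b, hb, hab⟩ := h K R (constrained_equiv e hC)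
    ⟨T, hTs.pg, fun {Q} hQ hle => hTs.eq_of_le hle le_top hQ⟩ (e.symm x)
  have hTS : T.map e.toMonoidHom = S := by
    rw [hT, Subgroup.map_map,
      show e.toMonoidHom.comp e.symm.toMonoidHom = MonoidHom.id Γ from MonoidHom.ext e.apply_symm_apply,
      Subgroup.map_id]
  refine ⟨e a, ?_, e b, ?_, by rw [← map_mul, ← hab, e.apply_symm_apply]⟩
  · have h1 := centralizer_map e.toMonoidHom ha
    rwa [omega_center_map e.toMonoidHom e.injective.injOn, hTS] at h1
  · have h1 := normalizer_ind_map hW e.toMonoidHom hTs.pg e.injective.injOn hb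
    rwa [hTS] at h1

end CfsgLib.Glau
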