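import Mathlib.GroupTheory.PGroup
import Mathlib.Algebra.Group.Subgroup.Basic
import Cfsg.Prelude.Def_Transfer

set_option autoImplicit false

/-! A 2-automorphism of an abelian 2-group with the same fixed points as its square is trivial. -/

namespace CfsgLib.Fus

theorem twoAuto_eq_one {A : Type*} [CommGroup A] [Finite A] (hA : IsPGroup 2 A) (t : MulAut A) (k : ℕ)
    (ht : t ^ (2 ^ k) = 1) (hC : ∀ a : A, t (t a) = a → t a = a) (a : A) : t a = a := by
  by_contra hne
  let B : Subgroup A := MonoidHom.range (t.toMonoidHom / MonoidHom.id A)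
  have hmemB : ∀ x : A, t x / x ∈ B := fun x => ⟨x, rfl⟩
  have htB : ∀ (n : ℕ) (b : A), b ∈ B → (t ^ n) b ∈ B := by
    intro n
    induction n with
    | zero => intro b hb; simpa using hb
    | succ n ih =>
      intro b hb
      obtain ⟨x, rfl⟩ := hb
      have h : (t ^ (n + 1)) (t x / x) = (t ^ n) (t (t x) / t x) := by
        rw [pow_succ, MulAut.mul_apply, map_div]
      show (t ^ (n + 1)) (t x / x) ∈ B
      rw [h]
      exact ih _ (hmemB (t x))
  have key : ∀ (j : ℕ) (b : A), b ∈ B → b * b = 1 → b ≠ 1 → (t ^ (2 ^ j)) b = b →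
      ∃ c ∈ B, c * c = 1 ∧ c ≠ 1 ∧ t c = c := by
    intro j
    induction j with
    | zero => intro b hb h2 h1 hf; exact ⟨b, hb, h2, h1, by simpa using hf⟩
    | succ j ih =>
      intro b hb h2 h1 hf
      by_cases hfj : (t ^ (2 ^ j)) b = b
      · exact ih b hb h2 h1 hfj
      have hinv : b⁻¹ = b := inv_eq_of_mul_eq_one_right h2
      refine ih (b * (t ^ (2 ^ j)) b) (B.mul_mem hb (htB _ b hb)) ?_ ?_ ?_
      · rw [mul_mul_mul_comm, h2, one_mul, ← map_mul, h2, map_one]
      · intro h
        exact hfj ((inv_eq_of_mul_eq_one_right h).symm.trans hinv)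
      · rw [map_mul, ← MulAut.mul_apply, ← pow_add, show 2 ^ j + 2 ^ j = 2 ^ (j + 1) by ring, hf,
          mul_comm]
  have hBne : B ≠ ⊥ := fun h => hne (by
    have := hmemB a
    rw [h, Subgroup.mem_bot] at this
    exact div_eq_one.1 this)
  have hBp : IsPGroup 2 ↥B := hA.to_subgroup B
  haveI : Nontrivial ↥B := (Subgroup.nontrivial_iff_ne_bot B).2 hBne
  haveI : Fact (Nat.Prime 2) := ⟨Nat.prime_two⟩
  obtain ⟨m, hm, hcard⟩ := hBp.nontrivial_iff_card.1 inferInstance
  obtain ⟨z, hz⟩ := exists_prime_orderOf_dvd_card' (G := ↥B) 2 (by rw [hcard]; exact dvd_pow_self 2 hm.ne')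
  have hz1 : (z : A) ≠ 1 := fun h => by
    rw [show z = 1 from Subtype.ext h, orderOf_one] at hz
    omega
  have hz2 : (z : A) * z = 1 := by
    rw [← pow_two, ← Subgroup.coe_pow, ← hz, pow_orderOf_eq_one]
    rfl
  obtain ⟨c, ⟨x, hx⟩, hc2, hc1, hc⟩ := key k z z.2 hz2 hz1 (by rw [ht]; rfl)
  have hx' : t x = c * x := by
    rw [← hx]; show t x = t x / x * x
    rw [div_mul_cancel]
  have h2 : t (t x) = x := by
    rw [hx', map_mul, hc, hx', ← mul_assoc, hc2, one_mul]
  exact hc1 (by
    have h3 := hC x h2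
    rw [hx'] at h3
    exact mul_eq_right.1 h3)

/-- An element normalizing an abelian 2-subgroup whose square has no more fixed points centralizes it. -/
theorem centralizes_of_sq {G : Type*} [Group G] [Finite G] (A : Subgroup G) (hA : IsPGroup 2 A)
    (hAa : IsMulCommutative A) (y : G) (hy : ∀ x ∈ A, y * x * y⁻¹ ∈ A) (k : ℕ) (hk : y ^ (2 ^ k) = 1)
    (hC : ∀ x ∈ A, y ^ 2 * x * (y ^ 2)⁻¹ = x → y * x * y⁻¹ = x) (x : G) (hx : x ∈ A) :
    y * x * y⁻¹ = x := by
  haveI := hAa
  letI : CommGroup ↥A := { (inferInstance : Group ↥A) with mul_comm := hAa.is_comm.comm }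
  let f : ↥A →* ↥A :=
    { toFun := fun a => ⟨y * a * y⁻¹, hy a a.2⟩
      map_one' := Subtype.ext (by simp)
      map_mul' := fun a b => Subtype.ext (by simp [mul_assoc]) }
  have hinj : Function.Injective f := fun a b h => by
    have h' : y * (a : G) * y⁻¹ = y * b * y⁻¹ := congrArg Subtype.val h
    exact Subtype.ext (mul_left_cancel (mul_right_cancel h'))
  let t : MulAut ↥A := MulEquiv.ofBijective f (Finite.injective_iff_bijective.1 hinj)
  have ht : ∀ (n : ℕ) (a : ↥A), (((t ^ n) a : ↥A) : G) = y ^ n * a * (y ^ n)⁻¹ := by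
    intro n
    induction n with
    | zero => intro a; simp
    | succ n ih =>
      intro a
      rw [pow_succ, MulAut.mul_apply, ih]
      show y ^ n * (y * a * y⁻¹) * (y ^ n)⁻¹ = _
      rw [pow_succ, mul_inv_rev]
      simp only [mul_assoc]
  have h := twoAuto_eq_one hA t k (MulEquiv.ext fun a => Subtype.ext (by
      rw [ht, hk]; simp)) (fun a ha => Subtype.ext (hC a a.2 (by
      have := congrArg Subtype.val ha
      rw [← MulAut.mul_apply, ← pow_two, ht] at this
      exact this))) ⟨x, hx⟩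
  exact congrArg Subtype.val h

end CfsgLib.Fus
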