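import Cfsg.Agent.Fus.Tate
import Mathlib.GroupTheory.RegularWreathProduct
import Mathlib.GroupTheory.Index

/-!
Yoshida's theorem for fusion systems: stable transfer into a group of order `p` and wreath quotients.
-/

set_option autoImplicit false
set_option linter.style.haveILetI false

open Cfsg Cfsg.FusionSystem
open scoped commutatorElement

namespace CfsgLib.Fus

theorem coatom_normal {G : Type*} [Group G] [Finite G] {p : ℕ} [Fact p.Prime] (hG : IsPGroup p G)
    {M : Subgroup G} (hM : IsCoatom M) : M.Normal :=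
  Subgroup.NormalizerCondition.normal_of_coatom M
    (haveI := hG.isNilpotent; Group.normalizerCondition_of_isNilpotent) hM

theorem index_coatom {G : Type*} [Group G] [Finite G] {p : ℕ} [hp : Fact p.Prime] (hG : IsPGroup p G)
    {M : Subgroup G} (hM : IsCoatom M) : M.index = p := by
  obtain ⟨k, hk⟩ := hG.index M
  obtain ⟨l, hl⟩ := IsPGroup.iff_card.1 (hG.to_subgroup M)
  have hk0 : k ≠ 0 := fun h0 => hM.1 (Subgroup.index_eq_one.1 (by rw [hk, h0, pow_zero]))
  have hd : p ^ (l + 1) ∣ Nat.card G := by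
    rw [← M.card_mul_index, hl, hk, ← pow_add]
    exact pow_dvd_pow p (by omega)
  obtain ⟨H, hH, hMH⟩ := Sylow.exists_subgroup_card_pow_succ hd hl
  have hlt : M < H := lt_of_le_of_ne hMH fun h => by
    rw [← h, hl] at hH
    exact absurd (Nat.pow_right_injective hp.out.two_le hH) (by omega)
  have hc := hM.2 H hlt
  rw [hc, Subgroup.card_top, ← M.card_mul_index, hl, pow_succ] at hH
  exact Nat.eq_of_mul_eq_mul_left (pow_pos hp.out.pos l) hH

theorem pow_mem_frattini {G : Type*} [Group G] [Finite G] {p : ℕ} [Fact p.Prime] (hG : IsPGroup p G)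
    (y : G) : y ^ p ∈ frattini G := by
  rw [frattini, Order.radical]
  simp only [Subgroup.mem_iInf]
  intro C hC
  haveI : C.Normal := coatom_normal hG hC
  have := Subgroup.pow_index_mem C y
  rwa [index_coatom hG hC] at this

section Monomial

variable {G A : Type*} [Group G] [CommGroup A]

/-- The factor of the transfer at a coset. -/
noncomputable def tfac {P : Subgroup G} (ψ : P →* A) (s : G) (c : G ⧸ P) : A :=
  ψ ⟨(s • c).out⁻¹ * (s * c.out), by
    rw [← QuotientGroup.eq]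
    exact (QuotientGroup.out_eq' _).trans (by (conv_lhs => rw [← QuotientGroup.out_eq' c]); rfl)⟩

theorem tfac_mul {P : Subgroup G} (ψ : P →* A) (a b : G) (c : G ⧸ P) :
    tfac ψ (a * b) c = tfac ψ a (b • c) * tfac ψ b c := by
  simp only [tfac, ← map_mul]
  congr 1
  refine Subtype.ext ?_
  simp [mul_smul, mul_assoc]

theorem tfac_pow {P : Subgroup G} (ψ : P →* A) (g : G) (c : G ⧸ P) (n : ℕ) :
    ∏ k ∈ Finset.range n, tfac ψ g ((g • ·)^[k] c) = tfac ψ (g ^ n) c := by
  induction n with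
  | zero =>
    rw [Finset.prod_range_zero, pow_zero]
    refine (map_one ψ).symm.trans (congrArg ψ (Subtype.ext ?_))
    simp
  | succ n ih => rw [Finset.prod_range_succ, ih, pow_succ' g, tfac_mul, smul_iterate, mul_comm]

theorem pow_smul_eq_self_iff {P : Subgroup G} {g : G} {c : G ⧸ P} :
    g • c = c ↔ c.out⁻¹ * g * c.out ∈ P := by
  conv_lhs => rw [← QuotientGroup.out_eq' c]
  exact smul_coset_eq_iff

/-- A transfer factor product that is nontrivial on the kernel of a map onto a group of order `p`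
gives a surjection onto the wreath product. -/
theorem exists_surjective_wreath [Finite G] {p : ℕ} [hp : Fact p.Prime] (hA : Nat.card A = p)
    (hG : IsPGroup p G) {P : Subgroup G} (ψ : P →* A) (π : G →* A) (hπ : Function.Surjective π)
    (hP : ∀ x ∈ P, π x = 1) [Fintype (G ⧸ P)] {g : G} (hg : π g = 1)
    (hne : ∏ c, tfac ψ g c ≠ 1) : ∃ f : G →* A ≀ᵣ A, Function.Surjective f := by
  classical
  haveI : Finite A := Nat.finite_of_card_ne_zero (hA ▸ hp.out.ne_zero)
  haveI : Fintype A := Fintype.ofFinite A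
  let lab : G ⧸ P → A := fun c => π c.out
  have hlab : ∀ (s : G) c, lab (s • c) = π s * lab c := fun s c => by
    have h : (s • c).out⁻¹ * (s * c.out) ∈ P := by
      rw [← QuotientGroup.eq]
      exact (QuotientGroup.out_eq' _).trans (by (conv_lhs => rw [← QuotientGroup.out_eq' c]); rfl)
    have := hP _ h
    rw [map_mul, map_inv, inv_mul_eq_one, map_mul] at this
    exact this
  let M : G → A → A := fun s x => ∏ c ∈ Finset.univ.filter (fun c => lab c = (π s)⁻¹ * x), tfac ψ s c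
  let f : G →* A ≀ᵣ A := MonoidHom.mk' (fun s => ⟨M s, π s⟩) fun a b => by
    ext x
    · show M (a * b) x = M a x * M b ((π a)⁻¹ * x)
      simp only [M, tfac_mul, Finset.prod_mul_distrib]
      congr 1
      · refine Finset.prod_equiv (MulAction.toPerm b) (fun c => ?_) fun c _ => rfl
        simp only [Finset.mem_filter, Finset.mem_univ, true_and, MulAction.toPerm_apply, hlab, map_mul]
        rw [mul_inv_rev, mul_assoc, eq_inv_mul_iff_mul_eq]
      · refine Finset.prod_congr (Finset.filter_congr fun c _ => ?_) fun _ _ => rfl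
        rw [map_mul, mul_inv_rev, mul_assoc]
    · exact map_mul π a b
  refine ⟨f, ?_⟩
  -- the sum and the top coordinate separate the Frattini quotient
  let σ : A ≀ᵣ A →* A × A := MonoidHom.mk' (fun w => (∏ x, w.left x, w.right)) fun v w => by
    refine Prod.ext ?_ rfl
    show ∏ x, (v.left x * w.left (v.right⁻¹ * x)) = _
    rw [Finset.prod_mul_distrib]
    exact congrArg (_ * ·) (Equiv.prod_comp (Equiv.mulLeft v.right⁻¹) w.left)
  have hsum : ∏ x, M g x = ∏ c, tfac ψ g c := by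
    simp only [M, hg, inv_one, one_mul]
    exact Finset.prod_fiberwise Finset.univ lab _
  have hcyc : ∀ a : A, a ≠ 1 → ∀ b : A, b ∈ Subgroup.zpowers a := fun a ha b => mem_zpowers_of_prime_card hA ha
  have hσ : Function.Surjective (σ.comp f) := by
    rintro ⟨a, b⟩
    obtain ⟨s, rfl⟩ := hπ b
    obtain ⟨k, hk⟩ := Subgroup.mem_zpowers_iff.1 (hcyc _ hne (a * ((σ (f s)).1)⁻¹))
    refine ⟨g ^ k * s, ?_⟩
    rw [map_mul, map_zpow]
    refine Prod.ext ?_ ?_
    · show (∏ x, M g x) ^ k * (σ (f s)).1 = a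
      rw [hsum, hk, inv_mul_cancel_right]
    · show (π g) ^ k * π s = π s
      rw [hg, one_zpow, one_mul]
  have hcardW : IsPGroup p (A ≀ᵣ A) := by
    refine IsPGroup.of_card (n := p + 1) ?_
    rw [RegularWreathProduct.card, hA, pow_succ]
  have hker : σ.ker ≤ frattini (A ≀ᵣ A) := by
    refine le_trans ?_ (CfsgLib.Solv.commutator_le_frattini hcardW)
    intro w hw
    have hw1 : ∏ x, w.left x = 1 := congrArg Prod.fst hw
    have hw2 : w.right = 1 := congrArg Prod.snd hw
    -- singles differing by a translation differ by a commutator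
    let δ : A → A → A ≀ᵣ A := fun x a => ⟨Pi.mulSingle x a, 1⟩
    let μ := QuotientGroup.mk' (commutator (A ≀ᵣ A))
    have hμ : ∀ u v : A ≀ᵣ A, μ (u * v * u⁻¹) = μ v := fun u v => by
      rw [map_mul, map_mul, map_inv, ← mul_inv_eq_one, ← map_inv, ← map_mul, ← map_mul, ← map_inv, ← map_mul]
      exact (QuotientGroup.eq_one_iff _).2 (Subgroup.commutator_mem_commutator trivial trivial)
    have hδ : ∀ x a, μ (δ x a) = μ (δ 1 a) := fun x a => by
      rw [← hμ (RegularWreathProduct.inl x) (δ 1 a)]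
      congr 1
      ext y
      · by_cases h : y = x
        · subst h; simp [δ]
        · have h' : x⁻¹ * y ≠ 1 := fun e => h (inv_mul_eq_one.1 e).symm
          simp [δ, h, h']
      · simp [δ]
    let emb : (A → A) →* A ≀ᵣ A := MonoidHom.mk' (fun v => ⟨v, 1⟩) fun u v => by ext <;> simp
    let τ : A →* (A ≀ᵣ A) ⧸ commutator (A ≀ᵣ A) := μ.comp (emb.comp (MonoidHom.mulSingle (fun _ : A => A) 1))
    have hτ : ∀ v : A → A, μ (emb v) = τ (∏ x, v x) := by
      intro v
      have key : ∀ (l : List A), μ (emb (l.map fun x => Pi.mulSingle x (v x)).prod) = τ (l.map v).prod := by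
        intro l
        induction l with
        | nil => simp
        | cons x l ih =>
          rw [List.map_cons, List.prod_cons, List.map_cons, List.prod_cons, map_mul, map_mul, map_mul, ih]
          exact congrArg (· * _) (hδ x (v x))
      have h := key Finset.univ.toList
      rwa [Finset.prod_map_toList, Finset.prod_map_toList, Finset.univ_prod_mulSingle] at h
    have hwe : w = emb w.left := RegularWreathProduct.ext rfl hw2
    refine (QuotientGroup.eq_one_iff _).1 (show μ w = 1 from ?_)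
    rw [hwe, hτ, hw1, map_one]
  have htop : f.range = ⊤ := by
    refine frattini_nongenerating (top_le_iff.1 fun w _ => ?_)
    obtain ⟨s, hs⟩ := hσ (σ w)
    rw [← mul_inv_cancel_left (f s) w]
    refine Subgroup.mul_mem_sup ⟨s, rfl⟩ (hker ?_)
    rw [MonoidHom.mem_ker, map_mul, map_inv, show σ (f s) = σ w from hs, inv_mul_cancel]
  exact MonoidHom.range_eq_top.1 htop

end Monomial

theorem ratio_aux {A : Type*} [CommGroup A] (a b c d : A) : a / b = c / d * ((a / c) / (b / d)) := by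
  rw [div_div_div_comm a c b d, mul_div_cancel]

theorem cancel_aux {A : Type*} [CommGroup A] (a b c : A) : a * b⁻¹ = a * c * (b * c)⁻¹ := by
  rw [mul_inv, mul_mul_mul_comm, mul_inv_cancel, mul_one]

variable {Ω : Type*} [Group Ω] {S : Subgroup Ω} {F : FusionSystem S} {p : ℕ}

set_option maxHeartbeats 1000000 in
/-- The stable transfer of a homomorphism to an abelian group, written orbit by orbit: some orbit
factor is nontrivial on a suitable element. -/
theorem exists_stable_tfac [Finite S] [Fact p.Prime] (hS : IsPGroup p S) (hF : F.IsSaturated p)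
    {A : Type*} [CommGroup A] (θ : ↥S →* A) :
    ∃ (n : ℕ) (P : Fin n → Subgroup ↥S) (ψ : ∀ i, P i →* A) (N : ℕ), ¬ p ∣ N ∧
      (∀ i, ∃ f, IsMap F ((P i).map S.subtype) f ∧ ∀ u : P i, ∃ s : ↥S, f ((u : ↥S) : Ω) = (s : Ω) ∧ ψ i u = θ s) ∧
      (∀ T : (i : Fin n) → A, ∀ a : A, (∀ i, P i = ⊤ → T i = a) → (∀ i, P i ≠ ⊤ → T i = 1) → ∏ i, T i = a ^ N) ∧
      ∃ tr : ↥S →* A, (∀ g, ∀ [∀ i, Fintype (↥S ⧸ P i)], tr g = ∏ i, ∏ c, tfac (ψ i) g c) ∧
        ∀ (Q : Subgroup Ω) (α : MulAut Q), IsMap F Q (autFun α) → ∀ g g' : ↥S, (g : Ω) ∈ Q →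
          (g' : Ω) = autFun α g → tr g' = tr g := by
  classical
  obtain ⟨L, hL, hst, hsize⟩ := exists_stable hS hF
  let n := L.length
  let P : Fin n → Subgroup ↥S := fun i => (L[i]).map (MonoidHom.fst _ _)
  have hf : ∀ i : Fin n, ∃ f, IsMap F ((P i).map S.subtype) f ∧ ∀ q ∈ L[i], f (q.1 : Ω) = (q.2 : Ω) := fun i => by
    obtain ⟨f, hf, he⟩ := hL _ (List.getElem_mem i.2)
    refine ⟨f, ?_, he⟩
    rwa [Subgroup.map_map]
  choose f hfm hfe using hf
  have hfS : ∀ (i) (u : P i), f i ((u : ↥S) : Ω) ∈ S := fun i u => (hfm i).mem ⟨u, u.2, rfl⟩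
  let ψ : ∀ i, P i →* A := fun i => MonoidHom.mk' (fun u => θ ⟨_, hfS i u⟩) fun a b => by
    rw [← map_mul θ]
    exact congrArg θ (Subtype.ext ((hfm i).map_mul ⟨a, a.2, rfl⟩ ⟨b, b.2, rfl⟩))
  have hψ : ∀ i, ∀ q ∈ L[i], ∀ h : q.1 ∈ P i, ψ i ⟨q.1, h⟩ = θ q.2 := fun i q hq h =>
    congrArg θ (Subtype.ext (hfe i q hq))
  haveI : ∀ i, Fintype (↥S ⧸ P i) := fun i => Fintype.ofFinite _
  have hprodcalc : ∀ T : (i : Fin n) → A, ∀ a : A, (∀ i, P i = ⊤ → T i = a) → (∀ i, P i ≠ ⊤ → T i = 1) →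
      ∏ i, T i = a ^ (Finset.univ.filter fun i : Fin n => P i = ⊤).card := by
    intro T a h1 h2
    rw [← Finset.prod_filter_mul_prod_filter_not Finset.univ (fun i : Fin n => P i = ⊤),
      Finset.prod_congr rfl fun i hi => h1 i (Finset.mem_filter.1 hi).2, Finset.prod_const,
      Finset.prod_eq_one (s := Finset.univ.filter fun i : Fin n => ¬ P i = ⊤) fun i hi => h2 i (Finset.mem_filter.1 hi).2,
      mul_one]
  refine ⟨n, P, ψ, _, ?_, fun i => ⟨f i, hfm i, fun u => ⟨_, rfl, rfl⟩⟩, hprodcalc, ?_⟩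
  · intro hd
    refine hsize ?_
    have hc : ∀ i : Fin n, Nat.card L[i] = Nat.card (P i) := fun i => by
      refine ((hL _ (List.getElem_mem i.2)).card_fstImg.trans ?_)
      rw [← Subgroup.card_map_of_injective (K := P i) S.subtype_injective, Subgroup.map_map]
      rfl
    have h1 : orbitCount L = ∑ i : Fin n, Nat.card ↥S / Nat.card (P i) := by
      unfold orbitCount
      conv_lhs => rw [← List.ofFn_getElem (xs := L), List.map_ofFn, List.sum_ofFn]
      exact Finset.sum_congr rfl fun i _ => congrArg (Nat.card ↥S / ·) (hc i)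
    rw [h1, ← Finset.sum_filter_add_sum_filter_not Finset.univ (fun i : Fin n => P i = ⊤)]
    refine dvd_add ?_ (Finset.dvd_sum fun i hi => ?_)
    · rw [Finset.sum_congr rfl fun i hi => (by
        rw [(Finset.mem_filter.1 hi).2, Nat.card_congr (Subgroup.topEquiv (G := ↥S)).toEquiv,
          Nat.div_self Nat.card_pos] : Nat.card ↥S / Nat.card (P i) = 1)]
      simpa using hd
    · rw [← (P i).card_mul_index, Nat.mul_div_cancel_left _ Nat.card_pos]
      obtain ⟨k, hk⟩ := hS.index (P i)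
      rw [hk]
      refine dvd_pow_self p fun h0 => (Finset.mem_filter.1 hi).2 ?_
      rw [← Subgroup.index_eq_one, hk, h0, pow_zero]
  · -- the transfer as a product over a section of the right orbits
    let J := Σ i : Fin n, ↥S ⧸ P i
    let tr : ↥S →* A := MonoidHom.mk' (fun g => ∏ i, ∏ c, tfac (ψ i) g c) fun a b => by
      rw [← Finset.prod_mul_distrib]
      refine Finset.prod_congr rfl fun i _ => ?_
      simp only [tfac_mul, Finset.prod_mul_distrib]
      exact congrArg (· * _) (Equiv.prod_comp (MulAction.toPerm b) fun c => tfac (ψ i) a c)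
    refine ⟨tr, fun g inst => ?_, ?_⟩
    · simp only [tr, MonoidHom.mk'_apply]
      refine Finset.prod_congr rfl fun i _ => ?_
      exact Finset.prod_congr (by ext; simp) fun _ _ => rfl
    have hu : ∀ (i : Fin n) (a : ↥S), (QuotientGroup.mk a : ↥S ⧸ P i).out⁻¹ * a ∈ P i := fun i a =>
      QuotientGroup.eq.1 (QuotientGroup.out_eq' _)
    let Θ : Cosets L → A := fun x => Quotient.liftOn' x.2
      (fun q => θ q.2 * (ψ x.1 ⟨_, hu x.1 q.1⟩)⁻¹) (by
        intro q q' h
        rw [QuotientGroup.leftRel_apply] at h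
        have hq' : q' = q * (q⁻¹ * q') := (mul_inv_cancel_left q q').symm
        have hm : (q⁻¹ * q').1 ∈ P x.1 := ⟨_, h, rfl⟩
        have hc : (QuotientGroup.mk q'.1 : ↥S ⧸ P x.1) = QuotientGroup.mk q.1 := (QuotientGroup.eq.2 hm).symm
        have h1 : (⟨_, hu x.1 q'.1⟩ : P x.1) = ⟨_, hu x.1 q.1⟩ * ⟨_, hm⟩ := Subtype.ext (by
          show (QuotientGroup.mk q'.1 : ↥S ⧸ P x.1).out⁻¹ * q'.1 = _ * (q.1⁻¹ * q'.1)
          rw [hc]; simp [mul_assoc])
        have h2 : θ q'.2 = θ q.2 * θ (q⁻¹ * q').2 := by rw [← map_mul]; exact congrArg θ (congrArg Prod.snd hq')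
        show θ q.2 * _ = θ q'.2 * _
        rw [h1, h2, map_mul, hψ x.1 _ h hm]
        exact cancel_aux _ _ _)
    have hΘmk : ∀ (i : Fin n) (q : ↥S × ↥S), Θ ⟨i, QuotientGroup.mk q⟩ = θ q.2 * (ψ i ⟨_, hu i q.1⟩)⁻¹ :=
      fun i q => rfl
    let ρ : J → Cosets L := fun j => ⟨j.1, QuotientGroup.mk (j.2.out, 1)⟩
    let pr : Cosets L → J := fun x => ⟨x.1, Quotient.liftOn' x.2 (fun q => (QuotientGroup.mk q.1 : ↥S ⧸ P x.1)) (by
      intro q q' h
      rw [QuotientGroup.leftRel_apply] at h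
      exact QuotientGroup.eq.2 ⟨_, h, rfl⟩)⟩
    have hΘs : ∀ (s : ↥S) x, Θ (((1, s) : ↥S × ↥S) • x) = θ s * Θ x := by
      rintro s ⟨i, x⟩
      obtain ⟨q, rfl⟩ := QuotientGroup.mk_surjective x
      show Θ ⟨i, QuotientGroup.mk ((1, s) * q)⟩ = _
      rw [hΘmk, hΘmk]
      simp only [Prod.snd_mul, Prod.fst_mul, one_mul, map_mul, mul_assoc]
    have hρ : ∀ x : Cosets L, ∃ s : ↥S, ((1, s) : ↥S × ↥S) • ρ (pr x) = x := by
      rintro ⟨i, x⟩
      obtain ⟨q, rfl⟩ := QuotientGroup.mk_surjective x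
      obtain ⟨r, hr, hr1⟩ := hu i q.1
      refine ⟨q.2 * r.2⁻¹, Sigma.ext rfl (heq_of_eq ?_)⟩
      show (QuotientGroup.mk ((1, q.2 * r.2⁻¹) * ((QuotientGroup.mk q.1 : ↥S ⧸ P i).out, 1)) : (↥S × ↥S) ⧸ L[i]) =
        QuotientGroup.mk q
      refine QuotientGroup.eq.2 ?_
      have e : ((1, q.2 * r.2⁻¹) * ((QuotientGroup.mk q.1 : ↥S ⧸ P i).out, (1 : ↥S)))⁻¹ * q = r := by
        refine Prod.ext ?_ ?_
        · simpa using hr1.symm
        · simp
      rw [e]; exact hr
    have hpr : ∀ j, pr (ρ j) = j := fun j => Sigma.ext rfl (heq_of_eq (QuotientGroup.out_eq' _))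
    have hprs : ∀ (s : ↥S) x, pr (((1, s) : ↥S × ↥S) • x) = pr x := by
      rintro s ⟨i, x⟩
      obtain ⟨q, rfl⟩ := QuotientGroup.mk_surjective x
      exact Sigma.ext rfl (heq_of_eq (congrArg QuotientGroup.mk (one_mul q.1)))
    have hprg : ∀ (g : ↥S) j, pr (((g, 1) : ↥S × ↥S) • ρ j) = ⟨j.1, g • j.2⟩ := fun g j =>
      Sigma.ext rfl (heq_of_eq (by
        conv_rhs => rw [← QuotientGroup.out_eq' j.2]
        rfl))
    have htr : ∀ g, tr g = (∏ j : J, Θ (((g, 1) : ↥S × ↥S) • ρ j) / Θ (ρ j))⁻¹ := by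
      intro g
      rw [← Finset.prod_inv_distrib, Fintype.prod_sigma]
      simp only [tr, MonoidHom.mk'_apply]
      refine Finset.prod_congr rfl fun i _ => Finset.prod_congr rfl fun c _ => ?_
      show tfac (ψ i) g c = (Θ ⟨i, QuotientGroup.mk ((g, 1) * (c.out, 1))⟩ / Θ ⟨i, QuotientGroup.mk (c.out, 1)⟩)⁻¹
      rw [hΘmk, hΘmk]
      simp only [Prod.snd_mul, mul_one, map_one, one_mul, inv_div_inv]
      have h1 : ψ i ⟨_, hu i c.out⟩ = 1 := by
        refine (congrArg (ψ i) (Subtype.ext ?_)).trans (map_one _)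
        show (QuotientGroup.mk c.out : ↥S ⧸ P i).out⁻¹ * c.out = 1
        rw [QuotientGroup.out_eq', inv_mul_cancel]
      rw [h1, one_div, inv_inv]
      refine congrArg (ψ i) (Subtype.ext ?_)
      show (g • c).out⁻¹ * (g * c.out) = (QuotientGroup.mk (g * c.out) : ↥S ⧸ P i).out⁻¹ * (g * c.out)
      have hgc : g • c = QuotientGroup.mk (g * c.out) := by
        conv_lhs => rw [← QuotientGroup.out_eq' c]
        rfl
      rw [hgc]
    intro Q α hα g g' hg hg'
    obtain ⟨β, hβ⟩ := exists_twist_equiv hL hst hα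
    have hβs : ∀ (s : ↥S) x, β (((1, s) : ↥S × ↥S) • x) = ((1, s) : ↥S × ↥S) • β x := fun s x =>
      hβ 1 1 s x Q.one_mem (by rw [Subgroup.coe_one, hα.map_one])
    have hcomm : ∀ (a s : ↥S) (x : Cosets L), ((a, 1) : ↥S × ↥S) • ((1, s) : ↥S × ↥S) • x =
        ((1, s) : ↥S × ↥S) • ((a, 1) : ↥S × ↥S) • x := fun a s x => by
      rw [← mul_smul, ← mul_smul]; simp
    let R : ↥S → Cosets L → A := fun a x => Θ (((a, 1) : ↥S × ↥S) • x) / Θ x
    have hR : ∀ a x, R a x = R a (ρ (pr x)) := by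
      intro a x
      obtain ⟨s, hs⟩ := hρ x
      conv_lhs => rw [← hs]
      simp only [R, hcomm, hΘs, mul_div_mul_left_eq_div]
    let γ : J → J := fun j => pr (β (ρ j))
    have hγ : Function.Bijective γ := Finite.surjective_iff_bijective.1 fun j => by
      obtain ⟨s, hs⟩ := hρ (β.symm (ρ j))
      refine ⟨pr (β.symm (ρ j)), ?_⟩
      have := congrArg (fun x => pr (β x)) hs
      simp only [hβs, hprs, Equiv.apply_symm_apply, hpr] at this
      exact this
    let d : Cosets L → A := fun x => Θ (β x) / Θ x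
    have hd : ∀ x, d x = d (ρ (pr x)) := by
      intro x
      obtain ⟨s, hs⟩ := hρ x
      conv_lhs => rw [← hs]
      simp only [d, hβs, hΘs, mul_div_mul_left_eq_div]
    rw [htr, htr, inv_inj]
    show ∏ j, R g' (ρ j) = ∏ j, R g (ρ j)
    rw [← hγ.prod_comp]
    have hterm : ∀ j, R g' (ρ (γ j)) = R g (ρ j) * (d (ρ ⟨j.1, g • j.2⟩) / d (ρ j)) := by
      intro j
      rw [← hR, ← hprg, ← hd]
      simp only [R, d, ← hβ g g' 1 (ρ j) hg hg']
      exact ratio_aux _ _ _ _
    rw [Finset.prod_congr rfl fun j _ => hterm j, Finset.prod_mul_distrib]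
    have hperm : ∏ j : J, d (ρ ⟨j.1, g • j.2⟩) = ∏ j : J, d (ρ j) :=
      Equiv.prod_comp (Equiv.sigmaCongrRight fun i : Fin n => MulAction.toPerm g) fun j => d (ρ j)
    have h2 : ∏ j : J, d (ρ ⟨j.1, g • j.2⟩) / d (ρ j) = 1 := by rw [Finset.prod_div_distrib, hperm, div_self']
    rw [h2, mul_one]

/-- Yoshida's theorem: if `N_F(S)` does not control transfer, `S` maps onto `C_p ≀ C_p`. -/
theorem exists_wreath_of_focal [Finite S] [Fact p.Prime] (hS : IsPGroup p S) (hF : F.IsSaturated p)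
    {K : Subgroup Ω} (hKS : K ≤ S) (hK : ⁅(S : Subgroup Ω), (S : Subgroup Ω)⁆ ≤ K)
    (hKα : ∀ α ∈ F.autGroup S, ∀ x ∈ S, x⁻¹ * autFun α x ∈ K)
    (hne : ¬ F.focalSubgroup ≤ (frattini ↥S).map S.subtype ⊔ K) :
    ∃ f : ↥S →* Multiplicative (ZMod p) ≀ᵣ Multiplicative (ZMod p), Function.Surjective f := by
  classical
  set A := Multiplicative (ZMod p)
  have hA : Nat.card A = p := by rw [Nat.card_congr Multiplicative.toAdd, Nat.card_zmod]
  -- a character killing `K` but not the focal subgroup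
  obtain ⟨M, hKM, hM, hMfoc⟩ : ∃ M : Subgroup ↥S, ((frattini ↥S).map S.subtype ⊔ K).subgroupOf S ≤ M ∧
      IsCoatom M ∧ ¬ F.focalSubgroup.subgroupOf S ≤ M := by
    by_contra hno
    push Not at hno
    refine hne fun x hx => ?_
    have hxS : x ∈ S := by
      rw [focal_eq hS hF] at hx
      exact sup_le (hyperfocal_le hS) (Subgroup.commutator_le.2 fun a ha b hb =>
        S.mul_mem (S.mul_mem (S.mul_mem ha hb) (S.inv_mem ha)) (S.inv_mem hb)) hx
    set V := ((frattini ↥S).map S.subtype ⊔ K).subgroupOf S with hV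
    haveI hVn : V.Normal := by
      refine ⟨fun a ha b => ?_⟩
      have h1 : ⁅(b : Ω), (a : Ω)⁆ ∈ (frattini ↥S).map S.subtype ⊔ K :=
        Subgroup.mem_sup_right (hK (Subgroup.commutator_mem_commutator b.2 a.2))
      have := ((frattini ↥S).map S.subtype ⊔ K).mul_mem h1 ha
      show (b : Ω) * (a : Ω) * (b : Ω)⁻¹ ∈ (frattini ↥S).map S.subtype ⊔ K
      simpa [commutatorElement_def] using this
    by_contra hxV
    have hΦV : frattini ↥S ≤ V := fun y hy => Subgroup.mem_sup_left ⟨y, hy, rfl⟩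
    have hbot : frattini (↥S ⧸ V) ≤ ⊥ := by
      refine CfsgLib.Solv.frattini_le_of_elementary (p := p) ⊥ ?_ fun q => ?_
      · refine (commutator_def (↥S ⧸ V)).le.trans (Subgroup.commutator_le.2 fun a _ b _ => ?_)
        obtain ⟨a, rfl⟩ := QuotientGroup.mk'_surjective V a
        obtain ⟨b, rfl⟩ := QuotientGroup.mk'_surjective V b
        rw [← map_commutatorElement, Subgroup.mem_bot]
        exact (QuotientGroup.eq_one_iff _).2 (hΦV (CfsgLib.Solv.commutator_le_frattini hS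
          (Subgroup.commutator_mem_commutator (Subgroup.mem_top a) (Subgroup.mem_top b))))
      · obtain ⟨y, rfl⟩ := QuotientGroup.mk'_surjective V q
        rw [← map_pow, Subgroup.mem_bot]
        exact (QuotientGroup.eq_one_iff _).2 (hΦV (pow_mem_frattini hS y))
    have hxb : QuotientGroup.mk' V ⟨x, hxS⟩ ∉ frattini (↥S ⧸ V) := fun h =>
      hxV ((QuotientGroup.eq_one_iff (⟨x, hxS⟩ : ↥S)).1 (Subgroup.mem_bot.1 (hbot h)))
    rw [frattini, Order.radical] at hxb
    simp only [Subgroup.mem_iInf, not_forall] at hxb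
    obtain ⟨C, hC, hxC⟩ := hxb
    have hsurj := QuotientGroup.mk'_surjective V
    refine hxC (hno (C.comap (QuotientGroup.mk' V)) (fun y hy => ?_)
      (Subgroup.isCoatom_comap_of_surjective hsurj hC) (show (⟨x, hxS⟩ : ↥S) ∈ F.focalSubgroup.subgroupOf S from hx))
    rw [Subgroup.mem_comap, show QuotientGroup.mk' V y = 1 from (QuotientGroup.eq_one_iff y).2 hy]
    exact one_mem _
  haveI hMn : M.Normal := coatom_normal hS hM
  have hidx : Nat.card (↥S ⧸ M) = p := index_coatom hS hM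
  haveI : IsCyclic (↥S ⧸ M) := isCyclic_of_prime_card hidx
  let e : ↥S ⧸ M ≃* A := mulEquivOfCyclicCardEq (hidx.trans hA.symm)
  let θ : ↥S →* A := e.toMonoidHom.comp (QuotientGroup.mk' M)
  have hθ : ∀ g, θ g = 1 ↔ g ∈ M := fun g => by
    show e (QuotientGroup.mk g) = 1 ↔ _
    rw [e.map_eq_one_iff, QuotientGroup.eq_one_iff]
  have hθK : ∀ g : ↥S, (g : Ω) ∈ K → θ g = 1 := fun g hg => (hθ g).2 (hKM (Subgroup.mem_sup_right hg))
  -- a focal element of least order with nontrivial value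
  have hex : ∃ k, ∃ g : ↥S, (g : Ω) ∈ F.focalSubgroup ∧ θ g ≠ 1 ∧ orderOf g = k := by
    obtain ⟨g, hg, hgM⟩ := SetLike.not_le_iff_exists.1 hMfoc
    exact ⟨_, g, hg, fun h => hgM ((hθ g).1 h), rfl⟩
  obtain ⟨g, hgfoc, hgθ, hgord⟩ := Nat.find_spec hex
  have hmin : ∀ y : ↥S, (y : Ω) ∈ F.focalSubgroup → orderOf y < orderOf g → θ y = 1 := fun y hy hlt => by
    by_contra h
    exact Nat.find_min hex (hgord ▸ hlt) ⟨y, hy, h, rfl⟩
  obtain ⟨n, P, ψ, N, hN, hψ, hprod, tr, htr, hstab⟩ := exists_stable_tfac hS hF θ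
  haveI : ∀ i, Fintype (↥S ⧸ P i) := fun i => Fintype.ofFinite _
  -- the transfer kills the focal subgroup
  have hfocS : F.focalSubgroup ≤ tr.ker.map S.subtype := by
    rw [focal_eq hS hF]
    refine sup_le (hyperfocal_le_iff.2 fun Q hQ α hα _ x hx => ?_) ?_
    · refine ⟨(⟨x, hQ hx⟩ : ↥S)⁻¹ * ⟨_, hQ (autFun_mem α hx)⟩, ?_, rfl⟩
      rw [SetLike.mem_coe, MonoidHom.mem_ker, map_mul, map_inv,
        hstab Q α ((mem_autGroup hQ).1 hα) ⟨x, hQ hx⟩ ⟨_, hQ (autFun_mem α hx)⟩ hx rfl, inv_mul_cancel]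
    · rw [← map_commutator_subtype S]
      refine Subgroup.map_mono ((commutator_def ↥S).le.trans (Subgroup.commutator_le.2 fun a _ b _ => ?_))
      rw [MonoidHom.mem_ker, map_commutatorElement, commutatorElement_eq_one_iff_mul_comm]
      exact mul_comm _ _
  have htrg : tr g = 1 := by
    obtain ⟨g', hg', he⟩ := hfocS hgfoc
    rw [← Subtype.ext (show (g' : Ω) = g from he)]
    exact hg'
  have hfocn : ∀ (c : ↥S) (y : ↥S), (y : Ω) ∈ F.focalSubgroup → ((c⁻¹ * y * c : ↥S) : Ω) ∈ F.focalSubgroup := by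
    intro c y hy
    have h1 : ⁅((c⁻¹ : ↥S) : Ω), (y : Ω)⁆ ∈ F.focalSubgroup := by
      rw [focal_eq hS hF]; exact Subgroup.mem_sup_right (Subgroup.commutator_mem_commutator (c⁻¹).2 y.2)
    have := F.focalSubgroup.mul_mem h1 hy
    rw [commutatorElement_def, inv_mul_cancel_right] at this
    simpa using this
  have hθconj : ∀ c y : ↥S, θ (c⁻¹ * y * c) = θ y := fun c y => by
    rw [map_mul, map_mul, map_inv, mul_comm, ← mul_assoc, mul_inv_cancel, one_mul]
  obtain ⟨i, hi, hTi⟩ : ∃ i, P i ≠ ⊤ ∧ ∏ c, tfac (ψ i) g c ≠ 1 := by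
    by_contra hno
    push Not at hno
    have htop : ∀ i, P i = ⊤ → ∏ c, tfac (ψ i) g c = θ g := by
      intro i hi
      haveI : Subsingleton (↥S ⧸ P i) := by rw [hi]; exact QuotientGroup.subsingleton_quotient_top
      obtain ⟨f, hf, hfψ⟩ := hψ i
      rw [Fintype.prod_subsingleton _ (QuotientGroup.mk 1), tfac]
      set u : P i := ⟨_, _⟩ with hu
      obtain ⟨s, hs, hsθ⟩ := hfψ u
      rw [hsθ]
      rw [hi, ← MonoidHom.range_eq_map, Subgroup.range_subtype] at hf
      obtain ⟨α, hα, hαe⟩ := exists_aut hf (Subgroup.eq_of_le_of_card_ge hf.img_le hf.card_img.ge)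
      have h1 : θ ((u : ↥S)⁻¹ * s) = 1 := hθK _ (by
        show ((u : ↥S) : Ω)⁻¹ * (s : Ω) ∈ K
        rw [← hs, ← hαe _ (u : ↥S).2]
        exact hKα α hα _ (u : ↥S).2)
      rw [map_mul, map_inv, inv_mul_eq_one] at h1
      rw [← h1]
      show θ ((g • (QuotientGroup.mk 1 : ↥S ⧸ P i)).out⁻¹ * (g * (QuotientGroup.mk 1 : ↥S ⧸ P i).out)) = θ g
      rw [Subsingleton.elim (g • (QuotientGroup.mk 1 : ↥S ⧸ P i)) (QuotientGroup.mk 1), ← mul_assoc, hθconj]
    have h := hprod _ _ htop hno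
    rw [← htr, htrg] at h
    refine hgθ (orderOf_eq_one_iff.1 (Nat.eq_one_of_dvd_coprimes
      ((Fact.out : p.Prime).coprime_iff_not_dvd.2 hN) ?_ (orderOf_dvd_of_pow_eq_one h.symm)))
    have h1 := orderOf_dvd_natCard (θ g)
    rwa [hA] at h1
  obtain ⟨M', hM', hPM'⟩ := (eq_top_or_exists_le_coatom (P i)).resolve_left hi
  haveI : M'.Normal := coatom_normal hS hM'
  have hidx' : Nat.card (↥S ⧸ M') = p := index_coatom hS hM'
  haveI : IsCyclic (↥S ⧸ M') := isCyclic_of_prime_card hidx'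
  let e' : ↥S ⧸ M' ≃* A := mulEquivOfCyclicCardEq (hidx'.trans hA.symm)
  let π' : ↥S →* A := e'.toMonoidHom.comp (QuotientGroup.mk' M')
  have hπ' : ∀ y, π' y = 1 ↔ y ∈ M' := fun y => by
    show e' (QuotientGroup.mk y) = 1 ↔ _
    rw [e'.map_eq_one_iff, QuotientGroup.eq_one_iff]
  refine exists_surjective_wreath hA hS (ψ i) π' (e'.surjective.comp (QuotientGroup.mk'_surjective M'))
    (fun x hx => (hπ' x).2 (hPM' hx)) ((hπ' g).2 ?_) hTi
  -- an element moving every coset would have trivial transfer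
  by_contra hgM
  refine hTi ((prod_eq_of_cycles (MulAction.toPerm g) (fun c => tfac (ψ i) g c) (fun _ => 1) fun c k hk hfx => ?_).trans
    Finset.prod_const_one)
  rw [show ⇑(MulAction.toPerm g : Equiv.Perm (↥S ⧸ P i)) = (g • ·) from rfl] at hfx ⊢
  rw [tfac_pow, Finset.prod_const_one]
  rw [smul_iterate] at hfx
  change g ^ k • c = c at hfx
  have hfix := pow_smul_eq_self_iff.1 hfx
  obtain ⟨f, hf, hfψ⟩ := hψ i
  rw [tfac]
  simp only [hfx]
  set u : P i := ⟨c.out⁻¹ * (g ^ k * c.out), _⟩ with hu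
  obtain ⟨s, hs, hsθ⟩ := hfψ u
  rw [hsθ]
  have hufoc : (((u : P i) : ↥S) : Ω) ∈ F.focalSubgroup := by
    rw [show ((u : P i) : ↥S) = c.out⁻¹ * g ^ k * c.out from (mul_assoc _ _ _).symm]
    exact hfocn _ _ (by rw [Subgroup.coe_pow]; exact F.focalSubgroup.pow_mem hgfoc k)
  have hmem : ((u : ↥S) : Ω) ∈ (P i).map S.subtype := ⟨u, u.2, rfl⟩
  refine hmin s ?_ ?_
  · have h1 : ((u : ↥S) : Ω)⁻¹ * f ((u : ↥S) : Ω) ∈ F.focalSubgroup := by
      obtain ⟨φ, hφ, hφe⟩ := hf
      exact Subgroup.subset_closure ⟨_, φ, ⟨_, hmem⟩, hφ, by rw [hφe]⟩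
    have := F.focalSubgroup.mul_mem hufoc h1
    rwa [mul_inv_cancel_left, hs] at this
  · have hdk : p ∣ k := by
      by_contra hd
      obtain ⟨l, hl⟩ := IsPGroup.iff_orderOf.1 hS g
      obtain ⟨a, ha⟩ := exists_pow_eq_self_of_coprime (x := g) (n := k)
        (hl ▸ (((Fact.out : p.Prime).coprime_iff_not_dvd.2 hd).symm.pow_right l))
      have hga : g • c = c := by
        have h2 : ∀ j : ℕ, (g ^ k) ^ j • c = c := fun j => by
          induction j with
          | zero => rw [pow_zero, one_smul]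
          | succ j ih => rw [pow_succ, mul_smul, hfx, ih]
        rw [← ha]; exact h2 a
      refine hgM ?_
      have := hPM' (pow_smul_eq_self_iff.1 hga)
      have h3 := ‹M'.Normal›.conj_mem _ this c.out
      simpa [mul_assoc] using h3
    have hsu : orderOf s = orderOf (u : ↥S) := by
      have h1 : ∀ j : ℕ, ((s ^ j : ↥S) : Ω) = f (((u : ↥S) ^ j : ↥S) : Ω) := fun j => by
        rw [Subgroup.coe_pow, Subgroup.coe_pow, hf.map_pow hmem, hs]
      refine orderOf_eq_orderOf_iff.2 fun j => ⟨fun h => Subtype.ext (hf.inj ?_ (Subgroup.one_mem _) ?_), fun h => ?_⟩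
      · exact ⟨_, (P i).pow_mem u.2 j, rfl⟩
      · rw [← h1, h, Subgroup.coe_one, hf.map_one]
      · refine Subtype.ext ?_
        rw [h1, h, Subgroup.coe_one, hf.map_one]
    rw [hsu, show ((u : P i) : ↥S) = c.out⁻¹ * g ^ k * c.out from (mul_assoc _ _ _).symm]
    have hc : orderOf (c.out⁻¹ * g ^ k * c.out) = orderOf (g ^ k) := by
      have := (MulAut.conj c.out⁻¹).orderOf_eq (g ^ k)
      simpa using this
    rw [hc, orderOf_pow' g hk.ne']
    refine Nat.div_lt_self (orderOf_pos g) ?_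
    have hg1 : g ≠ 1 := fun h => hgθ (by rw [h, map_one])
    obtain ⟨l, hl⟩ := IsPGroup.iff_orderOf.1 hS g
    have hl0 : l ≠ 0 := fun h0 => hg1 (orderOf_eq_one_iff.1 (by rw [hl, h0, pow_zero]))
    exact lt_of_lt_of_le (Fact.out : p.Prime).one_lt
      (Nat.le_of_dvd (Nat.gcd_pos_of_pos_left _ (orderOf_pos g))
        (Nat.dvd_gcd (hl ▸ dvd_pow_self p hl0) hdk))

end CfsgLib.Fus
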