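import Cfsg.Agent.Fus.ZassenhausOdd

/-!
Normal subgroups of Zassenhaus groups.
-/

set_option autoImplicit false
set_option linter.style.haveILetI false

namespace CfsgLib.Fus.ZassenhausNormal

open scoped Pointwise
open CfsgLib.Fus.ZassenhausOdd (normal_transitive)

variable {G Ω : Type*} [Group G] [MulAction G Ω] [Finite G]

theorem pair_stab (hf : FaithfulSMul G Ω)
    (h2g : ∀ a b c d : Ω, a ≠ b → c ≠ d → ∃ g : G, g • a = c ∧ g • b = d)
    (h5 : ∀ N : Subgroup G, N.Normal → MulAction.IsPretransitive N Ω → ∃ a : Ω, MulAction.stabilizer N a ≠ ⊥)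
    (hthree : ∀ a : Ω, ∃ b, b ≠ a) {N : Subgroup G} [hN : N.Normal] [hNt : MulAction.IsPretransitive N Ω]
    (a' b' : Ω) (hab : a' ≠ b') : ∃ y : G, y ∈ N ∧ y ≠ 1 ∧ y • a' = a' ∧ y • b' = b' := by
  classical
  suffices h : ∃ x : G, x ∈ N ∧ x ≠ 1 ∧ ∃ c d : Ω, c ≠ d ∧ x • c = c ∧ x • d = d by
    obtain ⟨x, hxN, hx1, c, d, hcd, hxc, hxd⟩ := h
    obtain ⟨g, hgc, hgd⟩ := h2g c d a' b' hcd hab
    refine ⟨g * x * g⁻¹, hN.conj_mem x hxN g, fun e => hx1 (conj_eq_one_iff.1 e), ?_, ?_⟩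
    · rw [mul_smul, mul_smul, show g⁻¹ • a' = c by rw [← hgc, inv_smul_smul], hxc, hgc]
    · rw [mul_smul, mul_smul, show g⁻¹ • b' = d by rw [← hgd, inv_smul_smul], hxd, hgd]
  obtain ⟨a, ha⟩ := h5 N hN hNt
  set H := MulAction.stabilizer (↥N) a
  by_contra htwo
  push Not at htwo
  have hHfrob : Cfsg.IsFrobeniusComplement H := by
    refine ⟨ha, ?_, fun g hg => ?_⟩
    · intro h
      obtain ⟨b, hb⟩ := hthree a
      obtain ⟨x, hx⟩ := MulAction.exists_smul_eq (↥N) a b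
      have : x ∈ H := h ▸ Subgroup.mem_top x
      exact hb (hx.symm.trans this)
    · rw [eq_bot_iff]
      intro z hz
      obtain ⟨h1, w, hw, rfl⟩ := Subgroup.mem_inf.1 hz
      rw [Subgroup.mem_bot]
      by_contra hz1
      have hne' : (g : G) • a ≠ a := hg
      refine htwo _ ((MulAut.conj g • w : ↥N)).2 (fun e => hz1 (Subtype.ext e)) a ((g : G) • a) (Ne.symm hne') h1 ?_
      show ((g : G) * (w : G) * (g : G)⁻¹) • ((g : G) • a) = _
      rw [smul_smul, inv_mul_cancel_right, mul_smul, show (w : G) • a = a from hw]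
  obtain ⟨K, hKset, hKn, hKc⟩ := CfsgLib.Solv.frobenius_theorem hHfrob
  have hKfree : ∀ x : ↥N, x ∈ K ↔ x = 1 ∨ ∀ c : Ω, (x : G) • c ≠ c := by
    intro x
    rw [← SetLike.mem_coe, hKset, CfsgLib.Solv.mem_frobeniusKernel_iff]
    refine or_congr_right ⟨fun h c hc => ?_, fun h g hg => ?_⟩
    · obtain ⟨g, hg⟩ := MulAction.exists_smul_eq (↥N) a c
      refine h g ?_
      show ((g⁻¹ * x * g : ↥N) : G) • a = a
      have hg' : (g : G) • a = c := hg
      rw [Subgroup.coe_mul, Subgroup.coe_mul, Subgroup.coe_inv, mul_smul, mul_smul, hg', hc, inv_smul_eq_iff, hg']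
    · refine h ((g : G) • a) ?_
      have hg' : ((g⁻¹ * x * g : ↥N) : G) • a = a := hg
      rw [Subgroup.coe_mul, Subgroup.coe_mul, Subgroup.coe_inv, mul_smul, mul_smul, inv_smul_eq_iff] at hg'
      exact hg'
  set K' := K.map N.subtype
  haveI hK'n : K'.Normal := by
    refine ⟨?_⟩
    rintro _ ⟨x, hx, rfl⟩ g
    refine ⟨⟨g * (x : G) * g⁻¹, hN.conj_mem _ x.2 g⟩, (hKfree _).2 ?_, rfl⟩
    rcases (hKfree x).1 hx with rfl | h
    · left; exact Subtype.ext (by simp)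
    · right
      intro c hc
      refine h (g⁻¹ • c) ?_
      have hc' : (g * (x : G) * g⁻¹) • c = c := hc
      rw [mul_smul, mul_smul, ← eq_inv_smul_iff] at hc'
      exact hc'
  have hK'ne : K' ≠ ⊥ := by
    rw [Ne, Subgroup.map_eq_bot_iff_of_injective _ N.subtype_injective]
    intro h
    have h' := hKc.sup_eq_top
    rw [h, bot_sup_eq] at h'
    exact hHfrob.2.1 h'
  haveI hK't : MulAction.IsPretransitive K' Ω := ⟨fun u v => by
    obtain ⟨x, hx, h⟩ := normal_transitive hf h2g (N := K') hK'ne u v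
    exact ⟨⟨x, hx⟩, h⟩⟩
  obtain ⟨b, hb⟩ := h5 K' hK'n hK't
  obtain ⟨⟨_, x, hx, rfl⟩, hy, hy1⟩ := (MulAction.stabilizer (↥K') b).bot_or_exists_ne_one.resolve_left hb
  rcases (hKfree x).1 hx with rfl | h
  · exact hy1 (Subtype.ext (by simp))
  · exact h b hy


theorem stab_transitive (hf : FaithfulSMul G Ω)
    (h2g : ∀ a b c d : Ω, a ≠ b → c ≠ d → ∃ g : G, g • a = c ∧ g • b = d)
    (h3 : ∀ g : G, ∀ a b c : Ω, a ≠ b → b ≠ c → a ≠ c → g • a = a → g • b = b → g • c = c → g = 1)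
    {N : Subgroup G} [hN : N.Normal] (a : Ω) (ha : MulAction.stabilizer (↥N) a ≠ ⊥)
    (hne2 : ∀ b : Ω, b ≠ a → ∃ y : G, y ∈ N ∧ y ≠ 1 ∧ y • a = a ∧ y • b = b) :
    ∀ b d : Ω, b ≠ a → d ≠ a → ∃ h : ↥N, (h : G) • a = a ∧ (h : G) • d = b := by
  classical
  set H := MulAction.stabilizer (↥N) a
  let D : Ω → Subgroup ↥H := fun b => (MulAction.stabilizer G b).comap (N.subtype.comp H.subtype)
  have hfrob : ∀ b : Ω, b ≠ a → Cfsg.IsFrobeniusComplement (D b) := by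
    intro b hb
    refine ⟨?_, ?_, fun g hg => ?_⟩
    · obtain ⟨y, hyN, hy1, hya, hyb⟩ := hne2 b hb
      intro h
      have : (⟨⟨y, hyN⟩, hya⟩ : ↥H) ∈ D b := hyb
      rw [h, Subgroup.mem_bot] at this
      exact hy1 (congrArg (fun z : ↥H => ((z : ↥N) : G)) this)
    · intro h
      obtain ⟨y, hy, hy1⟩ := (MulAction.stabilizer (↥N) a).bot_or_exists_ne_one.resolve_left ha
      refine hy1 (Subtype.ext (hf.eq_of_smul_eq_smul fun c : Ω => ?_))
      rw [OneMemClass.coe_one, one_smul]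
      by_cases hc : c = a
      · subst hc; exact hy
      obtain ⟨g, hga, hgb⟩ := h2g a c a b (Ne.symm hc) hb.symm
      have hy' : (g * (y : G) * g⁻¹) • a = a := by
        rw [mul_smul, mul_smul, show g⁻¹ • a = a from inv_smul_eq_iff.2 hga.symm, show (y : G) • a = a from hy, hga]
      have hm : (⟨⟨g * (y : G) * g⁻¹, hN.conj_mem _ y.2 g⟩, hy'⟩ : ↥H) ∈ D b := h ▸ Subgroup.mem_top _
      have hm' : (g * (y : G) * g⁻¹) • b = b := hm
      rw [mul_smul, mul_smul, show g⁻¹ • b = c by rw [← hgb, inv_smul_smul], ← hgb] at hm'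
      exact MulAction.injective g hm'
    · rw [eq_bot_iff]
      intro z hz
      obtain ⟨h1, h2⟩ := Subgroup.mem_inf.1 hz
      obtain ⟨w, hw, rfl⟩ := h2
      rw [Subgroup.mem_bot]
      have hgb : ((g : ↥N) : G) • b ≠ b := hg
      have hga : ((g : ↥N) : G) • a = a := g.2
      refine Subtype.ext (Subtype.ext (h3 _ a b (((g : ↥N) : G) • b) hb.symm hgb.symm ?_ ?_ h1 ?_))
      · intro e; exact hb (MulAction.injective ((g : ↥N) : G) (by show ((g : ↥N) : G) • b = ((g : ↥N) : G) • a; rw [hga]; exact e.symm))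
      · exact ((MulAut.conj g • w : ↥H) : ↥N).2 |> fun _ => (MulAut.conj g • w : ↥H).2
      · show (((g : ↥N) : G) * ((w : ↥N) : G) * ((g : ↥N) : G)⁻¹) • (((g : ↥N) : G) • b) = _
        rw [smul_smul, inv_mul_cancel_right, mul_smul, show ((w : ↥N) : G) • b = b from hw]
  have htrans : ∀ b d : Ω, b ≠ a → d ≠ a → ∃ h : ↥H, ((h : ↥N) : G) • d = b := by
    have key : ∀ b d : Ω, b ≠ a → d ≠ a → Nat.card (D d) ≤ Nat.card (D b) → ∃ h : ↥H, ((h : ↥N) : G) • d = b := by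
      intro b d hb hd hle
      obtain ⟨g, hg⟩ := CfsgLib.Solv.frobenius_le_conj_of_card_le (hfrob b hb) (hfrob d hd) hle
      obtain ⟨w, hw, hw1⟩ := (D d).bot_or_exists_ne_one.resolve_left (hfrob d hd).1
      refine ⟨g, ?_⟩
      by_contra hne'
      have hm : (((g : ↥N) : G) * ((w : ↥N) : G) * ((g : ↥N) : G)⁻¹) • b = b := hg ⟨w, hw, rfl⟩
      have hga : ((g : ↥N) : G) • a = a := g.2
      have hwa : ((w : ↥N) : G) • a = a := w.2
      have hda : ((g : ↥N) : G) • d ≠ a := fun e => hd (MulAction.injective ((g : ↥N) : G) (by show ((g : ↥N) : G) • d = ((g : ↥N) : G) • a; rw [hga]; exact e))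
      have h1 := h3 _ a b (((g : ↥N) : G) • d) hb.symm (Ne.symm hne') hda.symm
        (by rw [mul_smul, mul_smul, show ((g : ↥N) : G)⁻¹ • a = a from inv_smul_eq_iff.2 hga.symm, hwa, hga])
        hm (by rw [smul_smul, inv_mul_cancel_right, mul_smul, show ((w : ↥N) : G) • d = d from hw])
      exact hw1 (Subtype.ext (Subtype.ext (conj_eq_one_iff.1 h1)))
    intro b d hb hd
    rcases le_total (Nat.card (D d)) (Nat.card (D b)) with h | h
    · exact key b d hb hd h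
    · obtain ⟨g, hg⟩ := key d b hd hb h
      refine ⟨g⁻¹, ?_⟩
      rw [Subgroup.coe_inv, Subgroup.coe_inv, inv_smul_eq_iff]
      exact hg.symm
  intro b d hb hd
  obtain ⟨h, hh⟩ := htrans b d hb hd
  exact ⟨h, h.2, hh⟩

theorem isZassenhaus {G Ω : Type*} [Group G] [MulAction G Ω] [Finite Ω] (hZ : Cfsg.IsZassenhausGroup G Ω)
    (N : Subgroup G) [hN : N.Normal] (hne : N ≠ ⊥) : Cfsg.IsZassenhausGroup N Ω := by
  classical
  obtain ⟨hf, h2', h3, ⟨g₀, hg₀, a₀, b₀, hab₀, hga₀, hgb₀⟩, h5⟩ := hZ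
  haveI := hf
  haveI : Finite G := Finite.of_injective (fun g : G => (fun c : Ω => g • c))
    fun g h e => hf.eq_of_smul_eq_smul fun c : Ω => congrFun e c
  have h2g : ∀ a b c d : Ω, a ≠ b → c ≠ d → ∃ g : G, g • a = c ∧ g • b = d := fun a b c d h h' =>
    MulAction.is_two_pretransitive_iff.1 h2' h h'
  have hthree : ∀ a : Ω, ∃ b, b ≠ a := fun a => (em (a₀ = a)).elim (fun h => ⟨b₀, h ▸ hab₀.symm⟩) fun h => ⟨a₀, h⟩
  haveI hNt : MulAction.IsPretransitive N Ω := ⟨fun u v => by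
    obtain ⟨x, hx, h⟩ := normal_transitive hf h2g (N := N) hne u v
    exact ⟨⟨x, hx⟩, h⟩⟩
  have hpair := pair_stab hf h2g h5 hthree (N := N)
  have hstab : ∀ a : Ω, MulAction.stabilizer (↥N) a ≠ ⊥ := fun a h => by
    obtain ⟨b, hb⟩ := hthree a
    obtain ⟨y, hyN, hy1, hya, -⟩ := hpair a b hb.symm
    have hm : (⟨y, hyN⟩ : ↥N) ∈ MulAction.stabilizer (↥N) a := hya
    rw [h, Subgroup.mem_bot] at hm
    exact hy1 (congrArg Subtype.val hm)
  have hta := fun a => stab_transitive hf h2g h3 a (hstab a) fun b hb => hpair a b hb.symm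
  have hN2 : ∀ a b c d : Ω, a ≠ b → c ≠ d → ∃ g : ↥N, g • a = c ∧ g • b = d := by
    intro a b c d hab hcd
    obtain ⟨x, hx⟩ := MulAction.exists_smul_eq (↥N) a c
    have hxb : x • b ≠ c := fun e => hab (MulAction.injective x (hx.trans e.symm))
    obtain ⟨h, hha, hhb⟩ := hta c d (x • b) hcd.symm hxb
    exact ⟨h * x, by rw [mul_smul, hx]; exact hha, by rw [mul_smul]; exact hhb⟩
  refine ⟨⟨fun {g h} e => Subtype.ext (hf.eq_of_smul_eq_smul fun c : Ω => e c)⟩,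
    MulAction.is_two_pretransitive_iff.2 fun {a b c d} h h' => hN2 a b c d h h',
    fun g a b c h1 h2 h3' ha hb hc => Subtype.ext (h3 g a b c h1 h2 h3' ha hb hc), ?_, fun R hR hRt => ?_⟩
  · obtain ⟨y, hyN, hy1, hya, hyb⟩ := hpair a₀ b₀ hab₀
    exact ⟨⟨y, hyN⟩, fun e => hy1 (congrArg Subtype.val e), a₀, b₀, hab₀, hya, hyb⟩
  by_contra hfree
  push Not at hfree
  -- a regular normal subgroup of `N` would be normal in `G`
  haveI := hR
  have hfree' : ∀ r : ↥N, r ∈ R → ∀ c : Ω, r • c = c → r = 1 := by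
    intro r hr c hc
    have hm : (⟨r, hr⟩ : ↥R) ∈ MulAction.stabilizer (↥R) c := hc
    rw [hfree c, Subgroup.mem_bot] at hm
    exact congrArg Subtype.val hm
  have hRsmul : ∀ u v : Ω, ∃ r : ↥N, r ∈ R ∧ r • u = v := by
    intro u v
    obtain ⟨⟨r, hr⟩, h⟩ := MulAction.exists_smul_eq (↥R) u v
    exact ⟨r, hr, h⟩
  have hconj : ∀ u v : ↥N, u ∈ R → v ∈ R → u ≠ 1 → v ≠ 1 → ∃ g : ↥N, g * u * g⁻¹ = v := by
    intro u v hu hv hu1 hv1
    obtain ⟨g, hga, hgu⟩ := hN2 a₀ (u • a₀) a₀ (v • a₀)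
      (fun e => hu1 (hfree' u hu a₀ e.symm)) (fun e => hv1 (hfree' v hv a₀ e.symm))
    refine ⟨g, ?_⟩
    have h1 : v⁻¹ * (g * u * g⁻¹) ∈ R := mul_mem (inv_mem hv) (hR.conj_mem u hu g)
    have h2 : (v⁻¹ * (g * u * g⁻¹)) • a₀ = a₀ := by
      rw [mul_smul, mul_smul, mul_smul, inv_smul_eq_iff.2 hga.symm, hgu, inv_smul_smul]
    exact (inv_mul_eq_one.1 (hfree' _ h1 a₀ h2)).symm
  obtain ⟨b₁, hb₁⟩ := hthree a₀
  obtain ⟨u, huR, hu⟩ := hRsmul a₀ b₁
  have hu1 : u ≠ 1 := fun e => hb₁ (by rw [← hu, e, one_smul])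
  obtain ⟨p, hp, hpd⟩ := Nat.exists_prime_and_dvd (show orderOf u ≠ 1 from fun e => hu1 (orderOf_eq_one_iff.1 e))
  set w := u ^ (orderOf u / p) with hw
  have hwo : orderOf w = p := orderOf_pow_orderOf_div (orderOf_pos u).ne' hpd
  have hwR : w ∈ R := pow_mem huR _
  have hw1 : w ≠ 1 := fun e => hp.ne_one (by rw [← hwo, e, orderOf_one])
  have hexp : ∀ r : ↥N, r ∈ R → r ^ p = 1 := by
    intro r hr
    by_cases hr1 : r = 1
    · rw [hr1, one_pow]
    obtain ⟨g, hg⟩ := hconj w r hwR hr hw1 hr1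
    rw [← hg, conj_pow, ← hwo, pow_orderOf_eq_one, mul_one, mul_inv_cancel]
  haveI : Fact p.Prime := ⟨hp⟩
  haveI : Nontrivial ↥R := ⟨⟨⟨w, hwR⟩, 1, fun e => hw1 (congrArg Subtype.val e)⟩⟩
  haveI := (show IsPGroup p ↥R from fun r => ⟨1, Subtype.ext (by
    rw [pow_one, Subgroup.coe_pow]; exact hexp r r.2)⟩).center_nontrivial
  obtain ⟨⟨⟨z, hzR⟩, hzc⟩, hz1⟩ := exists_ne (1 : ↥(Subgroup.center ↥R))
  have hz1' : z ≠ 1 := fun e => hz1 (Subtype.ext (Subtype.ext e))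
  have hcomm : ∀ r s : ↥N, r ∈ R → s ∈ R → r * s = s * r := by
    intro r s hr hs
    by_cases hr1 : r = 1
    · rw [hr1, one_mul, mul_one]
    obtain ⟨g, rfl⟩ := hconj z r hzR hr hz1' hr1
    have hs' : g⁻¹ * s * g ∈ R := by simpa using hR.conj_mem s hs g⁻¹
    have h1 : g⁻¹ * s * g * z = z * (g⁻¹ * s * g) := congrArg Subtype.val (Subgroup.mem_center_iff.1 hzc ⟨_, hs'⟩)
    calc g * z * g⁻¹ * s = g * (z * (g⁻¹ * s * g)) * g⁻¹ := by group
      _ = g * (g⁻¹ * s * g * z) * g⁻¹ := by rw [h1]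
      _ = s * (g * z * g⁻¹) := by group
  have hcent : ∀ c : ↥N, (∀ r : ↥N, r ∈ R → c * r = r * c) → c ∈ R := by
    intro c hc
    obtain ⟨r, hr, hra⟩ := hRsmul a₀ (c • a₀)
    have h1 : r⁻¹ * c = 1 := Subtype.ext (hf.eq_of_smul_eq_smul fun v : Ω => by
      show (r⁻¹ * c) • v = (1 : ↥N) • v
      rw [one_smul]
      obtain ⟨s, hs, rfl⟩ := hRsmul a₀ v
      have hcs : r⁻¹ * c * s = s * (r⁻¹ * c) := by
        rw [mul_assoc, hc s hs, ← mul_assoc, hcomm _ _ (inv_mem hr) hs, mul_assoc]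
      rw [smul_smul, hcs, mul_smul, mul_smul, ← hra, inv_smul_smul])
    rw [inv_mul_eq_one] at h1
    exact h1 ▸ hr
  have hinv : ∀ (g : G) (r : ↥N), r ∈ R → (⟨g * (r : G) * g⁻¹, hN.conj_mem _ r.2 g⟩ : ↥N) ∈ R := by
    intro g
    set φ := (MulAut.conjNormal (H := N) g).toMonoidHom
    set R' := R.map φ
    haveI hR'n : R'.Normal := hR.map φ (MulAut.conjNormal (H := N) g).surjective
    have hR'1 : φ w ≠ 1 := fun e => hw1 ((MulAut.conjNormal (H := N) g).injective (e.trans (map_one φ).symm))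
    obtain ⟨x, hxR, hxR', hx1⟩ : ∃ x : ↥N, x ∈ R ∧ x ∈ R' ∧ x ≠ 1 := by
      by_contra h
      push Not at h
      have hd : ∀ x ∈ R', x ∈ R := fun x hx => hcent x fun r hr => by
        have h1 := h (x * r * x⁻¹ * r⁻¹) (mul_mem (hR.conj_mem r hr x) (inv_mem hr)) (by
          rw [show x * r * x⁻¹ * r⁻¹ = x * (r * x⁻¹ * r⁻¹) by group]
          exact mul_mem hx (hR'n.conj_mem _ (inv_mem hx) r))
        rw [mul_inv_eq_one, mul_inv_eq_iff_eq_mul] at h1
        exact h1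
      exact hR'1 (h _ (hd _ ⟨w, hwR, rfl⟩) ⟨w, hwR, rfl⟩)
    have hle : R ≤ R' := by
      intro r hr
      by_cases hr1 : r = 1
      · rw [hr1]; exact one_mem _
      obtain ⟨k, rfl⟩ := hconj x r hxR hr hx1 hr1
      exact hR'n.conj_mem x hxR' k
    have he : R = R' := Subgroup.eq_of_le_of_card_ge hle (Subgroup.card_map_of_injective (f := φ) (K := R) (MulAut.conjNormal (H := N) g).injective).le
    intro r hr
    have hm : φ r ∈ R := he ▸ Subgroup.mem_map_of_mem φ hr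
    have e : (⟨g * (r : G) * g⁻¹, hN.conj_mem _ r.2 g⟩ : ↥N) = φ r :=
      Subtype.ext (MulAut.conjNormal_apply (H := N) g r).symm
    rw [e]; exact hm
  set R₀ := R.map N.subtype
  haveI hR0n : R₀.Normal := ⟨by
    rintro _ ⟨r, hr, rfl⟩ g
    exact Subgroup.mem_map.2 ⟨_, hinv g r hr, rfl⟩⟩
  haveI hR0t : MulAction.IsPretransitive R₀ Ω := ⟨fun u v => by
    obtain ⟨r, hr, h⟩ := hRsmul u v
    exact ⟨⟨N.subtype r, Subgroup.mem_map.2 ⟨r, hr, rfl⟩⟩, h⟩⟩
  obtain ⟨b, hb⟩ := h5 R₀ hR0n hR0t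
  obtain ⟨⟨_, r, hr, rfl⟩, hy, hy1⟩ := (MulAction.stabilizer (↥R₀) b).bot_or_exists_ne_one.resolve_left hb
  exact hy1 (Subtype.ext ((congrArg N.subtype (hfree' r hr b hy)).trans (map_one _)))

end CfsgLib.Fus.ZassenhausNormal
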