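import Cfsg.Prelude.Def_LieExceptional
import Cfsg.Agent.Solv.FrobeniusAction
import Cfsg.Agent.S0740
import Mathlib.GroupTheory.GroupAction.MultipleTransitivity

/-!
Zassenhaus groups of odd degree are simple.
-/

set_option autoImplicit false
set_option linter.style.haveILetI false

namespace CfsgLib.Fus.ZassenhausOdd

open scoped Pointwise

variable {G Ω : Type*} [Group G] [MulAction G Ω]

/-- A nontrivial normal subgroup of a 2-transitive faithful group is transitive. -/
theorem normal_transitive (hf : FaithfulSMul G Ω)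
    (h2 : ∀ a b c d : Ω, a ≠ b → c ≠ d → ∃ g : G, g • a = c ∧ g • b = d)
    {N : Subgroup G} [hN : N.Normal] (hne : N ≠ ⊥) (u v : Ω) : ∃ x ∈ N, x • u = v := by
  obtain ⟨x, hx, hx1⟩ := N.bot_or_exists_ne_one.resolve_left hne
  obtain ⟨a, ha⟩ : ∃ a : Ω, x • a ≠ a := by
    by_contra h
    push Not at h
    exact hx1 (hf.eq_of_smul_eq_smul fun c : Ω => by rw [h c, one_smul])
  by_cases huv : u = v
  · exact ⟨1, one_mem _, by rw [one_smul, huv]⟩
  obtain ⟨g, hga, hgb⟩ := h2 a (x • a) u v (Ne.symm ha) huv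
  refine ⟨g * x * g⁻¹, hN.conj_mem x hx g, ?_⟩
  rw [mul_smul, mul_smul, show g⁻¹ • u = a by rw [← hga, inv_smul_smul], hgb]

theorem isSimple [Fintype Ω] (hZ : Cfsg.IsZassenhausGroup G Ω) (hodd : Odd (Fintype.card Ω)) : IsSimpleGroup G := by
  classical
  have hZ' := hZ
  obtain ⟨hf, h2', h3, ⟨g₀, hg₀, a₀, b₀, hab₀, hga₀, hgb₀⟩, h5⟩ := hZ'
  haveI := hf
  haveI : Finite G := Finite.of_injective (fun g : G => (fun c : Ω => g • c))
    fun g h e => hf.eq_of_smul_eq_smul fun c : Ω => congrFun e c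
  have h2g : ∀ a b c d : Ω, a ≠ b → c ≠ d → ∃ g : G, g • a = c ∧ g • b = d := fun a b c d h h' =>
    MulAction.is_two_pretransitive_iff.1 h2' h h'
  have hthree : ∀ a : Ω, ∃ b, b ≠ a := fun a => (em (a₀ = a)).elim (fun h => ⟨b₀, h ▸ hab₀.symm⟩) fun h => ⟨a₀, h⟩
  haveI : Fact (Nat.Prime 2) := ⟨Nat.prime_two⟩
  -- involutions fix exactly one point
  have hone : ∀ s : G, orderOf s = 2 → Nat.card (MulAction.fixedBy Ω s) = 1 := by
    intro s hs
    obtain ⟨a, ha⟩ : ∃ a : Ω, s • a ≠ a := by
      by_contra h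
      push Not at h
      have : s = 1 := hf.eq_of_smul_eq_smul fun c : Ω => by rw [h c, one_smul]
      rw [this, orderOf_one] at hs
      norm_num at hs
    have hss : s • (s • a) = a := by
      rw [smul_smul, ← pow_two, ← hs, pow_orderOf_eq_one, one_smul]
    exact ((Cfsg.Agent.S0740.result hZ (Ne.symm ha)).2.1 s hs rfl hss).1 hodd
  have huniq : ∀ s : G, orderOf s = 2 → ∀ c d : Ω, s • c = c → s • d = d → c = d := by
    intro s hs c d hc hd
    obtain ⟨hsub, -⟩ := Nat.card_eq_one_iff_unique.1 (hone s hs)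
    exact congrArg Subtype.val (@Subsingleton.elim _ hsub (⟨c, hc⟩ : MulAction.fixedBy Ω s) ⟨d, hd⟩)
  have hex : ∀ s : G, orderOf s = 2 → ∃ c : Ω, s • c = c := by
    intro s hs
    obtain ⟨-, ⟨⟨c, hc⟩⟩⟩ := Nat.card_eq_one_iff_unique.1 (hone s hs)
    exact ⟨c, hc⟩
  -- two-point stabilizers have odd order
  have hEodd : ∀ a b : Ω, a ≠ b → ¬ 2 ∣ Nat.card ↥(MulAction.stabilizer G a ⊓ MulAction.stabilizer G b) := by
    intro a b hab h
    obtain ⟨⟨u, hu'⟩, hu⟩ := exists_prime_orderOf_dvd_card' 2 h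
    rw [Subgroup.orderOf_mk] at hu
    obtain ⟨hua, hub⟩ := Subgroup.mem_inf.1 hu'
    exact hab (huniq u hu a b hua hub)
  -- involutions with distinct fixed points are conjugate
  have hconj : ∀ s t : G, orderOf s = 2 → orderOf t = 2 → ∀ c d : Ω, s • c = c → t • d = d → c ≠ d →
      ∃ g : G, g * s * g⁻¹ = t := by
    intro s t hs ht c d hc hd hcd
    have hss : s⁻¹ = s := inv_eq_of_mul_eq_one_right (by rw [← pow_two, ← hs, pow_orderOf_eq_one])
    have htt : t⁻¹ = t := inv_eq_of_mul_eq_one_right (by rw [← pow_two, ← ht, pow_orderOf_eq_one])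
    set r := s * t with hr
    have hsr : s * r * s⁻¹ = r⁻¹ := by
      rw [hr, mul_inv_rev, hss, htt, ← mul_assoc, mul_assoc (s * s) t, show s * s = 1 by rw [← pow_two, ← hs, pow_orderOf_eq_one], one_mul]
    have hsrz : ∀ j : ℤ, s * r ^ j * s⁻¹ = r ^ (-j) := fun j => by rw [← conj_zpow, hsr, inv_zpow, ← zpow_neg]
    rcases Nat.even_or_odd (orderOf r) with ⟨k, hk⟩ | ⟨k, hk⟩
    · exfalso
      set u := r ^ k with hu
      have hk0 : 0 < k := by have := orderOf_pos r; omega
      have hu2 : orderOf u = 2 := by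
        rw [hu, orderOf_pow_of_dvd hk0.ne' ⟨2, by omega⟩, hk, ← two_mul, Nat.mul_div_cancel _ hk0]
      have huu : u⁻¹ = u := inv_eq_of_mul_eq_one_right (by rw [← pow_two, ← hu2, pow_orderOf_eq_one])
      have hsu : s * u = u * s := by
        refine mul_inv_eq_iff_eq_mul.1 ?_
        rw [hu, ← zpow_natCast, hsrz, zpow_neg, zpow_natCast, ← hu, huu]
      have hru : r * u = u * r := (Commute.self_pow r k).eq
      have htu : t * u = u * t := by
        have e : t = s⁻¹ * r := by rw [hr]; group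
        rw [e, mul_assoc, hru, ← mul_assoc, hss, hsu, mul_assoc]
      have h1 : u • c = c := huniq s hs _ _ (by rw [smul_smul, hsu, ← smul_smul, hc]) hc
      have h2' : u • d = d := huniq t ht _ _ (by rw [smul_smul, htu, ← smul_smul, hd]) hd
      exact hcd (huniq u hu2 c d h1 h2')
    · refine ⟨r ^ k, ?_⟩
      have h1 : r ^ (k : ℤ) * s * (r ^ (k : ℤ))⁻¹ = r ^ ((k : ℤ) + k) * s := by
        have h2 : s * (r ^ (k : ℤ))⁻¹ = r ^ (k : ℤ) * s := by
          rw [← zpow_neg, ← mul_inv_eq_iff_eq_mul, hsrz, neg_neg]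
        rw [mul_assoc, h2, ← mul_assoc, ← zpow_add]
      rw [← zpow_natCast, h1, show ((k : ℤ) + k) = (orderOf r : ℤ) + (-1) by rw [hk]; push_cast; ring, zpow_add,
        zpow_natCast, pow_orderOf_eq_one, one_mul, zpow_neg_one, hr, mul_inv_rev, hss, htt, mul_assoc,
        ← pow_two, ← hs, pow_orderOf_eq_one, mul_one]
  haveI : Nontrivial G := ⟨g₀, 1, hg₀⟩
  refine ⟨fun N hN => or_iff_not_imp_left.2 fun hne => ?_⟩
  haveI := hN
  have htr := normal_transitive hf h2g (N := N) hne
  have hswap : ∀ a b : Ω, a ≠ b → ∃ s : G, orderOf s = 2 ∧ s • a = b ∧ s • b = a := fun a b hab =>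
    (Cfsg.Agent.S0740.result hZ hab).1
  have hcardA : ∀ a b : Ω, b ≠ a → Nat.card ↥(MulAction.stabilizer G a) =
      (Fintype.card Ω - 1) * Nat.card ↥(MulAction.stabilizer G a ⊓ MulAction.stabilizer G b) := by
    intro a b hb
    set A := MulAction.stabilizer G a
    have horb : MulAction.orbit (↥A) b = {c | c ≠ a} := by
      ext c
      constructor
      · rintro ⟨⟨x, hx⟩, rfl⟩ (e : x • b = a)
        refine hb (MulAction.injective x ?_)
        show x • b = x • a
        rw [e]; exact hx.symm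
      · intro hc
        obtain ⟨g, hga, hgb⟩ := h2g a b a c hb.symm (Ne.symm hc)
        exact ⟨⟨g, hga⟩, hgb⟩
    have h := (MulAction.stabilizer (↥A) b).card_mul_index
    rw [MulAction.index_stabilizer, horb] at h
    have hs : Nat.card ↥(MulAction.stabilizer (↥A) b) = Nat.card ↥(A ⊓ MulAction.stabilizer G b) :=
      Nat.card_congr
        { toFun := fun x => ⟨(x : A), (x : A).2, x.2⟩
          invFun := fun x => ⟨⟨x, x.2.1⟩, x.2.2⟩
          left_inv := fun x => rfl
          right_inv := fun x => rfl }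
    rw [← h, hs, mul_comm]
    congr 1
    show Set.ncard {c : Ω | c ≠ a} = Fintype.card Ω - 1
    rw [show {c : Ω | c ≠ a} = ({a} : Set Ω)ᶜ from rfl, Set.ncard_compl, Set.ncard_singleton, Nat.card_eq_fintype_card]
  by_cases heven : 2 ∣ Nat.card N
  · -- all involutions lie in `N`
    obtain ⟨⟨t, htN⟩, ht⟩ := exists_prime_orderOf_dvd_card' 2 heven
    rw [Subgroup.orderOf_mk] at ht
    have hall : ∀ s : G, orderOf s = 2 → s ∈ N := by
      intro s hs
      obtain ⟨c, hc⟩ := hex t ht
      obtain ⟨d, hd⟩ := hex s hs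
      by_cases hcd : c = d
      · subst hcd
        obtain ⟨e, he⟩ := hthree c
        obtain ⟨b, hb⟩ := hthree e
        obtain ⟨g, hgc, -⟩ := h2g c e e b he.symm hb.symm
        have hu : orderOf (g * t * g⁻¹) = 2 := by rw [← MulAut.conj_apply, MulEquiv.orderOf_eq, ht]
        have hufix : (g * t * g⁻¹) • e = e := by
          rw [mul_smul, mul_smul, show g⁻¹ • e = c by rw [← hgc, inv_smul_smul], hc, hgc]
        obtain ⟨k, hk⟩ := hconj _ s hu hs e c hufix hd he
        exact hk ▸ hN.conj_mem _ (hN.conj_mem t htN g) k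
      · obtain ⟨k, hk⟩ := hconj t s ht hs c d hc hd hcd
        exact hk ▸ hN.conj_mem t htN k
    have hE : ∀ a b : Ω, a ≠ b → ∀ y ∈ MulAction.stabilizer G a ⊓ MulAction.stabilizer G b, y ∈ N := by
      intro a b hab y hy
      set E := MulAction.stabilizer G a ⊓ MulAction.stabilizer G b with hEdef
      obtain ⟨s, hs, hsa, hsb⟩ := hswap a b hab
      have hss : s * s = 1 := by rw [← pow_two, ← hs, pow_orderOf_eq_one]
      have hsi : s⁻¹ = s := inv_eq_of_mul_eq_one_right hss
      have hsE : ∀ x ∈ E, s * x * s⁻¹ ∈ E := by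
        rintro x ⟨hxa, hxb⟩
        refine ⟨?_, ?_⟩
        · show (s * x * s⁻¹) • a = a
          rw [hsi, mul_smul, mul_smul, hsa, show x • b = b from hxb, hsb]
        · show (s * x * s⁻¹) • b = b
          rw [hsi, mul_smul, mul_smul, hsb, show x • a = a from hxa, hsa]
      have hfree : ∀ x ∈ E, s * x * s⁻¹ = x → x = 1 := by
        intro x hx h
        obtain ⟨c, hc⟩ := hex s hs
        have hca : c ≠ a := fun e => hab ((e ▸ hc).symm.trans hsa)
        have hcb : c ≠ b := fun e => hab (((e ▸ hc).symm.trans hsb).symm)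
        refine h3 x a b c hab hcb.symm hca.symm hx.1 hx.2 (huniq s hs _ _ ?_ hc)
        rw [smul_smul, mul_inv_eq_iff_eq_mul.1 h, ← smul_smul, hc]
      let φ : ↥E → ↥E := fun x => ⟨(x : G)⁻¹ * (s * x * s⁻¹), mul_mem (inv_mem x.2) (hsE x x.2)⟩
      have hinj : Function.Injective φ := fun u v h => by
        have h' : (u : G)⁻¹ * (s * u * s⁻¹) = (v : G)⁻¹ * (s * v * s⁻¹) := congrArg Subtype.val h
        have h1 : (v : G) * (u : G)⁻¹ = (s * v * s⁻¹) * (s * u * s⁻¹)⁻¹ :=
          calc (v : G) * (u : G)⁻¹ = v * ((u : G)⁻¹ * (s * u * s⁻¹)) * (s * u * s⁻¹)⁻¹ := by group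
            _ = v * ((v : G)⁻¹ * (s * v * s⁻¹)) * (s * u * s⁻¹)⁻¹ := by rw [h']
            _ = _ := by group
        have h2 := hfree _ (mul_mem v.2 (inv_mem u.2)) (by
          conv_rhs => rw [h1]
          group)
        exact Subtype.ext (mul_inv_eq_one.1 h2).symm
      obtain ⟨x, hx⟩ := (Finite.injective_iff_surjective.1 hinj) ⟨y, hy⟩
      have hxy : (x : G)⁻¹ * (s * x * s⁻¹) = y := congrArg Subtype.val hx
      have hinv : s * y * s⁻¹ = y⁻¹ := by
        rw [← hxy, hsi]
        calc s * ((x : G)⁻¹ * (s * x * s)) * s = s * (x : G)⁻¹ * s * x * (s * s) := by group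
          _ = ((x : G)⁻¹ * (s * x * s))⁻¹ := by
            rw [hss, mul_one, mul_inv_rev, mul_inv_rev, mul_inv_rev, hsi, inv_inv]; group
      have hy2 : y ^ 2 ∈ N := by
        have h1 : s * (y * s⁻¹ * y⁻¹) ∈ N := mul_mem (hall s hs) (hN.conj_mem _ (inv_mem (hall s hs)) y)
        rw [show s * (y * s⁻¹ * y⁻¹) = (s * y * s⁻¹) * y⁻¹ by group, hinv] at h1
        have := inv_mem h1
        rwa [mul_inv_rev, inv_inv, ← pow_two] at this
      obtain ⟨k, hk⟩ := exists_pow_eq_self_of_coprime (G := G) (x := y) (n := 2)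
        ((Nat.Prime.coprime_iff_not_dvd Nat.prime_two).2 fun h => hEodd a b hab
          (h.trans (Subgroup.orderOf_dvd_natCard _ hy)))
      rw [← hk]
      exact pow_mem hy2 k
    set a := a₀
    set A := MulAction.stabilizer G a
    have hA : A ≤ N := by
      set M := N ⊓ A
      by_contra hno
      have hlt : Nat.card M * 2 ≤ Nat.card A := by
        obtain ⟨q, hq⟩ := Subgroup.card_dvd_of_le (inf_le_right : M ≤ A)
        have hq0 : q ≠ 0 := by rintro rfl; rw [mul_zero] at hq; exact Nat.card_pos.ne' hq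
        have hq1 : q ≠ 1 := by
          rintro rfl
          rw [mul_one] at hq
          exact hno ((Subgroup.eq_of_le_of_card_ge (inf_le_right : M ≤ A) hq.le).ge.trans inf_le_left)
        rw [hq]
        exact Nat.mul_le_mul_left _ (by omega)
      set e := Nat.card ↥(MulAction.stabilizer G a ⊓ MulAction.stabilizer G b₀) with he
      have hn : Nat.card A = (Fintype.card Ω - 1) * e := hcardA a b₀ hab₀.symm
      have hn0 : 0 < Fintype.card Ω - 1 := by
        have := Fintype.one_lt_card_iff.2 ⟨a₀, b₀, hab₀⟩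
        omega
      have heq : ∀ b : Ω, b ≠ a → Nat.card ↥(MulAction.stabilizer G a ⊓ MulAction.stabilizer G b) = e :=
        fun b hb => Nat.eq_of_mul_eq_mul_left hn0 ((hcardA a b hb).symm.trans hn)
      have he3 : 3 ≤ e := by
        have h1 : 1 < e := by
          refine Finite.one_lt_card_iff_nontrivial.2 ⟨⟨⟨g₀, hga₀, hgb₀⟩, 1, fun h => hg₀ (congrArg Subtype.val h)⟩⟩
        have h2 := hEodd a b₀ hab₀
        rw [← he] at h2
        omega
      let T : {b : Ω // b ≠ a} → Type _ := fun b =>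
        {x : ↥(MulAction.stabilizer G a ⊓ MulAction.stabilizer G (b : Ω)) // x ≠ 1}
      let ψ : Option (Σ b : {b : Ω // b ≠ a}, T b) → ↥M := fun o => o.elim 1 fun p =>
        ⟨(p.2.1 : G), hE a p.1 (Ne.symm p.1.2) _ p.2.1.2, p.2.1.2.1⟩
      have hψ : Function.Injective ψ := by
        rintro (_ | ⟨⟨b, hb⟩, ⟨x, hxE⟩, hx⟩) (_ | ⟨⟨c, hc⟩, ⟨y, hyE⟩, hy⟩) h
        · rfl
        · exact absurd (congrArg (fun z : ↥M => (z : G)) h).symm (fun e => hy (Subtype.ext e))
        · exact absurd (congrArg (fun z : ↥M => (z : G)) h) (fun e => hx (Subtype.ext e))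
        · obtain rfl : x = y := congrArg (fun z : ↥M => (z : G)) h
          obtain rfl : b = c := by
            by_contra hbc
            exact hx (Subtype.ext (h3 x a b c (Ne.symm hb) hbc (Ne.symm hc) hxE.1 hxE.2 hyE.2))
          rfl
      haveI : ∀ b, Fintype (T b) := fun b => Fintype.ofFinite _
      haveI := Fintype.ofFinite ↥M
      have hcard := Fintype.card_le_of_injective ψ hψ
      rw [Fintype.card_option, Fintype.card_sigma, ← Nat.card_eq_fintype_card (α := ↥M)] at hcard
      have hT : ∀ b, Fintype.card (T b) = e - 1 := fun b => by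
        haveI := Fintype.ofFinite ↥(MulAction.stabilizer G a ⊓ MulAction.stabilizer G (b : Ω))
        rw [← heq b b.2, Nat.card_eq_fintype_card]
        simp [T, Fintype.card_subtype_compl]
      rw [Finset.sum_congr rfl (fun b _ => hT b), Finset.sum_const, smul_eq_mul, Finset.card_univ,
        Fintype.card_subtype_compl, Fintype.card_subtype_eq] at hcard
      obtain ⟨m, hm⟩ : ∃ m, e = m + 3 := ⟨e - 3, by omega⟩
      rw [hn, hm] at hlt
      rw [hm, show m + 3 - 1 = m + 2 by omega] at hcard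
      nlinarith
    refine (Subgroup.eq_top_iff' N).2 fun g => ?_
    obtain ⟨x, hx, hxa⟩ := htr a (g • a)
    have : x⁻¹ * g ∈ A := by
      show (x⁻¹ * g) • a = a
      rw [mul_smul, ← hxa, inv_smul_smul]
    simpa using mul_mem hx (hA this)
  · -- odd order is impossible
    exfalso
    haveI hNt : MulAction.IsPretransitive N Ω := ⟨fun u v => by
      obtain ⟨x, hx, h⟩ := htr u v
      exact ⟨⟨x, hx⟩, h⟩⟩
    obtain ⟨a, ha⟩ := h5 N hN hNt
    set H := MulAction.stabilizer (↥N) a
    by_cases htwo : ∃ x : G, x ∈ N ∧ x ≠ 1 ∧ ∃ c d : Ω, c ≠ d ∧ x • c = c ∧ x • d = d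
    · obtain ⟨x, hxN, hx1, c, d, hcd, hxc, hxd⟩ := htwo
      have hne2 : ∀ b : Ω, b ≠ a → ∃ y : G, y ∈ N ∧ y ≠ 1 ∧ y • a = a ∧ y • b = b := by
        intro b hb
        obtain ⟨g, hgc, hgd⟩ := h2g c d a b hcd hb.symm
        refine ⟨g * x * g⁻¹, hN.conj_mem x hxN g, fun e => hx1 (conj_eq_one_iff.1 e), ?_, ?_⟩
        · rw [mul_smul, mul_smul, show g⁻¹ • a = c by rw [← hgc, inv_smul_smul], hxc, hgc]
        · rw [mul_smul, mul_smul, show g⁻¹ • b = d by rw [← hgd, inv_smul_smul], hxd, hgd]
      let D : Ω → Subgroup ↥H := fun b => (MulAction.stabilizer G b).comap (N.subtype.comp H.subtype)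
      have hfrob : ∀ b : Ω, b ≠ a → Cfsg.IsFrobeniusComplement (D b) := by
        intro b hb
        refine ⟨?_, ?_, fun g hg => ?_⟩
        · obtain ⟨y, hyN, hy1, hya, hyb⟩ := hne2 b hb
          intro h
          have : (⟨⟨y, hyN⟩, hya⟩ : ↥H) ∈ D b := hyb
          rw [h, Subgroup.mem_bot] at this
          exact hy1 (congrArg (fun z : ↥H => ((z : ↥N) : G)) this)
        · intro h
          obtain ⟨y, hy, hy1⟩ := (MulAction.stabilizer (↥N) a).bot_or_exists_ne_one.resolve_left ha
          refine hy1 (Subtype.ext (hf.eq_of_smul_eq_smul fun c : Ω => ?_))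
          rw [OneMemClass.coe_one, one_smul]
          by_cases hc : c = a
          · subst hc; exact hy
          obtain ⟨g, hga, hgb⟩ := h2g a c a b (Ne.symm hc) hb.symm
          have hy' : (g * (y : G) * g⁻¹) • a = a := by
            rw [mul_smul, mul_smul, show g⁻¹ • a = a from inv_smul_eq_iff.2 hga.symm, show (y : G) • a = a from hy, hga]
          have hm : (⟨⟨g * (y : G) * g⁻¹, hN.conj_mem _ y.2 g⟩, hy'⟩ : ↥H) ∈ D b := h ▸ Subgroup.mem_top _
          have hm' : (g * (y : G) * g⁻¹) • b = b := hm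
          rw [mul_smul, mul_smul, show g⁻¹ • b = c by rw [← hgb, inv_smul_smul], ← hgb] at hm'
          exact MulAction.injective g hm'
        · rw [eq_bot_iff]
          intro z hz
          obtain ⟨h1, h2⟩ := Subgroup.mem_inf.1 hz
          obtain ⟨w, hw, rfl⟩ := h2
          rw [Subgroup.mem_bot]
          have hgb : ((g : ↥N) : G) • b ≠ b := hg
          have hga : ((g : ↥N) : G) • a = a := g.2
          refine Subtype.ext (Subtype.ext (h3 _ a b (((g : ↥N) : G) • b) hb.symm hgb.symm ?_ ?_ h1 ?_))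
          · intro e; exact hb (MulAction.injective ((g : ↥N) : G) (by show ((g : ↥N) : G) • b = ((g : ↥N) : G) • a; rw [hga]; exact e.symm))
          · exact ((MulAut.conj g • w : ↥H) : ↥N).2 |> fun _ => (MulAut.conj g • w : ↥H).2
          · show (((g : ↥N) : G) * ((w : ↥N) : G) * ((g : ↥N) : G)⁻¹) • (((g : ↥N) : G) • b) = _
            rw [smul_smul, inv_mul_cancel_right, mul_smul, show ((w : ↥N) : G) • b = b from hw]
      have htrans : ∀ b d : Ω, b ≠ a → d ≠ a → ∃ h : ↥H, ((h : ↥N) : G) • d = b := by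
        have key : ∀ b d : Ω, b ≠ a → d ≠ a → Nat.card (D d) ≤ Nat.card (D b) → ∃ h : ↥H, ((h : ↥N) : G) • d = b := by
          intro b d hb hd hle
          obtain ⟨g, hg⟩ := CfsgLib.Solv.frobenius_le_conj_of_card_le (hfrob b hb) (hfrob d hd) hle
          obtain ⟨w, hw, hw1⟩ := (D d).bot_or_exists_ne_one.resolve_left (hfrob d hd).1
          refine ⟨g, ?_⟩
          by_contra hne'
          have hm : (((g : ↥N) : G) * ((w : ↥N) : G) * ((g : ↥N) : G)⁻¹) • b = b := hg ⟨w, hw, rfl⟩
          have hga : ((g : ↥N) : G) • a = a := g.2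
          have hwa : ((w : ↥N) : G) • a = a := w.2
          have hda : ((g : ↥N) : G) • d ≠ a := fun e => hd (MulAction.injective ((g : ↥N) : G) (by show ((g : ↥N) : G) • d = ((g : ↥N) : G) • a; rw [hga]; exact e))
          have h1 := h3 _ a b (((g : ↥N) : G) • d) hb.symm (Ne.symm hne') hda.symm
            (by rw [mul_smul, mul_smul, show ((g : ↥N) : G)⁻¹ • a = a from inv_smul_eq_iff.2 hga.symm, hwa, hga])
            hm (by rw [smul_smul, inv_mul_cancel_right, mul_smul, show ((w : ↥N) : G) • d = d from hw])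
          exact hw1 (Subtype.ext (Subtype.ext (conj_eq_one_iff.1 h1)))
        intro b d hb hd
        rcases le_total (Nat.card (D d)) (Nat.card (D b)) with h | h
        · exact key b d hb hd h
        · obtain ⟨g, hg⟩ := key d b hd hb h
          refine ⟨g⁻¹, ?_⟩
          rw [Subgroup.coe_inv, Subgroup.coe_inv, inv_smul_eq_iff]
          exact hg.symm
      obtain ⟨b, hb⟩ := hthree a
      have horb : MulAction.orbit (↥H) b = {c | c ≠ a} := by
        ext v
        constructor
        · rintro ⟨h, rfl⟩ (e : ((h : ↥N) : G) • b = a)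
          exact hb (MulAction.injective ((h : ↥N) : G) (e.trans h.2.symm))
        · intro hv
          exact htrans v b hv hb
      have h := (MulAction.stabilizer (↥H) b).index_dvd_card
      rw [MulAction.index_stabilizer, horb, show {c : Ω | c ≠ a} = ({a} : Set Ω)ᶜ from rfl, Set.ncard_compl,
        Set.ncard_singleton, Nat.card_eq_fintype_card (α := Ω)] at h
      obtain ⟨m, hm⟩ := hodd
      rw [hm, Nat.add_sub_cancel] at h
      exact heven ((Dvd.intro m rfl).trans (h.trans (Subgroup.card_subgroup_dvd_card H)))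
    · push Not at htwo
      have hHfrob : Cfsg.IsFrobeniusComplement H := by
        refine ⟨ha, ?_, fun g hg => ?_⟩
        · intro h
          obtain ⟨b, hb⟩ := hthree a
          obtain ⟨x, hx⟩ := MulAction.exists_smul_eq (↥N) a b
          have : x ∈ H := h ▸ Subgroup.mem_top x
          exact hb (hx.symm.trans this)
        · rw [eq_bot_iff]
          intro z hz
          obtain ⟨h1, w, hw, rfl⟩ := Subgroup.mem_inf.1 hz
          rw [Subgroup.mem_bot]
          by_contra hz1
          have hne' : (g : G) • a ≠ a := hg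
          refine htwo _ ((MulAut.conj g • w : ↥N)).2 (fun e => hz1 (Subtype.ext e)) a ((g : G) • a) (Ne.symm hne') h1 ?_
          show ((g : G) * (w : G) * (g : G)⁻¹) • ((g : G) • a) = _
          rw [smul_smul, inv_mul_cancel_right, mul_smul, show (w : G) • a = a from hw]
      obtain ⟨K, hKset, hKn, hKc⟩ := CfsgLib.Solv.frobenius_theorem hHfrob
      have hKfree : ∀ x : ↥N, x ∈ K ↔ x = 1 ∨ ∀ c : Ω, (x : G) • c ≠ c := by
        intro x
        rw [← SetLike.mem_coe, hKset, CfsgLib.Solv.mem_frobeniusKernel_iff]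
        refine or_congr_right ⟨fun h c hc => ?_, fun h g hg => ?_⟩
        · obtain ⟨g, hg⟩ := MulAction.exists_smul_eq (↥N) a c
          refine h g ?_
          show ((g⁻¹ * x * g : ↥N) : G) • a = a
          have hg' : (g : G) • a = c := hg
          rw [Subgroup.coe_mul, Subgroup.coe_mul, Subgroup.coe_inv, mul_smul, mul_smul, hg', hc, inv_smul_eq_iff, hg']
        · refine h ((g : G) • a) ?_
          have hg' : ((g⁻¹ * x * g : ↥N) : G) • a = a := hg
          rw [Subgroup.coe_mul, Subgroup.coe_mul, Subgroup.coe_inv, mul_smul, mul_smul, inv_smul_eq_iff] at hg'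
          exact hg'
      set K' := K.map N.subtype
      haveI hK'n : K'.Normal := by
        refine ⟨?_⟩
        rintro _ ⟨x, hx, rfl⟩ g
        refine ⟨⟨g * (x : G) * g⁻¹, hN.conj_mem _ x.2 g⟩, (hKfree _).2 ?_, rfl⟩
        rcases (hKfree x).1 hx with rfl | h
        · left; exact Subtype.ext (by simp)
        · right
          intro c hc
          refine h (g⁻¹ • c) ?_
          have hc' : (g * (x : G) * g⁻¹) • c = c := hc
          rw [mul_smul, mul_smul, ← eq_inv_smul_iff] at hc'
          exact hc'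
      have hK'ne : K' ≠ ⊥ := by
        rw [Ne, Subgroup.map_eq_bot_iff_of_injective _ N.subtype_injective]
        intro h
        have h' := hKc.sup_eq_top
        rw [h, bot_sup_eq] at h'
        exact hHfrob.2.1 h'
      haveI hK't : MulAction.IsPretransitive K' Ω := ⟨fun u v => by
        obtain ⟨x, hx, h⟩ := normal_transitive hf h2g (N := K') hK'ne u v
        exact ⟨⟨x, hx⟩, h⟩⟩
      obtain ⟨b, hb⟩ := h5 K' hK'n hK't
      obtain ⟨⟨_, x, hx, rfl⟩, hy, hy1⟩ := (MulAction.stabilizer (↥K') b).bot_or_exists_ne_one.resolve_left hb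
      rcases (hKfree x).1 hx with rfl | h
      · exact hy1 (Subtype.ext (by simp))
      · exact h b hy

end CfsgLib.Fus.ZassenhausOdd
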